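import Cfsg.Agent.Chev.Struct
import Cfsg.Agent.BN.Parabolic

/-!
Perfectness and simplicity.
-/

set_option autoImplicit false

namespace CfsgLib.Chev

open Cfsg.Lie Matrix
open scoped MatrixGroups

namespace Tab

variable {D : ChevalleyDatum}

/-- A unit Cartan integer with a fundamental root. -/
def chkUnitCart (T : Tab D) (k : ℕ) : Bool :=
  (List.range D.rank).any fun i => decide ((T.cart i k).natAbs = 1)

/-- Witnesses for the commutator subgroup containing a fundamental root group. -/
def chkPerf (T : Tab D) (needField : Bool) (p : ℕ) (w : Option (ℕ × ℕ)) : Bool :=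
  match w with
  | none => needField && T.chkUnitCart p
  | some (a, b) =>
    Nat.blt a D.nroots && Nat.blt b D.nroots && !(Nat.beq b a) && !(Nat.beq b (negR D a)) &&
    match T.commT a b with
    | [c] => Nat.beq c.1 p && decide (c.2.1.natAbs = 1) &&
        (Nat.beq c.2.2.1 1 || Nat.beq c.2.2.2 1)
    | [e, c] => Nat.beq c.1 p && decide (c.2.1.natAbs = 1) &&
        (Nat.beq c.2.2.1 1 || Nat.beq c.2.2.2 1) && needField && Nat.blt e.1 D.nroots &&
        T.chkUnitCart e.1
    | _ => false

/-- Witnesses for all fundamental roots. -/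
def chkPerfAll (T : Tab D) (needField : Bool) (ws : List (Option (ℕ × ℕ))) : Bool :=
  allBelow (fun j => T.chkPerf needField (D.simple j) (ws.getD j none)) D.rank

/-- An ordering of the nodes in which every node but the first is joined to an earlier one. -/
def chkConnAux (T : Tab D) : List ℕ → List ℕ → Bool
  | _, [] => true
  | seen, i :: rest =>
    Nat.blt i D.rank &&
      (seen.any fun j => decide (T.cart i (D.simple j) * T.cart j (D.simple i) ≠ 0)) &&
      chkConnAux T (i :: seen) rest

/-- Connectedness of the diagram. -/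
def chkConn (T : Tab D) : List ℕ → Bool
  | [] => false
  | h :: rest => Nat.blt h D.rank && T.chkConnAux [h] rest &&
      (List.range D.rank).all fun i => (h :: rest).contains i

namespace Good

variable {T : Tab D} (G : T.Good) {F : Type*} [Field F]
include G

theorem commutator_mem (x y : GL D.Idx F) (hx : x ∈ D.group F) (hy : y ∈ D.group F) :
    x * y * x⁻¹ * y⁻¹ ∈ ⁅D.group F, D.group F⁆ :=
  Subgroup.commutator_mem_commutator hx hy

theorem unitCart_mem {k : ℕ} (hk : k < D.nroots) (h : T.chkUnitCart k = true) {a : F} (ha : a ≠ 0)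
    (ha1 : a ≠ 1) (t : F) : G.full.x k t ∈ ⁅D.group F, D.group F⁆ := by
  simp only [chkUnitCart, List.any_eq_true, List.mem_range, decide_eq_true_eq] at h
  obtain ⟨i, hi, habs⟩ := h
  have hz : a ^ T.cart i k - 1 ≠ 0 := by
    rcases Int.natAbs_eq (T.cart i k) with e | e <;> rw [habs] at e <;> rw [e]
    · simpa [sub_eq_zero] using ha1
    · simpa [sub_eq_zero] using ha1
  have hmem := G.commutator_mem (G.full.hr (D.simple i) a) (G.full.x k (t / (a ^ T.cart i k - 1)))
    (mul_mem (G.nr_mem_group _ _) (G.nr_mem_group _ _)) (G.x_mem_group _ _)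
  rw [G.full.hr_conj_simple hi hk ha, G.full.x_inv, G.full.x_add] at hmem
  convert hmem using 2
  field_simp
  ring

theorem simple_mem_commutator {needField : Bool} {ws : List (Option (ℕ × ℕ))}
    (h : T.chkPerfAll needField ws = true) (hF : needField = true → ∃ a : F, a ≠ 0 ∧ a ≠ 1)
    (j : Fin D.rank) (v : F) : G.full.x (D.simple j) v ∈ ⁅D.group F, D.group F⁆ := by
  simp only [chkPerfAll, allBelow_iff] at h
  have hj := h j.val j.isLt
  generalize ws.getD j.val none = w at hj
  rcases w with _ | ⟨a, b⟩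
  · simp only [chkPerf, Bool.and_eq_true] at hj
    obtain ⟨c, hc, hc1⟩ := hF hj.1
    exact G.unitCart_mem (G.full.simple_lt j.isLt) hj.2 hc hc1 v
  · simp only [chkPerf, Bool.and_eq_true, Nat.blt_eq, Bool.not_eq_true'] at hj
    obtain ⟨⟨⟨⟨ha, hb⟩, hba⟩, hbn⟩, hj⟩ := hj
    have hne : b ≠ a := fun e => by rw [Tab.beq_true e] at hba; exact Bool.noConfusion hba
    have hne' : b ≠ negR D a := fun e => by rw [Tab.beq_true e] at hbn; exact Bool.noConfusion hbn
    have hW : ∀ t u : F,
        ((rhsWord (T.commT a b) t u).map fun p => G.full.x p.1 p.2).prod ∈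
          ⁅D.group F, D.group F⁆ := by
      intro t u
      have e := G.full.x_comm ha hb hne hne' t u
      rw [G.full.cert.commWord_eq ha hb] at e
      have hmem := G.commutator_mem ((G.full.x b u)⁻¹) ((G.full.x a t)⁻¹)
        (inv_mem (G.x_mem_group _ _)) (inv_mem (G.x_mem_group _ _))
      convert hmem using 1
      rw [inv_inv, inv_inv, show (G.full.x b u)⁻¹ * (G.full.x a t)⁻¹ * G.full.x b u * G.full.x a t =
        (G.full.x b u)⁻¹ * (G.full.x a t)⁻¹ * (G.full.x b u * G.full.x a t) by group, e]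
      group
    have hterm : ∀ c : ℕ × ℤ × ℕ × ℕ, c.2.1.natAbs = 1 → (c.2.2.1 = 1 ∨ c.2.2.2 = 1) →
        ∃ t u : F, (c.2.1 : F) * (-t) ^ c.2.2.1 * u ^ c.2.2.2 = v := by
      intro c hc hij
      have hsq : (c.2.1 : F) * (c.2.1 : F) = 1 := by
        rcases Int.natAbs_eq c.2.1 with e | e <;> rw [hc] at e <;> rw [e] <;> simp
      rcases hij with e | e
      · exact ⟨-((c.2.1 : F) * v), 1, by
          rw [e, pow_one, neg_neg, one_pow, mul_one, ← mul_assoc, hsq, one_mul]⟩
      · exact ⟨-1, (c.2.1 : F) * v, by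
          rw [e, neg_neg, one_pow, mul_one, pow_one, ← mul_assoc, hsq, one_mul]⟩
    revert hj
    rcases hcomm : T.commT a b with _ | ⟨c, _ | ⟨c', _ | ⟨c'', L⟩⟩⟩
    · exact fun hj => Bool.noConfusion hj
    · intro hj
      simp only [Bool.and_eq_true, Bool.or_eq_true, Nat.beq_eq, decide_eq_true_eq] at hj
      obtain ⟨t, u, htu⟩ := hterm c hj.1.2 hj.2
      have := hW t u
      rw [hcomm] at this
      simpa [rhsWord, hj.1.1, htu] using this
    · intro hj
      simp only [Bool.and_eq_true, Bool.or_eq_true, Nat.beq_eq, decide_eq_true_eq, Nat.blt_eq] at hj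
      obtain ⟨⟨⟨⟨⟨h1, h2⟩, h3⟩, h4⟩, h5⟩, h6⟩ := hj
      obtain ⟨t, u, htu⟩ := hterm c' h2 h3
      obtain ⟨z, hz, hz1⟩ := hF h4
      have := hW t u
      rw [hcomm] at this
      simp only [rhsWord, List.map_cons, List.map_nil, List.prod_cons, List.prod_nil, mul_one,
        h1, htu] at this
      exact (Subgroup.mul_mem_cancel_left _ (G.unitCart_mem h5 h6 hz hz1 _)).mp this
    · exact fun hj => Bool.noConfusion hj

theorem commutator_eq_top {needField : Bool} {ws : List (Option (ℕ × ℕ))}
    (h : T.chkPerfAll needField ws = true) (hF : needField = true → ∃ a : F, a ≠ 0 ∧ a ≠ 1) :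
    commutator (D.group F) = ⊤ := by
  have hle : D.group F ≤ ⁅D.group F, D.group F⁆ := by
    refine G.group_le_iff.mpr fun r hr t => ?_
    obtain ⟨g, hg, j, hj, η, hη, h1, -⟩ := G.full.exists_conj (F := F) hr
    have hgG : g ∈ D.group F := by
      refine (Subgroup.closure_le _).mpr ?_ hg
      rintro a ⟨i, hi, rfl⟩
      exact G.ns_mem_group ⟨i, hi⟩
    have hx := G.simple_mem_commutator h hF ⟨j, hj⟩ (η * t)
    have e : g * G.full.x (D.simple j) (η * t) * g⁻¹ = G.full.x r t := by
      rw [h1, ← mul_assoc, hη, one_mul]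
    rw [← e]
    set k := G.full.x (D.simple j) (η * t) with hk
    have hkG : k ∈ D.group F := G.x_mem_group _ _
    rw [show g * k * g⁻¹ = g * k * g⁻¹ * k⁻¹ * k by group]
    exact mul_mem (G.commutator_mem g k hgG hkG) hx
  apply Subgroup.map_injective (D.group F).subtype_injective
  rw [_root_.commutator_def, Subgroup.map_commutator, ← MonoidHom.range_eq_map,
    Subgroup.range_subtype]
  refine le_antisymm ?_ hle
  rw [Subgroup.commutator_le]
  exact fun a ha b hb => mul_mem (mul_mem (mul_mem ha hb) (inv_mem ha)) (inv_mem hb)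

theorem irreducible {order : List ℕ} (h : T.chkConn order = true) (F : Type*) [Field F] :
    (G.bnPair F).Irreducible := by
  intro J hJS hJ hJ'
  rcases order with _ | ⟨h0, rest⟩
  · simp [chkConn] at h
  simp only [chkConn, Bool.and_eq_true, Nat.blt_eq, List.all_eq_true, List.mem_range,
    List.contains_iff_mem] at h
  obtain ⟨⟨h0lt, hrest⟩, hall⟩ := h
  let s : Fin D.rank → D.group F := fun i => ⟨G.full.ns F i, G.ns_mem_group i⟩
  have hs : ∀ i, s i ∈ (G.bnPair F).S := fun i => G.mem_simpleSet.mpr ⟨i, rfl⟩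
  -- an edge crossing the partition
  have key : ∀ (rest seen : List ℕ) (P : ℕ → Prop), T.chkConnAux seen rest = true →
      (∀ i ∈ seen, i < D.rank ∧ P i) → (∃ i ∈ seen ++ rest, ¬ P i) →
      ∃ i j : Fin D.rank, P i.val ∧ ¬ P j.val ∧
        T.cart i (D.simple j) * T.cart j (D.simple i) ≠ 0 := by
    intro rest
    induction rest with
    | nil =>
      rintro seen P - hseen ⟨i, hi, hnot⟩
      exact absurd (hseen i (by simpa using hi)).2 hnot
    | cons i rest ih =>
      intro seen P hc hseen hex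
      simp only [chkConnAux, Bool.and_eq_true, Nat.blt_eq, List.any_eq_true,
        decide_eq_true_eq] at hc
      obtain ⟨⟨hi, j, hjm, hne⟩, hrec⟩ := hc
      by_cases hP : P i
      · refine ih (i :: seen) P hrec (fun a ha => ?_) ?_
        · rcases List.mem_cons.mp ha with rfl | ha
          exacts [⟨hi, hP⟩, hseen a ha]
        · obtain ⟨a, ha, hn⟩ := hex
          exact ⟨a, by simpa [or_left_comm] using ha, hn⟩
      · exact ⟨⟨j, (hseen j hjm).1⟩, ⟨i, hi⟩, (hseen j hjm).2, hP,
          by rw [mul_comm]; exact hne⟩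
  obtain ⟨i, j, hiJ, hjJ, hne⟩ : ∃ i j : Fin D.rank, s i ∈ J ∧ s j ∉ J ∧
      T.cart i (D.simple j) * T.cart j (D.simple i) ≠ 0 := by
    obtain ⟨a, ha⟩ := hJ
    obtain ⟨b, hb, hb'⟩ := hJ'
    obtain ⟨ia, hia⟩ := G.mem_simpleSet.mp (hJS ha)
    obtain ⟨ib, hib⟩ := G.mem_simpleSet.mp hb
    have hsa : s ia ∈ J := by rwa [show s ia = a from Subtype.ext hia.symm]
    have hsb : s ib ∉ J := by rwa [show s ib = b from Subtype.ext hib.symm]
    by_cases hh : s ⟨h0, h0lt⟩ ∈ J
    · obtain ⟨i, j, hi, hj, hne⟩ := key rest [h0] (fun i => ∀ h : i < D.rank, s ⟨i, h⟩ ∈ J) hrest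
        (fun i hi => by rw [List.mem_singleton] at hi; subst hi; exact ⟨h0lt, fun _ => hh⟩)
        ⟨ib.val, by simpa using hall ib.val ib.isLt, fun h => hsb (h ib.isLt)⟩
      exact ⟨i, j, hi i.isLt, fun h => hj fun _ => h, hne⟩
    · obtain ⟨i, j, hi, hj, hne⟩ := key rest [h0] (fun i => ∀ h : i < D.rank, s ⟨i, h⟩ ∉ J) hrest
        (fun i hi => by rw [List.mem_singleton] at hi; subst hi; exact ⟨h0lt, fun _ => hh⟩)
        ⟨ia.val, by simpa using hall ia.val ia.isLt, fun h => h ia.isLt hsa⟩
      exact ⟨j, i, not_not.mp fun h => hj fun _ => h, hi i.isLt, by rwa [mul_comm]⟩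
  refine ⟨s i, hiJ, s j, ⟨hs j, hjJ⟩, fun hB => ?_⟩
  have hB' : G.full.ns F i * G.full.ns F j * (G.full.ns F i)⁻¹ * (G.full.ns F j)⁻¹ ∈
      D.diagonalSubgroup F := by
    rw [← G.borel_inf_monomial]
    exact Subgroup.mem_inf.mpr ⟨hB, mul_mem (mul_mem (mul_mem (G.ns_mem_monomial i)
      (G.ns_mem_monomial j)) (inv_mem (G.ns_mem_monomial i))) (inv_mem (G.ns_mem_monomial j))⟩
  rw [G.full.diagonal_eq_range] at hB'
  obtain ⟨c, hc⟩ := hB'
  have hcomm : G.full.refl i * G.full.refl j = G.full.refl j * G.full.refl i := by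
    have h1 := G.rootAct_mul (G.rootAct_ns (F := F) i) (G.rootAct_ns j)
    have h2 := G.rootAct_mul (G.rootAct_hT c) (G.rootAct_mul (G.rootAct_ns (F := F) j)
      (G.rootAct_ns i))
    rw [show T.hT F c * (G.full.ns F j * G.full.ns F i) = G.full.ns F i * G.full.ns F j by
      rw [hc]; group, one_mul] at h2
    exact G.rootAct_unique h1 h2
  have hij : i ≠ j := fun e => hjJ (e ▸ hiJ)
  have h3 := congrArg (fun σ : Equiv.Perm (Fin D.nroots) => T.cor (σ (G.full.simp' j)) j) hcomm
  simp only [Equiv.Perm.mul_apply, G.refl_simp] at h3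
  have hn : ∀ s : Fin D.nroots, T.cor (negF s) j = - T.cor s j := fun s =>
    ((G.full.cert.root_spec s.isLt).2.2.2.1 j j.isLt).2
  have hr : ∀ (a : Fin D.rank) (s : Fin D.nroots) (l : Fin D.rank),
      T.cor (G.full.refl a s) l = T.cor s l - if l = a then T.pairT s (D.simple a) else 0 :=
    fun a s l => by
      show T.cor (T.reflT a s) l = _
      rw [((G.full.reflT_spec a.isLt s.isLt).2.2.2.2.1 l l.isLt).2]
      simp only [Fin.ext_iff]
  have e1 : T.cor (G.full.refl i (negF (G.full.simp' j))) j = -1 := by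
    rw [hr, hn, G.cor_simple, if_pos rfl, if_neg hij.symm, sub_zero]
  have e2 : T.cor (G.full.refl j (G.full.refl i (G.full.simp' j))) j =
      -1 + T.cart i (D.simple j) * T.cart j (D.simple i) := by
    rw [hr, if_pos rfl, pairT_eq_sum]
    simp only [hr, G.cor_simple, sub_mul, ite_mul, one_mul, zero_mul, Finset.sum_sub_distrib,
      Finset.sum_ite_eq', Finset.mem_univ, if_true, if_neg hij.symm, sub_zero]
    rw [show (G.full.simp' j : ℕ) = D.simple j from rfl, G.full.pairT_simple j.isLt,
      (G.full.node_spec j.isLt).2.2.1]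
    ring
  rw [e1, e2] at h3
  exact hne (by linarith)

/-- Simplicity, from perfectness and connectedness. -/
theorem isSimple {order : List ℕ} (hconn : T.chkConn order = true) {needField : Bool}
    {ws : List (Option (ℕ × ℕ))} (h : T.chkPerfAll needField ws = true)
    (hF : needField = true → ∃ a : F, a ≠ 0 ∧ a ≠ 1) :
    IsSimpleGroup (D.group F) ∧ ¬ IsMulCommutative (D.group F) := by
  have hperf := G.commutator_eq_top h hF
  have hrk : 0 < D.rank := by
    rcases order with _ | ⟨h0, rest⟩
    · simp [chkConn] at hconn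
    · simp only [chkConn, Bool.and_eq_true, Nat.blt_eq] at hconn
      exact lt_of_le_of_lt (Nat.zero_le _) hconn.1.1
  have hp := G.full.simple_lt hrk
  haveI : Nontrivial (D.group F) :=
    ⟨⟨⟨G.full.x (D.simple 0) 1, G.x_mem_group _ _⟩, 1, fun e =>
      one_ne_zero (G.x_eq_one hp (congrArg Subtype.val e))⟩⟩
  have hsolv : Group.IsSolvable (G.bnPair F).B := by
    haveI := G.isSolvable_borel (F := F)
    exact Group.isSolvable_of_isSolvable_injective
      (f := (Subgroup.subgroupOfEquivOfLe G.borel_le_group).toMonoidHom) (MulEquiv.injective _)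
  refine ⟨CfsgLib.BN.isSimpleGroup (G.bnPair F) (G.irreducible hconn F) hsolv hperf
    G.normalCore_borel, fun hc => ?_⟩
  have hbot : commutator (D.group F) = ⊥ := by
    rw [_root_.commutator_def, Subgroup.commutator_eq_bot_iff_le_centralizer]
    intro a _ b _
    exact hc.is_comm.comm b a
  exact bot_ne_top (hbot.symm.trans hperf)

end Good

end Tab

end CfsgLib.Chev
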