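import Cfsg.Agent.Chev.GoodAll
import Cfsg.Agent.Chev.Perfect

/-! Perfectness and simplicity data for each type. -/

set_option autoImplicit false

namespace CfsgLib.Chev

theorem perf_G2 : G2Data.tab.chkPerfAll true [none, some (1, 11)] = true := by decide +kernel

theorem conn_G2 : G2Data.tab.chkConn [0, 1] = true := by decide +kernel

theorem perf_B2 : B2Data.tab.chkPerfAll true [none, some (0, 6)] = true := by decide +kernel

theorem conn_B2 : B2Data.tab.chkConn [0, 1] = true := by decide +kernel

theorem perf_D4 : D4Data.tab.chkPerfAll false [some (6, 22), some (1, 23), some (3, 22), some (2, 22)] = true := by decide +kernel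

theorem conn_D4 : D4Data.tab.chkConn [0, 1, 2, 3] = true := by decide +kernel

theorem perf_F4 : F4Data.tab.chkPerfAll false [some (7, 44), some (8, 40), some (2, 46), some (1, 47)] = true := by decide +kernel

theorem conn_F4 : F4Data.tab.chkConn [0, 1, 2, 3] = true := by decide +kernel

theorem perf_E6 : E6Data.tab.chkPerfAll false [some (16, 66), some (1, 71), some (5, 69), some (2, 70), some (3, 69), some (4, 68)] = true := by decide +kernel

theorem conn_E6 : E6Data.tab.chkConn [0, 2, 3, 1, 4, 5] = true := by decide +kernel

theorem perf_E7 : E7Data.tab.chkPerfAll false [some (1, 125), some (7, 122), some (2, 124), some (3, 123), some (4, 122), some (5, 121), some (6, 120)] = true := by decide +kernel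

theorem conn_E7 : E7Data.tab.chkConn [0, 2, 3, 1, 4, 5, 6] = true := by decide +kernel

theorem perf_E8 : E8Data.tab.chkPerfAll false [some (14, 233), some (7, 234), some (6, 234), some (5, 235), some (4, 236), some (3, 237), some (2, 238), some (1, 239)] = true := by decide +kernel

theorem conn_E8 : E8Data.tab.chkConn [0, 2, 3, 1, 4, 5, 6, 7] = true := by decide +kernel

end CfsgLib.Chev
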