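import Cfsg.Agent.Chev.DataD4

/-! Kernel checks of the packed tables of type D4. -/

set_option autoImplicit false

namespace CfsgLib.Chev.D4Data

theorem agree_0 : allBlock tab.chkAgree 0 24 = true := by decide +kernel

theorem agree_all : ∀ b < 24, tab.chkAgree b = true := by
  intro b hb
  exact allBlock_apply agree_0 b (by omega) hb

theorem root_0 : allBlock tab.chkRoot 0 24 = true := by decide +kernel

theorem root_all : ∀ b < 24, tab.chkRoot b = true := by
  intro b hb
  exact allBlock_apply root_0 b (by omega) hb

theorem pow_0 : allBlock tab.chkPow 0 24 = true := by decide +kernel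

theorem pow_all : ∀ b < 24, tab.chkPow b = true := by
  intro b hb
  exact allBlock_apply pow_0 b (by omega) hb

theorem base_0 : allBlock tab.chkBase 0 24 = true := by decide +kernel

theorem base_all : ∀ b < 24, tab.chkBase b = true := by
  intro b hb
  exact allBlock_apply base_0 b (by omega) hb

theorem dec_0 : allBlock tab.chkDec 0 24 = true := by decide +kernel

theorem dec_all : ∀ b < 24, tab.chkDec b = true := by
  intro b hb
  exact allBlock_apply dec_0 b (by omega) hb

theorem reach_0 : allBlock tab.chkReach 0 24 = true := by decide +kernel

theorem reach_1 : allBlock tab.chkReach 24 4 = true := by decide +kernel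

theorem reach_all : ∀ b < 28, tab.chkReach b = true := by
  intro b hb
  rcases Nat.lt_or_ge b 24 with h0 | h0
  · exact allBlock_apply reach_0 b (by omega) h0
  exact allBlock_apply reach_1 b (by omega) hb

/-- The tables are correct. -/
theorem cert : tab.Cert :=
  ⟨by decide +kernel, agree_all, root_all, pow_all, base_all, dec_all, reach_all⟩

end CfsgLib.Chev.D4Data
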