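import Cfsg.Agent.Chev.DataE7

/-! Kernel checks of the packed tables of type E7. -/

set_option autoImplicit false

namespace CfsgLib.Chev.E7Data

theorem base_0 : allBlock tab.chkBase 0 24 = true := by decide +kernel

theorem base_1 : allBlock tab.chkBase 24 24 = true := by decide +kernel

theorem base_2 : allBlock tab.chkBase 48 24 = true := by decide +kernel

theorem base_3 : allBlock tab.chkBase 72 24 = true := by decide +kernel

theorem base_4 : allBlock tab.chkBase 96 24 = true := by decide +kernel

theorem base_5 : allBlock tab.chkBase 120 6 = true := by decide +kernel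

theorem base_all : ∀ b < 126, tab.chkBase b = true := by
  intro b hb
  rcases Nat.lt_or_ge b 24 with h0 | h0
  · exact allBlock_apply base_0 b (by omega) h0
  rcases Nat.lt_or_ge b 48 with h1 | h1
  · exact allBlock_apply base_1 b (by omega) h1
  rcases Nat.lt_or_ge b 72 with h2 | h2
  · exact allBlock_apply base_2 b (by omega) h2
  rcases Nat.lt_or_ge b 96 with h3 | h3
  · exact allBlock_apply base_3 b (by omega) h3
  rcases Nat.lt_or_ge b 120 with h4 | h4
  · exact allBlock_apply base_4 b (by omega) h4
  exact allBlock_apply base_5 b (by omega) hb

theorem dec_0 : allBlock tab.chkDec 0 24 = true := by decide +kernel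

theorem dec_1 : allBlock tab.chkDec 24 24 = true := by decide +kernel

theorem dec_2 : allBlock tab.chkDec 48 24 = true := by decide +kernel

theorem dec_3 : allBlock tab.chkDec 72 24 = true := by decide +kernel

theorem dec_4 : allBlock tab.chkDec 96 24 = true := by decide +kernel

theorem dec_5 : allBlock tab.chkDec 120 6 = true := by decide +kernel

theorem dec_all : ∀ b < 126, tab.chkDec b = true := by
  intro b hb
  rcases Nat.lt_or_ge b 24 with h0 | h0
  · exact allBlock_apply dec_0 b (by omega) h0
  rcases Nat.lt_or_ge b 48 with h1 | h1
  · exact allBlock_apply dec_1 b (by omega) h1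
  rcases Nat.lt_or_ge b 72 with h2 | h2
  · exact allBlock_apply dec_2 b (by omega) h2
  rcases Nat.lt_or_ge b 96 with h3 | h3
  · exact allBlock_apply dec_3 b (by omega) h3
  rcases Nat.lt_or_ge b 120 with h4 | h4
  · exact allBlock_apply dec_4 b (by omega) h4
  exact allBlock_apply dec_5 b (by omega) hb

end CfsgLib.Chev.E7Data
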