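import Cfsg.Agent.Chev.CertE7A
import Cfsg.Agent.Chev.CertE7B
import Cfsg.Agent.Chev.CertE7C

/-! The tables of type E7 are correct. -/

namespace CfsgLib.Chev.E7Data

/-- The tables are correct. -/
theorem cert : tab.Cert :=
  ⟨by decide +kernel, agree_all, root_all, pow_all, base_all, dec_all, reach_all⟩

end CfsgLib.Chev.E7Data
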