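import Cfsg.Agent.Chev.DataE8

/-! Kernel checks of the packed tables of type E8. -/

set_option autoImplicit false

namespace CfsgLib.Chev.E8Data

theorem pow_0 : allBlock tab.chkPow 0 24 = true := by decide +kernel

theorem pow_1 : allBlock tab.chkPow 24 24 = true := by decide +kernel

theorem pow_2 : allBlock tab.chkPow 48 24 = true := by decide +kernel

theorem pow_3 : allBlock tab.chkPow 72 24 = true := by decide +kernel

theorem pow_4 : allBlock tab.chkPow 96 24 = true := by decide +kernel

theorem pow_5 : allBlock tab.chkPow 120 24 = true := by decide +kernel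

theorem pow_6 : allBlock tab.chkPow 144 24 = true := by decide +kernel

theorem pow_7 : allBlock tab.chkPow 168 24 = true := by decide +kernel

theorem pow_8 : allBlock tab.chkPow 192 24 = true := by decide +kernel

theorem pow_9 : allBlock tab.chkPow 216 24 = true := by decide +kernel

theorem pow_all : ∀ b < 240, tab.chkPow b = true := by
  intro b hb
  rcases Nat.lt_or_ge b 24 with h0 | h0
  · exact allBlock_apply pow_0 b (by omega) h0
  rcases Nat.lt_or_ge b 48 with h1 | h1
  · exact allBlock_apply pow_1 b (by omega) h1
  rcases Nat.lt_or_ge b 72 with h2 | h2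
  · exact allBlock_apply pow_2 b (by omega) h2
  rcases Nat.lt_or_ge b 96 with h3 | h3
  · exact allBlock_apply pow_3 b (by omega) h3
  rcases Nat.lt_or_ge b 120 with h4 | h4
  · exact allBlock_apply pow_4 b (by omega) h4
  rcases Nat.lt_or_ge b 144 with h5 | h5
  · exact allBlock_apply pow_5 b (by omega) h5
  rcases Nat.lt_or_ge b 168 with h6 | h6
  · exact allBlock_apply pow_6 b (by omega) h6
  rcases Nat.lt_or_ge b 192 with h7 | h7
  · exact allBlock_apply pow_7 b (by omega) h7
  rcases Nat.lt_or_ge b 216 with h8 | h8
  · exact allBlock_apply pow_8 b (by omega) h8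
  exact allBlock_apply pow_9 b (by omega) hb

end CfsgLib.Chev.E8Data
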