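import Cfsg.Agent.Chev.DataE8

/-! Kernel checks of the packed tables of type E8. -/

set_option autoImplicit false

namespace CfsgLib.Chev.E8Data

theorem base_0 : allBlock tab.chkBase 0 24 = true := by decide +kernel

theorem base_1 : allBlock tab.chkBase 24 24 = true := by decide +kernel

theorem base_2 : allBlock tab.chkBase 48 24 = true := by decide +kernel

theorem base_3 : allBlock tab.chkBase 72 24 = true := by decide +kernel

theorem base_4 : allBlock tab.chkBase 96 24 = true := by decide +kernel

theorem base_5 : allBlock tab.chkBase 120 24 = true := by decide +kernel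

theorem base_6 : allBlock tab.chkBase 144 24 = true := by decide +kernel

theorem base_7 : allBlock tab.chkBase 168 24 = true := by decide +kernel

theorem base_8 : allBlock tab.chkBase 192 24 = true := by decide +kernel

theorem base_9 : allBlock tab.chkBase 216 24 = true := by decide +kernel

theorem base_all : ∀ b < 240, tab.chkBase b = true := by
  intro b hb
  rcases Nat.lt_or_ge b 24 with h0 | h0
  · exact allBlock_apply base_0 b (by omega) h0
  rcases Nat.lt_or_ge b 48 with h1 | h1
  · exact allBlock_apply base_1 b (by omega) h1
  rcases Nat.lt_or_ge b 72 with h2 | h2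
  · exact allBlock_apply base_2 b (by omega) h2
  rcases Nat.lt_or_ge b 96 with h3 | h3
  · exact allBlock_apply base_3 b (by omega) h3
  rcases Nat.lt_or_ge b 120 with h4 | h4
  · exact allBlock_apply base_4 b (by omega) h4
  rcases Nat.lt_or_ge b 144 with h5 | h5
  · exact allBlock_apply base_5 b (by omega) h5
  rcases Nat.lt_or_ge b 168 with h6 | h6
  · exact allBlock_apply base_6 b (by omega) h6
  rcases Nat.lt_or_ge b 192 with h7 | h7
  · exact allBlock_apply base_7 b (by omega) h7
  rcases Nat.lt_or_ge b 216 with h8 | h8
  · exact allBlock_apply base_8 b (by omega) h8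
  exact allBlock_apply base_9 b (by omega) hb

theorem dec_0 : allBlock tab.chkDec 0 24 = true := by decide +kernel

theorem dec_1 : allBlock tab.chkDec 24 24 = true := by decide +kernel

theorem dec_2 : allBlock tab.chkDec 48 24 = true := by decide +kernel

theorem dec_3 : allBlock tab.chkDec 72 24 = true := by decide +kernel

theorem dec_4 : allBlock tab.chkDec 96 24 = true := by decide +kernel

theorem dec_5 : allBlock tab.chkDec 120 24 = true := by decide +kernel

theorem dec_6 : allBlock tab.chkDec 144 24 = true := by decide +kernel

theorem dec_7 : allBlock tab.chkDec 168 24 = true := by decide +kernel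

theorem dec_8 : allBlock tab.chkDec 192 24 = true := by decide +kernel

theorem dec_9 : allBlock tab.chkDec 216 24 = true := by decide +kernel

theorem dec_all : ∀ b < 240, tab.chkDec b = true := by
  intro b hb
  rcases Nat.lt_or_ge b 24 with h0 | h0
  · exact allBlock_apply dec_0 b (by omega) h0
  rcases Nat.lt_or_ge b 48 with h1 | h1
  · exact allBlock_apply dec_1 b (by omega) h1
  rcases Nat.lt_or_ge b 72 with h2 | h2
  · exact allBlock_apply dec_2 b (by omega) h2
  rcases Nat.lt_or_ge b 96 with h3 | h3
  · exact allBlock_apply dec_3 b (by omega) h3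
  rcases Nat.lt_or_ge b 120 with h4 | h4
  · exact allBlock_apply dec_4 b (by omega) h4
  rcases Nat.lt_or_ge b 144 with h5 | h5
  · exact allBlock_apply dec_5 b (by omega) h5
  rcases Nat.lt_or_ge b 168 with h6 | h6
  · exact allBlock_apply dec_6 b (by omega) h6
  rcases Nat.lt_or_ge b 192 with h7 | h7
  · exact allBlock_apply dec_7 b (by omega) h7
  rcases Nat.lt_or_ge b 216 with h8 | h8
  · exact allBlock_apply dec_8 b (by omega) h8
  exact allBlock_apply dec_9 b (by omega) hb

end CfsgLib.Chev.E8Data
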