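import Cfsg.Agent.Chev.Tab

/-! Decoding of packed tables. -/

set_option autoImplicit false

namespace CfsgLib.Chev

/-- One packed chain element. -/
def decodeOne (x : ℕ) : ℕ × ℤ := (Nat.sub (Nat.div x 8) 1, Int.subNatNat (Nat.mod x 8) 4)

/-- The chain entry in slot `s` of a packed row. -/
def decodeEnt (row s : ℕ) : Vec :=
  let x := Nat.mod (Nat.shiftRight row (Nat.mul 48 s)) 281474976710656
  cond (Nat.beq x 0) []
    (cond (Nat.blt x 65536) [decodeOne x]
      (cond (Nat.blt x 4294967296)
        [decodeOne (Nat.mod x 65536), decodeOne (Nat.div x 65536)]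
        [decodeOne (Nat.mod x 65536), decodeOne (Nat.mod (Nat.div x 65536) 65536),
          decodeOne (Nat.div x 4294967296)]))

/-- The `i`-th signed field of width `bits` and offset `off`. -/
def decodeInt (bits off row i : ℕ) : ℤ :=
  Int.subNatNat (Nat.mod (Nat.shiftRight row (Nat.mul bits i)) (Nat.pow 2 bits)) off

/-- A packed pair. -/
def decodePair (x : ℕ) : ℕ × ℕ := (Nat.mod x 65536, Nat.div x 65536)

end CfsgLib.Chev
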