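import Cfsg.Prelude.Def_ChevB2
import Cfsg.Agent.Chev.TabBase

/-! Packed tables for the Chevalley datum of type B2 (generated from the prelude tables). -/

set_option autoImplicit false

namespace CfsgLib.Chev.B2Data

def entLit (r : ℕ) : ℕ :=
 (cond (Nat.blt r 4)
 (cond (Nat.blt r 2)
 (cond (Nat.blt r 1)
 (0x1b000000000015000000000000000000000000000000000000000000000000000000000000)
 (0x2500330000000000000000000000220000000d001d00000000000000000000000e000000000000000000000000))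
 (cond (Nat.blt r 3)
 (0x2b003d00000000002a0000000000000000000000000000000b001500000000000000000000000a000000000000)
 (0x35000000000000000000000000000000000000000000000013000000000000000000000000)))
 (cond (Nat.blt r 6)
 (cond (Nat.blt r 5)
 (0x3d00000000000000000000000000000000000000000000001b000000000000)
 (0x4600000000000000000043003b000000000000000000000000000000000026000000230013))
 (cond (Nat.blt r 7)
 (0x4200000000000000000045003300000000002e0000000000000000002d001d)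
 (0x3b000000000035000000000000))))

def cartLit (r : ℕ) : ℕ :=
 (cond (Nat.blt r 4)
 (cond (Nat.blt r 2)
 (cond (Nat.blt r 1)
 (0x86)
 (0x78))
 (cond (Nat.blt r 3)
 (0x96)
 (0x6a)))
 (cond (Nat.blt r 6)
 (cond (Nat.blt r 5)
 (0xa6)
 (0x7a))
 (cond (Nat.blt r 7)
 (0x98)
 (0x8a))))

def corLit (r : ℕ) : ℕ :=
 (cond (Nat.blt r 4)
 (cond (Nat.blt r 2)
 (cond (Nat.blt r 1)
 (0x7f7f)
 (0x7e7f))
 (cond (Nat.blt r 3)
 (0x807f)
 (0x7f80)))
 (cond (Nat.blt r 6)
 (cond (Nat.blt r 5)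
 (0x8180)
 (0x8081))
 (cond (Nat.blt r 7)
 (0x8281)
 (0x8181))))

def htLit (r : ℕ) : ℕ :=
 (cond (Nat.blt r 4)
 (cond (Nat.blt r 2)
 (cond (Nat.blt r 1)
 (0x3d)
 (0x3e))
 (cond (Nat.blt r 3)
 (0x3f)
 (0x3f)))
 (cond (Nat.blt r 6)
 (cond (Nat.blt r 5)
 (0x41)
 (0x41))
 (cond (Nat.blt r 7)
 (0x42)
 (0x43))))

def decLit (r : ℕ) : ℕ :=
 (cond (Nat.blt r 4)
 (cond (Nat.blt r 2)
 (cond (Nat.blt r 1)
 (0x10002)
 (0x30002))
 (cond (Nat.blt r 3)
 (0x0)
 (0x0)))
 (cond (Nat.blt r 6)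
 (cond (Nat.blt r 5)
 (0x0)
 (0x0))
 (cond (Nat.blt r 7)
 (0x50004)
 (0x60005))))

def downLit (r : ℕ) : ℕ :=
 (cond (Nat.blt r 5)
 (cond (Nat.blt r 2)
 (cond (Nat.blt r 1)
 (0x10002)
 (0x30002))
 (cond (Nat.blt r 3)
 (0x80002)
 (cond (Nat.blt r 4)
 (0x80003)
 (0x60002))))
 (cond (Nat.blt r 7)
 (cond (Nat.blt r 6)
 (0x60003)
 (0x70002))
 (cond (Nat.blt r 8)
 (0x0)
 (cond (Nat.blt r 9)
 (0x50002)
 (0x40003)))))

def upLit (r : ℕ) : ℕ :=
 (cond (Nat.blt r 5)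
 (cond (Nat.blt r 2)
 (cond (Nat.blt r 1)
 (0x0)
 (0x5))
 (cond (Nat.blt r 3)
 (0x10004)
 (cond (Nat.blt r 4)
 (0x10005)
 (0x80004))))
 (cond (Nat.blt r 7)
 (cond (Nat.blt r 6)
 (0x80005)
 (0x50004))
 (cond (Nat.blt r 8)
 (0x60005)
 (cond (Nat.blt r 9)
 (0x20005)
 (0x30004)))))

/-- The fast table. -/
def tab : Tab Cfsg.Lie.chevB2 where
  ent r s := decodeEnt (entLit r) s
  cart i r := decodeInt 4 8 (cartLit r) i
  cor r i := decodeInt 8 128 (corLit r) i
  ht r := Int.subNatNat (htLit r) 64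
  dec r := decodePair (decLit r)
  down b := decodePair (downLit b)
  up b := decodePair (upLit b)

end CfsgLib.Chev.B2Data
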