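import Cfsg.Agent.Chev.CommCheck
import Cfsg.Agent.Chev.DataE7

/-! Kernel check of the commutator formula for type E7. -/

set_option autoImplicit false

namespace CfsgLib.Chev.E7Data

theorem comm_0 : allBlock tab.chkComm 0 24 = true := by decide +kernel

theorem comm_1 : allBlock tab.chkComm 24 24 = true := by decide +kernel

theorem comm_2 : allBlock tab.chkComm 48 24 = true := by decide +kernel

theorem comm_3 : allBlock tab.chkComm 72 24 = true := by decide +kernel

theorem comm_4 : allBlock tab.chkComm 96 24 = true := by decide +kernel

theorem comm_5 : allBlock tab.chkComm 120 6 = true := by decide +kernel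

theorem comm_all : ∀ r < 126, tab.chkComm r = true := by
  intro b hb
  rcases Nat.lt_or_ge b 24 with h0 | h0
  · exact allBlock_apply comm_0 b (by omega) h0
  rcases Nat.lt_or_ge b 48 with h1 | h1
  · exact allBlock_apply comm_1 b (by omega) h1
  rcases Nat.lt_or_ge b 72 with h2 | h2
  · exact allBlock_apply comm_2 b (by omega) h2
  rcases Nat.lt_or_ge b 96 with h3 | h3
  · exact allBlock_apply comm_3 b (by omega) h3
  rcases Nat.lt_or_ge b 120 with h4 | h4
  · exact allBlock_apply comm_4 b (by omega) h4
  exact allBlock_apply comm_5 b (by omega) hb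

end CfsgLib.Chev.E7Data
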