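import Cfsg.Agent.Chev.CommCheck
import Cfsg.Agent.Chev.DataF4

/-! Kernel check of the commutator formula for type F4. -/

set_option autoImplicit false

namespace CfsgLib.Chev.F4Data

theorem comm_0 : allBlock tab.chkComm 0 24 = true := by decide +kernel

theorem comm_1 : allBlock tab.chkComm 24 24 = true := by decide +kernel

theorem comm_all : ∀ r < 48, tab.chkComm r = true := by
  intro b hb
  rcases Nat.lt_or_ge b 24 with h0 | h0
  · exact allBlock_apply comm_0 b (by omega) h0
  exact allBlock_apply comm_1 b (by omega) hb

end CfsgLib.Chev.F4Data
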