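import Cfsg.Prelude.Def_ChevG2
import Cfsg.Agent.Chev.TabBase

/-! Packed tables for the Chevalley datum of type G2 (generated from the prelude tables). -/

set_option autoImplicit false

namespace CfsgLib.Chev.G2Data

def entLit (r : ℕ) : ℕ :=
 (cond (Nat.blt r 6)
 (cond (Nat.blt r 3)
 (cond (Nat.blt r 1)
 (0x3300000000002300000000001d000000000000000000000015000000000000000000000000000000000000000000000000000000000000000000000000)
 (cond (Nat.blt r 2)
 (0x3b00000000000000000000002b00000000000000000000001d00000000000000000000000d000000000000000000000000000000000000000000000000000000000000)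
 (0x13002b004b000d0025004300000000000000000017002e00000009002200000000000000000000000000000000001700000000000f000000000000000000000000000000000000)))
 (cond (Nat.blt r 4)
 (0x3300450055000000000000000000310046000000000000000000000031000d001b002d0000000000000000000f001a000000000000000000000009000000000000000000000000)
 (cond (Nat.blt r 5)
 (0x3d004b00550000003f004a0000000000390000000000000000000000000013001d002500000000000000000011001e000000000011000000000000000000000000)
 (0x5d00000000000000000000000000000000004500000000000000000000000000000000000000000000002300000000000000000000000000000000000b000000000000))))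
 (cond (Nat.blt r 9)
 (cond (Nat.blt r 7)
 (0x6500000000000000000000000000000000004d00000000000000000000000000000000000000000000002b000000000000000000000000000000000013)
 (cond (Nat.blt r 8)
 (0x5f000000590052000000000000005d0055004b00000000000000000000000000000000003700000037002600330023001b000000000000)
 (0x6700000000000000000067005600000000000000630053004300000000003f00000000000000000039002a000000000000003d002d001b)))
 (cond (Nat.blt r 10)
 (0x6100000000005900000000000000000000000000000061004e0000005f00420000000000000063004d002d005d00430025)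
 (cond (Nat.blt r 11)
 (0x63000000000000000000000053000000000000000000000045000000000000000000000035)
 (0x5b00000000000000000000005300000000004d00000000003d000000000000)))))

def cartLit (r : ℕ) : ℕ :=
 (cond (Nat.blt r 6)
 (cond (Nat.blt r 3)
 (cond (Nat.blt r 1)
 (0x78)
 (cond (Nat.blt r 2)
 (0x95)
 (0x87)))
 (cond (Nat.blt r 4)
 (0x79)
 (cond (Nat.blt r 5)
 (0x96)
 (0x6b))))
 (cond (Nat.blt r 9)
 (cond (Nat.blt r 7)
 (0xa5)
 (cond (Nat.blt r 8)
 (0x7a)
 (0x97)))
 (cond (Nat.blt r 10)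
 (0x89)
 (cond (Nat.blt r 11)
 (0x7b)
 (0x98)))))

def corLit (r : ℕ) : ℕ :=
 (cond (Nat.blt r 6)
 (cond (Nat.blt r 3)
 (cond (Nat.blt r 1)
 (0x7e7f)
 (cond (Nat.blt r 2)
 (0x7f7f)
 (0x7d7e)))
 (cond (Nat.blt r 4)
 (0x7d7f)
 (cond (Nat.blt r 5)
 (0x807f)
 (0x7f80))))
 (cond (Nat.blt r 9)
 (cond (Nat.blt r 7)
 (0x8180)
 (cond (Nat.blt r 8)
 (0x8081)
 (0x8381)))
 (cond (Nat.blt r 10)
 (0x8382)
 (cond (Nat.blt r 11)
 (0x8181)
 (0x8281)))))

def htLit (r : ℕ) : ℕ :=
 (cond (Nat.blt r 6)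
 (cond (Nat.blt r 3)
 (cond (Nat.blt r 1)
 (0x3b)
 (cond (Nat.blt r 2)
 (0x3c)
 (0x3d)))
 (cond (Nat.blt r 4)
 (0x3e)
 (cond (Nat.blt r 5)
 (0x3f)
 (0x3f))))
 (cond (Nat.blt r 9)
 (cond (Nat.blt r 7)
 (0x41)
 (cond (Nat.blt r 8)
 (0x41)
 (0x42)))
 (cond (Nat.blt r 10)
 (0x43)
 (cond (Nat.blt r 11)
 (0x44)
 (0x45)))))

def decLit (r : ℕ) : ℕ :=
 (cond (Nat.blt r 6)
 (cond (Nat.blt r 3)
 (cond (Nat.blt r 1)
 (0x10005)
 (cond (Nat.blt r 2)
 (0x20004)
 (0x30004)))
 (cond (Nat.blt r 4)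
 (0x50004)
 (cond (Nat.blt r 5)
 (0x0)
 (0x0))))
 (cond (Nat.blt r 9)
 (cond (Nat.blt r 7)
 (0x0)
 (cond (Nat.blt r 8)
 (0x0)
 (0x70006)))
 (cond (Nat.blt r 10)
 (0x80007)
 (cond (Nat.blt r 11)
 (0x90007)
 (0xa0006)))))

def downLit (r : ℕ) : ℕ :=
 (cond (Nat.blt r 7)
 (cond (Nat.blt r 3)
 (cond (Nat.blt r 1)
 (0x10005)
 (cond (Nat.blt r 2)
 (0x20004)
 (0x30004)))
 (cond (Nat.blt r 5)
 (cond (Nat.blt r 4)
 (0x50004)
 (0xc0004))
 (cond (Nat.blt r 6)
 (0xc0005)
 (0x80004))))
 (cond (Nat.blt r 10)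
 (cond (Nat.blt r 8)
 (0x80005)
 (cond (Nat.blt r 9)
 (0x90004)
 (0xa0004)))
 (cond (Nat.blt r 12)
 (cond (Nat.blt r 11)
 (0xb0005)
 (0x0))
 (cond (Nat.blt r 13)
 (0x70004)
 (0x60005)))))

def upLit (r : ℕ) : ℕ :=
 (cond (Nat.blt r 7)
 (cond (Nat.blt r 3)
 (cond (Nat.blt r 1)
 (0x0)
 (cond (Nat.blt r 2)
 (0x6)
 (0x10007)))
 (cond (Nat.blt r 5)
 (cond (Nat.blt r 4)
 (0x20007)
 (0x30006))
 (cond (Nat.blt r 6)
 (0x30007)
 (0xc0006))))
 (cond (Nat.blt r 10)
 (cond (Nat.blt r 8)
 (0xc0007)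
 (cond (Nat.blt r 9)
 (0x70006)
 (0x80007)))
 (cond (Nat.blt r 12)
 (cond (Nat.blt r 11)
 (0x90007)
 (0xa0006))
 (cond (Nat.blt r 13)
 (0x40007)
 (0x50006)))))

/-- The fast table. -/
def tab : Tab Cfsg.Lie.chevG2 where
  ent r s := decodeEnt (entLit r) s
  cart i r := decodeInt 4 8 (cartLit r) i
  cor r i := decodeInt 8 128 (corLit r) i
  ht r := Int.subNatNat (htLit r) 64
  dec r := decodePair (decLit r)
  down b := decodePair (downLit b)
  up b := decodePair (upLit b)

end CfsgLib.Chev.G2Data
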