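import Cfsg.Agent.Chev.CommCheck

/-!
Kernel checks for the reflections in fundamental roots and the elements `n_p(1)`.
-/

set_option autoImplicit false

namespace CfsgLib.Chev

open Cfsg.Lie

namespace Tab

variable {D : ChevalleyDatum} (T : Tab D)

/-- The reflected root, computed from the fast table. -/
def reflT (i s : ℕ) : ℕ :=
  let p := D.simple i
  let A := T.cart i s
  if s = p then negR D p
  else if s = negR D p then p
  else if 0 < A then (T.rootT (negR D p) s A.toNat).getD s
  else if A < 0 then (T.rootT p s (-A).toNat).getD s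
  else s

/-- The non-zero part of the column `b` of `n_{p_i}(1)`. -/
def colN (i b : ℕ) : Vec :=
  ((T.pcol [(D.simple i, 1, 0, 0), (negR D (D.simple i), -1, 0, 0), (D.simple i, 1, 0, 0)] b).filter
    (fun q => decide (q.2 ≠ 0))).map fun q => (q.1.1, q.2)

/-- The coefficient of `e_{w s}` in `n_{p_i}(1) e_s`. -/
def sgn (i s : ℕ) : ℤ := coeff (T.colN i s) (T.reflT i s)

/-- `2(r, p_i)/(r, r)`. -/
def pairT (r s : ℕ) : ℤ := ((List.range D.rank).map fun j => T.cor r j * T.cart j s).sum

/-- The reflection in the `i`-th fundamental root at the root `s`, given the values at it. -/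
def chkReflAux (i p s k : ℕ) (A : ℤ) : Bool :=
  Nat.blt k D.nroots &&
  decide (T.reflT i k = s) && decide (T.reflT i (negR D s) = negR D k) &&
  decide (T.ht k = T.ht s - A) &&
  allBelow (fun j => decide (T.cart j k = T.cart j s - A * T.cart j p) &&
    decide (T.cor k j = T.cor s j - cond (Nat.beq j i) (T.pairT s p) 0)) D.rank &&
  decide (T.colN i s = [(k, T.sgn i s)]) &&
  (decide (T.sgn i s = 1) || decide (T.sgn i s = -1)) &&
  decide (T.sgn i s * T.sgn i k = (-1) ^ A.natAbs) &&
  decide (T.sgn i s * T.sgn i (negR D s) = 1) &&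
  (Nat.beq s p || Nat.beq s (negR D p) || decide (0 < T.ht s ↔ 0 < T.ht k))

/-- The reflection in the `i`-th fundamental root at the root `s`. -/
def chkRefl (i s : ℕ) : Bool :=
  T.chkReflAux i (D.simple i) s (T.reflT i s) (T.cart i s)

/-- The `i`-th fundamental root. -/
def chkNode (i : ℕ) : Bool :=
  Nat.blt (D.simple i) D.nroots &&
  decide (T.ht (D.simple i) = 1) && decide (T.cart i (D.simple i) = 2) &&
  decide (T.sgn i (D.simple i) = -1) &&
  allBelow (fun j => decide (T.cor (D.simple i) j = cond (Nat.beq j i) 1 0) &&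
    veq (T.colN i (Nat.add D.nroots j))
      [(Nat.add D.nroots j, 1), (Nat.add D.nroots i, -(T.cart j (D.simple i)))]) D.rank &&
  allBelow (fun s => T.chkRefl i s) D.nroots

/-- Roots of height `±1` are fundamental, the others can be moved towards height one. -/
def chkWay (r : ℕ) : Bool :=
  cond (decide ((T.ht r).natAbs = 1))
    ((List.range D.rank).any fun j => Nat.beq r (D.simple j) || Nat.beq r (negR D (D.simple j)))
    ((List.range D.rank).any fun j =>
      decide ((T.ht r - T.cart j r).natAbs < (T.ht r).natAbs))

end Tab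

end CfsgLib.Chev
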