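import Cfsg.Agent.Chev.Comm
import Cfsg.Agent.Chev.WCheck

/-!
The elements of the Chevalley group: reflections, `n_p(t)`, `h_p(c)`, root elements as units.
-/

set_option autoImplicit false

namespace CfsgLib.Chev

open Cfsg.Lie Matrix

namespace Tab

variable {D : ChevalleyDatum}

/-- All checks hold. -/
structure Full (T : Tab D) : Prop where
  cert : T.Cert
  comm : ∀ r < D.nroots, T.chkComm r = true
  node : ∀ i < D.rank, T.chkNode i = true
  way : ∀ r < D.nroots, T.chkWay r = true

end Tab

end CfsgLib.Chev
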