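import Cfsg.Agent.Chev.WCheck
import Cfsg.Agent.Chev.DataE6

/-! Kernel check of the reflections for type E6. -/

set_option autoImplicit false

namespace CfsgLib.Chev.E6Data

theorem node_0 : tab.chkNode 0 = true := by decide +kernel

theorem node_1 : tab.chkNode 1 = true := by decide +kernel

theorem node_2 : tab.chkNode 2 = true := by decide +kernel

theorem node_3 : tab.chkNode 3 = true := by decide +kernel

theorem node_4 : tab.chkNode 4 = true := by decide +kernel

theorem node_5 : tab.chkNode 5 = true := by decide +kernel

theorem node_all : ∀ i < 6, tab.chkNode i = true := by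
  intro b hb
  match b, hb with
  | 0, _ => exact node_0
  | 1, _ => exact node_1
  | 2, _ => exact node_2
  | 3, _ => exact node_3
  | 4, _ => exact node_4
  | 5, _ => exact node_5
  | (k + 6), h => omega

theorem way_all : ∀ r < 72, tab.chkWay r = true :=
  (allBelow_iff _ _).mp (show allBelow tab.chkWay 72 = true by decide +kernel)

end CfsgLib.Chev.E6Data
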