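import Cfsg.Agent.Chev.WCheck
import Cfsg.Agent.Chev.DataG2

/-! Kernel check of the reflections for type G2. -/

set_option autoImplicit false

namespace CfsgLib.Chev.G2Data

theorem node_0 : tab.chkNode 0 = true := by decide +kernel

theorem node_1 : tab.chkNode 1 = true := by decide +kernel

theorem node_all : ∀ i < 2, tab.chkNode i = true := by
  intro b hb
  match b, hb with
  | 0, _ => exact node_0
  | 1, _ => exact node_1
  | (k + 2), h => omega

theorem way_all : ∀ r < 12, tab.chkWay r = true :=
  (allBelow_iff _ _).mp (show allBelow tab.chkWay 12 = true by decide +kernel)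

end CfsgLib.Chev.G2Data
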