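import Cfsg.Agent.Chev.CertG2
import Cfsg.Agent.Chev.CertB2
import Cfsg.Agent.Chev.CertD4
import Cfsg.Agent.Chev.CertF4
import Cfsg.Agent.Chev.CertE6
import Cfsg.Agent.Chev.CertE7
import Cfsg.Agent.Chev.CertE8
import Cfsg.Agent.Chev.CommG2
import Cfsg.Agent.Chev.CommB2
import Cfsg.Agent.Chev.CommD4
import Cfsg.Agent.Chev.CommF4
import Cfsg.Agent.Chev.CommE6
import Cfsg.Agent.Chev.CommE7
import Cfsg.Agent.Chev.CommE8
import Cfsg.Agent.Chev.WG2
import Cfsg.Agent.Chev.WB2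
import Cfsg.Agent.Chev.WD4
import Cfsg.Agent.Chev.WF4
import Cfsg.Agent.Chev.WE6
import Cfsg.Agent.Chev.WE7
import Cfsg.Agent.Chev.WE8
import Cfsg.Agent.Chev.Full

/-! Every tabulated datum has a fully certified table. -/

set_option autoImplicit false

namespace CfsgLib.Chev

open Cfsg.Lie

theorem full_G2 : G2Data.tab.Full :=
  ⟨G2Data.cert, G2Data.comm_all, G2Data.node_all, G2Data.way_all⟩

theorem full_B2 : B2Data.tab.Full :=
  ⟨B2Data.cert, B2Data.comm_all, B2Data.node_all, B2Data.way_all⟩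

theorem full_D4 : D4Data.tab.Full :=
  ⟨D4Data.cert, D4Data.comm_all, D4Data.node_all, D4Data.way_all⟩

theorem full_F4 : F4Data.tab.Full :=
  ⟨F4Data.cert, F4Data.comm_all, F4Data.node_all, F4Data.way_all⟩

theorem full_E6 : E6Data.tab.Full :=
  ⟨E6Data.cert, E6Data.comm_all, E6Data.node_all, E6Data.way_all⟩

theorem full_E7 : E7Data.tab.Full :=
  ⟨E7Data.cert, E7Data.comm_all, E7Data.node_all, E7Data.way_all⟩

theorem full_E8 : E8Data.tab.Full :=
  ⟨E8Data.cert, E8Data.comm_all, E8Data.node_all, E8Data.way_all⟩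

theorem exists_full {D : ChevalleyDatum}
    (hD : D ∈ [chevG2, chevB2, chevD4, chevF4, chevE6, chevE7, chevE8]) :
    ∃ T : Tab D, T.Full := by
  simp only [List.mem_cons, List.not_mem_nil, or_false] at hD
  rcases hD with rfl | rfl | rfl | rfl | rfl | rfl | rfl
  exacts [⟨_, full_G2⟩, ⟨_, full_B2⟩, ⟨_, full_D4⟩, ⟨_, full_F4⟩, ⟨_, full_E6⟩, ⟨_, full_E7⟩,
    ⟨_, full_E8⟩]

end CfsgLib.Chev
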