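import Cfsg.Agent.Chev.UCheck
import Cfsg.Agent.Chev.DataB2

/-! Kernel check of the root ordering for type B2. -/

set_option autoImplicit false

namespace CfsgLib.Chev.B2Data

theorem ord_0 : allBlock tab.chkOrd 0 8 = true := by decide +kernel

theorem ord_all : ∀ r < 8, tab.chkOrd r = true := by
  intro b hb
  exact allBlock_apply ord_0 b (by omega) hb

end CfsgLib.Chev.B2Data
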