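import Cfsg.Agent.Chev.UCheck
import Cfsg.Agent.Chev.DataE7

/-! Kernel check of the root ordering for type E7. -/

set_option autoImplicit false

namespace CfsgLib.Chev.E7Data

theorem ord_0 : allBlock tab.chkOrd 0 40 = true := by decide +kernel

theorem ord_1 : allBlock tab.chkOrd 40 40 = true := by decide +kernel

theorem ord_2 : allBlock tab.chkOrd 80 40 = true := by decide +kernel

theorem ord_3 : allBlock tab.chkOrd 120 6 = true := by decide +kernel

theorem ord_all : ∀ r < 126, tab.chkOrd r = true := by
  intro b hb
  rcases Nat.lt_or_ge b 40 with h0 | h0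
  · exact allBlock_apply ord_0 b (by omega) h0
  rcases Nat.lt_or_ge b 80 with h1 | h1
  · exact allBlock_apply ord_1 b (by omega) h1
  rcases Nat.lt_or_ge b 120 with h2 | h2
  · exact allBlock_apply ord_2 b (by omega) h2
  exact allBlock_apply ord_3 b (by omega) hb

end CfsgLib.Chev.E7Data
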