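import Cfsg.Agent.Chev.UCheck
import Cfsg.Agent.Chev.DataE8

/-! Kernel check of the root ordering for type E8. -/

set_option autoImplicit false

namespace CfsgLib.Chev.E8Data

theorem ord_0 : allBlock tab.chkOrd 0 40 = true := by decide +kernel

theorem ord_1 : allBlock tab.chkOrd 40 40 = true := by decide +kernel

theorem ord_2 : allBlock tab.chkOrd 80 40 = true := by decide +kernel

theorem ord_3 : allBlock tab.chkOrd 120 40 = true := by decide +kernel

theorem ord_4 : allBlock tab.chkOrd 160 40 = true := by decide +kernel

theorem ord_5 : allBlock tab.chkOrd 200 40 = true := by decide +kernel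

theorem ord_all : ∀ r < 240, tab.chkOrd r = true := by
  intro b hb
  rcases Nat.lt_or_ge b 40 with h0 | h0
  · exact allBlock_apply ord_0 b (by omega) h0
  rcases Nat.lt_or_ge b 80 with h1 | h1
  · exact allBlock_apply ord_1 b (by omega) h1
  rcases Nat.lt_or_ge b 120 with h2 | h2
  · exact allBlock_apply ord_2 b (by omega) h2
  rcases Nat.lt_or_ge b 160 with h3 | h3
  · exact allBlock_apply ord_3 b (by omega) h3
  rcases Nat.lt_or_ge b 200 with h4 | h4
  · exact allBlock_apply ord_4 b (by omega) h4
  exact allBlock_apply ord_5 b (by omega) hb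

end CfsgLib.Chev.E8Data
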