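import Cfsg.Agent.Chev.UCheck
import Cfsg.Agent.Chev.DataF4

/-! Kernel check of the root ordering for type F4. -/

set_option autoImplicit false

namespace CfsgLib.Chev.F4Data

theorem ord_0 : allBlock tab.chkOrd 0 40 = true := by decide +kernel

theorem ord_1 : allBlock tab.chkOrd 40 8 = true := by decide +kernel

theorem ord_all : ∀ r < 48, tab.chkOrd r = true := by
  intro b hb
  rcases Nat.lt_or_ge b 40 with h0 | h0
  · exact allBlock_apply ord_0 b (by omega) h0
  exact allBlock_apply ord_1 b (by omega) hb

end CfsgLib.Chev.F4Data
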