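import Cfsg.Agent.Chev.Good

/-!
The unipotent subgroup: normal form, uniqueness, closed subsets, nilpotency.
-/

set_option autoImplicit false

namespace CfsgLib.Chev

open Cfsg.Lie Matrix
open scoped MatrixGroups

namespace Tab

variable {D : ChevalleyDatum}

/-- Positive roots by index. -/
def IsPos (D : ChevalleyDatum) (r : ℕ) : Prop := r < D.nroots ∧ D.nroots ≤ 2 * r

instance isPosDecidable (D : ChevalleyDatum) (r : ℕ) : Decidable (IsPos D r) :=
  inferInstanceAs (Decidable (_ ∧ _))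

/-- The subgroup generated by the root elements of a set of roots. -/
def Good.US {T : Tab D} (G : T.Good) (F : Type*) [Field F] (S : Set ℕ) : Subgroup (GL D.Idx F) :=
  Subgroup.closure {g | ∃ r ∈ S, ∃ t : F, g = G.full.x r t}

/-- A set of positive roots closed under the terms of the commutator formula. -/
def Closed (T : Tab D) (S : Set ℕ) : Prop :=
  (∀ r ∈ S, IsPos D r) ∧ ∀ r ∈ S, ∀ s ∈ S, ∀ c ∈ T.commT r s, c.1 ∈ S

namespace Good

variable {T : Tab D} (G : T.Good) {F : Type*} [Field F]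
include G

theorem x_mem_US {S : Set ℕ} {r : ℕ} (hr : r ∈ S) (t : F) : G.full.x r t ∈ G.US F S :=
  Subgroup.subset_closure ⟨r, hr, t, rfl⟩

theorem US_mono {S S' : Set ℕ} (h : ∀ r, r ∈ S → r ∈ S') : G.US F S ≤ G.US F S' :=
  Subgroup.closure_mono fun _ ⟨r, hr, t, e⟩ => ⟨r, h r hr, t, e⟩

theorem ord_spec {r : ℕ} (hr : IsPos D r) :
    (∀ s < D.nroots, ∀ p ∈ T.ent r s, s < p.1 ∧ (IsPos D s → r < p.1) ∧
      (negR D s < r → D.nroots ≤ 2 * p.1)) ∧
    ∀ s, IsPos D s → s ≠ negR D r := by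
  have h := G.ord r hr.1
  have hb : Nat.ble D.nroots (Nat.mul 2 r) = true := by simpa using hr.2
  simp only [chkOrd, hb, cond_true, Bool.and_eq_true, allBelow_iff, chkOrdPair,
    List.all_eq_true] at h
  refine ⟨fun s hs p hp => ?_, fun s hs => ?_⟩
  · obtain ⟨⟨h1, h2⟩, h3⟩ := h.2.1 s hs p hp
    refine ⟨by simpa using h1, fun hps => ?_, fun hlt => ?_⟩
    · have e : Nat.ble D.nroots (Nat.mul 2 s) = true := by simpa using hps.2
      rw [e, cond_true] at h2
      simpa using h2
    · have e : Nat.blt (negR D s) r = true := by simpa using hlt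
      rw [e, cond_true] at h3
      simpa using h3
  · have e : Nat.ble D.nroots (Nat.mul 2 s) = true := by simpa using hs.2
    have h2 := h.2.2 s hs.1
    simp only [e, cond_true, Bool.not_eq_true'] at h2
    intro he
    rw [beq_true he] at h2
    exact Bool.noConfusion h2

theorem cor_gcd {r : ℕ} (hr : r < D.nroots) : T.corGcd r = 1 := by
  have h := G.ord r hr
  simp only [chkOrd, Bool.and_eq_true, Nat.beq_eq] at h
  exact h.1.1

theorem cor_sign {r : ℕ} (hr : r < D.nroots) {j : ℕ} (hj : j < D.rank) :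
    (D.nroots ≤ 2 * r → 0 ≤ T.cor r j) ∧ (¬ D.nroots ≤ 2 * r → T.cor r j ≤ 0) := by
  have h := G.ord r hr
  simp only [chkOrd, Bool.and_eq_true, allBelow_iff] at h
  have h' := h.1.2 j hj
  refine ⟨fun hp => ?_, fun hp => ?_⟩
  · have e : Nat.ble D.nroots (Nat.mul 2 r) = true := by simpa using hp
    rw [e, cond_true] at h'
    simpa using h'
  · have e : Nat.ble D.nroots (Nat.mul 2 r) = false := by
      simpa [← Bool.not_eq_true] using hp
    rw [e, cond_false] at h'
    simpa using h'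

/-- Some coroot coefficient is non-zero in the field. -/
theorem exists_cor_ne_zero {r : ℕ} (hr : r < D.nroots) :
    ∃ j : Fin D.rank, ((T.cor r j : ℤ) : F) ≠ 0 := by
  by_contra hc
  simp only [not_exists, not_not] at hc
  have key : ∀ L : List ℕ, (∀ j ∈ L, j < D.rank) →
      (((L.map fun j => (T.cor r j).natAbs).foldr Nat.gcd 0 : ℕ) : F) = 0 := by
    intro L
    induction L with
    | nil => simp
    | cons a L ih =>
      intro h
      simp only [List.map_cons, List.foldr_cons]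
      have ha : (((T.cor r a).natAbs : ℕ) : F) = 0 := by
        have h0 := hc ⟨a, h a (by simp)⟩
        rcases Int.natAbs_eq (T.cor r a) with e | e <;> rw [e] at h0 <;> simpa using h0
      have hL := ih fun j hj => h j (by simp [hj])
      obtain ⟨p, hp⟩ := CharP.exists F
      rw [CharP.cast_eq_zero_iff F p] at ha hL ⊢
      exact Nat.dvd_gcd ha hL
  have h := key (List.range D.rank) fun j hj => List.mem_range.mp hj
  have e := G.cor_gcd hr
  rw [corGcd] at e
  rw [e] at h
  simp at h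

theorem isPosRoot_iff {r : ℕ} : D.IsPosRoot r ↔ IsPos D r := by
  constructor
  · rintro ⟨hr, hc⟩
    refine ⟨hr, ?_⟩
    by_contra h
    have hz : ∀ j < D.rank, T.cor r j = 0 := by
      intro j hj
      refine le_antisymm ((G.cor_sign hr hj).2 h) ?_
      rw [(G.full.cert.agree_spec hr).2.2.1] at hc
      exact hc _ (List.mem_map.mpr ⟨j, List.mem_range.mpr hj, rfl⟩)
    obtain ⟨j, hj⟩ := G.exists_cor_ne_zero (F := ℚ) hr
    exact hj (by simp [hz j j.isLt])
  · rintro ⟨hr, hp⟩
    refine ⟨hr, fun c hc => ?_⟩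
    rw [(G.full.cert.agree_spec hr).2.2.1] at hc
    obtain ⟨j, hj, rfl⟩ := List.mem_map.mp hc
    exact (G.cor_sign hr (List.mem_range.mp hj)).1 hp

theorem isNegRoot_iff {r : ℕ} : D.IsNegRoot r ↔ r < D.nroots ∧ ¬ D.nroots ≤ 2 * r := by
  constructor
  · rintro ⟨hr, hc⟩
    refine ⟨hr, fun h => ?_⟩
    have hz : ∀ j < D.rank, T.cor r j = 0 := by
      intro j hj
      refine le_antisymm ?_ ((G.cor_sign hr hj).1 h)
      rw [(G.full.cert.agree_spec hr).2.2.1] at hc
      exact hc _ (List.mem_map.mpr ⟨j, List.mem_range.mpr hj, rfl⟩)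
    obtain ⟨j, hj⟩ := G.exists_cor_ne_zero (F := ℚ) hr
    exact hj (by simp [hz j j.isLt])
  · rintro ⟨hr, hp⟩
    refine ⟨hr, fun c hc => ?_⟩
    rw [(G.full.cert.agree_spec hr).2.2.1] at hc
    obtain ⟨j, hj, rfl⟩ := List.mem_map.mp hc
    exact (G.cor_sign hr (List.mem_range.mp hj)).2 hp

theorem negR_pos {r : ℕ} (hr : IsPos D r) : ¬ D.nroots ≤ 2 * negR D r := by
  have := G.full.cert.even
  obtain ⟨h1, h2⟩ := hr
  rw [negR_eq]; omega

theorem rootT_spec {a b i k : ℕ} (ha : IsPos D a) (hb : IsPos D b) (h : T.rootT a b i = some k) :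
    IsPos D k ∧ a < k ∧ b < k := by
  simp only [rootT, Option.map_eq_some_iff] at h
  obtain ⟨p, hp, rfl⟩ := h
  obtain ⟨h1, h2, -⟩ := (G.ord_spec ha).1 b hb.1 p (List.mem_of_getElem? hp)
  exact ⟨⟨(G.full.cert.ent_spec ha.1 hb.1 hp).1, by have := hb.2; omega⟩, h2 hb, h1⟩

theorem comm_keys {r s : ℕ} (hr : IsPos D r) (hs : IsPos D s) {c : ℕ × ℤ × ℕ × ℕ}
    (hc : c ∈ T.commT r s) : IsPos D c.1 ∧ r < c.1 ∧ s < c.1 := by
  simp only [commT, List.mem_filterMap, List.mem_cons, List.not_mem_nil, or_false] at hc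
  obtain ⟨a, ha, hc⟩ := hc
  obtain ⟨k, hk, rfl⟩ := Option.map_eq_some_iff.mp hc
  rcases ha with rfl | rfl | rfl | rfl | rfl | rfl | rfl
  · exact G.rootT_spec hr hs hk
  · exact G.rootT_spec hr hs hk
  · obtain ⟨h1, h2, h3⟩ := G.rootT_spec hs hr hk
    exact ⟨h1, h3, h2⟩
  · exact G.rootT_spec hr hs hk
  · obtain ⟨h1, h2, h3⟩ := G.rootT_spec hs hr hk
    exact ⟨h1, h3, h2⟩
  · obtain ⟨k', hk', hk''⟩ := Option.bind_eq_some_iff.mp hk
    obtain ⟨h1, h2, h3⟩ := G.rootT_spec hr hs hk'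
    obtain ⟨g1, g2, g3⟩ := G.rootT_spec h1 hs hk''
    exact ⟨g1, lt_trans h2 g2, g3⟩
  · obtain ⟨k', hk', hk''⟩ := Option.bind_eq_some_iff.mp hk
    obtain ⟨h1, h2, h3⟩ := G.rootT_spec hs hr hk'
    obtain ⟨g1, g2, g3⟩ := G.rootT_spec h1 hr hk''
    exact ⟨g1, g3, lt_trans h2 g2⟩

/-- Conjugation of one positive root element by another. -/
theorem conj_pos {r s : ℕ} (hr : IsPos D r) (hs : IsPos D s) (t u : F) {S : Set ℕ}
    (hS : s ≠ r → ∀ c ∈ T.commT r s, c.1 ∈ S) :
    (G.full.x s u)⁻¹ * (G.full.x r t * G.full.x s u * (G.full.x r t)⁻¹) ∈ G.US F S := by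
  rcases eq_or_ne s r with rfl | hne
  · rw [G.full.x_inv, G.full.x_inv, G.full.x_add, G.full.x_add, G.full.x_add,
      show -u + (t + u + -t) = (0 : F) by ring, G.full.x_zero]
    exact one_mem _
  · have h := G.full.x_comm hr.1 hs.1 hne ((G.ord_spec hr).2 s hs) (-t) u
    rw [G.full.x_inv r t, mul_assoc (G.full.x r t) (G.full.x s u), h]
    simp only [← mul_assoc]
    rw [mul_assoc _ (G.full.x r t) (G.full.x r (-t)), G.full.x_add, add_neg_cancel, G.full.x_zero,
      mul_one, inv_mul_cancel, one_mul]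
    refine Subgroup.list_prod_mem _ fun g hg => ?_
    rw [G.full.cert.commWord_eq hr.1 hs.1] at hg
    simp only [rhsWord, List.map_map, List.mem_map, Function.comp_apply] at hg
    obtain ⟨e, he, rfl⟩ := hg
    exact G.x_mem_US (hS hne e he) _

/-- A generated subgroup is normalised by `g` as soon as `g` maps its generators into it. -/
theorem conj_US {S S' : Set ℕ} (g : GL D.Idx F)
    (h : ∀ r ∈ S, ∀ t : F, g * G.full.x r t * g⁻¹ ∈ G.US F S') {u : GL D.Idx F}
    (hu : u ∈ G.US F S) : g * u * g⁻¹ ∈ G.US F S' := by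
  induction hu using Subgroup.closure_induction with
  | mem u hu => obtain ⟨r, hr, t, rfl⟩ := hu; exact h r hr t
  | one => simp
  | mul a b _ _ ha hb =>
    rw [show g * (a * b) * g⁻¹ = (g * a * g⁻¹) * (g * b * g⁻¹) by group]
    exact mul_mem ha hb
  | inv a _ ha =>
    rw [show g * a⁻¹ * g⁻¹ = (g * a * g⁻¹)⁻¹ by group]
    exact inv_mem ha

/-- A member of a closed set normalises the part of the set above it. -/
theorem conj_US_above {S : Set ℕ} (hS : T.Closed S) {r k : ℕ} (hr : r ∈ S) (t : F)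
    {u : GL D.Idx F} (hu : u ∈ G.US F {s | s ∈ S ∧ k ≤ s}) :
    G.full.x r t * u * (G.full.x r t)⁻¹ ∈ G.US F {s | s ∈ S ∧ k ≤ s} := by
  refine G.conj_US _ (fun s hs v => ?_) hu
  have h := G.conj_pos (F := F) (hS.1 r hr) (hS.1 s hs.1) t v (S := {s | s ∈ S ∧ k ≤ s})
    (fun _ c hc => ⟨hS.2 r hr s hs.1 c hc,
      le_trans hs.2 (G.comm_keys (hS.1 r hr) (hS.1 s hs.1) hc).2.2.le⟩)
  have h' := mul_mem (G.x_mem_US (S := {s | s ∈ S ∧ k ≤ s}) hs v) h
  rwa [mul_inv_cancel_left] at h'

theorem closed_above {S : Set ℕ} (hS : T.Closed S) (k : ℕ) :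
    T.Closed {s | s ∈ S ∧ k ≤ s} :=
  ⟨fun r hr => hS.1 r hr.1, fun r hr s hs c hc => ⟨hS.2 r hr.1 s hs.1 c hc,
    le_trans hs.2 (G.comm_keys (hS.1 r hr.1) (hS.1 s hs.1) hc).2.2.le⟩⟩

theorem closed_pos : T.Closed {r | IsPos D r} :=
  ⟨fun _ h => h, fun _ hr _ hs _ hc => (G.comm_keys hr hs hc).1⟩

open scoped Classical in
/-- The ordered product over the roots of `S` in `[k, k + m)`. -/
noncomputable def segProd (S : Set ℕ) (f : ℕ → F) : ℕ → ℕ → GL D.Idx F
  | _, 0 => 1
  | k, m + 1 => (if k ∈ S then G.full.x k (f k) else 1) * segProd S f (k + 1) m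

theorem segProd_mem (S : Set ℕ) (f : ℕ → F) : ∀ m k,
    G.segProd S f k m ∈ G.US F {s | s ∈ S ∧ k ≤ s} := by
  intro m
  induction m with
  | zero => intro k; exact one_mem _
  | succ m ih =>
    intro k
    simp only [segProd]
    refine mul_mem ?_ (G.US_mono (S' := {s | s ∈ S ∧ k ≤ s}) (fun s hs => ⟨hs.1, by have := hs.2; omega⟩) (ih (k + 1)))
    split_ifs with h
    · exact G.x_mem_US (S := {s | s ∈ S ∧ k ≤ s}) ⟨h, le_rfl⟩ _
    · exact one_mem _

theorem segProd_congr (S : Set ℕ) {f g : ℕ → F} : ∀ m k,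
    (∀ r ∈ S, k ≤ r → f r = g r) → G.segProd S f k m = G.segProd S g k m := by
  intro m
  induction m with
  | zero => intros; rfl
  | succ m ih =>
    intro k h
    simp only [segProd]
    rw [ih (k + 1) fun r hr hk => h r hr (by omega)]
    split_ifs with hk
    · rw [h k hk le_rfl]
    · rfl

theorem exists_segProd {S : Set ℕ} (hS : T.Closed S) : ∀ m k, k + m = D.nroots →
    ∀ u ∈ G.US F {s | s ∈ S ∧ k ≤ s}, ∃ f : ℕ → F, u = G.segProd S f k m := by
  intro m
  induction m with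
  | zero =>
    intro k hk u hu
    refine ⟨0, ?_⟩
    simp only [segProd]
    induction hu using Subgroup.closure_induction with
    | mem g hg => obtain ⟨r, ⟨hr, hr'⟩, t, -⟩ := hg; have := (hS.1 r hr).1; omega
    | one => rfl
    | mul a b _ _ ha hb => rw [ha, hb, one_mul]
    | inv a _ ha => rw [ha, inv_one]
  | succ m ih =>
    intro k hk u hu
    classical
    -- the elements of the form `x_k(a) w`
    suffices h : ∃ a : F, ∃ w ∈ G.US F {s | s ∈ S ∧ k + 1 ≤ s},
        u = (if k ∈ S then G.full.x k a else 1) * w by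
      obtain ⟨a, w, hw, rfl⟩ := h
      obtain ⟨f, hf⟩ := ih (k + 1) (by omega) w hw
      refine ⟨Function.update f k a, ?_⟩
      simp only [segProd, Function.update_self]
      rw [hf, G.segProd_congr S (f := Function.update f k a) (g := f) m (k + 1) fun r _ hr =>
        Function.update_of_ne (by omega) _ _]
    by_cases hkS : k ∈ S
    · simp only [hkS, if_true]
      induction hu using Subgroup.closure_induction with
      | mem g hg =>
        obtain ⟨r, ⟨hr, hr'⟩, t, rfl⟩ := hg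
        rcases eq_or_lt_of_le hr' with rfl | hlt
        · exact ⟨t, 1, one_mem _, (mul_one _).symm⟩
        · refine ⟨0, _, G.x_mem_US (S := {s | s ∈ S ∧ k + 1 ≤ s}) ⟨hr, hlt⟩ t, ?_⟩
          rw [G.full.x_zero, one_mul]
      | one => exact ⟨0, 1, one_mem _, by rw [G.full.x_zero, one_mul]⟩
      | mul p q _ _ hp hq =>
        obtain ⟨a, v, hv, rfl⟩ := hp
        obtain ⟨b, w, hw, rfl⟩ := hq
        refine ⟨a + b, _, mul_mem (G.conj_US_above hS hkS (-b) hv) hw, ?_⟩
        rw [← G.full.x_add, ← G.full.x_inv k b]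
        group
      | inv p _ hp =>
        obtain ⟨a, v, hv, rfl⟩ := hp
        refine ⟨-a, _, G.conj_US_above hS hkS a (inv_mem hv), ?_⟩
        rw [← G.full.x_inv k a]
        group
    · simp only [hkS, if_false, one_mul]
      exact ⟨0, u, G.US_mono (S' := {s | s ∈ S ∧ k + 1 ≤ s}) (fun s hs => ⟨hs.1, lt_of_le_of_ne hs.2
        (fun e => hkS (by rw [e]; exact hs.1))⟩) hu, rfl⟩

/-- The span of the positive root vectors is preserved, and `e_{-k}` only changes inside it. -/
def upperStab {D : ChevalleyDatum} {F : Type*} [Field F] (k : ℕ) : Subgroup (GL D.Idx F) where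
  carrier := {g | (∀ v : D.Idx → F, (∀ x, ¬ IsPos D (code x) → v x = 0) →
      (∀ x, ¬ IsPos D (code x) → ((g : Matrix D.Idx D.Idx F) *ᵥ v) x = 0) ∧
      (∀ x, ¬ IsPos D (code x) → ((g⁻¹ : GL D.Idx F) : Matrix D.Idx D.Idx F).mulVec v x = 0)) ∧
    ∀ y : D.Idx, code y = negR D k → ∀ x, ¬ IsPos D (code x) →
      (g : Matrix D.Idx D.Idx F) x y = (1 : Matrix D.Idx D.Idx F) x y ∧
      ((g⁻¹ : GL D.Idx F) : Matrix D.Idx D.Idx F) x y = (1 : Matrix D.Idx D.Idx F) x y}
  one_mem' := by
    refine ⟨fun v hv => ⟨fun x hx => ?_, fun x hx => ?_⟩, fun y _ x _ => by simp⟩ <;>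
      simp [hv x hx]
  mul_mem' := by
    intro g h hg hh
    have key : ∀ (g h : GL D.Idx F),
        (∀ v : D.Idx → F, (∀ x, ¬ IsPos D (code x) → v x = 0) →
          ∀ x, ¬ IsPos D (code x) → ((g : Matrix D.Idx D.Idx F) *ᵥ v) x = 0) →
        ∀ y : D.Idx, (∀ x, ¬ IsPos D (code x) →
          (g : Matrix D.Idx D.Idx F) x y = (1 : Matrix D.Idx D.Idx F) x y) →
        (∀ x, ¬ IsPos D (code x) →
          (h : Matrix D.Idx D.Idx F) x y = (1 : Matrix D.Idx D.Idx F) x y) →
        ∀ x, ¬ IsPos D (code x) →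
          ((g * h : GL D.Idx F) : Matrix D.Idx D.Idx F) x y =
            (1 : Matrix D.Idx D.Idx F) x y := by
      intro g h h1 y h2 h3 x hx
      have h4 := h1 (fun z => (h : Matrix D.Idx D.Idx F) z y - (1 : Matrix D.Idx D.Idx F) z y)
        (fun z hz => sub_eq_zero.mpr (h3 z hz)) x hx
      rw [Units.val_mul, Matrix.mul_apply]
      simp only [Matrix.mulVec, dotProduct, mul_sub, Finset.sum_sub_distrib, sub_eq_zero] at h4
      rw [h4, ← Matrix.mul_apply, mul_one, h2 x hx]
    refine ⟨fun v hv => ⟨fun x hx => ?_, fun x hx => ?_⟩, fun y hy x hx => ⟨?_, ?_⟩⟩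
    · rw [Units.val_mul, ← Matrix.mulVec_mulVec]
      exact (hg.1 _ (hh.1 v hv).1).1 x hx
    · rw [_root_.mul_inv_rev, Units.val_mul, ← Matrix.mulVec_mulVec]
      exact (hh.1 _ (hg.1 v hv).2).2 x hx
    · exact key g h (fun v hv => (hg.1 v hv).1) y (fun z hz => (hg.2 y hy z hz).1)
        (fun z hz => (hh.2 y hy z hz).1) x hx
    · rw [_root_.mul_inv_rev]
      exact key h⁻¹ g⁻¹ (fun v hv => (hh.1 v hv).2) y (fun z hz => (hh.2 y hy z hz).2)
        (fun z hz => (hg.2 y hy z hz).2) x hx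
  inv_mem' := by
    intro g hg
    refine ⟨fun v hv => ⟨(hg.1 v hv).2, ?_⟩, fun y hy x hx => ⟨(hg.2 y hy x hx).2, ?_⟩⟩
    · rw [inv_inv]; exact (hg.1 v hv).1
    · rw [inv_inv]; exact (hg.2 y hy x hx).1

theorem colA_pos_of_pos {m r : ℕ} (hm : 1 ≤ m) (hr : IsPos D r) {s : ℕ} (hs : IsPos D s)
    {p : ℕ × ℤ} (hp : p ∈ T.colA m r s) : IsPos D p.1 := by
  rcases eq_or_ne s r with rfl | hne
  · rw [T.colA_self m s hr.1] at hp; simp at hp
  rw [T.colA_chain m r s hs.1 hne ((G.ord_spec hr).2 s hs)] at hp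
  have he := Cert.mem_drop_take hp
  have h1 := ((G.ord_spec hr).1 s hs.1 p (List.mem_of_getElem? he)).1
  exact ⟨(G.full.cert.ent_spec hr.1 hs.1 he).1, by have := hs.2; omega⟩

theorem x_mem_upperStab {k r : ℕ} (hk : IsPos D k) (hr : IsPos D r) (hkr : k < r) (t : F) :
    G.full.x r t ∈ upperStab (D := D) (F := F) k := by
  have hcol : ∀ (u : F) (y x : D.Idx), (IsPos D (code y) ∨ code y = negR D k) →
      ¬ IsPos D (code x) →
      ((G.full.x r u : GL D.Idx F) : Matrix D.Idx D.Idx F) x y =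
        (1 : Matrix D.Idx D.Idx F) x y := by
    intro u y x hy hx
    rw [G.full.coe_x hr.1]
    have hz : ∀ m, 1 ≤ m → m ≤ 3 → T.P m r x y = 0 := by
      intro m h1 h3
      simp only [P, show m ≠ 0 by omega, h3, if_false, if_true, A, matOf_apply]
      refine coeff_eq_zero_of_forall _ _ fun p hp e => hx (e ▸ ?_)
      rcases hy with hy | hy
      · exact G.colA_pos_of_pos h1 hr hy hp
      · have hne : negR D k ≠ r := fun e' => G.negR_pos hk (by rw [e']; exact hr.2)
        have hlt := Cert.negR_lt (D := D) hk.1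
        have hne' : negR D k ≠ negR D r := by
          have := hk.1; have := hr.1; rw [negR_eq, negR_eq]; omega
        rw [hy, T.colA_chain m r _ hlt hne hne'] at hp
        have he := Cert.mem_drop_take hp
        exact ⟨(G.full.cert.ent_spec hr.1 hlt he).1,
          ((G.ord_spec hr).1 _ hlt p (List.mem_of_getElem? he)).2.2
            (by rw [Cert.negR_negR hk.1]; exact hkr)⟩
    simp [X, Finset.sum_range_succ, Matrix.add_apply, T.P_zero, hz 1 le_rfl (by omega),
      hz 2 (by omega) (by omega), hz 3 (by omega) le_rfl, Matrix.one_apply]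
  have hvec : ∀ (u : F) (v : D.Idx → F), (∀ x, ¬ IsPos D (code x) → v x = 0) →
      ∀ x, ¬ IsPos D (code x) →
        (((G.full.x r u : GL D.Idx F) : Matrix D.Idx D.Idx F) *ᵥ v) x = 0 := by
    intro u v hv x hx
    simp only [Matrix.mulVec, dotProduct]
    refine Finset.sum_eq_zero fun y _ => ?_
    by_cases hy : IsPos D (code y)
    · rw [hcol u y x (Or.inl hy) hx, Matrix.one_apply_ne, zero_mul]
      rintro rfl
      exact hx hy
    · rw [hv y hy, mul_zero]
  refine ⟨fun v hv => ⟨hvec t v hv, ?_⟩, fun y hy x hx => ⟨hcol t y x (Or.inr hy) hx, ?_⟩⟩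
  · rw [G.full.x_inv]; exact hvec (-t) v hv
  · rw [G.full.x_inv]; exact hcol (-t) y x (Or.inr hy) hx

theorem eq_zero_of_x_mem {k : ℕ} (hk : IsPos D k) {c : F} {S : Set ℕ} (hS : ∀ s ∈ S, IsPos D s)
    (h : G.full.x k c ∈ G.US F {s | s ∈ S ∧ k + 1 ≤ s}) : c = 0 := by
  have hle : G.US F {s | s ∈ S ∧ k + 1 ≤ s} ≤ upperStab (D := D) (F := F) k :=
    (Subgroup.closure_le _).mpr fun g ⟨r, ⟨hr, hkr⟩, t, e⟩ =>
      e ▸ G.x_mem_upperStab hk (hS r hr) hkr t
  have h' := hle h
  obtain ⟨j, hj⟩ := G.exists_cor_ne_zero (F := F) hk.1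
  have hlt := Cert.negR_lt (D := D) hk.1
  have hjx : ¬ IsPos D (code (Sum.inl j : D.Idx)) := by
    intro hc; have := hc.1; rw [code_inl] at this; omega
  have h2 := (h'.2 (Sum.inr ⟨_, hlt⟩) (code_inr _) (Sum.inl j) hjx).1
  rw [G.full.coe_x hk.1] at h2
  have hne : negR D k ≠ k := G.full.cert.negR_ne hk.1
  have e1 : T.P 1 k (Sum.inl j) (Sum.inr ⟨_, hlt⟩) = T.cor k j := by
    rw [T.P_one, A, matOf_apply, code_inr, code_inl, T.colA_neg 1 k hk.1 hne, if_pos rfl,
      T.coeff_corVec _ _ j.isLt]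
  have e2 : T.P 2 k (Sum.inl j) (Sum.inr ⟨_, hlt⟩) = 0 := by
    have : k ≠ D.nroots + j.val := by have := hk.1; omega
    rw [T.P_two, A, matOf_apply, code_inr, code_inl, T.colA_neg 2 k hk.1 hne,
      if_neg (by decide), if_pos rfl, coeff_cons, coeff_nil, if_neg this, add_zero]
  have e3 : T.P 3 k (Sum.inl j) (Sum.inr ⟨_, hlt⟩) = 0 := by
    rw [T.P_three, A, matOf_apply, code_inr, code_inl, T.colA_neg 3 k hk.1 hne,
      if_neg (by decide), if_neg (by decide), coeff_nil]
  simp [X, Finset.sum_range_succ, Matrix.add_apply, T.P_zero, e1, e2, e3, Matrix.one_apply] at h2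
  exact h2.resolve_right hj

theorem segProd_injective {S : Set ℕ} (hS : T.Closed S) : ∀ m k (f g : ℕ → F),
    k + m = D.nroots → G.segProd S f k m = G.segProd S g k m →
      ∀ r ∈ S, k ≤ r → f r = g r := by
  intro m
  induction m with
  | zero => intro k f g hk _ r hr hkr; have := (hS.1 r hr).1; omega
  | succ m ih =>
    intro k f g hk h r hr hkr
    simp only [segProd] at h
    by_cases hkS : k ∈ S
    · simp only [hkS, if_true] at h
      have hfg : f k = g k := by
        have e : G.full.x k (-(g k) + f k) = G.segProd S g (k + 1) m *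
            (G.segProd S f (k + 1) m)⁻¹ := by
          rw [← G.full.x_add, ← G.full.x_inv, eq_mul_inv_iff_mul_eq, mul_assoc, h,
            inv_mul_cancel_left]
        have hmem : G.full.x k (-(g k) + f k) ∈ G.US F {s | s ∈ S ∧ k + 1 ≤ s} :=
          e ▸ mul_mem (G.segProd_mem S g m (k + 1)) (inv_mem (G.segProd_mem S f m (k + 1)))
        have := G.eq_zero_of_x_mem (hS.1 k hkS) hS.1 hmem
        linear_combination this
      rcases eq_or_lt_of_le hkr with rfl | hlt
      · exact hfg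
      · rw [hfg, mul_right_inj] at h
        exact ih (k + 1) f g (by omega) h r hr hlt
    · simp only [hkS, if_false, one_mul] at h
      exact ih (k + 1) f g (by omega) h r hr (lt_of_le_of_ne hkr fun e => hkS (e ▸ hr))

theorem US_eq_range {S : Set ℕ} (hS : T.Closed S) :
    (G.US F S : Set (GL D.Idx F)) = Set.range fun f => G.segProd S f 0 D.nroots := by
  have e : ({s | s ∈ S ∧ 0 ≤ s} : Set ℕ) = S := by ext; simp
  ext u
  constructor
  · intro hu
    obtain ⟨f, hf⟩ := G.exists_segProd hS D.nroots 0 (zero_add _) u (e.symm ▸ hu)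
    exact ⟨f, hf.symm⟩
  · rintro ⟨f, rfl⟩
    have := G.segProd_mem S f D.nroots 0
    rwa [e] at this

theorem card_US {S : Set ℕ} (hS : T.Closed S) :
    Nat.card (G.US F S) = Nat.card F ^ Nat.card S := by
  classical
  let ext0 : (S → F) → ℕ → F := fun f r => if h : r ∈ S then f ⟨r, h⟩ else 0
  have hmem : ∀ f, G.segProd S (ext0 f) 0 D.nroots ∈ G.US F S := fun f => by
    have := G.segProd_mem S (ext0 f) D.nroots 0
    exact G.US_mono (fun s hs => hs.1) this
  let e : (S → F) → G.US F S := fun f => ⟨_, hmem f⟩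
  have he : Function.Bijective e := by
    constructor
    · intro f g h
      funext r
      have := G.segProd_injective hS D.nroots 0 _ _ (zero_add _) (congrArg Subtype.val h) r r.2
        (Nat.zero_le _)
      simpa [ext0, r.2] using this
    · intro u
      obtain ⟨f, hf⟩ : (u : GL D.Idx F) ∈ Set.range fun f => G.segProd S f 0 D.nroots := by
        rw [← G.US_eq_range hS]; exact u.2
      refine ⟨fun r => f r, Subtype.ext ?_⟩
      show G.segProd S _ 0 D.nroots = _
      rw [← hf]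
      exact G.segProd_congr S _ _ fun r hr _ => by simp [ext0, hr]
  have : Finite S := ((Set.finite_lt_nat D.nroots).subset fun r hr => (hS.1 r hr).1).to_subtype
  rw [← Nat.card_eq_of_bijective e he, Nat.card_fun]

/-- Complementary closed sets give a factorisation. -/
theorem exists_split {S₁ S₂ S : Set ℕ} (h1 : T.Closed S₁) (h2 : T.Closed S₂) (hS : T.Closed S)
    (hu : S = S₁ ∪ S₂) : ∀ m k, k + m = D.nroots → ∀ u ∈ G.US F {s | s ∈ S ∧ k ≤ s},
      ∃ a ∈ G.US F {s | s ∈ S₁ ∧ k ≤ s}, ∃ b ∈ G.US F {s | s ∈ S₂ ∧ k ≤ s}, u = a * b := by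
  intro m
  induction m with
  | zero =>
    intro k hk u hu'
    obtain ⟨f, hf⟩ := G.exists_segProd hS 0 k hk u hu'
    exact ⟨1, one_mem _, 1, one_mem _, by rw [hf, one_mul]; rfl⟩
  | succ m ih =>
    intro k hk u hu'
    classical
    obtain ⟨f, rfl⟩ := G.exists_segProd hS (m + 1) k hk u hu'
    simp only [segProd]
    obtain ⟨a, ha, b, hb, hab⟩ := ih (k + 1) (by omega) _ (G.segProd_mem S f m (k + 1))
    rw [hab]
    have m1 : ∀ {S' : Set ℕ}, G.US F {s | s ∈ S' ∧ k + 1 ≤ s} ≤ G.US F {s | s ∈ S' ∧ k ≤ s} :=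
      fun {_} => G.US_mono fun s hs => ⟨hs.1, by have := hs.2; omega⟩
    by_cases hk1 : k ∈ S
    · simp only [hk1, if_true]
      by_cases hk2 : k ∈ S₁
      · exact ⟨G.full.x k (f k) * a, mul_mem (G.x_mem_US (S := {s | s ∈ S₁ ∧ k ≤ s}) ⟨hk2, le_rfl⟩ _)
          (m1 ha), b, m1 hb, by rw [mul_assoc]⟩
      · have hk3 : k ∈ S₂ := (hu ▸ hk1 : k ∈ S₁ ∪ S₂).resolve_left hk2
        have haS : a ∈ G.US F {s | s ∈ S ∧ k + 1 ≤ s} :=
          G.US_mono (S' := {s | s ∈ S ∧ k + 1 ≤ s}) (fun s hs => ⟨hu ▸ Set.mem_union_left _ hs.1, hs.2⟩) ha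
        have hc := G.conj_US_above hS hk1 (f k) haS
        obtain ⟨a', ha', b', hb', hab'⟩ := ih (k + 1) (by omega) _ hc
        refine ⟨a', m1 ha', b' * G.full.x k (f k) * b,
          mul_mem (mul_mem (m1 hb') (G.x_mem_US (S := {s | s ∈ S₂ ∧ k ≤ s}) ⟨hk3, le_rfl⟩ _))
            (m1 hb), ?_⟩
        rw [show a' * (b' * G.full.x k (f k) * b) = a' * b' * G.full.x k (f k) * b by group, ← hab']
        group
    · simp only [hk1, if_false, one_mul]
      exact ⟨a, m1 ha, b, m1 hb, rfl⟩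

theorem US_split {S₁ S₂ S : Set ℕ} (h1 : T.Closed S₁) (h2 : T.Closed S₂) (hS : T.Closed S)
    (hu : S = S₁ ∪ S₂) {u : GL D.Idx F} (hm : u ∈ G.US F S) :
    ∃ a ∈ G.US F S₁, ∃ b ∈ G.US F S₂, u = a * b := by
  obtain ⟨a, ha, b, hb, e⟩ := G.exists_split h1 h2 hS hu D.nroots 0 (zero_add _) u
    (G.US_mono (S' := {s | s ∈ S ∧ 0 ≤ s}) (fun s hs => ⟨hs, Nat.zero_le _⟩) hm)
  exact ⟨a, G.US_mono (fun s hs => hs.1) ha, b, G.US_mono (fun s hs => hs.1) hb, e⟩

theorem segProd_eq_word (f : ℕ → F) : ∀ m k,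
    G.segProd {r | IsPos D r} f k m =
      ((((List.range' k m).filter fun r => decide (IsPos D r)).map
        fun r => G.full.x r (f r)).prod) := by
  intro m
  induction m with
  | zero => intro k; rfl
  | succ m ih =>
    intro k
    rw [List.range'_succ, List.filter_cons]
    simp only [segProd, ih (k + 1), Set.mem_setOf_eq]
    by_cases h : IsPos D k <;> simp [h]

theorem posRoots_eq : D.posRoots = (List.range D.nroots).filter fun r => decide (IsPos D r) :=
  List.filter_congr fun r _ => by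
    rw [decide_eq_decide]
    exact G.isPosRoot_iff

theorem coe_segProd_pos (f : ℕ → F) :
    ((G.segProd {r | IsPos D r} f 0 D.nroots : GL D.Idx F) : Matrix D.Idx D.Idx F) =
      D.wordMat F (D.posRoots.map fun r => (r, f r)) := by
  rw [← G.full.coe_word, G.segProd_eq_word, G.posRoots_eq, List.range_eq_range', List.map_map]
  rfl

theorem posUnipotent_eq : D.posUnipotent F = G.US F {r | IsPos D r} := by
  unfold ChevalleyDatum.posUnipotent US
  congr 1
  ext g
  simp only [Set.mem_setOf_eq, G.full.eq_x, G.isPosRoot_iff]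
  exact ⟨fun ⟨r, t, h1, h2⟩ => ⟨r, h1, t, h2⟩, fun ⟨r, h1, t, h2⟩ => ⟨r, t, h1, h2⟩⟩

theorem negUnipotent_eq :
    D.negUnipotent F = G.US F {r | r < D.nroots ∧ ¬ D.nroots ≤ 2 * r} := by
  unfold ChevalleyDatum.negUnipotent US
  congr 1
  ext g
  simp only [Set.mem_setOf_eq, G.full.eq_x, G.isNegRoot_iff]
  exact ⟨fun ⟨r, t, h1, h2⟩ => ⟨r, h1, t, h2⟩, fun ⟨r, h1, t, h2⟩ => ⟨r, t, h1, h2⟩⟩

theorem card_pos : Nat.card {r | IsPos D r} = D.nroots / 2 := by
  have he := G.full.cert.even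
  have : {r | IsPos D r} = ((Finset.Ico (D.nroots / 2) D.nroots : Finset ℕ) : Set ℕ) := by
    ext r
    simp [IsPos]
    omega
  rw [this, Nat.card_coe_set_eq, Set.ncard_coe_finset, Nat.card_Ico]
  omega

/-- Triangular position of a basis vector. -/
def lvl (D : ChevalleyDatum) (b : ℕ) : ℕ :=
  if b < D.nroots then (if D.nroots ≤ 2 * b then b + D.rank else b)
  else b - D.nroots / 2

theorem x_tri {r : ℕ} (hr : IsPos D r) (t : F) (x y : D.Idx)
    (h : lvl D (code x) ≤ lvl D (code y)) :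
    ((G.full.x r t : GL D.Idx F) : Matrix D.Idx D.Idx F) x y =
      (1 : Matrix D.Idx D.Idx F) x y := by
  have he := G.full.cert.even
  rw [G.full.coe_x hr.1]
  have hz : ∀ m, 1 ≤ m → m ≤ 3 → T.P m r x y = 0 := by
    intro m h1 h3
    simp only [P, show m ≠ 0 by omega, h3, if_false, if_true, A, matOf_apply]
    refine coeff_eq_zero_of_forall _ _ fun p hp e => ?_
    rw [← e] at h
    revert h
    have hy := code_lt y
    obtain ⟨hr1, hr2⟩ := hr
    rcases Nat.lt_or_ge (code y) D.nroots with hyn | hyn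
    · by_cases hys : code y = r
      · rw [hys, T.colA_self m r hr1] at hp; simp at hp
      by_cases hyneg : code y = negR D r
      · rw [hyneg, T.colA_neg m r hr1 (G.full.cert.negR_ne hr1)] at hp
        rw [hyneg]
        have hn := G.negR_pos ⟨hr1, hr2⟩
        rw [negR_eq] at hn ⊢
        unfold lvl
        rw [if_pos (show D.nroots - 1 - r < D.nroots by omega), if_neg hn]
        split_ifs at hp with hm1 hm2
        · obtain ⟨g1, g2⟩ := T.mem_corVec hp
          change p.1 < D.nroots + D.rank at g2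
          intro hle
          rw [if_neg (show ¬ p.1 < D.nroots by omega)] at hle
          omega
        · simp only [List.mem_singleton] at hp
          intro hle
          rw [hp, if_pos hr1, if_pos hr2] at hle
          omega
        · simp at hp
      rw [T.colA_chain m r _ hyn hys hyneg] at hp
      have he' := Cert.mem_drop_take hp
      have g1 := ((G.ord_spec ⟨hr1, hr2⟩).1 _ hyn p (List.mem_of_getElem? he')).1
      have g2 := (G.full.cert.ent_spec hr1 hyn he').1
      unfold lvl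
      intro hle
      rw [if_pos g2, if_pos hyn] at hle
      split_ifs at hle <;> omega
    · rw [T.colA_h m r _ hyn] at hp
      change code y < D.nroots + D.rank at hy
      unfold lvl
      intro hle
      rw [if_neg (show ¬ code y < D.nroots by omega)] at hle
      split_ifs at hp
      · simp only [List.mem_singleton] at hp
        rw [hp, if_pos hr1, if_pos hr2] at hle
        omega
      · simp at hp
  simp [X, Finset.sum_range_succ, Matrix.add_apply, T.P_zero, hz 1 le_rfl (by omega),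
    hz 2 (by omega) (by omega), hz 3 (by omega) le_rfl, Matrix.one_apply]

theorem unipotent_pow {g : GL D.Idx F} (hg : g ∈ G.US F {r | IsPos D r}) :
    ((g : Matrix D.Idx D.Idx F) - 1) ^ (D.rank + D.nroots) = 0 := by
  let Low : Matrix D.Idx D.Idx F → Prop := fun M =>
    ∀ x y, lvl D (code x) ≤ lvl D (code y) → M x y = 0
  have hmul : ∀ M N, Low M → Low N → Low (M * N) := by
    intro M N hM hN x y h
    rw [Matrix.mul_apply]
    refine Finset.sum_eq_zero fun z _ => ?_
    by_cases hz : lvl D (code x) ≤ lvl D (code z)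
    · rw [hM x z hz, zero_mul]
    · rw [hN z y (by omega), mul_zero]
  have hadd : ∀ M N, Low M → Low N → Low (M + N) := fun M N hM hN x y h => by
    rw [Matrix.add_apply, hM x y h, hN x y h, add_zero]
  have key : Low ((g : Matrix D.Idx D.Idx F) - 1) ∧
      Low (((g⁻¹ : GL D.Idx F) : Matrix D.Idx D.Idx F) - 1) := by
    have hstep : ∀ a b : Matrix D.Idx D.Idx F, Low (a - 1) → Low (b - 1) → Low (a * b - 1) := by
      intro a b ha hb
      have e : a * b - 1 = (a - 1) * (b - 1) + ((a - 1) + (b - 1)) := by noncomm_ring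
      rw [e]
      exact hadd _ _ (hmul _ _ ha hb) (hadd _ _ ha hb)
    induction hg using Subgroup.closure_induction with
    | mem g hg =>
      obtain ⟨r, hr, t, rfl⟩ := hg
      rw [G.full.x_inv]
      exact ⟨fun x y h => by rw [Matrix.sub_apply, G.x_tri hr t x y h, sub_self],
        fun x y h => by rw [Matrix.sub_apply, G.x_tri hr _ x y h, sub_self]⟩
    | one => simp [Low]
    | mul a b _ _ ha hb =>
      rw [_root_.mul_inv_rev, Units.val_mul, Units.val_mul]
      exact ⟨hstep _ _ ha.1 hb.1, hstep _ _ hb.2 ha.2⟩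
    | inv a _ ha => rw [inv_inv]; exact ⟨ha.2, ha.1⟩
  have hpow : ∀ (m : ℕ) (x y : D.Idx), lvl D (code x) < lvl D (code y) + m →
      (((g : Matrix D.Idx D.Idx F) - 1) ^ m) x y = 0 := by
    intro m
    induction m with
    | zero =>
      intro x y h
      rw [pow_zero, Matrix.one_apply_ne]
      rintro rfl
      omega
    | succ m ih =>
      intro x y h
      rw [pow_succ, Matrix.mul_apply]
      refine Finset.sum_eq_zero fun z _ => ?_
      by_cases hz : lvl D (code z) ≤ lvl D (code y)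
      · rw [key.1 z y hz, mul_zero]
      · rw [ih x z (by omega), zero_mul]
  ext x y
  refine hpow _ x y ?_
  have := code_lt x
  change code x < D.nroots + D.rank at this
  unfold lvl
  split_ifs <;> omega

/-- The `n`-th term of the central series. -/
def series (F : Type*) [Field F] (n : ℕ) : Subgroup (GL D.Idx F) :=
  G.US F {s | IsPos D s ∧ n ≤ s}

theorem series_comm {n : ℕ} {g u : GL D.Idx F} (hg : g ∈ G.series F 0) (hu : u ∈ G.series F n) :
    g * u * g⁻¹ * u⁻¹ ∈ G.series F (n + 1) := by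
  have hnorm : ∀ (k : ℕ) {g u : GL D.Idx F}, g ∈ G.series F 0 → u ∈ G.series F k →
      g * u * g⁻¹ ∈ G.series F k ∧ g⁻¹ * u * g ∈ G.series F k := by
    intro k g u hg
    induction hg using Subgroup.closure_induction generalizing u with
    | mem g hg =>
      obtain ⟨r, ⟨hr, -⟩, t, rfl⟩ := hg
      intro hu
      have h1 := G.conj_US_above G.closed_pos (k := k) hr t (u := u) hu
      have h2 := G.conj_US_above G.closed_pos (k := k) hr (-t) (u := u) hu
      rw [← G.full.x_inv, inv_inv] at h2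
      exact ⟨h1, h2⟩
    | one => intro hu; simp [hu]
    | mul a b _ _ ha hb =>
      intro hu
      refine ⟨?_, ?_⟩
      · rw [show a * b * u * (a * b)⁻¹ = a * (b * u * b⁻¹) * a⁻¹ by group]
        exact (ha (hb hu).1).1
      · rw [show (a * b)⁻¹ * u * (a * b) = b⁻¹ * (a⁻¹ * u * a) * b by group]
        exact (hb (ha hu).2).2
    | inv a _ ha => intro hu; exact ⟨by simpa using (ha hu).2, by simpa using (ha hu).1⟩
  have hgen : ∀ s, IsPos D s → n ≤ s → ∀ v : F, ∀ g ∈ G.series F 0,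
      g * G.full.x s v * g⁻¹ * (G.full.x s v)⁻¹ ∈ G.series F (n + 1) := by
    intro s hs hns v g hg
    induction hg using Subgroup.closure_induction with
    | mem g hg =>
      obtain ⟨r, ⟨hr, -⟩, t, rfl⟩ := hg
      have h := G.conj_pos (F := F) hr hs t v (S := {c | IsPos D c ∧ n + 1 ≤ c})
        fun _ c hc => ⟨(G.comm_keys hr hs hc).1, by
          have := (G.comm_keys hr hs hc).2.2; omega⟩
      have h' := (hnorm (n + 1) (G.x_mem_US (S := {c | IsPos D c ∧ 0 ≤ c})
        ⟨hs, Nat.zero_le _⟩ v) h).1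
      rw [show G.full.x r t * G.full.x s v * (G.full.x r t)⁻¹ * (G.full.x s v)⁻¹ =
        G.full.x s v * ((G.full.x s v)⁻¹ * (G.full.x r t * G.full.x s v * (G.full.x r t)⁻¹)) *
          (G.full.x s v)⁻¹ by group]
      exact h'
    | one => simp
    | mul a b ha' hb' ha hb =>
      rw [show a * b * G.full.x s v * (a * b)⁻¹ * (G.full.x s v)⁻¹ =
        (a * (b * G.full.x s v * b⁻¹ * (G.full.x s v)⁻¹) * a⁻¹) *
          (a * G.full.x s v * a⁻¹ * (G.full.x s v)⁻¹) by group]
      exact mul_mem (hnorm _ ha' hb).1 ha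
    | inv a ha' ha =>
      rw [show a⁻¹ * G.full.x s v * a⁻¹⁻¹ * (G.full.x s v)⁻¹ =
        a⁻¹ * (a * G.full.x s v * a⁻¹ * (G.full.x s v)⁻¹)⁻¹ * a by group]
      exact (hnorm _ ha' (inv_mem ha)).2
  have h0 : ∀ {v}, v ∈ G.series F n → v ∈ G.series F 0 := fun hv =>
    G.US_mono (S' := {s | IsPos D s ∧ 0 ≤ s}) (fun s hs => ⟨hs.1, Nat.zero_le _⟩) hv
  induction hu using Subgroup.closure_induction with
  | mem u hu => obtain ⟨s, ⟨hs, hns⟩, v, rfl⟩ := hu; exact hgen s hs hns v g hg
  | one => simp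
  | mul a b ha' hb' ha hb =>
    rw [show g * (a * b) * g⁻¹ * (a * b)⁻¹ =
      (g * a * g⁻¹ * a⁻¹) * (a * (g * b * g⁻¹ * b⁻¹) * a⁻¹) by group]
    exact mul_mem ha (hnorm _ (h0 ha') hb).1
  | inv a ha' ha =>
    rw [show g * a⁻¹ * g⁻¹ * a⁻¹⁻¹ = a⁻¹ * (g * a * g⁻¹ * a⁻¹)⁻¹ * a by group]
    exact (hnorm _ (h0 ha') (inv_mem ha)).2

theorem isNilpotent_US : Group.IsNilpotent (G.US F {r | IsPos D r}) := by
  rw [Subgroup.nilpotent_iff_finite_descending_central_series]
  refine ⟨D.nroots, fun n => (G.series F n).subgroupOf _, ⟨?_, ?_⟩, ?_⟩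
  · rw [Subgroup.subgroupOf_eq_top]
    exact G.US_mono fun s hs => ⟨hs, Nat.zero_le _⟩
  · intro x n hx g
    rw [Subgroup.mem_subgroupOf] at hx ⊢
    have h := inv_mem (G.series_comm (g := (g : GL D.Idx F))
      (G.US_mono (S' := {s | IsPos D s ∧ 0 ≤ s}) (fun s hs => ⟨hs, Nat.zero_le _⟩) g.2) hx)
    simpa [mul_assoc, commutatorElement_def] using h
  · rw [eq_bot_iff]
    intro u hu
    rw [Subgroup.mem_subgroupOf] at hu
    obtain ⟨f, hf⟩ := G.exists_segProd G.closed_pos 0 D.nroots (add_zero _) (u : GL D.Idx F) hu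
    exact Subgroup.mem_bot.mpr (Subtype.ext hf)

end Good

end Tab

end CfsgLib.Chev
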