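import Cfsg.Agent.Chev.UG2
import Cfsg.Agent.Chev.UB2
import Cfsg.Agent.Chev.UD4
import Cfsg.Agent.Chev.UF4
import Cfsg.Agent.Chev.UE6
import Cfsg.Agent.Chev.UE7
import Cfsg.Agent.Chev.UE8
import Cfsg.Agent.Chev.All
import Cfsg.Agent.Chev.Unipotent

/-! Every tabulated datum has a table with all checks. -/

set_option autoImplicit false

namespace CfsgLib.Chev

open Cfsg.Lie

theorem good_G2 : G2Data.tab.Good :=
  ⟨full_G2, G2Data.ord_all⟩

theorem good_B2 : B2Data.tab.Good :=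
  ⟨full_B2, B2Data.ord_all⟩

theorem good_D4 : D4Data.tab.Good :=
  ⟨full_D4, D4Data.ord_all⟩

theorem good_F4 : F4Data.tab.Good :=
  ⟨full_F4, F4Data.ord_all⟩

theorem good_E6 : E6Data.tab.Good :=
  ⟨full_E6, E6Data.ord_all⟩

theorem good_E7 : E7Data.tab.Good :=
  ⟨full_E7, E7Data.ord_all⟩

theorem good_E8 : E8Data.tab.Good :=
  ⟨full_E8, E8Data.ord_all⟩

theorem exists_good {D : ChevalleyDatum}
    (hD : D ∈ [chevG2, chevB2, chevD4, chevF4, chevE6, chevE7, chevE8]) :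
    ∃ T : Tab D, T.Good := by
  simp only [List.mem_cons, List.not_mem_nil, or_false] at hD
  rcases hD with rfl | rfl | rfl | rfl | rfl | rfl | rfl
  exacts [⟨_, good_G2⟩, ⟨_, good_B2⟩, ⟨_, good_D4⟩, ⟨_, good_F4⟩, ⟨_, good_E6⟩, ⟨_, good_E7⟩,
    ⟨_, good_E8⟩]

end CfsgLib.Chev
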