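import Cfsg.Agent.Chev.SteinbergExt
import Cfsg.Agent.Chev.GoodAll

/-! Witnesses for the conjugation of root generators by `n_p(t)`, for each type. -/

set_option autoImplicit false

namespace CfsgLib.Chev

open Cfsg.Lie

theorem wits_G2 : G2Data.tab.chkWits [((3, 11, [0, 1, 0]), 0, 8, [1, 0, 1]), ((1, 11, [1, 0, 1]), 0, 10, [1, 0])] = true := by decide +kernel

theorem wits_B2 : B2Data.tab.chkWits [((1, 7, [0, 1, 0]), 0, 6, [1]), ((0, 6, [1, 0, 1]), 0, 5, [1, 0])] = true := by decide +kernel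

theorem wits_D4 : D4Data.tab.chkWits [((7, 21, [2, 1, 0]), 1, 17, [3, 1, 2]), ((5, 19, [0, 1]), 4, 18, [0]), ((4, 21, [1, 2, 0]), 1, 20, [3, 1, 0]), ((4, 20, [1, 3, 0]), 1, 21, [2, 1, 0])] = true := by decide +kernel

theorem wits_F4 : F4Data.tab.chkWits [((17, 37, [2, 1, 0]), 5, 38, [3, 2, 1]), ((14, 34, [0, 1]), 10, 35, [1, 2, 0]), ((13, 41, [1, 2, 0]), 6, 34, [2, 1, 0]), ((17, 31, [2, 3, 1]), 5, 41, [2, 1, 0])] = true := by decide +kernel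

theorem wits_E6 : E6Data.tab.chkWits [((28, 58, [3, 2, 0]), 10, 50, [3, 2, 1]), ((28, 50, [3, 2, 1]), 10, 58, [3, 2, 0]), ((15, 57, [0, 2]), 14, 56, [0]), ((14, 58, [2, 3, 0]), 13, 57, [2, 0]), ((24, 48, [3, 4, 1]), 12, 58, [3, 2, 0]), ((31, 41, [4, 5, 3]), 22, 48, [4, 3, 1])] = true := by decide +kernel

theorem wits_E7 : E7Data.tab.chkWits [((51, 95, [3, 2, 0]), 26, 83, [3, 2, 1]), ((51, 83, [3, 2, 1]), 26, 95, [3, 2, 0]), ((32, 94, [0, 2]), 31, 93, [0]), ((31, 95, [2, 3, 0]), 30, 94, [2, 0]), ((46, 80, [3, 4, 1]), 29, 95, [3, 2, 0]), ((55, 71, [4, 5, 3]), 44, 80, [4, 3, 1]), ((58, 68, [5, 6, 4]), 53, 71, [5, 4, 3])] = true := by decide +kernel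

theorem wits_E8 : E8Data.tab.chkWits [((103, 164, [3, 2, 0]), 70, 147, [3, 2, 1]), ((103, 147, [3, 2, 1]), 70, 164, [3, 2, 0]), ((77, 163, [0, 2]), 76, 162, [0]), ((76, 164, [2, 3, 0]), 75, 163, [2, 0]), ((97, 143, [3, 4, 1]), 74, 164, [3, 2, 0]), ((108, 132, [4, 5, 3]), 95, 143, [4, 3, 1]), ((112, 128, [5, 6, 4]), 106, 132, [5, 4, 3]), ((115, 125, [6, 7, 5]), 110, 128, [6, 5, 4])] = true := by decide +kernel

theorem exists_good_wit {D : ChevalleyDatum}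
    (hD : D ∈ [chevG2, chevB2, chevD4, chevF4, chevE6, chevE7, chevE8]) :
    ∃ T : Tab D, T.Good ∧ T.HasWit := by
  simp only [List.mem_cons, List.not_mem_nil, or_false] at hD
  rcases hD with rfl | rfl | rfl | rfl | rfl | rfl | rfl
  exacts [⟨_, good_G2, _, wits_G2⟩, ⟨_, good_B2, _, wits_B2⟩, ⟨_, good_D4, _, wits_D4⟩,
    ⟨_, good_F4, _, wits_F4⟩, ⟨_, good_E6, _, wits_E6⟩, ⟨_, good_E7, _, wits_E7⟩,
    ⟨_, good_E8, _, wits_E8⟩]

end CfsgLib.Chev
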