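import Cfsg.Agent.Chev.SteinbergPres
import Cfsg.Agent.Chev.SteinbergData
import Cfsg.Agent.Chev.SimpleData

/-! Perfectness of the group presented by (R1), (R2). -/

set_option autoImplicit false

namespace CfsgLib.Chev

open Cfsg.Lie

theorem commutator_steinbergCover {K : Type*} [Field K] (D : ChevalleyDatum)
    (hD : D ∈ [chevG2, chevB2, chevD4, chevF4, chevE6, chevE7, chevE8])
    (hK : D ∈ [chevB2, chevG2] → ∃ x : K, x ≠ 0 ∧ x ≠ 1) :
    commutator (D.SteinbergCover K) = ⊤ := by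
  suffices h : ∀ (T : Tab D) (G : T.Good) (_ : T.HasWit) (nf : Bool) (ws : List (Option (ℕ × ℕ))),
      T.chkPerfAll nf ws = true → (nf = true → ∃ a : K, a ≠ 0 ∧ a ≠ 1) →
      commutator (D.SteinbergCover K) = ⊤ by
    simp only [List.mem_cons, List.not_mem_nil, or_false] at hD
    rcases hD with rfl | rfl | rfl | rfl | rfl | rfl | rfl
    · exact h _ good_G2 ⟨_, wits_G2⟩ true _ perf_G2 fun _ => hK (by simp)
    · exact h _ good_B2 ⟨_, wits_B2⟩ true _ perf_B2 fun _ => hK (by simp)
    · exact h _ good_D4 ⟨_, wits_D4⟩ false _ perf_D4 fun e => Bool.noConfusion e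
    · exact h _ good_F4 ⟨_, wits_F4⟩ false _ perf_F4 fun e => Bool.noConfusion e
    · exact h _ good_E6 ⟨_, wits_E6⟩ false _ perf_E6 fun e => Bool.noConfusion e
    · exact h _ good_E7 ⟨_, wits_E7⟩ false _ perf_E7 fun e => Bool.noConfusion e
    · exact h _ good_E8 ⟨_, wits_E8⟩ false _ perf_E8 fun e => Bool.noConfusion e
  intro T G hW nf ws hws hF
  exact (G.scData (G.scθ K) (fun r t hr => G.coe_scθ hr t)).commutator_eq_top hW hws hF

end CfsgLib.Chev
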