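import Cfsg.Agent.Chev.SteinbergFinite
import Cfsg.Agent.Chev.SteinbergData

/-! Over a finite field the group of (R1), (R2) is the group of (R1), (R2), (R3). -/

set_option autoImplicit false

namespace CfsgLib.Chev

open Cfsg.Lie Matrix
open scoped MatrixGroups

theorem cover_iso {K : Type*} [Field K] [Finite K] {D : ChevalleyDatum}
    (hD : D ∈ [chevG2, chevB2, chevD4, chevF4, chevE6, chevE7, chevE8]) :
    ∃ e : D.SteinbergCover K ≃* D.SteinbergGroup K,
      ∀ (r : ℕ) (t : K), e (D.scGen K r t) = D.stGen K r t := by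
  obtain ⟨T, G, hW⟩ := exists_good_wit hD
  let S := G.scData (G.scθ K) (fun r t hr => G.coe_scθ hr t)
  have hH : ∀ (r : ℕ) (t : K), r < D.nroots →
      PresentedGroup.mk (D.steinbergRelsAB K) (D.stH r t) = S.nbR r t * S.nbR r (-1) := by
    intro r t hr
    simp [ChevalleyDatum.stH, ChevalleyDatum.stWord, ChevalleyDatum.hWord, ChevalleyDatum.nWord,
      Tab.Good.StData.nbR, G.full.cert.neg_eq hr, S, Tab.Good.scData, ChevalleyDatum.scGen,
      mul_assoc]
  have hrels : ∀ g ∈ D.steinbergRels K, PresentedGroup.mk (D.steinbergRelsAB K) g = 1 := by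
    rintro g (hg | ⟨r, t, u, hr, ht, hu, rfl⟩)
    · exact PresentedGroup.one_of_mem hg
    · rw [map_mul, map_mul, map_inv, hH r _ hr, hH r _ hr, hH r _ hr, mul_inv_eq_one]
      exact S.hbR_mul hW hr ht hu
  have hrels' : ∀ g ∈ D.steinbergRelsAB K, PresentedGroup.mk (D.steinbergRels K) g = 1 :=
    fun g hg => PresentedGroup.one_of_mem (Or.inl hg)
  have key : ∀ {A B : Set (FreeGroup (Fin D.nroots × K))}
      (h : ∀ g ∈ B, PresentedGroup.mk A g = 1) (g : FreeGroup (Fin D.nroots × K)),
      QuotientGroup.lift (Subgroup.normalClosure B) (PresentedGroup.mk A)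
        (Subgroup.normalClosure_le_normal fun a ha => MonoidHom.mem_ker.mpr (h a ha))
        (PresentedGroup.mk B g) = PresentedGroup.mk A g := fun _ _ => rfl
  let f : D.SteinbergCover K →* D.SteinbergGroup K :=
    QuotientGroup.lift _ (PresentedGroup.mk (D.steinbergRels K))
      (Subgroup.normalClosure_le_normal fun a ha => MonoidHom.mem_ker.mpr (hrels' a ha))
  let g : D.SteinbergGroup K →* D.SteinbergCover K :=
    QuotientGroup.lift _ (PresentedGroup.mk (D.steinbergRelsAB K))
      (Subgroup.normalClosure_le_normal fun a ha => MonoidHom.mem_ker.mpr (hrels a ha))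
  refine ⟨f.toMulEquiv g ?_ ?_, fun r t => rfl⟩
  · ext x; rfl
  · ext x; rfl

end CfsgLib.Chev
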