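import Cfsg.Agent.Chev.SteinbergExt
import Cfsg.Agent.Chev.Perfect
import Cfsg.Prelude.Def_SteinbergCover

/-!
Steinberg's presented groups as groups with relations (R1), (R2); perfectness; centres.
-/

set_option autoImplicit false

namespace CfsgLib.Chev

open Cfsg.Lie Matrix
open scoped MatrixGroups

namespace Tab

variable {D : ChevalleyDatum}

namespace Good

variable {T : Tab D} (G : T.Good) {K : Type*} [Field K]
include G

/-- The free group on the generators, mapped to the Chevalley group. -/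
def freeMap (K : Type*) [Field K] : FreeGroup (Fin D.nroots × K) →* D.group K :=
  FreeGroup.lift fun p => ⟨G.full.x p.1.val p.2, G.x_mem_group _ _⟩

theorem freeMap_stX (r : ℕ) (t : K) :
    ((G.freeMap K (D.stX r t) : D.group K) : GL D.Idx K) = G.full.x r t := by
  by_cases hr : r < D.nroots
  · simp [freeMap, ChevalleyDatum.stX, hr]
  · simp [ChevalleyDatum.stX, hr, Full.x]

theorem freeMap_stWord (w : List (ℕ × K)) :
    ((G.freeMap K (D.stWord w) : D.group K) : GL D.Idx K) =
      (w.map fun p => G.full.x p.1 p.2).prod := by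
  induction w with
  | nil => simp [ChevalleyDatum.stWord]
  | cons p w ih =>
    simp only [ChevalleyDatum.stWord, List.map_cons, List.prod_cons, map_mul,
      Subgroup.coe_mul] at ih ⊢
    rw [ih, G.freeMap_stX]

theorem freeMap_stH {r : ℕ} (hr : r < D.nroots) (t : K) :
    ((G.freeMap K (D.stH r t) : D.group K) : GL D.Idx K) = G.full.hr r t := by
  rw [ChevalleyDatum.stH, G.freeMap_stWord]
  simp [ChevalleyDatum.hWord, ChevalleyDatum.nWord, Full.hr, Full.nr, G.full.cert.neg_eq hr,
    mul_assoc]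

theorem freeMap_relsAB : ∀ g ∈ D.steinbergRelsAB K, G.freeMap K g = 1 := by
  rintro g (⟨r, t₁, t₂, -, rfl⟩ | ⟨r, s, t, u, hr, hs, hne, hne', rfl⟩) <;> apply Subtype.ext
  · simp [freeMap_stX, G.full.x_add, G.full.x_inv, G.full.x_zero]
  · rw [G.full.cert.neg_eq hr] at hne'
    simp only [map_mul, map_inv, Subgroup.coe_mul, InvMemClass.coe_inv, OneMemClass.coe_one,
      G.freeMap_stX, G.freeMap_stWord]
    rw [mul_inv_eq_one, mul_assoc, G.full.x_comm hr hs hne hne' t u]
    group

theorem freeMap_rels : ∀ g ∈ D.steinbergRels K, G.freeMap K g = 1 := by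
  rintro g (hg | ⟨r, t₁, t₂, hr, h1, h2, rfl⟩)
  · exact G.freeMap_relsAB g hg
  · apply Subtype.ext
    simp only [map_mul, map_inv, Subgroup.coe_mul, InvMemClass.coe_inv, OneMemClass.coe_one,
      G.freeMap_stH hr]
    rw [G.full.hr_mul hr h1 h2, mul_inv_cancel]

/-- The map from the group presented by (R1), (R2). -/
def scθ (K : Type*) [Field K] : D.SteinbergCover K →* D.group K :=
  PresentedGroup.toGroup (f := fun p => ⟨G.full.x p.1.val p.2, G.x_mem_group _ _⟩)
    G.freeMap_relsAB

/-- The map from Steinberg's presented group. -/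
def stθ (K : Type*) [Field K] : D.SteinbergGroup K →* D.group K :=
  PresentedGroup.toGroup (f := fun p => ⟨G.full.x p.1.val p.2, G.x_mem_group _ _⟩)
    G.freeMap_rels

theorem coe_scθ {r : ℕ} (hr : r < D.nroots) (t : K) :
    ((G.scθ K (D.scGen K r t) : GL D.Idx K) : Matrix D.Idx D.Idx K) = D.x K r t := by
  rw [← G.full.coe_x']
  congr 1
  exact G.freeMap_stX r t

theorem coe_stθ {r : ℕ} (hr : r < D.nroots) (t : K) :
    ((G.stθ K (D.stGen K r t) : GL D.Idx K) : Matrix D.Idx D.Idx K) = D.x K r t := by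
  rw [← G.full.coe_x']
  congr 1
  exact G.freeMap_stX r t

theorem θ_gen {E : Type*} [Group E] {θ : E →* D.group K} {gen : ℕ → K → E}
    (h0 : ∀ r t, ¬ r < D.nroots → gen r t = 1)
    (hθ : ∀ (r : ℕ) (t : K), r < D.nroots →
      ((θ (gen r t) : GL D.Idx K) : Matrix D.Idx D.Idx K) = D.x K r t) (r : ℕ) (t : K) :
    (θ (gen r t) : GL D.Idx K) = G.full.x r t := by
  by_cases hr : r < D.nroots
  · exact G.full.eq_x.mp (hθ r t hr)
  · simp [h0 r t hr, Full.x, hr]

/-- The group presented by (R1), (R2) with any map to matrices. -/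
def scData (θ : D.SteinbergCover K →* D.group K)
    (hθ : ∀ (r : ℕ) (t : K), r < D.nroots →
      ((θ (D.scGen K r t) : GL D.Idx K) : Matrix D.Idx D.Idx K) = D.x K r t) :
    G.StData K (D.SteinbergCover K) where
  xb := D.scGen K
  θ := (D.group K).subtype.comp θ
  θ_x := G.θ_gen (fun r t hr => by simp [ChevalleyDatum.scGen, ChevalleyDatum.stX, hr]) hθ
  add r hr t u := by
    simp only [ChevalleyDatum.scGen, ← map_mul]
    exact (PresentedGroup.mk_eq_mk_of_mul_inv_mem (Or.inl ⟨r, t, u, hr, rfl⟩))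
  comm r hr s hs h1 h2 t u := by
    rw [← G.full.cert.commWord_eq hr hs]
    simp only [ChevalleyDatum.scGen, ← map_mul, ← map_inv]
    rw [← Function.comp_def (PresentedGroup.mk _) (fun p : ℕ × K => D.stX p.1 p.2),
      ← List.map_map, ← map_list_prod]
    refine PresentedGroup.mk_eq_mk_of_mul_inv_mem (Or.inr ⟨r, s, t, u, hr, hs, h1, ?_, rfl⟩)
    rw [G.full.cert.neg_eq hr]; exact h2
  gen := by
    rw [eq_top_iff, ← PresentedGroup.closure_range_of]
    refine Subgroup.closure_mono ?_
    rintro _ ⟨⟨r, t⟩, rfl⟩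
    exact ⟨r.val, r.isLt, t, by simp [ChevalleyDatum.scGen, ChevalleyDatum.stX]; rfl⟩

/-- Steinberg's presented group with any map to matrices. -/
def stData (θ : D.SteinbergGroup K →* D.group K)
    (hθ : ∀ (r : ℕ) (t : K), r < D.nroots →
      ((θ (D.stGen K r t) : GL D.Idx K) : Matrix D.Idx D.Idx K) = D.x K r t) :
    G.StData K (D.SteinbergGroup K) where
  xb := D.stGen K
  θ := (D.group K).subtype.comp θ
  θ_x := G.θ_gen (fun r t hr => by simp [ChevalleyDatum.stGen, ChevalleyDatum.stX, hr]) hθ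
  add r hr t u := by
    simp only [ChevalleyDatum.stGen, ← map_mul]
    exact (PresentedGroup.mk_eq_mk_of_mul_inv_mem (Or.inl (Or.inl ⟨r, t, u, hr, rfl⟩)))
  comm r hr s hs h1 h2 t u := by
    rw [← G.full.cert.commWord_eq hr hs]
    simp only [ChevalleyDatum.stGen, ← map_mul, ← map_inv]
    rw [← Function.comp_def (PresentedGroup.mk _) (fun p : ℕ × K => D.stX p.1 p.2),
      ← List.map_map, ← map_list_prod]
    refine PresentedGroup.mk_eq_mk_of_mul_inv_mem
      (Or.inl (Or.inr ⟨r, s, t, u, hr, hs, h1, ?_, rfl⟩))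
    rw [G.full.cert.neg_eq hr]; exact h2
  gen := by
    rw [eq_top_iff, ← PresentedGroup.closure_range_of]
    refine Subgroup.closure_mono ?_
    rintro _ ⟨⟨r, t⟩, rfl⟩
    exact ⟨r.val, r.isLt, t, by simp [ChevalleyDatum.stGen, ChevalleyDatum.stX]; rfl⟩

/-- The centre of the Chevalley group is trivial. -/
theorem center_group : Subgroup.center (D.group K) = ⊥ := by
  refine le_bot_iff.mp ?_
  rw [← G.normalCore_borel (F := K)]
  refine Subgroup.normal_le_normalCore.mpr fun z hz => ?_
  have hz' : z ∈ Subgroup.normalizer ((G.bnPair K).parabolic ∅ : Set (D.group K)) :=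
    Subgroup.mem_normalizer_iff.mpr fun x => by
      rw [← Subgroup.mem_center_iff.mp hz x, mul_inv_cancel_right]
  rw [CfsgLib.BN.normalizer_parabolic _ (Set.empty_subset _)] at hz'
  simpa [Cfsg.BNPair.parabolic, bnPair] using hz'

namespace StData

variable {G} {E : Type*} [Group E] (S : G.StData K E) (hW : T.HasWit)
include S

theorem θ_mem (g : E) : S.θ g ∈ D.group K := by
  have hg : g ∈ Subgroup.closure {g | ∃ r < D.nroots, ∃ t, g = S.xb r t} := by
    rw [S.gen]; exact Subgroup.mem_top g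
  refine ((Subgroup.closure_le ((D.group K).comap S.θ)).mpr ?_) hg
  rintro _ ⟨r, hr, t, rfl⟩
  rw [SetLike.mem_coe, Subgroup.mem_comap, S.θ_x]
  exact G.x_mem_group r t

theorem θ_range : S.θ.range = D.group K := by
  refine le_antisymm ?_ (G.group_le_iff.mpr fun r hr t => ⟨_, S.θ_x r t⟩)
  rintro _ ⟨g, rfl⟩
  exact S.θ_mem g

include hW in
theorem ker_eq_center : S.θ.ker = Subgroup.center E := by
  refine le_antisymm (S.ker_le_center hW) fun z hz => ?_
  have h : (⟨S.θ z, S.θ_mem z⟩ : D.group K) ∈ Subgroup.center (D.group K) := by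
    rw [Subgroup.mem_center_iff]
    rintro ⟨g, hg⟩
    rw [← S.θ_range] at hg
    obtain ⟨e, rfl⟩ := hg
    refine Subtype.ext ?_
    simp [← map_mul, Subgroup.mem_center_iff.mp hz e]
  rw [G.center_group, Subgroup.mem_bot] at h
  exact congrArg Subtype.val h

include hW in
theorem unitCart_mem {k : ℕ} (hk : k < D.nroots) (h : T.chkUnitCart k = true) {a : K} (ha : a ≠ 0)
    (ha1 : a ≠ 1) (t : K) : S.xb k t ∈ commutator E := by
  simp only [chkUnitCart, List.any_eq_true, List.mem_range, decide_eq_true_eq] at h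
  obtain ⟨i, hi, habs⟩ := h
  have hz : a ^ T.cart i k - 1 ≠ 0 := by
    rcases Int.natAbs_eq (T.cart i k) with e | e <;> rw [habs] at e <;> rw [e]
    · simpa [sub_eq_zero] using ha1
    · simpa [sub_eq_zero] using ha1
  have hc : S.hb ⟨i, hi⟩ a * S.xb k (t / (a ^ T.cart i k - 1)) * (S.hb ⟨i, hi⟩ a)⁻¹ =
      S.xb k (a ^ T.cart i k * (t / (a ^ T.cart i k - 1))) := by
    obtain ⟨c, -, hc'⟩ := S.exists_HB hW (S.hb_mem ⟨i, hi⟩ ha)
    have e := congrArg S.θ (hc' k hk (t / (a ^ T.cart i k - 1)))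
    rw [map_mul, map_mul, map_inv, S.θ_hb, S.θ_x, S.θ_x,
      G.full.hr_conj_simple hi hk ha] at e
    rw [hc' k hk, G.x_inj hk e]
  have hmem := Subgroup.commutator_mem_commutator (H₁ := (⊤ : Subgroup E)) (H₂ := ⊤)
    (Subgroup.mem_top (S.hb ⟨i, hi⟩ a)) (Subgroup.mem_top (S.xb k (t / (a ^ T.cart i k - 1))))
  rw [← commutator_def, commutatorElement_def, hc, S.xb_inv hk, S.add k hk] at hmem
  convert hmem using 2
  field_simp
  ring

include hW in
theorem simple_mem_commutator {needField : Bool} {ws : List (Option (ℕ × ℕ))}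
    (h : T.chkPerfAll needField ws = true) (hF : needField = true → ∃ a : K, a ≠ 0 ∧ a ≠ 1)
    (j : Fin D.rank) (v : K) : S.xb (D.simple j) v ∈ commutator E := by
  simp only [chkPerfAll, allBelow_iff] at h
  have hj := h j.val j.isLt
  generalize ws.getD j.val none = w at hj
  rcases w with _ | ⟨a, b⟩
  · simp only [chkPerf, Bool.and_eq_true] at hj
    obtain ⟨c, hc, hc1⟩ := hF hj.1
    exact S.unitCart_mem hW (G.full.simple_lt j.isLt) hj.2 hc hc1 v
  · simp only [chkPerf, Bool.and_eq_true, Nat.blt_eq, Bool.not_eq_true'] at hj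
    obtain ⟨⟨⟨⟨ha, hb⟩, hba⟩, hbn⟩, hj⟩ := hj
    have hne : b ≠ a := fun e => by rw [Tab.beq_true e] at hba; exact Bool.noConfusion hba
    have hne' : b ≠ negR D a := fun e => by rw [Tab.beq_true e] at hbn; exact Bool.noConfusion hbn
    have hw : ∀ t u : K,
        ((rhsWord (T.commT a b) t u).map fun p => S.xb p.1 p.2).prod ∈ commutator E := by
      intro t u
      rw [← S.comm a ha b hb hne hne' t u, commutator_def]
      have := Subgroup.commutator_mem_commutator (H₁ := (⊤ : Subgroup E)) (H₂ := ⊤)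
        (Subgroup.mem_top (S.xb b u)⁻¹) (Subgroup.mem_top (S.xb a t)⁻¹)
      simpa [commutatorElement_def] using this
    have hterm : ∀ c : ℕ × ℤ × ℕ × ℕ, c.2.1.natAbs = 1 → (c.2.2.1 = 1 ∨ c.2.2.2 = 1) →
        ∃ t u : K, (c.2.1 : K) * (-t) ^ c.2.2.1 * u ^ c.2.2.2 = v := by
      intro c hc hij
      have hsq : (c.2.1 : K) * (c.2.1 : K) = 1 := by
        rcases Int.natAbs_eq c.2.1 with e | e <;> rw [hc] at e <;> rw [e] <;> simp
      rcases hij with e | e
      · exact ⟨-((c.2.1 : K) * v), 1, by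
          rw [e, pow_one, neg_neg, one_pow, mul_one, ← mul_assoc, hsq, one_mul]⟩
      · exact ⟨-1, (c.2.1 : K) * v, by
          rw [e, neg_neg, one_pow, mul_one, pow_one, ← mul_assoc, hsq, one_mul]⟩
    revert hj
    rcases hcomm : T.commT a b with _ | ⟨c, _ | ⟨c', _ | ⟨c'', L⟩⟩⟩
    · exact fun hj => Bool.noConfusion hj
    · intro hj
      simp only [Bool.and_eq_true, Bool.or_eq_true, Nat.beq_eq, decide_eq_true_eq] at hj
      obtain ⟨t, u, htu⟩ := hterm c hj.1.2 hj.2
      have := hw t u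
      rw [hcomm] at this
      simpa [rhsWord, hj.1.1, htu] using this
    · intro hj
      simp only [Bool.and_eq_true, Bool.or_eq_true, Nat.beq_eq, decide_eq_true_eq, Nat.blt_eq] at hj
      obtain ⟨⟨⟨⟨⟨h1, h2⟩, h3⟩, h4⟩, h5⟩, h6⟩ := hj
      obtain ⟨t, u, htu⟩ := hterm c' h2 h3
      obtain ⟨z, hz, hz1⟩ := hF h4
      have := hw t u
      rw [hcomm] at this
      simp only [rhsWord, List.map_cons, List.map_nil, List.prod_cons, List.prod_nil, mul_one,
        h1, htu] at this
      exact (Subgroup.mul_mem_cancel_left _ (S.unitCart_mem hW h5 h6 hz hz1 _)).mp this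
    · exact fun hj => Bool.noConfusion hj

include hW in
theorem commutator_eq_top {needField : Bool} {ws : List (Option (ℕ × ℕ))}
    (h : T.chkPerfAll needField ws = true) (hF : needField = true → ∃ a : K, a ≠ 0 ∧ a ≠ 1) :
    commutator E = ⊤ := by
  rw [eq_top_iff, ← S.gen, Subgroup.closure_le]
  rintro _ ⟨r, hr, t, rfl⟩
  obtain ⟨L, j, hL⟩ := G.exists_word_simple hr
  obtain ⟨c, hc⟩ := G.rootAct_nw (F := K) L
  obtain ⟨b, hb'⟩ := S.nbw_conj hW L (G.full.simp' j) (t / (c (G.full.simp' j) : K))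
  have e := congrArg S.θ hb'
  rw [map_mul, map_mul, map_inv, S.θ_nbw, S.θ_x, S.θ_x, (hc _).2.2.2,
    mul_div_cancel₀ _ (c _).ne_zero] at e
  have := G.x_inj (Fin.isLt _) e
  subst this
  rw [hL] at hb'
  show S.xb r _ ∈ commutator E
  rw [← hb', commutator_def]
  exact (Subgroup.commutator_normal (⊤ : Subgroup E) ⊤).conj_mem _
    (by rw [← commutator_def]; exact S.simple_mem_commutator hW h hF j _) _

end StData

end Good

end Tab

end CfsgLib.Chev
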