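import Cfsg.Agent.Chev.CellTorus
import Cfsg.Agent.ToralSection.Basic
import Mathlib.FieldTheory.Finite.Extension

/-!
The automizers of the split torus in Chevalley groups, and alternating sections.
-/

set_option autoImplicit false
set_option linter.style.haveILetI false

namespace CfsgLib.Chev

open Cfsg.Lie Matrix
open scoped MatrixGroups

namespace Tab.Good

variable {D : ChevalleyDatum} {T : Tab D} (G : T.Good) {F : Type*} [Field F]
include G

theorem rootAct_npow {g : GL D.Idx F} {σ : Equiv.Perm (Fin D.nroots)} (h : G.full.RootAct g σ) :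
    ∀ k : ℕ, G.full.RootAct (g ^ k) (σ ^ k) := by
  intro k
  induction k with
  | zero => simpa using G.rootAct_one
  | succ k ih => simpa [pow_succ] using G.rootAct_mul ih h

/-- A power of a monomial element whose permutation is trivial lies in the torus. -/
theorem pow_mem_diagonal {g : GL D.Idx F} (hg : g ∈ D.monomialSubgroup F)
    {σ : Equiv.Perm (Fin D.nroots)} (h : G.full.RootAct g σ) {e : ℕ} (he : σ ^ e = 1) :
    g ^ e ∈ D.diagonalSubgroup F :=
  G.mem_diagonal_of_pos (pow_mem hg e) (G.rootAct_npow h e) fun s hs => by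
    rw [he]; exact hs

theorem diag_commute {a b : GL D.Idx F} (ha : a ∈ D.diagonalSubgroup F)
    (hb : b ∈ D.diagonalSubgroup F) : Commute a b := by
  rw [G.full.diagonal_eq_range] at ha hb
  obtain ⟨c, rfl⟩ := ha
  obtain ⟨d, rfl⟩ := hb
  exact (Commute.all c d).map _

/-- The torus as a subgroup of the group. -/
def torusIn (_G : T.Good) (F : Type*) [Field F] : Subgroup (D.group F) :=
  (D.diagonalSubgroup F).subgroupOf (D.group F)

theorem card_torusIn : Nat.card (G.torusIn F) = Nat.card (D.diagonalSubgroup F) :=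
  Nat.card_congr (Subgroup.subgroupOfEquivOfLe G.diagonal_le_group).toEquiv

theorem autBound [Fintype F] {ℓ e : ℕ} [Fact ℓ.Prime]
    (hfac : (Nat.card (D.group F)).factorization ℓ ≤
      (Nat.card (D.diagonalSubgroup F)).factorization ℓ)
    (hexp : ∀ L, G.full.pw L ^ e = 1) :
    CfsgLib.ToralSection.AutBound (D.group F) ℓ e := by
  refine CfsgLib.ToralSection.autBound_of_torus (G.torusIn F) (by rwa [G.card_torusIn]) fun g => ?_
  obtain ⟨v, hv, a, L, u, hu, hg⟩ := G.normal_form g.2
  have hn := G.nw_mem_monomial (F := F) L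
  refine ⟨⟨_, G.monomial_le_group hn⟩, fun t ht ht' => Subtype.ext ?_, fun t ht => Subtype.ext ?_⟩
  · have hb : v * T.hT F a ∈ D.borelSubgroup F :=
      mul_mem (pos_le_borel G hv) (Subgroup.mem_sup_right (by
        rw [G.full.diagonal_eq_range]; exact ⟨a, rfl⟩))
    refine (G.cell_torus hb hn (pos_le_borel G (G.flip_le_pos _ hu))
      (Subgroup.mem_subgroupOf.mp ht) (Subgroup.mem_subgroupOf.mp ht') ?_).symm
    rw [← hg]
    simp only [Subgroup.coe_mul, InvMemClass.coe_inv]
    group
  · rw [Subgroup.coe_mul, Subgroup.coe_mul, SubmonoidClass.coe_pow]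
    exact (G.diag_commute (G.pow_mem_diagonal hn (G.rootAct_nw L) (hexp L))
      (Subgroup.mem_subgroupOf.mp ht)).eq

theorem pw_pow_card (L : List (Fin D.rank)) :
    G.full.pw L ^ Nat.card (G.full.WJ (List.range D.rank)) = 1 :=
  congrArg Subtype.val (pow_card_eq_one'
    (x := (⟨_, G.pw_mem_full L⟩ : G.full.WJ (List.range D.rank))))

/-- Sections pass to groups over larger fields. -/
theorem exists_section_ext {K : Type*} [Field K] (f : F →+* K) {A : Type*} [Group A]
    {H : Subgroup (D.group F)} {π : H →* A} (hπ : Function.Surjective π) :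
    ∃ (H' : Subgroup (D.group K)) (π' : H' →* A), Function.Surjective π' := by
  let φ : D.group F →* D.group K :=
    ((glMap D f).comp (D.group F).subtype).codRestrict _ fun x => G.glMap_group f x.2
  have hφ : Function.Injective φ := fun x y e =>
    Subtype.ext (glMap_injective f (congrArg Subtype.val e))
  exact ⟨H.map φ, π.comp (H.equivMapOfInjective φ hφ).symm.toMonoidHom,
    hπ.comp (MulEquiv.surjective _)⟩

omit G in
/-- A field extension of given degree. -/
theorem exists_field_ext [Fintype F] (n : ℕ) [NeZero n] :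
    ∃ (K : Type) (_ : Field K) (_ : Fintype K) (_ : F →+* K),
      Fintype.card K = Fintype.card F ^ n := by
  obtain ⟨p, hp⟩ := CharP.exists F
  haveI := Fact.mk (CharP.char_is_prime F p)
  letI := Fintype.ofFinite (FiniteField.Extension F p n)
  exact ⟨FiniteField.Extension F p n, inferInstance, inferInstance,
    algebraMap F (FiniteField.Extension F p n), by
      rw [← Nat.card_eq_fintype_card, FiniteField.natCard_extension, Nat.card_eq_fintype_card]⟩

end Tab.Good

/-- The part at `ℓ` of a product with cofactor prime to `ℓ`. -/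
theorem factorization_mul_of_not_dvd {ℓ R M : ℕ} (hR : ¬ ℓ ∣ R) (hM : M ≠ 0) :
    (R * M).factorization ℓ = M.factorization ℓ := by
  rw [Nat.factorization_mul (fun h => hR (by rw [h]; exact dvd_zero ℓ)) hM, Finsupp.add_apply,
    Nat.factorization_eq_zero_of_not_dvd hR, zero_add]

/-- A prime not dividing `q` divides `q ^ (ℓ - 1) - 1`. -/
theorem pow_cast_one {ℓ q : ℕ} [Fact ℓ.Prime] (h : ¬ ℓ ∣ q) : ((q ^ (ℓ - 1) : ℕ) : ZMod ℓ) = 1 := by
  rw [Nat.cast_pow]
  exact ZMod.pow_card_sub_one_eq_one fun e => h ((CharP.cast_eq_zero_iff (ZMod ℓ) ℓ q).mp e)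

/-- A prime different from the characteristic does not divide the size of a finite field. -/
theorem not_dvd_card {F : Type*} [Field F] [Fintype F] {p ℓ : ℕ} [CharP F p] (hℓ : ℓ.Prime)
    (h : p ≠ ℓ) : ¬ ℓ ∣ Fintype.card F := by
  obtain ⟨n, hp, hn⟩ := FiniteField.card F p
  rw [hn]
  exact fun hd => h ((Nat.prime_dvd_prime_iff_eq hℓ hp).mp (hℓ.dvd_of_dvd_pow hd)).symm

end CfsgLib.Chev
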