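import Cfsg.Agent.Chev.Poincare

/-!
A faster check of the orbit data used for the length generating function.
-/

set_option autoImplicit false

namespace CfsgLib.Chev

open Cfsg.Lie

namespace Tab

variable {D : ChevalleyDatum}

/-- A weight coded as one number. -/
def encW (μ : List ℤ) : ℕ := μ.foldl (fun a m => Nat.add (Nat.mul a 256) (m + 128).toNat) 0

/-- No number occurs twice. -/
def nodupN : List ℕ → Bool
  | [] => true
  | x :: l => l.all (fun y => !(Nat.beq x y)) && nodupN l

/-- The exponents grow by one along the parent data. -/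
def chkExps (O : List (List ℤ)) (par : List (ℕ × ℕ)) (exps : List ℕ) : Bool :=
  Nat.beq exps.length (Nat.add par.length 1) && Nat.beq (exps.getD 0 1) 0 &&
    allBelow (fun n =>
      decide (0 < (O.getD (par.getD n (0, 0)).2 []).getD (par.getD n (0, 0)).1 0) &&
        Nat.beq (exps.getD (Nat.add n 1) 0) (Nat.add (exps.getD (par.getD n (0, 0)).2 0) 1))
      par.length

/-- Closure of the orbit, with coded look-up. -/
def chkClosed (T : Tab D) (J : List ℕ) (O : List (List ℤ)) (pairs : List (List ℤ × ℕ)) : Bool :=
  O.all fun μ => Nat.beq μ.length D.rank && J.all fun j =>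
    decide (μ.getD j 0 = 0) ||
      pairs.any fun x => Nat.beq x.2 (encW (T.refW j μ)) && decide (x.1 = T.refW j μ)

/-- A fast version of `chkLevel`. -/
def chkLevelF (T : Tab D) (J : List ℕ) (k : ℕ) (par : List (ℕ × ℕ)) (exps : List ℕ) : Bool :=
  Nat.blt k D.rank && J.contains k && chkPar D J 1 par &&
    nodupN ((T.orbitW k par).map encW) &&
    T.chkClosed J (T.orbitW k par) ((T.orbitW k par).zip ((T.orbitW k par).map encW)) &&
    chkExps (T.orbitW k par) par exps

/-- A fast version of `chkChain`. -/
def chkChainF (T : Tab D) : List ℕ → List (ℕ × List (ℕ × ℕ) × List ℕ) → Bool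
  | J, [] => J.isEmpty
  | J, l :: ls => T.chkLevelF J l.1 l.2.1 l.2.2 &&
      chkChainF T (J.filter fun j => !(Nat.beq j l.1)) ls

theorem nodupN_iff {l : List ℕ} (h : nodupN l = true) : l.Nodup := by
  induction l with
  | nil => exact List.nodup_nil
  | cons x l ih =>
    simp only [nodupN, Bool.and_eq_true, List.all_eq_true, Bool.not_eq_true'] at h
    exact List.nodup_cons.mpr ⟨fun hx => by simpa using h.1 x hx, ih h.2⟩

theorem foldl_orbit_getD (T : Tab D) :
    ∀ (par : List (ℕ × ℕ)) (O : List (List ℤ)) (n : ℕ),
      (∀ (m : ℕ) (hm : m < par.length), (par[m]).2 < O.length + m) →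
      n < O.length + par.length →
      ((par.foldl (fun O p => O ++ [T.refW p.1 (O.getD p.2 [])]) O).length =
        O.length + par.length) ∧
      (n < O.length →
        (par.foldl (fun O p => O ++ [T.refW p.1 (O.getD p.2 [])]) O).getD n [] = O.getD n []) ∧
      ∀ m, n = O.length + m → ∀ hm : m < par.length,
        (par.foldl (fun O p => O ++ [T.refW p.1 (O.getD p.2 [])]) O).getD n [] =
          T.refW (par[m]).1
            ((par.foldl (fun O p => O ++ [T.refW p.1 (O.getD p.2 [])]) O).getD (par[m]).2 []) := by
  intro par
  induction par with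
  | nil => intro O n _ _; exact ⟨rfl, fun _ => rfl, fun m _ hm => absurd hm (by simp)⟩
  | cons p ps ih =>
    intro O n hpar hn
    have hp : p.2 < O.length := by
      have := hpar 0 (by simp)
      simpa only [List.getElem_cons_zero, Nat.add_zero] using this
    set O' := O ++ [T.refW p.1 (O.getD p.2 [])] with hO'
    have hlen : O'.length = O.length + 1 := by simp [O']
    have hps : ∀ (m : ℕ) (hm : m < ps.length), (ps[m]).2 < O'.length + m := fun m hm => by
      have := hpar (m + 1) (by simp; omega)
      simp only [List.getElem_cons_succ] at this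
      omega
    simp only [List.length_cons] at hn
    obtain ⟨h1, h2, h3⟩ := ih O' n hps (by omega)
    refine ⟨by rw [List.foldl_cons, h1, hlen, List.length_cons]; omega, fun hlt => ?_,
      fun m hm hlt => ?_⟩
    · rw [List.foldl_cons, h2 (by omega), hO', List.getD_eq_getElem?_getD,
        List.getElem?_append_left hlt, List.getD_eq_getElem?_getD]
    · rcases m with _ | m
      · rw [List.foldl_cons, h2 (by omega)]
        simp only [List.getElem_cons_zero]
        rw [(ih O' p.2 hps (by omega)).2.1 (by omega)]
        subst hm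
        simp [O', List.getD_eq_getElem?_getD, List.getElem?_append_left hp]
      · simp only [List.getElem_cons_succ] at *
        rw [List.foldl_cons]
        exact h3 m (by omega) (by simpa using hlt)

namespace Good

variable {T : Tab D} (G : T.Good)
include G

theorem dotW_refW (j : Fin D.rank) (s : Fin D.nroots) (μ : List ℤ) :
    T.dotW s (T.refW j μ) = T.dotW (G.full.refl j s) μ := by
  simp only [dotW, list_sum_range]
  have e1 : ∀ i : Fin D.rank, (T.refW j μ).getD i.val 0 =
      μ.getD i.val 0 - T.cart i (D.simple j) * μ.getD j.val 0 := fun i => by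
    simp [refW, List.getD_eq_getElem?_getD]
  have e2 : ∀ i : Fin D.rank, T.cor (G.full.refl j s) i =
      T.cor s i - if i = j then T.pairT s (D.simple j) else 0 := fun i => by
    show T.cor (T.reflT j s) i = _
    rw [((G.full.reflT_spec j.isLt s.isLt).2.2.2.2.1 i i.isLt).2]
    simp only [Fin.ext_iff]
  simp only [e1, e2, mul_sub, sub_mul, ite_mul, zero_mul, Finset.sum_sub_distrib,
    Finset.sum_ite_eq', Finset.mem_univ, if_true, T.pairT_eq_sum, Finset.sum_mul]
  congr 1
  exact Finset.sum_congr rfl fun i _ => by ring

theorem dotW_simple (j : Fin D.rank) (μ : List ℤ) :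
    T.dotW (G.full.simp' j) μ = μ.getD j.val 0 := by
  simp [dotW, list_sum_range, G.cor_simple]

theorem negCount_eq_card (μ : List ℤ) :
    T.negCount μ =
      (Finset.univ.filter fun s : Fin D.nroots => IsPos D s.val ∧ T.dotW s μ < 0).card := by
  rw [negCount, List.countP_eq_length_filter, ← List.toFinset_card_of_nodup
    (List.Nodup.filter _ List.nodup_range), ← Finset.card_map Fin.valEmbedding]
  congr 1
  ext s
  constructor
  · intro hs
    simp only [List.mem_toFinset, List.mem_filter, List.mem_range, Bool.and_eq_true,
      Nat.ble_eq, decide_eq_true_eq] at hs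
    exact Finset.mem_map.mpr ⟨⟨s, hs.1⟩,
      Finset.mem_filter.mpr ⟨Finset.mem_univ _, ⟨hs.1, hs.2.1⟩, hs.2.2⟩, rfl⟩
  · intro hs
    obtain ⟨a, ha, rfl⟩ := Finset.mem_map.mp hs
    obtain ⟨-, h1, h2⟩ := Finset.mem_filter.mp ha
    simp only [List.mem_toFinset, List.mem_filter, List.mem_range, Bool.and_eq_true,
      Nat.ble_eq, decide_eq_true_eq]
    exact ⟨a.isLt, h1.2, h2⟩

theorem negCount_refW (j : Fin D.rank) {μ : List ℤ} (hj : 0 < μ.getD j.val 0) :
    T.negCount (T.refW j μ) = T.negCount μ + 1 := by
  classical
  rw [G.negCount_eq_card, G.negCount_eq_card]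
  have hinv : ∀ s, G.full.refl j (G.full.refl j s) = s := fun s =>
    congrArg (fun σ : Equiv.Perm _ => σ s) (G.refl_mul_self j)
  have hne : ∀ s, s ∈ Finset.univ.filter
      (fun s : Fin D.nroots => IsPos D s.val ∧ T.dotW s μ < 0) → s ≠ G.full.simp' j := by
    rintro s hs rfl
    simp only [Finset.mem_filter, G.dotW_simple] at hs
    omega
  have hset : (Finset.univ.filter
        fun s : Fin D.nroots => IsPos D s.val ∧ T.dotW s (T.refW j μ) < 0) =
      insert (G.full.simp' j) ((Finset.univ.filter
        fun s : Fin D.nroots => IsPos D s.val ∧ T.dotW s μ < 0).map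
          (G.full.refl j).toEmbedding) := by
    ext s
    simp only [Finset.mem_insert, Finset.mem_map_equiv, Finset.mem_filter, Finset.mem_univ,
      true_and, G.dotW_refW]
    rw [show (G.full.refl j).symm s = G.full.refl j s from rfl]
    rcases eq_or_ne s (G.full.simp' j) with rfl | hsne
    · simp only [true_or, iff_true]
      refine ⟨G.pos_simp j, ?_⟩
      have : T.dotW (negF (G.full.simp' j)) μ = - T.dotW (G.full.simp' j) μ := by
        simp only [dotW, list_sum_range, ← Finset.sum_neg_distrib]
        refine Finset.sum_congr rfl fun i _ => ?_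
        show T.cor (negR D _) i * _ = _
        rw [((G.full.cert.root_spec (Fin.isLt _)).2.2.2.1 i i.isLt).2, neg_mul]

      rw [G.refl_simp, this, G.dotW_simple]
      omega
    · simp only [hsne, false_or]
      refine and_congr_left fun h => ⟨fun hp => (G.refl_pos j hp hsne).1, fun hp => ?_⟩
      have hne' : G.full.refl j s ≠ G.full.simp' j := fun e => by
        rw [e, G.dotW_simple] at h; omega
      have := (G.refl_pos j hp hne').1
      rwa [hinv] at this
  rw [hset, Finset.card_insert_of_notMem, Finset.card_map]
  intro h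
  rw [Finset.mem_map_equiv] at h
  have h' := (Finset.mem_filter.mp h).2.1
  rw [show (G.full.refl j).symm (G.full.simp' j) = negF (G.full.simp' j) from G.refl_simp j,
    G.pos_negF] at h'
  exact h' (G.pos_simp j)

theorem chkLevel_of_fast {J : List ℕ} {k : ℕ} {par : List (ℕ × ℕ)} {exps : List ℕ}
    (h : T.chkLevelF J k par exps = true) : T.chkLevel J k par exps = true := by
  simp only [chkLevelF, chkClosed, chkExps, Bool.and_eq_true, Nat.blt_eq, List.all_eq_true,
    Nat.beq_eq, allBelow_iff, decide_eq_true_eq, Bool.or_eq_true, List.any_eq_true] at h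
  obtain ⟨⟨⟨⟨⟨hk, hkJ⟩, hpar⟩, hnd⟩, hcl⟩, ⟨hel, he0⟩, hex⟩ := h
  simp only [chkLevel, Bool.and_eq_true, Nat.blt_eq, List.all_eq_true, decide_eq_true_eq]
  -- the parent data
  have hP : ∀ (ps : List (ℕ × ℕ)) (b : ℕ), chkPar D J b ps = true →
      ∀ (m : ℕ) (hm : m < ps.length), (ps[m]).1 < D.rank ∧ (ps[m]).2 < b + m := by
    intro ps
    induction ps with
    | nil => intro b _ m hm; simp at hm
    | cons p ps ih =>
      intro b hb m hm
      simp only [chkPar, Bool.and_eq_true, Nat.blt_eq] at hb
      rcases m with _ | m
      · exact ⟨hb.1.1.1, hb.1.2⟩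
      · have := ih (b + 1) hb.2 m (by simpa using hm)
        exact ⟨this.1, by simp only [List.getElem_cons_succ]; omega⟩
  have hP' := hP par 1 hpar
  set O := T.orbitW k par with hO
  have hget := fun n hn => T.foldl_orbit_getD par [fundW D k] n
    (fun m hm => (hP' m hm).2) hn
  have hlenO : O.length = par.length + 1 := by
    rw [hO, orbitW, (hget 0 (by simp)).1]; simp [add_comm]
  refine ⟨⟨⟨⟨⟨hk, hkJ⟩, hpar⟩, List.Nodup.of_map _ (nodupN_iff hnd)⟩, fun μ hμ j hj => ?_⟩, ?_⟩
  · obtain ⟨hlen, hJ⟩ := hcl μ hμ
    rw [List.contains_iff_mem]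
    rcases hJ j hj with h0 | ⟨x, hx, -, hx'⟩
    · have : T.refW j μ = μ := by
        refine List.ext_getElem (by simp [refW, hlen]) fun i h1 h2 => ?_
        simp only [refW, List.getElem_map, List.getElem_range, h0, mul_zero, sub_zero]
        simp [List.getD_eq_getElem?_getD, List.getElem?_eq_getElem h2]
      rwa [this]
    · rw [← hx']
      exact (List.of_mem_zip hx).1
  · have key : ∀ n, n ≤ par.length → T.negCount (O.getD n []) = exps.getD n 0 := by
      intro n
      induction n using Nat.strong_induction_on with
      | _ n ih =>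
        intro hn
        rcases n with _ | m
        · have e0 : O.getD 0 [] = fundW D k := by
            rw [hO, orbitW, (hget 0 (by simp)).2.1 (by simp)]; rfl
          have h00 : exps.getD 0 0 = 0 := by
            have hl : 0 < exps.length := by rw [hel]; exact Nat.succ_pos _
            simpa [List.getD_eq_getElem?_getD, List.getElem?_eq_getElem hl] using he0
          rw [e0, h00, G.negCount_eq_card, Finset.card_eq_zero, Finset.filter_eq_empty_iff]
          rintro s - ⟨hs, hneg⟩
          have : T.dotW s (fundW D k) = T.cor s k := by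
            rw [dotW, list_sum_range, Finset.sum_eq_single (⟨k, hk⟩ : Fin D.rank)]
            · simp [fundW, List.getD_eq_getElem?_getD, hk]
            · intro i _ hi
              simp [fundW, List.getD_eq_getElem?_getD,
                Tab.beq_false (fun e => hi (Fin.ext e) : i.val ≠ k)]
            · simp
          rw [this] at hneg
          exact absurd hneg (not_lt.mpr ((G.pos_iff_cor s.isLt).mp hs ⟨k, hk⟩))
        · have hm : m < par.length := hn
          obtain ⟨hp1, hp2⟩ := hP' m hm
          obtain ⟨hpos, heq⟩ := hex m hm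
          rw [show par.getD m (0, 0) = par[m] by
            simp [List.getD_eq_getElem?_getD, List.getElem?_eq_getElem hm]] at hpos heq
          have e : O.getD (m + 1) [] = T.refW (par[m]).1 (O.getD (par[m]).2 []) :=
            (hget (m + 1) (by simp; omega)).2.2 m (by simp [add_comm]) hm
          rw [e, G.negCount_refW ⟨_, hp1⟩ hpos, ih _ (by omega) (by omega)]
          exact heq.symm
    refine List.ext_getElem (by simp [hlenO, hel]) fun n h1 h2 => ?_
    have h1' : n < O.length := by simpa using h1
    have := key n (by omega)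
    rw [List.getD_eq_getElem?_getD, List.getElem?_eq_getElem h1', List.getD_eq_getElem?_getD,
      List.getElem?_eq_getElem h2] at this
    simpa using this

theorem chkChain_of_fast : ∀ (ls : List (ℕ × List (ℕ × ℕ) × List ℕ)) (J : List ℕ),
    T.chkChainF J ls = true → T.chkChain J ls = true := by
  intro ls
  induction ls with
  | nil => exact fun J h => h
  | cons l ls ih =>
    intro J h
    simp only [chkChainF, Bool.and_eq_true] at h
    simp only [chkChain, Bool.and_eq_true]
    exact ⟨G.chkLevel_of_fast h.1, ih _ h.2⟩

end Good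

end Tab

end CfsgLib.Chev
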