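import Cfsg.Agent.Chev.OrderCheck
import Cfsg.Agent.Chev.DataD4

/-! Orbit and Smith-form certificates for type D4 (generated). -/

set_option autoImplicit false

namespace CfsgLib.Chev.D4Data

/-- The orbit data. -/
def levels : List (ℕ × List (ℕ × ℕ) × List ℕ) :=
  [(3, [(3, 0), (1, 1), (0, 2), (2, 2), (2, 3), (1, 5), (3, 6)],
    [0, 1, 2, 3, 3, 4, 5, 6]),
   (2, [(2, 0), (1, 1), (0, 2)],
    [0, 1, 2, 3]),
   (1, [(1, 0), (0, 1)],
    [0, 1, 2]),
   (0, [(0, 0)],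
    [0, 1])]

/-- The Smith form. -/
def smith : SmithData :=
  ⟨[[-1, 0, 0, 0], [2, -1, 0, 0], [-1, 2, -1, 0], [-1, 0, 1, 1]],
   [[-1, 0, 0, 0], [-2, -1, 0, 0], [-3, -2, -1, 0], [2, 2, 1, 1]],
   [1, 1, 2, 2],
   [[-2, 1, 0, 0], [-3, 0, 1, 1], [-2, 0, 0, 1], [1, 0, 0, 0]],
   [[0, 0, 0, 1], [1, 0, 0, 2], [0, 1, -1, 1], [0, 0, 1, 2]]⟩

set_option linter.style.maxHeartbeats false in
theorem levels_ok : tab.chkChain (List.range 4) levels = true := by decide +kernel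

theorem smith_ok : tab.chkSmith smith = true := by decide +kernel

end CfsgLib.Chev.D4Data
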