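import Cfsg.Agent.Chev.BNP
import Cfsg.Agent.BN.Parabolic

/-!
Structural consequences of the (B, N)-pair: the longest element, the core of `B`, and the canonical
form of the elements.
-/

set_option autoImplicit false

namespace CfsgLib.Chev

open Cfsg.Lie Matrix
open scoped MatrixGroups

namespace Tab

variable {D : ChevalleyDatum}

namespace Good

variable {T : Tab D} (G : T.Good) {F : Type*} [Field F]
include G

theorem borel_inf_neg : D.borelSubgroup F ⊓ D.negUnipotent F = ⊥ := by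
  rw [eq_bot_iff]
  rintro g ⟨hb, hv⟩
  obtain ⟨u, hu, c, rfl⟩ := G.mem_borel.mp hb
  exact Subgroup.mem_bot.mpr (G.eq_one_of_borel_neg hu hv rfl)

theorem borel_inf_neg_torus :
    D.borelSubgroup F ⊓ (D.negUnipotent F ⊔ D.diagonalSubgroup F) = D.diagonalSubgroup F := by
  refine le_antisymm ?_ (le_inf le_sup_right le_sup_right)
  intro g hg
  obtain ⟨hb, hg'⟩ := Subgroup.mem_inf.mp hg
  rw [← SetLike.mem_coe,
    Subgroup.coe_mul_of_right_le_normalizer_left _ _ G.diagonal_le_normalizer_neg, Set.mem_mul] at hg'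
  obtain ⟨v, hv, h, hh, rfl⟩ := hg'
  have hvb : v ∈ D.borelSubgroup F ⊓ D.negUnipotent F := by
    refine Subgroup.mem_inf.mpr ⟨?_, hv⟩
    have := mul_mem hb (inv_mem (Subgroup.mem_sup_right (S := D.posUnipotent F) hh))
    rwa [mul_inv_cancel_right] at this
  rw [G.borel_inf_neg, Subgroup.mem_bot] at hvb
  rw [hvb, one_mul]
  exact hh

theorem negF_pw (L : List (Fin D.rank)) (s : Fin D.nroots) :
    G.full.pw L (negF s) = negF (G.full.pw L s) := by
  obtain ⟨c, hc⟩ := G.rootAct_nw (F := ℚ) L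
  exact (hc s).1

theorem exists_longest_elem :
    ∃ n ∈ D.monomialSubgroup F, ∃ σ, G.full.RootAct n σ ∧
      (∀ s, IsPos D s.val ↔ ¬ IsPos D (σ s).val) := by
  obtain ⟨L, hL⟩ := G.exists_longest
  refine ⟨_, G.nw_mem_monomial L, _, G.rootAct_nw L, fun s => ⟨hL s, fun h => ?_⟩⟩
  by_contra hs
  have := hL (negF s) (G.pos_negF.mpr hs)
  rw [G.negF_pw, G.pos_negF, not_not] at this
  exact h this

theorem conj_pos_eq_neg :
    ∃ n ∈ D.monomialSubgroup F,
      (D.posUnipotent F).map (MulAut.conj n).toMonoidHom = D.negUnipotent F := by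
  obtain ⟨n, hn, σ, hσ, hflip⟩ := G.exists_longest_elem (F := F)
  refine ⟨n, hn, le_antisymm ?_ ?_⟩
  · rintro _ ⟨u, hu, rfl⟩
    rw [SetLike.mem_coe, G.posUnipotent_eq] at hu
    rw [G.negUnipotent_eq]
    exact G.conj_x_act hσ (S' := {r | r < D.nroots ∧ ¬ D.nroots ≤ 2 * r})
      (fun s hs => ⟨hs.1, ⟨Fin.isLt _, fun h =>
      (hflip ⟨s, hs.1⟩).mp hs ⟨Fin.isLt _, h⟩⟩⟩) hu
  · intro v hv
    refine ⟨n⁻¹ * v * n, ?_, by simp [mul_assoc]⟩
    rw [G.negUnipotent_eq] at hv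
    rw [SetLike.mem_coe, G.posUnipotent_eq]
    induction hv using Subgroup.closure_induction with
    | mem v hv =>
      obtain ⟨r, ⟨hr, hneg⟩, t, rfl⟩ := hv
      obtain ⟨c, hc⟩ := hσ
      set s := σ.symm ⟨r, hr⟩
      have hs : IsPos D s.val := (hflip s).mpr (by
        rw [Equiv.apply_symm_apply]; exact fun h => hneg h.2)
      have e := (hc s).2.2.2 ((((c s)⁻¹ : Fˣ) : F) * t)
      rw [← mul_assoc (c s : F), Units.mul_inv, one_mul, Equiv.apply_symm_apply] at e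
      rw [show G.full.x r t = G.full.x (⟨r, hr⟩ : Fin D.nroots).val t from rfl, ← e,
        show ∀ a : GL D.Idx F, n⁻¹ * (n * a * n⁻¹) * n = a by intro a; group]
      exact G.x_mem_US hs _
    | one => simp
    | mul a b _ _ ha hb =>
      rw [show n⁻¹ * (a * b) * n = (n⁻¹ * a * n) * (n⁻¹ * b * n) by group]
      exact mul_mem ha hb
    | inv a _ ha =>
      rw [show n⁻¹ * a⁻¹ * n = (n⁻¹ * a * n)⁻¹ by group]
      exact inv_mem ha

/-- The normal core of `B` is trivial. -/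
theorem normalCore_borel :
    ((D.borelSubgroup F).subgroupOf (D.group F)).normalCore = ⊥ := by
  rw [eq_bot_iff]
  intro a ha
  set K := ((D.borelSubgroup F).subgroupOf (D.group F)).normalCore with hK
  have hKB : ∀ b : D.group F, b ∈ K → (b : GL D.Idx F) ∈ D.borelSubgroup F := fun b hb =>
    Subgroup.normalCore_le ((D.borelSubgroup F).subgroupOf (D.group F)) hb
  obtain ⟨n, hn, hconj⟩ := G.conj_pos_eq_neg (F := F)
  have hnG : n ∈ D.group F := G.monomial_le_group hn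
  -- the core lies in the torus
  have hKH : ∀ b : D.group F, b ∈ K → (b : GL D.Idx F) ∈ D.diagonalSubgroup F := by
    intro b hb
    rw [← G.borel_inf_neg_torus]
    refine Subgroup.mem_inf.mpr ⟨hKB b hb, ?_⟩
    have h1 := hKB _ (Subgroup.Normal.conj_mem inferInstance b hb (⟨n, hnG⟩⁻¹ : D.group F))
    obtain ⟨u, hu, c, hc⟩ := G.mem_borel.mp h1
    simp only [Subgroup.coe_mul, Subgroup.coe_inv, inv_inv] at hc
    have hb' : (b : GL D.Idx F) = (n * u * n⁻¹) * (n * T.hT F c * n⁻¹) := by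
      rw [show n * u * n⁻¹ * (n * T.hT F c * n⁻¹) = n * (u * T.hT F c) * n⁻¹ by group, ← hc]
      group
    rw [hb']
    refine mul_mem (Subgroup.mem_sup_left (hconj ▸ ⟨u, hu, rfl⟩)) (Subgroup.mem_sup_right ?_)
    have := G.diagonal_normal.conj_mem ⟨_, G.hT_mem_monomial c⟩
      (by rw [Subgroup.mem_subgroupOf, G.full.diagonal_eq_range]; exact ⟨c, rfl⟩) ⟨n, hn⟩
    rwa [Subgroup.mem_subgroupOf] at this
  have haH := hKH a ha
  rw [G.full.diagonal_eq_range] at haH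
  obtain ⟨c, hc⟩ := haH
  have hchi : ∀ r < D.nroots, T.chi (F := F) r c = 1 := by
    intro r hr
    set x : D.group F := ⟨G.full.x r 1, G.x_mem_group r 1⟩
    have hm : a * (x * a⁻¹ * x⁻¹) ∈ K :=
      mul_mem ha (Subgroup.Normal.conj_mem inferInstance _ (inv_mem ha) x)
    have h1 := hKH _ hm
    simp only [Subgroup.coe_mul, Subgroup.coe_inv, ← hc, x] at h1
    rw [show T.hT F c * (G.full.x r 1 * (T.hT F c)⁻¹ * (G.full.x r 1)⁻¹) =
      T.hT F c * G.full.x r 1 * (T.hT F c)⁻¹ * (G.full.x r 1)⁻¹ by group, G.full.hT_conj hr,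
      G.full.x_inv, G.full.x_add, mul_one] at h1
    set e := (T.chi (F := F) r c : F) + -1 with he
    have h2 : G.full.x r e = 1 := by
      rw [G.full.diagonal_eq_range] at h1
      obtain ⟨d, hd⟩ := h1
      rw [← hd]
      by_cases hp : IsPos D r
      · exact G.hT_eq_one_of_grUni (hd ▸ G.grUni_pos (G.x_mem_pos hp e))
      · exact G.hT_eq_one_of_grUni (hd ▸ G.grUni_neg (G.x_mem_neg hr hp e))
    have h3 := G.x_eq_one hr h2
    exact Units.ext (by rw [he] at h3; rw [Units.val_one]; linear_combination h3)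
  rw [Subgroup.mem_bot]
  refine Subtype.ext ?_
  rw [← hc, Subgroup.coe_one, G.full.hT_eq_one_iff]
  exact fun j hj => hchi _ (G.full.simple_lt hj)

theorem flip_iff {g : GL D.Idx F} {σ : Equiv.Perm (Fin D.nroots)} (hσ : G.full.RootAct g σ)
    {r : ℕ} (hr : IsPos D r) :
    (D.rootSubgroup F r).map (MulAut.conj g).toMonoidHom ≤ D.negUnipotent F ↔
      ¬ IsPos D (σ ⟨r, hr.1⟩).val := by
  obtain ⟨c, hc⟩ := hσ
  set s : Fin D.nroots := ⟨r, hr.1⟩
  constructor
  · intro hle hpos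
    have hm : g * G.full.x r 1 * g⁻¹ ∈ D.negUnipotent F := by
      refine hle ⟨G.full.x r 1, Subgroup.subset_closure ⟨1, G.full.coe_x' r 1⟩, ?_⟩
      simp
    have hp : g * G.full.x r 1 * g⁻¹ ∈ D.borelSubgroup F := by
      rw [(hc s).2.2.2 1]
      exact pos_le_borel G (G.x_mem_pos hpos _)
    have h1 : g * G.full.x r 1 * g⁻¹ ∈ D.borelSubgroup F ⊓ D.negUnipotent F := ⟨hp, hm⟩
    rw [G.borel_inf_neg, Subgroup.mem_bot, conj_eq_one_iff] at h1
    exact one_ne_zero (G.x_eq_one hr.1 h1)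
  · intro hneg
    rw [Subgroup.map_le_iff_le_comap, ChevalleyDatum.rootSubgroup, Subgroup.closure_le]
    rintro a ⟨t, ha⟩
    rw [G.full.eq_x] at ha
    subst ha
    show g * G.full.x r t * g⁻¹ ∈ D.negUnipotent F
    rw [(hc s).2.2.2 t]
    exact G.x_mem_neg (Fin.isLt _) hneg _

/-- The subgroup `U_w⁻`, in both descriptions. -/
theorem flip_closure_eq {n : GL D.Idx F} {σ : Equiv.Perm (Fin D.nroots)}
    (hσ : G.full.RootAct n σ) :
    Subgroup.closure {x : GL D.Idx F | ∃ (r : ℕ) (t : F), D.IsPosRoot r ∧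
        (D.rootSubgroup F r).map (MulAut.conj n).toMonoidHom ≤ D.negUnipotent F ∧
          (x : Matrix D.Idx D.Idx F) = D.x F r t} = G.US F (flipSet σ) := by
  unfold US
  congr 1
  ext x
  constructor
  · rintro ⟨r, t, hr, hle, hx⟩
    rw [G.isPosRoot_iff] at hr
    exact ⟨r, ⟨hr.1, hr, (G.flip_iff hσ hr).mp hle⟩, t, G.full.eq_x.mp hx⟩
  · rintro ⟨r, ⟨hr1, hr, hneg⟩, t, rfl⟩
    exact ⟨r, t, G.isPosRoot_iff.mpr hr, (G.flip_iff hσ hr).mpr hneg, G.full.coe_x' r t⟩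

theorem conj_flip_mem_neg {n : GL D.Idx F} {σ : Equiv.Perm (Fin D.nroots)}
    (hσ : G.full.RootAct n σ) {u : GL D.Idx F} (hu : u ∈ G.US F (flipSet σ)) :
    n * u * n⁻¹ ∈ D.negUnipotent F := by
  rw [G.negUnipotent_eq]
  exact G.conj_x_act hσ (fun s hs => by
    obtain ⟨h, -, h2⟩ := hs
    exact ⟨h, Fin.isLt _, fun e => h2 ⟨Fin.isLt _, e⟩⟩) hu

theorem flip_le_pos (σ : Equiv.Perm (Fin D.nroots)) :
    G.US F (flipSet σ) ≤ D.posUnipotent F := by
  rw [G.posUnipotent_eq]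
  exact G.US_mono fun _ ⟨_, h, _⟩ => h

/-- The part of `u` which `n` keeps positive moves across `n`. -/
theorem split_across {n : GL D.Idx F} {L : List (Fin D.rank)}
    (hL : G.full.RootAct n (G.full.pw L)) {u : GL D.Idx F} (hu : u ∈ D.posUnipotent F) :
    ∃ v ∈ D.posUnipotent F, ∃ f ∈ G.US F (flipSet (G.full.pw L)), n * u = v * n * f := by
  rw [G.posUnipotent_eq] at hu
  obtain ⟨a, ha, f, hf, rfl⟩ := G.US_split (G.closed_keep L) (G.closed_flip L) G.closed_pos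
    (pos_eq_keep_union_flip _) hu
  refine ⟨n * a * n⁻¹, ?_, f, hf, by group⟩
  rw [G.posUnipotent_eq]
  exact G.conj_x_act hL (fun s hs => by obtain ⟨h, -, h2⟩ := hs; exact ⟨h, h2⟩) ha

theorem canonical_exists {g : GL D.Idx F} (hg : g ∈ D.group F) :
    ∃ b ∈ D.borelSubgroup F, ∃ n ∈ D.monomialSubgroup F, ∃ L, G.full.RootAct n (G.full.pw L) ∧
      ∃ u ∈ G.US F (flipSet (G.full.pw L)), g = b * n * u := by
  obtain ⟨n, hn, hmem⟩ := CfsgLib.BN.bruhat (G.bnPair F) ⟨g, hg⟩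
  obtain ⟨b, hb, c, hc, e⟩ := (CfsgLib.BN.mem_cosetOf _).mp hmem
  have hn' : (n : GL D.Idx F) ∈ D.monomialSubgroup F := hn
  have hb' : (b : GL D.Idx F) ∈ D.borelSubgroup F := hb
  have e' : g = (b : GL D.Idx F) * n * c := congrArg Subtype.val e
  have hc' : (c : GL D.Idx F) ∈ D.borelSubgroup F := hc
  obtain ⟨u, hu, d, hud⟩ := G.mem_borel.mp hc'
  obtain ⟨L, hL⟩ := G.exists_rootAct hn'
  have hd : T.hT F d ∈ D.diagonalSubgroup F := by
    rw [G.full.diagonal_eq_range]; exact ⟨d, rfl⟩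
  have hu2 : (T.hT F d)⁻¹ * u * T.hT F d ∈ D.posUnipotent F := by
    have h := G.diagonal_le_normalizer_pos (inv_mem hd)
    rw [Subgroup.mem_normalizer_iff] at h
    simpa using (h u).mp hu
  obtain ⟨v, hv, f, hf, hvf⟩ := G.split_across hL hu2
  have hm : (n : GL D.Idx F) * T.hT F d * (n : GL D.Idx F)⁻¹ ∈ D.diagonalSubgroup F :=
    G.diagonal_normal.conj_mem ⟨_, G.hT_mem_monomial d⟩ hd ⟨_, hn'⟩
  refine ⟨(b : GL D.Idx F) * ((n : GL D.Idx F) * T.hT F d * (n : GL D.Idx F)⁻¹) * v,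
    mul_mem (mul_mem hb' (Subgroup.mem_sup_right hm)) (pos_le_borel G hv), _, hn', L, hL, f, hf, ?_⟩
  rw [e', hud]
  calc (b : GL D.Idx F) * n * (u * T.hT F d)
      = (b : GL D.Idx F) * ((n : GL D.Idx F) * T.hT F d * (n : GL D.Idx F)⁻¹) *
          ((n : GL D.Idx F) * ((T.hT F d)⁻¹ * u * T.hT F d)) := by group
    _ = _ := by rw [hvf]; group

theorem canonical_unique {b b' n n' u u' : GL D.Idx F} (hb : b ∈ D.borelSubgroup F)
    (hb' : b' ∈ D.borelSubgroup F) (hn : n ∈ D.monomialSubgroup F)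
    (hn' : n' ∈ D.monomialSubgroup F) {σ σ' : Equiv.Perm (Fin D.nroots)}
    (hσ : G.full.RootAct n σ) (hσ' : G.full.RootAct n' σ')
    (hu : u ∈ G.US F (flipSet σ)) (hu' : u' ∈ G.US F (flipSet σ'))
    (h : b * n * u = b' * n' * u') :
    n⁻¹ * n' ∈ D.diagonalSubgroup F ∧ (n = n' → b = b' ∧ u = u') := by
  have hB := G.flip_le_pos (F := F)
  have hub : u ∈ D.borelSubgroup F := pos_le_borel G (hB _ hu)
  have hub' : u' ∈ D.borelSubgroup F := pos_le_borel G (hB _ hu')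
  constructor
  · let P := G.bnPair F
    let N₁ : D.group F := ⟨n, G.monomial_le_group hn⟩
    let N₂ : D.group F := ⟨n', G.monomial_le_group hn'⟩
    have hmem : (⟨b, G.borel_le_group hb⟩ * N₁ * ⟨u, G.borel_le_group hub⟩ : D.group F) ∈
        CfsgLib.BN.cosetOf P N₂ := by
      refine (CfsgLib.BN.mem_cosetOf _).mpr ⟨⟨b', G.borel_le_group hb'⟩, hb',
        ⟨u', G.borel_le_group hub'⟩, hub', Subtype.ext ?_⟩
      exact h
    have hmem₁ : (⟨b, G.borel_le_group hb⟩ * N₁ * ⟨u, G.borel_le_group hub⟩ : D.group F) ∈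
        CfsgLib.BN.cosetOf P N₁ :=
      (CfsgLib.BN.mem_cosetOf _).mpr ⟨_, hb, _, hub, rfl⟩
    have heq : CfsgLib.BN.cosetOf P N₁ = CfsgLib.BN.cosetOf P N₂ := by
      rw [← CfsgLib.BN.cosetOf_eq_of_mem P hmem₁, CfsgLib.BN.cosetOf_eq_of_mem P hmem]
    have := (CfsgLib.BN.cosetOf_eq_iff P (show N₁ ∈ P.N from hn) (show N₂ ∈ P.N from hn')).mp heq
    rw [← G.borel_inf_monomial]
    exact Subgroup.mem_inf.mpr ⟨this, mul_mem (inv_mem hn) hn'⟩
  · rintro rfl
    have hσσ : σ' = σ := G.rootAct_unique hσ' hσ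
    subst hσσ
    have hm : n * (u * u'⁻¹) * n⁻¹ ∈ D.borelSubgroup F ⊓ D.negUnipotent F := by
      refine Subgroup.mem_inf.mpr ⟨?_, G.conj_flip_mem_neg hσ (mul_mem hu (inv_mem hu'))⟩
      have e : n * (u * u'⁻¹) * n⁻¹ = b⁻¹ * b' := by
        calc n * (u * u'⁻¹) * n⁻¹ = b⁻¹ * (b * n * u) * u'⁻¹ * n⁻¹ := by group
          _ = _ := by rw [h]; group
      rw [e]
      exact mul_mem (inv_mem hb) hb'
    rw [G.borel_inf_neg, Subgroup.mem_bot, conj_eq_one_iff, mul_inv_eq_one] at hm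
    subst hm
    exact ⟨by simpa using h, rfl⟩

end Good

end Tab

end CfsgLib.Chev
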