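import Cfsg.Agent.Chev.Twisted
import Cfsg.Agent.Chev.Struct
import Cfsg.Agent.BN.Parabolic

/-!
Standard parabolic subgroups and their Levi decomposition.
-/

set_option autoImplicit false

namespace CfsgLib.Chev

open Cfsg.Lie Matrix
open scoped MatrixGroups

namespace Tab

variable {D : ChevalleyDatum}

/-- The roots supported in `J`. -/
def InJ (T : Tab D) (J : Set ℕ) (r : ℕ) : Prop :=
  r < D.nroots ∧ ∀ i : Fin D.rank, i.val ∉ J → T.cor r i.val = 0

open scoped Classical in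
/-- The indices of `J` in range, as a list. -/
noncomputable def jList (D : ChevalleyDatum) (J : Set ℕ) : List ℕ :=
  (List.range D.rank).filter fun i => decide (i ∈ J)

theorem mem_jList {J : Set ℕ} {i : ℕ} : i ∈ jList D J ↔ i < D.rank ∧ i ∈ J := by
  simp [jList]

/-- A height function composed with a permutation of the roots. -/
def htPerm (T : Tab D) (σ : Equiv.Perm (Fin D.nroots)) (b : ℕ) : ℤ :=
  if h : b < D.nroots then T.ht (σ ⟨b, h⟩).val else 0

theorem htPerm_lt (T : Tab D) (σ : Equiv.Perm (Fin D.nroots)) {b : ℕ} (h : b < D.nroots) :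
    T.htPerm σ b = T.ht (σ ⟨b, h⟩).val := dif_pos h

/-- A matrix is unitriangular for a grading. -/
def FUni {D : ChevalleyDatum} {F : Type*} [Field F] (f : ℕ → ℤ) (M : Matrix D.Idx D.Idx F) : Prop :=
  ∀ x y : D.Idx, f (code x) ≤ f (code y) → M x y = (1 : Matrix D.Idx D.Idx F) x y

/-- A matrix preserves a grading. -/
def FPres {D : ChevalleyDatum} {F : Type*} [Field F] (f : ℕ → ℤ) (M : Matrix D.Idx D.Idx F) : Prop :=
  ∀ x y : D.Idx, f (code x) ≠ f (code y) → M x y = 0

theorem FUni.mul {F : Type*} [Field F] {f : ℕ → ℤ} {A B : Matrix D.Idx D.Idx F} (hA : FUni f A)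
    (hB : FUni f B) : FUni f (A * B) := by
  classical
  intro x y h
  rw [Matrix.mul_apply, Finset.sum_eq_single x]
  · rw [hA x x le_rfl, hB x y h, Matrix.one_apply_eq, one_mul]
  · intro z _ hz
    by_cases hxz : f (code x) ≤ f (code z)
    · rw [hA x z hxz, Matrix.one_apply_ne (Ne.symm hz), zero_mul]
    · have hzy : f (code z) ≤ f (code y) := by omega
      have hne : z ≠ y := fun e => by rw [e] at hxz; exact hxz h
      rw [hB z y hzy, Matrix.one_apply_ne hne, mul_zero]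
  · exact fun hx => absurd (Finset.mem_univ x) hx

theorem FPres.mul {F : Type*} [Field F] {f : ℕ → ℤ} {A B : Matrix D.Idx D.Idx F} (hA : FPres f A)
    (hB : FPres f B) : FPres f (A * B) := by
  intro x y h
  rw [Matrix.mul_apply]
  refine Finset.sum_eq_zero fun z _ => ?_
  by_cases hxz : f (code x) = f (code z)
  · rw [hB z y (by rwa [← hxz]), mul_zero]
  · rw [hA x z hxz, zero_mul]

namespace Good

variable {T : Tab D} (G : T.Good) {F : Type*} [Field F]
include G

open scoped Classical in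
/-- The sum of the heights over `W_J`. -/
noncomputable def fJ (J : Set ℕ) (b : ℕ) : ℤ :=
  ∑ σ ∈ (Finset.univ : Finset (Equiv.Perm (Fin D.nroots))).filter
    (fun σ => σ ∈ G.full.WJ (jList D J)), T.htPerm σ b

theorem inRootSub_iff {J : Set ℕ} {r : ℕ} : D.InRootSub J r ↔ T.InJ J r := by
  have key : r < D.nroots → ∀ i < D.rank, (D.coroot.getD r #[]).getD i 0 = T.cor r i := by
    intro hr i hi
    have e := (G.full.cert.agree_spec hr).2.2.1
    have h1 : (D.coroot.getD r #[]).getD i 0 = ((D.coroot.getD r #[]).toList).getD i 0 := by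
      simp [Array.getD_eq_getD_getElem?, List.getD_eq_getElem?_getD]
    rw [h1, e]
    simp [hi]
  constructor
  · rintro ⟨hr, h⟩
    exact ⟨hr, fun i hi => key hr i i.isLt ▸ h i i.isLt hi⟩
  · rintro ⟨hr, h⟩
    exact ⟨hr, fun i hi hJ => (key hr i hi).trans (h ⟨i, hi⟩ hJ)⟩

theorem inJ_simple {J : Set ℕ} {i : Fin D.rank} : T.InJ J (D.simple i) ↔ i.val ∈ J := by
  constructor
  · rintro ⟨-, h⟩
    by_contra hi
    have := h i hi
    rw [((G.full.node_spec i.isLt).2.2.2.2.1 i i.isLt).1, if_pos rfl] at this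
    exact one_ne_zero this
  · intro hi
    refine ⟨G.full.simple_lt i.isLt, fun j hj => ?_⟩
    rw [((G.full.node_spec i.isLt).2.2.2.2.1 j j.isLt).1, if_neg]
    intro e
    exact hj (e ▸ hi)

theorem inJ_negR {J : Set ℕ} {r : ℕ} (h : T.InJ J r) : T.InJ J (negR D r) :=
  ⟨Cert.negR_lt h.1, fun i hi => by
    rw [((G.full.cert.root_spec h.1).2.2.2.1 i i.isLt).2, h.2 i hi, neg_zero]⟩

theorem inJ_reflT {J : Set ℕ} {r : ℕ} {l : Fin D.rank} (hl : l.val ∈ J) (h : T.InJ J r) :
    T.InJ J (T.reflT l r) := by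
  obtain ⟨hlt, -, -, -, hlin, -⟩ := G.full.reflT_spec l.isLt h.1
  refine ⟨hlt, fun i hi => ?_⟩
  rw [(hlin i i.isLt).2, if_neg, sub_zero, h.2 i hi]
  exact fun e => hi (e ▸ hl)

theorem not_inJ_reflT {J : Set ℕ} {r : ℕ} (hr : r < D.nroots) {l : Fin D.rank} (hl : l.val ∈ J)
    (h : ¬ T.InJ J r) : ¬ T.InJ J (T.reflT l r) := fun hc => by
  have := G.inJ_reflT hl hc
  rw [(G.full.reflT_spec l.isLt hr).2.1] at this
  exact h this

/-- Every positive root supported in `J` comes from a fundamental one by reflections in `J`. -/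
theorem inJ_induction {J : Set ℕ} {P : ℕ → Prop}
    (base : ∀ i : Fin D.rank, i.val ∈ J → P (D.simple i))
    (step : ∀ (l : Fin D.rank) (r : ℕ), l.val ∈ J → IsPos D r → T.InJ J r → P r → P (T.reflT l r)) :
    ∀ {r : ℕ}, IsPos D r → T.InJ J r → P r := by
  intro r hpos hJ
  induction hn : (T.ht r).toNat using Nat.strong_induction_on generalizing r with
  | _ n ih =>
    subst hn
    obtain ⟨-, -, -, -, hsum⟩ := G.full.cert.root_spec hpos.1
    obtain ⟨l, hl1, hl2⟩ : ∃ l : Fin D.rank, 0 < T.cor r l.val ∧ 0 < T.cart l.val r := by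
      by_contra hc
      simp only [not_exists, not_and, not_lt] at hc
      have : ((List.range D.rank).map fun i => T.cor r i * T.cart i r).sum ≤ 0 := by
        refine (List.sum_le_card_nsmul _ 0 fun a ha => ?_).trans (by simp)
        obtain ⟨i, hi, rfl⟩ := List.mem_map.mp ha
        rw [List.mem_range] at hi
        rcases ((G.pos_iff_cor hpos.1).mp hpos ⟨i, hi⟩).lt_or_eq with h | h
        · exact mul_nonpos_of_nonneg_of_nonpos h.le (hc ⟨i, hi⟩ h)
        · simp only at h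
          rw [← h, zero_mul]
      omega
    have hlJ : l.val ∈ J := by
      by_contra h
      rw [hJ.2 l h] at hl1
      exact lt_irrefl _ hl1
    by_cases hs : r = D.simple l
    · exact hs ▸ base l hlJ
    obtain ⟨hlt, hinv, -, hht, -⟩ := G.full.reflT_spec l.isLt hpos.1
    have hpos' : IsPos D (T.reflT l r) :=
      (G.refl_pos l (s := ⟨r, hpos.1⟩) hpos fun e => hs (congrArg Fin.val e)).1
    have h1 := (G.pos_iff_ht hpos'.1).mp hpos'
    have := ih _ (by omega) hpos' (G.inJ_reflT hlJ hJ) rfl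
    have := step l _ hlJ hpos' (G.inJ_reflT hlJ hJ) this
    rwa [hinv] at this

/-- A subgroup with the root elements of the fundamental roots in `J` and their reflections has all
root elements of the roots supported in `J`. -/
theorem x_mem_of_inJ {J : Set ℕ} {K : Subgroup (GL D.Idx F)}
    (hx : ∀ (i : Fin D.rank) (t : F), i.val ∈ J → G.full.x (D.simple i) t ∈ K)
    (hn : ∀ i : Fin D.rank, i.val ∈ J → G.full.ns F i ∈ K) {r : ℕ} (h : T.InJ J r) (t : F) :
    G.full.x r t ∈ K := by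
  suffices key : ∀ {r : ℕ}, IsPos D r → T.InJ J r →
      ∀ t : F, G.full.x r t ∈ K ∧ G.full.x (negR D r) t ∈ K by
    by_cases hp : IsPos D r
    · exact (key hp h t).1
    · have hp' : IsPos D (negR D r) :=
        (G.pos_negF (s := ⟨r, h.1⟩)).mpr hp
      have := (key hp' (G.inJ_negR h) t).2
      rwa [Cert.negR_negR h.1] at this
  intro r hp hJ
  refine G.inJ_induction (P := fun r => ∀ t : F, G.full.x r t ∈ K ∧ G.full.x (negR D r) t ∈ K)
    (fun i hi t => ⟨hx i t hi, ?_⟩) (fun l r hl hr _ ih t => ?_) hp hJ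
  · obtain ⟨v, hv⟩ := G.x_negR_simple_eq i t
    rw [hv]
    exact mul_mem (mul_mem (hn i hi) (hx i v hi)) (inv_mem (hn i hi))
  · obtain ⟨-, -, hneg, -, -, -, hs, -, -, -⟩ := G.full.reflT_spec l.isLt hr.1
    have hss : (T.sgn l r : F) * (T.sgn l r : F) = 1 := by
      rcases hs with e | e <;> simp [e]
    constructor
    · rw [show t = (T.sgn l r : F) * ((T.sgn l r : F) * t) by rw [← mul_assoc, hss, one_mul],
        ← G.full.ns_conj l.isLt hr.1]
      exact mul_mem (mul_mem (hn l hl) (ih _).1) (inv_mem (hn l hl))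
    · rw [← hneg, show t = (T.sgn l r : F) * ((T.sgn l r : F) * t) by rw [← mul_assoc, hss, one_mul]]
      nth_rewrite 1 [← G.full.sgn_neg_eq l.isLt hr.1]
      rw [← G.full.ns_conj l.isLt (Cert.negR_lt hr.1)]
      exact mul_mem (mul_mem (hn l hl) (ih _).2) (inv_mem (hn l hl))

theorem rad_eq {J : Set ℕ} :
    D.unipotentRadical F J = G.US F {r | IsPos D r ∧ ¬ T.InJ J r} := by
  unfold ChevalleyDatum.unipotentRadical US
  congr 1
  ext g
  simp only [Set.mem_setOf_eq, G.full.eq_x, G.isPosRoot_iff, G.inRootSub_iff]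
  exact ⟨fun ⟨r, t, h1, h2, h3⟩ => ⟨r, ⟨h1, h2⟩, t, h3⟩,
    fun ⟨r, ⟨h1, h2⟩, t, h3⟩ => ⟨r, t, h1, h2, h3⟩⟩

theorem levi_x_mem {J : Set ℕ} {r : ℕ} (h : T.InJ J r) (t : F) :
    G.full.x r t ∈ D.leviSubgroup F J :=
  Subgroup.mem_sup_right (Subgroup.subset_closure
    ⟨r, t, G.inRootSub_iff.mpr h, G.full.coe_x' r t⟩)

theorem levi_le_iff {J : Set ℕ} {K : Subgroup (GL D.Idx F)} (hd : D.diagonalSubgroup F ≤ K)
    (hx : ∀ r, T.InJ J r → ∀ t : F, G.full.x r t ∈ K) : D.leviSubgroup F J ≤ K := by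
  refine sup_le hd ((Subgroup.closure_le _).mpr ?_)
  rintro g ⟨r, t, hr, hg⟩
  rw [G.full.eq_x] at hg
  exact hg ▸ hx r (G.inRootSub_iff.mp hr) t

theorem ns_mem_parabolic {J : Set ℕ} {i : Fin D.rank} (hi : i.val ∈ J) :
    G.full.ns F i ∈ D.parabolicSubgroup F J :=
  Subgroup.mem_sup_right (Subgroup.subset_closure
    ⟨i, hi, i.isLt, G.full.coe_nr _ (G.full.simple_lt i.isLt) _⟩)

theorem ns_mem_levi {J : Set ℕ} {i : Fin D.rank} (hi : i.val ∈ J) :
    G.full.ns F i ∈ D.leviSubgroup F J := by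
  have h := G.inJ_simple.mpr hi
  exact mul_mem (mul_mem (G.levi_x_mem h _) (G.levi_x_mem (G.inJ_negR h) _)) (G.levi_x_mem h _)

theorem parabolic_eq_closure (J : Set ℕ) :
    D.parabolicSubgroup F J = D.diagonalSubgroup F ⊔ Subgroup.closure
      {g : GL D.Idx F | ∃ (r : ℕ) (t : F), (D.IsPosRoot r ∨ D.InRootSub J r) ∧
        (g : Matrix D.Idx D.Idx F) = D.x F r t} := by
  refine le_antisymm (sup_le (sup_le ?_ le_sup_left) ?_) (sup_le ?_ ?_)
  · rw [G.posUnipotent_eq]
    refine (Subgroup.closure_le _).mpr ?_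
    rintro g ⟨r, hr, t, rfl⟩
    exact Subgroup.mem_sup_right (Subgroup.subset_closure
      ⟨r, t, Or.inl (G.isPosRoot_iff.mpr hr), G.full.coe_x' r t⟩)
  · refine (Subgroup.closure_le _).mpr ?_
    rintro g ⟨j, hj, hlt, hg⟩
    obtain rfl : g = G.full.ns F j := Units.ext
      (hg.trans (G.full.coe_nr _ (G.full.simple_lt hlt) _).symm)
    have hs := (G.inRootSub_iff (J := J)).mpr ((G.inJ_simple (i := ⟨j, hlt⟩)).mpr hj)
    have hs' := (G.inRootSub_iff (J := J)).mpr
      (G.inJ_negR ((G.inJ_simple (i := ⟨j, hlt⟩)).mpr hj))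
    refine mul_mem (mul_mem ?_ ?_) ?_
    · exact Subgroup.mem_sup_right (Subgroup.subset_closure ⟨_, _, Or.inr hs, G.full.coe_x' _ _⟩)
    · exact Subgroup.mem_sup_right (Subgroup.subset_closure ⟨_, _, Or.inr hs', G.full.coe_x' _ _⟩)
    · exact Subgroup.mem_sup_right (Subgroup.subset_closure ⟨_, _, Or.inr hs, G.full.coe_x' _ _⟩)
  · exact fun g hg => Subgroup.mem_sup_left (Subgroup.mem_sup_right hg)
  · refine (Subgroup.closure_le _).mpr ?_
    rintro g ⟨r, t, hr, hg⟩
    rw [G.full.eq_x] at hg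
    subst hg
    rcases hr with hr | hr
    · exact Subgroup.mem_sup_left (G.pos_le_borel (G.x_mem_pos (G.isPosRoot_iff.mp hr) t))
    · exact G.x_mem_of_inJ (fun i v _ => Subgroup.mem_sup_left
        (G.pos_le_borel (G.x_mem_pos (G.pos_simp i) v))) (fun i hi => G.ns_mem_parabolic hi)
        (G.inRootSub_iff.mp hr) t

theorem rad_sup_levi (J : Set ℕ) :
    D.unipotentRadical F J ⊔ D.leviSubgroup F J = D.parabolicSubgroup F J := by
  refine le_antisymm (sup_le ?_ (G.levi_le_iff ?_ ?_)) ?_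
  · rw [G.rad_eq]
    exact (Subgroup.closure_le _).mpr fun g ⟨r, hr, t, e⟩ =>
      e ▸ Subgroup.mem_sup_left (G.pos_le_borel (G.x_mem_pos hr.1 t))
  · exact fun g hg => Subgroup.mem_sup_left (Subgroup.mem_sup_right hg)
  · exact fun r hr t => G.x_mem_of_inJ (fun i v _ => Subgroup.mem_sup_left
      (G.pos_le_borel (G.x_mem_pos (G.pos_simp i) v))) (fun i hi => G.ns_mem_parabolic hi) hr t
  · rw [G.parabolic_eq_closure]
    refine sup_le (le_sup_of_le_right le_sup_left) ((Subgroup.closure_le _).mpr ?_)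
    rintro g ⟨r, t, hr, hg⟩
    rw [G.full.eq_x] at hg
    subst hg
    by_cases hJ : T.InJ J r
    · exact Subgroup.mem_sup_right (G.levi_x_mem hJ t)
    · refine Subgroup.mem_sup_left ?_
      rw [G.rad_eq]
      exact G.x_mem_US (S := {r | IsPos D r ∧ ¬ T.InJ J r})
        ⟨G.isPosRoot_iff.mp (hr.resolve_right fun h => hJ (G.inRootSub_iff.mp h)), hJ⟩ t

/-! ### The grading of a parabolic subgroup -/

theorem mem_WJ_pw {J : Set ℕ} {σ : Equiv.Perm (Fin D.nroots)} (h : σ ∈ G.full.WJ (jList D J)) :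
    ∃ L : List (Fin D.rank), G.full.pw L = σ := by
  obtain ⟨L, -, rfl⟩ := G.exists_word_WJ h
  exact ⟨L, rfl⟩

theorem fJ_isAdd (J : Set ℕ) : T.IsAdd (G.fJ J) := by
  classical
  have key : ∀ L : List (Fin D.rank), ∃ (a : ℤ) (b : Fin D.rank → ℤ), ∀ x : ℕ,
      T.htPerm (G.full.pw L) x = a * T.gr x + ∑ k : Fin D.rank, b k * T.wt k x := by
    intro L
    obtain ⟨a, b, hab⟩ := G.ht_pw L
    refine ⟨a, b, fun x => ?_⟩
    by_cases hx : x < D.nroots
    · rw [T.htPerm_lt _ hx, hab, T.gr_root hx]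
      simp [T.wt_root hx]
    · rw [not_lt] at hx
      simp [htPerm, not_lt.mpr hx, T.gr_h hx, T.wt_h hx]
  refine ⟨fun x hx => ?_, fun r hr => ?_, fun r hr s hs j p hp => ?_⟩
  · simp [fJ, htPerm, not_lt.mpr hx]
  · rw [fJ, fJ, ← Finset.sum_neg_distrib]
    refine Finset.sum_congr rfl fun σ hσ => ?_
    obtain ⟨L, rfl⟩ := G.mem_WJ_pw (Finset.mem_filter.mp hσ).2
    obtain ⟨a, b, hab⟩ := key L
    simp only [hab, G.full.cert.isAdd_gr.neg r hr, (G.full.cert.isAdd_wt (Fin.isLt _)).neg r hr,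
      mul_neg, Finset.sum_neg_distrib]
    ring
  · simp only [fJ, Finset.mul_sum, ← Finset.sum_add_distrib]
    refine Finset.sum_congr rfl fun σ hσ => ?_
    obtain ⟨L, rfl⟩ := G.mem_WJ_pw (Finset.mem_filter.mp hσ).2
    obtain ⟨a, b, hab⟩ := key L
    have hsum : ∑ k : Fin D.rank, b k * T.wt k p.1 = ((j + 1 : ℕ) : ℤ) *
        (∑ k : Fin D.rank, b k * T.wt k r) + ∑ k : Fin D.rank, b k * T.wt k s := by
      rw [Finset.mul_sum, ← Finset.sum_add_distrib]
      refine Finset.sum_congr rfl fun k _ => ?_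
      rw [(G.full.cert.isAdd_wt k.isLt).chain r hr s hs j p hp]
      ring
    rw [hab, hab, hab, G.full.cert.isAdd_gr.chain r hr s hs j p hp, hsum]
    ring

theorem fJ_reflT {J : Set ℕ} {l : Fin D.rank} (hl : l.val ∈ J) {r : ℕ} (hr : r < D.nroots) :
    G.fJ J (T.reflT l r) = G.fJ J r := by
  classical
  obtain ⟨hlt, -⟩ := G.full.reflT_spec l.isLt hr
  have hm : G.full.refl l ∈ G.full.WJ (jList D J) := G.refl_mem (mem_jList.mpr ⟨l.isLt, hl⟩)
  refine Finset.sum_nbij' (fun σ => σ * G.full.refl l) (fun σ => σ * G.full.refl l) ?_ ?_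
    (fun σ _ => by rw [mul_assoc, G.refl_mul_self, mul_one])
    (fun σ _ => by rw [mul_assoc, G.refl_mul_self, mul_one]) (fun σ _ => ?_)
  · intro σ hσ
    simp only [Finset.mem_coe, Finset.mem_filter, Finset.mem_univ, true_and] at hσ ⊢
    exact mul_mem hσ hm
  · intro σ hσ
    simp only [Finset.mem_coe, Finset.mem_filter, Finset.mem_univ, true_and] at hσ ⊢
    exact mul_mem hσ hm
  · rw [T.htPerm_lt _ hlt, T.htPerm_lt _ hr, Equiv.Perm.mul_apply]
    rfl

theorem fJ_simple {J : Set ℕ} {l : Fin D.rank} (hl : l.val ∈ J) : G.fJ J (D.simple l) = 0 := by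
  have h1 := G.fJ_reflT hl (G.full.simple_lt l.isLt)
  rw [G.full.simple_reflect l.isLt, (G.fJ_isAdd J).neg _ (G.full.simple_lt l.isLt)] at h1
  omega

theorem fJ_inJ {J : Set ℕ} {r : ℕ} (h : T.InJ J r) : G.fJ J r = 0 := by
  suffices key : ∀ {r : ℕ}, IsPos D r → T.InJ J r → G.fJ J r = 0 by
    by_cases hp : IsPos D r
    · exact key hp h
    · have h2 := key ((G.pos_negF (s := ⟨r, h.1⟩)).mpr hp) (G.inJ_negR h)
      change G.fJ J (negR D r) = 0 at h2
      rw [(G.fJ_isAdd J).neg r h.1] at h2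
      omega
  intro r hp hJ
  exact G.inJ_induction (P := fun r => G.fJ J r = 0) (fun i hi => G.fJ_simple hi)
    (fun l r hl hr _ ih => by rw [G.fJ_reflT hl hr.1, ih]) hp hJ

theorem fJ_pos {J : Set ℕ} {r : ℕ} (hp : IsPos D r) (h : ¬ T.InJ J r) : 0 < G.fJ J r := by
  classical
  refine Finset.sum_pos (fun σ hσ => ?_) ⟨1, by simp⟩
  have hσ' := (Finset.mem_filter.mp hσ).2
  rw [T.htPerm_lt σ hp.1]
  refine (G.pos_iff_ht (Fin.isLt _)).mp ?_
  by_contra hn
  refine h ⟨hp.1, fun i hi => G.cor_eq_zero_of_flip hσ' (mem_inv.mpr ⟨hp, hn⟩) ?_⟩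
  exact fun hm => hi (mem_jList.mp hm).2

theorem fUni_x {J : Set ℕ} {r : ℕ} (hp : IsPos D r) (h : ¬ T.InJ J r) (t : F) :
    FUni (G.fJ J) ((G.full.x r t : GL D.Idx F) : Matrix D.Idx D.Idx F) := by
  intro x y hxy
  have hf := G.fJ_pos hp h
  rw [G.full.coe_x hp.1]
  have hz : ∀ m, 1 ≤ m → m ≤ 3 → T.P m r x y = 0 := by
    intro m h1 h3
    by_contra hne
    simp only [P, show m ≠ 0 by omega, h3, if_false, if_true] at hne
    have e := G.full.cert.A_hom (G.fJ_isAdd J) h1 hp.1 x y hne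
    have : 0 < (m : ℤ) * G.fJ J r := mul_pos (by exact_mod_cast h1) hf
    omega
  simp [X, Finset.sum_range_succ, Matrix.add_apply, T.P_zero, hz 1 le_rfl (by omega),
    hz 2 (by omega) (by omega), hz 3 (by omega) le_rfl, Matrix.one_apply]

theorem fPres_x {J : Set ℕ} {r : ℕ} (h : T.InJ J r) (t : F) :
    FPres (G.fJ J) ((G.full.x r t : GL D.Idx F) : Matrix D.Idx D.Idx F) := by
  intro x y hxy
  rw [G.full.coe_x h.1]
  have hne : x ≠ y := fun e => hxy (by rw [e])
  have hz : ∀ m, 1 ≤ m → m ≤ 3 → T.P m r x y = 0 := by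
    intro m h1 h3
    by_contra hne
    simp only [P, show m ≠ 0 by omega, h3, if_false, if_true] at hne
    have e := G.full.cert.A_hom (G.fJ_isAdd J) h1 h.1 x y hne
    rw [G.fJ_inJ h, mul_zero, zero_add] at e
    exact hxy e
  simp [X, Finset.sum_range_succ, Matrix.add_apply, T.P_zero, hz 1 le_rfl (by omega),
    hz 2 (by omega) (by omega), hz 3 (by omega) le_rfl, hne]

theorem rad_inf_levi (J : Set ℕ) :
    D.unipotentRadical F J ⊓ D.leviSubgroup F J = ⊥ := by
  classical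
  rw [eq_bot_iff]
  intro g hg
  obtain ⟨hU, hL⟩ := Subgroup.mem_inf.mp hg
  rw [G.rad_eq] at hU
  have h1 : FUni (G.fJ J) (g : Matrix D.Idx D.Idx F) ∧
      FUni (G.fJ J) ((g⁻¹ : GL D.Idx F) : Matrix D.Idx D.Idx F) := by
    clear hg hL
    induction hU using Subgroup.closure_induction with
    | mem g hg =>
      obtain ⟨r, hr, t, rfl⟩ := hg
      rw [G.full.x_inv]
      exact ⟨G.fUni_x hr.1 hr.2 t, G.fUni_x hr.1 hr.2 _⟩
    | one => simp [FUni]
    | mul a b _ _ ha hb =>
      rw [_root_.mul_inv_rev, Units.val_mul, Units.val_mul]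
      exact ⟨ha.1.mul hb.1, hb.2.mul ha.2⟩
    | inv a _ ha => rw [inv_inv]; exact ⟨ha.2, ha.1⟩
  let K : Subgroup (GL D.Idx F) :=
    { carrier := {g | FPres (G.fJ J) (g : Matrix D.Idx D.Idx F) ∧
        FPres (G.fJ J) ((g⁻¹ : GL D.Idx F) : Matrix D.Idx D.Idx F)}
      one_mem' := by
        have : FPres (G.fJ J) ((1 : GL D.Idx F) : Matrix D.Idx D.Idx F) := fun x y hxy => by
          rw [Units.val_one, Matrix.one_apply_ne fun e => hxy (by rw [e])]
        exact ⟨this, by rwa [inv_one]⟩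
      mul_mem' := fun {a b} ha hb => by
        refine ⟨?_, ?_⟩
        · rw [Units.val_mul]; exact ha.1.mul hb.1
        · rw [_root_.mul_inv_rev, Units.val_mul]; exact hb.2.mul ha.2
      inv_mem' := fun {a} ha => ⟨ha.2, by rw [inv_inv]; exact ha.1⟩ }
  have hK : D.leviSubgroup F J ≤ K := by
    refine G.levi_le_iff (fun h hh => ?_) fun r hr t => ⟨G.fPres_x hr t, by
      rw [G.full.x_inv]; exact G.fPres_x hr _⟩
    have hd : ∀ h ∈ D.diagonalSubgroup F,
        FPres (G.fJ J) ((h : GL D.Idx F) : Matrix D.Idx D.Idx F) := by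
      intro h hh x y hxy
      rw [G.full.diagonal_eq_range] at hh
      obtain ⟨c, rfl⟩ := hh
      rw [T.coe_hT, Matrix.diagonal_apply_ne _ fun e => hxy (by rw [e])]
    exact ⟨hd h hh, hd _ (inv_mem hh)⟩
  have h2 := (hK hL).1
  refine Subgroup.mem_bot.mpr (Units.ext ?_)
  ext x y
  by_cases h : G.fJ J (code x) = G.fJ J (code y)
  · exact h1.1 x y h.le
  · rw [h2 x y h, Units.val_one, Matrix.one_apply_ne fun e => h (by rw [e])]

theorem rad_normal (J : Set ℕ) :
    D.parabolicSubgroup F J ≤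
      Subgroup.normalizer (D.unipotentRadical F J : Set (GL D.Idx F)) := by
  rw [← G.rad_sup_levi]
  refine sup_le Subgroup.le_normalizer (G.levi_le_iff ?_ ?_)
  · rw [G.rad_eq]
    exact G.hT_normalizes _ fun s hs => hs.1.1
  · rw [G.rad_eq]
    set S := {r | IsPos D r ∧ ¬ T.InJ J r} with hSdef
    have hmem : ∀ g : GL D.Idx F, (∀ u ∈ G.US F S, g * u * g⁻¹ ∈ G.US F S) →
        (∀ u ∈ G.US F S, g⁻¹ * u * g ∈ G.US F S) →
        g ∈ Subgroup.normalizer (G.US F S : Set (GL D.Idx F)) := fun g h1 h2 => by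
      rw [Subgroup.mem_normalizer_iff]
      refine fun u => ⟨h1 u, fun h => ?_⟩
      have := h2 _ h
      rwa [show g⁻¹ * (g * u * g⁻¹) * g = u by group] at this
    refine fun r hr t => G.x_mem_of_inJ (fun i v hi => ?_) (fun i hi => ?_) hr t
    · have hc : ∀ v : F, ∀ u ∈ G.US F S,
          G.full.x (D.simple i) v * u * (G.full.x (D.simple i) v)⁻¹ ∈ G.US F S := by
        intro v u hu
        refine G.conj_US _ (fun s hs w => ?_) hu
        have h := G.conj_pos (F := F) (G.pos_simp i) hs.1 v w (S := S) fun _ c hc => by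
          have hk := G.comm_keys (G.pos_simp i) hs.1 hc
          refine ⟨hk.1, fun hcJ => ?_⟩
          obtain ⟨a, b, -, hb, hw⟩ := G.comm_add (G.full.simple_lt i.isLt) hs.1.1 hc
          have e := hw _ (G.fJ_isAdd J)
          rw [G.fJ_inJ hcJ, G.fJ_simple hi, mul_zero, zero_add] at e
          nlinarith [G.fJ_pos hs.1 hs.2]
        have h' := mul_mem (G.x_mem_US (S := S) hs w) h
        rwa [mul_inv_cancel_left] at h'
      refine hmem _ (hc v) fun u hu => ?_
      have := hc (-v) u hu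
      rwa [← G.full.x_inv, inv_inv] at this
    · have hc : ∀ u ∈ G.US F S, G.full.ns F i * u * (G.full.ns F i)⁻¹ ∈ G.US F S := by
        refine fun u hu => G.conj_x_act (G.rootAct_ns i) (fun s hs => ?_) hu
        refine ⟨hs.1.1, (G.refl_pos i (s := ⟨s, hs.1.1⟩) hs.1 fun e => hs.2 ?_).1,
          G.not_inJ_reflT hs.1.1 hi hs.2⟩
        rw [show s = D.simple i from congrArg Fin.val e]
        exact G.inJ_simple.mpr hi
      refine hmem _ hc fun u hu => ?_
      have h2 := hc u hu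
      obtain ⟨d, hd⟩ := G.hr_simple_mem (F := F) i (neg_ne_zero.mpr one_ne_zero)
      have hd' : (G.full.ns F i * G.full.ns F i)⁻¹ ∈ D.diagonalSubgroup F := by
        refine inv_mem ?_
        rw [G.full.ns_sq i.isLt, hd, G.full.diagonal_eq_range]
        exact ⟨d, rfl⟩
      have h3 := (Subgroup.mem_normalizer_iff.mp
        (G.hT_normalizes S (fun s hs => hs.1.1) hd') _).mp h2
      rwa [show (G.full.ns F i * G.full.ns F i)⁻¹ * (G.full.ns F i * u * (G.full.ns F i)⁻¹) *
        (G.full.ns F i * G.full.ns F i)⁻¹⁻¹ = (G.full.ns F i)⁻¹ * u * G.full.ns F i by group] at h3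

theorem normalizer_rad (J : Set ℕ) :
    Subgroup.normalizer (D.unipotentRadical F J : Set (GL D.Idx F)) ⊓ D.group F =
      D.parabolicSubgroup F J := by
  have hPG : D.parabolicSubgroup F J ≤ D.group F := by
    refine sup_le G.borel_le_group ((Subgroup.closure_le _).mpr ?_)
    rintro g ⟨j, -, hlt, hg⟩
    obtain rfl : g = G.full.ns F j := Units.ext
      (hg.trans (G.full.coe_nr _ (G.full.simple_lt hlt) _).symm)
    exact G.ns_mem_group ⟨j, hlt⟩
  refine le_antisymm ?_ (le_inf (G.rad_normal J) hPG)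
  intro g hg
  obtain ⟨hN, hgG⟩ := Subgroup.mem_inf.mp hg
  let P := G.bnPair F
  set M := (Subgroup.normalizer (D.unipotentRadical F J : Set (GL D.Idx F))).subgroupOf (D.group F)
  have hBM : P.B ≤ M := fun b hb => (le_sup_left.trans (G.rad_normal J))
    (Subgroup.mem_subgroupOf.mp hb)
  have e := CfsgLib.BN.eq_parabolic P hBM
  have hle : P.parabolic (P.S ∩ (M : Set (D.group F))) ≤
      (D.parabolicSubgroup F J).subgroupOf (D.group F) := by
    refine sup_le (fun b hb => Subgroup.mem_sup_left (Subgroup.mem_subgroupOf.mp hb))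
      ((Subgroup.closure_le _).mpr ?_)
    rintro n ⟨hn, hnM⟩
    obtain ⟨i, hi⟩ := G.mem_simpleSet.mp hn
    by_cases hiJ : i.val ∈ J
    · rw [SetLike.mem_coe, Subgroup.mem_subgroupOf, hi]
      exact G.ns_mem_parabolic hiJ
    exfalso
    have hnM' : G.full.ns F i ∈
        Subgroup.normalizer (D.unipotentRadical F J : Set (GL D.Idx F)) :=
      hi ▸ Subgroup.mem_subgroupOf.mp hnM
    rw [G.rad_eq] at hnM'
    have hx : G.full.x (D.simple i) 1 ∈ G.US F {r | IsPos D r ∧ ¬ T.InJ J r} :=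
      G.x_mem_US (S := {r | IsPos D r ∧ ¬ T.InJ J r})
        ⟨G.pos_simp i, fun h => hiJ (G.inJ_simple.mp h)⟩ 1
    have h1 := (Subgroup.mem_normalizer_iff.mp hnM' _).mp hx
    have h2 : G.full.ns F i * G.full.x (D.simple i) 1 * (G.full.ns F i)⁻¹ ∈ D.posUnipotent F := by
      rw [G.posUnipotent_eq]
      exact G.US_mono (fun s hs => hs.1) h1
    rw [G.full.ns_conj i.isLt (G.full.simple_lt i.isLt), G.full.simple_reflect i.isLt] at h2
    have hlt := Cert.negR_lt (D := D) (G.full.simple_lt i.isLt)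
    have hnp : ¬ IsPos D (negR D (D.simple i)) := fun h => G.negR_pos (G.pos_simp i) h.2
    have h3 := G.pos_inf_neg h2 (G.x_mem_neg hlt hnp _)
    have h4 := G.x_eq_one hlt h3
    rcases (G.full.reflT_spec i.isLt (G.full.simple_lt i.isLt)).2.2.2.2.2.2.1 with hs | hs <;>
      rw [hs] at h4 <;> simp at h4
  have hgM : (⟨g, hgG⟩ : D.group F) ∈ M := Subgroup.mem_subgroupOf.mpr hN
  rw [e] at hgM
  exact Subgroup.mem_subgroupOf.mp (hle hgM)

end Good

end Tab

end CfsgLib.Chev
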