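import Cfsg.Agent.Chev.Weyl

/-!
The length generating function of the Weyl group, factorised along orbits of fundamental weights.
-/

set_option autoImplicit false

namespace CfsgLib.Chev

open Cfsg.Lie

namespace Tab

variable {D : ChevalleyDatum}

/-- A reflection acting on the coordinates of a weight. -/
def refW (T : Tab D) (j : ℕ) (μ : List ℤ) : List ℤ :=
  (List.range D.rank).map fun i => μ.getD i 0 - T.cart i (D.simple j) * μ.getD j 0

/-- The fundamental weight. -/
def fundW (D : ChevalleyDatum) (k : ℕ) : List ℤ :=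
  (List.range D.rank).map fun i => cond (Nat.beq i k) 1 0

/-- The orbit, built from a list of (reflection, index of the weight reflected). -/
def orbitW (T : Tab D) (k : ℕ) (par : List (ℕ × ℕ)) : List (List ℤ) :=
  par.foldl (fun O p => O ++ [T.refW p.1 (O.getD p.2 [])]) [fundW D k]

/-- The parent data are well formed. -/
def chkPar (D : ChevalleyDatum) (J : List ℕ) : ℕ → List (ℕ × ℕ) → Bool
  | _, [] => true
  | n, p :: ps =>
    Nat.blt p.1 D.rank && J.contains p.1 && Nat.blt p.2 n && chkPar D J (n + 1) ps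

/-- The pairing of a root with a weight. -/
def dotW (T : Tab D) (s : ℕ) (μ : List ℤ) : ℤ :=
  ((List.range D.rank).map fun i => T.cor s i * μ.getD i 0).sum

/-- The number of positive roots with negative pairing. -/
def negCount (T : Tab D) (μ : List ℤ) : ℕ :=
  (List.range D.nroots).countP fun s =>
    Nat.ble D.nroots (Nat.mul 2 s) && decide (T.dotW s μ < 0)

/-- One level of the factorisation: the orbit of the `k`-th fundamental weight under the parabolic
subgroup of `J`, with its length exponents. -/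
def chkLevel (T : Tab D) (J : List ℕ) (k : ℕ) (par : List (ℕ × ℕ)) (exps : List ℕ) : Bool :=
  Nat.blt k D.rank && J.contains k && chkPar D J 1 par && decide (T.orbitW k par).Nodup &&
    ((T.orbitW k par).all fun μ => J.all fun j => (T.orbitW k par).contains (T.refW j μ)) &&
    decide ((T.orbitW k par).map T.negCount = exps)

/-- All levels, down to the empty set of fundamental roots. -/
def chkChain (T : Tab D) : List ℕ → List (ℕ × List (ℕ × ℕ) × List ℕ) → Bool
  | J, [] => J.isEmpty
  | J, l :: ls => T.chkLevel J l.1 l.2.1 l.2.2 && chkChain T (J.filter fun j => !(Nat.beq j l.1)) ls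

/-- The parabolic subgroup of the Weyl group. -/
def Full.WJ {T : Tab D} (H : T.Full) (J : List ℕ) : Subgroup (Equiv.Perm (Fin D.nroots)) :=
  Subgroup.closure {σ | ∃ j : Fin D.rank, j.val ∈ J ∧ σ = H.refl j}

open scoped Classical in
/-- The length generating function of a parabolic subgroup. -/
noncomputable def Full.poly {T : Tab D} (H : T.Full) (J : List ℕ) {R : Type*} [CommSemiring R]
    (q : R) : R :=
  ∑ σ ∈ Finset.univ.filter (fun σ => σ ∈ H.WJ J), q ^ (invSet σ).card

/-- The coordinates of the image of the `k`-th fundamental weight. -/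
def Full.wl {T : Tab D} (H : T.Full) (k : ℕ) (σ : Equiv.Perm (Fin D.nroots)) : List ℤ :=
  (List.range D.rank).map fun i =>
    if h : i < D.rank then T.cor (σ.symm (H.simp' ⟨i, h⟩)) k else 0

namespace Good

variable {T : Tab D} (G : T.Good)
include G

theorem refl_mem {J : List ℕ} {j : Fin D.rank} (hj : j.val ∈ J) :
    G.full.refl j ∈ G.full.WJ J := Subgroup.subset_closure ⟨j, hj, rfl⟩

theorem refl_mul_self (j : Fin D.rank) : G.full.refl j * G.full.refl j = 1 :=
  Equiv.ext fun s => Fin.ext (G.full.reflT_spec j.isLt s.isLt).2.1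

theorem exists_word_WJ {J : List ℕ} {σ : Equiv.Perm (Fin D.nroots)} (h : σ ∈ G.full.WJ J) :
    ∃ L : List (Fin D.rank), (∀ j ∈ L, j.val ∈ J) ∧ G.full.pw L = σ := by
  induction h using Subgroup.closure_induction'' with
  | mem σ hσ =>
    obtain ⟨j, hj, rfl⟩ := hσ
    exact ⟨[j], by simpa using hj, by simp [Full.pw]⟩
  | inv_mem σ hσ =>
    obtain ⟨j, hj, rfl⟩ := hσ
    exact ⟨[j], by simpa using hj,
      by rw [inv_eq_of_mul_eq_one_right (G.refl_mul_self j)]; simp [Full.pw]⟩
  | one => exact ⟨[], by simp, by simp [Full.pw]⟩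
  | mul a b _ _ ha hb =>
    obtain ⟨L, hL, rfl⟩ := ha
    obtain ⟨L', hL', rfl⟩ := hb
    refine ⟨L ++ L', fun j hj => ?_, G.pw_append L L'⟩
    rcases List.mem_append.mp hj with h | h
    exacts [hL j h, hL' j h]

theorem cor_linear {J : List ℕ} {σ : Equiv.Perm (Fin D.nroots)} (h : σ ∈ G.full.WJ J)
    (s : Fin D.nroots) (j : Fin D.rank) :
    T.cor (σ s) j = ∑ l : Fin D.rank, T.cor s l * T.cor (σ (G.full.simp' l)) j := by
  obtain ⟨L, -, rfl⟩ := G.exists_word_WJ h
  obtain ⟨c, hc⟩ := G.rootAct_nw (F := ℚ) L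
  exact (hc s).2.2.1 j

theorem negF_WJ {J : List ℕ} {σ : Equiv.Perm (Fin D.nroots)} (h : σ ∈ G.full.WJ J)
    (s : Fin D.nroots) : σ (negF s) = negF (σ s) := by
  obtain ⟨L, -, rfl⟩ := G.exists_word_WJ h
  obtain ⟨c, hc⟩ := G.rootAct_nw (F := ℚ) L
  exact (hc s).1

/-- Coordinates outside `J` are preserved. -/
theorem cor_out {J : List ℕ} {σ : Equiv.Perm (Fin D.nroots)} (h : σ ∈ G.full.WJ J)
    (s : Fin D.nroots) {j : Fin D.rank} (hj : j.val ∉ J) : T.cor (σ s) j = T.cor s j := by
  obtain ⟨L, hL, rfl⟩ := G.exists_word_WJ h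
  induction L with
  | nil => rfl
  | cons i L ih =>
    have ih' := ih (fun a ha => hL a (List.mem_cons_of_mem _ ha)) (list_prod_mem fun σ hσ => by
      obtain ⟨a, ha, rfl⟩ := List.mem_map.mp hσ
      exact G.refl_mem (hL a (List.mem_cons_of_mem _ ha)))
    rw [G.pw_cons, Equiv.Perm.mul_apply, ← ih']
    show T.cor (T.reflT i (G.full.pw L s)) j = _
    rw [((G.full.reflT_spec i.isLt (Fin.isLt _)).2.2.2.2.1 j j.isLt).2, if_neg, sub_zero]
    intro e
    exact hj (e ▸ hL i (List.mem_cons_self ..))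

theorem pos_of_cor_pos {s : ℕ} (hs : s < D.nroots) {j : ℕ} (hj : j < D.rank)
    (h : 0 < T.cor s j) : IsPos D s := by
  refine ⟨hs, ?_⟩
  by_contra hn
  exact absurd h (not_lt.mpr ((G.cor_sign hs hj).2 hn))

theorem pos_iff_cor {s : ℕ} (hs : s < D.nroots) :
    IsPos D s ↔ ∀ j : Fin D.rank, 0 ≤ T.cor s j := by
  refine ⟨fun h j => (G.cor_sign hs j.isLt).1 h.2, fun h => ?_⟩
  obtain ⟨j, hj⟩ := G.exists_cor_ne_zero (F := ℚ) hs
  exact G.pos_of_cor_pos hs j.isLt (lt_of_le_of_ne (h j) fun e => hj (by rw [← e]; simp))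

/-- An element of `W_J` only changes the sign of roots supported in `J`. -/
theorem cor_eq_zero_of_flip {J : List ℕ} {σ : Equiv.Perm (Fin D.nroots)} (h : σ ∈ G.full.WJ J)
    {s : Fin D.nroots} (hs : s ∈ invSet σ) {j : Fin D.rank} (hj : j.val ∉ J) : T.cor s j = 0 := by
  obtain ⟨h1, h2⟩ := mem_inv.mp hs
  refine le_antisymm ?_ ((G.pos_iff_cor s.isLt).mp h1 j)
  by_contra hn
  exact h2 (G.pos_of_cor_pos (Fin.isLt _) j.isLt (by rw [G.cor_out h s hj]; omega))

theorem exists_flip_simple {J : List ℕ} {σ : Equiv.Perm (Fin D.nroots)} (h : σ ∈ G.full.WJ J)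
    {s : Fin D.nroots} (hs : s ∈ invSet σ) :
    ∃ l : Fin D.rank, T.cor s l ≠ 0 ∧ ¬ IsPos D (σ (G.full.simp' l)).val := by
  by_contra hc
  simp only [not_exists, not_and, not_not] at hc
  obtain ⟨h1, h2⟩ := mem_inv.mp hs
  refine h2 ((G.pos_iff_cor (Fin.isLt _)).mpr fun j => ?_)
  rw [G.cor_linear h]
  refine Finset.sum_nonneg fun l _ => ?_
  rcases eq_or_ne (T.cor s l) 0 with e | e
  · simp [e]
  · exact mul_nonneg ((G.pos_iff_cor s.isLt).mp h1 l)
      ((G.pos_iff_cor (Fin.isLt _)).mp (hc l e) j)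

theorem getD_wl (k : ℕ) (σ : Equiv.Perm (Fin D.nroots)) (i : Fin D.rank) :
    (G.full.wl k σ).getD i.val 0 = T.cor (σ.symm (G.full.simp' i)) k := by
  simp [Full.wl, List.getD_eq_getElem?_getD]

theorem symm_mem {J : List ℕ} {σ : Equiv.Perm (Fin D.nroots)} (h : σ ∈ G.full.WJ J) :
    σ.symm ∈ G.full.WJ J := inv_mem h

theorem cor_symm_eq_dot {J : List ℕ} {σ : Equiv.Perm (Fin D.nroots)} (h : σ ∈ G.full.WJ J)
    (k : Fin D.rank) (s : Fin D.nroots) :
    T.cor (σ.symm s) k = T.dotW s (G.full.wl k.val σ) := by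
  rw [G.cor_linear (G.symm_mem h), dotW, list_sum_range]
  exact Finset.sum_congr rfl fun l _ => by rw [G.getD_wl]

theorem wl_eq_fund_iff {J : List ℕ} (k : Fin D.rank)
    {σ : Equiv.Perm (Fin D.nroots)} (h : σ ∈ G.full.WJ J) :
    G.full.wl k.val σ = fundW D k.val ↔
      σ ∈ G.full.WJ (J.filter fun j => !(Nat.beq j k.val)) := by
  have hfund : ∀ i : Fin D.rank, (fundW D k.val).getD i.val 0 = T.cor (G.full.simp' i) k := by
    intro i
    rw [G.cor_simple]
    rcases eq_or_ne i k with e | e
    · subst e; simp [fundW, List.getD_eq_getElem?_getD]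
    · simp [fundW, List.getD_eq_getElem?_getD, e.symm, Tab.beq_false (Fin.val_ne_of_ne e)]
  constructor
  · intro he
    obtain ⟨n, hn⟩ : ∃ n, (invSet σ).card = n := ⟨_, rfl⟩
    induction n using Nat.strong_induction_on generalizing σ with
    | _ n ih =>
      subst hn
      by_cases hz : invSet σ = ∅
      · obtain ⟨L, -, rfl⟩ := G.exists_word_WJ h
        have hpos : ∀ s, IsPos D s.val → IsPos D (G.full.pw L s).val := fun s hs => by
          by_contra hn'
          have : s ∈ invSet (G.full.pw L) := mem_inv.mpr ⟨hs, hn'⟩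
          rw [hz] at this
          exact absurd this (Finset.notMem_empty s)
        obtain ⟨c, hc⟩ := G.nw_mem_torus (F := ℚ) _ L rfl hpos
        have e1 : G.full.pw L = G.full.pw [] := G.pw_eq_of_nw (F := ℚ) (L' := []) (c := c) (by
          rw [hc]; simp [Full.nw])
        rw [e1]
        exact one_mem _
      · obtain ⟨s, hs⟩ := Finset.nonempty_of_ne_empty hz
        obtain ⟨l, hl, hneg⟩ := G.exists_flip_simple h hs
        have hlJ : l.val ∈ J := by
          by_contra hl'
          exact hl (G.cor_eq_zero_of_flip h hs hl')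
        have hlk : l ≠ k := by
          rintro rfl
          have e0 := G.cor_symm_eq_dot h l (σ (G.full.simp' l))
          rw [Equiv.symm_apply_apply, he, G.cor_simple, if_pos rfl, dotW, list_sum_range] at e0
          simp only [hfund, G.cor_simple] at e0
          simp only [mul_ite, mul_one, mul_zero, eq_comm (a := l), Finset.sum_ite_eq',
            Finset.mem_univ, if_true] at e0
          exact hneg (G.pos_of_cor_pos (Fin.isLt _) l.isLt (by omega))
        set τ := σ * G.full.refl l with hτ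
        have hτmem : τ ∈ G.full.WJ J := mul_mem h (G.refl_mem hlJ)
        have hcard : (invSet τ).card < (invSet σ).card := by
          obtain ⟨L, -, hL⟩ := G.exists_word_WJ hτmem
          have hp : IsPos D (G.full.pw L (G.full.simp' l)).val := by
            rw [hL, hτ, Equiv.Perm.mul_apply, G.refl_simp, G.negF_WJ h, G.pos_negF]
            exact hneg
          have := G.inv_mul_refl hp
          rwa [G.pw_append, hL, show G.full.pw [l] = G.full.refl l by simp [Full.pw], hτ,
            mul_assoc, G.refl_mul_self, mul_one] at this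
        have hmem : G.full.refl l ∈ G.full.WJ (J.filter fun j => !(Nat.beq j k.val)) := by
          refine G.refl_mem (List.mem_filter.mpr ⟨hlJ, ?_⟩)
          simp [Tab.beq_false (Fin.val_ne_of_ne hlk)]
        have hwl : G.full.wl k.val τ = G.full.wl k.val σ := by
          refine List.map_congr_left fun i hi => ?_
          rw [List.mem_range] at hi
          simp only [hi, dif_pos]
          rw [show τ.symm (G.full.simp' ⟨i, hi⟩) =
            G.full.refl l (σ.symm (G.full.simp' ⟨i, hi⟩)) from rfl]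
          refine G.cor_out (J := [l.val]) (G.refl_mem (by simp)) _ ?_
          simpa using (Fin.val_ne_of_ne hlk).symm
        have := mul_mem (ih _ hcard hτmem (hwl.trans he) rfl) hmem
        rwa [hτ, mul_assoc, G.refl_mul_self, mul_one] at this
  · intro h'
    refine List.ext_getElem (by simp [Full.wl, fundW]) fun i h1 h2 => ?_
    have hi : i < D.rank := by simpa [Full.wl] using h1
    have e := G.cor_out (G.symm_mem h') (G.full.simp' ⟨i, hi⟩) (j := k)
      (fun hk => by have := (List.mem_filter.mp hk).2; simp at this)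
    rw [G.cor_simple] at e
    simp only [Full.wl, fundW, List.getElem_map, List.getElem_range, hi, dif_pos, e]
    rcases eq_or_ne i k.val with rfl | hik
    · simp
    · simp [Tab.beq_false hik, Fin.ext_iff, hik.symm]

theorem wl_mul_refl (k : Fin D.rank) {J : List ℕ} {σ : Equiv.Perm (Fin D.nroots)}
    (h : σ ∈ G.full.WJ J) (j : Fin D.rank) :
    G.full.wl k.val (G.full.refl j * σ) = T.refW j.val (G.full.wl k.val σ) := by
  refine List.ext_getElem (by simp [Full.wl, refW]) fun i h1 h2 => ?_
  have hi : i < D.rank := by simpa [Full.wl] using h1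
  have e0 : (G.full.wl k.val σ).getD i 0 = _ := G.getD_wl k σ ⟨i, hi⟩
  have el : (G.full.wl k.val (G.full.refl j * σ))[i] =
      T.cor (σ.symm (G.full.refl j (G.full.simp' ⟨i, hi⟩))) k := by
    simp only [Full.wl, List.getElem_map, List.getElem_range, hi, dif_pos]
    rfl
  rw [el]
  simp only [refW, List.getElem_map, List.getElem_range]
  rw [G.cor_linear (G.symm_mem h), e0, G.getD_wl k σ j]
  have e : ∀ l : Fin D.rank, T.cor (G.full.refl j (G.full.simp' ⟨i, hi⟩)) l =
      (if l = ⟨i, hi⟩ then 1 else 0) - if l = j then T.cart i (D.simple j) else 0 := by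
    intro l
    show T.cor (T.reflT j (G.full.simp' ⟨i, hi⟩)) l = _
    rw [((G.full.reflT_spec j.isLt (Fin.isLt _)).2.2.2.2.1 l l.isLt).2, G.cor_simple,
      show (G.full.simp' ⟨i, hi⟩ : ℕ) = D.simple i from rfl, G.full.pairT_simple hi]
    simp only [Fin.ext_iff]
  simp only [e, sub_mul, ite_mul, one_mul, zero_mul, Finset.sum_sub_distrib, Finset.sum_ite_eq',
    Finset.mem_univ, if_true]

theorem orbit_reach {J : List ℕ} (k : Fin D.rank) :
    ∀ (par : List (ℕ × ℕ)) (O : List (List ℤ)), chkPar D J O.length par = true →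
      (∀ μ ∈ O, ∃ σ ∈ G.full.WJ J, G.full.wl k.val σ = μ) →
      ∀ μ ∈ par.foldl (fun O p => O ++ [T.refW p.1 (O.getD p.2 [])]) O,
        ∃ σ ∈ G.full.WJ J, G.full.wl k.val σ = μ := by
  intro par
  induction par with
  | nil => intro O _ hO; exact hO
  | cons p ps ih =>
    intro O hchk hO
    simp only [chkPar, Bool.and_eq_true, Nat.blt_eq, List.contains_iff_mem] at hchk
    obtain ⟨⟨⟨h1, h2⟩, h3⟩, h4⟩ := hchk
    rw [List.foldl_cons]
    refine ih _ (by simpa using h4) fun μ hμ => ?_
    rcases List.mem_append.mp hμ with h | h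
    · exact hO μ h
    · rw [List.mem_singleton] at h
      obtain ⟨σ, hσ, e⟩ := hO _ (List.getElem_mem h3)
      refine ⟨G.full.refl ⟨p.1, h1⟩ * σ, mul_mem (G.refl_mem h2) hσ, ?_⟩
      rw [G.wl_mul_refl k hσ, e, h, List.getD_eq_getElem?_getD, List.getElem?_eq_getElem h3]
      rfl

/-- The factorisation at one level. -/
theorem poly_level {J : List ℕ} {k : ℕ} {par : List (ℕ × ℕ)} {exps : List ℕ}
    (hchk : T.chkLevel J k par exps = true) {R : Type*} [CommSemiring R] (q : R) :
    G.full.poly J q =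
      (exps.map fun e => q ^ e).sum * G.full.poly (J.filter fun j => !(Nat.beq j k)) q := by
  classical
  simp only [chkLevel, Bool.and_eq_true, Nat.blt_eq, List.contains_iff_mem, decide_eq_true_eq,
    List.all_eq_true] at hchk
  obtain ⟨⟨⟨⟨⟨hk, hkJ⟩, hpar⟩, hnd⟩, hclosed⟩, hexps⟩ := hchk
  set O := T.orbitW k par with hO
  set J' := J.filter fun j => !(Nat.beq j k) with hJ'
  have hJJ : ∀ j ∈ J', j ∈ J := fun j hj => (List.mem_filter.mp hj).1
  have hle : G.full.WJ J' ≤ G.full.WJ J :=
    Subgroup.closure_mono fun σ ⟨j, hj, e⟩ => ⟨j, hJJ j hj, e⟩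
  have hkk : G.full.wl k 1 = fundW D k :=
    (G.wl_eq_fund_iff (J := J) ⟨k, hk⟩ (one_mem _)).mpr (one_mem _)
  have hreach : ∀ μ ∈ O, ∃ σ ∈ G.full.WJ J, G.full.wl k σ = μ := by
    refine G.orbit_reach ⟨k, hk⟩ par [fundW D k] hpar fun μ hμ => ?_
    rw [List.mem_singleton] at hμ
    exact ⟨1, one_mem _, hkk.trans hμ.symm⟩
  have hcomplete : ∀ σ ∈ G.full.WJ J, G.full.wl k σ ∈ O := by
    intro σ hσ
    obtain ⟨L, hL, rfl⟩ := G.exists_word_WJ hσ
    clear hσ
    induction L with
    | nil =>
      show G.full.wl k 1 ∈ O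
      rw [hkk, hO, orbitW]
      have : ∀ (ps : List (ℕ × ℕ)) (O' : List (List ℤ)), fundW D k ∈ O' → fundW D k ∈
          ps.foldl (fun O p => O ++ [T.refW p.1 (O.getD p.2 [])]) O' := by
        intro ps
        induction ps with
        | nil => intro O' h; exact h
        | cons p ps ih => intro O' h; exact ih _ (List.mem_append_left _ h)
      exact this par _ (List.mem_singleton_self _)
    | cons i L ih =>
      have hmem : G.full.pw L ∈ G.full.WJ J := list_prod_mem fun σ hσ => by
        obtain ⟨a, ha, rfl⟩ := List.mem_map.mp hσ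
        exact G.refl_mem (hL a (List.mem_cons_of_mem _ ha))
      rw [G.pw_cons, G.wl_mul_refl ⟨k, hk⟩ hmem]
      exact hclosed _ (ih fun a ha => hL a (List.mem_cons_of_mem _ ha)) _
        (hL i (List.mem_cons_self ..))
  -- minimal representatives
  have hmin : ∀ μ ∈ O, ∃ τ ∈ G.full.WJ J, G.full.wl k τ = μ ∧
      ∀ j : Fin D.rank, j.val ∈ J' → IsPos D (τ (G.full.simp' j)).val := by
    intro μ hμ
    obtain ⟨σ, hσ, e⟩ := hreach μ hμ
    obtain ⟨τ, hτ, hτmin⟩ := Finset.exists_min_image
      (Finset.univ.filter fun τ => τ ∈ G.full.WJ J ∧ G.full.wl k τ = μ)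
      (fun τ => (invSet τ).card) ⟨σ, by simp [hσ, e]⟩
    simp only [Finset.mem_filter, Finset.mem_univ, true_and] at hτ hτmin
    refine ⟨τ, hτ.1, hτ.2, fun j hj => ?_⟩
    by_contra hneg
    have hmem' : τ * G.full.refl j ∈ G.full.WJ J := mul_mem hτ.1 (G.refl_mem (hJJ _ hj))
    have hwl : G.full.wl k (τ * G.full.refl j) = μ := by
      rw [← hτ.2]
      refine List.map_congr_left fun i hi => ?_
      rw [List.mem_range] at hi
      simp only [hi, dif_pos]
      rw [show (τ * G.full.refl j).symm (G.full.simp' ⟨i, hi⟩) =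
        G.full.refl j (τ.symm (G.full.simp' ⟨i, hi⟩)) from rfl]
      refine G.cor_out (J := [j.val]) (G.refl_mem (by simp)) _ (j := ⟨k, hk⟩) ?_
      have h2 := (List.mem_filter.mp hj).2
      intro h3
      simp only [List.mem_singleton] at h3
      simp [h3] at h2
    have hle' := hτmin _ ⟨hmem', hwl⟩
    obtain ⟨L, -, hL⟩ := G.exists_word_WJ hmem'
    have hp : IsPos D (G.full.pw L (G.full.simp' j)).val := by
      rw [hL, Equiv.Perm.mul_apply, G.refl_simp, G.negF_WJ hτ.1, G.pos_negF]
      exact hneg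
    have := G.inv_mul_refl hp
    rw [G.pw_append, hL, show G.full.pw [j] = G.full.refl j by simp [Full.pw], mul_assoc,
      G.refl_mul_self, mul_one] at this
    omega
  choose! τ hτJ hτwl hτpos using hmin
  -- sign changes of the minimal representatives lie outside the smaller root system
  have houtside : ∀ μ ∈ O, ∀ s ∈ invSet (τ μ), T.cor s k ≠ 0 := by
    intro μ hμ s hs hzero
    obtain ⟨l, hl, hneg⟩ := G.exists_flip_simple (hτJ μ hμ) hs
    refine hneg (hτpos μ hμ l (List.mem_filter.mpr ⟨?_, ?_⟩))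
    · by_contra hl'
      exact hl (G.cor_eq_zero_of_flip (hτJ μ hμ) hs hl')
    · have : l.val ≠ k := fun e => hl (by rw [e]; exact hzero)
      simp [Tab.beq_false this]
  have hN : ∀ μ ∈ O, T.negCount μ = (invSet (τ μ)).card := by
    intro μ hμ
    have hd : ∀ s : Fin D.nroots, T.dotW s μ = T.cor ((τ μ).symm s) k := fun s => by
      rw [G.cor_symm_eq_dot (hτJ μ hμ) ⟨k, hk⟩, hτwl μ hμ]
    have e1 : T.negCount μ =
        (Finset.univ.filter fun s : Fin D.nroots => IsPos D s.val ∧ T.dotW s μ < 0).card := by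
      rw [negCount, List.countP_eq_length_filter, ← List.toFinset_card_of_nodup
        (List.Nodup.filter _ List.nodup_range), ← Finset.card_map Fin.valEmbedding]
      congr 1
      ext s
      constructor
      · intro hs
        simp only [List.mem_toFinset, List.mem_filter, List.mem_range, Bool.and_eq_true,
          Nat.ble_eq, decide_eq_true_eq] at hs
        exact Finset.mem_map.mpr ⟨⟨s, hs.1⟩,
          Finset.mem_filter.mpr ⟨Finset.mem_univ _, ⟨hs.1, hs.2.1⟩, hs.2.2⟩, rfl⟩
      · intro hs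
        obtain ⟨a, ha, rfl⟩ := Finset.mem_map.mp hs
        obtain ⟨-, h1, h2⟩ := Finset.mem_filter.mp ha
        simp only [List.mem_toFinset, List.mem_filter, List.mem_range, Bool.and_eq_true,
          Nat.ble_eq, decide_eq_true_eq]
        exact ⟨a.isLt, h1.2, h2⟩
    rw [e1]
    refine Finset.card_nbij' (fun s => negF ((τ μ).symm s)) (fun s => negF (τ μ s)) ?_ ?_ ?_ ?_
    · intro s hs
      simp only [Finset.coe_filter, Finset.mem_univ, true_and, Set.mem_setOf_eq] at hs
      obtain ⟨h1, h2⟩ := hs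
      rw [hd] at h2
      have hneg : ¬ IsPos D ((τ μ).symm s).val := fun h =>
        absurd h2 (not_lt.mpr ((G.pos_iff_cor (Fin.isLt _)).mp h ⟨k, hk⟩))
      refine mem_inv.mpr ⟨G.pos_negF.mpr hneg, ?_⟩
      rw [G.negF_WJ (hτJ μ hμ), G.pos_negF, Equiv.apply_symm_apply, not_not]
      exact h1
    · intro s hs
      simp only [Finset.coe_filter, Finset.mem_univ, true_and, Set.mem_setOf_eq]
      obtain ⟨h1, h2⟩ := mem_inv.mp hs
      refine ⟨G.pos_negF.mpr h2, ?_⟩
      rw [hd, ← G.negF_WJ (hτJ μ hμ), Equiv.symm_apply_apply]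
      have h3 := houtside μ hμ s hs
      have h4 := (G.pos_iff_cor s.isLt).mp h1 ⟨k, hk⟩
      have h5 : T.cor (negF s) k = - T.cor s k := ((G.full.cert.root_spec s.isLt).2.2.2.1 k hk).2
      simp only [] at h4
      omega
    · intro s _
      show negF (τ μ (negF ((τ μ).symm s))) = s
      rw [G.negF_WJ (hτJ μ hμ), Equiv.apply_symm_apply, negF_negF]
    · intro s _
      show negF ((τ μ).symm (negF (τ μ s))) = s
      rw [G.negF_WJ (G.symm_mem (hτJ μ hμ)), Equiv.symm_apply_apply, negF_negF]
  have hlen : ∀ μ ∈ O, ∀ π ∈ G.full.WJ J',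
      (invSet (τ μ * π)).card = (invSet (τ μ)).card + (invSet π).card := by
    intro μ hμ π hπ
    have hkJ' : k ∉ J' := fun h => by simpa using (List.mem_filter.mp h).2
    -- roots supported away from `k` stay positive under the minimal representative
    have hkeep : ∀ s : Fin D.nroots, IsPos D s.val → T.cor s k = 0 → IsPos D (τ μ s).val :=
      fun s h1 h2 => by
        by_contra hn
        exact houtside μ hμ s (mem_inv.mpr ⟨h1, hn⟩) h2
    have hpk : ∀ s, T.cor (π s) k = T.cor s k := fun s => G.cor_out hπ s (j := ⟨k, hk⟩) hkJ'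
    have himg : (invSet (τ μ)).map π.symm.toEmbedding ∪ invSet π = invSet (τ μ * π) := by
      ext s
      simp only [Finset.mem_union, Finset.mem_map_equiv, Equiv.symm_symm, mem_inv,
        Equiv.Perm.mul_apply]
      constructor
      · rintro (⟨h1, h2⟩ | ⟨h1, h2⟩)
        · have hk0 := houtside μ hμ (π s) (mem_inv.mpr ⟨h1, h2⟩)
          have h4 := (G.pos_iff_cor (π s).isLt).mp h1 ⟨k, hk⟩
          simp only [hpk] at h4 hk0
          exact ⟨G.pos_of_cor_pos s.isLt hk (by omega), h2⟩
        · refine ⟨h1, fun h3 => ?_⟩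
          have hz := G.cor_eq_zero_of_flip hπ (mem_inv.mpr ⟨h1, h2⟩) (j := ⟨k, hk⟩) hkJ'
          have h6 := hkeep (negF (π s)) (G.pos_negF.mpr h2) (by
            have h5 : T.cor (negF (π s)) k = - T.cor (π s) k :=
              ((G.full.cert.root_spec (π s).isLt).2.2.2.1 k hk).2
            have hz' : T.cor s k = 0 := hz
            rw [h5, hpk, hz', neg_zero])
          rw [G.negF_WJ (hτJ μ hμ), G.pos_negF] at h6
          exact h6 h3
      · rintro ⟨h1, h2⟩
        by_cases h3 : IsPos D (π s).val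
        · exact Or.inl ⟨h3, h2⟩
        · exact Or.inr ⟨h1, h3⟩
    have hdisj : Disjoint ((invSet (τ μ)).map π.symm.toEmbedding) (invSet π) := by
      rw [Finset.disjoint_left]
      intro s hs hs'
      rw [Finset.mem_map_equiv, Equiv.symm_symm, mem_inv] at hs
      exact (mem_inv.mp hs').2 hs.1
    rw [← himg, Finset.card_union_of_disjoint hdisj, Finset.card_map]
  have hwlmul : ∀ μ ∈ O, ∀ π ∈ G.full.WJ J', G.full.wl k (τ μ * π) = μ := by
    intro μ hμ π hπ
    conv_rhs => rw [← hτwl μ hμ]
    refine List.map_congr_left fun i hi => ?_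
    rw [List.mem_range] at hi
    simp only [hi, dif_pos]
    rw [show (τ μ * π).symm (G.full.simp' ⟨i, hi⟩) =
      π.symm ((τ μ).symm (G.full.simp' ⟨i, hi⟩)) from rfl]
    exact G.cor_out (G.symm_mem hπ) _ (j := ⟨k, hk⟩) fun h => by
      simpa using (List.mem_filter.mp h).2
  rw [← hexps, List.map_map]
  rw [show ((O.map ((fun e => q ^ e) ∘ T.negCount))).sum = ∑ μ ∈ O.toFinset, q ^ T.negCount μ from
    (List.sum_toFinset _ hnd).symm]
  rw [Full.poly, Full.poly, Finset.sum_mul_sum, ← Finset.sum_product']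
  symm
  refine Finset.sum_bij' (fun p _ => τ p.1 * p.2) (fun σ _ => (G.full.wl k σ,
    (τ (G.full.wl k σ))⁻¹ * σ)) ?_ ?_ ?_ ?_ ?_
  · intro p hp
    simp only [Finset.mem_product, List.mem_toFinset, Finset.mem_filter, Finset.mem_univ,
      true_and] at hp ⊢
    exact mul_mem (hτJ _ hp.1) (hle hp.2)
  · intro σ hσ
    simp only [Finset.mem_product, List.mem_toFinset, Finset.mem_filter, Finset.mem_univ,
      true_and] at hσ ⊢
    have hμ := hcomplete σ hσ
    refine ⟨hμ, (G.wl_eq_fund_iff (J := J) ⟨k, hk⟩ (mul_mem (inv_mem (hτJ _ hμ)) hσ)).mp ?_⟩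
    refine List.map_congr_left fun i hi => ?_
    rw [List.mem_range] at hi
    simp only [hi, dif_pos]
    set t := τ (G.full.wl k σ)
    rw [show (t⁻¹ * σ).symm (G.full.simp' ⟨i, hi⟩) = σ.symm (t (G.full.simp' ⟨i, hi⟩)) from rfl,
      G.cor_symm_eq_dot hσ ⟨k, hk⟩, ← hτwl _ hμ, ← G.cor_symm_eq_dot (hτJ _ hμ) ⟨k, hk⟩,
      Equiv.symm_apply_apply, G.cor_simple]
    rcases eq_or_ne i k with rfl | hik
    · simp
    · simp [Tab.beq_false hik, Fin.ext_iff, hik.symm]
  · intro p hp
    simp only [Finset.mem_product, List.mem_toFinset, Finset.mem_filter, Finset.mem_univ,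
      true_and] at hp
    rw [hwlmul _ hp.1 _ hp.2, inv_mul_cancel_left]
  · intro σ _
    exact mul_inv_cancel_left _ _
  · intro p hp
    simp only [Finset.mem_product, List.mem_toFinset, Finset.mem_filter, Finset.mem_univ,
      true_and] at hp
    rw [hlen _ hp.1 _ hp.2, hN _ hp.1, pow_add]

theorem poly_nil {R : Type*} [CommSemiring R] (q : R) : G.full.poly [] q = 1 := by
  classical
  have : Finset.univ.filter (fun σ => σ ∈ G.full.WJ []) = {1} := by
    ext σ
    simp only [Finset.mem_filter, Finset.mem_univ, true_and, Finset.mem_singleton]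
    refine ⟨fun h => ?_, fun h => h ▸ one_mem _⟩
    obtain ⟨L, hL, rfl⟩ := G.exists_word_WJ h
    rcases L with _ | ⟨a, L⟩
    · rfl
    · exact absurd (hL a (List.mem_cons_self ..)) (by simp)
  rw [Full.poly, this, Finset.sum_singleton]
  have : invSet (1 : Equiv.Perm (Fin D.nroots)) = ∅ := by
    ext s; simp [mem_inv]
  simp [this]

theorem poly_chain {R : Type*} [CommSemiring R] (q : R) :
    ∀ (ls : List (ℕ × List (ℕ × ℕ) × List ℕ)) (J : List ℕ), T.chkChain J ls = true →
      G.full.poly J q = (ls.map fun l => (l.2.2.map fun e => q ^ e).sum).prod := by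
  intro ls
  induction ls with
  | nil =>
    intro J h
    simp only [chkChain, List.isEmpty_iff] at h
    subst h
    exact G.poly_nil q
  | cons l ls ih =>
    intro J h
    simp only [chkChain, Bool.and_eq_true] at h
    rw [G.poly_level h.1 q, ih _ h.2, List.map_cons, List.prod_cons]

end Good

end Tab

end CfsgLib.Chev
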