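import Cfsg.Agent.Chev.Struct
import Cfsg.Agent.Chev.Poincare

/-!
Orders of the finite Chevalley groups.
-/

set_option autoImplicit false

namespace CfsgLib.Chev

open Cfsg.Lie Matrix
open scoped MatrixGroups

namespace Tab

variable {D : ChevalleyDatum}

namespace Good

variable {T : Tab D} (G : T.Good) {F : Type*} [Field F]
include G

theorem pw_mem_full (L : List (Fin D.rank)) : G.full.pw L ∈ G.full.WJ (List.range D.rank) :=
  list_prod_mem fun σ hσ => by
    obtain ⟨a, -, rfl⟩ := List.mem_map.mp hσ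
    exact G.refl_mem (List.mem_range.mpr a.isLt)

theorem card_borel :
    Nat.card (D.borelSubgroup F) =
      Nat.card (D.posUnipotent F) * Nat.card (D.diagonalSubgroup F) := by
  rw [← Nat.card_prod]
  refine (Nat.card_congr (Equiv.ofBijective
    (fun p : D.posUnipotent F × D.diagonalSubgroup F =>
      (⟨p.1.1 * p.2.1, mul_mem (Subgroup.mem_sup_left p.1.2) (Subgroup.mem_sup_right p.2.2)⟩ :
        D.borelSubgroup F)) ⟨?_, ?_⟩)).symm
  · rintro ⟨u, h⟩ ⟨v, k⟩ e
    have e' : (u : GL D.Idx F) * h = v * k := congrArg Subtype.val e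
    have hm : (v : GL D.Idx F)⁻¹ * u ∈ D.posUnipotent F ⊓ D.diagonalSubgroup F := by
      refine Subgroup.mem_inf.mpr ⟨mul_mem (inv_mem v.2) u.2, ?_⟩
      have : (v : GL D.Idx F)⁻¹ * u = k * (h : GL D.Idx F)⁻¹ := by
        rw [eq_mul_inv_iff_mul_eq, mul_assoc, e', inv_mul_cancel_left]
      rw [this]
      exact mul_mem k.2 (inv_mem h.2)
    rw [G.pos_inf_diagonal, Subgroup.mem_bot, inv_mul_eq_one] at hm
    have huv : u = v := Subtype.ext hm.symm
    subst huv
    exact Prod.ext rfl (Subtype.ext (mul_left_cancel e'))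
  · rintro ⟨b, hb⟩
    obtain ⟨u, hu, c, rfl⟩ := G.mem_borel.mp hb
    exact ⟨(⟨u, hu⟩, ⟨_, by rw [G.full.diagonal_eq_range]; exact ⟨c, rfl⟩⟩), rfl⟩

theorem invSet_card (σ : Equiv.Perm (Fin D.nroots)) :
    Nat.card (flipSet σ) = (invSet σ).card := by
  rw [← Nat.card_eq_finsetCard]
  refine Nat.card_congr
    { toFun := fun s => ⟨⟨s.1, s.2.1⟩, mem_inv.mpr ⟨s.2.2.1, s.2.2.2⟩⟩
      invFun := fun s => ⟨s.1.val, s.1.isLt, (mem_inv.mp s.2).1, (mem_inv.mp s.2).2⟩
      left_inv := fun s => rfl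
      right_inv := fun s => rfl }

/-- The order of a finite Chevalley group. -/
theorem card_group [Fintype F] :
    Nat.card (D.group F) =
      Nat.card (D.borelSubgroup F) * G.full.poly (List.range D.rank) (Fintype.card F) := by
  classical
  let W : Finset (Equiv.Perm (Fin D.nroots)) :=
    Finset.univ.filter fun σ => σ ∈ G.full.WJ (List.range D.rank)
  have hword : ∀ σ : W, ∃ L, G.full.pw L = σ.1 := fun σ => by
    obtain ⟨L, -, hL⟩ := G.exists_word_WJ (Finset.mem_filter.mp σ.2).2
    exact ⟨L, hL⟩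
  choose L hL using hword
  let n : W → GL D.Idx F := fun σ => G.full.nw F (L σ)
  have hn : ∀ σ : W, G.full.RootAct (n σ) σ.1 := fun σ => by
    have := G.rootAct_nw (F := F) (L σ)
    rwa [hL σ] at this
  let Φ : (Σ σ : W, D.borelSubgroup F × G.US F (flipSet σ.1)) → D.group F := fun p =>
    ⟨p.2.1.1 * n p.1 * p.2.2.1, mul_mem (mul_mem (G.borel_le_group p.2.1.2)
      (G.monomial_le_group (G.nw_mem_monomial _))) (G.US_le_group _ p.2.2.2)⟩
  have hbij : Function.Bijective Φ := by
    constructor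
    · rintro ⟨σ, b, u⟩ ⟨σ', b', u'⟩ e
      have e' : (b : GL D.Idx F) * n σ * u = b' * n σ' * u' := congrArg Subtype.val e
      obtain ⟨h1, h2⟩ := G.canonical_unique b.2 b'.2 (G.nw_mem_monomial _) (G.nw_mem_monomial _)
        (hn σ) (hn σ') u.2 u'.2 e'
      rw [G.full.diagonal_eq_range] at h1
      obtain ⟨c, hc⟩ := h1
      have hact : G.full.RootAct (n σ') σ.1 := by
        have h := G.rootAct_mul (hn σ) (G.rootAct_hT c)
        rwa [hc, mul_inv_cancel_left, mul_one] at h
      have hσ : σ = σ' := Subtype.ext (G.rootAct_unique hact (hn σ'))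
      subst hσ
      obtain ⟨hb, hu⟩ := h2 rfl
      rw [Subtype.ext hb, Subtype.ext hu]
    · rintro ⟨g, hg⟩
      obtain ⟨b, hb, m, hm, L', hL', u, hu, rfl⟩ := G.canonical_exists hg
      let σ : W := ⟨G.full.pw L', Finset.mem_filter.mpr ⟨Finset.mem_univ _, G.pw_mem_full L'⟩⟩
      have hinv : G.full.RootAct (n σ)⁻¹ (G.full.pw L')⁻¹ := by
        obtain ⟨L'', h''⟩ := G.exists_rootAct (inv_mem (G.nw_mem_monomial (F := F) (L σ)))
        have e := G.rootAct_unique (G.rootAct_mul h'' (hn σ))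
          (by rw [inv_mul_cancel]; exact G.rootAct_one)
        rw [mul_eq_one_iff_eq_inv] at e
        exact e ▸ h''
      have hd : m * (n σ)⁻¹ ∈ D.diagonalSubgroup F := by
        refine G.mem_diagonal_of_pos (mul_mem hm (inv_mem (G.nw_mem_monomial _)))
          (G.rootAct_mul hL' hinv) fun s hs => ?_
        rw [mul_inv_cancel]
        exact hs
      refine ⟨⟨σ, ⟨b * (m * (n σ)⁻¹), mul_mem hb (Subgroup.mem_sup_right hd)⟩, ⟨u, hu⟩⟩,
        Subtype.ext ?_⟩
      show b * (m * (n σ)⁻¹) * n σ * u = b * m * u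
      group
  rw [← Nat.card_congr (Equiv.ofBijective Φ hbij), Nat.card_sigma, Full.poly, Finset.mul_sum]
  rw [← Finset.sum_coe_sort (Finset.univ.filter fun σ => σ ∈ G.full.WJ (List.range D.rank))]
  refine Finset.sum_congr rfl fun σ _ => ?_
  obtain ⟨L', -, e⟩ := G.exists_word_WJ (Finset.mem_filter.mp σ.2).2
  rw [Nat.card_prod, G.card_US (e ▸ G.closed_flip L'), G.invSet_card, Nat.card_eq_fintype_card (α := F)]

theorem card_group_eq [Fintype F] {ls : List (ℕ × List (ℕ × ℕ) × List ℕ)}
    (hchk : T.chkChain (List.range D.rank) ls = true) :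
    Nat.card (D.group F) = Fintype.card F ^ (D.nroots / 2) * Nat.card (D.diagonalSubgroup F) *
      (ls.map fun l => (l.2.2.map fun e => Fintype.card F ^ e).sum).prod := by
  rw [G.card_group, G.card_borel, G.posUnipotent_eq, G.card_US G.closed_pos, G.card_pos,
    Nat.card_eq_fintype_card (α := F), G.poly_chain (Fintype.card F) ls _ hchk]

theorem poly_mod (J : List ℕ) (q : ℕ) : ∃ m, G.full.poly J q = 1 + q * m := by
  classical
  set W := Finset.univ.filter fun σ => σ ∈ G.full.WJ J with hW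
  have h1 : (1 : Equiv.Perm (Fin D.nroots)) ∈ W := by simp [hW]
  have hinv1 : invSet (1 : Equiv.Perm (Fin D.nroots)) = ∅ := by ext s; simp [mem_inv]
  refine ⟨∑ σ ∈ W.erase 1, q ^ ((invSet σ).card - 1), ?_⟩
  rw [Full.poly, ← hW, ← Finset.add_sum_erase W _ h1, hinv1, Finset.card_empty, pow_zero,
    Finset.mul_sum]
  congr 1
  refine Finset.sum_congr rfl fun σ hσ => ?_
  obtain ⟨hne, hm⟩ := Finset.mem_erase.mp hσ
  obtain ⟨L, -, rfl⟩ := G.exists_word_WJ (Finset.mem_filter.mp hm).2
  have hpos : 0 < (invSet (G.full.pw L)).card := by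
    refine Finset.card_pos.mpr (Finset.nonempty_iff_ne_empty.mpr fun hz => hne ?_)
    have hpos : ∀ s, IsPos D s.val → IsPos D (G.full.pw L s).val := fun s hs => by
      by_contra hn
      have : s ∈ invSet (G.full.pw L) := mem_inv.mpr ⟨hs, hn⟩
      rw [hz] at this
      exact absurd this (Finset.notMem_empty s)
    obtain ⟨c, hc⟩ := G.nw_mem_torus (F := ℚ) _ L rfl hpos
    exact G.pw_eq_of_nw (F := ℚ) (L' := []) (c := c) (by rw [hc]; simp [Full.nw])
  rw [← pow_succ']
  congr 1
  omega

theorem exists_sylow [Fintype F] (p : ℕ) [Fact p.Prime] [CharP F p] :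
    ∃ P : Sylow p (D.group F),
      (P : Subgroup (D.group F)) = (D.posUnipotent F).subgroupOf (D.group F) := by
  classical
  obtain ⟨f, hp, hq⟩ := FiniteField.card F p
  set q := Fintype.card F with hqdef
  have hU : Nat.card ((D.posUnipotent F).subgroupOf (D.group F)) = q ^ (D.nroots / 2) := by
    have hle : D.posUnipotent F ≤ D.group F := le_trans le_sup_left G.borel_le_group
    rw [Nat.card_congr (Subgroup.subgroupOfEquivOfLe hle).toEquiv, G.posUnipotent_eq,
      G.card_US G.closed_pos, G.card_pos, Nat.card_eq_fintype_card]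
  obtain ⟨m, hm⟩ := G.poly_mod (List.range D.rank) q
  have hH : ¬ p ∣ Nat.card (D.diagonalSubgroup F) := by
    intro hd
    rw [G.full.diagonal_eq_range] at hd
    have h2 := hd.trans (Subgroup.card_range_dvd (T.hT F))
    rw [Nat.card_pi, Finset.prod_const, Nat.card_eq_fintype_card (α := Fˣ), Fintype.card_units,
      ← hqdef] at h2
    have h3 := hp.dvd_of_dvd_pow h2
    have h4 : p ∣ q := hq ▸ dvd_pow_self p f.ne_zero
    have h5 : 1 ≤ q := Fintype.card_pos
    have := Nat.dvd_sub h4 h3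
    rw [Nat.sub_sub_self h5, Nat.dvd_one] at this
    exact hp.ne_one this
  have hrest : ¬ p ∣ Nat.card (D.diagonalSubgroup F) * (1 + q * m) := by
    rw [hp.dvd_mul]
    rintro (h | h)
    · exact hH h
    · have h4 : p ∣ q * m := dvd_mul_of_dvd_left (hq ▸ dvd_pow_self p f.ne_zero) m
      rw [Nat.dvd_add_left h4, Nat.dvd_one] at h
      exact hp.ne_one h
  have hne : Nat.card (D.diagonalSubgroup F) * (1 + q * m) ≠ 0 := fun h =>
    hrest (h ▸ dvd_zero p)
  refine ⟨Sylow.ofCard ((D.posUnipotent F).subgroupOf (D.group F)) ?_, rfl⟩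
  rw [hU, G.card_group, G.card_borel, G.posUnipotent_eq, G.card_US G.closed_pos, G.card_pos,
    Nat.card_eq_fintype_card (α := F), ← hqdef, hm, mul_assoc,
    Nat.factorization_mul (pow_ne_zero _ Fintype.card_ne_zero) hne, Finsupp.add_apply,
    Nat.factorization_eq_zero_of_not_dvd hrest, add_zero, ← hqdef, hq, ← pow_mul,
    hp.factorization_pow, Finsupp.single_eq_same]

/-- The order of the Weyl group. -/
theorem card_weyl {ls : List (ℕ × List (ℕ × ℕ) × List ℕ)}
    (hchk : T.chkChain (List.range D.rank) ls = true) :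
    Nat.card (G.full.WJ (List.range D.rank)) = (ls.map fun l => l.2.2.length).prod := by
  classical
  have h := G.poly_chain (1 : ℕ) ls _ hchk
  simp only [one_pow, Full.poly, Finset.sum_const, smul_eq_mul, mul_one, List.map_const',
    List.sum_replicate] at h
  rw [Nat.card_eq_fintype_card, ← h, Fintype.card_subtype]

end Good

end Tab

end CfsgLib.Chev
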