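import Cfsg.Agent.Chev.Levi
import Cfsg.Agent.Chev.GoodAll

/-!
A unipotent radical contains its centraliser in the group, up to `U`.
-/

set_option autoImplicit false
set_option linter.style.haveILetI false

namespace CfsgLib.Chev

open Cfsg.Lie Matrix
open scoped MatrixGroups

namespace Tab

variable {D : ChevalleyDatum}

/-- For two fundamental roots `i ≠ l` two positive roots involving `i` differ by the `l`th. -/
def chkSpan (T : Tab D) : Bool :=
  allBelow (fun i => allBelow (fun l => Nat.beq i l ||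
    (List.range D.nroots).any fun r => Nat.ble D.nroots (Nat.mul 2 r) &&
      !(decide (T.cor r i = 0)) && (List.range D.nroots).any fun s =>
        decide (T.ht s = T.ht r + 1) && !(decide (T.cor s i = 0)) &&
          allBelow (fun k => decide (T.cart k s = T.cart k r + T.cart k (D.simple l))) D.rank)
    D.rank) D.rank

namespace Good

variable {T : Tab D} (G : T.Good) {F : Type*} [Field F]
include G

/-- The part of `U` above `k`. -/
theorem above_le_pos (k : ℕ) {y : GL D.Idx F} (hy : y ∈ G.US F {s | IsPos D s ∧ k ≤ s}) :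
    y ∈ D.posUnipotent F := by
  rw [G.posUnipotent_eq]
  exact G.US_mono (fun s hs => hs.1) hy

/-- The leading coefficient is unique. -/
theorem lead_unique {a b : ℕ} (ha : IsPos D a) (hb : IsPos D b) {c d : F} (hc : c ≠ 0) (hd : d ≠ 0)
    {y z : GL D.Idx F} (hy : y ∈ G.US F {s | IsPos D s ∧ a + 1 ≤ s})
    (hz : z ∈ G.US F {s | IsPos D s ∧ b + 1 ≤ s})
    (e : G.full.x a c * y = G.full.x b d * z) : a = b ∧ c = d := by
  wlog hab : a ≤ b generalizing a b c d y z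
  · obtain ⟨h1, h2⟩ := this hb ha hd hc hz hy e.symm (le_of_not_ge hab)
    exact ⟨h1.symm, h2.symm⟩
  rcases eq_or_lt_of_le hab with rfl | hlt
  · refine ⟨rfl, ?_⟩
    have hmem : G.full.x a (-d + c) ∈ G.US F {s | IsPos D s ∧ a + 1 ≤ s} := by
      rw [← G.full.x_add, ← G.full.x_inv, show (G.full.x a d)⁻¹ * G.full.x a c = z * y⁻¹ by
        rw [eq_mul_inv_iff_mul_eq, mul_assoc, e, inv_mul_cancel_left]]
      exact mul_mem hz (inv_mem hy)
    have := G.eq_zero_of_x_mem (S := {s | IsPos D s}) ha (fun s hs => hs) hmem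
    linear_combination this
  · refine absurd (G.eq_zero_of_x_mem (S := {s | IsPos D s}) ha (fun s hs => hs) ?_) hc
    rw [show G.full.x a c = G.full.x b d * z * y⁻¹ by rw [← e, mul_inv_cancel_right]]
    exact mul_mem (mul_mem (G.x_mem_US (S := {s | IsPos D s ∧ a + 1 ≤ s}) ⟨hb, hlt⟩ d)
      (G.US_mono (S' := {s | IsPos D s ∧ a + 1 ≤ s}) (fun s hs => ⟨hs.1, le_trans (by omega) hs.2⟩) hz)) (inv_mem hy)

/-- Conjugating a root element of an ideal by `U` only changes it above the root. -/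
theorem conj_lead {S : Set ℕ} (hS : ∀ s ∈ S, IsPos D s)
    (hI : ∀ r, IsPos D r → ∀ s ∈ S, ∀ c ∈ T.commT r s, c.1 ∈ S) {r : ℕ} (hr : r ∈ S) (t : F)
    {u : GL D.Idx F} (hu : u ∈ D.posUnipotent F) :
    ∃ y ∈ G.US F {s | s ∈ S ∧ r + 1 ≤ s}, u * G.full.x r t * u⁻¹ = G.full.x r t * y := by
  rw [G.posUnipotent_eq] at hu
  set K := G.US F {s | s ∈ S ∧ r + 1 ≤ s}
  have hgen : ∀ p, IsPos D p → ∀ v : F, ∀ s ∈ S, r ≤ s → ∀ w : F,
      (G.full.x s w)⁻¹ * (G.full.x p v * G.full.x s w * (G.full.x p v)⁻¹) ∈ K :=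
    fun p hp v s hs hrs w => G.conj_pos hp (hS s hs) v w (S := {s | s ∈ S ∧ r + 1 ≤ s})
      fun _ c hc => ⟨hI p hp s hs c hc, by
        have := (G.comm_keys hp (hS s hs) hc).2.2
        omega⟩
  have hnorm : ∀ p, IsPos D p → ∀ v : F, ∀ k ∈ K,
      G.full.x p v * k * (G.full.x p v)⁻¹ ∈ K := fun p hp v k hk => by
    refine G.conj_US _ (fun s hs w => ?_) hk
    have := mul_mem (G.x_mem_US (S := {s | s ∈ S ∧ r + 1 ≤ s}) hs w)
      (hgen p hp v s hs.1 (by have := hs.2; omega) w)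
    rwa [mul_inv_cancel_left] at this
  suffices h : ∀ g ∈ G.US F {r | IsPos D r},
      (G.full.x r t)⁻¹ * (g * G.full.x r t * g⁻¹) ∈ K ∧ ∀ k ∈ K, g * k * g⁻¹ ∈ K from
    ⟨_, (h u hu).1, by rw [mul_inv_cancel_left]⟩
  intro g hg
  induction hg using Subgroup.closure_induction'' with
  | one => exact ⟨by simp, fun k hk => by simpa using hk⟩
  | mem g hg =>
    obtain ⟨p, hp, v, rfl⟩ := hg
    exact ⟨hgen p hp v r hr le_rfl t, hnorm p hp v⟩
  | inv_mem g hg =>
    obtain ⟨p, hp, v, rfl⟩ := hg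
    rw [G.full.x_inv p v]
    exact ⟨hgen p hp (-v) r hr le_rfl t, hnorm p hp (-v)⟩
  | mul a b _ _ ha hb =>
    constructor
    · have := mul_mem ha.1 (ha.2 _ hb.1)
      rwa [show (G.full.x r t)⁻¹ * (a * G.full.x r t * a⁻¹) *
        (a * ((G.full.x r t)⁻¹ * (b * G.full.x r t * b⁻¹)) * a⁻¹) =
        (G.full.x r t)⁻¹ * (a * b * G.full.x r t * (a * b)⁻¹) by group] at this
    · intro k hk
      rw [show a * b * k * (a * b)⁻¹ = a * (b * k * b⁻¹) * a⁻¹ by group]
      exact ha.2 _ (hb.2 k hk)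

/-- The roots of the radical form an ideal. -/
theorem rad_ideal {J : Set ℕ} {r : ℕ} (hr : IsPos D r) {s : ℕ}
    (hs : s ∈ {r | IsPos D r ∧ ¬ T.InJ J r}) {c : ℕ × ℤ × ℕ × ℕ} (hc : c ∈ T.commT r s) :
    c.1 ∈ {r | IsPos D r ∧ ¬ T.InJ J r} := by
  refine ⟨(G.comm_keys hr hs.1 hc).1, fun hJ => ?_⟩
  obtain ⟨a, b, ha, hb, hw⟩ := G.comm_add hr.1 hs.1.1 hc
  have e := hw _ (G.fJ_isAdd J)
  rw [G.fJ_inJ hJ] at e
  have h2 := G.fJ_pos hs.1 hs.2
  by_cases h : T.InJ J r
  · rw [G.fJ_inJ h, mul_zero, zero_add] at e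
    nlinarith
  · nlinarith [G.fJ_pos hr h]

/-- The centraliser of a unipotent radical lies in `U`. -/
theorem cent_rad_le {J : Set ℕ} (hJ : ∃ i, i < D.rank ∧ i ∉ J) (hk : T.chkSpan = true)
    {g : GL D.Idx F} (hg : g ∈ D.group F)
    (hc : g ∈ Subgroup.centralizer (D.unipotentRadical F J : Set (GL D.Idx F))) :
    g ∈ D.posUnipotent F := by
  obtain ⟨i₀, hi₀, hi₀J⟩ := hJ
  rw [G.rad_eq] at hc
  set S : Set ℕ := {r | IsPos D r ∧ ¬ T.InJ J r} with hSdef
  have hpos : ∀ s ∈ S, IsPos D s := fun s hs => hs.1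
  have hI : ∀ r, IsPos D r → ∀ s ∈ S, ∀ c ∈ T.commT r s, c.1 ∈ S := fun r hr s hs c hc =>
    G.rad_ideal hr hs hc
  have hcomm : ∀ r ∈ S, g * G.full.x r 1 * g⁻¹ = G.full.x r (1 : F) := fun r hr => by
    rw [mul_inv_eq_iff_eq_mul]
    exact (Subgroup.mem_centralizer_iff.mp hc _ (G.x_mem_US hr 1)).symm
  simp only [chkSpan, allBelow_iff, Bool.or_eq_true, Nat.beq_eq, List.any_eq_true,
    List.mem_range, Bool.and_eq_true, Nat.ble_eq, Bool.not_eq_true', decide_eq_false_iff_not,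
    decide_eq_true_eq] at hk
  have hspan : ∀ l : Fin D.rank, l.val ∈ J → ∃ r s : Fin D.nroots, r.val ∈ S ∧ s.val ∈ S ∧
      T.ht s = T.ht r + 1 ∧
      ∀ k : Fin D.rank, T.cart k s = T.cart k r + T.cart k (D.simple l) := by
    intro l hl
    obtain ⟨r, hr, ⟨hp, hri⟩, s, hs, ⟨hsh, hsi⟩, hlin⟩ :=
      (hk i₀ hi₀ l l.isLt).resolve_left fun e : i₀ = l.val => hi₀J (e ▸ hl)
    have hrp : IsPos D r := ⟨hr, hp⟩
    refine ⟨⟨r, hr⟩, ⟨s, hs⟩, ⟨hrp, fun h => hri (h.2 ⟨i₀, hi₀⟩ hi₀J)⟩,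
      ⟨(G.pos_iff_ht hs).mpr ?_, fun h => hsi (h.2 ⟨i₀, hi₀⟩ hi₀J)⟩, hsh, fun k => hlin k k.isLt⟩
    have := (G.pos_iff_ht hr).mp hrp
    omega
  have hsimp : ∀ l : Fin D.rank, l.val ∉ J → (G.full.simp' l).val ∈ S := fun l hl =>
    ⟨G.pos_simp l, fun h => hl (G.inJ_simple.mp h)⟩
  obtain ⟨b, hb, n, hn, L, hL, u, hu, rfl⟩ := G.canonical_exists hg
  obtain ⟨v, hv, c, rfl⟩ := G.mem_borel.mp hb
  have huU : u ∈ D.posUnipotent F := G.flip_le_pos _ hu
  -- the Weyl element fixes the roots of the radical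
  have hfix : ∀ m r : ℕ, r + m = D.nroots → r ∈ S → ∀ hr : r < D.nroots,
      (G.full.pw L ⟨r, hr⟩).val = r := by
    intro m
    induction m using Nat.strong_induction_on with
    | _ m ih =>
      intro r hrm hrS hr
      obtain ⟨y, hy, ey⟩ := G.conj_lead hpos hI hrS (1 : F) huU
      obtain ⟨z, hz, ez⟩ := G.conj_lead hpos hI hrS (1 : F) (inv_mem hv)
      have hny : n * y * n⁻¹ ∈ G.US F {s | s ∈ S ∧ r + 1 ≤ s} := by
        refine G.conj_x_act hL (fun s hs => ⟨(hpos s hs.1).1, ?_⟩) hy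
        have := ih (D.nroots - s) (by have := hs.2; have := (hpos s hs.1).1; omega) s
          (by have := (hpos s hs.1).1; omega) hs.1 (hpos s hs.1).1
        rw [this]
        exact hs
      obtain ⟨e, he⟩ := hL
      have hd : (T.hT F c)⁻¹ * G.full.x r 1 * T.hT F c =
          G.full.x r ((T.chi (F := F) r c : F)⁻¹ * 1) := by
        have := G.full.hT_conj (F := F) hr c⁻¹ 1
        rwa [map_inv, map_inv, inv_inv, Units.val_inv_eq_inv_val] at this
      have hz' : (T.hT F c)⁻¹ * z * T.hT F c ∈ G.US F {s | IsPos D s ∧ r + 1 ≤ s} := by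
        have := G.hT_conj_US {s | IsPos D s ∧ r + 1 ≤ s} (fun s hs => hs.1.1) c⁻¹
          (G.US_mono (S' := {s | IsPos D s ∧ r + 1 ≤ s}) (fun s hs => ⟨hpos s hs.1, hs.2⟩) hz)
        rwa [map_inv, inv_inv] at this
      have key : G.full.x (G.full.pw L ⟨r, hr⟩).val ((e ⟨r, hr⟩ : F) * 1) * (n * y * n⁻¹) =
          G.full.x r ((T.chi (F := F) r c : F)⁻¹ * 1) * ((T.hT F c)⁻¹ * z * T.hT F c) := by
        rw [← (he ⟨r, hr⟩).2.2.2 1, ← hd]
        show n * G.full.x r 1 * n⁻¹ * (n * y * n⁻¹) =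
          (T.hT F c)⁻¹ * G.full.x r 1 * T.hT F c * ((T.hT F c)⁻¹ * z * T.hT F c)
        calc n * G.full.x r 1 * n⁻¹ * (n * y * n⁻¹)
            = n * (G.full.x r 1 * y) * n⁻¹ := by group
          _ = n * (u * G.full.x r 1 * u⁻¹) * n⁻¹ := by rw [ey]
          _ = (T.hT F c)⁻¹ * (v⁻¹ * (v * T.hT F c * n * u * G.full.x r 1 *
                (v * T.hT F c * n * u)⁻¹) * v) * T.hT F c := by group
          _ = (T.hT F c)⁻¹ * (v⁻¹ * G.full.x r 1 * v⁻¹⁻¹) * T.hT F c := by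
              rw [hcomm r hrS, inv_inv]
          _ = (T.hT F c)⁻¹ * (G.full.x r 1 * z) * T.hT F c := by rw [ez]
          _ = _ := by group
      have hne : (e ⟨r, hr⟩ : F) * 1 ≠ 0 := by simp
      have hy' : n * y * n⁻¹ ∈ G.US F {s | IsPos D s ∧ r + 1 ≤ s} :=
        G.US_mono (S' := {s | IsPos D s ∧ r + 1 ≤ s}) (fun s hs => ⟨hpos s hs.1, hs.2⟩) hny
      have e2 : G.full.x (G.full.pw L ⟨r, hr⟩).val ((e ⟨r, hr⟩ : F) * 1) * 1 =
          G.full.x r ((T.chi (F := F) r c : F)⁻¹ * 1) *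
            ((T.hT F c)⁻¹ * z * T.hT F c * (n * y * n⁻¹)⁻¹) := by
        rw [mul_one, ← mul_assoc, ← key, mul_inv_cancel_right]
      have hσ : IsPos D (G.full.pw L ⟨r, hr⟩).val := by
        by_contra hneg
        refine hne (G.x_eq_one (Fin.isLt _) (G.eq_one_of_borel_neg
          (u := G.full.x (G.full.pw L ⟨r, hr⟩).val ((e ⟨r, hr⟩ : F) * 1)) (c := 1) ?_
          (G.x_mem_neg (Fin.isLt _) hneg _) (by rw [map_one, mul_one])))
        rw [← mul_one (G.full.x _ _), e2]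
        exact mul_mem (G.x_mem_pos (hpos r hrS) _)
          (G.above_le_pos _ (mul_mem hz' (inv_mem hy')))
      exact (G.lead_unique hσ (hpos r hrS) hne (by simp) (one_mem _)
        (mul_mem hz' (inv_mem hy')) e2).1
  have hfix' : ∀ r : Fin D.nroots, r.val ∈ S → G.full.pw L r = r := fun r hr =>
    Fin.ext (hfix (D.nroots - r) r (by have := r.isLt; omega) hr r.isLt)
  -- so it is trivial
  have hflip : ∀ s : Fin D.nroots, IsPos D s.val → IsPos D (G.full.pw L s).val := by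
    by_contra hcon
    simp only [not_forall] at hcon
    obtain ⟨s, hs, hneg⟩ := hcon
    have hfull : G.full.pw L ∈ G.full.WJ (List.range D.rank) := by
      rw [Full.pw]
      exact list_prod_mem fun a ha => by
        obtain ⟨i, -, rfl⟩ := List.mem_map.mp ha
        exact G.refl_mem_full i
    obtain ⟨l, -, hl⟩ := G.exists_flip_simple hfull (mem_inv.mpr ⟨hs, hneg⟩)
    by_cases hlJ : l.val ∈ J
    · obtain ⟨r, q, hr, hq, hht, hlin⟩ := hspan l hlJ
      obtain ⟨a, bb, hab⟩ := G.ht_pw L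
      have e1 := hab r
      have e2 := hab q
      rw [hfix' r hr] at e1
      rw [hfix' q hq] at e2
      have e3 := hab (G.full.simp' l)
      have hh : T.ht (G.full.simp' l).val = 1 := by
        have := G.full.gr_simple l.isLt
        rwa [T.gr_root (G.full.simple_lt l.isLt)] at this
      have e4 : ∑ k : Fin D.rank, bb k * T.cart k q =
          ∑ k : Fin D.rank, bb k * T.cart k r +
            ∑ k : Fin D.rank, bb k * T.cart k (G.full.simp' l).val := by
        rw [← Finset.sum_add_distrib]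
        exact Finset.sum_congr rfl fun k _ => by rw [hlin k, mul_add]; rfl
      refine hl ((G.pos_iff_ht (Fin.isLt _)).mpr ?_)
      rw [hh] at e3
      have ha : a * T.ht q = a * T.ht r + a := by rw [hht]; ring
      linarith
    · exact hl (by rw [hfix' _ (hsimp l hlJ)]; exact G.pos_simp l)
  have hdiag : n ∈ D.diagonalSubgroup F := G.mem_diagonal_of_pos hn hL hflip
  have hgB : v * T.hT F c * n * u ∈ D.borelSubgroup F :=
    mul_mem (mul_mem (G.mem_borel.mpr ⟨v, hv, c, rfl⟩) (Subgroup.mem_sup_right hdiag))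
      (pos_le_borel G huU)
  obtain ⟨w, hw, d, ed⟩ := G.mem_borel.mp hgB
  rw [ed] at hcomm ⊢
  have hchi : ∀ r ∈ S, T.chi (F := F) r d = 1 := by
    intro r hr
    have e1 := hcomm r hr
    rw [show w * T.hT F d * G.full.x r 1 * (w * T.hT F d)⁻¹ =
      w * (T.hT F d * G.full.x r 1 * (T.hT F d)⁻¹) * w⁻¹ by group,
      G.full.hT_conj (hpos r hr).1, mul_one] at e1
    obtain ⟨y, hy, ey⟩ := G.conj_lead hpos hI hr (T.chi (F := F) r d : F) hw
    rw [ey] at e1
    exact Units.ext (G.lead_unique (hpos r hr) (hpos r hr) (Units.ne_zero _) one_ne_zero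
      (G.US_mono (S' := {s | IsPos D s ∧ r + 1 ≤ s}) (fun s hs => ⟨hpos s hs.1, hs.2⟩) hy) (one_mem _) (by rw [e1, mul_one])).2
  rw [(G.full.hT_eq_one_iff d).mpr fun j hj => ?_, mul_one]
  · exact hw
  by_cases hjJ : j ∈ J
  · obtain ⟨r, q, hr, hq, -, hlin⟩ := hspan ⟨j, hj⟩ hjJ
    have e : T.chi (F := F) q d = T.chi r d * T.chi (D.simple j) d := by
      simp only [chi, MonoidHom.coe_mk, OneHom.coe_mk]
      rw [← Finset.prod_mul_distrib]
      exact Finset.prod_congr rfl fun k _ => by rw [hlin k, _root_.zpow_add]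
    rwa [hchi q hq, hchi r hr, one_mul, eq_comm] at e
  · exact hchi _ (hsimp ⟨j, hj⟩ hjJ)

/-- `U` is a `p`-group. -/
theorem isPGroup_pos [Finite F] (p : ℕ) [Fact p.Prime] [CharP F p] :
    IsPGroup p (D.posUnipotent F) := by
  classical
  haveI := Fintype.ofFinite F
  obtain ⟨n, -, hn⟩ := FiniteField.card F p
  refine IsPGroup.of_card (n := (n : ℕ) * Nat.card {r | IsPos D r}) ?_
  rw [G.posUnipotent_eq, G.card_US G.closed_pos, Nat.card_eq_fintype_card, hn, pow_mul]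

end Good

end Tab

end CfsgLib.Chev
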