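import Cfsg.Agent.Chev.BNP

/-!
The homomorphism from `SL₂` attached to a pair of opposite roots.
-/

set_option autoImplicit false

namespace CfsgLib.Chev

open Cfsg.Lie Matrix
open scoped MatrixGroups

section Abstract

variable {F : Type*} [Field F] {M : Type*} [Group M]

/-- The data of a rank one group: a unipotent one-parameter group, a torus and a reflection. -/
structure RankOne (F : Type*) [Field F] (M : Type*) [Group M] where
  /-- the root group -/
  x : F → M
  /-- the torus -/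
  h : F → M
  /-- the reflection -/
  n : M
  x_add : ∀ t u, x t * x u = x (t + u)
  h_mul : ∀ t u, t ≠ 0 → u ≠ 0 → h t * h u = h (t * u)
  h_one : h 1 = 1
  hx : ∀ t u, t ≠ 0 → h t * x u = x (t ^ 2 * u) * h t
  nh : ∀ t, t ≠ 0 → n * h t = h t⁻¹ * n
  nn : n * n = h (-1)
  opp : ∀ q, q ≠ 0 → n * x q * n = x (-q⁻¹) * h (-q⁻¹) * n * x (-q⁻¹)

namespace RankOne

variable (R : RankOne F M)

open scoped Classical in
/-- The map on matrices, through the two Bruhat cells. -/
noncomputable def phi (g : SL(2, F)) : M :=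
  if g 1 0 = 0 then R.h (g 0 0) * R.x (g 0 1 / g 0 0)
  else R.x (g 0 0 / g 1 0) * R.h (-(g 1 0)⁻¹) * R.n * R.x (g 1 1 / g 1 0)

theorem x_zero : R.x 0 = 1 := by
  have := R.x_add 0 0
  rw [add_zero] at this
  exact mul_left_cancel (this.trans (mul_one _).symm)

theorem xh (t u : F) (ht : t ≠ 0) : R.x u * R.h t = R.h t * R.x (u / t ^ 2) := by
  rw [R.hx t _ ht]
  congr 2
  field_simp

/-- The upper unitriangular matrix. -/
def eX (t : F) : SL(2, F) := ⟨!![1, t; 0, 1], by simp [Matrix.det_fin_two]⟩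

/-- The diagonal matrix. -/
def eH (t : Fˣ) : SL(2, F) := ⟨!![(t : F), 0; 0, ((t⁻¹ : Fˣ) : F)], by simp [Matrix.det_fin_two]⟩

/-- The reflection matrix. -/
def eN : SL(2, F) := ⟨!![0, 1; -1, 0], by simp [Matrix.det_fin_two]⟩

theorem coe_eX (t : F) : (eX t : Matrix (Fin 2) (Fin 2) F) = !![1, t; 0, 1] := rfl

theorem coe_eH (t : Fˣ) :
    (eH t : Matrix (Fin 2) (Fin 2) F) = !![(t : F), 0; 0, ((t⁻¹ : Fˣ) : F)] := rfl

theorem coe_eN : ((eN : SL(2, F)) : Matrix (Fin 2) (Fin 2) F) = !![0, 1; -1, 0] := rfl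

theorem det_eq (g : SL(2, F)) : g 0 0 * g 1 1 - g 0 1 * g 1 0 = 1 := by
  have := g.2
  rwa [Matrix.det_fin_two] at this

theorem phi_zero {g : SL(2, F)} (h : g 1 0 = 0) :
    R.phi g = R.h (g 0 0) * R.x (g 0 1 / g 0 0) := if_pos h

theorem phi_ne {g : SL(2, F)} (h : g 1 0 ≠ 0) :
    R.phi g = R.x (g 0 0 / g 1 0) * R.h (-(g 1 0)⁻¹) * R.n * R.x (g 1 1 / g 1 0) := if_neg h

theorem phi_eX (t : F) : R.phi (eX t) = R.x t := by
  simp [phi, coe_eX, R.h_one]

theorem phi_eH (t : Fˣ) : R.phi (eH t) = R.h t := by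
  simp [phi, coe_eH, R.x_zero]

theorem phi_eN : R.phi eN = R.n := by
  simp [phi, coe_eN, R.h_one, R.x_zero]

theorem phi_mul_eX (g : SL(2, F)) (t : F) : R.phi (g * eX t) = R.phi g * R.x t := by
  have e : ∀ i j, (g * eX t) i j = if j = 0 then g i 0 else g i 0 * t + g i 1 := by
    intro i j
    fin_cases j <;> simp [coe_eX, Matrix.SpecialLinearGroup.coe_mul, Matrix.mul_apply, Fin.sum_univ_two]
  by_cases hc : g 1 0 = 0
  · have ha : g 0 0 ≠ 0 := fun h => by simpa [h, hc] using det_eq g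
    rw [R.phi_zero (show (g * eX t) 1 0 = 0 by rw [e]; simpa using hc), R.phi_zero hc]
    simp only [e, if_true, one_ne_zero, if_false]
    rw [mul_assoc (R.h _), R.x_add]
    congr 2
    field_simp
    ring
  · rw [R.phi_ne (show (g * eX t) 1 0 ≠ 0 by rw [e]; simpa using hc), R.phi_ne hc]
    simp only [e, if_true, one_ne_zero, if_false]
    simp only [mul_assoc, R.x_add]
    congr 4
    field_simp
    ring

theorem phi_mul_eH (g : SL(2, F)) (t : Fˣ) : R.phi (g * eH t) = R.phi g * R.h t := by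
  have ht : (t : F) ≠ 0 := t.ne_zero
  have e : ∀ i j, (g * eH t) i j = if j = 0 then g i 0 * t else g i 1 * (t : F)⁻¹ := by
    intro i j
    fin_cases j <;> simp [coe_eH, Matrix.SpecialLinearGroup.coe_mul, Matrix.mul_apply, Fin.sum_univ_two]
  by_cases hc : g 1 0 = 0
  · have ha : g 0 0 ≠ 0 := fun h => by simpa [h, hc] using det_eq g
    rw [R.phi_zero (show (g * eH t) 1 0 = 0 by rw [e]; simp [hc]), R.phi_zero hc]
    simp only [e, if_true, one_ne_zero, if_false]
    rw [mul_assoc (R.h _) _ (R.h _), R.xh _ _ ht, ← mul_assoc,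
      R.h_mul _ _ ha ht]
    congr 2
    field_simp
  · rw [R.phi_ne (show (g * eH t) 1 0 ≠ 0 by rw [e]; simpa using mul_ne_zero hc ht), R.phi_ne hc]
    simp only [e, if_true, one_ne_zero, if_false]
    rw [mul_assoc _ (R.x _) (R.h _), R.xh _ _ ht,
      ← mul_assoc, mul_assoc _ R.n (R.h _), R.nh _ ht, ← mul_assoc, mul_assoc _ (R.h _) (R.h _),
      R.h_mul _ _ (neg_ne_zero.mpr (inv_ne_zero hc)) (inv_ne_zero ht)]
    congr 1
    · congr 2
      · congr 1; field_simp
      · congr 1; field_simp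
    · congr 1; field_simp

theorem phi_mul_eN (g : SL(2, F)) : R.phi (g * eN) = R.phi g * R.n := by
  have e : ∀ i j : Fin 2, (g * eN : SL(2, F)) i j = if j = 0 then -g i 1 else g i 0 := by
    intro i j
    fin_cases j <;> simp [coe_eN, Matrix.SpecialLinearGroup.coe_mul, Matrix.mul_apply, Fin.sum_univ_two]
  have hdet := det_eq g
  by_cases hc : g 1 0 = 0
  · rw [hc, mul_zero, sub_zero] at hdet
    have ha : g 0 0 ≠ 0 := fun h => by simp [h] at hdet
    have hd : g 1 1 ≠ 0 := fun h => by simp [h] at hdet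
    have ea : g 1 1 = (g 0 0)⁻¹ := eq_inv_of_mul_eq_one_right hdet
    rw [R.phi_ne (show (g * eN : SL(2, F)) 1 0 ≠ 0 by rw [e]; simpa using hd), R.phi_zero hc]
    simp only [e, if_true, one_ne_zero, if_false]
    rw [hc, R.hx _ _ ha, zero_div, R.x_zero, mul_one,
      inv_neg, neg_neg, ea, inv_inv]
    congr 3
    field_simp
  · by_cases hd : g 1 1 = 0
    · rw [hd, mul_zero, zero_sub] at hdet
      have hb : g 0 1 = -(g 1 0)⁻¹ := by
        field_simp
        linear_combination (-1 : F) * hdet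
      have hc2 : -(g 1 0)⁻¹ * (-1 : F) ≠ 0 := by simp [hc]
      rw [R.phi_zero (show (g * eN : SL(2, F)) 1 0 = 0 by rw [e]; simp [hd]), R.phi_ne hc]
      simp only [e, if_true, one_ne_zero, if_false]
      rw [hd, zero_div, R.x_zero, mul_one, mul_assoc _ R.n R.n,
        R.nn, mul_assoc, R.h_mul _ _ (neg_ne_zero.mpr (inv_ne_zero hc)) (by simp),
        R.xh _ _ hc2, hb]
      congr 2
      · ring
      · field_simp
    · rw [R.phi_ne (show (g * eN : SL(2, F)) 1 0 ≠ 0 by rw [e]; simpa using hd), R.phi_ne hc]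
      simp only [e, if_true, one_ne_zero, if_false]
      have hq : g 1 1 / g 1 0 ≠ 0 := div_ne_zero hd hc
      rw [mul_assoc _ (R.x (g 1 1 / g 1 0)) R.n, mul_assoc _ R.n (R.x (g 1 1 / g 1 0) * R.n),
        ← mul_assoc R.n (R.x (g 1 1 / g 1 0)), R.opp _ hq]
      simp only [← mul_assoc]
      rw [mul_assoc (R.x _) (R.h _) (R.x _), R.hx _ _ (neg_ne_zero.mpr (inv_ne_zero hc)),
        ← mul_assoc, R.x_add, mul_assoc (R.x _) (R.h _) (R.h _),
        R.h_mul _ _ (neg_ne_zero.mpr (inv_ne_zero hc)) (neg_ne_zero.mpr (inv_ne_zero hq))]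
      congr 1
      · congr 1
        congr 1
        · congr 1
          field_simp
          linear_combination (-1 : F) * hdet
        · congr 1
          field_simp
      · congr 1
        field_simp

theorem eq_product (g : SL(2, F)) :
    (∃ a : Fˣ, ∃ b : F, g = eH a * eX b) ∨
      ∃ (p : F) (a : Fˣ) (q : F), g = eX p * eH a * eN * eX q := by
  have hdet := det_eq g
  by_cases hc : g 1 0 = 0
  · rw [hc, mul_zero, sub_zero] at hdet
    have ha : g 0 0 ≠ 0 := fun h => by simp [h] at hdet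
    left
    refine ⟨Units.mk0 _ ha, g 0 1 / g 0 0, ?_⟩
    ext i j
    fin_cases i <;> fin_cases j <;>
      simp [coe_eH, coe_eX, Matrix.SpecialLinearGroup.coe_mul, hc, mul_div_cancel₀ _ ha,
        eq_inv_of_mul_eq_one_right hdet]
  · right
    refine ⟨g 0 0 / g 1 0, Units.mk0 (-(g 1 0)⁻¹) (neg_ne_zero.mpr (inv_ne_zero hc)),
      g 1 1 / g 1 0, ?_⟩
    ext i j
    fin_cases i <;> fin_cases j <;>
      simp [coe_eH, coe_eX, coe_eN, Matrix.SpecialLinearGroup.coe_mul, inv_inv, inv_neg] <;>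
      field_simp
    linear_combination (-1 : F) * hdet

theorem phi_mul (g k : SL(2, F)) : R.phi (g * k) = R.phi g * R.phi k := by
  let P : SL(2, F) → Prop := fun k => ∀ g, R.phi (g * k) = R.phi g * R.phi k
  have hmul : ∀ a b, P a → P b → P (a * b) := fun a b ha hb g => by
    rw [← mul_assoc, hb (g * a), ha g, mul_assoc, ← hb a]
  have hX : ∀ t, P (eX t) := fun t g => by rw [R.phi_mul_eX, R.phi_eX]
  have hH : ∀ t, P (eH t) := fun t g => by rw [R.phi_mul_eH, R.phi_eH]
  have hN : P eN := fun g => by rw [R.phi_mul_eN, R.phi_eN]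
  rcases eq_product k with ⟨a, b, rfl⟩ | ⟨p, a, q, rfl⟩
  · exact hmul _ _ (hH a) (hX b) g
  · exact hmul _ _ (hmul _ _ (hmul _ _ (hX p) (hH a)) hN) (hX q) g

/-- The homomorphism. -/
noncomputable def hom : SL(2, F) →* M :=
  MonoidHom.mk' R.phi R.phi_mul

end RankOne

end Abstract

/-- Changing the sign of the off-diagonal entries of one matrix. -/
def offMat {F : Type*} [Field F] {η : F} (hη : η * η = 1) (g : SL(2, F)) : SL(2, F) :=
  ⟨!![g 0 0, η * g 0 1; η * g 1 0, g 1 1], by
    have := RankOne.det_eq g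
    simp [Matrix.det_fin_two]
    linear_combination this + (-(g 0 1 * g 1 0)) * hη⟩

theorem coe_offMat {F : Type*} [Field F] {η : F} (hη : η * η = 1) (g : SL(2, F)) :
    (offMat hη g : Matrix (Fin 2) (Fin 2) F) = !![g 0 0, η * g 0 1; η * g 1 0, g 1 1] := rfl

/-- Changing the sign of the off-diagonal entries. -/
def offSign {F : Type*} [Field F] {η : F} (hη : η * η = 1) : SL(2, F) →* SL(2, F) where
  toFun g := offMat hη g
  map_one' := by
    ext i j
    fin_cases i <;> fin_cases j <;> simp [coe_offMat]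
  map_mul' g k := by
    ext i j
    fin_cases i <;> fin_cases j <;>
      simp [coe_offMat, Matrix.SpecialLinearGroup.coe_mul, Matrix.mul_apply, Fin.sum_univ_two]
    · linear_combination (-(g 0 1 * k 1 0)) * hη
    · ring
    · ring
    · linear_combination (-(g 1 0 * k 0 1)) * hη

namespace Tab

variable {D : ChevalleyDatum}

namespace Good

variable {T : Tab D} (G : T.Good) {F : Type*} [Field F]
include G

theorem ns_conj_hr (i : Fin D.rank) {t : F} (ht : t ≠ 0) :
    G.full.ns F i * G.full.hr (D.simple i) t = G.full.hr (D.simple i) t⁻¹ * G.full.ns F i := by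
  have hp := G.full.simple_lt i.isLt
  apply Units.ext
  rw [Units.val_mul, Units.val_mul, G.full.hr_torus hp ht, G.full.hr_torus hp (inv_ne_zero ht),
    G.full.ns_torus i.isLt hp, G.full.simple_reflect i.isLt]
  congr 1
  rw [Full.torus, Full.torus]
  refine congrArg Matrix.diagonal (funext fun b => ?_)
  rcases b with j | s
  · rfl
  · simp only [Sum.elim_inr, pairT_eq_sum]
    rw [_root_.inv_zpow', ← Finset.sum_neg_distrib]
    congr 1
    refine Finset.sum_congr rfl fun k _ => ?_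
    rw [((G.full.cert.root_spec hp).2.2.2.1 k k.isLt).2, neg_mul]

/-- The rank one data of a fundamental root. -/
def rankOne (F : Type*) [Field F] (i : Fin D.rank) : RankOne F (GL D.Idx F) where
  x t := G.full.x (D.simple i) t
  h t := G.full.hr (D.simple i) t
  n := G.full.ns F i
  x_add t u := G.full.x_add _ t u
  h_mul _ _ ht hu := G.full.hr_simple_mul i.isLt ht hu
  h_one := G.full.hr_simple_one i.isLt
  hx t u ht := by
    have h := G.full.hr_conj_simple i.isLt (G.full.simple_lt i.isLt) ht u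
    rw [(G.full.node_spec i.isLt).2.2.1, zpow_ofNat] at h
    rw [mul_inv_eq_iff_eq_mul] at h
    exact h
  nh t ht := G.ns_conj_hr i ht
  nn := G.full.ns_sq i.isLt
  opp q hq := by
    have hp := G.full.simple_lt i.isLt
    have h1 : ((-1 : F)) ≠ 0 := neg_ne_zero.mpr one_ne_zero
    have e : G.full.ns F i * G.full.x (D.simple i) q * G.full.ns F i =
        G.full.x (negR D (D.simple i)) (-q) * G.full.hr (D.simple i) (-1) := by
      rw [← G.full.ns_sq i.isLt]
      have hc := G.full.ns_conj (F := F) i.isLt hp q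
      rw [G.full.simple_reflect i.isLt, (G.full.node_spec i.isLt).2.2.2.1] at hc
      rw [show G.full.x (negR D (D.simple i)) (-q) =
        G.full.ns F i * G.full.x (D.simple i) q * (G.full.ns F i)⁻¹ by rw [hc]; simp]
      group
    have hx' : G.full.x (D.simple i) (-q)⁻¹ * G.full.hr (D.simple i) (-1) =
        G.full.hr (D.simple i) (-1) * G.full.x (D.simple i) (-q)⁻¹ := by
      have h := G.full.hr_conj_simple i.isLt hp h1 (-q)⁻¹
      rw [(G.full.node_spec i.isLt).2.2.1, mul_inv_eq_iff_eq_mul] at h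
      simpa using h.symm
    rw [e, G.x_neg_decomp _ (neg_ne_zero.mpr hq), G.full.nr_simple_eq i.isLt, mul_assoc, hx',
      ← mul_assoc]
    simp only [mul_assoc]
    rw [← mul_assoc (G.full.ns F i) (G.full.hr (D.simple i) (-1)), G.ns_conj_hr i h1,
      show ((-1 : F))⁻¹ = -1 by norm_num, mul_assoc,
      ← mul_assoc (G.full.hr (D.simple i) (-(-q)⁻¹)) (G.full.hr (D.simple i) (-1)),
      G.full.hr_simple_mul i.isLt (neg_ne_zero.mpr (inv_ne_zero (neg_ne_zero.mpr hq))) h1]
    simp [inv_neg]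

/-- The homomorphism of a fundamental root on the two unipotent subgroups. -/
theorem rankOne_hom_lower (i : Fin D.rank) (g : SL(2, F)) (t : F)
    (hg : (g : Matrix (Fin 2) (Fin 2) F) = !![1, 0; t, 1]) :
    (G.rankOne F i).hom g = G.full.x (negR D (D.simple i)) t := by
  have e : g = RankOne.eN * RankOne.eX (-t) * RankOne.eN *
      RankOne.eH (Units.mk0 (-1) (neg_ne_zero.mpr one_ne_zero)) := by
    apply Subtype.ext
    rw [hg]
    ext a b
    fin_cases a <;> fin_cases b <;>
      simp [RankOne.coe_eN, RankOne.coe_eX, RankOne.coe_eH, Matrix.SpecialLinearGroup.coe_mul,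
        Units.mk0, inv_neg]
  rw [e, map_mul, map_mul, map_mul]
  show (G.rankOne F i).phi _ * (G.rankOne F i).phi _ * (G.rankOne F i).phi _ *
    (G.rankOne F i).phi _ = _
  rw [RankOne.phi_eN, RankOne.phi_eX, RankOne.phi_eH]
  show G.full.ns F i * G.full.x (D.simple i) (-t) * G.full.ns F i *
    G.full.hr (D.simple i) (-1) = _
  have hc := G.full.ns_conj (F := F) i.isLt (G.full.simple_lt i.isLt) (-t)
  rw [G.full.simple_reflect i.isLt, (G.full.node_spec i.isLt).2.2.2.1] at hc
  rw [← G.full.ns_sq i.isLt, show G.full.ns F i * G.full.x (D.simple i) (-t) * G.full.ns F i *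
    (G.full.ns F i * G.full.ns F i) = G.full.ns F i * G.full.x (D.simple i) (-t) *
      (G.full.ns F i)⁻¹ * ((G.full.ns F i * G.full.ns F i) * (G.full.ns F i * G.full.ns F i)) by
      group, hc, G.full.ns_sq i.isLt,
    G.full.hr_simple_mul i.isLt (neg_ne_zero.mpr one_ne_zero) (neg_ne_zero.mpr one_ne_zero),
    neg_mul_neg, one_mul, G.full.hr_simple_one i.isLt, mul_one]
  simp

theorem sl2_pair {r : ℕ} (hr : r < D.nroots) :
    ∃ φ : SL(2, F) →* GL D.Idx F,
      φ.range = D.rootSubgroup F r ⊔ D.rootSubgroup F (D.neg r) ∧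
      ∀ (g : SL(2, F)) (t : F),
        ((g : Matrix (Fin 2) (Fin 2) F) = !![1, t; 0, 1] →
          ((φ g : GL D.Idx F) : Matrix D.Idx D.Idx F) = D.x F r t) ∧
        ((g : Matrix (Fin 2) (Fin 2) F) = !![1, 0; t, 1] →
          ((φ g : GL D.Idx F) : Matrix D.Idx D.Idx F) = D.x F (D.neg r) t) := by
  obtain ⟨w, -, j, hj, η, hη, hwx, hwy, hwh⟩ := G.full.exists_conj (F := F) hr
  set R := G.rankOne F ⟨j, hj⟩ with hR
  let φ : SL(2, F) →* GL D.Idx F :=
    ((MulAut.conj w).toMonoidHom.comp R.hom).comp (offSign hη)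
  have hφx : ∀ t, φ (RankOne.eX t) = G.full.x r t := by
    intro t
    show w * R.phi (offSign hη (RankOne.eX t)) * w⁻¹ = _
    have e : offSign hη (RankOne.eX t) = RankOne.eX (η * t) := by
      ext a b
      fin_cases a <;> fin_cases b <;> simp [offSign, coe_offMat, RankOne.coe_eX]
    rw [e, RankOne.phi_eX]
    show w * G.full.x (D.simple j) (η * t) * w⁻¹ = _
    rw [hwx, ← mul_assoc, hη, one_mul]
  have hφy : ∀ (g : SL(2, F)) (t : F), (g : Matrix (Fin 2) (Fin 2) F) = !![1, 0; t, 1] →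
      φ g = G.full.x (negR D r) t := by
    intro g t hg
    show w * R.hom (offSign hη g) * w⁻¹ = _
    rw [G.rankOne_hom_lower ⟨j, hj⟩ _ (η * t) (by
      show (offMat hη g : Matrix (Fin 2) (Fin 2) F) = _
      rw [coe_offMat]
      have e : ∀ a b, g a b = (!![1, 0; t, 1] : Matrix (Fin 2) (Fin 2) F) a b := fun a b => by
        rw [← hg]
      simp [e])]
    show w * G.full.x (negR D (D.simple j)) (η * t) * w⁻¹ = _
    rw [hwy, ← mul_assoc, hη, one_mul]
  refine ⟨φ, le_antisymm ?_ (sup_le ?_ ?_), fun g t => ⟨fun hg => ?_, fun hg => ?_⟩⟩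
  · -- the image of `h`, `n` and `x` of the fundamental root lie in the pair's group
    set K := D.rootSubgroup F r ⊔ D.rootSubgroup F (D.neg r) with hK
    have hxK : ∀ t : F, G.full.x r t ∈ K := fun t =>
      Subgroup.mem_sup_left (Subgroup.subset_closure ⟨t, G.full.coe_x' r t⟩)
    have hyK : ∀ t : F, G.full.x (negR D r) t ∈ K := fun t => by
      refine Subgroup.mem_sup_right (Subgroup.subset_closure ⟨t, ?_⟩)
      rw [G.full.coe_x', G.full.cert.neg_eq hr]
    have hX : ∀ t, w * G.full.x (D.simple j) t * w⁻¹ ∈ K := fun t => by rw [hwx]; exact hxK _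
    have hY : ∀ t, w * G.full.x (negR D (D.simple j)) t * w⁻¹ ∈ K := fun t => by
      rw [hwy]; exact hyK _
    have hn : ∀ t, w * G.full.nr (D.simple j) t * w⁻¹ ∈ K := fun t => by
      rw [Full.nr, show w * (G.full.x (D.simple j) t * G.full.x (negR D (D.simple j)) (-t⁻¹) *
        G.full.x (D.simple j) t) * w⁻¹ = (w * G.full.x (D.simple j) t * w⁻¹) *
          (w * G.full.x (negR D (D.simple j)) (-t⁻¹) * w⁻¹) *
          (w * G.full.x (D.simple j) t * w⁻¹) by group]
      exact mul_mem (mul_mem (hX _) (hY _)) (hX _)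
    have hH : ∀ t, w * G.full.hr (D.simple j) t * w⁻¹ ∈ K := fun t => by
      rw [Full.hr, show w * (G.full.nr (D.simple j) t * G.full.nr (D.simple j) (-1)) * w⁻¹ =
        (w * G.full.nr (D.simple j) t * w⁻¹) * (w * G.full.nr (D.simple j) (-1) * w⁻¹) by group]
      exact mul_mem (hn _) (hn _)
    rintro _ ⟨g, rfl⟩
    show w * R.phi (offSign hη g) * w⁻¹ ∈ K
    have h3 : ∀ a b : GL D.Idx F, w * (a * b) * w⁻¹ = (w * a * w⁻¹) * (w * b * w⁻¹) :=
      fun a b => by group
    simp only [RankOne.phi]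
    split_ifs <;> simp only [h3, hR]
    · exact mul_mem (hH _) (hX _)
    · exact mul_mem (mul_mem (mul_mem (hX _) (hH _)) (hn 1)) (hX _)
  · rw [ChevalleyDatum.rootSubgroup, Subgroup.closure_le]
    rintro a ⟨t, ha⟩
    rw [G.full.eq_x] at ha
    exact ha ▸ ⟨_, hφx t⟩
  · rw [ChevalleyDatum.rootSubgroup, Subgroup.closure_le, G.full.cert.neg_eq hr]
    rintro a ⟨t, ha⟩
    rw [G.full.eq_x] at ha
    exact ha ▸ ⟨⟨!![1, 0; t, 1], by simp [Matrix.det_fin_two]⟩, hφy _ t rfl⟩
  · rw [show g = RankOne.eX t from Subtype.ext hg, hφx, G.full.coe_x']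
  · rw [hφy g t hg, G.full.coe_x', G.full.cert.neg_eq hr]

end Good

end Tab

end CfsgLib.Chev
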