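import Cfsg.Agent.Chev.SteinbergPres
import Cfsg.Agent.Chev.GoodAll

/-!
The torus under the relations (R3); unimodular Cartan matrices.
-/

set_option autoImplicit false

namespace CfsgLib.Chev

open Cfsg.Lie Matrix
open scoped MatrixGroups

namespace Tab

variable {D : ChevalleyDatum}

/-- An integral left inverse of the Cartan matrix. -/
def chkUni (T : Tab D) (M : List (List ℤ)) : Bool :=
  allBelow (fun i => allBelow (fun k => decide
    (((List.range D.rank).map fun j => (M.getD i []).getD j 0 * T.cart k (D.simple j)).sum =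
      if i = k then 1 else 0)) D.rank) D.rank

namespace Good

variable {T : Tab D} (G : T.Good) {F : Type*} [Field F]
include G

theorem hT_injective {M : List (List ℤ)} (hM : T.chkUni M = true) :
    Function.Injective (T.hT F) := by
  rw [injective_iff_map_eq_one]
  intro c hc
  rw [G.full.hT_eq_one_iff] at hc
  simp only [chkUni, allBelow_iff, decide_eq_true_eq] at hM
  funext i
  have e : c i = ∏ k, c k ^ (if i.val = k.val then (1 : ℤ) else 0) := by
    rw [Finset.prod_eq_single i (fun k _ hk => by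
      rw [if_neg fun h => hk (Fin.ext h.symm), _root_.zpow_zero])
      (fun h => absurd (Finset.mem_univ i) h), if_pos rfl, _root_.zpow_one]
  rw [e]
  calc ∏ k, c k ^ (if i.val = k.val then (1 : ℤ) else 0)
      = ∏ k : Fin D.rank, ∏ j : Fin D.rank,
          (c k ^ T.cart k (D.simple j)) ^ ((M.getD i []).getD j 0) := by
        refine Finset.prod_congr rfl fun k _ => ?_
        rw [← hM i i.isLt k k.isLt, list_sum_range
          (fun j => (M.getD i []).getD j 0 * T.cart k (D.simple j)), zpow_sum_eq_prod]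
        refine Finset.prod_congr rfl fun j _ => ?_
        rw [← _root_.zpow_mul, mul_comm]
    _ = ∏ j : Fin D.rank, (T.chi (D.simple j) c) ^ ((M.getD i []).getD j 0) := by
        rw [Finset.prod_comm]
        exact Finset.prod_congr rfl fun j _ => Finset.prod_zpow _ _ _
    _ = 1 := Finset.prod_eq_one fun j _ => by rw [hc j j.isLt, _root_.one_zpow]

namespace StData

variable {G} {E : Type*} [Group E] (S : G.StData F E) (hW : T.HasWit)
include S

include hW in
theorem HB_nb {h : E} {c : Fin D.rank → Fˣ}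
    (hc : ∀ s < D.nroots, ∀ u, h * S.xb s u * h⁻¹ = S.xb s ((T.chi s c : F) * u))
    (j : Fin D.rank) (v : F) :
    h * S.nb j v * h⁻¹ = S.nb j ((T.chi (D.simple j) c : F) * v) := by
  have hp := G.full.simple_lt j.isLt
  have h1 := hc _ hp v
  have h2 := hc _ (Cert.negR_lt hp) (-v⁻¹)
  rw [G.chi_negR hp, Units.val_inv_eq_inv_val,
    show ((T.chi (D.simple j) c : F))⁻¹ * -v⁻¹ = -((T.chi (D.simple j) c : F) * v)⁻¹ by
      rw [_root_.mul_inv]; ring] at h2
  rw [nb, nb, ← h1, ← h2]
  group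

include hW in
theorem hb_commute (hM : ∀ j : Fin D.rank, ∀ t u : Fˣ,
      S.hb j (t : F) * S.hb j (u : F) = S.hb j ((t * u : Fˣ) : F))
    (i j : Fin D.rank) (t u : Fˣ) : Commute (S.hb i (t : F)) (S.hb j (u : F)) := by
  obtain ⟨c, -, hc⟩ := S.exists_HB hW (S.hb_mem i t.ne_zero)
  have e : S.hb i (t : F) * S.hb j (u : F) * (S.hb i (t : F))⁻¹ = S.hb j (u : F) := by
    set χ := T.chi (D.simple j) c
    rw [show S.hb i (t : F) * S.hb j (u : F) * (S.hb i (t : F))⁻¹ =
      (S.hb i (t : F) * S.nb j (u : F) * (S.hb i (t : F))⁻¹) *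
        (S.hb i (t : F) * S.nb j (-1) * (S.hb i (t : F))⁻¹) by rw [show S.hb j (u : F) = S.nb j (u : F) * S.nb j (-1) from rfl]; group,
      S.HB_nb hW hc, S.HB_nb hW hc, mul_neg, mul_one]
    have e2 : S.nb j ((χ : F) * u) * S.nb j (-(χ : F)) =
        S.hb j ((χ : F) * u) * (S.hb j (χ : F))⁻¹ := by
      rw [hb, hb, _root_.mul_inv_rev, S.nb_inv, S.nb_inv, neg_neg, ← S.nb_inv j 1]
      group
    rw [e2, mul_comm (χ : F), ← Units.val_mul, ← hM]
    group
  rw [mul_inv_eq_iff_eq_mul] at e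
  exact e

include hW in
theorem ker_eq_bot (hM : ∀ j : Fin D.rank, ∀ t u : Fˣ,
      S.hb j (t : F) * S.hb j (u : F) = S.hb j ((t * u : Fˣ) : F))
    (hinj : Function.Injective (T.hT F)) : S.θ.ker = ⊥ := by
  let φ : Fin D.rank → Fˣ →* E := fun j => MonoidHom.mk' (fun t => S.hb j (t : F))
    (fun t u => (hM j t u).symm)
  let H : (Fin D.rank → Fˣ) →* E :=
    MonoidHom.noncommPiCoprod φ fun i j _ t u => S.hb_commute hW hM i j t u
  have hH : ∀ j t, H (Pi.mulSingle j t) = S.hb j (t : F) := fun j t =>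
    MonoidHom.noncommPiCoprod_mulSingle _ _ _
  have hle : S.HB ≤ H.range := by
    rw [HB, Subgroup.closure_le]
    rintro _ ⟨j, t, rfl⟩
    exact ⟨_, hH j t⟩
  have hθ : ∀ c, S.θ (H c) = T.hT F c := fun c => by
    induction c using G.full.hT_induction with
    | h1 => simp
    | hm a b ha hb => simp [ha, hb]
    | hs i u => rw [hH, S.θ_hb, G.full.hT_single]
  rw [eq_bot_iff]
  intro z hz
  obtain ⟨c, rfl⟩ := hle (S.ker_le_HB hW hz)
  rw [MonoidHom.mem_ker, hθ, ← map_one (T.hT F)] at hz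
  rw [hinj hz, map_one]
  exact one_mem _

end StData

theorem st_hb_mul {θ : D.SteinbergGroup F →* D.group F}
    (hθ : ∀ (r : ℕ) (t : F), r < D.nroots →
      ((θ (D.stGen F r t) : GL D.Idx F) : Matrix D.Idx D.Idx F) = D.x F r t)
    (j : Fin D.rank) (t u : Fˣ) :
    (G.stData θ hθ).hb j (t : F) * (G.stData θ hθ).hb j (u : F) =
      (G.stData θ hθ).hb j ((t * u : Fˣ) : F) := by
  have hp := G.full.simple_lt j.isLt
  have e : ∀ v : F, (G.stData θ hθ).hb j v =
      PresentedGroup.mk (D.steinbergRels F) (D.stH (D.simple j) v) := fun v => by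
    simp [ChevalleyDatum.stH, ChevalleyDatum.stWord, ChevalleyDatum.hWord,
      ChevalleyDatum.nWord, StData.hb, StData.nb, G.full.cert.neg_eq hp, stData,
      ChevalleyDatum.stGen, mul_assoc]
  rw [e, e, e, ← map_mul, Units.val_mul]
  exact PresentedGroup.mk_eq_mk_of_mul_inv_mem
    (Or.inr ⟨_, _, _, hp, t.ne_zero, u.ne_zero, rfl⟩)

end Good

end Tab

theorem uni_G2 : G2Data.tab.chkUni [[2, 1], [3, 2]] = true := by decide +kernel

theorem uni_F4 :
    F4Data.tab.chkUni [[2, 3, 2, 1], [3, 6, 4, 2], [4, 8, 6, 3], [2, 4, 3, 2]] = true := by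
  decide +kernel

theorem uni_E8 : E8Data.tab.chkUni [[4, 5, 7, 10, 8, 6, 4, 2], [5, 8, 10, 15, 12, 9, 6, 3],
    [7, 10, 14, 20, 16, 12, 8, 4], [10, 15, 20, 30, 24, 18, 12, 6], [8, 12, 16, 24, 20, 15, 10, 5],
    [6, 9, 12, 18, 15, 12, 8, 4], [4, 6, 8, 12, 10, 8, 6, 3], [2, 3, 4, 6, 5, 4, 3, 2]] = true := by
  decide +kernel

end CfsgLib.Chev
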