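import Cfsg.Agent.Chev.TwistedSpec
import Cfsg.Agent.Chev.Struct
import Cfsg.Agent.BN.Parabolic
import Cfsg.Agent.BN.Coxeter

/-!
The (B, N)-pair of a twisted group, its Weyl group, and simplicity.
-/

set_option autoImplicit false

namespace CfsgLib.Chev

open Cfsg.Lie Matrix
open scoped MatrixGroups

namespace Tab

variable {D : ChevalleyDatum}

namespace Good.Twisted

variable {T : Tab D} {G : T.Good} {F : Type*} [Field F] {Φ : G.Graph F} (Z : Twisted Φ)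
include Z

theorem w_injective {J J' : Fin Z.nJ} (h : Z.w J = Z.w J') : J = J' := by
  obtain ⟨i, hi⟩ := List.exists_mem_of_ne_nil _ (Z.orb_ne J)
  have h1 := Z.simp_mem_flip hi
  rw [h] at h1
  obtain ⟨-, h2⟩ := Z.mem_flip_w.mp h1
  have hi' : i ∈ Z.orb J' := by
    by_contra hn
    have := h2 i hn
    rw [G.cor_simple, if_pos rfl] at this
    exact one_ne_zero this
  exact Z.orb_disj J J' i hi hi'

theorem mem_diag_of_borel {g : GL D.Idx F} (hB : g ∈ D.borelSubgroup F)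
    (hN : g ∈ D.monomialSubgroup F) : g ∈ D.diagonalSubgroup F := by
  rw [← G.borel_inf_monomial]
  exact Subgroup.mem_inf.mpr ⟨hB, hN⟩

theorem H0_le_mono : Z.H0 ≤ D.monomialSubgroup F := fun _ hh =>
  Subgroup.mem_sup_left (Z.H0_diag hh)

theorem H0_le_borel : Z.H0 ≤ D.borelSubgroup F := fun _ hh =>
  Subgroup.mem_sup_right (Z.H0_diag hh)

theorem U1_le_borel : Z.U1 ≤ D.borelSubgroup F := fun _ hu =>
  Subgroup.mem_sup_left hu.2

theorem rootAct_eq_one {g : GL D.Idx F} (hd : g ∈ D.diagonalSubgroup F) : G.full.RootAct g 1 := by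
  rw [G.full.diagonal_eq_range] at hd
  obtain ⟨c, rfl⟩ := hd
  exact G.rootAct_hT c

/-- `B¹ = B ⊓ G¹`. -/
noncomputable def B1 : Subgroup Z.G1 := (D.borelSubgroup F ⊓ Z.G1).subgroupOf Z.G1

/-- `N¹ = N ⊓ G¹`. -/
noncomputable def N1 : Subgroup Z.G1 := (D.monomialSubgroup F ⊓ Z.G1).subgroupOf Z.G1

theorem mem_B1' {g : Z.G1} : g ∈ Z.B1 ↔ (g : GL D.Idx F) ∈ D.borelSubgroup F := by
  rw [B1, Subgroup.mem_subgroupOf, Subgroup.mem_inf]
  exact ⟨fun h => h.1, fun h => ⟨h, g.2⟩⟩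

theorem mem_N1' {g : Z.G1} : g ∈ Z.N1 ↔ (g : GL D.Idx F) ∈ D.monomialSubgroup F := by
  rw [N1, Subgroup.mem_subgroupOf, Subgroup.mem_inf]
  exact ⟨fun h => h.1, fun h => ⟨h, g.2⟩⟩

/-- The representatives of the generators of the Weyl group. -/
def simples : Set Z.G1 := {g | ∃ J, (g : GL D.Idx F) = Z.n J}

theorem mem_coset {x g : Z.G1} {b c : GL D.Idx F} (hb : b ∈ Z.G1) (hb' : b ∈ D.borelSubgroup F)
    (hc : c ∈ Z.G1) (hc' : c ∈ D.borelSubgroup F) (e : (x : GL D.Idx F) = b * g * c) :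
    x ∈ DoubleCoset.doubleCoset g (Z.B1 : Set Z.G1) Z.B1 :=
  DoubleCoset.mem_doubleCoset.mpr ⟨⟨b, hb⟩, Z.mem_B1'.mpr hb', ⟨c, hc⟩, Z.mem_B1'.mpr hc',
    Subtype.ext e⟩

/-- Every fixed root group of an orbit is non-trivial. -/
def XNontrivial : Prop := ∀ J, ∃ u ∈ Z.XJ J, u ≠ 1

/-- The torus acts faithfully on the fixed root groups. -/
def Faithful : Prop := ∀ h ∈ Z.H0, (∀ J, ∀ u ∈ Z.XJ J, h * u * h⁻¹ = u) → h = 1

/-- The orbits are connected. -/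
def Connected : Prop :=
  ∀ P : Fin Z.nJ → Prop, (∃ a, P a) → (∃ b, ¬ P b) →
    ∃ a b, P a ∧ ¬ P b ∧ Z.w a * Z.w b ≠ Z.w b * Z.w a

/-- The (B, N)-pair of a twisted group. -/
noncomputable def bnPair (hX : Z.XNontrivial) : Cfsg.BNPair Z.G1 where
  B := Z.B1
  N := Z.N1
  S := Z.simples
  sup_eq_top := by
    rw [eq_top_iff]
    intro g _
    have h : Z.G1 ≤ (D.borelSubgroup F ⊓ Z.G1) ⊔ (D.monomialSubgroup F ⊓ Z.G1) := by
      refine Z.gen.trans ((Subgroup.closure_le _).mpr ?_)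
      rintro x (hx | ⟨J, rfl⟩)
      · obtain ⟨J, hJ⟩ := Set.mem_iUnion.mp hx
        exact Subgroup.mem_sup_left (Subgroup.mem_inf.mpr
          ⟨Z.U1_le_borel (Z.XJ_le_U1 J hJ), Z.X_le J hJ⟩)
      · exact Subgroup.mem_sup_right (Subgroup.mem_inf.mpr ⟨Z.n_mono J, Z.n_mem J⟩)
    rw [B1, N1, ← Subgroup.subgroupOf_sup inf_le_right inf_le_right, Subgroup.mem_subgroupOf]
    exact h g.2
  conj_mem m hm t ht := by
    obtain ⟨ht1, ht2⟩ := Subgroup.mem_inf.mp ht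
    have hd := Z.mem_diag_of_borel (Z.mem_B1'.mp ht1) (Z.mem_N1'.mp ht2)
    have := G.diagonal_normal.conj_mem ⟨_, Z.mem_N1'.mp ht2⟩ hd ⟨_, Z.mem_N1'.mp hm⟩
    rw [Subgroup.mem_subgroupOf] at this
    exact Z.mem_B1'.mpr (Subgroup.mem_sup_right this)
  subset g hg := by
    obtain ⟨J, hJ⟩ := hg
    exact Z.mem_N1'.mpr (hJ ▸ Z.n_mono J)
  sq_mem g hg := by
    obtain ⟨J, hJ⟩ := hg
    exact Z.mem_B1'.mpr (by rw [Subgroup.coe_mul, hJ]; exact Z.H0_le_borel (Z.n_sq J))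
  inj g hg g' hg' h := by
    obtain ⟨J, hJ⟩ := hg
    obtain ⟨J', hJ'⟩ := hg'
    have hB := Z.mem_B1'.mp h
    rw [Subgroup.coe_mul, Subgroup.coe_inv, hJ, hJ'] at hB
    have hd := Z.mem_diag_of_borel hB (mul_mem (inv_mem (Z.n_mono J)) (Z.n_mono J'))
    have h1 := G.rootAct_mul (Z.n_act J) (Z.rootAct_eq_one hd)
    rw [mul_inv_cancel_left, mul_one] at h1
    have := Z.w_injective (G.rootAct_unique (Z.n_act J') h1).symm
    exact Subtype.ext (by rw [hJ, hJ', this])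
  closure_sup := by
    refine le_antisymm (sup_le ((Subgroup.closure_le _).mpr fun g hg => ?_) inf_le_right)
      fun g hg => ?_
    · obtain ⟨J, hJ⟩ := hg
      exact Z.mem_N1'.mpr (hJ ▸ Z.n_mono J)
    · obtain ⟨h, hh, L, e⟩ := Z.mem_N1 g.2 (Z.mem_N1'.mp hg)
      have e' : g = ⟨h, Z.H0_le hh⟩ *
          (L.map fun J => (⟨Z.n J, Z.n_mem J⟩ : Z.G1)).prod := by
        refine Subtype.ext ?_
        rw [e, Subgroup.coe_mul, Subgroup.val_list_prod, List.map_map]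
        rfl
      rw [e']
      refine mul_mem (Subgroup.mem_sup_right (Subgroup.mem_inf.mpr
        ⟨Z.mem_B1'.mpr (Z.H0_le_borel hh), Z.mem_N1'.mpr (Z.H0_le_mono hh)⟩))
        (Subgroup.mem_sup_left (list_prod_mem fun a ha => ?_))
      obtain ⟨J, -, rfl⟩ := List.mem_map.mp ha
      exact Subgroup.subset_closure ⟨J, rfl⟩
  mul_mem_union s hs m hm b hb := by
    obtain ⟨J, hJ⟩ := hs
    obtain ⟨k, hk, L, em⟩ := Z.mem_N1 m.2 (Z.mem_N1'.mp hm)
    obtain ⟨u, hu, h, hh, eb⟩ := Z.mem_B1 b.2 (Z.mem_B1'.mp hb)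
    obtain ⟨u', hu', h', hh', v, hv, e | e⟩ := Z.n_cases J hu (mul_mem hh hk) L
    · left
      set c := (Z.n J * k * (Z.n J)⁻¹)⁻¹
      have hc : c ∈ Z.H0 := inv_mem (Z.n_conj J k hk)
      refine Z.mem_coset (b := u' * h' * c) (c := v)
        (mul_mem (mul_mem (Z.U1_le hu') (Z.H0_le hh')) (Z.H0_le hc))
        (mul_mem (mul_mem (Z.U1_le_borel hu') (Z.H0_le_borel hh')) (Z.H0_le_borel hc))
        (Z.U1_le hv) (Z.U1_le_borel hv) ?_
      simp only [Subgroup.coe_mul, hJ, eb, em]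
      rw [show Z.n J * (u * h) * (k * Z.nT L) = Z.n J * (u * (h * k) * Z.nT L) by group, e,
        Z.nT_cons]
      simp only [c]
      group
    · right
      refine Z.mem_coset (b := u' * h' * k⁻¹) (c := v)
        (mul_mem (mul_mem (Z.U1_le hu') (Z.H0_le hh')) (Z.H0_le (inv_mem hk)))
        (mul_mem (mul_mem (Z.U1_le_borel hu') (Z.H0_le_borel hh')) (Z.H0_le_borel (inv_mem hk)))
        (Z.U1_le hv) (Z.U1_le_borel hv) ?_
      simp only [Subgroup.coe_mul, hJ, eb, em]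
      rw [show Z.n J * (u * h) * (k * Z.nT L) = Z.n J * (u * (h * k) * Z.nT L) by group, e]
      group
  conj_ne s hs h := by
    obtain ⟨J, hJ⟩ := hs
    obtain ⟨u, hu, hne⟩ := hX J
    have hm : s * ⟨u, Z.X_le J hu⟩ * s ∈ (Z.B1 : Set Z.G1) := by
      rw [← h]
      exact ⟨_, Z.mem_B1'.mpr (Z.U1_le_borel (Z.XJ_le_U1 J hu)), rfl⟩
    have hm' := Z.mem_B1'.mp hm
    simp only [Subgroup.coe_mul, hJ] at hm'
    have e : Z.n J * u * Z.n J = (Z.n J * u * (Z.n J)⁻¹) * (Z.n J * Z.n J) := by group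
    rw [e, Subgroup.mul_mem_cancel_right _ (Z.H0_le_borel (Z.n_sq J))] at hm'
    obtain ⟨b, hb, c, hc⟩ := G.mem_borel.mp hm'
    have h1 := G.eq_one_of_borel_neg hb (G.conj_flip_mem_neg (Z.n_act J) hu.2) hc.symm
    exact hne (conj_eq_one_iff.mp h1)

theorem bnPair_B (hX : Z.XNontrivial) :
    (Z.bnPair hX).B = (D.borelSubgroup F ⊓ Z.G1).subgroupOf Z.G1 := rfl

theorem bnPair_N (hX : Z.XNontrivial) :
    (Z.bnPair hX).N = (D.monomialSubgroup F ⊓ Z.G1).subgroupOf Z.G1 := rfl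

theorem normalCore_B1 (hfaith : Z.Faithful) : Z.B1.normalCore = ⊥ := by
  rw [eq_bot_iff]
  intro g hg
  obtain ⟨L₀, -, hneg⟩ := Z.exists_longest_red
  have key : ∀ x ∈ Z.B1.normalCore, (x : GL D.Idx F) ∈ Z.H0 := by
    intro x hx
    have hxB : x ∈ Z.B1 := Z.B1.normalCore_le hx
    obtain ⟨u, hu, h, hh, e⟩ := Z.mem_B1 x.2 (Z.mem_B1'.mp hxB)
    have hc := Z.B1.normalCore_le
      (Subgroup.Normal.conj_mem inferInstance x hx ⟨Z.nT L₀, Z.nT_mem L₀⟩)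
    have hc' := Z.mem_B1'.mp hc
    simp only [Subgroup.coe_mul, Subgroup.coe_inv, e] at hc'
    rw [show Z.nT L₀ * (u * h) * (Z.nT L₀)⁻¹ =
      (Z.nT L₀ * u * (Z.nT L₀)⁻¹) * (Z.nT L₀ * h * (Z.nT L₀)⁻¹) by group,
      Subgroup.mul_mem_cancel_right _ (Z.H0_le_borel (Z.nT_H0 L₀ hh))] at hc'
    have hu' : u ∈ G.US F (flipSet (Z.pwT L₀)) := by
      have : u ∈ Z.UT L₀ := by rw [Z.UT_longest hneg]; exact hu
      exact this.2
    obtain ⟨b, hb, c, hc⟩ := G.mem_borel.mp hc'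
    have h1 := G.eq_one_of_borel_neg hb (G.conj_flip_mem_neg (Z.nT_act L₀) hu') hc.symm
    rw [conj_eq_one_iff.mp h1, one_mul] at e
    exact e ▸ hh
  have hgH := key g hg
  refine Subgroup.mem_bot.mpr (Subtype.ext (hfaith g hgH fun J u hu => ?_))
  -- the commutator is a unipotent element of the torus
  have hc : ((⟨u, Z.X_le J hu⟩ : Z.G1) * g * (⟨u, Z.X_le J hu⟩ : Z.G1)⁻¹ * g⁻¹) ∈
      Z.B1.normalCore :=
    mul_mem (Subgroup.Normal.conj_mem inferInstance g hg _) (inv_mem hg)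
  have hd := Z.H0_diag (key _ hc)
  simp only [Subgroup.coe_mul, Subgroup.coe_inv] at hd
  have hu2 : u ∈ D.posUnipotent F := (Z.XJ_le_U1 J hu).2
  have hp : u * g * u⁻¹ * (g : GL D.Idx F)⁻¹ ∈ D.posUnipotent F := by
    have := Z.H0_conj_U1 hgH (inv_mem (Z.XJ_le_U1 J hu))
    rw [show u * (g : GL D.Idx F) * u⁻¹ * (g : GL D.Idx F)⁻¹ =
      u * ((g : GL D.Idx F) * u⁻¹ * (g : GL D.Idx F)⁻¹) by group]
    exact mul_mem hu2 this.2
  have : u * g * u⁻¹ * (g : GL D.Idx F)⁻¹ ∈ D.posUnipotent F ⊓ D.diagonalSubgroup F :=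
    Subgroup.mem_inf.mpr ⟨hp, hd⟩
  rw [G.pos_inf_diagonal, Subgroup.mem_bot, mul_inv_eq_one, mul_inv_eq_iff_eq_mul] at this
  rw [mul_inv_eq_iff_eq_mul]
  exact this.symm

theorem isSolvable_B1 : Group.IsSolvable Z.B1 := by
  haveI := G.isSolvable_borel (F := F)
  let f : Z.B1 →* D.borelSubgroup F :=
    MonoidHom.mk' (fun g => ⟨_, Z.mem_B1'.mp g.2⟩) fun a b => rfl
  exact Group.isSolvable_of_isSolvable_injective (f := f) fun a b h => by
    have := congrArg (fun x : D.borelSubgroup F => (x : GL D.Idx F)) h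
    exact Subtype.ext (Subtype.ext this)

theorem irreducible (hX : Z.XNontrivial) (hconn : Z.Connected) : (Z.bnPair hX).Irreducible := by
  intro S hSS hS hS'
  let s : Fin Z.nJ → Z.G1 := fun J => ⟨Z.n J, Z.n_mem J⟩
  have hs : ∀ g ∈ Z.simples, ∃ J, g = s J := fun g ⟨J, hJ⟩ => ⟨J, Subtype.ext hJ⟩
  obtain ⟨g, hg⟩ := hS
  obtain ⟨g', hg', hgn⟩ := hS'
  obtain ⟨J, rfl⟩ := hs g (hSS hg)
  obtain ⟨J', rfl⟩ := hs g' hg'
  obtain ⟨a, b, ha, hb, hne⟩ := hconn (fun J => s J ∈ S) ⟨J, hg⟩ ⟨J', hgn⟩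
  refine ⟨s a, ha, s b, ⟨⟨b, rfl⟩, hb⟩, fun hB => hne ?_⟩
  have hB' := Z.mem_B1'.mp hB
  simp only [Subgroup.coe_mul, Subgroup.coe_inv, s] at hB'
  have hd := Z.mem_diag_of_borel hB' (mul_mem (mul_mem (mul_mem (Z.n_mono a) (Z.n_mono b))
    (inv_mem (Z.n_mono a))) (inv_mem (Z.n_mono b)))
  have h2 := G.rootAct_mul (Z.rootAct_eq_one hd) (G.rootAct_mul (Z.n_act b) (Z.n_act a))
  rw [show Z.n a * Z.n b * (Z.n a)⁻¹ * (Z.n b)⁻¹ * (Z.n b * Z.n a) = Z.n a * Z.n b by group,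
    one_mul] at h2
  exact G.rootAct_unique (G.rootAct_mul (Z.n_act a) (Z.n_act b)) h2

theorem commutator_top (h : ∀ J, Z.XJ J ≤ ⁅Z.G1, Z.G1⁆) (hn : ∀ J, Z.n J ∈ ⁅Z.G1, Z.G1⁆) :
    commutator Z.G1 = ⊤ := by
  have hle : Z.G1 ≤ ⁅Z.G1, Z.G1⁆ := by
    refine Z.gen.trans ((Subgroup.closure_le _).mpr ?_)
    rintro x (hx | ⟨J, rfl⟩)
    · obtain ⟨J, hJ⟩ := Set.mem_iUnion.mp hx
      exact h J hJ
    · exact hn J
  apply Subgroup.map_injective Z.G1.subtype_injective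
  rw [_root_.commutator_def, Subgroup.map_commutator, ← MonoidHom.range_eq_map,
    Subgroup.range_subtype]
  refine le_antisymm ?_ hle
  rw [Subgroup.commutator_le]
  exact fun a ha b hb => mul_mem (mul_mem (mul_mem ha hb) (inv_mem ha)) (inv_mem hb)

theorem isSimple_G1 (hX : Z.XNontrivial) (hfaith : Z.Faithful) (hconn : Z.Connected) (hnJ : 0 < Z.nJ)
    (hperf : commutator Z.G1 = ⊤) : IsSimpleGroup Z.G1 ∧ ¬ IsMulCommutative Z.G1 := by
  obtain ⟨u, hu, hne⟩ := hX ⟨0, hnJ⟩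
  haveI : Nontrivial Z.G1 :=
    ⟨⟨⟨u, Z.X_le _ hu⟩, 1, fun e => hne (congrArg Subtype.val e)⟩⟩
  refine ⟨CfsgLib.BN.isSimpleGroup (Z.bnPair hX) (Z.irreducible hX hconn) Z.isSolvable_B1 hperf
    (Z.normalCore_B1 hfaith), fun hc => ?_⟩
  have hbot : commutator Z.G1 = ⊥ := by
    rw [_root_.commutator_def, Subgroup.commutator_eq_bot_iff_le_centralizer]
    intro a _ b _
    exact hc.is_comm.comm b a
  exact bot_ne_top (hbot.symm.trans hperf)

/-- The action of `N¹` on the roots. -/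
noncomputable def wperm :
    (D.monomialSubgroup F ⊓ Z.G1 : Subgroup (GL D.Idx F)) →* Equiv.Perm (Fin D.nroots) :=
  (G.nperm F).comp (Subgroup.inclusion inf_le_left)

theorem wperm_ker : Z.wperm.ker = (D.diagonalSubgroup F ⊓ Z.G1).subgroupOf
    (D.monomialSubgroup F ⊓ Z.G1) := by
  ext g
  rw [wperm, MonoidHom.mem_ker, MonoidHom.comp_apply, ← MonoidHom.mem_ker, G.nperm_ker,
    Subgroup.mem_subgroupOf, Subgroup.mem_subgroupOf, Subgroup.coe_inclusion]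
  exact ⟨fun h => Subgroup.mem_inf.mpr ⟨h, (Subgroup.mem_inf.mp g.2).2⟩,
    fun h => (Subgroup.mem_inf.mp h).1⟩

theorem wperm_eq {g : (D.monomialSubgroup F ⊓ Z.G1 : Subgroup (GL D.Idx F))}
    {σ : Equiv.Perm (Fin D.nroots)} (h : G.full.RootAct (g : GL D.Idx F) σ) : Z.wperm g = σ :=
  G.nperm_eq F (n := Subgroup.inclusion inf_le_left g) h

theorem wperm_range : Z.wperm.range = Subgroup.closure (Set.range Z.w) := by
  refine le_antisymm ?_ ((Subgroup.closure_le _).mpr ?_)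
  · rintro _ ⟨g, rfl⟩
    obtain ⟨hm, hg⟩ := Subgroup.mem_inf.mp g.2
    obtain ⟨h, hh, L, e⟩ := Z.mem_N1 hg hm
    rw [Z.wperm_eq (σ := Z.pwT L) (by
      rw [e, ← one_mul (Z.pwT L)]
      exact G.rootAct_mul (Z.rootAct_eq_one (Z.H0_diag hh)) (Z.nT_act L))]
    induction L generalizing g h with
    | nil => rw [Z.pwT_nil]; exact one_mem _
    | cons J L ih =>
      rw [Z.pwT_cons]
      refine mul_mem (Subgroup.subset_closure ⟨J, rfl⟩)
        (ih ⟨Z.nT L, Subgroup.mem_inf.mpr ⟨Z.nT_mono L, Z.nT_mem L⟩⟩ ?_ ?_ 1 (one_mem _) ?_)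
      · exact Z.nT_mono L
      · exact Z.nT_mem L
      · exact (one_mul _).symm
  · rintro _ ⟨J, rfl⟩
    exact ⟨⟨Z.n J, Subgroup.mem_inf.mpr ⟨Z.n_mono J, Z.n_mem J⟩⟩, Z.wperm_eq (Z.n_act J)⟩

/-- `N¹ / H¹` is a Coxeter group on the orbits. -/
theorem exists_coxeter (hX : Z.XNontrivial) (M : CoxeterMatrix (Fin Z.nJ))
    (hM : ∀ i j, orderOf (Z.w i * Z.w j) = M i j) :
    ∃ φ : (D.monomialSubgroup F ⊓ Z.G1 : Subgroup (GL D.Idx F)) →* M.Group,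
      Function.Surjective φ ∧ φ.ker = (D.diagonalSubgroup F ⊓ Z.G1).subgroupOf
        (D.monomialSubgroup F ⊓ Z.G1) := by
  classical
  set P := Z.bnPair hX with hP
  let ι : (D.monomialSubgroup F ⊓ Z.G1 : Subgroup (GL D.Idx F)) →* P.N :=
    MonoidHom.mk' (fun m => ⟨⟨(m : GL D.Idx F), (Subgroup.mem_inf.mp m.2).2⟩,
      Z.mem_N1'.mpr (Subgroup.mem_inf.mp m.2).1⟩) fun a b => rfl
  have hι : Function.Surjective ι := fun m =>
    ⟨⟨_, Subgroup.mem_inf.mpr ⟨Z.mem_N1'.mp m.2, m.1.2⟩⟩, rfl⟩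
  let back : P.N →* (D.monomialSubgroup F ⊓ Z.G1 : Subgroup (GL D.Idx F)) :=
    MonoidHom.mk' (fun m => ⟨((m : Z.G1) : GL D.Idx F),
      Subgroup.mem_inf.mpr ⟨Z.mem_N1'.mp m.2, m.1.2⟩⟩) fun a b => rfl
  haveI := CfsgLib.BN.torus_normal P
  have hker : (Z.wperm.comp back).ker = CfsgLib.BN.torus P := by
    ext m
    rw [MonoidHom.mem_ker, MonoidHom.comp_apply, ← MonoidHom.mem_ker, Z.wperm_ker,
      Subgroup.mem_subgroupOf, Subgroup.mem_subgroupOf, Subgroup.mem_inf, Subgroup.mem_inf]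
    exact ⟨fun h => ⟨Z.mem_B1'.mpr (Subgroup.mem_sup_right h.1), m.2⟩,
      fun h => ⟨Z.mem_diag_of_borel (Z.mem_B1'.mp h.1) (Z.mem_N1'.mp m.2), m.1.2⟩⟩
  let π : CfsgLib.BN.Weyl P →* Equiv.Perm (Fin D.nroots) :=
    QuotientGroup.lift (CfsgLib.BN.torus P) (Z.wperm.comp back) hker.ge
  have hπ : Function.Injective π := by
    rw [injective_iff_map_eq_one]
    intro w hw
    obtain ⟨m, rfl⟩ := QuotientGroup.mk_surjective w
    rw [QuotientGroup.eq_one_iff, ← hker]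
    exact hw
  let e₀ : Fin Z.nJ → P.S := fun J => ⟨⟨Z.n J, Z.n_mem J⟩, ⟨J, rfl⟩⟩
  have he₀ : Function.Bijective e₀ := by
    constructor
    · intro i j h
      have h' : Z.n i = Z.n j := congrArg (fun s : P.S => (s.1 : GL D.Idx F)) h
      exact Z.w_injective (G.rootAct_unique (Z.n_act i) (h' ▸ Z.n_act j))
    · rintro ⟨g, J, hJ⟩
      exact ⟨J, Subtype.ext (Subtype.ext hJ.symm)⟩
  let e := Equiv.ofBijective e₀ he₀
  have hrefl : ∀ J, π (CfsgLib.BN.refl P (e₀ J)) = Z.w J := fun J => Z.wperm_eq (Z.n_act J)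
  have hcox : (CfsgLib.BN.cox P).reindex e.symm = M := by
    refine CoxeterMatrix.ext ?_
    funext i j
    show orderOf (CfsgLib.BN.refl P (e₀ i) * CfsgLib.BN.refl P (e₀ j)) = M i j
    rw [← orderOf_injective π hπ, map_mul, hrefl, hrefl, hM]
  obtain ⟨cs⟩ : Nonempty (CoxeterSystem M (CfsgLib.BN.Weyl P)) := by
    rw [← hcox]
    exact ⟨(CfsgLib.BN.coxeterSystem P).reindex e.symm⟩
  refine ⟨(cs.mulEquiv.toMonoidHom.comp (QuotientGroup.mk' _)).comp ι,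
    (cs.mulEquiv.surjective.comp (QuotientGroup.mk'_surjective _)).comp hι, ?_⟩
  ext m
  rw [← Z.wperm_ker, MonoidHom.mem_ker, MonoidHom.mem_ker]
  show cs.mulEquiv (QuotientGroup.mk (ι m)) = 1 ↔ _
  rw [MulEquiv.map_eq_one_iff, ← map_eq_one_iff π hπ]
  rfl

omit Z in
theorem _root_.CfsgLib.Chev.Tab.Good.orderOf_pw_mul (L L' : List (Fin D.rank)) {m : ℕ}
    (G : T.Good) (h : T.chkOrder (L.map Fin.val ++ L'.map Fin.val) m = true) :
    orderOf (G.full.pw L * G.full.pw L') = m := by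
  rw [← G.pw_append]
  exact G.orderOf_pw (by rwa [List.map_append])

end Good.Twisted

end Tab

end CfsgLib.Chev
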