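import Cfsg.Agent.Chev.Card
import Cfsg.Agent.Chev.SteinbergTorus
import Mathlib.FieldTheory.Fixed
import Cfsg.Prelude.Def_ChevAutomorphisms

/-!
Fixed points of field automorphisms of Chevalley groups whose torus map is injective.
-/

set_option autoImplicit false

namespace CfsgLib.Chev

open Cfsg.Lie Matrix
open scoped MatrixGroups

namespace Tab

variable {D : ChevalleyDatum}

/-- Entrywise image under a field map. -/
def glMap (D : ChevalleyDatum) {E F : Type*} [Field E] [Field F] (f : E →+* F) :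
    GL D.Idx E →* GL D.Idx F :=
  Units.map f.mapMatrix.toMonoidHom

theorem glMap_coe {E F : Type*} [Field E] [Field F] (f : E →+* F) (g : GL D.Idx E) :
    ((glMap D f g : GL D.Idx F) : Matrix D.Idx D.Idx F) =
      f.mapMatrix (g : Matrix D.Idx D.Idx E) := rfl

theorem glMap_injective {E F : Type*} [Field E] [Field F] (f : E →+* F) :
    Function.Injective (glMap D f) := fun a b e => by
  refine Units.ext (Matrix.ext fun x y => f.injective ?_)
  have e' := congrFun (congrFun (congrArg (fun g : GL D.Idx F => (g : Matrix D.Idx D.Idx F)) e) x) y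
  simpa [glMap_coe] using e'

theorem glMap_comp {E F K : Type*} [Field E] [Field F] [Field K] (f : E →+* F) (f' : F →+* K)
    (g : GL D.Idx E) : glMap D f' (glMap D f g) = glMap D (f'.comp f) g :=
  Units.ext (Matrix.ext fun _ _ => rfl)

namespace Good

variable {T : Tab D} (G : T.Good) {E F : Type*} [Field E] [Field F] (f : E →+* F)
include G

theorem glMap_x (r : ℕ) (t : E) : glMap D f (G.full.x r t) = G.full.x r (f t) := by
  by_cases h : r < D.nroots
  · apply Units.ext
    rw [glMap_coe, G.full.coe_x h, G.full.coe_x h, Cert.X_map]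
  · simp [Full.x, h]

theorem glMap_nr (r : ℕ) (t : E) : glMap D f (G.full.nr r t) = G.full.nr r (f t) := by
  simp [Full.nr, map_mul, G.glMap_x, map_inv₀]

theorem glMap_nw (L : List (Fin D.rank)) : glMap D f (G.full.nw E L) = G.full.nw F L := by
  rw [Full.nw, map_list_prod, List.map_map, Full.nw]
  refine congrArg List.prod (List.map_congr_left fun i _ => ?_)
  simp [Full.ns, G.glMap_nr]

theorem glMap_hT (c : Fin D.rank → Eˣ) :
    glMap D f (T.hT E c) = T.hT F (fun i => Units.map f.toMonoidHom (c i)) := by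
  have hchi : ∀ s, (f (T.chi s c : E)) =
      ((T.chi s (fun i => Units.map f.toMonoidHom (c i)) : Fˣ) : F) := fun s => by
    show ((Units.map f.toMonoidHom (T.chi s c) : Fˣ) : F) = _
    simp only [chi, MonoidHom.coe_mk, OneHom.coe_mk, map_prod, map_zpow]
  apply Units.ext
  rw [glMap_coe, T.coe_hT, T.coe_hT, RingHom.mapMatrix_apply, Matrix.diagonal_map (map_zero f)]
  refine congrArg Matrix.diagonal (funext fun b => ?_)
  rcases b with j | s
  · simp
  · exact hchi s

theorem glMap_US {S : Set ℕ} {u : GL D.Idx E} (hu : u ∈ G.US E S) :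
    glMap D f u ∈ G.US F S := by
  have h : G.US E S ≤ (G.US F S).comap (glMap D f) := by
    conv_lhs => rw [US]
    rw [Subgroup.closure_le]
    rintro _ ⟨r, hr, t, rfl⟩
    rw [SetLike.mem_coe, Subgroup.mem_comap, G.glMap_x]
    exact G.x_mem_US hr _
  exact h hu

theorem glMap_segProd (S : Set ℕ) (a : ℕ → E) : ∀ m k,
    glMap D f (G.segProd S a k m) = G.segProd S (f ∘ a) k m := by
  intro m
  induction m with
  | zero => intro k; simp [segProd]
  | succ m ih =>
    intro k
    simp only [segProd, map_mul, ih]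
    split_ifs <;> simp [G.glMap_x]

theorem glMap_group {g : GL D.Idx E} (hg : g ∈ D.group E) : glMap D f g ∈ D.group F := by
  have h : D.group E ≤ (D.group F).comap (glMap D f) := G.group_le_iff.mpr fun r _ t => by
    rw [Subgroup.mem_comap, G.glMap_x]; exact G.x_mem_group _ _
  exact h hg

/-- The normal form `v h n_w u`. -/
theorem normal_form {g : GL D.Idx F} (hg : g ∈ D.group F) :
    ∃ v ∈ D.posUnipotent F, ∃ c L, ∃ u ∈ G.US F (flipSet (G.full.pw L)),
      g = v * T.hT F c * G.full.nw F L * u := by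
  obtain ⟨b, hb, n, hn, L, hL, u, hu, rfl⟩ := G.canonical_exists hg
  obtain ⟨d, L', rfl⟩ := G.exists_word hn
  have e : G.full.pw L = G.full.pw L' := by
    have h := G.rootAct_mul (G.rootAct_hT (F := F) d) (G.rootAct_nw L')
    rw [one_mul] at h
    exact G.rootAct_unique hL h
  obtain ⟨v, hv, c, rfl⟩ := G.mem_borel.mp hb
  exact ⟨v, hv, c * d, L', u, e ▸ hu, by rw [map_mul]; group⟩

/-- A fixed point of the field automorphism comes from the fixed field. -/
theorem exists_glMap_of_fixed (hinj : Function.Injective (T.hT F)) (σ : F →+* F)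
    (hE : ∀ e, σ (f e) = f e) (hfix : ∀ t, σ t = t → ∃ e, f e = t) {g : GL D.Idx F}
    (hg : g ∈ D.group F) (hσg : glMap D σ g = g) :
    ∃ g₀ ∈ D.group E, glMap D f g₀ = g := by
  classical
  obtain ⟨v, hv, c, L, u, hu, rfl⟩ := G.normal_form hg
  have hσv : glMap D σ v ∈ D.posUnipotent F := by
    rw [G.posUnipotent_eq] at hv ⊢; exact G.glMap_US σ hv
  set c' : Fin D.rank → Fˣ := fun i => Units.map σ.toMonoidHom (c i)
  simp only [map_mul, G.glMap_nw, G.glMap_hT] at hσg
  have hh : ∀ d : Fin D.rank → Fˣ, T.hT F d ∈ D.diagonalSubgroup F := fun d => by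
    rw [G.full.diagonal_eq_range]; exact ⟨d, rfl⟩
  have hn := G.nw_mem_monomial (F := F) L
  obtain ⟨hb, hu'⟩ := (G.canonical_unique (mul_mem (Subgroup.mem_sup_left hσv)
    (Subgroup.mem_sup_right (hh c'))) (mul_mem (Subgroup.mem_sup_left hv)
    (Subgroup.mem_sup_right (hh c))) hn hn (G.rootAct_nw L) (G.rootAct_nw L) (G.glMap_US σ hu) hu
    hσg).2 rfl
  have hm : v⁻¹ * glMap D σ v ∈ D.posUnipotent F ⊓ D.diagonalSubgroup F := by
    refine Subgroup.mem_inf.mpr ⟨mul_mem (inv_mem hv) hσv, ?_⟩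
    have e : v⁻¹ * glMap D σ v = T.hT F c * (T.hT F c')⁻¹ := by
      rw [eq_mul_inv_iff_mul_eq, mul_assoc, hb, inv_mul_cancel_left]
    rw [e]
    exact mul_mem (hh c) (inv_mem (hh c'))
  rw [G.pos_inf_diagonal, Subgroup.mem_bot, inv_mul_eq_one] at hm
  rw [← hm] at hb
  have hc : c' = c := hinj (mul_left_cancel hb)
  have hcE : ∀ i, ∃ e : Eˣ, Units.map f.toMonoidHom e = c i := fun i => by
    obtain ⟨e, he⟩ := hfix (c i : F) (by
      simpa [c'] using congrArg Units.val (congrFun hc i))
    exact ⟨Units.mk0 e (fun h0 => (c i).ne_zero (by rw [← he, h0, map_zero])), Units.ext he⟩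
  choose cE hcE using hcE
  have key : ∀ S : Set ℕ, T.Closed S → ∀ w ∈ G.US F S, glMap D σ w = w →
      ∃ w₀ ∈ G.US E S, glMap D f w₀ = w := by
    intro S hS w hw hσw
    have hw' : w ∈ (G.US F S : Set (GL D.Idx F)) := hw
    rw [G.US_eq_range hS] at hw'
    obtain ⟨a, rfl⟩ := hw'
    rw [G.glMap_segProd] at hσw
    have hr : ∀ r ∈ S, ∃ e, f e = a r := fun r hr =>
      hfix _ (G.segProd_injective hS D.nroots 0 _ _ (zero_add _) hσw r hr (Nat.zero_le r))
    let a₀ : ℕ → E := fun r => if h : r ∈ S then (hr r h).choose else 0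
    refine ⟨G.segProd S a₀ 0 D.nroots, ?_, ?_⟩
    · rw [← SetLike.mem_coe, G.US_eq_range hS]; exact ⟨a₀, rfl⟩
    · rw [G.glMap_segProd]
      refine G.segProd_congr S _ _ fun r h _ => ?_
      simp only [Function.comp_apply, a₀, dif_pos h]
      exact (hr r h).choose_spec
  obtain ⟨v₀, hv₀, rfl⟩ := key _ G.closed_pos v (by rw [← G.posUnipotent_eq]; exact hv) hm.symm
  obtain ⟨u₀, hu₀, rfl⟩ := key _ (G.closed_flip L) u hu hu'
  refine ⟨v₀ * T.hT E cE * G.full.nw E L * u₀, ?_, ?_⟩
  · refine mul_mem (mul_mem (mul_mem (G.US_le_group _ hv₀) (G.diagonal_le_group ?_))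
      (G.monomial_le_group (G.nw_mem_monomial L))) (G.US_le_group _ hu₀)
    rw [G.full.diagonal_eq_range]; exact ⟨cE, rfl⟩
  · simp only [map_mul, G.glMap_nw, G.glMap_hT, hcE]

/-- A field automorphism is the entrywise action of its automorphism of the field. -/
theorem fieldAut_apply {φ : MulAut (D.group F)} {σ : F ≃+* F}
    (hσ : ∀ (g : D.group F) (r : ℕ) (t : F), r < D.nroots →
      ((g : GL D.Idx F) : Matrix D.Idx D.Idx F) = D.x F r t →
        ((φ g : GL D.Idx F) : Matrix D.Idx D.Idx F) = D.x F r (σ t)) (g : D.group F) :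
    (φ g : GL D.Idx F) = glMap D σ.toRingHom g := by
  have h : D.group F ≤ ((((D.group F).subtype.comp φ.toMonoidHom)).eqLocus
      ((glMap D σ.toRingHom).comp (D.group F).subtype)).map (D.group F).subtype := by
    refine G.group_le_iff.mpr fun r hr t => ⟨⟨_, G.x_mem_group r t⟩, ?_, rfl⟩
    show (φ ⟨_, G.x_mem_group r t⟩ : GL D.Idx F) = glMap D σ.toRingHom (G.full.x r t)
    rw [G.glMap_x]
    exact G.full.eq_x.mp (hσ _ r t hr (G.full.coe_x' r t))
  obtain ⟨a, ha, e⟩ := h g.2
  obtain rfl : a = g := Subtype.ext e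
  exact ha

/-- Centralisers of field automorphisms of prime order. -/
theorem fieldAut_fixed_of_inj {F : Type*} [Field F] [Fintype F] (hrank : 0 < D.rank)
    (hinj : Function.Injective (T.hT F)) (φ : MulAut (D.group F)) (hφ : D.IsFieldAut φ)
    (r : ℕ) (hr : r.Prime) (ho : orderOf φ = r) :
    ∃ (F₀ : Type) (_ : Field F₀) (_ : Fintype F₀), Fintype.card F = Fintype.card F₀ ^ r ∧
      Nonempty ((MulEquiv.toMonoidHom φ).eqLocus (MonoidHom.id (D.group F)) ≃* D.group F₀) := by
  classical
  obtain ⟨σ, hσ⟩ := hφ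
  have happ := G.fieldAut_apply hσ
  have hpow : ∀ n : ℕ, ∀ g : D.group F,
      ((φ ^ n) g : GL D.Idx F) = glMap D (σ ^ n : F ≃+* F).toRingHom g := by
    intro n
    induction n with
    | zero => intro g; exact Units.ext (Matrix.ext fun _ _ => rfl)
    | succ n ih =>
      intro g
      rw [pow_succ', pow_succ', MulAut.mul_apply, happ, ih, glMap_comp]
      rfl
  have hordσ : orderOf σ = r := by
    rw [← ho]
    refine orderOf_eq_orderOf_iff.mpr fun n => ⟨fun h => ?_, fun h => ?_⟩
    · refine MulEquiv.ext fun g => Subtype.ext ?_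
      rw [hpow, h]
      exact Units.ext (Matrix.ext fun _ _ => rfl)
    · refine RingEquiv.ext fun t => ?_
      have hp := G.full.simple_lt hrank
      have := hpow n ⟨_, G.x_mem_group (D.simple 0) t⟩
      rw [h, G.glMap_x] at this
      exact (G.x_inj hp this).symm
  let H : Subgroup (F ≃+* F) := Subgroup.zpowers σ
  have : Finite (F ≃+* F) := Finite.of_injective (fun τ : F ≃+* F => (τ : F → F)) DFunLike.coe_injective
  let : Fintype H := Fintype.ofFinite H
  let K := FixedPoints.subfield H F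
  have hcard : Fintype.card F = Fintype.card K ^ r := by
    rw [Module.card_eq_pow_finrank (K := K), FixedPoints.finrank_eq_card H F,
      ← Nat.card_eq_fintype_card (α := H), Nat.card_zpowers, hordσ]
  let e := Fintype.equivFin K
  let : Field (Fin (Fintype.card K)) := e.symm.field
  let ι : Fin (Fintype.card K) →+* F := K.subtype.comp (e.symm.ringEquiv).toRingHom
  have hE : ∀ a, σ.toRingHom (ι a) = ι a := fun a =>
    (e.symm.ringEquiv a).2 ⟨σ, Subgroup.mem_zpowers σ⟩
  have hfix : ∀ t, σ.toRingHom t = t → ∃ a, ι a = t := by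
    intro t ht
    have hz : ∀ m ∈ H, m t = t := fun m hm => by
      obtain ⟨k, rfl⟩ := hm
      have hst : σ ∈ MulAction.stabilizer (F ≃+* F) t := ht
      exact (zpow_mem hst k)
    exact ⟨e ⟨t, fun m => hz m.1 m.2⟩, by simp [ι, Equiv.ringEquiv_apply]⟩
  refine ⟨_, e.symm.field, inferInstance, by rw [hcard, Fintype.card_fin], ?_⟩
  let ψ : D.group (Fin (Fintype.card K)) →*
      (MulEquiv.toMonoidHom φ).eqLocus (MonoidHom.id (D.group F)) :=
    MonoidHom.mk' (fun a => ⟨⟨glMap D ι a, G.glMap_group ι a.2⟩, Subtype.ext (by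
      show (φ _ : GL D.Idx F) = glMap D ι a
      rw [happ, glMap_comp, show σ.toRingHom.comp ι = ι from RingHom.ext hE])⟩)
      fun a b => Subtype.ext (Subtype.ext (map_mul (glMap D ι) _ _))
  refine ⟨(MulEquiv.ofBijective ψ ⟨fun a b h => ?_, ?_⟩).symm⟩
  · exact Subtype.ext (glMap_injective ι (congrArg (fun z => ((z.1 : D.group F) : GL D.Idx F)) h))
  · rintro ⟨⟨g, hg⟩, hφg⟩
    have hfixg : glMap D σ.toRingHom g = g := by
      rw [← happ ⟨g, hg⟩]
      exact congrArg Subtype.val hφg
    obtain ⟨g₀, hg₀, e₀⟩ := G.exists_glMap_of_fixed ι hinj σ.toRingHom hE hfix hg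
      hfixg
    exact ⟨⟨g₀, hg₀⟩, Subtype.ext (Subtype.ext e₀)⟩

/-- Centralisers of field automorphisms of prime order, unimodular case. -/
theorem fieldAut_fixed {F : Type*} [Field F] [Fintype F] (hrank : 0 < D.rank)
    {M : List (List ℤ)} (hM : T.chkUni M = true) (φ : MulAut (D.group F)) (hφ : D.IsFieldAut φ)
    (r : ℕ) (hr : r.Prime) (ho : orderOf φ = r) :
    ∃ (F₀ : Type) (_ : Field F₀) (_ : Fintype F₀), Fintype.card F = Fintype.card F₀ ^ r ∧
      Nonempty ((MulEquiv.toMonoidHom φ).eqLocus (MonoidHom.id (D.group F)) ≃* D.group F₀) :=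
  G.fieldAut_fixed_of_inj hrank (G.hT_injective hM) φ hφ r hr ho

end Good

end Tab

end CfsgLib.Chev
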