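import Cfsg.Agent.Chev.Card

/-!
The order of the diagonal subgroup from a Smith normal form of the Cartan matrix.
-/

set_option autoImplicit false

namespace CfsgLib.Chev

open Cfsg.Lie Matrix
open scoped MatrixGroups

/-- A Smith normal form `P * diag d * Q` with the inverses of `P` and `Q`. -/
structure SmithData where
  /-- left factor -/
  p : List (List ℤ)
  /-- its inverse -/
  p' : List (List ℤ)
  /-- the invariant factors -/
  d : List ℕ
  /-- right factor -/
  q : List (List ℤ)
  /-- its inverse -/
  q' : List (List ℤ)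

namespace Tab

variable {D : ChevalleyDatum}

/-- A matrix from nested lists. -/
def ofLists (n : ℕ) (L : List (List ℤ)) : Matrix (Fin n) (Fin n) ℤ :=
  Matrix.of fun i j => (L.getD i.val []).getD j.val 0

/-- The transpose of the Cartan matrix. -/
def cartMat (T : Tab D) : Matrix (Fin D.rank) (Fin D.rank) ℤ :=
  Matrix.of fun j i => T.cart i.val (D.simple j.val)

/-- Check of a Smith normal form of the Cartan matrix. -/
def chkSmith (T : Tab D) (S : SmithData) : Bool :=
  decide (ofLists D.rank S.p * ofLists D.rank S.p' = 1) &&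
    decide (ofLists D.rank S.p' * ofLists D.rank S.p = 1) &&
    decide (ofLists D.rank S.q * ofLists D.rank S.q' = 1) &&
    decide (ofLists D.rank S.q' * ofLists D.rank S.q = 1) &&
    decide (T.cartMat = ofLists D.rank S.p *
      Matrix.diagonal (fun i : Fin D.rank => ((S.d.getD i.val 0 : ℕ) : ℤ)) * ofLists D.rank S.q) &&
    decide (S.d.length = D.rank)

/-- An integral matrix acting on a power of a commutative group. -/
def mulAct {n : ℕ} {A : Type*} [CommGroup A] (M : Matrix (Fin n) (Fin n) ℤ) :
    (Fin n → A) →* (Fin n → A) where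
  toFun c j := ∏ i, c i ^ M j i
  map_one' := funext fun j => by simp
  map_mul' c d := funext fun j => by simp [mul_zpow, Finset.prod_mul_distrib]

theorem mulAct_mul {n : ℕ} {A : Type*} [CommGroup A] (M N : Matrix (Fin n) (Fin n) ℤ)
    (c : Fin n → A) : mulAct (M * N) c = mulAct M (mulAct N c) := by
  funext j
  simp only [mulAct, MonoidHom.coe_mk, OneHom.coe_mk, Matrix.mul_apply]
  calc ∏ i, c i ^ (∑ k, M j k * N k i) = ∏ i, ∏ k, c i ^ (M j k * N k i) :=
        Finset.prod_congr rfl fun i _ => zpow_sum_eq_prod _ _ _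
    _ = ∏ k, ∏ i, c i ^ (M j k * N k i) := Finset.prod_comm
    _ = _ := Finset.prod_congr rfl fun k _ => by
        rw [← Finset.prod_zpow]
        exact Finset.prod_congr rfl fun i _ => by rw [mul_comm (M j k), _root_.zpow_mul]

theorem mulAct_one {n : ℕ} {A : Type*} [CommGroup A] (c : Fin n → A) :
    mulAct (1 : Matrix (Fin n) (Fin n) ℤ) c = c := by
  funext j
  simp only [mulAct, MonoidHom.coe_mk, OneHom.coe_mk]
  rw [Finset.prod_eq_single j]
  · simp
  · intro b _ hb; simp [Matrix.one_apply, hb.symm]
  · simp

theorem mulAct_diagonal {n : ℕ} {A : Type*} [CommGroup A] (e : Fin n → ℕ) (c : Fin n → A)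
    (j : Fin n) : mulAct (Matrix.diagonal fun i => (e i : ℤ)) c j = c j ^ e j := by
  simp only [mulAct, MonoidHom.coe_mk, OneHom.coe_mk]
  rw [Finset.prod_eq_single j]
  · simp
  · intro b _ hb; simp [Matrix.diagonal_apply_ne _ hb.symm]
  · simp

namespace Good

variable {T : Tab D} (G : T.Good) {F : Type*} [Field F]
include G

theorem card_diagonal [Fintype F] {S : SmithData} (h : T.chkSmith S = true) :
    (S.d.map fun d => Nat.gcd (Fintype.card F - 1) d).prod * Nat.card (D.diagonalSubgroup F) =
      (Fintype.card F - 1) ^ D.rank := by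
  classical
  simp only [chkSmith, Bool.and_eq_true, decide_eq_true_eq] at h
  obtain ⟨⟨⟨⟨⟨hp, hp'⟩, hq⟩, hq'⟩, hA⟩, hlen⟩ := h
  have hcard : Nat.card Fˣ = Fintype.card F - 1 := by
    rw [Nat.card_eq_fintype_card, Fintype.card_units]
  set e : Fin D.rank → ℕ := fun i => S.d.getD i.val 0 with he
  have hker : ∀ c : Fin D.rank → Fˣ, c ∈ (T.hT F).ker ↔ mulAct T.cartMat c = 1 := by
    intro c
    rw [MonoidHom.mem_ker, G.full.hT_eq_one_iff]
    exact ⟨fun h => funext fun j => h j.val j.isLt, fun h j hj => congrFun h ⟨j, hj⟩⟩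
  let K : Subgroup (Fin D.rank → Fˣ) :=
    Subgroup.pi Set.univ fun i => (powMonoidHom (e i) : Fˣ →* Fˣ).ker
  have hK : Nat.card (T.hT F).ker = Nat.card K := by
    refine Nat.card_congr
      { toFun := fun c => ⟨mulAct (ofLists _ S.q) c.1, ?_⟩
        invFun := fun c => ⟨mulAct (ofLists _ S.q') c.1, ?_⟩
        left_inv := fun c => Subtype.ext (by
          show mulAct _ (mulAct _ c.1) = c.1
          rw [← mulAct_mul, hq', mulAct_one])
        right_inv := fun c => Subtype.ext (by
          show mulAct _ (mulAct _ c.1) = c.1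
          rw [← mulAct_mul, hq, mulAct_one]) }
    · have h := (hker _).mp c.2
      rw [hA, mulAct_mul, mulAct_mul] at h
      have h2 := congrArg (mulAct (ofLists D.rank S.p')) h
      rw [← mulAct_mul, hp', mulAct_one, map_one] at h2
      intro i _
      have := congrFun h2 i
      rwa [mulAct_diagonal] at this
    · rw [hker, hA, mulAct_mul, mulAct_mul, ← mulAct_mul (ofLists _ S.q), hq, mulAct_one]
      refine (congrArg (mulAct (ofLists D.rank S.p)) (funext fun i => ?_)).trans
        (map_one (mulAct (A := Fˣ) (ofLists D.rank S.p)))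
      rw [mulAct_diagonal]
      exact c.2 i (Set.mem_univ i)
  have hKcard : Nat.card K = (S.d.map fun d => Nat.gcd (Fintype.card F - 1) d).prod := by
    rw [Nat.card_congr
      { toFun := fun c i => (⟨c.1 i, c.2 i (Set.mem_univ i)⟩ : (powMonoidHom (e i) : Fˣ →* Fˣ).ker)
        invFun := fun c => (⟨fun i => (c i).1, fun i _ => (c i).2⟩ : K)
        left_inv := fun c => rfl
        right_inv := fun c => rfl }, Nat.card_pi]
    simp only [IsCyclic.card_powMonoidHom_ker, hcard]
    have hmap : S.d.map (fun d => Nat.gcd (Fintype.card F - 1) d) =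
        List.ofFn fun i : Fin D.rank => Nat.gcd (Fintype.card F - 1) (e i) := by
      refine List.ext_getElem (by simp [hlen]) fun n h1 h2 => ?_
      have hn : n < S.d.length := by simpa using h1
      simp [he, List.getD_eq_getElem?_getD, List.getElem?_eq_getElem hn]
    rw [hmap, List.prod_ofFn]
  rw [← hKcard, ← hK, G.full.diagonal_eq_range,
    ← Nat.card_congr (QuotientGroup.quotientKerEquivRange (T.hT F)).toEquiv, mul_comm,
    ← Subgroup.card_eq_card_quotient_mul_card_subgroup, Nat.card_pi, Finset.prod_const, hcard,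
    Finset.card_univ, Fintype.card_fin]

end Good

end Tab

end CfsgLib.Chev
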