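import Cfsg.Agent.Chev.TwistedAut
import Cfsg.Agent.Chev.FieldFix
import Cfsg.Agent.ChevAut.OutCount
import Cfsg.Prelude.Def_KGroupFacts

/-!
Field automorphisms of a twisted group and the order of its outer automorphism group.
-/

set_option autoImplicit false

namespace CfsgLib.Chev

open Cfsg.Lie Matrix
open scoped MatrixGroups

namespace Tab

variable {D : ChevalleyDatum}

namespace Good

variable {T : Tab D} (G : T.Good) {F : Type*} [Field F]
include G

theorem rootAct_glMap (σ : F →+* F) {g : GL D.Idx F} (hg : g ∈ D.monomialSubgroup F)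
    {π : Equiv.Perm (Fin D.nroots)} (h : G.full.RootAct g π) :
    glMap D σ g ∈ D.monomialSubgroup F ∧ G.full.RootAct (glMap D σ g) π := by
  obtain ⟨c, L, rfl⟩ := G.exists_word hg
  have e := G.rootAct_unique h (G.rootAct_mul (G.rootAct_hT c) (G.rootAct_nw L))
  subst e
  rw [map_mul, G.glMap_hT, G.glMap_nw]
  exact ⟨mul_mem (G.hT_mem_monomial _) (G.nw_mem_monomial _),
    G.rootAct_mul (G.rootAct_hT _) (G.rootAct_nw L)⟩

end Good

namespace Good.Twisted

variable {T : Tab D} {G : T.Good} {F : Type*} [Field F] {Φ : G.Graph F} (Z : Twisted Φ)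

/-- The group is stable under all field automorphisms. -/
def FieldStable : Prop :=
  ∀ (σ : F ≃+* F), ∀ g ∈ Z.G1, glMap D σ.toRingHom g ∈ Z.G1

variable (hσ : Z.FieldStable)
include hσ

/-- A field automorphism. -/
noncomputable def fieldAut (σ : F ≃+* F) : MulAut Z.G1 where
  toFun g := ⟨glMap D σ.toRingHom g, hσ σ g g.2⟩
  invFun g := ⟨glMap D σ.symm.toRingHom g, hσ σ.symm g g.2⟩
  left_inv _ := Subtype.ext (Units.ext (Matrix.ext fun _ _ => σ.symm_apply_apply _))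
  right_inv _ := Subtype.ext (Units.ext (Matrix.ext fun _ _ => σ.apply_symm_apply _))
  map_mul' _ _ := Subtype.ext (map_mul (glMap D σ.toRingHom) _ _)

theorem fieldAut_fieldAut (σ τ : F ≃+* F) (g : Z.G1) :
    Z.fieldAut hσ τ (Z.fieldAut hσ σ g) = Z.fieldAut hσ (σ.trans τ) g :=
  Subtype.ext (Units.ext (Matrix.ext fun _ _ => rfl))

theorem fieldAut_refl (g : Z.G1) : Z.fieldAut hσ (RingEquiv.refl F) g = g :=
  Subtype.ext (Units.ext (Matrix.ext fun _ _ => rfl))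

theorem fieldAut_symm_apply (σ : F ≃+* F) (g : Z.G1) :
    Z.fieldAut hσ σ (Z.fieldAut hσ σ.symm g) = g := by
  rw [Z.fieldAut_fieldAut, RingEquiv.symm_trans_self, Z.fieldAut_refl]

theorem fieldAut_fixBoth (σ : F ≃+* F) (L₀ : List (Fin Z.nJ)) :
    Z.FixBoth L₀ (Z.fieldAut hσ σ) := by
  have hpos : ∀ (τ : F ≃+* F) (g : Z.G1), (g : GL D.Idx F) ∈ Z.U1 →
      (Z.fieldAut hσ τ g : GL D.Idx F) ∈ Z.U1 := fun τ g hg => by
    rw [← Z.inf_pos]
    refine Subgroup.mem_inf.mpr ⟨(Z.fieldAut hσ τ g).2, ?_⟩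
    rw [G.posUnipotent_eq]
    show glMap D τ.toRingHom (g : GL D.Idx F) ∈ _
    refine G.glMap_US τ.toRingHom ?_
    rw [← G.posUnipotent_eq (F := F)]
    exact hg.2
  have hneg : ∀ (τ : F ≃+* F) (g : Z.G1), (g : GL D.Idx F) ∈ Z.V1 L₀ →
      (Z.fieldAut hσ τ g : GL D.Idx F) ∈ Z.V1 L₀ := fun τ g hg => by
    obtain ⟨hm, hact⟩ := G.rootAct_glMap τ.toRingHom (Z.nT_mono L₀) (Z.nT_act L₀)
    have hk : (glMap D τ.toRingHom (Z.nT L₀))⁻¹ * Z.nT L₀ ∈ Z.H0 := by
      rw [← Z.inf_diagonal]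
      refine Subgroup.mem_inf.mpr ⟨mul_mem (inv_mem (hσ τ _ (Z.nT_mem L₀))) (Z.nT_mem L₀), ?_⟩
      refine G.mem_diagonal_of_pos (mul_mem (inv_mem hm) (Z.nT_mono L₀))
        (G.rootAct_mul (G.rootAct_inv hm hact) (Z.nT_act L₀)) fun s hs => ?_
      rwa [inv_mul_cancel, Equiv.Perm.one_apply]
    rw [Z.mem_V1] at hg ⊢
    have hn := Z.nT_mem L₀
    have h1 := hpos τ ⟨_, mul_mem (mul_mem (inv_mem hn) g.2) hn⟩ hg
    change glMap D τ.toRingHom ((Z.nT L₀)⁻¹ * (g : GL D.Idx F) * Z.nT L₀) ∈ Z.U1 at h1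
    rw [map_mul, map_mul, map_inv] at h1
    have h2 := Z.H0_conj_U1 (inv_mem hk) h1
    show (Z.nT L₀)⁻¹ * glMap D τ.toRingHom (g : GL D.Idx F) * Z.nT L₀ ∈ Z.U1
    convert h2 using 1
    group
  refine ⟨fun g => ⟨fun h => ?_, hpos σ g⟩, fun g => ⟨fun h => ?_, hneg σ g⟩⟩
  · have := hpos σ.symm _ h
    rwa [Z.fieldAut_fieldAut, RingEquiv.self_trans_symm, Z.fieldAut_refl] at this
  · have := hneg σ.symm _ h
    rwa [Z.fieldAut_fieldAut, RingEquiv.self_trans_symm, Z.fieldAut_refl] at this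

omit hσ

theorem fixBoth_conj_H0 {L₀ : List (Fin Z.nJ)} (h₀ : Z.IsMinusOne L₀) {α : MulAut Z.G1}
    (hα : Z.FixBoth L₀ α) {h : Z.G1} (hh : (h : GL D.Idx F) ∈ Z.H0) :
    Z.FixBoth L₀ (MulAut.conj h * α) := by
  constructor <;> intro g
  · rw [← hα.pos g]
    simp only [MulAut.mul_apply, MulAut.conj_apply, Subgroup.coe_mul, Subgroup.coe_inv]
    refine ⟨fun hg => ?_, fun hg => Z.H0_conj_U1 hh hg⟩
    have := Z.H0_conj_U1 (inv_mem hh) hg
    convert this using 1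
    group
  · rw [← hα.neg g]
    simp only [MulAut.mul_apply, MulAut.conj_apply, Subgroup.coe_mul, Subgroup.coe_inv]
    refine ⟨fun hg => ?_, fun hg => Z.H0_conj_V1 h₀ hh hg⟩
    have := Z.H0_conj_V1 h₀ (inv_mem hh) hg
    convert this using 1
    group

theorem V1_le_G1 (L : List (Fin Z.nJ)) : Z.V1 L ≤ Z.G1 := fun v hv => by
  have := mul_mem (mul_mem (Z.nT_mem L) (Z.U1_le (Z.mem_V1.mp hv))) (inv_mem (Z.nT_mem L))
  convert this using 1
  group

theorem exists_sylow_of_card [Finite F] {p : ℕ} [Fact p.Prime] {a m : ℕ} (hU : Nat.card Z.U1 = p ^ a)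
    (hG : Nat.card Z.G1 = p ^ a * m) (hm : ¬ p ∣ m) :
    ∃ P : Sylow p Z.G1, (P : Subgroup Z.G1) = Z.U1.subgroupOf Z.G1 := by
  have hp := (Fact.out : p.Prime)
  refine ⟨Sylow.ofCard (Z.U1.subgroupOf Z.G1) ?_, rfl⟩
  rw [Nat.card_congr (Subgroup.subgroupOfEquivOfLe Z.U1_le).toEquiv, hU, hG,
    Nat.factorization_mul (pow_ne_zero _ hp.ne_zero) (fun e => hm (by rw [e]; exact dvd_zero p)),
    Finsupp.add_apply, Nat.factorization_eq_zero_of_not_dvd hm, add_zero, hp.factorization_pow,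
    Finsupp.single_eq_same]

include hσ

/-- The outer automorphisms are field automorphisms if the automorphisms fixing `U¹` and its
opposite are field and torus ones. -/
theorem card_out_field [Finite F] {L₀ : List (Fin Z.nJ)} (h₀ : Z.IsMinusOne L₀)
    (hX : Z.XNontrivial) {p : ℕ} [Fact p.Prime] {P : Sylow p Z.G1}
    (hP : (P : Subgroup Z.G1) = Z.U1.subgroupOf Z.G1)
    (hex : ∀ α : MulAut Z.G1, Z.FixBoth L₀ α →
      ∃ (σ : F ≃+* F) (g : Z.G1), ∀ x, α x = g * Z.fieldAut hσ σ x * g⁻¹)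
    (htriv : ∀ (σ : F ≃+* F) (h : Z.G1), (h : GL D.Idx F) ∈ Z.H0 →
      (∀ x, Z.fieldAut hσ σ x = h * x * h⁻¹) → σ = RingEquiv.refl F) :
    Nat.card (Cfsg.Out Z.G1) = Nat.card (F ≃+* F) := by
  have htriv' : ∀ (σ : F ≃+* F) (g : Z.G1), (∀ x, Z.fieldAut hσ σ x = g * x * g⁻¹) →
      σ = RingEquiv.refl F := by
    intro σ g h
    have hf := Z.fieldAut_fixBoth hσ σ L₀
    refine htriv σ g (Z.mem_H0_of_normalizes h₀ hX g.2 (fun u hu => ?_) fun u hu => ?_) h
    · have := (hf.pos ⟨u, Z.U1_le hu⟩).mpr hu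
      rw [h] at this
      exact this
    · have := (hf.neg ⟨u, Z.V1_le_G1 L₀ hu⟩).mpr hu
      rw [h] at this
      exact this
  refine (Nat.card_eq_of_bijective
    (fun σ : F ≃+* F => (QuotientGroup.mk (Z.fieldAut hσ σ) : Cfsg.Out Z.G1)) ⟨?_, ?_⟩).symm
  · intro σ τ e
    obtain ⟨g, hg⟩ := QuotientGroup.eq.mp e
    refine (RingEquiv.ext fun a => ?_).symm
    have hkey := htriv' (σ.symm.trans τ) (Z.fieldAut hσ σ g) fun x => by
      have h1 : Z.fieldAut hσ τ (Z.fieldAut hσ σ.symm x) =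
          Z.fieldAut hσ σ (g * Z.fieldAut hσ σ.symm x * g⁻¹) := by
        have := congrArg
          (fun f : MulAut Z.G1 => Z.fieldAut hσ σ (f (Z.fieldAut hσ σ.symm x))) hg
        simp only [MulAut.mul_apply, MulAut.conj_apply, MulAut.apply_inv_self] at this
        exact this.symm
      rw [← Z.fieldAut_fieldAut, h1, map_mul, map_mul, map_inv, Z.fieldAut_symm_apply]
    have := RingEquiv.congr_fun hkey (σ a)
    rwa [RingEquiv.trans_apply, RingEquiv.symm_apply_apply, RingEquiv.refl_apply] at this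
  · intro x
    obtain ⟨θ, rfl⟩ := QuotientGroup.mk_surjective x
    obtain ⟨g, α, hα, hθ⟩ := Z.exists_fixBoth h₀ hX hP θ
    obtain ⟨σ, c, hc⟩ := hex α hα
    refine ⟨σ, QuotientGroup.eq.mpr ⟨(Z.fieldAut hσ σ)⁻¹ (g * c), ?_⟩⟩
    refine MulEquiv.ext fun y => ?_
    simp only [MulAut.mul_apply, MulAut.conj_apply, hθ, hc, map_mul, map_inv,
      MulAut.inv_apply_self]
    group

end Good.Twisted

end Tab

end CfsgLib.Chev
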