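import Cfsg.Agent.Chev.D4TwCoord
import Mathlib.FieldTheory.Finite.Basic
import Mathlib.GroupTheory.Sylow
import Mathlib.Algebra.CharP.Two
import Mathlib.GroupTheory.GroupAction.ConjAct

/-!
The two classes of involutions of `³D₄(q)`, `q` even.
-/

set_option autoImplicit false
set_option linter.style.haveILetI false

namespace CfsgLib.Chev.D4Tw

open Cfsg.Lie Tab
open scoped MatrixGroups

variable {K : Type*} [Field K] [Fintype K]

/-- The root elements. -/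
local notation "X" => good_D4.full.x (F := K)

theorem pwTab : (([1] : List (Fin 4)).map Fin.val = [1]) ∧
    D4Data.tab.wordT [1] 19 = 18 ∧ D4Data.tab.wordT [1] 16 = 13 ∧ D4Data.tab.wordT [1] 15 = 12 ∧
    D4Data.tab.wordT [1] 18 = 19 ∧ D4Data.tab.wordT [1] 13 = 16 ∧ D4Data.tab.wordT [1] 12 = 15 ∧
    D4Data.tab.wordT [1] 20 = 20 ∧ D4Data.tab.wordT [1] 21 = 21 ∧ D4Data.tab.wordT [1] 17 = 17 ∧
    D4Data.tab.wordT [1] 22 = 23 ∧ D4Data.tab.wordT [1] 23 = 22 ∧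
    D4Data.tab.wordT [0, 2, 3] 14 = 22 ∧ D4Data.tab.wordT [0, 2, 3] 19 = 17 ∧
    D4Data.tab.wordT [0, 2, 3] 16 = 20 ∧ D4Data.tab.wordT [0, 2, 3] 15 = 21 ∧
    D4Data.tab.wordT [0, 2, 3] 20 = 16 ∧ D4Data.tab.wordT [0, 2, 3] 21 = 15 ∧
    D4Data.tab.wordT [0, 2, 3] 17 = 19 ∧ D4Data.tab.wordT [0, 2, 3] 22 = 14 ∧
    D4Data.tab.wordT [0, 2, 3] 23 = 23 := by
  decide +kernel

theorem chi_vals (c : Fin chevD4.rank → Kˣ) :
    (D4Data.tab.chi (F := K) 20 c =
      c (0 : Fin 4) * (c (2 : Fin 4))⁻¹ * c (3 : Fin 4)) ∧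
    D4Data.tab.chi (F := K) 23 c = c (1 : Fin 4) := by
  have hc : ∀ i : Fin 4, (D4Data.tab.cart i 20 = (![1, 0, -1, 1] : Fin 4 → ℤ) i) ∧
      (D4Data.tab.cart i 23 = (![0, 1, 0, 0] : Fin 4 → ℤ) i) := by decide +kernel
  constructor
  · show ∏ i : Fin 4, c i ^ D4Data.tab.cart i 20 = _
    simp only [Fin.prod_univ_four, (hc _).1]
    simp
  · show ∏ i : Fin 4, c i ^ D4Data.tab.cart i 23 = _
    simp only [Fin.prod_univ_four, (hc _).2]
    simp

namespace Ctx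

variable {q : ℕ} (C : Ctx K q)
include C

/-- Conjugacy inside the twisted group. -/
def Sim (C : Ctx K q) (g h : GL chevD4.Idx K) : Prop := ∃ k ∈ C.Z.G1, k * g * k⁻¹ = h

theorem sim_trans {g h k : GL chevD4.Idx K} (h1 : C.Sim g h) (h2 : C.Sim h k) : C.Sim g k := by
  obtain ⟨x, hx, rfl⟩ := h1
  obtain ⟨y, hy, rfl⟩ := h2
  exact ⟨y * x, mul_mem hy hx, by group⟩

theorem sim_of_eq {g h k : GL chevD4.Idx K} (hk : k ∈ C.Z.G1) (e : k * g = h * k) : C.Sim g h :=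
  ⟨k, hk, by rw [e, mul_inv_cancel_right]⟩

theorem sim_sq {g h : GL chevD4.Idx K} (h1 : C.Sim g h) (hg : g * g = 1) : h * h = 1 := by
  obtain ⟨x, -, rfl⟩ := h1
  rw [show x * g * x⁻¹ * (x * g * x⁻¹) = x * (g * g) * x⁻¹ by group, hg, mul_one, mul_inv_cancel]

theorem sim_symm {g h : GL chevD4.Idx K} (h1 : C.Sim g h) : C.Sim h g := by
  obtain ⟨x, hx, rfl⟩ := h1
  exact ⟨x⁻¹, inv_mem hx, by group⟩

theorem UC_mem {a e f : K} (ha : C.φ a = a) (he : C.φ e = e) (hf : C.φ f = f) (b c d : K) :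
    C.UC a b c d e f ∈ C.Z.G1 :=
  C.Z.U1_le (C.mem_U1.mpr ⟨_, _, _, _, _, _, ha, he, hf, rfl⟩)

/-- The index of the middle node. -/
def J0 (C : Ctx K q) : Fin C.Z.nJ := ⟨0, show 0 < 2 by omega⟩

/-- The index of the three outer nodes. -/
def J1 (C : Ctx K q) : Fin C.Z.nJ := ⟨1, show 1 < 2 by omega⟩

theorem getD_J0 : orbs.getD (C.J0 : ℕ) [] = [1] := rfl

theorem getD_J1 : orbs.getD (C.J1 : ℕ) [] = [0, 2, 3] := rfl

/-- Conjugation of a positive element by a Weyl element. -/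
theorem conj_P12 (J : Fin C.Z.nJ) : ∃ k : ℕ → K, (∀ r < 24, k r ≠ 0) ∧ ∀ v : Fin 12 → K,
    C.Z.n J * P12 v * (C.Z.n J)⁻¹ =
      X (D4Data.tab.wordT (orbs.getD J []) 14) (k 14 * v 0) *
      (X (D4Data.tab.wordT (orbs.getD J []) 18) (k 18 * v 1) *
      (X (D4Data.tab.wordT (orbs.getD J []) 13) (k 13 * v 2) *
      (X (D4Data.tab.wordT (orbs.getD J []) 12) (k 12 * v 3) *
      (X (D4Data.tab.wordT (orbs.getD J []) 19) (k 19 * v 4) *
      (X (D4Data.tab.wordT (orbs.getD J []) 16) (k 16 * v 5) *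
      (X (D4Data.tab.wordT (orbs.getD J []) 15) (k 15 * v 6) *
      (X (D4Data.tab.wordT (orbs.getD J []) 20) (k 20 * v 7) *
      (X (D4Data.tab.wordT (orbs.getD J []) 21) (k 21 * v 8) *
      (X (D4Data.tab.wordT (orbs.getD J []) 17) (k 17 * v 9) *
      (X (D4Data.tab.wordT (orbs.getD J []) 22) (k 22 * v 10) *
       X (D4Data.tab.wordT (orbs.getD J []) 23) (k 23 * v 11))))))))))) := by
  obtain ⟨c, hc⟩ := C.Z.n_act J
  let k : ℕ → K := fun r => if h : r < 24 then (c ⟨r, h⟩ : K) else 0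
  refine ⟨k, fun r hr => by simp only [k, dif_pos hr]; exact Units.ne_zero _, fun v => ?_⟩
  have key : ∀ r, r < 24 → ∀ t : K, C.Z.n J * X r t * (C.Z.n J)⁻¹ =
      X (D4Data.tab.wordT (orbs.getD J []) r) (k r * t) := fun r hr t => by
    rw [show k r = (c ⟨r, hr⟩ : K) from dif_pos hr]
    refine ((hc ⟨r, hr⟩).2.2.2 t).trans ?_
    congr 1
    rw [good_D4.pw_apply]
    congr 1
    exact C.A.spec.map_word J
  simp only [P12]
  simp only [← MulAut.conj_apply, map_mul]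
  simp only [MulAut.conj_apply]
  simp only [key 14 (by norm_num), key 18 (by norm_num), key 13 (by norm_num), key 12 (by norm_num),
    key 19 (by norm_num), key 16 (by norm_num), key 15 (by norm_num), key 20 (by norm_num),
    key 21 (by norm_num), key 17 (by norm_num), key 22 (by norm_num), key 23 (by norm_num)]

/-- The coordinates of an element of `U` obtained by conjugation. -/
theorem exists_of_conj (J : Fin C.Z.nJ) {g : GL chevD4.Idx K} (hg : g ∈ C.Z.U1) {w : Fin 12 → K}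
    (h : C.Z.n J * g * (C.Z.n J)⁻¹ = P12 w) :
    ∃ a b c d e f, C.φ a = a ∧ C.φ e = e ∧ C.φ f = f ∧ a = w 0 ∧ b = w 1 ∧ c = w 4 ∧ d = w 7 ∧
      e = w 10 ∧ f = w 11 ∧ C.Sim g (C.UC a b c d e f) := by
  have hmem : P12 w ∈ C.Z.U1 := by
    refine Subgroup.mem_inf.mpr ⟨?_, by rw [good_D4.posUnipotent_eq]; exact P12_mem w⟩
    rw [← h]
    exact C.Z.fix_conj (C.Z.n_fix J) (Subgroup.mem_inf.mp hg).1
  obtain ⟨a, b, c, d, e, f, ha, he, hf, e'⟩ := C.mem_U1.mp hmem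
  have e'' := P12_inj e'
  exact ⟨a, b, c, d, e, f, ha, he, hf, (congrFun e'' 0).symm, (congrFun e'' 1).symm,
    (congrFun e'' 4).symm, (congrFun e'' 7).symm, (congrFun e'' 10).symm, (congrFun e'' 11).symm,
    C.Z.n J, C.Z.n_mem J, h.trans e'⟩

variable [CharP K 2]

theorem two_eq : (2 : K) = 0 := CharP.cast_eq_zero K 2

theorem exists_sqrt (t : K) : ∃ s : K, s * s = t := by
  obtain ⟨s, hs⟩ := FiniteField.isSquare_of_char_two (ringChar.eq K 2) t
  exact ⟨s, hs.symm⟩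

theorem φ_one : C.φ 1 = 1 := map_one _

/-- The long root involution. -/
def iL (C : Ctx K q) : GL chevD4.Idx K := C.UC 0 0 0 0 0 1

/-- The short root involution. -/
def iS (C : Ctx K q) : GL chevD4.Idx K := C.UC 0 0 0 1 0 0

/-- Scaling by the torus. -/
theorem sim_torus {c : Fin chevD4.rank → Kˣ} (hc : c ∈ C.A.Cσ) {v : Fin 12 → K} :
    C.Sim (P12 v) (P12 ![D4Data.tab.chi (F := K) 14 c * v 0, D4Data.tab.chi (F := K) 18 c * v 1,
      D4Data.tab.chi (F := K) 13 c * v 2, D4Data.tab.chi (F := K) 12 c * v 3,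
      D4Data.tab.chi (F := K) 19 c * v 4, D4Data.tab.chi (F := K) 16 c * v 5,
      D4Data.tab.chi (F := K) 15 c * v 6, D4Data.tab.chi (F := K) 20 c * v 7,
      D4Data.tab.chi (F := K) 21 c * v 8, D4Data.tab.chi (F := K) 17 c * v 9,
      D4Data.tab.chi (F := K) 22 c * v 10, D4Data.tab.chi (F := K) 23 c * v 11]) := by
  refine ⟨D4Data.tab.hT K c, C.Z.H0_le (C.A.hT_mem_torus hc), ?_⟩
  have key : ∀ r, r < 24 → ∀ t : K, D4Data.tab.hT K c * X r t * (D4Data.tab.hT K c)⁻¹ =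
      X r (D4Data.tab.chi (F := K) r c * t) := fun r hr t => good_D4.full.hT_conj hr c t
  simp only [P12]
  simp only [← MulAut.conj_apply, map_mul]
  simp only [MulAut.conj_apply]
  simp only [key 14 (by norm_num), key 18 (by norm_num), key 13 (by norm_num), key 12 (by norm_num),
    key 19 (by norm_num), key 16 (by norm_num), key 15 (by norm_num), key 20 (by norm_num),
    key 21 (by norm_num), key 17 (by norm_num), key 22 (by norm_num), key 23 (by norm_num)]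
  simp

theorem scale_f {f : K} (hf : C.φ f = f) (hf0 : f ≠ 0) : C.Sim (C.UC 0 0 0 0 0 f) C.iL := by
  let c : Fin 4 → Kˣ := ![1, (Units.mk0 f hf0)⁻¹, 1, 1]
  have hc : c ∈ C.A.Cσ := C.mem_Cσ.mpr fun i => by
    have hfq : (Units.mk0 f hf0) ^ q = Units.mk0 f hf0 :=
      Units.ext (by simp only [Units.val_pow_eq_pow_val, Units.val_mk0, ← C.hφ, hf])
    fin_cases i <;> simp [c, hfq]
  have h := C.sim_torus hc (v := ![0, 0, 0, 0, 0, 0, 0, 0, 0, 0, 0, f])
  unfold iL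
  convert h using 1
  · simp [UC]
  · simp [UC, (chi_vals (K := K) c).2, c, hf0]

theorem scale_d {d : K} (hd : d ≠ 0) : C.Sim (C.UC 0 0 0 d 0 0) C.iS := by
  obtain ⟨u, hu⟩ := C.exists_sqrt d⁻¹
  have hu0 : u ≠ 0 := fun h => inv_ne_zero hd (by rw [← hu, h, mul_zero])
  set t : Kˣ := Units.mk0 (u * C.φ u) (mul_ne_zero hu0 ((map_ne_zero C.φ).mpr hu0))
  let c : Fin 4 → Kˣ := ![t, 1, t ^ q, (t ^ q) ^ q]
  have hc : c ∈ C.A.Cσ := C.mem_Cσ.mpr fun i => by
    fin_cases i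
    · rfl
    · exact (one_pow q).symm
    · rfl
    · exact (C.units_pow_qqq t).symm
  obtain ⟨k, hk, e⟩ := C.sim_torus hc (v := ![0, 0, 0, 0, 0, 0, 0, d, C.φ d, -C.φ (C.φ d), 0, 0])
  have hchi : ((D4Data.tab.chi (F := K) 20 c : Kˣ) : K) * d = 1 := by
    have hu1 : C.φ u ≠ 0 := (map_ne_zero C.φ).mpr hu0
    have hu2 : C.φ (C.φ u) ≠ 0 := (map_ne_zero C.φ).mpr hu1
    rw [(chi_vals (K := K) c).1]
    simp only [c, t, Matrix.cons_val_zero, Matrix.cons_val, Units.val_mul, Units.val_pow_eq_pow_val,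
      Units.val_inv_eq_inv_val, Units.val_mk0, ← C.hφ, map_mul, C.φ_cube]
    field_simp
    rw [sq, hu, inv_mul_cancel₀ hd]
  have hmem : k * C.UC 0 0 0 d 0 0 * k⁻¹ ∈ C.Z.U1 := by
    have h0 : C.UC 0 0 0 d 0 0 = P12 ![0, 0, 0, 0, 0, 0, 0, d, C.φ d, -C.φ (C.φ d), 0, 0] := by
      simp [UC]
    refine Subgroup.mem_inf.mpr ⟨C.Z.fix_conj (C.Z.le_fix hk)
      (Subgroup.mem_inf.mp (C.UC_mem_fix (map_zero _) (map_zero _) (map_zero _) 0 0 d)).1, ?_⟩
    rw [h0, e, good_D4.posUnipotent_eq]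
    exact P12_mem _
  obtain ⟨a', b', c', d', e', f', ha', he', hf', e''⟩ := C.mem_U1.mp hmem
  refine ⟨k, hk, e''.trans ?_⟩
  have h0 : C.UC 0 0 0 d 0 0 = P12 ![0, 0, 0, 0, 0, 0, 0, d, C.φ d, -C.φ (C.φ d), 0, 0] := by
    simp [UC]
  rw [h0, e] at e''
  have e3 := P12_inj e''
  have z0 : a' = 0 := (congrFun e3 0).symm.trans (mul_zero _)
  have z1 : b' = 0 := (congrFun e3 1).symm.trans (mul_zero _)
  have z4 : c' = 0 := (congrFun e3 4).symm.trans (mul_zero _)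
  have z7 : d' = 1 := (congrFun e3 7).symm.trans hchi
  have z10 : e' = 0 := (congrFun e3 10).symm.trans (mul_zero _)
  have z11 : f' = 0 := (congrFun e3 11).symm.trans (mul_zero _)
  rw [z0, z1, z4, z7, z10, z11]
  rfl

/-- `d ≠ 0` and no lower coordinates. -/
theorem case_d {d e f : K} (he : C.φ e = e) (hf : C.φ f = f) (hd : d ≠ 0) :
    C.Sim (C.UC 0 0 0 d e f) C.iS := by
  have h2 := C.two_eq
  set x := C.φ (C.φ (e / d))
  have hx : C.φ x = e / d := by simp only [x, C.φ_cube]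
  have hd1 : C.φ d ≠ 0 := (map_ne_zero C.φ).mpr hd
  have hd2 : C.φ (C.φ d) ≠ 0 := (map_ne_zero C.φ).mpr hd1
  have k1 : e / d * d = e := div_mul_cancel₀ e hd
  have k2 : C.φ (e / d) * C.φ d = e := by rw [← map_mul, k1, he]
  have k3 : x * C.φ (C.φ d) = e := by simp only [x, ← map_mul, k1, he]
  have h1 : C.Sim (C.UC 0 0 0 d e f) (C.UC 0 0 0 d 0 f) := by
    refine C.sim_of_eq (k := C.UC 0 x 0 0 0 0)
      (C.UC_mem (map_zero _) (map_zero _) (map_zero _) _ _ _) ?_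
    rw [C.UC_mul (map_zero _), C.UC_mul (map_zero _)]
    simp only [mulD, mulE, mulF, hx, map_zero, zero_mul, mul_zero, add_zero, zero_add, sub_zero,
      neg_zero]
    congr 1
    linear_combination k1 + k2 + k3 + (2 * e) * h2
  refine C.sim_trans h1 (C.sim_trans (?_ : C.Sim _ (C.UC 0 0 0 d 0 0)) (C.scale_d hd))
  set y := C.φ (C.φ (f / d))
  have hy : C.φ y = f / d := by simp only [y, C.φ_cube]
  have l1 : f / d * d = f := div_mul_cancel₀ f hd
  have l2 : C.φ (f / d) * C.φ d = f := by rw [← map_mul, l1, hf]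
  have l3 : y * C.φ (C.φ d) = f := by simp only [y, ← map_mul, l1, hf]
  refine C.sim_of_eq (k := C.UC 0 0 y 0 0 0)
    (C.UC_mem (map_zero _) (map_zero _) (map_zero _) _ _ _) ?_
  rw [C.UC_mul (map_zero _), C.UC_mul (map_zero _)]
  simp only [mulD, mulE, mulF, hy, map_zero, zero_mul, mul_zero, add_zero, zero_add, sub_zero,
    neg_zero]
  congr 1
  linear_combination l1 + l2 + l3 + (2 * f) * h2

/-- A single coordinate `b`. -/
theorem case_B {b : K} (hb : b ≠ 0) : C.Sim (C.UC 0 b 0 0 0 0) C.iS := by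
  obtain ⟨k, hk0, hk⟩ := C.conj_P12 C.J0
  obtain ⟨-, t19, t16, t15, t18, t13, t12, t20, t21, t17, t22, t23, -⟩ := pwTab
  have hU : ∀ b c : K, C.UC 0 b c 0 0 0 ∈ C.Z.U1 := fun b c =>
    C.mem_U1.mpr ⟨_, _, _, _, _, _, map_zero _, map_zero _, map_zero _, rfl⟩
  have e1 : C.Z.n C.J0 * C.UC 0 b 0 0 0 0 * (C.Z.n C.J0)⁻¹ =
      P12 ![0, 0, 0, 0, k 18 * b, k 13 * C.φ b, k 12 * C.φ (C.φ b), 0, 0, 0, 0, 0] := by
    rw [UC, hk, C.getD_J0]
    simp [P12, t18, t13, t12, good_D4.full.x_zero]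
  obtain ⟨a₁, b₁, c₁, d₁, e₁, f₁, -, -, -, ha, hb', hc, hd, he, hf, hs⟩ := C.exists_of_conj _ (hU b 0) e1
  simp at ha hb' hc hd he hf
  subst ha hb' hd he hf
  have hc0 : c₁ ≠ 0 := by rw [hc]; exact mul_ne_zero (hk0 18 (by norm_num)) hb
  refine C.sim_trans hs ?_
  obtain ⟨l, hl0, hl⟩ := C.conj_P12 C.J1
  obtain ⟨-, -, -, -, -, -, -, -, -, -, -, -, u14, u19, u16, u15, -⟩ := pwTab
  have e2 : C.Z.n C.J1 * C.UC 0 0 c₁ 0 0 0 * (C.Z.n C.J1)⁻¹ =
      P12 ![0, 0, 0, 0, 0, 0, 0, l 16 * -C.φ c₁, l 15 * -C.φ (C.φ c₁), l 19 * c₁, 0, 0] := by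
    rw [UC, hl]
    refine mul_right_cancel (b := 1) ?_
    simp only [P12, mul_assoc, Matrix.cons_val_zero, Matrix.cons_val_one, Matrix.cons_val,
      C.getD_J1, u19, u16, u15, map_zero,
      neg_zero, mul_zero, good_D4.full.x_zero, one_mul, mul_one]
    rw [← mul_one (X 21 _)]
    simp only [mul_assoc, s_17_20, s_17_21]
    simp
  obtain ⟨a₂, b₂, c₂, d₂, e₂, f₂, -, he2, hf2, ha, hb', hc', hd, he, hf, hs⟩ :=
    C.exists_of_conj _ (hU 0 c₁) e2
  simp at ha hb' hc' hd he hf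
  subst ha hb' hc' he hf
  refine C.sim_trans hs (C.case_d (map_zero _) (map_zero _) ?_)
  rw [hd]
  exact neg_ne_zero.mpr (mul_ne_zero (hl0 16 (by norm_num)) ((map_ne_zero C.φ).mpr hc0))

theorem φ_sqrt {z w : K} (h : z * z = w) (hw : C.φ w = w) : C.φ z = z := by
  have e : (C.φ z - z) * (C.φ z - z) = 0 := by
    have : C.φ z * C.φ z = w := by rw [← map_mul, h, hw]
    linear_combination this + h + (w - C.φ z * z) * C.two_eq
  exact sub_eq_zero.mp (mul_self_eq_zero.mp e)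

/-- `b ≠ 0`, no `a`. -/
theorem case_b {b c d e f : K} (he : C.φ e = e) (hf : C.φ f = f) (hb : b ≠ 0)
    (h : C.UC 0 b c d e f * C.UC 0 b c d e f = 1) : C.Sim (C.UC 0 b c d e f) C.iS := by
  have h2 := C.two_eq
  have hb1 : C.φ b ≠ 0 := (map_ne_zero C.φ).mpr hb
  have hb2 : C.φ (C.φ b) ≠ 0 := (map_ne_zero C.φ).mpr hb1
  rw [C.UC_mul (map_zero _), ← C.UC_zero] at h
  obtain ⟨-, -, -, hD, -, -⟩ := C.UC_inj h
  simp only [mulD] at hD
  -- `c / b` is fixed
  set x := c / b with hxdef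
  have hxb : x * b = c := div_mul_cancel₀ c hb
  have hx : C.φ x = x := by
    have h1 : C.φ (C.φ x) = x := by
      have : C.φ (C.φ x) * (b * C.φ (C.φ b)) = x * (b * C.φ (C.φ b)) := by
        have e1 : C.φ (C.φ x) * C.φ (C.φ b) = C.φ (C.φ c) := by rw [← map_mul, ← map_mul, hxb]
        linear_combination b * e1 - C.φ (C.φ b) * hxb - hD + (d - C.φ (C.φ b) * c) * h2
      exact mul_right_cancel₀ (mul_ne_zero hb hb2) this
    calc C.φ x = C.φ (C.φ (C.φ x)) := by rw [h1]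
      _ = x := C.φ_cube x
  obtain ⟨d', e', f', he', hf', h1⟩ : ∃ d' e' f', C.φ e' = e' ∧ C.φ f' = f' ∧
      C.Sim (C.UC 0 b c d e f) (C.UC 0 b 0 d' e' f') := by
    have hk := C.UC_mem (e := 0) (f := 0) hx (map_zero _) (map_zero _) 0 0 0
    have hmem : C.UC x 0 0 0 0 0 * C.UC 0 b c d e f * (C.UC x 0 0 0 0 0)⁻¹ ∈ C.Z.U1 :=
      mul_mem (mul_mem (C.mem_U1.mpr ⟨_, _, _, _, _, _, hx, map_zero _, map_zero _, rfl⟩)
        (C.mem_U1.mpr ⟨_, _, _, _, _, _, map_zero _, he, hf, rfl⟩))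
        (inv_mem (C.mem_U1.mpr ⟨_, _, _, _, _, _, hx, map_zero _, map_zero _, rfl⟩))
    obtain ⟨a₁, b₁, c₁, d₁, e₁, f₁, ha₁, he₁, hf₁, e1⟩ := C.mem_U1.mp hmem
    have e2 := eq_mul_inv_iff_mul_eq.mp e1.symm
    rw [C.UC_mul (map_zero _), C.UC_mul hx] at e2
    obtain ⟨q1, q2, q3, -, -, -⟩ := C.UC_inj e2
    have z1 : a₁ = 0 := by linear_combination q1
    have z2 : b₁ = b := by linear_combination q2
    have z3 : c₁ = 0 := by
      linear_combination q3 + x * z2 + hxb + c * h2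
    exact ⟨d₁, e₁, f₁, he₁, hf₁, C.UC x 0 0 0 0 0, hk, by rw [e1, z1, z2, z3]⟩
  have hsq := C.sim_sq h1 (by rw [C.UC_mul (map_zero _)]; exact h.trans C.UC_zero)
  rw [C.UC_mul (map_zero _), ← C.UC_zero] at hsq
  obtain ⟨-, -, -, -, hE, -⟩ := C.UC_inj hsq
  simp only [mulE, map_zero, mul_zero, zero_mul, sub_zero, add_zero, zero_sub] at hE
  -- kill `d`
  set w := d' / (b * C.φ (C.φ b)) with hwdef
  have hwd : w * (b * C.φ (C.φ b)) = d' := div_mul_cancel₀ d' (mul_ne_zero hb hb2)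
  have htr : w + C.φ w + C.φ (C.φ w) = 0 := by
    have e1 : C.φ w * (C.φ b * b) = C.φ d' := by
      have := congrArg C.φ hwd
      simpa [map_mul, C.φ_cube] using this
    have e2 : C.φ (C.φ w) * (C.φ (C.φ b) * C.φ b) = C.φ (C.φ d') := by
      have := congrArg C.φ e1
      simpa [map_mul, C.φ_cube] using this
    have : (w + C.φ w + C.φ (C.φ w)) * (b * C.φ b * C.φ (C.φ b)) = 0 := by
      linear_combination C.φ b * hwd + C.φ (C.φ b) * e1 + b * e2 - hE + e' * h2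
    exact (mul_eq_zero.mp this).resolve_right (mul_ne_zero (mul_ne_zero hb hb1) hb2)
  obtain ⟨e'', f'', he'', hf'', h2'⟩ : ∃ e'' f'', C.φ e'' = e'' ∧ C.φ f'' = f'' ∧
      C.Sim (C.UC 0 b 0 d' e' f') (C.UC 0 b 0 0 e'' f'') := by
    set y := C.φ (C.φ w) * b
    have hky : C.UC 0 0 y 0 0 0 ∈ C.Z.U1 :=
      C.mem_U1.mpr ⟨_, _, _, _, _, _, map_zero _, map_zero _, map_zero _, rfl⟩
    have hmem := mul_mem (mul_mem hky (C.mem_U1.mpr ⟨_, _, _, _, _, _, map_zero _, he', hf',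
      rfl⟩ : C.UC 0 b 0 d' e' f' ∈ C.Z.U1)) (inv_mem hky)
    obtain ⟨a₁, b₁, c₁, d₁, e₁, f₁, ha₁, he₁, hf₁, e1⟩ := C.mem_U1.mp hmem
    have e2 := eq_mul_inv_iff_mul_eq.mp e1.symm
    rw [C.UC_mul (map_zero _), C.UC_mul (map_zero _)] at e2
    obtain ⟨q1, q2, q3, q4, -, -⟩ := C.UC_inj e2
    have z1 : a₁ = 0 := by linear_combination q1
    have z2 : b₁ = b := by linear_combination q2
    have z3 : c₁ = 0 := by linear_combination q3
    have hy : C.φ (C.φ y) = C.φ w * C.φ (C.φ b) := by simp only [y, map_mul, C.φ_cube]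
    simp only [mulD, z2, z3, map_zero, mul_zero, zero_mul, sub_zero, add_zero, zero_add, hy, y]
      at q4
    have hw2 : C.φ (C.φ w) = -w - C.φ w := by linear_combination htr
    have z4 : d₁ = 0 := by
      linear_combination q4 - hwd - (C.φ (C.φ b) * b) * hw2 +
        (w * (b * C.φ (C.φ b))) * h2
    exact ⟨e₁, f₁, he₁, hf₁, C.UC 0 0 y 0 0 0, C.Z.U1_le hky, by rw [e1, z1, z2, z3, z4]⟩
  refine C.sim_trans h1 (C.sim_trans h2' (?_))
  -- kill `f`, then `e`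
  set N := b * C.φ b * C.φ (C.φ b) with hN
  have hN0 : N ≠ 0 := mul_ne_zero (mul_ne_zero hb hb1) hb2
  have hNf : C.φ N = N := by simp only [hN, map_mul, C.φ_cube]; ring
  obtain ⟨z, hz⟩ := C.exists_sqrt (f'' / N)
  have hzf : C.φ z = z := C.φ_sqrt hz (by rw [map_div₀, hf'', hNf])
  have hzN : z * z * N = f'' := by rw [hz, div_mul_cancel₀ f'' hN0]
  have h3 : C.Sim (C.UC 0 b 0 0 e'' f'') (C.UC 0 b 0 0 (e'' + z * N) 0) := by
    refine C.sim_of_eq (k := C.UC 0 0 (z * b) 0 0 0)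
      (C.UC_mem (map_zero _) (map_zero _) (map_zero _) _ _ _) ?_
    rw [C.UC_mul (map_zero _), C.UC_mul (map_zero _)]
    simp only [mulD, mulE, mulF, map_mul, hzf, map_zero, zero_mul, mul_zero, add_zero, zero_add,
      sub_zero, neg_zero]
    congr 1
    · linear_combination (-(z * b * C.φ (C.φ b))) * h2
    · rw [hN]; linear_combination (z * (b * C.φ b * C.φ (C.φ b))) * h2
    · rw [hN] at hzN
      linear_combination -hzN + (2 * (z * z * (b * C.φ b * C.φ (C.φ b)))) * h2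
  have he3 : C.φ (e'' + z * N) = e'' + z * N := by rw [map_add, map_mul, he'', hzf, hNf]
  refine C.sim_trans h3 (C.sim_trans (?_ : C.Sim _ (C.UC 0 b 0 0 0 0)) (C.case_B hb))
  set E := e'' + z * N
  refine C.sim_of_eq (k := C.UC 0 0 0 (E / C.φ b) 0 0)
    (C.UC_mem (map_zero _) (map_zero _) (map_zero _) _ _ _) ?_
  rw [C.UC_mul (map_zero _), C.UC_mul (map_zero _)]
  have k1 : C.φ b * (E / C.φ b) = E := mul_div_cancel₀ E hb1
  have k2 : C.φ (C.φ b) * C.φ (E / C.φ b) = E := by rw [← map_mul, k1, he3]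
  have k3 : b * C.φ (C.φ (E / C.φ b)) = E := by
    have := congrArg (fun t => C.φ (C.φ t)) k1
    simpa [map_mul, C.φ_cube, he3] using this
  simp only [mulD, mulE, mulF, map_zero, zero_mul, mul_zero, add_zero, zero_add, sub_zero,
    neg_zero]
  congr 1 <;> first
    | ring1
    | linear_combination -k1 - k2 - k3 - E * h2
    | linear_combination k1 + k2 + k3 - E * h2

/-- `c ≠ 0` and no lower coordinates. -/
theorem case_c {c d e f : K} (he : C.φ e = e) (hf : C.φ f = f) (hc : c ≠ 0)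
    (h : C.UC 0 0 c d e f * C.UC 0 0 c d e f = 1) : C.Sim (C.UC 0 0 c d e f) C.iS := by
  obtain ⟨k, hk0, hk⟩ := C.conj_P12 C.J0
  obtain ⟨-, t19, t16, t15, t18, t13, t12, t20, t21, t17, t22, t23, -⟩ := pwTab
  have e1 : C.Z.n C.J0 * C.UC 0 0 c d e f * (C.Z.n C.J0)⁻¹ =
      P12 ![0, k 19 * c, k 16 * -C.φ c, k 15 * -C.φ (C.φ c), 0, 0, 0, k 20 * d, k 21 * C.φ d,
        k 17 * -C.φ (C.φ d), k 23 * f, k 22 * e] := by
    rw [UC, hk]
    refine mul_right_cancel (b := 1) ?_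
    simp only [P12, mul_assoc, Matrix.cons_val_zero, Matrix.cons_val_one, Matrix.cons_val,
      C.getD_J0, t19, t16, t15, t20, t21, t17,
      t22, t23, map_zero, neg_zero, mul_zero, good_D4.full.x_zero, one_mul]
    simp only [s_23_22]
  obtain ⟨a₁, b₁, c₁, d₁, e₁, f₁, -, he₁, hf₁, ha, hb', hc', hd, hee, hff, hs⟩ :=
    C.exists_of_conj _ (C.mem_U1.mpr ⟨_, _, _, _, _, _, map_zero _, he, hf, rfl⟩) e1
  simp at ha hb' hc'
  subst ha hc'
  refine C.sim_trans hs (C.case_b he₁ hf₁ ?_ (C.sim_sq hs h))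
  rw [hb']
  exact mul_ne_zero (hk0 19 (by norm_num)) hc

/-- The classification of the involutions of `U`. -/
theorem classify {a b c d e f : K} (ha : C.φ a = a) (he : C.φ e = e) (hf : C.φ f = f)
    (h1 : C.UC a b c d e f ≠ 1) (h : C.UC a b c d e f * C.UC a b c d e f = 1) :
    C.Sim (C.UC a b c d e f) C.iL ∨ C.Sim (C.UC a b c d e f) C.iS := by
  have h2 := C.two_eq
  have hsq := h
  rw [C.UC_mul ha, ← C.UC_zero] at hsq
  obtain ⟨-, -, hC, -, -, -⟩ := C.UC_inj hsq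
  have hab : a * b = 0 := by linear_combination -hC + c * h2
  by_cases ha0 : a = 0
  · subst ha0
    by_cases hb : b = 0
    · subst hb
      by_cases hc : c = 0
      · subst hc
        by_cases hd : d = 0
        · subst hd
          left
          by_cases he0 : e = 0
          · subst he0
            exact C.scale_f hf fun hf0 => h1 (by rw [hf0, C.UC_zero])
          · have hx : C.φ (f / e) = f / e := by rw [map_div₀, hf, he]
            refine C.sim_trans (?_ : C.Sim _ (C.UC 0 0 0 0 e 0)) ?_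
            · refine C.sim_of_eq (k := C.UC (f / e) 0 0 0 0 0)
                (C.UC_mem hx (map_zero _) (map_zero _) _ _ _) ?_
              rw [C.UC_mul (map_zero _), C.UC_mul hx]
              simp only [mulD, mulE, mulF, map_zero, zero_mul, mul_zero, add_zero, zero_add,
                sub_zero, neg_zero]
              congr 1
              have : f / e * e = f := div_mul_cancel₀ f he0
              linear_combination this + f * h2
            · obtain ⟨k, hk0, hk⟩ := C.conj_P12 C.J0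
              obtain ⟨-, t19, t16, t15, t18, t13, t12, t20, t21, t17, t22, t23, -⟩ := pwTab
              have e1 : C.Z.n C.J0 * C.UC 0 0 0 0 e 0 *
                  (C.Z.n C.J0)⁻¹ =
                  P12 ![0, 0, 0, 0, 0, 0, 0, 0, 0, 0, 0, k 22 * e] := by
                rw [UC, hk, C.getD_J0]
                simp [P12, t22,
                  good_D4.full.x_zero]
              obtain ⟨a₁, b₁, c₁, d₁, e₁, f₁, -, -, hf₁, q0, q1, q4, q7, q10, q11, hs⟩ :=
                C.exists_of_conj _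
                  (C.mem_U1.mpr ⟨_, _, _, _, _, _, map_zero _, he, map_zero _, rfl⟩) e1
              simp at q0 q1 q4 q7 q10 q11
              subst q0 q1 q4 q7 q10
              exact C.sim_trans hs (C.scale_f hf₁
                (by rw [q11]; exact mul_ne_zero (hk0 22 (by norm_num)) he0))
        · exact Or.inr (C.case_d he hf hd)
      · exact Or.inr (C.case_c he hf hc h)
    · exact Or.inr (C.case_b he hf hb h)
  · have hb : b = 0 := (mul_eq_zero.mp hab).resolve_left ha0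
    subst hb
    set x := c / a
    have hxa : x * a = c := div_mul_cancel₀ c ha0
    obtain ⟨d₁, e₁, f₁, he₁, hf₁, h1'⟩ : ∃ d₁ e₁ f₁, C.φ e₁ = e₁ ∧ C.φ f₁ = f₁ ∧
        C.Sim (C.UC a 0 c d e f) (C.UC a 0 0 d₁ e₁ f₁) := by
      have hk : C.UC 0 x 0 0 0 0 ∈ C.Z.U1 :=
        C.mem_U1.mpr ⟨_, _, _, _, _, _, map_zero _, map_zero _, map_zero _, rfl⟩
      have hmem := mul_mem (mul_mem hk (C.mem_U1.mpr ⟨_, _, _, _, _, _, ha, he, hf, rfl⟩ :
        C.UC a 0 c d e f ∈ C.Z.U1)) (inv_mem hk)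
      obtain ⟨a₁, b₁, c₁, d₁, e₁, f₁, ha₁, he₁, hf₁, e1⟩ := C.mem_U1.mp hmem
      have e2 := eq_mul_inv_iff_mul_eq.mp e1.symm
      rw [C.UC_mul ha, C.UC_mul (map_zero _)] at e2
      obtain ⟨q1, q2, q3, -, -, -⟩ := C.UC_inj e2
      have z1 : a₁ = a := by linear_combination q1
      have z2 : b₁ = 0 := by linear_combination q2
      have z3 : c₁ = 0 := by linear_combination q3 - hxa
      exact ⟨d₁, e₁, f₁, he₁, hf₁, C.UC 0 x 0 0 0 0, C.Z.U1_le hk, by rw [e1, z1, z2, z3]⟩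
    have hsq1 := C.sim_sq h1' h
    rw [C.UC_mul ha, ← C.UC_zero] at hsq1
    obtain ⟨-, -, -, -, -, hF⟩ := C.UC_inj hsq1
    simp only [mulF, map_zero, zero_mul, mul_zero, add_zero, zero_add, sub_zero, neg_zero] at hF
    have he0 : e₁ = 0 := by
      refine (mul_eq_zero.mp (show a * e₁ = 0 by linear_combination -hF + f₁ * h2)).resolve_left ha0
    subst he0
    have hy : C.φ (f₁ / a) = f₁ / a := by rw [map_div₀, hf₁, ha]
    have h3 : C.Sim (C.UC a 0 0 d₁ 0 f₁) (C.UC a 0 0 d₁ 0 0) := by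
      refine C.sim_of_eq (k := C.UC 0 0 0 0 (f₁ / a) 0)
        (C.UC_mem (map_zero _) hy (map_zero _) _ _ _) ?_
      rw [C.UC_mul ha, C.UC_mul (map_zero _)]
      simp only [mulD, mulE, mulF, map_zero, zero_mul, mul_zero, add_zero, zero_add, sub_zero,
        neg_zero]
      congr 1
      have : a * (f₁ / a) = f₁ := mul_div_cancel₀ f₁ ha0
      linear_combination -this
    obtain ⟨k, hk0, hk⟩ := C.conj_P12 C.J1
    obtain ⟨-, -, -, -, -, -, -, -, -, -, -, -, u14, -, -, -, u20, u21, u17, -, -⟩ := pwTab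
    have e1 : C.Z.n C.J1 * C.UC a 0 0 d₁ 0 0 * (C.Z.n C.J1)⁻¹ =
        P12 ![0, 0, 0, 0, k 17 * -C.φ (C.φ d₁), k 20 * d₁, k 21 * C.φ d₁, 0, 0, 0, k 14 * a, 0] := by
      rw [UC, hk]
      refine mul_right_cancel (b := 1) ?_
      simp only [P12, mul_assoc, Matrix.cons_val_zero, Matrix.cons_val_one, Matrix.cons_val,
        C.getD_J1, u14, u20, u21, u17,
        map_zero, neg_zero, mul_zero, good_D4.full.x_zero, one_mul, mul_one]
      rw [← mul_one (X 19 _), ← mul_one (X 22 (k 14 * a))]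
      simp only [mul_assoc, s_22_19, s_22_16, s_22_15, s_15_19, s_15_16, s_16_19, one_mul]
    obtain ⟨a₂, b₂, c₂, d₂, e₂, f₂, -, he₂, hf₂, q0, q1, q4, q7, q10, q11, hs⟩ :=
      C.exists_of_conj _ (C.mem_U1.mpr ⟨_, _, _, _, _, _, ha, map_zero _, map_zero _, rfl⟩) e1
    simp at q0 q1 q4 q7 q11
    subst q0 q1 q7 q11
    have step := C.sim_trans h1' h3
    by_cases hd : d₁ = 0
    · left
      subst hd
      simp at q4
      subst q4
      refine C.sim_trans step (C.sim_trans hs ?_)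
      -- a long root element at the level of `e`
      have hne : e₂ ≠ 0 := by
        simp at q10
        rw [q10]; exact mul_ne_zero (hk0 14 (by norm_num)) ha0
      obtain ⟨k', hk0', hk'⟩ := C.conj_P12 C.J0
      obtain ⟨-, -, -, -, -, -, -, -, -, -, t22, -⟩ := pwTab
      have e3 : C.Z.n C.J0 * C.UC 0 0 0 0 e₂ 0 *
          (C.Z.n C.J0)⁻¹ = P12 ![0, 0, 0, 0, 0, 0, 0, 0, 0, 0, 0, k' 22 * e₂] := by
        rw [UC, hk', C.getD_J0]
        simp [P12, t22,
          good_D4.full.x_zero]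
      obtain ⟨a₁, b₁, c₁, d₁, e₁, f₁, -, -, hf₁, r0, r1, r4, r7, r10, r11, hs'⟩ :=
        C.exists_of_conj _ (C.mem_U1.mpr ⟨_, _, _, _, _, _, map_zero _, he₂, map_zero _, rfl⟩) e3
      simp at r0 r1 r4 r7 r10 r11
      subst r0 r1 r4 r7 r10
      exact C.sim_trans hs' (C.scale_f hf₁
        (by rw [r11]; exact mul_ne_zero (hk0' 22 (by norm_num)) hne))
    · right
      refine C.sim_trans step (C.sim_trans hs (C.case_c he₂ (map_zero _) ?_
        (C.sim_sq hs (C.sim_sq step h))))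
      rw [q4]
      exact neg_ne_zero.mpr (mul_ne_zero (hk0 17 (by norm_num))
        ((map_ne_zero C.φ).mpr ((map_ne_zero C.φ).mpr hd)))

omit [CharP K 2] in
/-- The two involutions are not conjugate. -/
theorem not_sim : ¬ C.Sim C.iL C.iS := by
  rintro ⟨g, hg1, e⟩
  have hg : g ∈ chevD4.group K := (C.Z.le_fix hg1).1
  obtain ⟨b, hb, n, hn, L, hL, u, hu, rfl⟩ := good_D4.canonical_exists hg
  obtain ⟨v, hv, c, rfl⟩ := good_D4.mem_borel.mp hb
  have hiL : C.iL = X 23 1 := by simp [iL, UC, P12, good_D4.full.x_zero]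
  have hu23 : u * X 23 (1 : K) * u⁻¹ = X 23 1 := by
    obtain ⟨w, rfl⟩ := P12_surj (K := K) (good_D4.posUnipotent_eq (F := K) ▸ good_D4.flip_le_pos _ hu)
    have h23 : X 23 (1 : K) = P12 ![0, 0, 0, 0, 0, 0, 0, 0, 0, 0, 0, 1] := by
      simp [P12, good_D4.full.x_zero]
    rw [mul_inv_eq_iff_eq_mul, h23, P12_mul, P12_mul]
    congr 1
    funext i
    fin_cases i <;> simp [p12Mul] <;> ring
  obtain ⟨k, hk⟩ := hL
  rw [hiL] at e
  have key : X (good_D4.full.pw L ⟨23, by decide⟩).val ((k ⟨23, by decide⟩ : K) * 1) =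
      (D4Data.tab.hT K c)⁻¹ * (v⁻¹ * C.iS * v) * D4Data.tab.hT K c := by
    rw [← (hk ⟨23, by decide⟩).2.2.2 1]
    calc n * X 23 1 * n⁻¹ = n * (u * X 23 1 * u⁻¹) * n⁻¹ := by rw [hu23]
      _ = (D4Data.tab.hT K c)⁻¹ * (v⁻¹ * (v * D4Data.tab.hT K c * n * u * X 23 1 *
            (v * D4Data.tab.hT K c * n * u)⁻¹) * v) * D4Data.tab.hT K c := by group
      _ = _ := by rw [e]
  rw [good_D4.posUnipotent_eq] at hv
  obtain ⟨w, rfl⟩ := P12_surj hv
  -- the coordinates of the right hand side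
  set z := (P12 w)⁻¹ * C.iS * P12 w with hzdef
  obtain ⟨y, hy⟩ : ∃ y, z = P12 y := P12_surj (mul_mem (mul_mem (inv_mem (P12_mem w))
    (P12_mem _)) (P12_mem w))
  have hyz : P12 w * P12 y = C.iS * P12 w := by rw [← hy, hzdef]; group
  rw [iS, UC, P12_mul, P12_mul] at hyz
  have q := P12_inj hyz
  have y0 : y 0 = 0 := by simpa [p12Mul] using congrFun q 0
  have y1 : y 1 = 0 := by simpa [p12Mul] using congrFun q 1
  have y2 : y 2 = 0 := by simpa [p12Mul] using congrFun q 2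
  have y3 : y 3 = 0 := by simpa [p12Mul] using congrFun q 3
  have y4 : y 4 = 0 := by simpa [p12Mul, y0] using congrFun q 4
  have y5 : y 5 = 0 := by simpa [p12Mul, y0] using congrFun q 5
  have y6 : y 6 = 0 := by simpa [p12Mul, y0] using congrFun q 6
  have y7 : y 7 = 1 := by
    have := congrFun q 7
    simp [p12Mul, y0, y1, y2, y3, y4, y5, y6] at this
    linear_combination this
  have y8 : y 8 = 1 := by
    have := congrFun q 8
    simp [p12Mul, y0, y1, y2, y3, y4, y5, y6] at this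
    linear_combination this
  rw [hy] at key
  have key' : (D4Data.tab.hT K c)⁻¹ * P12 y * D4Data.tab.hT K c = P12
      (fun i => ((D4Data.tab.chi (F := K)
        (([14, 18, 13, 12, 19, 16, 15, 20, 21, 17, 22, 23] : List ℕ).getD i 0) c⁻¹ : Kˣ) : K) *
          y i) := by
    have key0 : ∀ r, r < 24 → ∀ t : K, (D4Data.tab.hT K c)⁻¹ * X r t * D4Data.tab.hT K c =
        X r (D4Data.tab.chi (F := K) r c⁻¹ * t) := fun r hr t => by
      rw [← good_D4.full.hT_conj hr c⁻¹ t, map_inv (D4Data.tab.hT K), inv_inv]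
    set H := D4Data.tab.hT K c
    have conj_mul' : ∀ a b, H⁻¹ * (a * b) * H = (H⁻¹ * a * H) * (H⁻¹ * b * H) := fun a b => by
      group
    simp only [P12, conj_mul', key0 14 (by norm_num), key0 18 (by norm_num),
      key0 13 (by norm_num), key0 12 (by norm_num), key0 19 (by norm_num), key0 16 (by norm_num),
      key0 15 (by norm_num), key0 20 (by norm_num), key0 21 (by norm_num), key0 17 (by norm_num),
      key0 22 (by norm_num), key0 23 (by norm_num)]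
    rfl
  rw [key'] at key
  by_cases hpos : IsPos chevD4 (good_D4.full.pw L ⟨23, by decide⟩).val
  · have hr : (good_D4.full.pw L ⟨23, by decide⟩).val < 24 ∧
        24 ≤ 2 * (good_D4.full.pw L ⟨23, by decide⟩).val := hpos
    have hkk : (k ⟨23, by decide⟩ : K) ≠ 0 := Units.ne_zero _
    generalize (good_D4.full.pw L ⟨23, by decide⟩).val = r at key hr
    -- a single root element has at most one non-zero coordinate
    obtain ⟨v, hv, h78⟩ : ∃ v : Fin 12 → K, X r ((k ⟨23, by decide⟩ : K) * 1) = P12 v ∧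
        (v 7 = 0 ∨ v 8 = 0) := by
      obtain ⟨h1, h2⟩ := hr
      have : r = 14 ∨ r = 18 ∨ r = 13 ∨ r = 12 ∨ r = 19 ∨ r = 16 ∨ r = 15 ∨ r = 20 ∨ r = 21 ∨
          r = 17 ∨ r = 22 ∨ r = 23 := by omega
      set t := (k ⟨23, by decide⟩ : K) * 1
      rcases this with rfl | rfl | rfl | rfl | rfl | rfl | rfl | rfl | rfl | rfl | rfl | rfl
      exacts [⟨![t, 0, 0, 0, 0, 0, 0, 0, 0, 0, 0, 0], by simp [P12, good_D4.full.x_zero]⟩,
        ⟨![0, t, 0, 0, 0, 0, 0, 0, 0, 0, 0, 0], by simp [P12, good_D4.full.x_zero]⟩,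
        ⟨![0, 0, t, 0, 0, 0, 0, 0, 0, 0, 0, 0], by simp [P12, good_D4.full.x_zero]⟩,
        ⟨![0, 0, 0, t, 0, 0, 0, 0, 0, 0, 0, 0], by simp [P12, good_D4.full.x_zero]⟩,
        ⟨![0, 0, 0, 0, t, 0, 0, 0, 0, 0, 0, 0], by simp [P12, good_D4.full.x_zero]⟩,
        ⟨![0, 0, 0, 0, 0, t, 0, 0, 0, 0, 0, 0], by simp [P12, good_D4.full.x_zero]⟩,
        ⟨![0, 0, 0, 0, 0, 0, t, 0, 0, 0, 0, 0], by simp [P12, good_D4.full.x_zero]⟩,
        ⟨![0, 0, 0, 0, 0, 0, 0, t, 0, 0, 0, 0], by simp [P12, good_D4.full.x_zero]⟩,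
        ⟨![0, 0, 0, 0, 0, 0, 0, 0, t, 0, 0, 0], by simp [P12, good_D4.full.x_zero]⟩,
        ⟨![0, 0, 0, 0, 0, 0, 0, 0, 0, t, 0, 0], by simp [P12, good_D4.full.x_zero]⟩,
        ⟨![0, 0, 0, 0, 0, 0, 0, 0, 0, 0, t, 0], by simp [P12, good_D4.full.x_zero]⟩,
        ⟨![0, 0, 0, 0, 0, 0, 0, 0, 0, 0, 0, t], by simp [P12, good_D4.full.x_zero]⟩]
    rw [hv] at key
    have q' := P12_inj key
    rcases h78 with h | h
    · have := congrFun q' 7
      rw [h, y7, mul_one] at this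
      exact Units.ne_zero _ this.symm
    · have := congrFun q' 8
      rw [h, y8, mul_one] at this
      exact Units.ne_zero _ this.symm
  · have h1 : X (good_D4.full.pw L ⟨23, by decide⟩).val ((k ⟨23, by decide⟩ : K) * 1) = 1 :=
      good_D4.pos_inf_neg (by rw [key, good_D4.posUnipotent_eq]; exact P12_mem _)
        (good_D4.x_mem_neg (Fin.isLt _) hpos _)
    rw [h1, ← P12_zero] at key
    have := congrFun (P12_inj key) 7
    simp [y7] at this
    exact Units.ne_zero _ this.symm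

omit [CharP K 2] in
theorem grp_index_odd (h2 : 2 ∣ q) : ¬ 2 ∣ (C.Z.U1.subgroupOf C.Z.G1).index := by
  have hmul := (C.Z.U1.subgroupOf C.Z.G1).card_mul_index
  rw [Nat.card_congr (Subgroup.subgroupOfEquivOfLe C.Z.U1_le).toEquiv, C.card_U1, C.card_group,
    mul_assoc, mul_assoc] at hmul
  rw [Nat.eq_of_mul_eq_mul_left (pow_pos C.hq.pos 12) hmul]
  obtain ⟨r, rfl⟩ := h2
  have hpos := C.hq.pos
  have o1 : ¬ 2 ∣ (2 * r) ^ 2 - 1 := by
    have : 2 ∣ (2 * r) ^ 2 := dvd_pow (dvd_mul_right 2 r) (by norm_num)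
    have : 1 ≤ (2 * r) ^ 2 := Nat.one_le_pow _ _ hpos
    omega
  have o2 : ¬ 2 ∣ (2 * r) ^ 6 - 1 := by
    have : 2 ∣ (2 * r) ^ 6 := dvd_pow (dvd_mul_right 2 r) (by norm_num)
    have : 1 ≤ (2 * r) ^ 6 := Nat.one_le_pow _ _ hpos
    omega
  have o3 : ¬ 2 ∣ (2 * r) ^ 8 + (2 * r) ^ 4 + 1 := by
    have : 2 ∣ (2 * r) ^ 8 := dvd_pow (dvd_mul_right 2 r) (by norm_num)
    have : 2 ∣ (2 * r) ^ 4 := dvd_pow (dvd_mul_right 2 r) (by norm_num)
    omega
  exact Nat.prime_two.not_dvd_mul o1 (Nat.prime_two.not_dvd_mul o2 o3)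

/-- Every involution is conjugate to one of the two root involutions. -/
theorem invol_cases (h2 : 2 ∣ q) {g : GL chevD4.Idx K} (hg : g ∈ C.Z.G1) (ho : orderOf g = 2) :
    C.Sim g C.iL ∨ C.Sim g C.iS := by
  classical
  haveI : Fact (Nat.Prime 2) := ⟨Nat.prime_two⟩
  set U := C.Z.U1.subgroupOf C.Z.G1
  obtain ⟨n, hn⟩ : ∃ n, Nat.card U = 2 ^ n := by
    obtain ⟨p, j, hp, hj, hpj⟩ := C.hq
    have hp2 : p = 2 := ((Nat.prime_dvd_prime_iff_eq Nat.prime_two hp.nat_prime).mp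
      (Nat.prime_two.dvd_of_dvd_pow (hpj.symm ▸ h2))).symm
    subst hp2
    exact ⟨j * 12, by
      rw [Nat.card_congr (Subgroup.subgroupOfEquivOfLe C.Z.U1_le).toEquiv, C.card_U1, ← hpj,
        pow_mul]⟩
  have hU : IsPGroup 2 U := IsPGroup.of_card hn
  let P : Sylow 2 C.Z.G1 := hU.toSylow (C.grp_index_odd h2)
  set g' : C.Z.G1 := ⟨g, hg⟩
  have hp : IsPGroup 2 (Subgroup.zpowers g') :=
    IsPGroup.of_card (n := 1) (by rw [Nat.card_zpowers, ← Subgroup.orderOf_coe, ho, pow_one])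
  obtain ⟨Q, hQ⟩ := hp.exists_le_sylow
  obtain ⟨x, hx⟩ := MulAction.exists_smul_eq C.Z.G1 Q P
  have hu : x * g' * x⁻¹ ∈ (P : Subgroup C.Z.G1) := by
    rw [← hx, Sylow.smul_def, Sylow.pointwise_smul_def]
    exact ⟨g', hQ (Subgroup.mem_zpowers g'), rfl⟩
  rw [IsPGroup.toSylow_coe] at hu
  have hu' : (x : GL chevD4.Idx K) * g * (x : GL chevD4.Idx K)⁻¹ ∈ C.Z.U1 :=
    Subgroup.mem_subgroupOf.mp hu
  obtain ⟨a, b, c, d, e, f, ha, he, hf, eq⟩ := C.mem_U1.mp hu'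
  have hs : C.Sim g (C.UC a b c d e f) := ⟨x, x.2, eq⟩
  have hg2 : g * g = 1 := by rw [← pow_two, ← ho, pow_orderOf_eq_one]
  refine (C.classify ha he hf (fun h1 => ?_) (C.sim_sq hs hg2)).imp (C.sim_trans hs)
    (C.sim_trans hs)
  obtain ⟨y, -, hy⟩ := hs
  rw [h1, conj_eq_one_iff] at hy
  rw [hy, orderOf_one] at ho
  omega

theorem iL_mem : C.iL ∈ C.Z.G1 := C.UC_mem (map_zero _) (map_zero _) (map_one _) _ _ _

theorem iS_mem : C.iS ∈ C.Z.G1 := C.UC_mem (map_zero _) (map_zero _) (map_zero _) _ _ _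

omit [CharP K 2] in
theorem UC_ne_one {a b c d e f : K} (h : d ≠ 0 ∨ f ≠ 0) : C.UC a b c d e f ≠ 1 := fun e' => by
  rw [← C.UC_zero] at e'
  obtain ⟨-, -, -, hd, -, hf⟩ := C.UC_inj e'
  exact h.elim (· hd) (· hf)

theorem UC_sq_iL : C.iL * C.iL = 1 := by
  rw [iL, C.UC_mul (map_zero _), ← C.UC_zero]
  congr 1 <;> simp [mulD, mulE, mulF, CharTwo.add_self_eq_zero]

theorem UC_sq_iS : C.iS * C.iS = 1 := by
  rw [iS, C.UC_mul (map_zero _), ← C.UC_zero]
  congr 1 <;> simp [mulD, mulE, mulF, CharTwo.add_self_eq_zero]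

/-- There are exactly two classes of involutions. -/
theorem invol_class_count (h2 : 2 ∣ q) :
    (ConjClasses.mk '' {g : ↥(twistedD4 K q) | orderOf g = 2}).ncard = 2 := by
  rw [← C.grp_eq]
  let L : C.Z.G1 := ⟨C.iL, C.iL_mem⟩
  let S : C.Z.G1 := ⟨C.iS, C.iS_mem⟩
  have hmk : ∀ g h : C.Z.G1, ConjClasses.mk g = ConjClasses.mk h ↔
      C.Sim (g : GL chevD4.Idx K) h := fun g h => by
    rw [ConjClasses.mk_eq_mk_iff_isConj, isConj_iff]
    constructor
    · rintro ⟨k, rfl⟩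
      exact ⟨k, k.2, rfl⟩
    · rintro ⟨k, hk, e⟩
      exact ⟨⟨k, hk⟩, Subtype.ext e⟩
  have hL : orderOf L = 2 := by
    rw [← Subgroup.orderOf_coe]
    exact orderOf_eq_prime (by rw [pow_two]; exact C.UC_sq_iL) (C.UC_ne_one (Or.inr one_ne_zero))
  have hS : orderOf S = 2 := by
    rw [← Subgroup.orderOf_coe]
    exact orderOf_eq_prime (by rw [pow_two]; exact C.UC_sq_iS) (C.UC_ne_one (Or.inl one_ne_zero))
  have himg : ConjClasses.mk '' {g : C.Z.G1 | orderOf g = 2} =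
      {ConjClasses.mk L, ConjClasses.mk S} := by
    refine Set.Subset.antisymm ?_ ?_
    · rintro _ ⟨g, hg, rfl⟩
      rcases C.invol_cases h2 g.2 ((Subgroup.orderOf_coe g).trans hg) with h | h
      exacts [Or.inl ((hmk g L).mpr h), Or.inr ((hmk g S).mpr h)]
    · rintro _ (rfl | rfl)
      exacts [⟨L, hL, rfl⟩, ⟨S, hS, rfl⟩]
  rw [himg, Set.ncard_pair]
  exact fun h => C.not_sim ((hmk L S).mp h)

end Ctx

end CfsgLib.Chev.D4Tw
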