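import Cfsg.Agent.Chev.RootMap
import Cfsg.Agent.Chev.SimpleData

/-! Root maps of the graph automorphisms. -/

set_option autoImplicit false

namespace CfsgLib.Chev

/-- The root map of the graph automorphism (E6). -/
def graphMapE6 : List (ℕ × ℤ × ℕ) :=
  [(0, 1, 1), (1, 1, 1), (2, 1, 1), (5, 1, 1), (16, -1, 1), (3, 1, 1), (6, 1, 1), (17, -1, 1), (8, 1, 1), (19, -1, 1), (22, -1, 1), (11, 1, 1), (26, -1, 1), (30, 1, 1), (33, -1, 1), (35, 1, 1), (4, -1, 1), (7, -1, 1), (18, 1, 1), (9, -1, 1), (20, 1, 1), (23, 1, 1), (10, -1, 1), (21, 1, 1), (24, 1, 1), (25, 1, 1), (12, -1, 1), (27, 1, 1), (31, -1, 1), (34, 1, 1), (13, 1, 1), (28, -1, 1), (32, 1, 1), (14, -1, 1), (29, 1, 1), (15, 1, 1), (56, 1, 1), (42, 1, 1), (57, -1, 1), (39, 1, 1), (43, -1, 1), (58, 1, 1), (37, 1, 1), (40, -1, 1), (44, 1, 1), (59, -1, 1), (46, 1, 1), (47, 1, 1), (50, 1, 1), (61, -1, 1), (48, 1,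 1), (51, 1, 1), (62, -1, 1), (53, 1, 1), (64, -1, 1), (67, -1, 1), (36, 1, 1), (38, -1, 1), (41, 1, 1), (45, -1, 1), (60, 1, 1), (49, -1, 1), (52, -1, 1), (63, 1, 1), (54, -1, 1), (65, 1, 1), (68, 1, 1), (55, -1, 1), (66, 1, 1), (69, 1, 1), (70, 1, 1), (71, 1, 1)]

theorem chkGraphE6 : E6Data.tab.chkMap 0 graphMapE6 = true := by decide +kernel

/-- The root map of the graph automorphism (D4a). -/
def graphMapD4a : List (ℕ × ℤ × ℕ) :=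
  [(0, 1, 1), (1, 1, 1), (6, -1, 1), (2, 1, 1), (7, -1, 1), (10, 1, 1), (3, -1, 1), (8, 1, 1), (4, -1, 1), (9, 1, 1), (11, 1, 1), (5, 1, 1), (18, 1, 1), (12, 1, 1), (14, 1, 1), (19, -1, 1), (15, 1, 1), (20, -1, 1), (13, 1, 1), (16, -1, 1), (21, 1, 1), (17, -1, 1), (22, 1, 1), (23, 1, 1)]

theorem chkGraphD4a : D4Data.tab.chkMap 0 graphMapD4a = true := by decide +kernel

/-- The root map of the graph automorphism (D4b). -/
def graphMapD4b : List (ℕ × ℤ × ℕ) :=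
  [(0, 1, 1), (1, 1, 1), (3, 1, 1), (6, -1, 1), (8, -1, 1), (11, 1, 1), (2, -1, 1), (4, -1, 1), (7, 1, 1), (9, 1, 1), (5, 1, 1), (10, 1, 1), (13, 1, 1), (18, 1, 1), (14, 1, 1), (16, 1, 1), (19, -1, 1), (21, -1, 1), (12, 1, 1), (15, -1, 1), (17, -1, 1), (20, 1, 1), (22, 1, 1), (23, 1, 1)]

theorem chkGraphD4b : D4Data.tab.chkMap 0 graphMapD4b = true := by decide +kernel

/-- The root map of the graph automorphism (B2). -/
def graphMapB2 : List (ℕ × ℤ × ℕ) :=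
  [(1, 1, 1), (0, 1, 2), (3, 1, 2), (2, 1, 1), (5, 1, 1), (4, 1, 2), (7, 1, 2), (6, 1, 1)]

theorem chkGraphB2 : B2Data.tab.chkMap 2 graphMapB2 = true := by decide +kernel

/-- The root map of the graph automorphism (F4). -/
def graphMapF4 : List (ℕ × ℤ × ℕ) :=
  [(3, 1, 1), (7, 1, 1), (8, 1, 1), (0, 1, 2), (9, 1, 1), (11, 1, 1), (18, 1, 1), (1, 1, 2), (2, 1, 2), (4, 1, 2), (15, 1, 2), (5, 1, 2), (16, 1, 2), (21, 1, 2), (23, 1, 2), (10, 1, 1), (12, 1, 1), (19, 1, 1), (6, 1, 2), (17, 1, 2), (22, 1, 2), (13, 1, 1), (20, 1, 1), (14, 1, 1), (33, 1, 1), (27, 1, 1), (34, 1, 1), (25, 1, 2), (30, 1, 2), (41, 1, 2), (28, 1, 1), (35, 1, 1), (37, 1, 1), (24, 1, 2), (26, 1, 2), (31, 1, 2), (42, 1, 2), (32, 1, 2), (43, 1, 2), (45, 1, 2), (46, 1, 2), (29, 1, 1), (36, 1, 1), (38, 1, 1), (47, 1, 2), (39, 1, 1), (40, 1, 1), (44, 1, 1)]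

theorem chkGraphF4 : F4Data.tab.chkMap 2 graphMapF4 = true := by decide +kernel

/-- The root map of the graph automorphism (G2). -/
def graphMapG2 : List (ℕ × ℤ × ℕ) :=
  [(2, 1, 1), (3, 1, 1), (0, 1, 3), (1, 1, 3), (5, 1, 3), (4, 1, 1), (7, 1, 1), (6, 1, 3), (10, 1, 3), (11, 1, 3), (8, 1, 1), (9, 1, 1)]

theorem chkGraphG2 : G2Data.tab.chkMap 3 graphMapG2 = true := by decide +kernel

end CfsgLib.Chev
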