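import Cfsg.Agent.Chev.TwistedField
import Cfsg.Agent.Chev.RootMapData
import Cfsg.Agent.Chev.SteinbergData
import Cfsg.Prelude.Def_LieTwisted

/-!
The twisted groups of type `³D₄`.
-/

set_option autoImplicit false

namespace CfsgLib.Chev.D4Tw

open Cfsg.Lie Matrix Tab
open scoped MatrixGroups

/-- The permutation of the fundamental roots. -/
def rho : List ℕ := [2, 1, 3, 0]

/-- The orbits. -/
def orbs : List (List ℕ) := [[1], [0, 2, 3]]

/-- The levels of the fixed Weyl group. -/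
def levels : List (ℕ × List (List ℕ) × List ℕ) :=
  [(1, [[], [1], [0, 1], [1, 0, 1], [0, 1, 0, 1], [1, 0, 1, 0, 1]], [0, 3, 4, 7, 8, 11]),
   (0, [[], [0]], [0, 1])]

theorem chkRho : chkGraphMap chevD4 graphMapD4a rho = true := by decide +kernel

theorem chkO : D4Data.tab.chkOrbits (fun s => (mapAt graphMapD4a s).1) rho orbs orbs = true := by
  decide +kernel

theorem chkA : D4Data.tab.chkA1 rho orbs = true := by decide +kernel

theorem chkLevels : D4Data.tab.chkChainT orbs orbs 1 (List.range 2) levels = true := by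
  decide +kernel

theorem chkKer2 : D4Data.tab.chkKer 2
    [[2, 2, 1, 1], [2, 4, 2, 2], [1, 2, 2, 1], [1, 2, 1, 2]] = true := by decide +kernel

theorem chkLong14 : D4Data.tab.chkLong orbs graphMapD4a 14 22 14 [1, 0] = true := by
  decide +kernel

theorem chkOrders : ∀ i j : Fin 2,
    D4Data.tab.chkOrder (orbs.getD i [] ++ orbs.getD j []) (CoxeterMatrix.G₂ i j) = true := by
  decide +kernel

theorem mapSimple : ∀ i : Fin 4, (mapAt graphMapD4a (chevD4.simple i)).2 = (1, 1) := by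
  decide +kernel

theorem cartD4 : ∀ i j : Fin 4, D4Data.tab.cart i (chevD4.simple j) =
    (![![2, -1, 0, 0], ![-1, 2, -1, -1], ![0, -1, 2, 0], ![0, -1, 0, 2]] :
      Fin 4 → Fin 4 → ℤ) i j := by
  decide +kernel

/-- The graph-field automorphism defining `³D₄(q)`. -/
structure Ctx (K : Type*) [Field K] [Fintype K] (q : ℕ) where
  hq : IsPrimePow q
  hK : Fintype.card K = q ^ 3
  /-- the field automorphism -/
  φ : K →+* K
  hφ : ∀ x, φ x = x ^ q
  /-- the automorphism -/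
  Φ : good_D4.Graph K
  hπ : ∀ r, (Φ.π r).val = (mapAt graphMapD4a r.val).1
  hρ : ∀ i, (Φ.ρ i).val = rho.getD i.val 0
  hf : ∀ r t, Φ.f r t = φ (((mapAt graphMapD4a r.val).2.1 : K) * t ^ (mapAt graphMapD4a r.val).2.2)

variable {K : Type*} [Field K] [Fintype K] {q : ℕ}

/-- The rank is not zero. -/
local instance neZeroRank : NeZero chevD4.rank := ⟨by decide⟩

/-- There are orbits. -/
local instance neZeroOrbs : NeZero orbs.length := ⟨by decide⟩

theorem exists_ctx (hq : IsPrimePow q) (hK : Fintype.card K = q ^ 3) : Nonempty (Ctx K q) := by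
  obtain ⟨φ, hφ⟩ := exists_frob hq hK three_pos
  obtain ⟨Φ, h1, h2, h3⟩ := good_D4.exists_graph (F := K) ⟨_, wits_D4⟩ (p := 0) (by simp)
    (fun h => absurd h (lt_irrefl 0)) chkGraphD4a chkRho φ
  exact ⟨⟨hq, hK, φ, hφ, Φ, h1, h2, h3⟩⟩

namespace Ctx

variable (C : Ctx K q)
include C

theorem f_simp (i : Fin chevD4.rank) (t : K) : C.Φ.f (good_D4.full.simp' i) t = t ^ q := by
  rw [C.hf, show (good_D4.full.simp' i : ℕ) = chevD4.simple i from rfl, mapSimple i]
  simp [C.hφ]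

theorem A : good_D4.A1Data C.Φ orbs := Good.a1Data C.Φ C.hπ C.hρ chkO chkA

theorem pow_qqq (x : K) : ((x ^ q) ^ q) ^ q = x := by
  rw [← pow_mul, ← pow_mul, show q * (q * q) = q ^ 3 by ring]; exact pow_q_pow C.hK x

theorem units_pow_qqq (x : Kˣ) : ((x ^ q) ^ q) ^ q = x := by
  rw [← pow_mul, ← pow_mul, show q * (q * q) = q ^ 3 by ring]; exact units_pow_q_pow C.hK x

theorem rho_eq : ∀ i : Fin chevD4.rank, C.Φ.ρ i = (![2, 1, 3, 0] : Fin 4 → Fin 4) i :=
  fun i => Fin.ext (by rw [C.hρ]; fin_cases i <;> rfl)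

theorem σc_apply (c : Fin chevD4.rank → Kˣ) (i : Fin chevD4.rank) :
    C.Φ.σc c ((![2, 1, 3, 0] : Fin 4 → Fin 4) i) = c i ^ q := by
  rw [show ((![2, 1, 3, 0] : Fin 4 → Fin 4) i) = C.Φ.ρ i from (C.rho_eq i).symm]
  show C.Φ.fU (C.Φ.ρ.symm (C.Φ.ρ i)) (c (C.Φ.ρ.symm (C.Φ.ρ i))) = _
  rw [Equiv.symm_apply_apply]
  refine Units.ext ?_
  show C.Φ.f (good_D4.full.simp' i) (c i) = _
  rw [C.f_simp, Units.val_pow_eq_pow_val]

theorem σc_cube (c : Fin chevD4.rank → Kˣ) : C.Φ.σc (C.Φ.σc (C.Φ.σc c)) = c := by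
  funext i
  have h := C.σc_apply
  fin_cases i
  · exact ((h (C.Φ.σc (C.Φ.σc c)) 3).trans (congrArg (· ^ q) ((h (C.Φ.σc c) 2).trans
      (congrArg (· ^ q) (h c 0))))).trans (C.units_pow_qqq _)
  · exact ((h (C.Φ.σc (C.Φ.σc c)) 1).trans (congrArg (· ^ q) ((h (C.Φ.σc c) 1).trans
      (congrArg (· ^ q) (h c 1))))).trans (C.units_pow_qqq _)
  · exact ((h (C.Φ.σc (C.Φ.σc c)) 0).trans (congrArg (· ^ q) ((h (C.Φ.σc c) 3).trans
      (congrArg (· ^ q) (h c 2))))).trans (C.units_pow_qqq _)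
  · exact ((h (C.Φ.σc (C.Φ.σc c)) 2).trans (congrArg (· ^ q) ((h (C.Φ.σc c) 0).trans
      (congrArg (· ^ q) (h c 3))))).trans (C.units_pow_qqq _)

theorem mem_Cσ {c : Fin chevD4.rank → Kˣ} :
    c ∈ C.A.Cσ ↔ ∀ i : Fin 4, c ((![2, 1, 3, 0] : Fin 4 → Fin 4) i) = c i ^ q := by
  rw [C.A.mem_Cσ]
  refine forall_congr' fun i => ?_
  rw [C.f_simp, C.rho_eq, ← Units.val_pow_eq_pow_val]
  exact Units.val_inj

theorem σc_mul (a b : Fin chevD4.rank → Kˣ) : C.Φ.σc (a * b) = C.Φ.σc a * C.Φ.σc b :=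
  funext fun j => map_mul (C.Φ.fU _) _ _

theorem σc_inv (a : Fin chevD4.rank → Kˣ) : C.Φ.σc a⁻¹ = (C.Φ.σc a)⁻¹ :=
  funext fun j => map_inv (C.Φ.fU _) _

theorem htor (c : Fin chevD4.rank → Kˣ)
    (h1 : D4Data.tab.hT K (C.Φ.σc c) = D4Data.tab.hT K c)
    (_h2 : D4Data.tab.hT K (c * c) = 1) : D4Data.tab.hT K c ∈ C.A.torus := by
  set d := C.Φ.σc c * c⁻¹ with hd
  have hdk : D4Data.tab.hT K d = 1 := by rw [hd, map_mul, map_inv, h1, mul_inv_cancel]
  have hk1 : D4Data.tab.hT K (C.Φ.σc d) = 1 := by rw [← C.Φ.A_hT, hdk, C.Φ.A_one]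
  have sq : ∀ e : Fin chevD4.rank → Kˣ, D4Data.tab.hT K e = 1 → e⁻¹ = e := fun e he =>
    inv_eq_of_mul_eq_one_right (by rw [← pow_two]; exact good_D4.ker_pow chkKer2 he)
  have hnorm : C.Φ.σc (C.Φ.σc d) * C.Φ.σc d * d = 1 := by
    rw [hd]
    simp only [C.σc_mul, C.σc_inv, C.σc_cube]
    group
  -- the kernel has no fixed elements, so the fibre has a fixed point
  have hz : C.Φ.σc (C.Φ.σc d) * (C.Φ.σc d)⁻¹ = d := by
    rw [sq _ hk1, eq_inv_of_mul_eq_one_left hnorm, sq _ hdk]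
  have hfix : C.Φ.σc (c * (C.Φ.σc d)⁻¹) = c * (C.Φ.σc d)⁻¹ := by
    rw [C.σc_mul, C.σc_inv]
    have e1 : C.Φ.σc c = d * c := by rw [hd, inv_mul_cancel_right]
    have e2 : C.Φ.σc (C.Φ.σc d) = d * C.Φ.σc d := by
      exact mul_inv_eq_iff_eq_mul.mp hz
    rw [e1, e2, _root_.mul_inv_rev, mul_comm d c, mul_comm (C.Φ.σc d)⁻¹ d⁻¹, ← mul_assoc,
      mul_inv_cancel_right]
  have := C.A.hT_mem_torus hfix
  rwa [map_mul, map_inv, hk1, inv_one, mul_one] at this

/-- The twisted group. -/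
noncomputable def Z : Good.Twisted C.Φ := C.A.twisted C.htor

theorem tup_three {J : Fin orbs.length} (hJ : good_D4.oJ orbs J = [0, 2, 3]) (x : K) :
    C.A.Tup J (![x, 0, x ^ q, (x ^ q) ^ q] : Fin 4 → K) := by
  intro i hi
  rw [hJ] at hi
  simp only [List.mem_cons, List.not_mem_nil, or_false] at hi
  rw [C.f_simp, C.rho_eq]
  rcases hi with rfl | rfl | rfl
  · rfl
  · rfl
  · exact (C.pow_qqq x).symm

theorem grp_eq : C.Z.G1 = twistedD4 K q := by
  have cw : ∀ (w : List (ℕ × K)) (g : GL chevD4.Idx K),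
      (g : Matrix chevD4.Idx chevD4.Idx K) = chevD4.wordMat K w →
      g = (w.map fun p => good_D4.full.x p.1 p.2).prod := fun w g hg =>
    Units.ext (hg.trans (good_D4.full.coe_word w).symm)
  have wc : ∀ (w : List (ℕ × K)) (g : GL chevD4.Idx K),
      g = (w.map fun p => good_D4.full.x p.1 p.2).prod →
      (g : Matrix chevD4.Idx chevD4.Idx K) = chevD4.wordMat K w := fun w g hg => by
    rw [hg, good_D4.full.coe_word]
  have tup1 : ∀ t : K, t ^ q = t → C.A.Tup 0 fun _ => t := by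
    intro t ht i _
    rw [C.f_simp, ht]
  refine le_antisymm ((Subgroup.closure_le _).mpr ?_) ((Subgroup.closure_le _).mpr ?_)
  · rintro g ⟨J, t, ht, hg⟩
    refine Subgroup.subset_closure ?_
    have h0 := ht
    fin_cases J
    · have e : t 1 ^ q = t 1 := by
        have := h0 1 (List.mem_singleton_self _)
        rw [C.f_simp, C.rho_eq] at this
        exact this.symm
      rcases hg with rfl | rfl
      · exact ⟨_, Or.inl ⟨t 1, e, 14, by decide, rfl⟩, wc _ _ rfl⟩
      · exact ⟨_, Or.inl ⟨t 1, e, 9, by decide, rfl⟩, wc _ _ rfl⟩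
    · have e : t 2 = t 0 ^ q := by
        have := h0 0 (List.mem_cons_self ..)
        rwa [C.f_simp, C.rho_eq] at this
      have e' : t 3 = t 0 ^ q ^ 2 := by
        have := h0 2 (List.mem_cons_of_mem _ (List.mem_cons_self ..))
        rw [C.f_simp, C.rho_eq] at this
        rw [pow_two, pow_mul, ← e]
        exact this
      rcases hg with rfl | rfl
      · refine ⟨_, Or.inr ⟨t 0, (18, 13, 12), by decide, rfl⟩, wc _ _ ?_⟩
        rw [← e', ← e]; rfl
      · refine ⟨_, Or.inr ⟨t 0, (5, 10, 11), by decide, rfl⟩, wc _ _ ?_⟩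
        rw [← e', ← e]; rfl
  · rintro g ⟨w, hw, hg⟩
    rw [cw w g hg]
    rcases hw with ⟨t, ht, r, hr, rfl⟩ | ⟨t, ⟨r, r', r''⟩, hr, rfl⟩
    · simp only [List.mem_cons, List.not_mem_nil, or_false] at hr
      rcases hr with rfl | rfl
      · exact C.A.PX_mem (tup1 t ht)
      · exact C.A.PN_mem (tup1 t ht)
    · simp only [List.mem_cons, List.not_mem_nil, or_false, Prod.mk.injEq] at hr
      have e : t ^ q ^ 2 = (t ^ q) ^ q := by rw [pow_two, pow_mul]
      rcases hr with ⟨rfl, rfl, rfl⟩ | ⟨rfl, rfl, rfl⟩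
      · simp only [e]
        exact C.A.PX_mem (C.tup_three (J := 1) rfl t)
      · simp only [e]
        exact C.A.PN_mem (C.tup_three (J := 1) rfl t)

theorem card_X (J : Fin orbs.length) :
    Nat.card (C.Z.XJ J) = q ^ (orbs.getD J []).length := by
  fin_cases J
  · refine ((C.A.card_XJ 0 (a := 1) (List.mem_singleton_self _)).trans ?_)
    refine (Eq.trans (Nat.card_congr (Equiv.subtypeEquivRight fun x => ?_))
      (card_fixed C.hq C.hK)).trans (pow_one q).symm
    constructor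
    · rintro ⟨t, ht, rfl⟩
      have := ht 1 (List.mem_singleton_self _)
      rw [C.f_simp, C.rho_eq] at this
      exact this.symm
    · intro hx
      exact ⟨fun _ => x, fun i _ => by rw [C.f_simp, hx], rfl⟩
  · refine ((C.A.card_XJ 1 (a := 0) (List.mem_cons_self ..)).trans ?_)
    show _ = q ^ 3
    rw [← C.hK, ← Nat.card_eq_fintype_card]
    exact Nat.card_congr (Equiv.subtypeUnivEquiv fun x => ⟨_, C.tup_three rfl x, rfl⟩)

theorem card_U1 : Nat.card C.Z.U1 = q ^ 12 :=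
  C.Z.card_U1 one_pos (fun J => by rw [one_mul]; exact C.A.card_inv J) C.card_X (N := 12) rfl

theorem card_torus : Nat.card C.Z.H0 = (q - 1) ^ 2 * (q ^ 2 + q + 1) := by
  have h1 := C.A.card_torus
  have eC : Nat.card C.A.Cσ = Nat.card (Kˣ × {u : Kˣ // u ^ q = u}) := by
    refine Nat.card_congr
      { toFun := fun c => (c.1 0, ⟨c.1 1, (C.mem_Cσ.mp c.2 1).symm⟩)
        invFun := fun p => ⟨![p.1, p.2.1, p.1 ^ q, (p.1 ^ q) ^ q],
          C.mem_Cσ.mpr fun i => by
            fin_cases i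
            · rfl
            · exact p.2.2.symm
            · rfl
            · exact (C.units_pow_qqq p.1).symm⟩
        left_inv := fun c => Subtype.ext (funext fun i => by
          fin_cases i
          · rfl
          · rfl
          · exact (C.mem_Cσ.mp c.2 0).symm
          · exact ((C.mem_Cσ.mp c.2 2).trans (congrArg (· ^ q) (C.mem_Cσ.mp c.2 0))).symm)
        right_inv := fun p => rfl }
  have eK : ∀ c : Fin 4 → Kˣ, c ∈ C.A.Cσ → D4Data.tab.hT K c = 1 → c = 1 := by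
    intro c hc hk
    have sq : ∀ i : Fin 4, c i ^ 2 = 1 := fun i => congrFun (good_D4.ker_pow chkKer2 hk) i
    have hpm : ∀ i : Fin 4, c i ^ q = c i := fun i => by
      refine Units.ext ?_
      rw [Units.val_pow_eq_pow_val, ← C.hφ]
      have h := congrArg (fun u : Kˣ => (u : K)) (sq i)
      simp only [Units.val_pow_eq_pow_val, Units.val_one, sq_eq_one_iff] at h
      rcases h with h | h <;> rw [h] <;> simp
    have a2 : c 2 = c 0 := (C.mem_Cσ.mp hc 0).trans (hpm 0)
    have a3 : c 3 = c 0 := ((C.mem_Cσ.mp hc 2).trans (hpm 2)).trans a2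
    have e := (good_D4.full.hT_eq_one_iff (F := K) c).mp hk
    have e0 : ∏ i : Fin 4, c i ^ D4Data.tab.cart i (chevD4.simple (0 : Fin 4)) = 1 :=
      e (0 : Fin 4) (by decide)
    have e1 : ∏ i : Fin 4, c i ^ D4Data.tab.cart i (chevD4.simple (1 : Fin 4)) = 1 :=
      e (1 : Fin 4) (by decide)
    simp only [cartD4, Fin.prod_univ_four] at e0 e1
    simp [sq 0] at e0
    simp [e0, a2, a3] at e1
    have a0 : c 0 = 1 := by
      have h3 : (c 0)⁻¹ = c 0 := inv_eq_of_mul_eq_one_right (by rw [← pow_two]; exact sq 0)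
      rw [h3, ← pow_two, ← pow_succ] at e1
      have := sq 0
      rwa [pow_succ, this, one_mul] at e1
    funext i
    fin_cases i
    exacts [a0, e0, a2.trans a0, a3.trans a0]
  have hone : Nat.card {c : C.A.Cσ // D4Data.tab.hT K (c : Fin chevD4.rank → Kˣ) = 1} = 1 := by
    rw [Nat.card_eq_one_iff_unique]
    exact ⟨⟨fun a b => Subtype.ext (Subtype.ext ((eK _ a.1.2 a.2).trans (eK _ b.1.2 b.2).symm))⟩,
      ⟨⟨1, map_one _⟩⟩⟩
  rw [hone, mul_one, eC, Nat.card_prod, units_card C.hK, card_units_fixed C.hq C.hK] at h1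
  rw [show C.Z.H0 = C.A.torus from rfl, h1]
  obtain ⟨r, rfl⟩ : ∃ r, q = r + 1 := ⟨q - 1, by have := C.hq.pos; omega⟩
  zify [Nat.one_le_pow _ (r + 1) (by omega)]
  push_cast
  ring

theorem hM (i j : Fin C.Z.nJ) : orderOf (C.Z.w i * C.Z.w j) = CoxeterMatrix.G₂ i j := by
  refine good_D4.orderOf_pw_mul _ _ ?_
  rw [show (C.Z.word i).map Fin.val = orbs.getD i [] from C.A.spec.map_word i,
    show (C.Z.word j).map Fin.val = orbs.getD j [] from C.A.spec.map_word j]
  exact chkOrders i j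

theorem exists_weyl : ∃ φ : (chevD4.monomialSubgroup K ⊓ C.Z.G1 : Subgroup (GL chevD4.Idx K)) →*
      (CoxeterMatrix.G₂).Group, Function.Surjective φ ∧
    φ.ker = (chevD4.diagonalSubgroup K ⊓ C.Z.G1).subgroupOf
      (chevD4.monomialSubgroup K ⊓ C.Z.G1) :=
  C.Z.exists_coxeter C.A.xNontrivial CoxeterMatrix.G₂ C.hM

theorem connected : C.Z.Connected :=
  C.Z.connected_of C.hM (by
    show ∀ P : Fin 2 → Bool, (∃ a, P a = true) → (∃ b, P b = false) →
      ∃ a b, P a = true ∧ P b = false ∧ 2 < CoxeterMatrix.G₂ a b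
    have l01 : 2 < CoxeterMatrix.G₂ 0 1 ∧ 2 < CoxeterMatrix.G₂ 1 0 := by decide +kernel
    rintro P ⟨a, ha⟩ ⟨b, hb⟩
    fin_cases a <;> fin_cases b <;> first
      | exact ⟨0, 1, ha, hb, l01.1⟩
      | exact ⟨1, 0, ha, hb, l01.2⟩
      | simp_all)

theorem commutator_top : commutator C.Z.G1 = ⊤ := by
  obtain ⟨a, ha⟩ := exists_sq_ne_one C.hq C.hK (by decide)
  have ha' : ∀ x : Kˣ, x ^ 2 ≠ 1 → (x ^ q) ^ 2 ≠ 1 := by
    intro x hx h
    refine hx (Units.ext ?_)
    have h' := congrArg (fun u : Kˣ => (u : K)) h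
    simp only [Units.val_pow_eq_pow_val, Units.val_one] at h' ⊢
    refine C.φ.injective ?_
    rw [map_one, C.hφ, ← pow_mul, mul_comm, pow_mul]
    exact h'
  have hX : ∀ J, C.Z.XJ J ≤ ⁅C.A.grp, C.A.grp⁆ := by
    intro J
    fin_cases J
    · intro u hu
      obtain ⟨t, ht, rfl⟩ := C.A.mem_XJ.mp hu
      have e := ht 1 (List.mem_singleton_self _)
      rw [C.f_simp, C.rho_eq] at e
      show (([1] : List (Fin chevD4.rank)).map fun i : Fin chevD4.rank =>
        good_D4.full.x (chevD4.simple i) (t i)).prod ∈ _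
      rw [List.map_singleton, List.prod_singleton]
      exact C.A.long_mem_commutator C.htor C.hπ C.φ C.hf chkLong14
        (t := t 1) (by rw [C.hφ, ← e]; rfl)
    · let c : Fin 4 → Kˣ := ![a, 1, a ^ q, (a ^ q) ^ q]
      have hc : c ∈ C.A.Cσ := C.mem_Cσ.mpr fun i => by
        fin_cases i
        · rfl
        · exact (one_pow q).symm
        · rfl
        · exact (C.units_pow_qqq a).symm
      have hchi : ∀ l : Fin 4, l ≠ 1 → D4Data.tab.chi (chevD4.simple l) c = c l ^ 2 := by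
        intro l hl
        show ∏ m : Fin 4, c m ^ D4Data.tab.cart m (chevD4.simple l) = _
        simp only [cartD4, Fin.prod_univ_four]
        fin_cases l <;> simp [c] at hl ⊢
      refine C.A.XJ_le_commutator_of_torus 1 hc fun l hl h1 => ?_
      simp only [show good_D4.oJ orbs (1 : Fin orbs.length) = [0, 2, 3] from rfl, List.mem_cons,
        List.not_mem_nil, or_false] at hl
      rcases hl with rfl | rfl | rfl
      · exact ha (Units.ext ((congrArg Units.val (hchi 0 (by decide))).symm.trans h1))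
      · exact ha' a ha (Units.ext ((congrArg Units.val (hchi 2 (by decide))).symm.trans h1))
      · exact ha' _ (ha' a ha)
          (Units.ext ((congrArg Units.val (hchi 3 (by decide))).symm.trans h1))
  exact C.Z.commutator_top hX fun J => C.A.n_mem_commutator J (hX J)

theorem isSimple : IsSimpleGroup C.Z.G1 ∧ ¬ IsMulCommutative C.Z.G1 :=
  C.Z.isSimple_G1 C.A.xNontrivial C.A.faithful C.connected (show 0 < orbs.length by decide)
    C.commutator_top

theorem card_group : Nat.card C.Z.G1 =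
    q ^ 12 * (q ^ 2 - 1) * (q ^ 6 - 1) * (q ^ 8 + q ^ 4 + 1) := by
  rw [C.Z.card_G1 one_pos (fun J => by rw [one_mul]; exact C.A.card_inv J) C.card_X,
    show List.range C.Z.nJ = List.range 2 from rfl,
    C.Z.poly_chain C.A.hasData one_pos levels _ chkLevels, C.card_U1, C.card_torus]
  obtain ⟨r, rfl⟩ : ∃ r, q = r + 1 := ⟨q - 1, by have := C.hq.pos; omega⟩
  simp only [levels, List.map_cons, List.map_nil, List.prod_cons, List.prod_nil, List.sum_cons,
    List.sum_nil]
  zify [Nat.one_le_pow _ (r + 1) (by omega)]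
  push_cast
  ring

end Ctx

end CfsgLib.Chev.D4Tw
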