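import Cfsg.Agent.Chev.TwistedA1Aut
import Cfsg.Agent.Chev.TwistedD4
import Cfsg.Agent.Chev.D4TwInvol
import Cfsg.Agent.ChevAut.OutCount
import Cfsg.Prelude.Def_KGroupFacts

/-!
The outer automorphisms of `³D₄(q)` are the field automorphisms.
-/

set_option autoImplicit false
set_option linter.style.haveILetI false
set_option linter.unusedSectionVars false

namespace CfsgLib.Chev.D4Tw

open Cfsg.Lie Matrix Tab
open scoped MatrixGroups

variable {K : Type*} [Field K] [Fintype K] {q : ℕ}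

theorem negWord : ∀ s < 24,
    D4Data.tab.wordT [1, 0, 2, 3, 1, 0, 2, 3, 1, 0, 2, 3] s = negR chevD4 s := by
  decide +kernel

/-- The rank is not zero. -/
local instance neZeroRankOut : NeZero chevD4.rank := ⟨by decide⟩

namespace Ctx

variable (C : Ctx K q)
include C

/-- A word for the longest element. -/
def w0 (C : Ctx K q) : List (Fin C.Z.nJ) := [C.J0, C.J1, C.J0, C.J1, C.J0, C.J1]

theorem w0_neg : C.Z.IsMinusOne C.w0 := by
  refine C.Z.isMinusOne_of_negF fun s => ?_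
  refine Fin.ext ?_
  rw [Good.Twisted.pwT, good_D4.pw_apply]
  show D4Data.tab.wordT ((C.w0.flatMap (good_D4.oJ orbs)).map Fin.val) s.val = negR chevD4 s.val
  rw [show (C.w0.flatMap (good_D4.oJ orbs)).map Fin.val =
    [1, 0, 2, 3, 1, 0, 2, 3, 1, 0, 2, 3] from rfl]
  exact negWord s.val s.isLt

theorem orb_J0 : good_D4.oJ orbs C.J0 = ([1] : List (Fin 4)) := rfl

theorem orb_J1 : good_D4.oJ orbs C.J1 = ([0, 2, 3] : List (Fin 4)) := rfl

theorem J_cases (J : Fin C.Z.nJ) : J = C.J0 ∨ J = C.J1 := by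
  obtain ⟨j, hj⟩ := J
  have : j < 2 := hj
  rcases (by omega : j = 0 ∨ j = 1) with rfl | rfl
  exacts [Or.inl rfl, Or.inr rfl]

/-- The sizes of the fixed root groups. -/
theorem card_XJ' (J : Fin C.Z.nJ) : Nat.card (C.Z.XJ J) = q ^ (orbs.getD J.val []).length :=
  C.card_X J

theorem cell_unique_size (J : Fin C.Z.nJ) (L : List (Fin C.Z.nJ)) (hL : C.Z.Red L)
    (h : Nat.card (C.Z.UT L) = Nat.card (C.Z.UT [J])) : C.Z.pwT L = C.Z.pwT [J] := by
  set k : Fin C.Z.nJ → ℕ := fun J => (orbs.getD J.val []).length with hk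
  have hJ : C.Z.Red [J] := by
    have := Good.Twisted.Red.step (Z := C.Z) [] J Good.Twisted.Red.nil fun i _ => by
      rw [C.Z.pwT_nil]
      exact good_D4.pos_simp i
    exact this
  rw [C.Z.card_UT_prod C.card_XJ' hL, C.Z.card_UT_prod C.card_XJ' hJ] at h
  have hs : (L.map k).sum = k J := by
    have := Nat.pow_right_injective C.hq.two_le h
    simp only [List.map_cons, List.map_nil, List.sum_cons, List.sum_nil, add_zero] at this
    exact this
  have k0 : k C.J0 = 1 := rfl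
  have k1 : k C.J1 = 3 := rfl
  have kp : ∀ J, k J = 1 ∨ k J = 3 := fun J => by
    rcases C.J_cases J with rfl | rfl
    exacts [Or.inl k0, Or.inr k1]
  rcases List.eq_nil_or_concat L with rfl | ⟨L', a, rfl⟩
  · have := kp J
    simp only [List.map_nil, List.sum_nil] at hs
    omega
  rw [List.concat_eq_append] at hs hL ⊢
  simp only [List.map_append, List.sum_append, List.map_cons, List.map_nil, List.sum_cons,
    List.sum_nil, add_zero] at hs
  rcases List.eq_nil_or_concat L' with rfl | ⟨L'', b, rfl⟩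
  · simp only [List.map_nil, List.sum_nil, zero_add] at hs
    rcases C.J_cases J with rfl | rfl <;> rcases C.J_cases a with rfl | rfl <;>
      first | rfl | omega
  · exfalso
    rw [List.concat_eq_append] at hs hL
    simp only [List.map_append, List.sum_append, List.map_cons, List.map_nil, List.sum_cons,
      List.sum_nil, add_zero] at hs
    have hne : b ≠ a := fun e => by
      rw [e] at hL
      exact Good.Twisted.Red.no_repeat C.Z hL
    rcases C.J_cases J with rfl | rfl <;> rcases C.J_cases a with rfl | rfl <;>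
      rcases C.J_cases b with rfl | rfl <;> first | exact absurd rfl hne | omega

theorem cell_fixed {α : MulAut C.Z.G1} (hα : C.Z.FixBoth C.w0 α) (J : Fin C.Z.nJ)
    (z : C.Z.G1) : C.Z.Cell [J] (α z : GL chevD4.Idx K) ↔ C.Z.Cell [J] (z : GL chevD4.Idx K) :=
  C.Z.aut_cell_single hα C.A.xNontrivial (C.cell_unique_size J) z

/-! ### The two fixed root groups -/

/-- The parameters on the long orbit. -/
def tL (_C : Ctx K q) (s : K) : Fin chevD4.rank → K := fun _ => s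

/-- The parameters on the short orbit. -/
def tS (C : Ctx K q) (t : K) : Fin chevD4.rank → K :=
  (![t, 0, C.φ t, C.φ (C.φ t)] : Fin 4 → K)

theorem tup_tL {s : K} (hs : C.φ s = s) : C.A.Tup C.J0 (C.tL s) := fun i _ => by
  rw [C.f_simp, ← C.hφ]
  exact hs.symm

theorem tup_tS (t : K) : C.A.Tup C.J1 (C.tS t) := by
  have := C.tup_three (J := C.J1) rfl t
  simpa [tS, C.hφ] using this

theorem mem_i1 : (1 : Fin 4) ∈ good_D4.oJ orbs C.J0 := List.mem_singleton_self _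

theorem mem_i0 : (0 : Fin 4) ∈ good_D4.oJ orbs C.J1 := List.mem_cons_self ..

/-- The long root group. -/
noncomputable def eL (C : Ctx K q) (s : {s : K // C.φ s = s}) : C.Z.G1 :=
  ⟨good_D4.PX (good_D4.oJ orbs C.J0) (C.tL s), C.A.PX_mem (C.tup_tL s.2)⟩

/-- The short root group. -/
noncomputable def eS (C : Ctx K q) (t : K) : C.Z.G1 :=
  ⟨good_D4.PX (good_D4.oJ orbs C.J1) (C.tS t), C.A.PX_mem (C.tup_tS t)⟩

theorem eL_mem (s : {s : K // C.φ s = s}) : (C.eL s : GL chevD4.Idx K) ∈ C.Z.XJ C.J0 :=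
  C.A.mem_XJ.mpr ⟨_, C.tup_tL s.2, rfl⟩

theorem eS_mem (t : K) : (C.eS t : GL chevD4.Idx K) ∈ C.Z.XJ C.J1 :=
  C.A.mem_XJ.mpr ⟨_, C.tup_tS t, rfl⟩

theorem eL_surj {z : C.Z.G1} (hz : (z : GL chevD4.Idx K) ∈ C.Z.XJ C.J0) : ∃ s, z = C.eL s := by
  obtain ⟨t, ht, e⟩ := C.A.mem_XJ.mp hz
  have hfix : C.φ (t (1 : Fin 4)) = t (1 : Fin 4) := by
    have h1 := (ht _ C.mem_i1).trans (C.f_simp (1 : Fin 4) _)
    exact (C.hφ _).trans (h1.symm.trans (congrArg t (C.rho_eq (1 : Fin 4))))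
  exact ⟨⟨_, hfix⟩, Subtype.ext (e.trans
    (C.A.PX_congr_one ht (C.tup_tL hfix) C.mem_i1 rfl))⟩

theorem eS_surj {z : C.Z.G1} (hz : (z : GL chevD4.Idx K) ∈ C.Z.XJ C.J1) : ∃ t, z = C.eS t := by
  obtain ⟨t, ht, e⟩ := C.A.mem_XJ.mp hz
  exact ⟨t (0 : Fin 4), Subtype.ext (e.trans
    (C.A.PX_congr_one ht (C.tup_tS _) C.mem_i0 rfl))⟩

theorem eL_inj {s s' : {s : K // C.φ s = s}} (h : C.eL s = C.eL s') : (s : K) = s' :=
  C.A.PX_inj (congrArg Subtype.val h) _ C.mem_i1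

theorem eS_inj {t t' : K} (h : C.eS t = C.eS t') : t = t' :=
  C.A.PX_inj (congrArg Subtype.val h) _ C.mem_i0

theorem eS_add (t t' : K) : C.eS (t + t') = C.eS t * C.eS t' := by
  refine Subtype.ext (Eq.trans ?_ (C.A.PX_mul C.J1 (C.tS t) (C.tS t')).symm)
  refine C.A.PX_congr fun i _ => ?_
  rw [Pi.add_apply]
  revert i
  show ∀ i : Fin 4, _
  intro i
  fin_cases i <;> simp [tS]

/-! ### The torus -/

/-- The torus elements. -/
noncomputable def eH (C : Ctx K q) (c : C.A.Cσ) : C.Z.G1 :=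
  ⟨D4Data.tab.hT K c, C.Z.H0_le (C.A.hT_mem_torus c.2)⟩

/-- The character on the long orbit. -/
noncomputable def χL (C : Ctx K q) (c : C.A.Cσ) : Kˣ :=
  D4Data.tab.chi (F := K) (chevD4.simple (1 : Fin 4)) c

/-- The character on the short orbit. -/
noncomputable def χS (C : Ctx K q) (c : C.A.Cσ) : Kˣ :=
  D4Data.tab.chi (F := K) (chevD4.simple (0 : Fin 4)) c

theorem chi_eq (c : Fin chevD4.rank → Kˣ) :
    D4Data.tab.chi (F := K) (chevD4.simple (1 : Fin 4)) c =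
        (c (0 : Fin 4))⁻¹ * c (1 : Fin 4) ^ 2 * (c (2 : Fin 4))⁻¹ * (c (3 : Fin 4))⁻¹ ∧
      D4Data.tab.chi (F := K) (chevD4.simple (0 : Fin 4)) c =
        c (0 : Fin 4) ^ 2 * (c (1 : Fin 4))⁻¹ := by
  have e : ∀ r, D4Data.tab.chi (F := K) r c = ∏ i : Fin 4, c i ^ D4Data.tab.cart i r := fun r => rfl
  simp only [e, cartD4, Fin.prod_univ_four]
  simp [zpow_ofNat]

theorem χL_fixed (c : C.A.Cσ) : C.φ (C.χL c : K) = C.χL c := by
  have h1 := (C.A.chi_fixed c.2 (1 : Fin 4)).trans (C.f_simp (1 : Fin 4) _)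
  refine (C.hφ _).trans (h1.symm.trans ?_)
  exact congrArg (fun i : Fin 4 => ((D4Data.tab.chi (F := K) (chevD4.simple i) c : Kˣ) : K))
    (C.rho_eq (1 : Fin 4))

theorem χL_mul (c : C.A.Cσ) (s : {s : K // C.φ s = s}) :
    C.φ ((C.χL c : K) * s) = (C.χL c : K) * s := by
  rw [map_mul, C.χL_fixed, s.2]

theorem eH_eL (c : C.A.Cσ) (s : {s : K // C.φ s = s}) :
    C.eH c * C.eL s * (C.eH c)⁻¹ =
      C.eL ⟨(C.χL c : K) * s, C.χL_mul c s⟩ := by
  refine Subtype.ext ((C.A.conj_torus_PX _ _ _).trans ?_)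
  exact C.A.PX_congr_one (C.A.tup_mul (C.A.tup_chi c.2) (C.tup_tL s.2))
    (C.tup_tL (C.χL_mul c s)) C.mem_i1 rfl

theorem eH_eS (c : C.A.Cσ) (t : K) :
    C.eH c * C.eS t * (C.eH c)⁻¹ = C.eS ((C.χS c : K) * t) :=
  Subtype.ext ((C.A.conj_torus_PX _ _ _).trans (C.A.PX_congr_one
    (C.A.tup_mul (C.A.tup_chi c.2) (C.tup_tS t)) (C.tup_tS _) C.mem_i0 rfl))

theorem eH_surj {z : C.Z.G1} (hz : (z : GL chevD4.Idx K) ∈ C.Z.H0) : ∃ c, z = C.eH c := by
  obtain ⟨c, hc, e⟩ := hz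
  exact ⟨⟨c, hc⟩, Subtype.ext e.symm⟩

theorem exists_chi {a b : Kˣ} (ha : a ^ q = a) : ∃ c : C.A.Cσ, C.χL c = a ∧ C.χS c = b := by
  set N := b * b ^ q * (b ^ q) ^ q with hN
  have hNq : N ^ q = N := by
    rw [hN, mul_pow, mul_pow, C.units_pow_qqq]
    ac_rfl
  obtain ⟨e, he⟩ : ∃ e, q * (q + 1) = 2 * e := by
    obtain ⟨e, he⟩ := Nat.even_mul_succ_self q
    exact ⟨e, by omega⟩
  set ε := N * (N ^ e)⁻¹ with hε
  have hε2 : ε ^ 2 = 1 := by
    have h1 : (N ^ e) ^ 2 = N * N := by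
      rw [← pow_mul, mul_comm e 2, ← he, pow_mul, hNq, pow_succ, hNq]
    rw [hε, mul_pow, inv_pow, h1, pow_two, mul_inv_cancel]
  have hεq : ε ^ q = ε := by
    rw [hε, mul_pow, inv_pow, ← pow_mul, mul_comm e q, pow_mul, hNq]
  set u := ε * a * b ^ (1 + e) with hu
  set v := a ^ 2 * N with hv
  have hvq : v ^ q = v := by rw [hv, mul_pow, ← pow_mul, mul_comm 2 q, pow_mul, ha, hNq]
  have hmem : (![u, v, u ^ q, (u ^ q) ^ q] : Fin 4 → Kˣ) ∈ C.A.Cσ := C.mem_Cσ.mpr fun i => by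
    fin_cases i
    · rfl
    · exact hvq.symm
    · rfl
    · exact (C.units_pow_qqq u).symm
  have hu2 : u ^ 2 = v * b := by
    rw [hu, mul_pow, mul_pow, hε2, one_mul, hv, hN, mul_assoc (a ^ 2), ← pow_mul,
      show (1 + e) * 2 = 1 + (1 + q * (q + 1)) by omega, pow_add, pow_add, pow_one, ← pow_mul b q q,
      mul_add, mul_one, pow_add]
    ac_rfl
  have hm : ∀ x y : Kˣ, x * y * (x * y) ^ q * ((x * y) ^ q) ^ q =
      (x * x ^ q * (x ^ q) ^ q) * (y * y ^ q * (y ^ q) ^ q) := fun x y => by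
    rw [mul_pow, mul_pow, mul_mul_mul_comm x y, mul_mul_mul_comm]
  have hp : ∀ (x : Kˣ) (n : ℕ), x ^ n * (x ^ n) ^ q * ((x ^ n) ^ q) ^ q =
      (x * x ^ q * (x ^ q) ^ q) ^ n := fun x n => by
    rw [pow_right_comm x n q, pow_right_comm (x ^ q) n q, mul_pow, mul_pow]
  have hnu : u * u ^ q * (u ^ q) ^ q = ε * (a ^ 3 * N ^ (1 + e)) := by
    rw [hu, hm, hm, hp, ← hN, hεq, hεq, ha, ha, mul_assoc]
    congr 1
    · rw [← pow_two, hε2, one_mul]
    · rw [pow_succ, pow_two]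
  refine ⟨⟨_, hmem⟩, ?_, ?_⟩
  · show D4Data.tab.chi (F := K) _ _ = a
    rw [(C.chi_eq _).1]
    show u⁻¹ * v ^ 2 * (u ^ q)⁻¹ * ((u ^ q) ^ q)⁻¹ = a
    have hεinv : ε⁻¹ = N * (N ^ e)⁻¹ := by
      rw [← hε, inv_eq_iff_mul_eq_one, ← pow_two, hε2]
    rw [show u⁻¹ * v ^ 2 * (u ^ q)⁻¹ * ((u ^ q) ^ q)⁻¹ = v ^ 2 * (u * u ^ q * (u ^ q) ^ q)⁻¹ by
      simp only [mul_inv]; ac_rfl, hnu, mul_inv, hεinv, hv, mul_pow, mul_inv, ← pow_mul,
      show a ^ (2 * 2) = a * a ^ 3 from pow_succ' a 3, pow_add N 1 e, pow_one, mul_inv]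
    have h1 : (N ^ e)⁻¹ * (N ^ e)⁻¹ * N ^ 2 = 1 := by
      have := congrArg (fun x : Kˣ => x) hε2
      rw [hε, mul_pow, pow_two (N ^ e)⁻¹] at this
      rw [mul_comm]
      exact this
    calc a * a ^ 3 * N ^ 2 * (N * (N ^ e)⁻¹ * ((a ^ 3)⁻¹ * (N⁻¹ * (N ^ e)⁻¹)))
        = a * (a ^ 3 * (a ^ 3)⁻¹) * (N * N⁻¹) * ((N ^ e)⁻¹ * (N ^ e)⁻¹ * N ^ 2) := by ac_rfl
      _ = a := by rw [h1, mul_inv_cancel, mul_inv_cancel, mul_one, mul_one, mul_one]
  · show D4Data.tab.chi (F := K) _ _ = b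
    rw [(C.chi_eq _).2]
    show u ^ 2 * v⁻¹ = b
    rw [hu2, mul_comm v b, mul_inv_cancel_right]

/-- The torus element of the long orbit commutator. -/
theorem comm_nL (c : C.A.Cσ) : ∃ d : C.A.Cσ,
    C.eH d = C.Z.nG C.J0 * C.eH c * (C.Z.nG C.J0)⁻¹ * (C.eH c)⁻¹ ∧ C.χS d = C.χL c := by
  have hm : C.A.res C.J0 (fun i => D4Data.tab.chi (chevD4.simple i) c) ∈ C.A.Cσ :=
    C.A.res_mem fun i _ => C.A.chi_fixed c.2 i
  refine ⟨⟨_, inv_mem hm⟩, Subtype.ext ?_, ?_⟩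
  · show D4Data.tab.hT K (C.A.res C.J0 _)⁻¹ = _
    rw [map_inv]
    exact (C.A.n_comm C.J0 c).symm
  · show D4Data.tab.chi (F := K) _ (C.A.res C.J0 _)⁻¹ = _
    rw [(C.chi_eq _).2]
    have r0 : C.A.res C.J0 (fun i => D4Data.tab.chi (F := K) (chevD4.simple i) c) (0 : Fin 4) = 1 :=
      if_neg (by show ¬ (0 : Fin 4) ∈ ([1] : List (Fin 4)); decide)
    have r1 : C.A.res C.J0 (fun i => D4Data.tab.chi (F := K) (chevD4.simple i) c) (1 : Fin 4) =
        C.χL c := if_pos C.mem_i1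
    refine (congrArg₂ (fun x y : Kˣ => (x⁻¹) ^ 2 * (y⁻¹)⁻¹) r0 r1).trans ?_
    simp

/-! ### Automorphisms -/

theorem comm_field (σ : K ≃+* K) (i : Fin chevD4.rank) (x : K) :
    σ (C.Φ.f (good_D4.full.simp' i) x) = C.Φ.f (good_D4.full.simp' i) (σ x) := by
  rw [C.f_simp, C.f_simp, map_pow]

/-- A field automorphism. -/
noncomputable def fA (C : Ctx K q) (σ : K ≃+* K) : MulAut C.Z.G1 :=
  C.A.fieldAut (htor := C.htor) C.comm_field σ

theorem fA_eS (σ : K ≃+* K) (t : K) : C.fA σ (C.eS t) = C.eS (σ t) := by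
  refine Subtype.ext ((C.A.fieldAut_PX (htor := C.htor) C.comm_field σ (C.tup_tS t)).trans ?_)
  refine C.A.PX_congr_one (fun i hi => ?_) (C.tup_tS _) C.mem_i0 rfl
  rw [C.tup_tS t i hi, C.comm_field]

theorem fA_eL (σ : K ≃+* K) (s : {s : K // C.φ s = s}) :
    C.fA σ (C.eL s) = C.eL ⟨σ s, by
      rw [C.hφ, ← map_pow, ← C.hφ, s.2]⟩ :=
  Subtype.ext (C.A.fieldAut_PX (htor := C.htor) C.comm_field σ (C.tup_tL s.2))

theorem fA_inner_trivial (σ : K ≃+* K) {g : C.Z.G1} (h : ∀ x, C.fA σ x = g * x * g⁻¹) :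
    σ = RingEquiv.refl K := by
  have hf := C.A.fieldAut_fixBoth (htor := C.htor) C.comm_field σ C.w0
  have hg : (g : GL chevD4.Idx K) ∈ C.Z.H0 := by
    refine C.Z.mem_H0_of_normalizes C.w0_neg C.A.xNontrivial g.2 (fun u hu => ?_) fun u hu => ?_
    · have := (hf.pos ⟨u, C.Z.U1_le hu⟩).mpr hu
      rw [show C.A.fieldAut C.comm_field σ ⟨u, C.Z.U1_le hu⟩ = C.fA σ ⟨u, C.Z.U1_le hu⟩ from rfl, h]
        at this
      exact this
    · have hG : u ∈ C.Z.G1 := by
        have := mul_mem (mul_mem (C.Z.nT_mem C.w0) (C.Z.U1_le (C.Z.mem_V1.mp hu)))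
          (inv_mem (C.Z.nT_mem C.w0))
        convert this using 1
        group
      have := (hf.neg ⟨u, hG⟩).mpr hu
      rw [show C.A.fieldAut C.comm_field σ ⟨u, hG⟩ = C.fA σ ⟨u, hG⟩ from rfl, h] at this
      exact this
  obtain ⟨c, rfl⟩ := C.eH_surj hg
  have key : ∀ t, σ t = (C.χS c : K) * t := fun t => by
    have := h (C.eS t)
    rw [C.fA_eS, C.eH_eS] at this
    exact C.eS_inj this
  refine RingEquiv.ext fun t => ?_
  have h1 := key 1
  rw [map_one, mul_one] at h1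
  rw [key, ← h1, one_mul, RingEquiv.refl_apply]

/-- An automorphism fixing `U` and `V` is a field and torus automorphism. -/
theorem exists_field {α : MulAut C.Z.G1} (hα : C.Z.FixBoth C.w0 α) :
    ∃ (σ : K ≃+* K) (c : C.A.Cσ), ∀ x, α x = C.eH c * C.fA σ x * (C.eH c)⁻¹ := by
  have hX := C.A.xNontrivial (htor := C.htor)
  have h0 := C.w0_neg
  have hφ1 : C.φ (1 : K) = 1 := map_one _
  -- normalise
  obtain ⟨a, ha⟩ := C.eL_surj ((C.Z.aut_XJ h0 hα hX (C.cell_fixed hα _)).mpr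
    (C.eL_mem ⟨1, hφ1⟩))
  obtain ⟨b, hb⟩ := C.eS_surj ((C.Z.aut_XJ h0 hα hX (C.cell_fixed hα _)).mpr (C.eS_mem 1))
  have ha0 : (a : K) ≠ 0 := fun e => by
    have : α (C.eL ⟨1, hφ1⟩) = α (C.eL ⟨0, map_zero _⟩ * (C.eL ⟨0, map_zero _⟩)⁻¹) := by
      rw [mul_inv_cancel, map_one, ha, show a = ⟨0, map_zero _⟩ from Subtype.ext e]
      refine Subtype.ext (List.prod_eq_one fun x hx => ?_)
      obtain ⟨i, -, rfl⟩ := List.mem_map.mp hx
      exact good_D4.full.x_zero _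
    rw [α.injective.eq_iff, mul_inv_cancel] at this
    refine one_ne_zero (C.eL_inj (s' := ⟨0, map_zero _⟩) (this.trans (Subtype.ext ?_)))
    exact (List.prod_eq_one fun x hx => by
      obtain ⟨i, -, rfl⟩ := List.mem_map.mp hx
      exact good_D4.full.x_zero _).symm
  have eS0 : C.eS 0 = 1 := by
    have := C.eS_add 0 0
    rwa [add_zero, left_eq_mul] at this
  have hb0 : b ≠ 0 := fun e => by
    rw [e, eS0, EmbeddingLike.map_eq_one_iff, ← eS0] at hb
    exact one_ne_zero (C.eS_inj hb)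
  obtain ⟨c, hcL, hcS⟩ := C.exists_chi (a := Units.mk0 _ ha0) (b := Units.mk0 b hb0)
    (Units.ext (by rw [Units.val_pow_eq_pow_val, Units.val_mk0, ← C.hφ, a.2]))
  let α' : MulAut C.Z.G1 := MulAut.conj (C.eH c)⁻¹ * α
  have hα' : C.Z.FixBoth C.w0 α' := by
    have hh : (C.eH c : GL chevD4.Idx K) ∈ C.Z.H0 := C.A.hT_mem_torus c.2
    constructor <;> intro g
    · rw [← hα.pos g]
      simp only [α', MulAut.mul_apply, MulAut.conj_apply, Subgroup.coe_mul, Subgroup.coe_inv, inv_inv]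
      refine ⟨fun h => ?_, fun h => ?_⟩
      · have := C.Z.H0_conj_U1 hh h
        convert this using 1
        group
      · simpa using C.Z.H0_conj_U1 (inv_mem hh) h
    · rw [← hα.neg g]
      simp only [α', MulAut.mul_apply, MulAut.conj_apply, Subgroup.coe_mul, Subgroup.coe_inv, inv_inv]
      refine ⟨fun h => ?_, fun h => ?_⟩
      · have := C.Z.H0_conj_V1 h0 hh h
        convert this using 1
        group
      · simpa using C.Z.H0_conj_V1 h0 (inv_mem hh) h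
  have hcell := C.cell_fixed hα'
  have eα' : ∀ x, α x = C.eH c * α' x * (C.eH c)⁻¹ := fun x => by
    simp only [α', MulAut.mul_apply, MulAut.conj_apply]
    group
  choose φL hφL using fun s => C.eL_surj ((C.Z.aut_XJ h0 hα' hX (hcell _)).mpr (C.eL_mem s))
  choose ψ hψ using fun t => C.eS_surj ((C.Z.aut_XJ h0 hα' hX (hcell _)).mpr (C.eS_mem t))
  choose μ hμ using fun d : C.A.Cσ => C.eH_surj ((C.Z.aut_H0 h0 hα' hX (g := C.eH d)).mpr
    (C.A.hT_mem_torus d.2))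
  have hφL1 : (φL ⟨1, hφ1⟩ : K) = 1 := by
    have e := eα' (C.eL ⟨1, hφ1⟩)
    rw [ha, hφL, C.eH_eL] at e
    have e' : (a : K) = (C.χL c : K) * (φL ⟨1, hφ1⟩ : K) := C.eL_inj e
    rw [hcL, Units.val_mk0] at e'
    exact mul_left_cancel₀ ha0 (by rw [mul_one]; exact e'.symm)
  have hψ1 : ψ 1 = 1 := by
    have e := eα' (C.eS 1)
    rw [hb, hψ, C.eH_eS] at e
    have e' := C.eS_inj e
    rw [hcS, Units.val_mk0] at e'
    exact mul_left_cancel₀ hb0 (by rw [mul_one]; exact e'.symm)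
  -- equivariance
  have hψc : ∀ (d : C.A.Cσ) (t : K), ψ ((C.χS d : K) * t) = (C.χS (μ d) : K) * ψ t := fun d t => by
    have e := congrArg α' (C.eH_eS d t)
    rw [map_mul, map_mul, map_inv, hμ, hψ, hψ, C.eH_eS] at e
    exact (C.eS_inj e).symm
  have hφLc : ∀ (d : C.A.Cσ) (s : {s : K // C.φ s = s}) (h : C.φ ((C.χL d : K) * s) = _),
      (φL ⟨(C.χL d : K) * s, h⟩ : K) = (C.χL (μ d) : K) * φL s := fun d s h => by
    have e := congrArg α' (C.eH_eL d s)
    rw [map_mul, map_mul, map_inv, hμ, hφL, hφL, C.eH_eL] at e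
    exact (C.eL_inj e).symm
  have hψmul : ∀ a b, ψ (a * b) = ψ a * ψ b := fun a b => by
    by_cases ha' : a = 0
    · have h00 : ψ 0 = 0 := by
        have := hψ 0
        rw [eS0, map_one, ← eS0] at this
        exact (C.eS_inj this).symm
      rw [ha', zero_mul, h00, zero_mul]
    obtain ⟨d, -, hd⟩ := C.exists_chi (a := 1) (b := Units.mk0 a ha') (one_pow q)
    have h1 := hψc d 1
    rw [hd, Units.val_mk0, hψ1, mul_one, mul_one] at h1
    have h2 := hψc d b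
    rw [hd, Units.val_mk0] at h2
    rw [h2, h1]
  have hψadd : ∀ a b, ψ (a + b) = ψ a + ψ b := fun a b => by
    have e := hψ (a + b)
    rw [C.eS_add, map_mul, hψ, hψ, ← C.eS_add] at e
    exact (C.eS_inj e).symm
  have hψinj : Function.Injective ψ := fun a b e =>
    C.eS_inj (α'.injective (by rw [hψ, hψ, e]))
  let σ : K ≃+* K :=
    { Equiv.ofBijective ψ ⟨hψinj, Finite.injective_iff_surjective.mp hψinj⟩ with
      map_mul' := hψmul
      map_add' := hψadd }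
  -- the two root groups carry the same automorphism
  have hlink : ∀ s, (φL s : K) = σ s := fun s => by
    show (φL s : K) = ψ s
    by_cases hs : (s : K) = 0
    · have e0 : ∀ h, C.eL ⟨0, h⟩ = 1 := fun h => Subtype.ext (List.prod_eq_one fun x hx => by
        obtain ⟨i, -, rfl⟩ := List.mem_map.mp hx
        exact good_D4.full.x_zero _)
      have e := hφL s
      rw [show s = ⟨0, map_zero _⟩ from Subtype.ext hs, e0, map_one,
        ← e0 (map_zero _)] at e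
      rw [show (φL s : K) = 0 from by
        rw [show s = ⟨0, map_zero _⟩ from Subtype.ext hs]; exact (C.eL_inj e).symm, hs]
      have := hψ 0
      rw [eS0, map_one, ← eS0] at this
      exact C.eS_inj this
    obtain ⟨d, hd, -⟩ := C.exists_chi (a := Units.mk0 (s : K) hs) (b := 1)
      (Units.ext (by rw [Units.val_pow_eq_pow_val, Units.val_mk0, ← C.hφ, s.2]))
    obtain ⟨m, hm, hmS⟩ := C.comm_nL d
    obtain ⟨n', hn', hnS⟩ := C.comm_nL (μ d)
    obtain ⟨k, hk, ek⟩ := C.Z.aut_n h0 hα' hX (hcell C.J0)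
    have e : α' (C.eH m) = C.eH n' := by
      obtain ⟨k', rfl⟩ : ∃ k', k = (C.eH k' : GL chevD4.Idx K) := by
        obtain ⟨k', e⟩ := C.eH_surj (z := ⟨k, C.Z.H0_le hk⟩) hk
        exact ⟨k', congrArg Subtype.val e⟩
      have ek' : α' (C.Z.nG C.J0) = C.Z.nG C.J0 * C.eH k' := Subtype.ext ek
      have hc : C.eH k' * C.eH (μ d) * (C.eH k')⁻¹ = C.eH (μ d) := by
        refine Subtype.ext ?_
        show D4Data.tab.hT K k' * D4Data.tab.hT K (μ d) * (D4Data.tab.hT K k')⁻¹ = _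
        rw [← map_mul, ← map_inv, ← map_mul, mul_comm (k' : Fin chevD4.rank → Kˣ), mul_inv_cancel_right]
        rfl
      rw [hm, hn', map_mul, map_mul, map_mul, map_inv, map_inv, hμ, ek',
        show C.Z.nG C.J0 * C.eH k' * C.eH (μ d) * (C.Z.nG C.J0 * C.eH k')⁻¹ =
          C.Z.nG C.J0 * (C.eH k' * C.eH (μ d) * (C.eH k')⁻¹) * (C.Z.nG C.J0)⁻¹ by group, hc]
    have e' := congrArg α' (C.eH_eS m 1)
    rw [map_mul, map_mul, map_inv, e, hψ, hψ, C.eH_eS, hψ1, mul_one, mul_one] at e'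
    have hs' := hφLc d ⟨1, hφ1⟩ (C.χL_mul d ⟨1, hφ1⟩)
    have es : (⟨(C.χL d : K) * ((⟨1, hφ1⟩ : {s : K // C.φ s = s}) : K),
        C.χL_mul d ⟨1, hφ1⟩⟩ : {s : K // C.φ s = s}) = s :=
      Subtype.ext ((mul_one (C.χL d : K)).trans (congrArg Units.val hd))
    rw [es, hφL1, mul_one] at hs'
    rw [hs', ← hnS]
    conv_rhs => rw [show (s : K) = (C.χS m : K) by rw [hmS, hd, Units.val_mk0]]
    exact C.eS_inj e'
  let β : MulAut C.Z.G1 := C.fA σ.symm * α'
  have hβ : C.Z.FixBoth C.w0 β := by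
    have hf := C.A.fieldAut_fixBoth (htor := C.htor) C.comm_field σ.symm C.w0
    exact ⟨fun g => (hf.pos _).trans (hα'.pos g), fun g => (hf.neg _).trans (hα'.neg g)⟩
  have hβ1 : ∀ z, β z = z := fun z => C.A.aut_eq_one C.w0_neg hβ (C.cell_fixed hβ) (fun J z hz => by
    rcases C.J_cases J with rfl | rfl
    · obtain ⟨s, rfl⟩ := C.eL_surj hz
      show C.fA σ.symm (α' (C.eL s)) = _
      rw [hφL, C.fA_eL]
      exact congrArg C.eL (Subtype.ext ((congrArg σ.symm (hlink s)).trans (σ.symm_apply_apply _)))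
    · obtain ⟨t, rfl⟩ := C.eS_surj hz
      show C.fA σ.symm (α' (C.eS t)) = _
      rw [hψ, C.fA_eS]
      exact congrArg C.eS (σ.symm_apply_apply t)) z
  refine ⟨σ, c, fun x => ?_⟩
  have := congrArg (C.fA σ) (hβ1 x)
  simp only [β, MulAut.mul_apply] at this
  rw [show C.fA σ (C.fA σ.symm (α' x)) = α' x from C.A.fieldAut_symm_apply C.comm_field σ _] at this
  rw [eα', this]

variable (p f : ℕ) [Fact p.Prime]

theorem exists_sylow (hq : q = p ^ f) :
    ∃ P : Sylow p C.Z.G1, (P : Subgroup C.Z.G1) = C.Z.U1.subgroupOf C.Z.G1 := by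
  have hcard : Nat.card (C.Z.U1.subgroupOf C.Z.G1) = q ^ 12 := by
    rw [Nat.card_congr (Subgroup.subgroupOfEquivOfLe C.Z.U1_le).toEquiv, C.card_U1]
  have hp := (Fact.out : p.Prime)
  have hf : f ≠ 0 := by
    rintro rfl
    have := C.hq.two_le
    rw [hq, pow_zero] at this
    omega
  have hpq : p ∣ q := hq ▸ dvd_pow_self p hf
  have hsub : ∀ n : ℕ, n ≠ 0 → ¬ p ∣ q ^ n - 1 := fun n hn hd => by
    have h1 : 1 ≤ q ^ n := Nat.one_le_pow _ _ C.hq.pos
    have h2 := Nat.dvd_sub (hpq.trans (dvd_pow_self q hn)) hd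
    rw [Nat.sub_sub_self h1, Nat.dvd_one] at h2
    exact hp.one_lt.ne' h2
  have h8 : ¬ p ∣ q ^ 8 + q ^ 4 + 1 := fun hd => by
    have := (Nat.dvd_add_right (dvd_add (hpq.trans (dvd_pow_self q (by norm_num)))
      (hpq.trans (dvd_pow_self q (by norm_num))))).mp hd
    rw [Nat.dvd_one] at this
    exact hp.one_lt.ne' this
  have hne : ∀ n : ℕ, n ≠ 0 → q ^ n - 1 ≠ 0 := fun n hn => by
    have := Nat.one_lt_pow hn C.hq.two_le
    omega
  have hq0 : q ≠ 0 := C.hq.ne_zero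
  refine ⟨Sylow.ofCard (C.Z.U1.subgroupOf C.Z.G1) ?_, rfl⟩
  rw [hcard, C.card_group, Nat.factorization_mul (mul_ne_zero (mul_ne_zero (pow_ne_zero _ hq0)
    (hne 2 two_ne_zero)) (hne 6 (by norm_num))) (by positivity),
    Nat.factorization_mul (mul_ne_zero (pow_ne_zero _ hq0) (hne 2 two_ne_zero))
    (hne 6 (by norm_num)),
    Nat.factorization_mul (pow_ne_zero _ hq0) (hne 2 two_ne_zero)]
  simp only [Finsupp.add_apply, Nat.factorization_eq_zero_of_not_dvd (hsub 2 two_ne_zero),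
    Nat.factorization_eq_zero_of_not_dvd (hsub 6 (by norm_num)),
    Nat.factorization_eq_zero_of_not_dvd h8, add_zero]
  rw [hq, ← pow_mul, hp.factorization_pow, Finsupp.single_eq_same]

/-- The order of the outer automorphism group. -/
theorem card_out [CharP K p] (hq : q = p ^ f) : Nat.card (Cfsg.Out C.Z.G1) = 3 * f := by
  have hK : Fintype.card K = p ^ (3 * f) := by rw [C.hK, hq, ← pow_mul, mul_comm]
  rw [← CfsgLib.Chev.card_ringEquiv (F := K) (p := p) hK]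
  obtain ⟨P, hP⟩ := C.exists_sylow p f hq
  refine (Nat.card_eq_of_bijective
    (fun σ : K ≃+* K => (QuotientGroup.mk (C.fA σ) : Cfsg.Out C.Z.G1)) ⟨?_, ?_⟩).symm
  · intro σ τ e
    obtain ⟨g, hg⟩ := QuotientGroup.eq.mp e
    refine (RingEquiv.ext fun a => ?_).symm
    have hkey := C.fA_inner_trivial (σ.symm.trans τ) (g := C.fA σ g) fun x => by
      have h1 : C.fA τ (C.fA σ.symm x) = C.fA σ (g * C.fA σ.symm x * g⁻¹) := by
        have := congrArg (fun f : MulAut C.Z.G1 => C.fA σ (f (C.fA σ.symm x))) hg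
        simp only [MulAut.mul_apply, MulAut.conj_apply, MulAut.apply_inv_self] at this
        exact this.symm
      rw [show C.fA (σ.symm.trans τ) x = C.fA τ (C.fA σ.symm x) from
        (C.A.fieldAut_fieldAut C.comm_field _ _ x).symm, h1, map_mul, map_mul, map_inv,
        show C.fA σ (C.fA σ.symm x) = x from C.A.fieldAut_symm_apply C.comm_field σ x]
    have := RingEquiv.congr_fun hkey (σ a)
    rwa [RingEquiv.trans_apply, RingEquiv.symm_apply_apply, RingEquiv.refl_apply] at this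
  · intro x
    obtain ⟨θ, rfl⟩ := QuotientGroup.mk_surjective x
    obtain ⟨g, α, hα, hθ⟩ := C.Z.exists_fixBoth C.w0_neg C.A.xNontrivial hP θ
    obtain ⟨σ, c, hσ⟩ := C.exists_field hα
    refine ⟨σ, QuotientGroup.eq.mpr ⟨(C.fA σ)⁻¹ (g * C.eH c), ?_⟩⟩
    refine MulEquiv.ext fun y => ?_
    simp only [MulAut.mul_apply, MulAut.conj_apply, hθ, hσ, map_mul, map_inv, MulAut.inv_apply_self]
    group

end Ctx

end CfsgLib.Chev.D4Tw
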