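import Cfsg.Agent.Chev.TwistedField
import Cfsg.Agent.Chev.RootMapData
import Cfsg.Agent.Chev.SteinbergData
import Cfsg.Prelude.Def_LieTwisted
import Mathlib.Data.Fintype.Pi

/-!
The twisted groups of type `²E₆`.
-/

set_option autoImplicit false

namespace CfsgLib.Chev.E6Tw

open Cfsg.Lie Matrix Tab
open scoped MatrixGroups

/-- The permutation of the fundamental roots. -/
def rho : List ℕ := [5, 1, 4, 3, 2, 0]

/-- The orbits. -/
def orbs : List (List ℕ) := [[1], [3], [2, 4], [0, 5]]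

/-- The levels of the fixed Weyl group. -/
def levels : List (ℕ × List (List ℕ) × List ℕ) :=
  [(0,
    [[], [0], [1, 0], [2, 1, 0], [1, 2, 1, 0], [3, 2, 1, 0], [0, 1, 2, 1, 0], [3, 1, 2, 1, 0],
      [3, 0, 1, 2, 1, 0], [2, 3, 1, 2, 1, 0], [2, 3, 0, 1, 2, 1, 0], [1, 2, 3, 1, 2, 1, 0],
      [1, 2, 3, 0, 1, 2, 1, 0], [0, 1, 2, 3, 1, 2, 1, 0], [0, 1, 2, 3, 0, 1, 2, 1, 0],
      [2, 1, 2, 3, 0, 1, 2, 1, 0], [2, 0, 1, 2, 3, 0, 1, 2, 1, 0], [3, 2, 1, 2, 3, 0, 1, 2, 1, 0],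
      [1, 2, 0, 1, 2, 3, 0, 1, 2, 1, 0], [3, 2, 0, 1, 2, 3, 0, 1, 2, 1, 0],
      [3, 1, 2, 0, 1, 2, 3, 0, 1, 2, 1, 0], [2, 3, 1, 2, 0, 1, 2, 3, 0, 1, 2, 1, 0],
      [1, 2, 3, 1, 2, 0, 1, 2, 3, 0, 1, 2, 1, 0], [0, 1, 2, 3, 1, 2, 0, 1, 2, 3, 0, 1, 2, 1, 0]],
    [0, 1, 2, 4, 5, 6, 6, 7, 8, 9, 10, 10, 11, 11, 12, 13, 14, 15, 15, 16, 17, 19, 20, 21]),
  (1, [[], [1], [2, 1], [1, 2, 1], [3, 2, 1], [3, 1, 2, 1], [2, 3, 1, 2, 1], [1, 2, 3, 1, 2, 1]],
    [0, 1, 3, 4, 5, 6, 8, 9]),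
  (2, [[], [2], [3, 2]], [0, 2, 4]), (3, [[], [3]], [0, 2])]

theorem chkRho : chkGraphMap chevE6 graphMapE6 rho = true := by decide +kernel

theorem chkO : E6Data.tab.chkOrbits (fun s => (mapAt graphMapE6 s).1) rho orbs orbs = true := by
  decide +kernel

theorem chkA : E6Data.tab.chkA1 rho orbs = true := by decide +kernel

theorem chkLevels : E6Data.tab.chkChainT orbs orbs 1 (List.range 4) levels = true := by
  decide +kernel

theorem chkKer3 : E6Data.tab.chkKer 3
    [[4, 3, 5, 6, 4, 2], [3, 6, 6, 9, 6, 3], [5, 6, 10, 12, 8, 4], [6, 9, 12, 18, 12, 6],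
      [4, 6, 8, 12, 10, 5], [2, 3, 4, 6, 5, 4]] = true := by decide +kernel

theorem chkLong46 : E6Data.tab.chkLong orbs graphMapE6 39 46 46 [1] = true := by decide +kernel

theorem chkLong39 : E6Data.tab.chkLong orbs graphMapE6 39 46 39 [0] = true := by decide +kernel

theorem chkOrders : ∀ i j : Fin 4,
    E6Data.tab.chkOrder (orbs.getD i [] ++ orbs.getD j []) (CoxeterMatrix.F₄ i j) = true := by
  decide +kernel

theorem mapSimple : ∀ i : Fin 6, (mapAt graphMapE6 (chevE6.simple i)).2 = (1, 1) := by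
  decide +kernel

theorem cartE6 : ∀ i j : Fin 6, E6Data.tab.cart i (chevE6.simple j) =
    (![![2, 0, -1, 0, 0, 0], ![0, 2, 0, -1, 0, 0], ![-1, 0, 2, -1, 0, 0],
      ![0, -1, -1, 2, -1, 0], ![0, 0, 0, -1, 2, -1], ![0, 0, 0, 0, -1, 2]] :
      Fin 6 → Fin 6 → ℤ) i j := by
  decide +kernel

/-- The graph-field automorphism defining `²E₆(q)`. -/
structure Ctx (K : Type*) [Field K] [Fintype K] (q : ℕ) where
  hq : IsPrimePow q
  hK : Fintype.card K = q ^ 2
  /-- the field automorphism -/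
  φ : K →+* K
  hφ : ∀ x, φ x = x ^ q
  /-- the automorphism -/
  Φ : good_E6.Graph K
  hπ : ∀ r, (Φ.π r).val = (mapAt graphMapE6 r.val).1
  hρ : ∀ i, (Φ.ρ i).val = rho.getD i.val 0
  hf : ∀ r t, Φ.f r t = φ (((mapAt graphMapE6 r.val).2.1 : K) * t ^ (mapAt graphMapE6 r.val).2.2)

variable {K : Type*} [Field K] [Fintype K] {q : ℕ}

/-- The rank is not zero. -/
local instance neZeroRank : NeZero chevE6.rank := ⟨by decide⟩

/-- There are orbits. -/
local instance neZeroOrbs : NeZero orbs.length := ⟨by decide⟩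

theorem exists_ctx (hq : IsPrimePow q) (hK : Fintype.card K = q ^ 2) : Nonempty (Ctx K q) := by
  obtain ⟨φ, hφ⟩ := exists_frob hq hK two_pos
  obtain ⟨Φ, h1, h2, h3⟩ := good_E6.exists_graph (F := K) ⟨_, wits_E6⟩ (p := 0) (by simp)
    (fun h => absurd h (lt_irrefl 0)) chkGraphE6 chkRho φ
  exact ⟨⟨hq, hK, φ, hφ, Φ, h1, h2, h3⟩⟩

namespace Ctx

variable (C : Ctx K q)
include C

theorem f_simp (i : Fin chevE6.rank) (t : K) : C.Φ.f (good_E6.full.simp' i) t = t ^ q := by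
  rw [C.hf, show (good_E6.full.simp' i : ℕ) = chevE6.simple i from rfl, mapSimple i]
  simp [C.hφ]

theorem A : good_E6.A1Data C.Φ orbs := Good.a1Data C.Φ C.hπ C.hρ chkO chkA

theorem pow_qq (x : K) : (x ^ q) ^ q = x := by
  rw [← pow_mul, ← pow_two]; exact pow_q_pow C.hK x

theorem rho_eq : ∀ i : Fin chevE6.rank, C.Φ.ρ i = (![5, 1, 4, 3, 2, 0] : Fin 6 → Fin 6) i :=
  fun i => Fin.ext (by rw [C.hρ]; fin_cases i <;> rfl)

theorem mem_Cσ {c : Fin chevE6.rank → Kˣ} :
    c ∈ C.A.Cσ ↔ ∀ i : Fin 6, c ((![5, 1, 4, 3, 2, 0] : Fin 6 → Fin 6) i) = c i ^ q := by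
  rw [C.A.mem_Cσ]
  refine forall_congr' fun i => ?_
  rw [C.f_simp, C.rho_eq, ← Units.val_pow_eq_pow_val]
  exact Units.val_inj

theorem htor (c : Fin chevE6.rank → Kˣ)
    (h1 : E6Data.tab.hT K (C.Φ.σc c) = E6Data.tab.hT K c)
    (h2 : E6Data.tab.hT K (c * c) = 1) : E6Data.tab.hT K c ∈ C.A.torus := by
  have h3 : (C.Φ.σc c / c) ^ 3 = 1 := good_E6.ker_pow (F := K) (c := C.Φ.σc c / c) chkKer3 (by rw [map_div, h1, div_self'])
  have h4 : C.Φ.σc (c ^ 3) = c ^ 3 := by
    rw [div_pow, div_eq_one] at h3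
    exact (funext fun j => map_pow (C.Φ.fU _) _ _ : C.Φ.σc (c ^ 3) = C.Φ.σc c ^ 3).trans h3
  have := C.A.hT_mem_torus h4
  rwa [pow_succ, map_mul, pow_two, h2, one_mul] at this

/-- The twisted group. -/
noncomputable def Z : Good.Twisted C.Φ := C.A.twisted C.htor

theorem grp_eq : C.Z.G1 = twistedE6 K q := by
  have cw : ∀ (w : List (ℕ × K)) (g : GL chevE6.Idx K),
      (g : Matrix chevE6.Idx chevE6.Idx K) = chevE6.wordMat K w →
      g = (w.map fun p => good_E6.full.x p.1 p.2).prod := fun w g hg =>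
    Units.ext (hg.trans (good_E6.full.coe_word w).symm)
  have wc : ∀ (w : List (ℕ × K)) (g : GL chevE6.Idx K),
      g = (w.map fun p => good_E6.full.x p.1 p.2).prod →
      (g : Matrix chevE6.Idx chevE6.Idx K) = chevE6.wordMat K w := fun w g hg => by
    rw [hg, good_E6.full.coe_word]
  have tup1 : ∀ (J : Fin orbs.length) (a : Fin chevE6.rank), good_E6.oJ orbs J = [a] → C.Φ.ρ a = a →
      ∀ t : K, t ^ q = t → C.A.Tup J fun _ => t := by
    intro J a hJ _ t ht i _
    rw [C.f_simp, ht]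
  have tup2 : ∀ (J : Fin orbs.length) (a b : Fin chevE6.rank), good_E6.oJ orbs J = [a, b] → C.Φ.ρ a = b →
      C.Φ.ρ b = a → a ≠ b → ∀ t : K, C.A.Tup J fun i => if i = a then t else t ^ q := by
    intro J a b hJ ha hb hab t i hi
    rw [hJ] at hi
    simp only [List.mem_cons, List.not_mem_nil, or_false] at hi
    rcases hi with rfl | rfl
    · simp only [ha, hab.symm, if_true, if_false, C.f_simp]
    · simp only [hb, hab.symm, if_true, if_false, C.f_simp, C.pow_qq]
  refine le_antisymm ((Subgroup.closure_le _).mpr ?_) ((Subgroup.closure_le _).mpr ?_)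
  · rintro g ⟨J, t, ht, hg⟩
    refine Subgroup.subset_closure ?_
    have h0 := ht
    fin_cases J
    · have e : t 1 ^ q = t 1 := by
        have := h0 1 (List.mem_singleton_self _)
        rw [C.f_simp, C.rho_eq] at this
        exact this.symm
      rcases hg with rfl | rfl
      · exact ⟨_, Or.inl ⟨t 1, e, 46, by decide, rfl⟩, wc _ _ rfl⟩
      · exact ⟨_, Or.inl ⟨t 1, e, 25, by decide, rfl⟩, wc _ _ rfl⟩
    · have e : t 3 ^ q = t 3 := by
        have := h0 3 (List.mem_singleton_self _)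
        rw [C.f_simp, C.rho_eq] at this
        exact this.symm
      rcases hg with rfl | rfl
      · exact ⟨_, Or.inl ⟨t 3, e, 39, by decide, rfl⟩, wc _ _ rfl⟩
      · exact ⟨_, Or.inl ⟨t 3, e, 32, by decide, rfl⟩, wc _ _ rfl⟩
    · have e : t 4 = t 2 ^ q := by
        have := h0 2 (List.mem_cons_self ..)
        rwa [C.f_simp, C.rho_eq] at this
      rcases hg with rfl | rfl
      · refine ⟨_, Or.inr ⟨t 2, (42, 37), by decide, rfl⟩, wc _ _ ?_⟩
        rw [← e]; rfl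
      · refine ⟨_, Or.inr ⟨t 2, (29, 34), by decide, rfl⟩, wc _ _ ?_⟩
        rw [← e]; rfl
    · have e : t 5 = t 0 ^ q := by
        have := h0 0 (List.mem_cons_self ..)
        rwa [C.f_simp, C.rho_eq] at this
      rcases hg with rfl | rfl
      · refine ⟨_, Or.inr ⟨t 0, (56, 36), by decide, rfl⟩, wc _ _ ?_⟩
        rw [← e]; rfl
      · refine ⟨_, Or.inr ⟨t 0, (15, 35), by decide, rfl⟩, wc _ _ ?_⟩
        rw [← e]; rfl
  · rintro g ⟨w, hw, hg⟩
    rw [cw w g hg]
    rcases hw with ⟨t, ht, r, hr, rfl⟩ | ⟨t, ⟨r, r'⟩, hr, rfl⟩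
    · simp only [List.mem_cons, List.not_mem_nil, or_false] at hr
      rcases hr with rfl | rfl | rfl | rfl
      · exact C.A.PX_mem (tup1 0 1 rfl (by rw [C.rho_eq]; rfl) t ht)
      · exact C.A.PN_mem (tup1 0 1 rfl (by rw [C.rho_eq]; rfl) t ht)
      · exact C.A.PX_mem (tup1 1 3 rfl (by rw [C.rho_eq]; rfl) t ht)
      · exact C.A.PN_mem (tup1 1 3 rfl (by rw [C.rho_eq]; rfl) t ht)
    · simp only [List.mem_cons, List.not_mem_nil, or_false, Prod.mk.injEq] at hr
      rcases hr with ⟨rfl, rfl⟩ | ⟨rfl, rfl⟩ | ⟨rfl, rfl⟩ | ⟨rfl, rfl⟩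
      · exact C.A.PX_mem (tup2 3 0 5 rfl (by rw [C.rho_eq]; rfl) (by rw [C.rho_eq]; rfl)
          (by decide) t)
      · exact C.A.PN_mem (tup2 3 0 5 rfl (by rw [C.rho_eq]; rfl) (by rw [C.rho_eq]; rfl)
          (by decide) t)
      · exact C.A.PX_mem (tup2 2 2 4 rfl (by rw [C.rho_eq]; rfl) (by rw [C.rho_eq]; rfl)
          (by decide) t)
      · exact C.A.PN_mem (tup2 2 2 4 rfl (by rw [C.rho_eq]; rfl) (by rw [C.rho_eq]; rfl)
          (by decide) t)

theorem card_X (J : Fin orbs.length) :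
    Nat.card (C.Z.XJ J) = q ^ (orbs.getD J []).length := by
  have hsmall : ∀ (a : Fin chevE6.rank), good_E6.oJ orbs J = [a] → C.Φ.ρ a = a →
      Nat.card (C.Z.XJ J) = q := by
    intro a hJ hr
    refine ((C.A.card_XJ J (a := a) (by rw [hJ]; exact List.mem_singleton_self _)).trans ?_)
    refine Eq.trans (Nat.card_congr (Equiv.subtypeEquivRight fun x => ?_)) (card_fixed C.hq C.hK)
    constructor
    · rintro ⟨t, ht, rfl⟩
      have := ht a (by rw [hJ]; exact List.mem_singleton_self _)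
      rw [C.f_simp, hr] at this
      exact this.symm
    · intro hx
      exact ⟨fun _ => x, fun i _ => by rw [C.f_simp, hx], rfl⟩
  have hbig : ∀ (a b : Fin chevE6.rank), good_E6.oJ orbs J = [a, b] → C.Φ.ρ a = b → C.Φ.ρ b = a → a ≠ b →
      Nat.card (C.Z.XJ J) = q ^ 2 := by
    intro a b hJ ha hb hab
    refine ((C.A.card_XJ J (a := a) (by rw [hJ]; exact List.mem_cons_self ..)).trans ?_)
    rw [← C.hK, ← Nat.card_eq_fintype_card]
    refine Nat.card_congr (Equiv.subtypeUnivEquiv fun x => ?_)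
    refine ⟨fun i => if i = a then x else x ^ q, fun i hi => ?_, if_pos rfl⟩
    rw [hJ] at hi
    simp only [List.mem_cons, List.not_mem_nil, or_false] at hi
    rcases hi with rfl | rfl
    · simp only [ha, hab.symm, if_true, if_false, C.f_simp]
    · simp only [hb, hab.symm, if_true, if_false, C.f_simp, C.pow_qq]
  fin_cases J
  · rw [hsmall 1 rfl (by rw [C.rho_eq]; rfl)]; exact (pow_one q).symm
  · rw [hsmall 3 rfl (by rw [C.rho_eq]; rfl)]; exact (pow_one q).symm
  · exact hbig 2 4 rfl (by rw [C.rho_eq]; rfl) (by rw [C.rho_eq]; rfl) (by decide)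
  · exact hbig 0 5 rfl (by rw [C.rho_eq]; rfl) (by rw [C.rho_eq]; rfl) (by decide)

theorem card_U1 : Nat.card C.Z.U1 = q ^ 36 :=
  C.Z.card_U1 one_pos (fun J => by rw [one_mul]; exact C.A.card_inv J) C.card_X (N := 36) rfl

theorem card_torus : Nat.gcd 3 (q + 1) * Nat.card C.Z.H0 = (q - 1) ^ 4 * (q + 1) ^ 2 := by
  have h1 := C.A.card_torus
  have eC : Nat.card C.A.Cσ = Nat.card (Kˣ × Kˣ × {u : Kˣ // u ^ q = u} × {u : Kˣ // u ^ q = u}) := by
    refine Nat.card_congr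
      { toFun := fun c => (c.1 0, c.1 2, ⟨c.1 1, (C.mem_Cσ.mp c.2 1).symm⟩,
          ⟨c.1 3, (C.mem_Cσ.mp c.2 3).symm⟩)
        invFun := fun p => ⟨![p.1, p.2.2.1.1, p.2.1, p.2.2.2.1, p.2.1 ^ q, p.1 ^ q],
          C.mem_Cσ.mpr fun i => by
            fin_cases i
            · rfl
            · exact p.2.2.1.2.symm
            · rfl
            · exact p.2.2.2.2.symm
            · show p.2.1 = (p.2.1 ^ q) ^ q
              rw [← pow_mul, ← pow_two, units_pow_q_pow C.hK]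
            · show p.1 = (p.1 ^ q) ^ q
              rw [← pow_mul, ← pow_two, units_pow_q_pow C.hK]⟩
        left_inv := fun c => Subtype.ext (funext fun i => by
          fin_cases i
          · rfl
          · rfl
          · rfl
          · rfl
          · exact (C.mem_Cσ.mp c.2 2).symm
          · exact (C.mem_Cσ.mp c.2 0).symm)
        right_inv := fun p => rfl }
  have hker : ∀ c : Fin 6 → Kˣ, E6Data.tab.hT K c = 1 ↔ ∀ j : Fin 6,
      ∏ i : Fin 6, c i ^ (![![2, 0, -1, 0, 0, 0], ![0, 2, 0, -1, 0, 0], ![-1, 0, 2, -1, 0, 0],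
      ![0, -1, -1, 2, -1, 0], ![0, 0, 0, -1, 2, -1], ![0, 0, 0, 0, -1, 2]] :
      Fin 6 → Fin 6 → ℤ) i j = 1 := by
    intro c
    refine (good_E6.full.hT_eq_one_iff (F := K) c).trans ?_
    constructor
    · intro h j
      rw [← h j j.isLt]
      show _ = ∏ i : Fin 6, c i ^ E6Data.tab.cart i (chevE6.simple j)
      exact Finset.prod_congr rfl fun i _ => congrArg (c i ^ ·) (cartE6 i j).symm
    · intro h j hj
      rw [← h ⟨j, hj⟩]
      show (∏ i : Fin 6, c i ^ E6Data.tab.cart i (chevE6.simple j)) = _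
      exact Finset.prod_congr rfl fun i _ => congrArg (c i ^ ·) (cartE6 i ⟨j, hj⟩)
  have kerFacts : ∀ c : Fin 6 → Kˣ, c ∈ C.A.Cσ → E6Data.tab.hT K c = 1 →
      c 0 ^ 3 = 1 ∧ c 0 ^ (q + 1) = 1 ∧ c = ![c 0, 1, c 0 ^ 2, 1, c 0, c 0 ^ 2] := by
    intro c hc hk
    have h3 : c ^ 3 = 1 := good_E6.ker_pow chkKer3 hk
    have cube : ∀ i : Fin 6, c i ^ 3 = 1 := fun i => congrFun h3 i
    have e := (hker c).mp hk
    have e0 : c 2 = c 0 ^ 2 := by
      have := e 0
      simp [Fin.prod_univ_six] at this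
      exact (mul_inv_eq_one.mp this).symm
    have e5 : c 4 = c 5 ^ 2 := by
      have := e 5
      simp [Fin.prod_univ_six] at this
      exact inv_mul_eq_one.mp this
    have e2 : c 3 = 1 := by
      have := e 2
      simp [Fin.prod_univ_six, e0] at this
      rw [mul_inv_eq_one] at this
      rw [← this, ← pow_mul, inv_mul_eq_one, show 2 * 2 = 3 + 1 from rfl, pow_succ, cube 0, one_mul]
    have e1 : c 1 = 1 := by
      have h2 := e 1
      simp [Fin.prod_univ_six, e2] at h2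
      have := cube 1
      rwa [pow_succ, h2, one_mul] at this
    have e35 : c 5 = (c 0)⁻¹ := by
      have h2 := e 3
      simp [Fin.prod_univ_six, e2, e1, e0, e5, ← _root_.mul_inv_rev] at h2
      have h6 : (c 5 * c 0) ^ 2 = 1 := by rw [mul_pow]; exact h2
      have h7 : (c 5 * c 0) ^ 3 = 1 := by rw [mul_pow, cube 5, cube 0, one_mul]
      rw [pow_succ, h6, one_mul] at h7
      exact eq_inv_of_mul_eq_one_left h7
    have hinv : (c 0)⁻¹ = c 0 ^ 2 :=
      inv_eq_of_mul_eq_one_right (by rw [← pow_succ']; exact cube 0)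
    refine ⟨cube 0, ?_, funext fun i => ?_⟩
    · have h5 : c 5 = c 0 ^ q := C.mem_Cσ.mp hc 0
      rw [pow_succ, ← h5, e35, inv_mul_cancel]
    · fin_cases i
      · rfl
      · exact e1
      · exact e0
      · exact e2
      · show c 4 = c 0
        rw [e5, e35, hinv, ← pow_mul, show 2 * 2 = 3 + 1 from rfl, pow_succ, cube 0, one_mul]
      · show c 5 = c 0 ^ 2
        rw [e35, hinv]
  have eK : Nat.card {c : C.A.Cσ // E6Data.tab.hT K (c : Fin chevE6.rank → Kˣ) = 1} =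
      Nat.card {u : Kˣ // u ^ Nat.gcd 3 (q + 1) = 1} := by
    have hu3 : ∀ u : {u : Kˣ // u ^ Nat.gcd 3 (q + 1) = 1}, u.1 ^ 3 = 1 := fun u => by
      obtain ⟨k, hk⟩ := Nat.gcd_dvd_left 3 (q + 1)
      exact (congrArg (u.1 ^ ·) hk).trans (by rw [pow_mul, u.2, one_pow])
    have hu2 : ∀ u : {u : Kˣ // u ^ Nat.gcd 3 (q + 1) = 1}, u.1 ^ q = u.1 ^ 2 := fun u => by
      obtain ⟨k, hk⟩ := Nat.gcd_dvd_right 3 (q + 1)
      rw [← mul_left_inj u.1, ← pow_succ, ← pow_succ, hu3 u]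
      exact (congrArg (u.1 ^ ·) hk).trans (by rw [pow_mul, u.2, one_pow])
    refine Nat.card_congr
      { toFun := fun c => ⟨c.1.1 0, pow_gcd_eq_one.mpr ⟨(kerFacts _ c.1.2 c.2).1,
          (kerFacts _ c.1.2 c.2).2.1⟩⟩
        invFun := fun u => ⟨⟨![u.1, 1, u.1 ^ 2, 1, u.1, u.1 ^ 2], ?_⟩, ?_⟩
        left_inv := fun c => Subtype.ext (Subtype.ext (kerFacts _ c.1.2 c.2).2.2.symm)
        right_inv := fun u => rfl }
    · refine C.mem_Cσ.mpr fun i => ?_
      fin_cases i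
      · exact (hu2 u).symm
      · exact (one_pow q).symm
      · show u.1 = (u.1 ^ 2) ^ q
        rw [← pow_mul, mul_comm, pow_mul, hu2, ← pow_mul, show 2 * 2 = 3 + 1 from rfl, pow_succ,
          hu3, one_mul]
      · exact (one_pow q).symm
      · exact (hu2 u).symm
      · show u.1 = (u.1 ^ 2) ^ q
        rw [← pow_mul, mul_comm, pow_mul, hu2, ← pow_mul, show 2 * 2 = 3 + 1 from rfl, pow_succ,
          hu3, one_mul]
    · refine (hker _).mpr fun j => ?_
      have h := hu3 u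
      fin_cases j <;> simp [Fin.prod_univ_six] <;>
        simp only [← pow_succ, ← pow_succ', ← pow_mul, ← _root_.mul_inv_rev, mul_inv_eq_one,
          inv_mul_eq_one, inv_eq_one, h] <;> simp [pow_succ, ← mul_assoc, h]
  rw [eK, card_pow_eq_one, units_card C.hK, eC] at h1
  simp only [Nat.card_prod, units_card C.hK, card_units_fixed C.hq C.hK] at h1
  have hg : Nat.gcd (q ^ 2 - 1) (Nat.gcd 3 (q + 1)) = Nat.gcd 3 (q + 1) :=
    Nat.gcd_eq_right (dvd_trans (Nat.gcd_dvd_right 3 (q + 1)) ⟨q - 1, by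
      rw [← Nat.sq_sub_sq, one_pow]⟩)
  rw [hg] at h1
  have e : q ^ 2 - 1 = (q + 1) * (q - 1) := by rw [← Nat.sq_sub_sq, one_pow]
  rw [mul_comm, show C.Z.H0 = C.A.torus from rfl, h1, e]
  ring

theorem hM (i j : Fin C.Z.nJ) : orderOf (C.Z.w i * C.Z.w j) = CoxeterMatrix.F₄ i j := by
  refine good_E6.orderOf_pw_mul _ _ ?_
  rw [show (C.Z.word i).map Fin.val = orbs.getD i [] from C.A.spec.map_word i,
    show (C.Z.word j).map Fin.val = orbs.getD j [] from C.A.spec.map_word j]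
  exact chkOrders i j

theorem exists_weyl : ∃ φ : (chevE6.monomialSubgroup K ⊓ C.Z.G1 : Subgroup (GL chevE6.Idx K)) →*
      (CoxeterMatrix.F₄).Group, Function.Surjective φ ∧
    φ.ker = (chevE6.diagonalSubgroup K ⊓ C.Z.G1).subgroupOf
      (chevE6.monomialSubgroup K ⊓ C.Z.G1) :=
  C.Z.exists_coxeter C.A.xNontrivial CoxeterMatrix.F₄ C.hM

theorem connected : C.Z.Connected :=
  C.Z.connected_of C.hM (by
    show ∀ P : Fin 4 → Bool, (∃ a, P a = true) → (∃ b, P b = false) →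
      ∃ a b, P a = true ∧ P b = false ∧ 2 < CoxeterMatrix.F₄ a b
    have l01 : 2 < CoxeterMatrix.F₄ 0 1 ∧ 2 < CoxeterMatrix.F₄ 1 0 := by decide +kernel
    have l12 : 2 < CoxeterMatrix.F₄ 1 2 ∧ 2 < CoxeterMatrix.F₄ 2 1 := by decide +kernel
    have l23 : 2 < CoxeterMatrix.F₄ 2 3 ∧ 2 < CoxeterMatrix.F₄ 3 2 := by decide +kernel
    rintro P ⟨a, ha⟩ ⟨b, hb⟩
    cases h0 : P 0 <;> cases h1 : P 1 <;> cases h2 : P 2 <;> cases h3 : P 3 <;>
      first
        | (exfalso; fin_cases a <;> simp_all; done)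
        | (exfalso; fin_cases b <;> simp_all; done)
        | exact ⟨0, 1, h0, h1, l01.1⟩
        | exact ⟨1, 0, h1, h0, l01.2⟩
        | exact ⟨1, 2, h1, h2, l12.1⟩
        | exact ⟨2, 1, h2, h1, l12.2⟩
        | exact ⟨2, 3, h2, h3, l23.1⟩
        | exact ⟨3, 2, h3, h2, l23.2⟩)

theorem commutator_top : commutator C.Z.G1 = ⊤ := by
  obtain ⟨a, ha⟩ := exists_sq_ne_one C.hq C.hK le_rfl
  have haq : (a ^ q) ^ 2 ≠ 1 := by
    intro h
    refine ha (Units.ext ?_)
    have h' := congrArg (fun u : Kˣ => (u : K)) h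
    simp only [Units.val_pow_eq_pow_val, Units.val_one] at h' ⊢
    refine C.φ.injective ?_
    rw [map_one, C.hφ, ← pow_mul, mul_comm, pow_mul]
    exact h'
  have small : ∀ (J : Fin orbs.length) (i : Fin chevE6.rank), good_E6.oJ orbs J = [i] → C.Φ.ρ i = i →
      (∀ t : K, C.φ t = t → good_E6.full.x (chevE6.simple i) t ∈ ⁅C.A.grp, C.A.grp⁆) →
      C.Z.XJ J ≤ ⁅C.A.grp, C.A.grp⁆ := by
    intro J i hJ hr hx u hu
    obtain ⟨t, ht, rfl⟩ := C.A.mem_XJ.mp hu
    have e := ht i (by rw [hJ]; exact List.mem_singleton_self _)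
    rw [C.f_simp, hr] at e
    rw [Good.PX, hJ]
    simpa using hx (t i) (by rw [C.hφ, ← e])
  have big : ∀ (J : Fin orbs.length) (i k : Fin chevE6.rank), good_E6.oJ orbs J = [i, k] → C.Φ.ρ i = k →
      C.Φ.ρ k = i → i ≠ k → E6Data.tab.cart i (chevE6.simple k) = 0 →
      E6Data.tab.cart k (chevE6.simple i) = 0 → E6Data.tab.cart i (chevE6.simple i) = 2 →
      E6Data.tab.cart k (chevE6.simple k) = 2 → C.Z.XJ J ≤ ⁅C.A.grp, C.A.grp⁆ := by
    intro J i k hJ hi hk hik c1 c2 c3 c4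
    set c : Fin chevE6.rank → Kˣ := fun l => if l = i then a else a ^ q with hc
    have hcm : C.A.res J c ∈ C.A.Cσ := C.A.res_mem fun l hl => by
      rw [hJ] at hl
      simp only [List.mem_cons, List.not_mem_nil, or_false] at hl
      rcases hl with rfl | rfl
      · simp only [hc, hi, hik.symm, if_true, if_false, C.f_simp, Units.val_pow_eq_pow_val]
      · simp only [hc, hk, hik.symm, if_true, if_false, C.f_simp, Units.val_pow_eq_pow_val,
          C.pow_qq]
    have hchi : ∀ l ∈ good_E6.oJ orbs J,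
        E6Data.tab.chi (chevE6.simple l) (C.A.res J c) = c l ^ 2 := by
      intro l hl
      show ∏ m : Fin 6, C.A.res J c m ^ E6Data.tab.cart m (chevE6.simple l) = _
      have hl' := hl
      rw [hJ] at hl'
      simp only [List.mem_cons, List.not_mem_nil, or_false] at hl'
      refine (Fintype.prod_eq_single l (fun m hml => ?_)).trans ?_
      swap
      · simp only [Good.A1Data.res, if_pos hl]
        rcases hl' with rfl | rfl
        · rw [c3]; simp [zpow_two, pow_two]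
        · rw [c4]; simp [zpow_two, pow_two]
      · simp only [Good.A1Data.res, hJ, List.mem_cons, List.not_mem_nil, or_false]
        by_cases hm : m = i ∨ m = k
        · rw [if_pos hm]
          rcases hl' with rfl | rfl <;> rcases hm with rfl | rfl
          · exact absurd rfl hml
          · rw [c2, _root_.zpow_zero]
          · rw [c1, _root_.zpow_zero]
          · exact absurd rfl hml
        · rw [if_neg hm, _root_.one_zpow]
    refine C.A.XJ_le_commutator_of_torus J hcm fun l hl h1 => ?_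
    rw [hchi l hl] at h1
    rw [hJ] at hl
    simp only [List.mem_cons, List.not_mem_nil, or_false] at hl
    rcases hl with rfl | rfl
    · exact ha (Units.ext (by simpa [hc] using h1))
    · exact haq (Units.ext (by simpa [hc, hik.symm] using h1))
  have hX : ∀ J, C.Z.XJ J ≤ ⁅C.A.grp, C.A.grp⁆ := by
    intro J
    fin_cases J
    · exact small 0 1 rfl (by rw [C.rho_eq]; rfl) fun t ht =>
        C.A.long_mem_commutator C.htor C.hπ C.φ C.hf
          chkLong46 ht
    · exact small 1 3 rfl (by rw [C.rho_eq]; rfl) fun t ht =>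
        C.A.long_mem_commutator C.htor C.hπ C.φ C.hf chkLong39 ht
    · exact big 2 2 4 rfl (by rw [C.rho_eq]; rfl) (by rw [C.rho_eq]; rfl) (by decide)
        (cartE6 2 4) (cartE6 4 2) (cartE6 2 2) (cartE6 4 4)
    · exact big 3 0 5 rfl (by rw [C.rho_eq]; rfl) (by rw [C.rho_eq]; rfl) (by decide)
        (cartE6 0 5) (cartE6 5 0) (cartE6 0 0) (cartE6 5 5)
  exact C.Z.commutator_top hX fun J => C.A.n_mem_commutator J (hX J)

theorem isSimple : IsSimpleGroup C.Z.G1 ∧ ¬ IsMulCommutative C.Z.G1 :=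
  C.Z.isSimple_G1 C.A.xNontrivial C.A.faithful C.connected (show 0 < orbs.length by decide) C.commutator_top

theorem card_group : Nat.gcd 3 (q + 1) * Nat.card C.Z.G1 =
    q ^ 36 * (q ^ 2 - 1) * (q ^ 5 + 1) * (q ^ 6 - 1) * (q ^ 8 - 1) * (q ^ 9 + 1) *
      (q ^ 12 - 1) := by
  rw [C.Z.card_G1 one_pos (fun J => by rw [one_mul]; exact C.A.card_inv J) C.card_X,
    show List.range C.Z.nJ = List.range 4 from rfl,
    C.Z.poly_chain C.A.hasData one_pos levels _ chkLevels, C.card_U1]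
  rw [show ∀ a b c : ℕ, Nat.gcd 3 (q + 1) * (a * b * c) = a * (Nat.gcd 3 (q + 1) * b) * c from
    fun a b c => by ring, C.card_torus]
  have h1 : 1 ≤ q := C.hq.pos
  obtain ⟨r, rfl⟩ : ∃ r, q = r + 1 := ⟨q - 1, by omega⟩
  simp only [levels, List.map_cons, List.map_nil, List.prod_cons, List.prod_nil, List.sum_cons,
    List.sum_nil]
  zify [Nat.one_le_pow _ (r + 1) (by omega)]
  push_cast
  ring

end Ctx

end CfsgLib.Chev.E6Tw
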