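import Cfsg.Agent.Chev.TwistedDiag
import Cfsg.Agent.Chev.TwistedE6
import Cfsg.Agent.ChevAut.FieldCard

/-!
The outer automorphisms of `²E₆(q)`: diagonal and field automorphisms.
-/

set_option autoImplicit false
set_option linter.style.haveILetI false
set_option linter.unusedSectionVars false

namespace CfsgLib.Chev.E6Tw

open Cfsg.Lie Matrix Tab
open scoped MatrixGroups

theorem negWord : ∀ s < 72,
    E6Data.tab.wordT (List.replicate 6 [1, 3, 2, 4, 0, 5]).flatten s =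
      negR chevE6 (mapAt graphMapE6 s).1 := by
  decide +kernel

/-- The fundamental reflections of two orbits commute. -/
def commW (a b : ℕ) : Bool :=
  allBelow (fun s => Nat.beq (E6Data.tab.wordT (orbs.getD a [] ++ orbs.getD b []) s)
    (E6Data.tab.wordT (orbs.getD b [] ++ orbs.getD a []) s)) chevE6.nroots

theorem commTab : commW 0 1 = false ∧ commW 1 0 = false ∧ commW 1 2 = false ∧
    commW 0 2 = true ∧ commW 0 3 = true ∧ commW 1 3 = true ∧
    commW 2 3 = false := by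
  decide +kernel

/-- The rank is not zero. -/
local instance neZeroRankOut : NeZero chevE6.rank := ⟨by decide⟩

variable {K : Type*} [Field K] [Fintype K] {q : ℕ}

namespace Ctx

variable (C : Ctx K q)
include C

/-- The twisted group, unfolded. -/
noncomputable abbrev W (C : Ctx K q) : Good.Twisted C.Φ := C.A.twisted C.htor

/-- The orbits as indices. -/
def jj (C : Ctx K q) (j : Fin 4) : Fin C.W.nJ := ⟨j.val, j.isLt⟩

theorem jj_cases (J : Fin C.W.nJ) : J = C.jj 0 ∨ J = C.jj 1 ∨ J = C.jj 2 ∨ J = C.jj 3 := by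
  obtain ⟨j, hj⟩ := J
  have : j < 4 := hj
  rcases (by omega : j = 0 ∨ j = 1 ∨ j = 2 ∨ j = 3) with rfl | rfl | rfl | rfl
  exacts [Or.inl rfl, Or.inr (Or.inl rfl), Or.inr (Or.inr (Or.inl rfl)),
    Or.inr (Or.inr (Or.inr rfl))]

/-- A word for the longest element. -/
def w0 (C : Ctx K q) : List (Fin C.W.nJ) :=
  (List.replicate 6 [C.jj 0, C.jj 1, C.jj 2, C.jj 3]).flatten

theorem w0_neg : C.W.IsMinusOne C.w0 := by
  refine C.W.isMinusOne_of_negF_pi fun s => Fin.ext ?_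
  rw [Good.Twisted.pwT, good_E6.pw_apply]
  show E6Data.tab.wordT ((C.w0.flatMap (good_E6.oJ orbs)).map Fin.val) s.val =
    negR chevE6 (C.Φ.π s).val
  rw [show (C.w0.flatMap (good_E6.oJ orbs)).map Fin.val =
    (List.replicate 6 [1, 3, 2, 4, 0, 5]).flatten from rfl, C.hπ]
  exact negWord s.val s.isLt

/-! ### The double cosets of the orbits are fixed -/

theorem pair_comm_iff (a b : Fin C.W.nJ) :
    C.W.pwT [a, b] = C.W.pwT [b, a] ↔ commW a.val b.val = true := by
  have hv : ∀ (a b : Fin C.W.nJ) (s : Fin chevE6.nroots), (C.W.pwT [a, b] s).val =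
      E6Data.tab.wordT (orbs.getD a.val [] ++ orbs.getD b.val []) s.val := fun a b s => by
    rw [Good.Twisted.pwT, good_E6.pw_apply,
      show ([a, b].flatMap C.W.word).map Fin.val =
        (good_E6.oJ orbs a).map Fin.val ++ (good_E6.oJ orbs b).map Fin.val by
          simp only [List.flatMap_cons, List.flatMap_nil, List.append_nil, List.map_append]
          rfl,
      show (good_E6.oJ orbs a).map Fin.val = orbs.getD a.val [] from C.A.spec.map_word a,
      show (good_E6.oJ orbs b).map Fin.val = orbs.getD b.val [] from C.A.spec.map_word b]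
  rw [commW, allBelow_iff]
  constructor
  · intro h s hs
    have := congrArg (fun σ : Equiv.Perm _ => (σ ⟨s, hs⟩).val) h
    simp only [hv] at this
    exact Nat.beq_eq.mpr this
  · intro h
    exact Equiv.ext fun s => Fin.ext (by rw [hv, hv]; exact Nat.beq_eq.mp (h s.val s.isLt))

/-- The length of an orbit. -/
def kJ (C : Ctx K q) (J : Fin C.W.nJ) : ℕ := (orbs.getD J.val []).length

theorem cell_image {α : MulAut C.W.G1} (hα : C.W.FixBoth C.w0 α) (J : Fin C.W.nJ) :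
    ∃ a, C.kJ a = C.kJ J ∧ ∀ z : C.W.G1,
      C.W.Cell [a] (α z : GL chevE6.Idx K) ↔ C.W.Cell [J] (z : GL chevE6.Idx K) := by
  obtain ⟨L, hL, hc⟩ := C.W.aut_cell hα C.A.xNontrivial [J]
  have hcard : Nat.card {g : C.W.G1 // C.W.Cell [J] g} = Nat.card {g : C.W.G1 // C.W.Cell L g} :=
    Nat.card_congr (α.toEquiv.subtypeEquiv fun g => (hc g).symm)
  rw [C.W.card_cell, C.W.card_cell] at hcard
  have hUT := Nat.eq_of_mul_eq_mul_left (Nat.mul_pos Nat.card_pos Nat.card_pos) hcard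
  have hJ : C.W.Red [J] := by
    have := Good.Twisted.Red.step (Z := C.W) [] J Good.Twisted.Red.nil fun i _ => by
      rw [C.W.pwT_nil]
      exact good_E6.pos_simp i
    exact this
  have hX : ∀ J, Nat.card (C.W.XJ J) = q ^ C.kJ J := C.card_X
  rw [C.W.card_UT_prod hX hJ, C.W.card_UT_prod hX hL] at hUT
  have hs : (L.map C.kJ).sum = C.kJ J := by
    have := Nat.pow_right_injective C.hq.two_le hUT
    simp only [List.map_cons, List.map_nil, List.sum_cons, List.sum_nil, add_zero] at this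
    exact this.symm
  have hk : ∀ a, C.kJ a = if a = C.jj 0 ∨ a = C.jj 1 then 1 else 2 := fun a => by
    rcases C.jj_cases a with rfl | rfl | rfl | rfl
    · rw [if_pos (Or.inl rfl)]; rfl
    · rw [if_pos (Or.inr rfl)]; rfl
    · rw [if_neg (by simp [jj, Fin.ext_iff])]; rfl
    · rw [if_neg (by simp [jj, Fin.ext_iff])]; rfl
  have hpos : ∀ a, 1 ≤ C.kJ a ∧ C.kJ a ≤ 2 := fun a => by rw [hk]; split_ifs <;> omega
  rcases L with _ | ⟨b, _ | ⟨a, _ | ⟨c, L⟩⟩⟩
  · have := hpos J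
    simp only [List.map_nil, List.sum_nil] at hs
    omega
  · exact ⟨b, by simpa using hs, hc⟩
  · exfalso
    have hne : b ≠ a := fun e => by
      rw [e] at hL
      exact Good.Twisted.Red.no_repeat C.W (L := []) hL
    set g := α (C.W.nG J)
    have h1 : C.W.Cell [b, a] (g : GL chevE6.Idx K) := (hc _).mpr (by
      show C.W.Cell [J] (C.W.n J)
      rw [← C.W.nT_single J]
      exact C.W.cell_nT [J])
    have h2 : C.W.Cell [b, a] (g : GL chevE6.Idx K)⁻¹ := by
      rw [← Subgroup.coe_inv, show g⁻¹ = α (C.W.nG J)⁻¹ from (map_inv α _).symm]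
      refine (hc _).mpr (C.W.cell_inv_single ?_)
      show C.W.Cell [J] (C.W.n J)
      rw [← C.W.nT_single J]
      exact C.W.cell_nT [J]
    have e := (C.pair_comm_iff a b).mp
      (C.W.cell_unique (C.W.cell_inv_pair hne h1) h2)
    simp only [List.map_cons, List.map_nil, List.sum_cons, List.sum_nil, add_zero] at hs
    have k0 : C.kJ (C.jj 0) = 1 := rfl
    have k1 : C.kJ (C.jj 1) = 1 := rfl
    have k2 : C.kJ (C.jj 2) = 2 := rfl
    have k3 : C.kJ (C.jj 3) = 2 := rfl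
    have := hpos J
    have := hpos a
    have := hpos b
    rcases C.jj_cases a with rfl | rfl | rfl | rfl <;>
      rcases C.jj_cases b with rfl | rfl | rfl | rfl <;>
      first
        | exact hne rfl
        | (revert e; simp [jj, commTab.1, commTab.2.1]; done)
        | omega
  · exfalso
    have := hpos J
    have := hpos b
    have := hpos a
    have := hpos c
    simp only [List.map_cons, List.sum_cons] at hs
    omega

theorem cell_fixed {α : MulAut C.W.G1} (hα : C.W.FixBoth C.w0 α) (J : Fin C.W.nJ)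
    (z : C.W.G1) : C.W.Cell [J] (α z : GL chevE6.Idx K) ↔ C.W.Cell [J] (z : GL chevE6.Idx K) := by
  choose π hπk hπ using C.cell_image hα
  suffices h : π J = J by
    have := hπ J z
    rwa [h] at this
  have hn : ∀ J, C.W.Cell [J] ((C.W.nG J : C.W.G1) : GL chevE6.Idx K) := fun J => by
    show C.W.Cell [J] (C.W.n J)
    rw [← C.W.nT_single J]
    exact C.W.cell_nT [J]
  have hinj : ∀ a b, a ≠ b → π a ≠ π b := fun a b hab e => by
    have h := (hπ a (C.W.nG b)).mp (by rw [e]; exact (hπ b _).mpr (hn b))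
    have e' := C.W.cell_unique h (hn b)
    rw [C.W.pwT_single, C.W.pwT_single] at e'
    obtain ⟨s, hs⟩ := C.W.invSet_w_nonempty a
    have hs' := mem_inv.mp hs
    exact C.W.disjoint_flip hab (s := s) ⟨s.isLt, hs'.1, hs'.2⟩
      ⟨s.isLt, hs'.1, by rw [← e']; exact hs'.2⟩
  have hcomm : ∀ a b, a ≠ b → commW a.val b.val = true →
      commW (π a).val (π b).val = true := fun a b hab h => by
    refine (C.pair_comm_iff _ _).mp ?_
    obtain ⟨k, hk, ek⟩ := C.W.nT_congr ((C.pair_comm_iff a b).mpr h)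
    have eG : C.W.nG a * C.W.nG b = ⟨k, C.W.H0_le hk⟩ * (C.W.nG b * C.W.nG a) := Subtype.ext (by
      simpa [Good.Twisted.nT, Good.Twisted.nG] using ek)
    have h1 : C.W.Cell [π a, π b] ((α (C.W.nG a * C.W.nG b) : C.W.G1) : GL chevE6.Idx K) := by
      rw [map_mul, Subgroup.coe_mul]
      exact C.W.cell_mul (hinj a b hab) ((hπ a _).mpr (hn a)) ((hπ b _).mpr (hn b))
    have h2 : C.W.Cell [π b, π a] ((α (C.W.nG a * C.W.nG b) : C.W.G1) : GL chevE6.Idx K) := by
      rw [eG, map_mul, map_mul, Subgroup.coe_mul, Subgroup.coe_mul]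
      refine C.W.cell_mul_left ⟨1, one_mem _, _,
        (C.W.aut_H0 C.w0_neg hα C.A.xNontrivial).mpr hk, (one_mul _).symm⟩ ?_
      exact C.W.cell_mul (hinj b a hab.symm) ((hπ b _).mpr (hn b)) ((hπ a _).mpr (hn a))
    exact C.W.cell_unique h1 h2
  have k0 : C.kJ (C.jj 0) = 1 := rfl
  have k1 : C.kJ (C.jj 1) = 1 := rfl
  have k2 : C.kJ (C.jj 2) = 2 := rfl
  have k3 : C.kJ (C.jj 3) = 2 := rfl
  have small : ∀ a, C.kJ (π a) = 1 → π a = C.jj 0 ∨ π a = C.jj 1 := fun a h => by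
    rcases C.jj_cases (π a) with e | e | e | e <;> simp_all
  have large : ∀ a, C.kJ (π a) = 2 → π a = C.jj 2 ∨ π a = C.jj 3 := fun a h => by
    rcases C.jj_cases (π a) with e | e | e | e <;> simp_all
  have ne : ∀ a b : Fin 4, a ≠ b → C.jj a ≠ C.jj b := fun a b h e => h (Fin.ext (by
    simpa [jj] using congrArg Fin.val e))
  have i01 := hinj _ _ (ne 0 1 (by decide))
  have i23 := hinj _ _ (ne 2 3 (by decide))
  have c02 := hcomm _ _ (ne 0 2 (by decide)) commTab.2.2.2.1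
  have c03 := hcomm _ _ (ne 0 3 (by decide)) commTab.2.2.2.2.1
  have c13 := hcomm _ _ (ne 1 3 (by decide)) commTab.2.2.2.2.2.1
  have hno : commW (C.jj 1).val (C.jj 2).val = false := commTab.2.2.1
  have p0 := small _ ((hπk _).trans k0)
  have p1 := small _ ((hπk _).trans k1)
  have p2 := large _ ((hπk _).trans k2)
  have p3 := large _ ((hπk _).trans k3)
  have e0 : π (C.jj 0) = C.jj 0 := by
    refine p0.resolve_right fun e => ?_
    rw [e] at c02 c03
    rcases p2 with e2 | e2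
    · rw [e2, hno] at c02
      exact Bool.false_ne_true c02
    · rcases p3 with e3 | e3
      · rw [e3, hno] at c03
        exact Bool.false_ne_true c03
      · exact i23 (e2.trans e3.symm)
  have e1 : π (C.jj 1) = C.jj 1 := p1.resolve_left fun e => i01 (e0.trans e.symm)
  have e3 : π (C.jj 3) = C.jj 3 := by
    refine p3.resolve_left fun e => ?_
    rw [e1, e, hno] at c13
    exact Bool.false_ne_true c13
  have e2 : π (C.jj 2) = C.jj 2 := p2.resolve_right fun e => i23 (e.trans e3.symm)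
  rcases C.jj_cases J with rfl | rfl | rfl | rfl
  exacts [e0, e1, e2, e3]

/-! ### The values at the fundamental roots -/

theorem comm_field (σ : K ≃+* K) (i : Fin chevE6.rank) (x : K) :
    σ (C.Φ.f (good_E6.full.simp' i) x) = C.Φ.f (good_E6.full.simp' i) (σ x) := by
  rw [C.f_simp, C.f_simp, map_pow]

theorem tup_add {J : Fin orbs.length} {t s : Fin chevE6.rank → K} (ht : C.A.Tup J t)
    (hs : C.A.Tup J s) : C.A.Tup J (t + s) := fun i hi => by
  rw [Pi.add_apply, Pi.add_apply, ht i hi, hs i hi, C.Φ.f_add]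

/-- The value occurs at the node in a fixed root element. -/
def InDom (C : Ctx K q) (i : Fin chevE6.rank) (x : K) : Prop :=
  ∃ J t, i ∈ good_E6.oJ orbs J ∧ C.A.Tup J t ∧ t i = x

theorem inDom_two {J : Fin orbs.length} {a b : Fin chevE6.rank}
    (hJ : good_E6.oJ orbs J = [a, b]) (ha : C.Φ.ρ a = b) (hb : C.Φ.ρ b = a) (hab : a ≠ b)
    (x : K) : C.InDom a x := by
  refine ⟨J, fun i => if i = a then x else x ^ q, by rw [hJ]; exact List.mem_cons_self ..,
    fun i hi => ?_, if_pos rfl⟩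
  rw [hJ] at hi
  simp only [List.mem_cons, List.not_mem_nil, or_false] at hi
  rcases hi with rfl | rfl
  · simp only [ha, hab.symm, if_true, if_false, C.f_simp]
  · simp only [hb, hab.symm, if_true, if_false, C.f_simp, C.pow_qq]

theorem inDom_zero (x : K) : C.InDom (0 : Fin 6) x :=
  C.inDom_two (J := (3 : Fin 4)) (a := (0 : Fin 6)) (b := (5 : Fin 6)) rfl
    (Fin.ext (C.hρ _)) (Fin.ext (C.hρ _))
    (show (0 : Fin 6) ≠ 5 by decide) x

theorem inDom_twoNode (x : K) : C.InDom (2 : Fin 6) x :=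
  C.inDom_two (J := (2 : Fin 4)) (a := (2 : Fin 6)) (b := (4 : Fin 6)) rfl
    (Fin.ext (C.hρ _)) (Fin.ext (C.hρ _))
    (show (2 : Fin 6) ≠ 4 by decide) x

theorem inDom_swap {x : K} {J J' : Fin orbs.length} {i k : Fin chevE6.rank}
    (hJ : good_E6.oJ orbs J = [i]) (hJ' : good_E6.oJ orbs J' = [k]) (h : C.InDom i x) :
    C.InDom k x := by
  have hr : ∀ {J : Fin orbs.length} {i : Fin chevE6.rank}, good_E6.oJ orbs J = [i] →
      C.Φ.ρ i = i := fun {J i} h => by
    have := C.A.rho_mem J i (by rw [h]; exact List.mem_singleton_self _)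
    rw [h] at this
    exact List.mem_singleton.mp this
  obtain ⟨J₁, t, hi, ht, rfl⟩ := h
  have e := ht i hi
  rw [hr hJ, C.f_simp] at e
  refine ⟨J', fun _ => t i, by rw [hJ']; exact List.mem_singleton_self _, fun l _ => ?_, rfl⟩
  rw [C.f_simp]
  exact e

/-- An orbit is linked to a node by a Cartan integer. -/
def Link (_C : Ctx K q) (J : Fin orbs.length) (i k : Fin chevE6.rank) : Prop :=
  i ∈ good_E6.oJ orbs J ∧ E6Data.tab.cart i (chevE6.simple k) = -1 ∧
    ∀ l ∈ good_E6.oJ orbs J, l ≠ i → E6Data.tab.cart l (chevE6.simple k) = 0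

theorem chi_res {J : Fin orbs.length} {i k : Fin chevE6.rank} (h : C.Link J i k)
    (d : Fin chevE6.rank → Kˣ) :
    E6Data.tab.chi (F := K) (chevE6.simple k) (C.A.res J d) = (d i)⁻¹ := by
  show ∏ l : Fin chevE6.rank, C.A.res J d l ^ E6Data.tab.cart l (chevE6.simple k) = _
  rw [Fintype.prod_eq_single i fun l hl => ?_]
  · rw [Good.A1Data.res, if_pos h.1, h.2.1, _root_.zpow_neg_one]
  · by_cases hm : l ∈ good_E6.oJ orbs J
    · rw [h.2.2 l hm hl, _root_.zpow_zero]
    · rw [Good.A1Data.res, if_neg hm, _root_.one_zpow]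

theorem surj_of_link {J : Fin orbs.length} {i k : Fin chevE6.rank} (h : C.Link J i k) {x : K}
    (hd : C.InDom i x) (hx : x ≠ 0) :
    ∃ c : C.A.Cσ, ((C.A.chiHom c).1 k : K) = x := by
  classical
  obtain ⟨J', t, hi, ht, rfl⟩ := hd
  obtain rfl := C.A.spec.orb_disj J' J i hi h.1
  have h0 := C.A.tup_ne_zero ht hi hx
  let d : Fin chevE6.rank → Kˣ := fun l => if hl : t l ≠ 0 then Units.mk0 (t l) hl else 1
  have hd : ∀ l ∈ good_E6.oJ orbs J', (d l : K) = t l := fun l hl => by simp [d, h0 l hl]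
  refine ⟨⟨(C.A.res J' d)⁻¹, inv_mem (C.A.res_mem fun l hl => ?_)⟩, ?_⟩
  · rw [hd l hl, hd _ (C.A.rho_mem J' l hl)]
    exact ht l hl
  · show ((E6Data.tab.chi (F := K) (chevE6.simple k) (C.A.res J' d)⁻¹ : Kˣ) : K) = t i
    rw [map_inv, C.chi_res h, inv_inv, hd i hi]

/-- The automorphism moves a value at a node to another one. -/
def Val (C : Ctx K q) (α : MulAut C.W.G1) (i : Fin chevE6.rank) (x y : K) : Prop :=
  ∃ (J : Fin orbs.length) (t t' : Fin chevE6.rank → K) (ht : C.A.Tup J t) (ht' : C.A.Tup J t'),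
    i ∈ good_E6.oJ orbs J ∧ t i = x ∧ t' i = y ∧
      α (C.A.eX (htor := C.htor) t ht) = C.A.eX t' ht'

theorem eX_congr {J : Fin orbs.length} {t s : Fin chevE6.rank → K} (ht : C.A.Tup J t)
    (hs : C.A.Tup J s) {i : Fin chevE6.rank} (hi : i ∈ good_E6.oJ orbs J) (e : t i = s i) :
    C.A.eX (htor := C.htor) t ht = C.A.eX s hs :=
  Subtype.ext (C.A.PX_congr_one ht hs hi e)

theorem eX_inj {J : Fin orbs.length} {t s : Fin chevE6.rank → K} {ht : C.A.Tup J t}
    {hs : C.A.Tup J s} (e : C.A.eX (htor := C.htor) t ht = C.A.eX s hs) {i : Fin chevE6.rank}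
    (hi : i ∈ good_E6.oJ orbs J) : t i = s i :=
  C.A.PX_inj (congrArg Subtype.val e) i hi

theorem exists_image {α : MulAut C.W.G1} (hα : C.W.FixBoth C.w0 α) {J : Fin orbs.length}
    {t : Fin chevE6.rank → K} (ht : C.A.Tup J t) : ∃ t' : Fin chevE6.rank → K,
      ∃ ht' : C.A.Tup J t', α (C.A.eX (htor := C.htor) t ht) = C.A.eX t' ht' := by
  obtain ⟨t', ht', e⟩ := C.A.mem_XJ.mp ((C.W.aut_XJ C.w0_neg hα C.A.xNontrivial
    (C.cell_fixed hα J)).mpr (C.A.eX_mem_XJ ht))
  exact ⟨t', ht', Subtype.ext e⟩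

theorem val_unique {α : MulAut C.W.G1} {i : Fin chevE6.rank} {x y y' : K} (h : C.Val α i x y)
    (h' : C.Val α i x y') : y = y' := by
  obtain ⟨J, t, t', ht, ht', hi, rfl, rfl, e⟩ := h
  obtain ⟨J₂, s, s', hs, hs', hi₂, hx, rfl, e₂⟩ := h'
  obtain rfl := C.A.spec.orb_disj J₂ J i hi₂ hi
  rw [C.eX_congr hs ht hi hx, e] at e₂
  exact C.eX_inj e₂ hi

theorem val_exists {α : MulAut C.W.G1} (hα : C.W.FixBoth C.w0 α) {i : Fin chevE6.rank} {x : K}
    (h : C.InDom i x) : ∃ y, C.Val α i x y := by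
  obtain ⟨J, t, hi, ht, rfl⟩ := h
  obtain ⟨t', ht', e⟩ := C.exists_image hα ht
  exact ⟨t' i, J, t, t', ht, ht', hi, rfl, rfl, e⟩

theorem val_add {α : MulAut C.W.G1} {i : Fin chevE6.rank} {x y x' y' : K} (h : C.Val α i x y)
    (h' : C.Val α i x' y') : C.Val α i (x + x') (y + y') := by
  obtain ⟨J, t, t', ht, ht', hi, rfl, rfl, e⟩ := h
  obtain ⟨J₂, s, s', hs, hs', hi₂, rfl, rfl, e₂⟩ := h'
  obtain rfl := C.A.spec.orb_disj J₂ J i hi₂ hi
  refine ⟨J₂, t + s, t' + s', C.tup_add ht hs, C.tup_add ht' hs', hi, rfl, rfl, ?_⟩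
  have h1 : ∀ (a b : Fin chevE6.rank → K) (ha : C.A.Tup J₂ a) (hb : C.A.Tup J₂ b),
      C.A.eX (htor := C.htor) a ha * C.A.eX b hb = C.A.eX (a + b) (C.tup_add ha hb) :=
    fun a b ha hb => Subtype.ext (C.A.PX_mul J₂ a b)
  rw [← h1 t s ht hs, map_mul, e, e₂, h1]

theorem eT_conj (c : C.A.Cσ) {J : Fin orbs.length} {t : Fin chevE6.rank → K}
    (ht : C.A.Tup J t) :
    C.A.eT (htor := C.htor) c * C.A.eX t ht * (C.A.eT c)⁻¹ =
      C.A.eX (fun i => ((C.A.chiHom c).1 i : K) * t i) (C.A.tup_mul (C.A.tup_chiHom J c) ht) :=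
  Subtype.ext (C.A.conj_torus_PX J c.1 t)

theorem val_mul {α : MulAut C.W.G1} {i : Fin chevE6.rank} {x y : K} (h : C.Val α i x y)
    {c μ : C.A.Cσ} (hμ : α (C.A.eT c) = C.A.eT μ) :
    C.Val α i (((C.A.chiHom c).1 i : K) * x) (((C.A.chiHom μ).1 i : K) * y) := by
  obtain ⟨J, t, t', ht, ht', hi, rfl, rfl, e⟩ := h
  refine ⟨J, _, _, C.A.tup_mul (C.A.tup_chiHom J c) ht, C.A.tup_mul (C.A.tup_chiHom J μ) ht',
    hi, rfl, rfl, ?_⟩
  rw [← C.eT_conj c ht, map_mul, map_mul, map_inv, hμ, e, C.eT_conj]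

theorem exists_torus_image {α : MulAut C.W.G1} (hα : C.W.FixBoth C.w0 α) (c : C.A.Cσ) :
    ∃ μ : C.A.Cσ, α (C.A.eT c) = C.A.eT μ := by
  obtain ⟨d, hd, e⟩ := (C.W.aut_H0 C.w0_neg hα C.A.xNontrivial).mpr (C.A.eT_mem c)
  exact ⟨⟨d, hd⟩, Subtype.ext e.symm⟩

theorem val_link {α : MulAut C.W.G1} (hα : C.W.FixBoth C.w0 α)
    (hone : ∀ J, α (C.A.eX (htor := C.htor) (fun _ => 1) (C.A.tup_one J)) =
      C.A.eX _ (C.A.tup_one J))
    {J : Fin orbs.length} {i k : Fin chevE6.rank} (h : C.Link J i k) {x y : K}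
    (hxy : C.Val α i x y) (hs : ∃ c : C.A.Cσ, ((C.A.chiHom c).1 i : K) = x) :
    C.Val α k x y := by
  obtain ⟨c, hc⟩ := hs
  obtain ⟨μ, hμ⟩ := C.exists_torus_image hα c
  have hv1 : ∀ i, C.Val α i 1 1 := fun i => by
    obtain ⟨J, hJ⟩ := C.A.spec.cover i
    exact ⟨J, _, _, C.A.tup_one J, C.A.tup_one J, hJ, rfl, rfl, hone J⟩
  have hy : y = ((C.A.chiHom μ).1 i : K) := by
    have := C.val_mul (hv1 i) hμ
    rw [mul_one, mul_one, hc] at this
    exact C.val_unique hxy this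
  have hm : ∀ c : C.A.Cσ, C.A.res J (C.A.chiHom c).1 ∈ C.A.Cσ := fun c =>
    C.A.res_mem fun l _ => C.A.chi_fixed c.2 l
  have hcomm : ∀ c : C.A.Cσ, C.W.nG J * C.A.eT c * (C.W.nG J)⁻¹ * (C.A.eT c)⁻¹ =
      C.A.eT ⟨_, inv_mem (hm c)⟩ := fun c => Subtype.ext (by
    show good_E6.full.nw K (good_E6.oJ orbs J) * E6Data.tab.hT K c.1 *
      (good_E6.full.nw K (good_E6.oJ orbs J))⁻¹ * (E6Data.tab.hT K c.1)⁻¹ =
        E6Data.tab.hT K (C.A.res J (C.A.chiHom c).1)⁻¹
    rw [map_inv]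
    exact C.A.n_comm J c.1)
  obtain ⟨k', hk', ek⟩ := C.W.aut_n C.w0_neg hα C.A.xNontrivial (C.cell_fixed hα J)
  obtain ⟨kc, hkc, ekc⟩ := hk'
  subst ekc
  have en : α (C.W.nG J) = C.W.nG J * C.A.eT ⟨kc, hkc⟩ := Subtype.ext ek
  have e : α (C.A.eT ⟨_, inv_mem (hm c)⟩) = C.A.eT ⟨_, inv_mem (hm μ)⟩ := by
    rw [← hcomm c, ← hcomm μ, map_mul, map_mul, map_mul, map_inv, map_inv, hμ, en,
      show C.W.nG J * C.A.eT ⟨kc, hkc⟩ * C.A.eT μ * (C.W.nG J * C.A.eT ⟨kc, hkc⟩)⁻¹ =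
        C.W.nG J * (C.A.eT ⟨kc, hkc⟩ * C.A.eT μ * (C.A.eT ⟨kc, hkc⟩)⁻¹) * (C.W.nG J)⁻¹ by group]
    congr 3
    refine Subtype.ext ?_
    show E6Data.tab.hT K kc * E6Data.tab.hT K μ.1 * (E6Data.tab.hT K kc)⁻¹ = E6Data.tab.hT K μ.1
    rw [← map_mul, ← map_inv, ← map_mul, mul_comm kc, mul_inv_cancel_right]
  have hk := C.val_mul (hv1 k) e
  have hval : ∀ c : C.A.Cσ, (C.A.chiHom ⟨_, inv_mem (hm c)⟩).1 k = (C.A.chiHom c).1 i := fun c => by
    show E6Data.tab.chi (F := K) (chevE6.simple k) (C.A.res J (C.A.chiHom c).1)⁻¹ = _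
    rw [map_inv, C.chi_res h, inv_inv]
  rwa [hval, hval, mul_one, mul_one, hc, ← hy] at hk

/-- An automorphism fixing `U¹`, its opposite and the elements with all parameters `1` is a
field automorphism. -/
theorem exists_field {α : MulAut C.W.G1} (hα : C.W.FixBoth C.w0 α)
    (hone : ∀ J, α (C.A.eX (htor := C.htor) (fun _ => 1) (C.A.tup_one J)) =
      C.A.eX _ (C.A.tup_one J)) :
    ∃ σ : K ≃+* K, C.A.Acts C.comm_field C.w0 1 σ α := by
  have l20 : C.Link (2 : Fin 4) (2 : Fin 6) (0 : Fin 6) :=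
    ⟨List.mem_cons_self .., cartE6 2 0, fun l hl hne => by
      rw [show l = (4 : Fin 6) from
        List.mem_singleton.mp ((List.mem_cons.mp hl).resolve_left hne)]
      exact cartE6 4 0⟩
  have l02 : C.Link (3 : Fin 4) (0 : Fin 6) (2 : Fin 6) :=
    ⟨List.mem_cons_self .., cartE6 0 2, fun l hl hne => by
      rw [show l = (5 : Fin 6) from
        List.mem_singleton.mp ((List.mem_cons.mp hl).resolve_left hne)]
      exact cartE6 5 2⟩
  have l32 : C.Link (1 : Fin 4) (3 : Fin 6) (2 : Fin 6) :=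
    ⟨List.mem_singleton_self _, cartE6 3 2, fun l hl hne => absurd (List.mem_singleton.mp hl) hne⟩
  have l13 : C.Link (0 : Fin 4) (1 : Fin 6) (3 : Fin 6) :=
    ⟨List.mem_singleton_self _, cartE6 1 3, fun l hl hne => absurd (List.mem_singleton.mp hl) hne⟩
  have l31 : C.Link (1 : Fin 4) (3 : Fin 6) (1 : Fin 6) :=
    ⟨List.mem_singleton_self _, cartE6 3 1, fun l hl hne => absurd (List.mem_singleton.mp hl) hne⟩
  have hv1 : ∀ i, C.Val α i 1 1 := fun i => by
    obtain ⟨J, hJ⟩ := C.A.spec.cover i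
    exact ⟨J, _, _, C.A.tup_one J, C.A.tup_one J, hJ, rfl, rfl, hone J⟩
  choose φ hφ using fun x => C.val_exists hα (C.inDom_zero x)
  have hadd : ∀ x y, φ (x + y) = φ x + φ y := fun x y =>
    C.val_unique (hφ _) (C.val_add (hφ x) (hφ y))
  have h0 : φ 0 = 0 := by
    have := hadd 0 0
    rwa [add_zero, left_eq_add] at this
  have hmul : ∀ x y, φ (x * y) = φ x * φ y := fun x y => by
    by_cases hx : x = 0
    · rw [hx, zero_mul, h0, zero_mul]
    obtain ⟨c, hc⟩ := C.surj_of_link l20 (C.inDom_twoNode x) hx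
    obtain ⟨μ, hμ⟩ := C.exists_torus_image hα c
    have h1 := C.val_mul (hv1 (0 : Fin 6)) hμ
    have h2 := C.val_mul (hφ y) hμ
    rw [hc] at h1 h2
    rw [mul_one, mul_one] at h1
    rw [C.val_unique (hφ x) h1]
    exact C.val_unique (hφ _) h2
  have hinj : Function.Injective φ := fun x y e => by
    obtain ⟨J, t, t', ht, ht', hi, rfl, e1, ex⟩ := hφ x
    obtain ⟨J₂, s, s', hs, hs', hi₂, rfl, e2, ey⟩ := hφ y
    obtain rfl := C.A.spec.orb_disj J₂ J _ hi₂ hi
    rw [C.eX_congr ht' hs' hi (e1.trans (e.trans e2.symm)), ← ey] at ex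
    exact C.eX_inj (α.injective ex) hi
  let σ : K ≃+* K :=
    { Equiv.ofBijective φ ⟨hinj, Finite.injective_iff_surjective.mp hinj⟩ with
      map_mul' := hmul
      map_add' := hadd }
  have n0 : ∀ x y, C.Val α (0 : Fin 6) x y → y = σ x := fun x y h => C.val_unique h (hφ x)
  have hz : ∀ i y, C.Val α i 0 y → y = 0 := fun i y h => by
    have := C.val_unique h (by simpa using C.val_add h h)
    exact left_eq_add.mp this
  have dom : ∀ {i x y}, C.Val α i x y → C.InDom i x := fun {i x y} h => by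
    obtain ⟨J, t, t', ht, -, hi, rfl, -, -⟩ := h
    exact ⟨J, t, hi, ht, rfl⟩
  have n2 : ∀ x y, C.Val α (2 : Fin 6) x y → y = σ x := fun x y h => by
    by_cases hx : x = 0
    · subst hx; rw [map_zero]; exact hz _ _ h
    exact n0 _ _ (C.val_link hα hone l20 h (C.surj_of_link l02 (C.inDom_zero x) hx))
  have n3 : ∀ x y, C.Val α (3 : Fin 6) x y → y = σ x := fun x y h => by
    by_cases hx : x = 0
    · subst hx; rw [map_zero]; exact hz _ _ h
    exact n2 _ _ (C.val_link hα hone l32 h (C.surj_of_link l13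
      (C.inDom_swap (J := (1 : Fin 4)) (J' := (0 : Fin 4)) rfl rfl (dom h)) hx))
  have n1 : ∀ x y, C.Val α (1 : Fin 6) x y → y = σ x := fun x y h => by
    by_cases hx : x = 0
    · subst hx; rw [map_zero]; exact hz _ _ h
    exact n3 _ _ (C.val_link hα hone l13 h (C.surj_of_link l31
      (C.inDom_swap (J := (0 : Fin 4)) (J' := (1 : Fin 4)) rfl rfl (dom h)) hx))
  refine ⟨σ, hα, fun J t ht => ?_⟩
  obtain ⟨t', ht', e⟩ := C.exists_image hα ht
  obtain ⟨a, ha, hn⟩ : ∃ a ∈ good_E6.oJ orbs J, ∀ x y, C.Val α a x y → y = σ x := by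
    rcases C.jj_cases J with rfl | rfl | rfl | rfl
    exacts [⟨(1 : Fin 6), List.mem_singleton_self _, n1⟩,
      ⟨(3 : Fin 6), List.mem_singleton_self _, n3⟩,
      ⟨(2 : Fin 6), List.mem_cons_self .., n2⟩, ⟨(0 : Fin 6), List.mem_cons_self .., n0⟩]
  rw [e]
  refine C.eX_congr ht' _ ha ?_
  rw [hn _ _ ⟨J, t, t', ht, ht', ha, rfl, rfl, e⟩]
  simp

theorem exists_acts_fixBoth {α : MulAut C.W.G1} (hα : C.W.FixBoth C.w0 α) :
    ∃ (u : C.A.Cσ) (σ : K ≃+* K), C.A.Acts C.comm_field C.w0 u σ α := by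
  classical
  choose s hs es using fun J => C.exists_image hα (C.A.tup_one J)
  have hne : ∀ J, ∀ i ∈ good_E6.oJ orbs J, s J i ≠ 0 := fun J i hi e => by
    have hz : C.A.Tup J (fun _ => (0 : K)) := fun l _ => by
      rw [C.f_simp, zero_pow C.hq.ne_zero]
    have e' : C.A.eX (htor := C.htor) (s J) (hs J) = 1 := by
      rw [C.eX_congr (hs J) hz hi e]
      exact Subtype.ext (List.prod_eq_one fun x hx => by
        obtain ⟨j, -, rfl⟩ := List.mem_map.mp hx
        exact good_E6.full.x_zero _)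
    rw [← es J, EmbeddingLike.map_eq_one_iff] at e'
    have h1 : C.A.eX (htor := C.htor) (fun _ => (1 : K)) (C.A.tup_one J) = C.A.eX _ hz :=
      e'.trans (Subtype.ext (List.prod_eq_one fun x hx => by
        obtain ⟨j, -, rfl⟩ := List.mem_map.mp hx
        exact good_E6.full.x_zero _).symm)
    exact one_ne_zero (C.eX_inj h1 hi)
  choose J₀ hJ₀ using C.A.spec.cover
  let u : Fin chevE6.rank → Kˣ := fun i => Units.mk0 (s (J₀ i) i) (hne _ _ (hJ₀ i))
  have hu : u ∈ C.A.Cσ := (Good.A1Data.mem_Cσ C.A).mpr fun i => by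
    show s (J₀ (C.Φ.ρ i)) (C.Φ.ρ i) = C.Φ.f (good_E6.full.simp' i) (s (J₀ i) i)
    rw [C.A.spec.orb_disj (J₀ (C.Φ.ρ i)) (J₀ i) (C.Φ.ρ i) (hJ₀ _) (C.A.rho_mem _ i (hJ₀ i))]
    exact hs _ i (hJ₀ i)
  obtain ⟨δ, hδ, hδ'⟩ := C.A.exists_diag (htor := C.htor) C.comm_field C.w0_neg
    (by simp) coef_E6 ⟨u, hu⟩
  have hα' : C.W.FixBoth C.w0 (δ.symm * α : MulAut C.W.G1) :=
    C.W.fixBoth_trans (C.W.fixBoth_symm hδ) hα
  obtain ⟨σ, hσ, hσ'⟩ := C.exists_field hα' fun J => by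
    rw [MulAut.mul_apply, es, MulEquiv.symm_apply_eq, hδ']
    obtain ⟨i, hi⟩ := List.exists_mem_of_ne_nil _ (C.A.spec.orb_ne J)
    refine C.eX_congr (hs J) _ hi ?_
    show s J i = s (J₀ i) i * 1
    rw [mul_one, C.A.spec.orb_disj (J₀ i) J i (hJ₀ i) hi]
  refine ⟨⟨u, hu⟩, σ, hα, fun J t ht => ?_⟩
  have h1 := congrArg δ (hσ' J t ht)
  rw [MulAut.mul_apply, MulEquiv.apply_symm_apply, hδ'] at h1
  rw [h1]
  exact Subtype.ext (C.A.PX_congr fun i _ => by simp)

/-! ### Counting -/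

theorem card_index : C.A.chiHom.range.index = Nat.gcd 3 (q + 1) := by
  have eC : Nat.card C.A.Cσ =
      Nat.card (Kˣ × Kˣ × {u : Kˣ // u ^ q = u} × {u : Kˣ // u ^ q = u}) := by
    refine Nat.card_congr
      { toFun := fun c => (c.1 0, c.1 2, ⟨c.1 1, (C.mem_Cσ.mp c.2 1).symm⟩,
          ⟨c.1 3, (C.mem_Cσ.mp c.2 3).symm⟩)
        invFun := fun p => ⟨![p.1, p.2.2.1.1, p.2.1, p.2.2.2.1, p.2.1 ^ q, p.1 ^ q],
          C.mem_Cσ.mpr fun i => by
            fin_cases i
            · rfl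
            · exact p.2.2.1.2.symm
            · rfl
            · exact p.2.2.2.2.symm
            · show p.2.1 = (p.2.1 ^ q) ^ q
              rw [← pow_mul, ← pow_two, units_pow_q_pow C.hK]
            · show p.1 = (p.1 ^ q) ^ q
              rw [← pow_mul, ← pow_two, units_pow_q_pow C.hK]⟩
        left_inv := fun c => Subtype.ext (funext fun i => by
          fin_cases i
          · rfl
          · rfl
          · rfl
          · rfl
          · exact (C.mem_Cσ.mp c.2 2).symm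
          · exact (C.mem_Cσ.mp c.2 0).symm)
        right_inv := fun p => rfl }
  have hu : Nat.card Kˣ = (q - 1) * (q + 1) := by
    rw [Nat.card_units, Nat.card_eq_fintype_card, C.hK, mul_comm, ← Nat.sq_sub_sq, one_pow]
  have hf : Nat.card {u : Kˣ // u ^ q = u} = q - 1 := by
    have h0 : {u : Kˣ // u ^ q = u} ≃ {u : Kˣ // u ^ (q - 1) = 1} :=
      Equiv.subtypeEquivRight fun u => by
        obtain ⟨r, rfl⟩ : ∃ r, q = r + 1 := ⟨q - 1, by have := C.hq.pos; omega⟩
        rw [Nat.add_sub_cancel, pow_succ, mul_eq_right]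
    rw [Nat.card_congr h0]
    exact (IsCyclic.card_powMonoidHom_ker (G := Kˣ) (q - 1)).trans
      (Nat.gcd_eq_right (hu ▸ dvd_mul_right _ _))
  have h1 := C.A.card_Cσ_eq
  rw [eC, Nat.card_prod, Nat.card_prod, Nat.card_prod, hu, hf] at h1
  have h2 : Nat.gcd 3 (q + 1) * Nat.card C.W.H0 = (q - 1) ^ 4 * (q + 1) ^ 2 := C.card_torus
  refine Nat.eq_of_mul_eq_mul_right (m := Nat.card C.W.H0) Nat.card_pos ?_
  show C.A.chiHom.range.index * Nat.card C.A.torus = _
  rw [h1, h2]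
  ring

variable (p f : ℕ) [Fact p.Prime]

theorem exists_sylow (hq : q = p ^ f) :
    ∃ P : Sylow p C.W.G1, (P : Subgroup C.W.G1) = C.W.U1.subgroupOf C.W.G1 := by
  have hp := (Fact.out : p.Prime)
  have hf : f ≠ 0 := by
    rintro rfl
    have := C.hq.two_le
    rw [hq, pow_zero] at this
    omega
  have hpq : p ∣ q := hq ▸ dvd_pow_self p hf
  have hone : ∀ n : ℕ, n ≠ 0 → ¬ p ∣ q ^ n - 1 ∧ ¬ p ∣ q ^ n + 1 := fun n hn => by
    have hd := hpq.trans (dvd_pow_self q hn)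
    refine ⟨fun h => ?_, fun h => hp.not_dvd_one ((Nat.dvd_add_right hd).mp h)⟩
    have h1 : 1 ≤ q ^ n := Nat.one_le_pow _ _ C.hq.pos
    have h2 := Nat.dvd_sub hd h
    rw [Nat.sub_sub_self h1] at h2
    exact hp.not_dvd_one h2
  set M := (q ^ 2 - 1) * (q ^ 5 + 1) * (q ^ 6 - 1) * (q ^ 8 - 1) * (q ^ 9 + 1) *
    (q ^ 12 - 1) with hM
  set d := Nat.gcd 3 (q + 1)
  have hcard : d * Nat.card C.W.G1 = q ^ 36 * M := C.card_group.trans (by rw [hM]; ring)
  have hdq : Nat.Coprime d (q ^ 36) := by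
    refine Nat.Coprime.pow_right 36 (Nat.Coprime.coprime_dvd_left (Nat.gcd_dvd_right _ _) ?_)
    simp [Nat.coprime_self_add_left]
  obtain ⟨m, hm⟩ : d ∣ M := hdq.dvd_of_dvd_mul_left ⟨_, hcard.symm⟩
  have hd0 : 0 < d := Nat.gcd_pos_of_pos_left _ (by norm_num)
  refine C.W.exists_sylow_of_card (p := p) (a := f * 36) (m := m)
    (C.card_U1.trans (by rw [hq, ← pow_mul])) ?_ fun hpm => ?_
  · refine Nat.eq_of_mul_eq_mul_left hd0 ?_
    rw [hcard, hm, hq, ← pow_mul]
    ring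
  · have : p ∣ M := hm ▸ dvd_mul_of_dvd_right hpm d
    simp only [hM, hp.dvd_mul, (hone 2 two_ne_zero).1, (hone 5 (by norm_num)).2,
      (hone 6 (by norm_num)).1, (hone 8 (by norm_num)).1, (hone 9 (by norm_num)).2,
      (hone 12 (by norm_num)).1, or_false] at this

/-- The order of the outer automorphism group. -/
theorem card_out [CharP K p] (hq : q = p ^ f) :
    Nat.card (Cfsg.Out C.W.G1) = 2 * Nat.gcd 3 (q + 1) * f := by
  have hK : Fintype.card K = p ^ (2 * f) := by rw [C.hK, hq, ← pow_mul, mul_comm]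
  obtain ⟨P, hP⟩ := C.exists_sylow p f hq
  have h := C.A.card_out_diag (htor := C.htor) C.comm_field C.w0_neg
    (fun α hα J z => C.cell_fixed hα J z) (by simp) coef_E6 hP
    ⟨(3 : Fin 4), (0 : Fin 6), List.mem_cons_self .., fun x => by
      obtain ⟨J, t, hi, ht, e⟩ := C.inDom_zero x
      obtain rfl := C.A.spec.orb_disj J (3 : Fin 4) _ hi (List.mem_cons_self ..)
      exact ⟨t, ht, e⟩⟩
    (fun α hα => C.exists_acts_fixBoth hα)
  rw [C.card_index, CfsgLib.Chev.card_ringEquiv (F := K) (p := p) hK] at h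
  rw [← mul_assoc, mul_comm _ 2] at h
  exact h

end Ctx

end CfsgLib.Chev.E6Tw
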