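import Cfsg.Agent.Chev.Card
import Cfsg.Agent.BN.Coxeter

/-!
`N / H` as a Coxeter group.
-/

set_option autoImplicit false

namespace CfsgLib.Chev

open Cfsg.Lie Matrix
open scoped MatrixGroups

namespace Tab

variable {D : ChevalleyDatum}

/-- Apply the reflections of a word to a root, last letter first. -/
def wordT (T : Tab D) : List ℕ → ℕ → ℕ
  | [], s => s
  | i :: L, s => T.reflT i (wordT T L s)

/-- Apply a word `m` times. -/
def iterT (T : Tab D) (L : List ℕ) : ℕ → ℕ → ℕ
  | 0, s => s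
  | m + 1, s => wordT T L (iterT T L m s)

/-- The word has order exactly `m` on the roots. -/
def chkOrder (T : Tab D) (L : List ℕ) (m : ℕ) : Bool :=
  Nat.blt 0 m && allBelow (fun s => Nat.beq (T.iterT L m s) s) D.nroots &&
    allBelow (fun k => Nat.beq k 0 ||
      (List.range D.nroots).any fun s => !(Nat.beq (T.iterT L k s) s)) m

/-- The products of two reflections have the orders of a Coxeter matrix. -/
def chkCoxeter (T : Tab D) (M : ℕ → ℕ → ℕ) : Bool :=
  allBelow (fun i => allBelow (fun j => T.chkOrder [i, j] (M i j)) D.rank) D.rank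

namespace Good

variable {T : Tab D} (G : T.Good)
include G

theorem pw_apply : ∀ (L : List (Fin D.rank)) (s : Fin D.nroots),
    (G.full.pw L s).val = T.wordT (L.map Fin.val) s.val
  | [], _ => rfl
  | i :: L, s => congrArg (T.reflT i.val) (pw_apply L s)

theorem pw_pow_apply (L : List (Fin D.rank)) : ∀ (m : ℕ) (s : Fin D.nroots),
    ((G.full.pw L ^ m) s).val = T.iterT (L.map Fin.val) m s.val := by
  intro m
  induction m with
  | zero => intro s; rfl
  | succ m ih =>
    intro s
    rw [pow_succ', Equiv.Perm.mul_apply, G.pw_apply, ih]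
    rfl

theorem orderOf_pw {L : List (Fin D.rank)} {m : ℕ} (h : T.chkOrder (L.map Fin.val) m = true) :
    orderOf (G.full.pw L) = m := by
  simp only [chkOrder, Bool.and_eq_true, Nat.blt_eq, allBelow_iff, Nat.beq_eq, Bool.or_eq_true,
    List.any_eq_true, List.mem_range, Bool.not_eq_true'] at h
  obtain ⟨⟨hm, h1⟩, h2⟩ := h
  rw [orderOf_eq_iff hm]
  refine ⟨Equiv.ext fun s => Fin.ext ?_, fun k hk hk0 e => ?_⟩
  · rw [G.pw_pow_apply, h1 s.val s.isLt]
    rfl
  · rcases h2 k hk with h0 | ⟨s, hs, hne⟩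
    · omega
    · have hv := G.pw_pow_apply L k ⟨s, hs⟩
      rw [e] at hv
      have hv' : s = T.iterT (L.map Fin.val) k s := hv
      rw [Tab.beq_true hv'.symm] at hne
      exact Bool.noConfusion hne

theorem refl_mem_full (i : Fin D.rank) : G.full.refl i ∈ G.full.WJ (List.range D.rank) :=
  G.refl_mem (List.mem_range.mpr i.isLt)

variable (F : Type*) [Field F]

/-- The action of `N` on the roots. -/
noncomputable def nperm : D.monomialSubgroup F →* Equiv.Perm (Fin D.nroots) :=
  MonoidHom.mk' (fun n => G.full.pw (G.exists_rootAct n.2).choose) fun a b =>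
    G.rootAct_unique (G.exists_rootAct (a * b).2).choose_spec
      (G.rootAct_mul (G.exists_rootAct a.2).choose_spec (G.exists_rootAct b.2).choose_spec)

theorem nperm_eq {n : D.monomialSubgroup F} {σ : Equiv.Perm (Fin D.nroots)}
    (h : G.full.RootAct (n : GL D.Idx F) σ) : G.nperm F n = σ :=
  G.rootAct_unique (G.exists_rootAct n.2).choose_spec h

theorem nperm_ker :
    (G.nperm F).ker = (D.diagonalSubgroup F).subgroupOf (D.monomialSubgroup F) := by
  ext n
  rw [MonoidHom.mem_ker, Subgroup.mem_subgroupOf]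
  constructor
  · intro h
    obtain ⟨L, hL⟩ := G.exists_rootAct n.2
    refine G.mem_diagonal_of_pos n.2 hL fun s hs => ?_
    rwa [← G.nperm_eq F hL, h]
  · intro h
    rw [G.full.diagonal_eq_range] at h
    obtain ⟨c, hc⟩ := h
    exact G.nperm_eq F (hc ▸ G.rootAct_hT c)

theorem nperm_range : (G.nperm F).range = G.full.WJ (List.range D.rank) := by
  refine le_antisymm ?_ ((Subgroup.closure_le _).mpr ?_)
  · rintro _ ⟨n, rfl⟩
    exact G.pw_mem_full _
  · rintro _ ⟨i, -, rfl⟩
    exact ⟨⟨_, G.ns_mem_monomial i⟩, G.nperm_eq F (G.rootAct_ns i)⟩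

theorem exists_coxeter (M : CoxeterMatrix (Fin D.rank))
    (hM : ∀ i j : Fin D.rank, orderOf (G.full.refl i * G.full.refl j) = M i j) :
    ∃ φ : D.monomialSubgroup F →* M.Group, Function.Surjective φ ∧
      φ.ker = (D.diagonalSubgroup F).subgroupOf (D.monomialSubgroup F) ∧
      (∀ (i : Fin D.rank) (g : D.monomialSubgroup F),
        (g : GL D.Idx F) = G.full.ns F i → φ g = M.simple i) ∧
      ∃ ψ : M.Group →* Equiv.Perm (Fin D.nroots), Function.Injective ψ ∧
        (∀ i, ψ (M.simple i) = G.full.refl i) ∧ ψ.range = G.full.WJ (List.range D.rank) := by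
  classical
  set P := G.bnPair F with hP
  have hmemN : ∀ {x : D.group F}, x ∈ P.N → (x : GL D.Idx F) ∈ D.monomialSubgroup F := fun h => h
  let ι : D.monomialSubgroup F →* P.N :=
    MonoidHom.mk' (fun n => ⟨⟨(n : GL D.Idx F), G.monomial_le_group n.2⟩, n.2⟩) fun a b => rfl
  have hι : Function.Surjective ι := fun n => ⟨⟨_, hmemN n.2⟩, rfl⟩
  let wperm : P.N →* Equiv.Perm (Fin D.nroots) :=
    (G.nperm F).comp (MonoidHom.mk' (fun n : P.N => (⟨_, hmemN n.2⟩ : D.monomialSubgroup F))
      fun a b => rfl)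
  haveI := CfsgLib.BN.torus_normal P
  have hker : wperm.ker = CfsgLib.BN.torus P := by
    ext n
    have e : n ∈ wperm.ker ↔ (⟨_, hmemN n.2⟩ : D.monomialSubgroup F) ∈ (G.nperm F).ker := Iff.rfl
    rw [e, G.nperm_ker, Subgroup.mem_subgroupOf, Subgroup.mem_subgroupOf, ← G.borel_inf_monomial]
    exact ⟨fun h => Subgroup.mem_inf.mpr ⟨(Subgroup.mem_inf.mp h).1, n.2⟩,
      fun h => Subgroup.mem_inf.mpr ⟨(Subgroup.mem_inf.mp h).1, hmemN n.2⟩⟩
  let π : CfsgLib.BN.Weyl P →* Equiv.Perm (Fin D.nroots) :=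
    QuotientGroup.lift (CfsgLib.BN.torus P) wperm hker.ge
  have hπ : Function.Injective π := by
    rw [injective_iff_map_eq_one]
    intro w hw
    obtain ⟨n, rfl⟩ := QuotientGroup.mk_surjective w
    rw [QuotientGroup.eq_one_iff, ← hker]
    exact hw
  have hπn : ∀ n : D.monomialSubgroup F, π (QuotientGroup.mk (ι n)) = G.nperm F n := fun n => rfl
  let e₀ : Fin D.rank → P.S := fun i =>
    ⟨⟨G.full.ns F i, G.ns_mem_group i⟩, G.mem_simpleSet.mpr ⟨i, rfl⟩⟩
  have he₀ : Function.Bijective e₀ := by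
    constructor
    · intro i j h
      have h' : G.full.ns F i = G.full.ns F j := congrArg (fun s : P.S => (s.1 : GL D.Idx F)) h
      exact G.refl_injective (G.rootAct_unique (G.rootAct_ns i) (h' ▸ G.rootAct_ns j))
    · rintro ⟨s, hs⟩
      obtain ⟨i, hi⟩ := G.mem_simpleSet.mp hs
      exact ⟨i, Subtype.ext (Subtype.ext hi.symm)⟩
  let e := Equiv.ofBijective e₀ he₀
  have hrefl : ∀ i, π (CfsgLib.BN.refl P (e₀ i)) = G.full.refl i := fun i => by
    show G.nperm F _ = _
    exact G.nperm_eq F (G.rootAct_ns i)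
  have hcox : (CfsgLib.BN.cox P).reindex e.symm = M := by
    refine CoxeterMatrix.ext ?_
    funext i j
    show orderOf (CfsgLib.BN.refl P (e₀ i) * CfsgLib.BN.refl P (e₀ j)) = M i j
    rw [← orderOf_injective π hπ, map_mul, hrefl, hrefl, hM]
  obtain ⟨cs, hcs⟩ : ∃ cs : CoxeterSystem M (CfsgLib.BN.Weyl P),
      ∀ i, cs.simple i = CfsgLib.BN.refl P (e₀ i) := by
    rw [← hcox]
    refine ⟨(CfsgLib.BN.coxeterSystem P).reindex e.symm, fun i => ?_⟩
    rw [CoxeterSystem.reindex_simple, CfsgLib.BN.coxeterSystem_simple]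
    rfl
  refine ⟨(cs.mulEquiv.toMonoidHom.comp (QuotientGroup.mk' _)).comp ι, ?_, ?_, ?_,
    π.comp cs.mulEquiv.symm.toMonoidHom, ?_, ?_, ?_⟩
  · exact (cs.mulEquiv.surjective.comp (QuotientGroup.mk'_surjective _)).comp hι
  · ext n
    rw [MonoidHom.mem_ker, ← G.nperm_ker, MonoidHom.mem_ker, ← hπn]
    show cs.mulEquiv (QuotientGroup.mk (ι n)) = 1 ↔ _
    rw [MulEquiv.map_eq_one_iff, map_eq_one_iff π hπ]
  · intro i g hg
    show cs.mulEquiv (QuotientGroup.mk (ι g)) = _
    have h1 : (QuotientGroup.mk (ι g) : CfsgLib.BN.Weyl P) = cs.simple i := by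
      apply hπ
      rw [hπn, hcs, hrefl]
      exact G.nperm_eq F (hg ▸ G.rootAct_ns i)
    rw [h1]
    exact cs.mulEquiv.apply_symm_apply (M.simple i)
  · exact hπ.comp cs.mulEquiv.symm.injective
  · intro i
    show π (cs.simple i) = _
    rw [hcs, hrefl]
  · rw [← G.nperm_range F]
    ext σ
    constructor
    · rintro ⟨m, rfl⟩
      obtain ⟨n, hn⟩ := QuotientGroup.mk_surjective (cs.mulEquiv.symm m)
      obtain ⟨n', rfl⟩ := hι n
      refine ⟨n', ?_⟩
      show _ = π (cs.mulEquiv.symm m)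
      rw [← hn, hπn]
    · rintro ⟨n, rfl⟩
      refine ⟨cs.mulEquiv (QuotientGroup.mk (ι n)), ?_⟩
      show π (cs.mulEquiv.symm (cs.mulEquiv _)) = _
      rw [MulEquiv.symm_apply_apply, hπn]

omit F in
theorem orderOf_refl_mul {M : CoxeterMatrix (Fin D.rank)}
    (h : T.chkCoxeter (fun i j => if h : i < D.rank ∧ j < D.rank then M ⟨i, h.1⟩ ⟨j, h.2⟩ else 0) =
      true) (i j : Fin D.rank) : orderOf (G.full.refl i * G.full.refl j) = M i j := by
  simp only [chkCoxeter, allBelow_iff] at h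
  have h1 := h i.val i.isLt j.val j.isLt
  rw [dif_pos ⟨i.isLt, j.isLt⟩] at h1
  have := G.orderOf_pw (L := [i, j]) h1
  simpa [Full.pw] using this

omit F in
theorem card_coxeter {M : CoxeterMatrix (Fin D.rank)}
    (hM : ∀ i j : Fin D.rank, orderOf (G.full.refl i * G.full.refl j) = M i j) :
    Nat.card M.Group = Nat.card (G.full.WJ (List.range D.rank)) := by
  obtain ⟨-, -, -, -, ψ, hψ, -, hr⟩ := G.exists_coxeter ℚ M hM
  rw [← hr]
  exact Nat.card_congr (MonoidHom.ofInjective hψ).toEquiv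

omit F in
theorem orderOf_coxeter_element {M : CoxeterMatrix (Fin D.rank)}
    (hM : ∀ i j : Fin D.rank, orderOf (G.full.refl i * G.full.refl j) = M i j) {m : ℕ}
    (h : T.chkOrder (List.range D.rank) m = true) :
    orderOf ((List.finRange D.rank).map M.simple).prod = m := by
  obtain ⟨-, -, -, -, ψ, hψ, hs, -⟩ := G.exists_coxeter ℚ M hM
  rw [← orderOf_injective ψ hψ, map_list_prod, List.map_map,
    show (ψ ∘ M.simple) = G.full.refl from funext hs]
  refine G.orderOf_pw ?_
  rwa [List.map_coe_finRange_eq_range]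

end Good

end Tab

end CfsgLib.Chev
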