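import Cfsg.Agent.Chev.SteinbergTorus
import Mathlib.FieldTheory.Finite.Basic
import Mathlib.RingTheory.IntegralDomain

/-!
Over a finite field the relations (R3) follow from (R1), (R2).
-/

set_option autoImplicit false

namespace CfsgLib.Chev

open Cfsg.Lie Matrix
open scoped MatrixGroups

/-- In a finite field of odd characteristic some non-square `t` has `1 - t` a non-square. -/
theorem exists_nonsquare_pair {F : Type*} [Field F] [Finite F] {g : Fˣ}
    (hg : ¬ IsSquare g) :
    ∃ t u : Fˣ, (t : F) + u = 1 ∧ ¬ IsSquare t ∧ ¬ IsSquare u := by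
  classical
  let := Fintype.ofFinite F
  by_contra hc
  simp only [not_exists, not_and, not_not] at hc
  set N := Finset.univ.filter fun t : Fˣ => ¬ IsSquare t
  set Q := Finset.univ.filter fun t : Fˣ => IsSquare t
  have h1 : N.card < Q.card := by
    have hne : ∀ t ∈ N, (1 : F) - t ≠ 0 := fun t ht h => by
      rw [sub_eq_zero, eq_comm, Units.val_eq_one] at h
      simp [N, h] at ht
    let f : Fˣ → Fˣ := fun t => if h : (1 : F) - t ≠ 0 then Units.mk0 _ h else 1
    have hf : ∀ t ∈ N, ((f t : Fˣ) : F) = 1 - t := fun t ht => by simp [f, hne t ht]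
    calc N.card ≤ (Q.erase 1).card := by
          refine Finset.card_le_card_of_injOn f (fun t ht => ?_) fun a ha b hb e => ?_
          · rw [Finset.mem_coe, Finset.mem_erase]
            refine ⟨fun h => ?_, ?_⟩
            · have := hf t ht
              rw [h, Units.val_one] at this
              exact t.ne_zero (by linear_combination this)
            · simp only [Q, Finset.mem_filter, Finset.mem_univ, true_and]
              refine hc t (f t) (by rw [hf t ht]; ring) ?_
              simpa [N] using ht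
          · have := congrArg Units.val e
            rw [hf a ha, hf b hb] at this
            exact Units.ext (sub_right_injective this)
      _ < Q.card := Finset.card_erase_lt_of_mem (by simp [Q])
  have h2 : Q.card ≤ N.card := by
    refine Finset.card_le_card_of_injOn (fun t => g * t) (fun t ht => ?_)
      fun a _ b _ e => mul_left_cancel e
    simp only [Q, N, Finset.coe_filter, Finset.mem_univ, true_and, Set.mem_setOf_eq] at ht ⊢
    exact fun h => hg (by simpa using h.div ht)
  omega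

namespace Tab

variable {D : ChevalleyDatum}

namespace Good

namespace StData

variable {T : Tab D} {G : T.Good} {F : Type*} [Field F] {E : Type*} [Group E]
  (S : G.StData F E) (hW : T.HasWit)
include S

include hW in
theorem nb_conj_self (j : Fin D.rank) {v : F} (hv : v ≠ 0) (w : F) :
    S.nb j v * S.xb (D.simple j) w * (S.nb j v)⁻¹ = S.xb (negR D (D.simple j)) (-(w / (v * v))) ∧
      S.nb j v * S.xb (negR D (D.simple j)) w * (S.nb j v)⁻¹ =
        S.xb (D.simple j) (-(v * v * w)) := by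
  have hp := G.full.simple_lt j.isLt
  have hn := G.full.node_spec j.isLt
  have hneg : T.cart j (negR D (D.simple j)) = -2 := by
    rw [((G.full.cert.root_spec hp).2.2.2.1 j j.isLt).1, hn.2.2.1]
  constructor
  · rw [S.nb_conj hW j hp hv, G.full.simple_reflect j.isLt, hn.2.2.1, hn.2.2.2.1]
    congr 1
    rw [_root_.zpow_neg, show (2 : ℤ) = (2 : ℕ) from rfl, zpow_natCast]
    field_simp
    push_cast
    ring
  · rw [S.nb_conj hW j (Cert.negR_lt hp) hv, G.full.neg_simple_reflect j.isLt, hneg,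
      G.full.sgn_neg_eq j.isLt hp, hn.2.2.2.1]
    congr 1
    rw [neg_neg, show (2 : ℤ) = (2 : ℕ) from rfl, zpow_natCast]
    push_cast
    ring

include hW in
/-- The identity `h(t) h(u) = h(t u)` for `t + u = 1`. -/
theorem hb_mul_of_add_eq_one (j : Fin D.rank) {t u : F} (ht : t ≠ 0) (hu : u ≠ 0)
    (h : t + u = 1) : S.hb j t * S.hb j u = S.hb j (t * u) := by
  have hp := G.full.simple_lt j.isLt
  have hn := Cert.negR_lt (D := D) hp
  set x := S.xb (D.simple j)
  set y := S.xb (negR D (D.simple j))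
  have hx : ∀ a b, x a * x b = x (a + b) := S.add _ hp
  have hy : ∀ a b, y a * y b = y (a + b) := S.add _ hn
  have hnb : ∀ v, S.nb j v = x v * y (-v⁻¹) * x v := fun v => rfl
  have ey : ∀ v, v ≠ 0 → y (-v⁻¹) = x (-v) * S.nb j v * x (-v) := fun v _ => by
    rw [hnb, show x (-v) = (x v)⁻¹ from (S.xb_inv hp v).symm]
    group
  -- `n(v) = y(-1/v) x(v) y(-1/v)`
  have eself : ∀ v, v ≠ 0 → S.nb j v = y (-v⁻¹) * x v * y (-v⁻¹) := fun v hv => by
    have e1 : S.nb j v * x v * (S.nb j v)⁻¹ = y (-v⁻¹) := by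
      rw [(S.nb_conj_self hW j hv v).1]
      congr 1
      field_simp
    have e2 : S.nb j v * y (-v⁻¹) * (S.nb j v)⁻¹ = x v := by
      rw [(S.nb_conj_self hW j hv _).2]
      congr 1
      field_simp
    calc S.nb j v = S.nb j v * (x v * y (-v⁻¹) * x v) * (S.nb j v)⁻¹ := by
          rw [← hnb]; group
      _ = (S.nb j v * x v * (S.nb j v)⁻¹) * (S.nb j v * y (-v⁻¹) * (S.nb j v)⁻¹) *
            (S.nb j v * x v * (S.nb j v)⁻¹) := by group
      _ = y (-v⁻¹) * x v * y (-v⁻¹) := by rw [e1, e2]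
  have e1 : x (-(t * t)) * S.nb j t = S.nb j t * y 1 := by
    have := (S.nb_conj_self hW j ht 1).2
    rw [mul_one] at this
    show S.xb (D.simple j) (-(t * t)) * S.nb j t = S.nb j t * S.xb (negR D (D.simple j)) 1
    rw [← this]
    group
  have e2 : S.nb j u * x (-(u * u)) = y 1 * S.nb j u := by
    have := (S.nb_conj_self hW j hu (-(u * u))).1
    rw [show -(-(u * u) / (u * u)) = (1 : F) by field_simp] at this
    show S.nb j u * S.xb (D.simple j) (-(u * u)) = S.xb (negR D (D.simple j)) 1 * S.nb j u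
    rw [← this]
    group
  have key : S.nb j (t * u) = S.nb j t * S.nb j (-1) * S.nb j u := by
    have h0 : -(t * u)⁻¹ = -t⁻¹ + -u⁻¹ := by
      field_simp
      linear_combination h
    have hm1 : S.nb j (-1 : F) = y 1 * x (-1) * y 1 := by
      rw [eself _ (neg_ne_zero.mpr one_ne_zero), inv_neg, inv_one, neg_neg]
    calc S.nb j (t * u) = x (t * u) * (y (-t⁻¹) * y (-u⁻¹)) * x (t * u) := by
          rw [hnb, h0, hy]
      _ = (x (t * u) * x (-t)) * S.nb j t * (x (-t) * x (-u)) * S.nb j u *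
            (x (-u) * x (t * u)) := by
          rw [ey t ht, ey u hu]; group
      _ = (x (-(t * t)) * S.nb j t) * x (-1) * (S.nb j u * x (-(u * u))) := by
          rw [hx, hx, hx, show t * u + -t = -(t * t) by linear_combination t * h,
            show -t + -u = (-1 : F) by linear_combination -h,
            show -u + t * u = -(u * u) by linear_combination u * h]
          group
      _ = S.nb j t * S.nb j (-1) * S.nb j u := by
          rw [e1, e2, hm1]; group
  rw [hb, hb, hb, key]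
  group

include hW in
theorem hb_mul [Finite F] (j : Fin D.rank) (t u : Fˣ) :
    S.hb j (t : F) * S.hb j (u : F) = S.hb j ((t * u : Fˣ) : F) := by
  classical
  have hp := G.full.simple_lt j.isLt
  obtain ⟨g, hg⟩ := IsCyclic.exists_generator (α := Fˣ)
  let h : Fˣ → E := fun v => S.hb j (v : F)
  -- the map to matrices is multiplicative
  let φ : Fˣ →* GL D.Idx F := MonoidHom.mk' (fun v => G.full.hr (D.simple j) (v : F))
    fun a b => by
      rw [Units.val_mul]
      exact (G.full.hr_simple_mul j.isLt a.ne_zero b.ne_zero).symm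
  have hθ : ∀ v, S.θ (h v) = φ v := fun v => S.θ_hb j v
  -- the `h(v)` commute
  have hz : ∀ v : Fˣ, ∃ z ∈ Subgroup.center E, ∃ k : ℤ, h v = z * h g ^ k := fun v => by
    obtain ⟨k, hk⟩ := Subgroup.mem_zpowers_iff.mp (hg v)
    refine ⟨h v * (h g ^ k)⁻¹, S.ker_le_center hW ?_, k, by group⟩
    rw [MonoidHom.mem_ker, map_mul, map_inv, map_zpow, hθ, hθ, ← map_zpow, hk, mul_inv_cancel]
  have hcomm : ∀ v w : Fˣ, h v * h w = h w * h v := fun v w => by
    obtain ⟨z, hzc, k, ev⟩ := hz v
    obtain ⟨z', hzc', k', ew⟩ := hz w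
    have c1 : ∀ a, a * z = z * a := Subgroup.mem_center_iff.mp hzc
    have c2 : ∀ a, a * z' = z' * a := Subgroup.mem_center_iff.mp hzc'
    rw [ev, ew]
    calc z * h g ^ k * (z' * h g ^ k') = z * (h g ^ k * z') * h g ^ k' := by group
      _ = z * z' * (h g ^ k * h g ^ k') := by rw [c2]; group
      _ = z' * z * (h g ^ k' * h g ^ k) := by rw [c1 z', ← _root_.zpow_add, ← _root_.zpow_add, add_comm]
      _ = z' * (z * h g ^ k') * h g ^ k := by group
      _ = z' * h g ^ k' * (z * h g ^ k) := by rw [← c1]; group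
  -- squares split off
  have hsq : ∀ v w : Fˣ, h (v * v * w) = h w * h (v * v) := fun v w => by
    obtain ⟨c, -, hc⟩ := S.exists_HB hW (S.hb_mem j v.ne_zero)
    have hχ : (T.chi (D.simple j) c : F) = (v : F) * v := by
      have e := congrArg S.θ (hc _ hp 1)
      rw [map_mul, map_mul, map_inv, S.θ_hb, S.θ_x, S.θ_x,
        G.full.hr_conj_simple j.isLt hp v.ne_zero, (G.full.node_spec j.isLt).2.2.1] at e
      have := G.x_inj hp e
      rw [mul_one, mul_one, show (2 : ℤ) = (2 : ℕ) from rfl, zpow_natCast, pow_two] at this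
      exact this.symm
    have e : h v * h w * (h v)⁻¹ = h (v * v * w) * (h (v * v))⁻¹ := by
      show S.hb j (v : F) * (S.nb j (w : F) * S.nb j (-1)) * (S.hb j (v : F))⁻¹ =
        S.nb j ((v * v * w : Fˣ) : F) * S.nb j (-1) *
          (S.nb j ((v * v : Fˣ) : F) * S.nb j (-1))⁻¹
      rw [show S.hb j (v : F) * (S.nb j (w : F) * S.nb j (-1)) * (S.hb j (v : F))⁻¹ =
        (S.hb j (v : F) * S.nb j (w : F) * (S.hb j (v : F))⁻¹) *
          (S.hb j (v : F) * S.nb j (-1) * (S.hb j (v : F))⁻¹) by group,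
        S.HB_nb hW hc, S.HB_nb hW hc, hχ, mul_neg, mul_one, _root_.mul_inv_rev,
        S.nb_inv, S.nb_inv, neg_neg, Units.val_mul, Units.val_mul, ← S.nb_inv j 1]
      group
    rw [hcomm, mul_inv_cancel_right, eq_mul_inv_iff_mul_eq] at e
    exact e.symm
  show h t * h u = h (t * u)
  have hsq' : ∀ v w : Fˣ, IsSquare v → h (v * w) = h v * h w := fun v w hv => by
    obtain ⟨a, rfl⟩ := hv
    rw [hsq, hcomm]
  by_cases hts : IsSquare t
  · rw [hsq' t u hts]
  by_cases hus : IsSquare u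
  · rw [mul_comm t u, hsq' u t hus, hcomm]
  obtain ⟨t₀, u₀, hadd, ht₀, hu₀⟩ := exists_nonsquare_pair hts
  -- every non-square is `t` times a square
  have hns : ∀ v : Fˣ, ¬ IsSquare v → IsSquare (v * t⁻¹) := fun v hv => by
    obtain ⟨a, ha⟩ := Subgroup.mem_zpowers_iff.mp (hg v)
    obtain ⟨b, hb'⟩ := Subgroup.mem_zpowers_iff.mp (hg t)
    have hodd : ∀ (w : Fˣ) (k : ℤ), g ^ k = w → ¬ IsSquare w → Odd k := fun w k e hw => by
      by_contra hk
      obtain ⟨m, rfl⟩ := Int.not_odd_iff_even.mp hk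
      exact hw ⟨g ^ m, by rw [← e, _root_.zpow_add]⟩
    obtain ⟨m, hm⟩ := (hodd v a ha hv).sub_odd (hodd t b hb' hts)
    exact ⟨g ^ m, by rw [← ha, ← hb', ← _root_.zpow_neg, ← _root_.zpow_add, ← _root_.zpow_add, ← sub_eq_add_neg, hm]⟩
  have htt : IsSquare (t * t) := ⟨t, rfl⟩
  have hmul : ∀ v w : Fˣ, ¬ IsSquare v → ¬ IsSquare w →
      ∃ a b, IsSquare a ∧ IsSquare b ∧ h v * h w = h t * h t * (h a * h b) ∧
        h (v * w) = h (t * t) * (h a * h b) := fun v w hv hw => by
    refine ⟨v * t⁻¹, w * t⁻¹, hns v hv, hns w hw, ?_, ?_⟩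
    · have ev : h v = h (v * t⁻¹) * h t := by rw [← hsq' _ t (hns v hv), inv_mul_cancel_right]
      have ew : h w = h (w * t⁻¹) * h t := by rw [← hsq' _ t (hns w hw), inv_mul_cancel_right]
      rw [ev, ew]
      calc h (v * t⁻¹) * h t * (h (w * t⁻¹) * h t)
          = h (v * t⁻¹) * h t * (h t * h (w * t⁻¹)) := by rw [hcomm (w * t⁻¹) t]
        _ = (h (v * t⁻¹) * (h t * h t)) * h (w * t⁻¹) := by group
        _ = (h t * h t * h (v * t⁻¹)) * h (w * t⁻¹) := by
            rw [← mul_assoc (h (v * t⁻¹)), hcomm (v * t⁻¹) t, mul_assoc (h t), hcomm (v * t⁻¹) t,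
              ← mul_assoc (h t) (h t)]
        _ = _ := by group
    · rw [show v * w = t * t * (v * t⁻¹ * (w * t⁻¹)) from ?_, hsq' _ _ htt, hsq' _ _ (hns v hv)]
      simp [mul_assoc, mul_comm, mul_left_comm]
  have hgg : h t * h t = h (t * t) := by
    obtain ⟨a, b, -, -, e1, e2⟩ := hmul t₀ u₀ ht₀ hu₀
    have e3 : h t₀ * h u₀ = h (t₀ * u₀) := by
      show S.hb j (t₀ : F) * S.hb j (u₀ : F) = _
      rw [S.hb_mul_of_add_eq_one hW j t₀.ne_zero u₀.ne_zero hadd]
      rfl
    exact mul_right_cancel (e1.symm.trans (e3.trans e2))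
  obtain ⟨a, b, -, -, e1, e2⟩ := hmul t u hts hus
  rw [e1, e2, hgg]

/-- The element `n_r(t)` in the group. -/
def nbR (r : ℕ) (t : F) : E := S.xb r t * S.xb (negR D r) (-t⁻¹) * S.xb r t

include hW in
/-- The relations (R3) for all roots. -/
theorem hbR_mul [Finite F] {r : ℕ} (hr : r < D.nroots) {t u : F} (ht : t ≠ 0) (hu : u ≠ 0) :
    S.nbR r t * S.nbR r (-1) * (S.nbR r u * S.nbR r (-1)) =
      S.nbR r (t * u) * S.nbR r (-1) := by
  obtain ⟨L, j, hL⟩ := G.exists_word_simple hr
  obtain ⟨c, hc⟩ := G.rootAct_nw (F := F) L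
  set κ := c (G.full.simp' j) with hκ
  have hcx : ∀ (s : Fin D.nroots) (v : F),
      S.nbw L * S.xb s.val v * (S.nbw L)⁻¹ = S.xb (G.full.pw L s).val ((c s : F) * v) := by
    intro s v
    obtain ⟨b, hb'⟩ := S.nbw_conj hW L s v
    have e := congrArg S.θ hb'
    rw [map_mul, map_mul, map_inv, S.θ_nbw, S.θ_x, S.θ_x, (hc s).2.2.2] at e
    rw [hb', G.x_inj (Fin.isLt _) e]
  have hn : ∀ v : F, S.nbR r v = S.nbw L * S.nb j (v / (κ : F)) * (S.nbw L)⁻¹ := fun v => by
    have e1 := hcx (G.full.simp' j) (v / (κ : F))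
    have e2 := hcx (negF (G.full.simp' j)) (-(v / (κ : F))⁻¹)
    rw [hL, ← hκ, mul_div_cancel₀ _ κ.ne_zero] at e1
    rw [G.negF_pw, hL, (hc _).2.1, ← hκ] at e2
    have e3 : ((κ⁻¹ : Fˣ) : F) * -(v / (κ : F))⁻¹ = -v⁻¹ := by
      rw [Units.val_inv_eq_inv_val, inv_div]
      field_simp
    rw [e3] at e2
    have e1' : S.nbw L * S.xb (D.simple j) (v / (κ : F)) * (S.nbw L)⁻¹ = S.xb r v := e1
    have e2' : S.nbw L * S.xb (negR D (D.simple j)) (-(v / (κ : F))⁻¹) * (S.nbw L)⁻¹ =
        S.xb (negR D r) (-v⁻¹) := e2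
    rw [nbR, nb, ← e1', ← e2']
    group
  have hh : ∀ v : F, v ≠ 0 → S.nbR r v * S.nbR r (-1) = S.nbw L * S.hb j v * (S.nbw L)⁻¹ := by
    intro v hv
    have hκ1 : (1 : F) / (κ : F) ≠ 0 := div_ne_zero one_ne_zero κ.ne_zero
    have e : S.hb j (v / (κ : F)) = S.hb j v * S.hb j (1 / (κ : F)) := by
      have := S.hb_mul hW j (Units.mk0 v hv) (Units.mk0 _ hκ1)
      simp only [Units.val_mk0, Units.val_mul, mul_one_div] at this
      exact this.symm
    rw [hn, hn, show (-1 : F) / (κ : F) = -(1 / (κ : F)) by ring]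
    have e4 : S.nb j (v / (κ : F)) * S.nb j (-(1 / (κ : F))) =
        S.hb j (v / (κ : F)) * (S.hb j (1 / (κ : F)))⁻¹ := by
      rw [hb, hb, _root_.mul_inv_rev, S.nb_inv, S.nb_inv, neg_neg, ← S.nb_inv j 1]
      group
    calc S.nbw L * S.nb j (v / (κ : F)) * (S.nbw L)⁻¹ *
          (S.nbw L * S.nb j (-(1 / (κ : F))) * (S.nbw L)⁻¹)
        = S.nbw L * (S.nb j (v / (κ : F)) * S.nb j (-(1 / (κ : F)))) * (S.nbw L)⁻¹ := by group
      _ = _ := by rw [e4, e, mul_inv_cancel_right]
  rw [hh t ht, hh u hu, hh _ (mul_ne_zero ht hu)]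
  have := S.hb_mul hW j (Units.mk0 t ht) (Units.mk0 u hu)
  simp only [Units.val_mk0, Units.val_mul] at this
  rw [← this]
  group

end StData

end Good

end Tab

end CfsgLib.Chev
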