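import Cfsg.Agent.Chev.RootMap
import Cfsg.Agent.Chev.SteinbergFinite
import Cfsg.Agent.Chev.Struct

/-!
Homomorphisms between Chevalley groups given by words of root elements (foldings), certified by
collecting commutators symbolically.
-/

set_option autoImplicit false

namespace CfsgLib.Chev

open Cfsg.Lie Matrix
open scoped MatrixGroups

namespace Tab

variable {D : ChevalleyDatum}

/-- The order of the factors `x_r(C t^i u^j)` of a symbolic word. -/
def monLt (a b : ℕ × ℤ × ℕ × ℕ) : Bool :=
  Nat.blt a.1 b.1 || (Nat.beq a.1 b.1 && (Nat.blt a.2.2.1 b.2.2.1 ||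
    (Nat.beq a.2.2.1 b.2.2.1 && Nat.blt a.2.2.2 b.2.2.2)))

/-- Replace the product `a b` by `b a` and the terms of the commutator. -/
def swapMon (T : Tab D) (a b : ℕ × ℤ × ℕ × ℕ) : List (ℕ × ℤ × ℕ × ℕ) :=
  b :: a :: cond (Nat.beq a.1 b.1) [] ((T.commT b.1 a.1).map fun c =>
    (c.1, c.2.1 * (-1) ^ c.2.2.1 * b.2.1 ^ c.2.2.1 * a.2.1 ^ c.2.2.2,
      b.2.2.1 * c.2.2.1 + a.2.2.1 * c.2.2.2, b.2.2.2 * c.2.2.1 + a.2.2.2 * c.2.2.2))

/-- The factors may be swapped. -/
def canSwap (D : ChevalleyDatum) (a b : ℕ × ℤ × ℕ × ℕ) : Bool :=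
  monLt b a && Nat.blt a.1 D.nroots && Nat.blt b.1 D.nroots &&
    (Nat.beq a.1 b.1 || !(Nat.beq a.1 (negR D b.1)))

/-- One step of collecting. -/
def collectStep (T : Tab D) : List (ℕ × ℤ × ℕ × ℕ) → List (ℕ × ℤ × ℕ × ℕ)
  | [] => []
  | [a] => cond (decide (a.2.1 = 0)) [] [a]
  | a :: b :: tl => cond (decide (a.2.1 = 0)) (b :: tl)
      (cond (Nat.beq a.1 b.1 && Nat.beq a.2.2.1 b.2.2.1 && Nat.beq a.2.2.2 b.2.2.2)
        ((a.1, a.2.1 + b.2.1, a.2.2) :: tl)
        (cond (canSwap D a b) (T.swapMon a b ++ tl) (a :: collectStep T (b :: tl))))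

/-- Collecting. -/
def collect (T : Tab D) : ℕ → List (ℕ × ℤ × ℕ × ℕ) → List (ℕ × ℤ × ℕ × ℕ)
  | 0, l => l
  | k + 1, l => collect T k (T.collectStep l)

/-- The image of the monomial root element. -/
def foldImg (f : List (List (ℕ × ℤ))) (r : ℕ) (C : ℤ) (i j : ℕ) : List (ℕ × ℤ × ℕ × ℕ) :=
  (f.getD r []).map fun q => (q.1, q.2 * C, i, j)

/-- The image of the relation (R2) holds. -/
def chkFoldPair {D' : ChevalleyDatum} (T : Tab D) (T' : Tab D') (f : List (List (ℕ × ℤ)))
    (fuel r s : ℕ) : Bool :=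
  decide (T.collect fuel (foldImg f s 1 0 1 ++ foldImg f r 1 1 0) =
    T.collect fuel (foldImg f r 1 1 0 ++ foldImg f s 1 0 1 ++
      (T'.commT r s).flatMap fun c => foldImg f c.1 (c.2.1 * (-1) ^ c.2.2.1) c.2.2.1 c.2.2.2))

/-- The image of a root consists of commuting roots of the same sign, the first one being
independent of the others. -/
def chkFoldRoot (D' : ChevalleyDatum) (T : Tab D) (f : List (List (ℕ × ℤ))) (r : ℕ) : Bool :=
  !(f.getD r []).isEmpty &&
    (f.getD r []).all (fun a => Nat.blt a.1 D.nroots && decide (a.2 = 1 ∨ a.2 = -1) &&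
      (Nat.ble D'.nroots (Nat.mul 2 r) == Nat.ble D.nroots (Nat.mul 2 a.1)) &&
      (f.getD r []).all fun b => T.chkCommute 0 a.1 b.1) &&
    (Nat.blt (Nat.mul 2 r) D'.nroots ||
      ((f.getD r []).tail.all (fun a => !(Nat.beq a.1 ((f.getD r []).headD default).1) &&
        (f.getD r []).tail.all fun b => (T.commT a.1 b.1).isEmpty)))

/-- All relations are respected. -/
def chkFold {D' : ChevalleyDatum} (T : Tab D) (T' : Tab D') (f : List (List (ℕ × ℤ)))
    (fuel : ℕ) : Bool :=
  allBelow (fun r => chkFoldRoot D' T f r && allBelow (fun s =>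
    Nat.beq s r || Nat.beq s (negR D' r) || T.chkFoldPair T' f fuel r s) D'.nroots) D'.nroots

namespace Good

variable {T : Tab D} (G : T.Good) {F : Type*} [Field F]
include G

theorem evTerms_cons (c : ℕ × ℤ × ℕ × ℕ) (l : List (ℕ × ℤ × ℕ × ℕ)) (t u : F) :
    G.evTerms (c :: l) t u =
      G.full.x c.1 ((c.2.1 : F) * (t ^ c.2.2.1 * u ^ c.2.2.2)) * G.evTerms l t u := by
  simp [evTerms]

theorem evTerms_append (l l' : List (ℕ × ℤ × ℕ × ℕ)) (t u : F) :
    G.evTerms (l ++ l') t u = G.evTerms l t u * G.evTerms l' t u := by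
  simp [evTerms]

theorem evTerms_swap (a b : ℕ × ℤ × ℕ × ℕ) (h : canSwap D a b = true) (t u : F) :
    G.evTerms (T.swapMon a b) t u =
      G.full.x a.1 ((a.2.1 : F) * (t ^ a.2.2.1 * u ^ a.2.2.2)) *
        G.full.x b.1 ((b.2.1 : F) * (t ^ b.2.2.1 * u ^ b.2.2.2)) := by
  simp only [canSwap, Bool.and_eq_true, Bool.or_eq_true, Bool.not_eq_true', Nat.blt_eq] at h
  obtain ⟨⟨⟨-, ha⟩, hb⟩, h⟩ := h
  rw [swapMon, G.evTerms_cons, G.evTerms_cons, ← mul_assoc]
  by_cases e : a.1 = b.1
  · rw [e, show Nat.beq b.1 b.1 = true from Nat.beq_refl _, cond_true]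
    rw [show G.evTerms [] t u = 1 from rfl, mul_one, G.full.x_add, G.full.x_add, add_comm]
  · have e' : Nat.beq a.1 b.1 = false := beq_false e
    rw [e', cond_false]
    have hne : a.1 ≠ negR D b.1 := fun e2 => by
      rcases h with h | h
      · rw [e'] at h; exact Bool.noConfusion h
      · rw [e2] at h; simp at h
    rw [G.full.x_comm hb ha e hne, G.full.cert.commWord_eq hb ha]
    congr 1
    rw [evTerms, rhsWord, List.map_map, List.map_map]
    refine congrArg List.prod (List.map_congr_left fun c _ => ?_)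
    simp only [Function.comp_apply]
    congr 1
    push_cast
    rw [neg_pow ((b.2.1 : F) * (t ^ b.2.2.1 * u ^ b.2.2.2))]
    simp only [mul_pow, pow_mul, pow_add]
    ring

theorem evTerms_collectStep (l : List (ℕ × ℤ × ℕ × ℕ)) (t u : F) :
    G.evTerms (T.collectStep l) t u = G.evTerms l t u := by
  induction l with
  | nil => rfl
  | cons a rest ih =>
    cases rest with
    | nil =>
      rw [collectStep]
      by_cases hz : a.2.1 = 0
      · rw [decide_eq_true hz, cond_true, G.evTerms_cons, hz, Int.cast_zero, zero_mul,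
          G.full.x_zero, one_mul]
      · rw [decide_eq_false hz, cond_false]
    | cons b tl =>
      rw [collectStep]
      by_cases hz : a.2.1 = 0
      · rw [decide_eq_true hz, cond_true, G.evTerms_cons a, hz, Int.cast_zero, zero_mul,
          G.full.x_zero, one_mul]
      rw [decide_eq_false hz, cond_false]
      by_cases hm : (Nat.beq a.1 b.1 && Nat.beq a.2.2.1 b.2.2.1 && Nat.beq a.2.2.2 b.2.2.2) = true
      · rw [hm, cond_true]
        simp only [Bool.and_eq_true, Nat.beq_eq] at hm
        obtain ⟨⟨h1, h2⟩, h3⟩ := hm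
        simp only [G.evTerms_cons]
        rw [← mul_assoc (G.full.x a.1 _), h1, h2, h3, G.full.x_add]
        congr 2
        push_cast
        ring
      rw [Bool.not_eq_true] at hm
      rw [hm, cond_false]
      by_cases hs : canSwap D a b = true
      · rw [hs, cond_true, G.evTerms_append, G.evTerms_swap a b hs, G.evTerms_cons a,
          G.evTerms_cons b, mul_assoc]
      · rw [Bool.not_eq_true] at hs
        rw [hs, cond_false, G.evTerms_cons, G.evTerms_cons, ih]

theorem evTerms_collect (k : ℕ) (l : List (ℕ × ℤ × ℕ × ℕ)) (t u : F) :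
    G.evTerms (T.collect k l) t u = G.evTerms l t u := by
  induction k generalizing l with
  | zero => rfl
  | succ k ih => rw [collect, ih, G.evTerms_collectStep]

/-- The image of a root element under a folding. -/
def foldX (f : List (List (ℕ × ℤ))) (r : ℕ) (t : F) : GL D.Idx F :=
  ((f.getD r []).map fun q => G.full.x q.1 ((q.2 : F) * t)).prod

theorem evTerms_foldImg (f : List (List (ℕ × ℤ))) (r : ℕ) (C : ℤ) (i j : ℕ) (t u : F) :
    G.evTerms (foldImg f r C i j) t u = G.foldX f r ((C : F) * (t ^ i * u ^ j)) := by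
  rw [evTerms, foldImg, foldX, List.map_map]
  refine congrArg List.prod (List.map_congr_left fun q _ => ?_)
  simp [mul_assoc]

variable {D' : ChevalleyDatum} {T' : Tab D'} (G' : T'.Good) {f : List (List (ℕ × ℤ))} {fuel : ℕ}

omit G in
theorem foldSpec (h : T.chkFold T' f fuel = true) {r : ℕ} (hr : r < D'.nroots) :
    (f.getD r [] ≠ [] ∧
      (∀ a ∈ f.getD r [], a.1 < D.nroots ∧ (a.2 = 1 ∨ a.2 = -1) ∧
        (D'.nroots ≤ 2 * r ↔ D.nroots ≤ 2 * a.1) ∧
        ∀ b ∈ f.getD r [], T.chkCommute 0 a.1 b.1 = true) ∧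
      (D'.nroots ≤ 2 * r → ∀ a ∈ (f.getD r []).tail,
        a.1 ≠ ((f.getD r []).headD default).1 ∧
          ∀ b ∈ (f.getD r []).tail, T.commT a.1 b.1 = [])) ∧
    ∀ s < D'.nroots, s ≠ r → s ≠ negR D' r → T.chkFoldPair T' f fuel r s = true := by
  simp only [chkFold, allBelow_iff, Bool.and_eq_true, Bool.or_eq_true, chkFoldRoot,
    List.all_eq_true, List.isEmpty_iff, Nat.blt_eq, Bool.not_eq_true', decide_eq_true_eq,
    List.isEmpty_eq_false_iff, beq_iff_eq, Nat.beq_eq] at h
  obtain ⟨⟨⟨h0, h1⟩, h2⟩, h3⟩ := h r hr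
  refine ⟨⟨h0, fun a ha => ?_, fun hp a ha => ?_⟩, fun s hs n1 n2 => ?_⟩
  · obtain ⟨⟨⟨g1, g2⟩, g3⟩, g4⟩ := h1 a ha
    refine ⟨g1, g2, ?_, g4⟩
    exact ⟨fun h => Nat.le_of_ble_eq_true (g3 ▸ Nat.ble_eq_true_of_le h),
      fun h => Nat.le_of_ble_eq_true (g3.symm ▸ Nat.ble_eq_true_of_le h)⟩
  · have h2' := h2.resolve_left (fun e => absurd hp (Nat.not_le.mpr e)) a ha
    exact ⟨fun e => by rw [e] at h2'; simp at h2', h2'.2⟩
  · exact ((h3 s hs).resolve_left fun e => e.elim n1 n2)

theorem foldX_add (h : T.chkFold T' f fuel = true) {r : ℕ} (hr : r < D'.nroots) (t u : F) :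
    G.foldX f r t * G.foldX f r u = G.foldX f r (t + u) := by
  obtain ⟨⟨-, hl, -⟩, -⟩ := foldSpec h hr
  rw [foldX, foldX, foldX]
  have key : ∀ l : List (ℕ × ℤ), (∀ a ∈ l, a ∈ f.getD r []) →
      (l.map fun q => G.full.x q.1 ((q.2 : F) * t)).prod *
        (l.map fun q => G.full.x q.1 ((q.2 : F) * u)).prod =
      (l.map fun q => G.full.x q.1 ((q.2 : F) * (t + u))).prod := by
    intro l
    induction l with
    | nil => intro _; simp
    | cons a l ih =>
      intro hsub
      simp only [List.map_cons, List.prod_cons]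
      have hc : Commute (l.map fun q => G.full.x q.1 ((q.2 : F) * t)).prod
          (G.full.x a.1 ((a.2 : F) * u)) := Commute.list_prod_left _ _ fun x hx => by
        obtain ⟨b, hb, rfl⟩ := List.mem_map.mp hx
        exact G.x_commute (p := 0) (by simp) ((hl b (hsub b (List.mem_cons_of_mem _ hb))).2.2.2 a
          (hsub a (List.mem_cons_self ..))) _ _
      calc _ = G.full.x a.1 ((a.2 : F) * t) * ((l.map fun q => G.full.x q.1 ((q.2 : F) * t)).prod *
              G.full.x a.1 ((a.2 : F) * u)) * (l.map fun q => G.full.x q.1 ((q.2 : F) * u)).prod := by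
            group
        _ = _ := by
            rw [hc.eq, ← mul_assoc, G.full.x_add, mul_assoc,
              ih fun b hb => hsub b (List.mem_cons_of_mem _ hb), mul_add]
  exact key _ fun _ hb => hb

include G' in
/-- A certified folding gives a homomorphism of Chevalley groups. -/
theorem exists_fold [Finite F] (h : T.chkFold T' f fuel = true) (hW : T'.HasWit)
    {M : List (List ℤ)} (hM : T'.chkUni M = true) :
    ∃ ψ : D'.group F →* GL D.Idx F, ∀ (g : D'.group F) (r : ℕ) (t : F), r < D'.nroots →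
      (g : GL D'.Idx F) = G'.full.x r t → ψ g = G.foldX f r t := by
  classical
  let gx : ℕ → F → GL D'.Idx F × GL D.Idx F := fun r t =>
    if r < D'.nroots then (G'.full.x r t, G.foldX f r t) else 1
  let E := Subgroup.closure {p | ∃ r < D'.nroots, ∃ t, p = gx r t}
  have hgx : ∀ r t, gx r t ∈ E := fun r t => by
    by_cases hr : r < D'.nroots
    · exact Subgroup.subset_closure ⟨r, hr, t, rfl⟩
    · simp [gx, hr]
  let xb : ℕ → F → E := fun r t => ⟨gx r t, hgx r t⟩
  have hlt : ∀ r s c, r < D'.nroots → s < D'.nroots → c ∈ T'.commT r s → c.1 < D'.nroots := by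
    intro r s c hr hs hc
    simp only [commT, List.mem_filterMap, List.mem_cons, List.not_mem_nil, or_false] at hc
    obtain ⟨b, hb, hc⟩ := hc
    obtain ⟨k, hk, rfl⟩ := Option.map_eq_some_iff.mp hc
    rcases hb with rfl | rfl | rfl | rfl | rfl | rfl | rfl
    · exact (G'.rootT_add hr hs hk).1
    · exact (G'.rootT_add hr hs hk).1
    · exact (G'.rootT_add hs hr hk).1
    · exact (G'.rootT_add hr hs hk).1
    · exact (G'.rootT_add hs hr hk).1
    · obtain ⟨k', hk', hk''⟩ := Option.bind_eq_some_iff.mp hk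
      exact (G'.rootT_add (G'.rootT_add hr hs hk').1 hs hk'').1
    · obtain ⟨k', hk', hk''⟩ := Option.bind_eq_some_iff.mp hk
      exact (G'.rootT_add (G'.rootT_add hs hr hk').1 hr hk'').1
  let S : G'.StData F E :=
    { xb := xb
      θ := (MonoidHom.fst _ _).comp E.subtype
      θ_x := fun r t => by
        by_cases hr : r < D'.nroots <;> simp [xb, gx, hr, Full.x]
      add := fun r hr t u => Subtype.ext (by
        simp only [Subgroup.coe_mul, xb, gx, hr, if_true, Prod.mk_mul_mk, G'.full.x_add,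
          G.foldX_add h hr])
      comm := fun r hr s hs h1 h2 t u => by
        refine Subtype.ext (Prod.ext ?_ ?_)
        · simp only [Subgroup.coe_mul, InvMemClass.coe_inv, Subgroup.val_list_prod, xb, gx, hr, hs,
            if_true, Prod.fst_mul, Prod.fst_inv, List.map_map]
          have e := G'.full.x_comm hr hs h1 h2 t u
          rw [G'.full.cert.commWord_eq hr hs] at e
          rw [show (G'.full.x s u)⁻¹ * (G'.full.x r t)⁻¹ * G'.full.x s u * G'.full.x r t =
            (G'.full.x s u)⁻¹ * (G'.full.x r t)⁻¹ * (G'.full.x s u * G'.full.x r t) by group, e,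
            show (G'.full.x s u)⁻¹ * (G'.full.x r t)⁻¹ * (G'.full.x r t * G'.full.x s u *
              ((rhsWord (T'.commT r s) t u).map fun p => G'.full.x p.1 p.2).prod) =
              ((rhsWord (T'.commT r s) t u).map fun p => G'.full.x p.1 p.2).prod by group]
          rw [show ∀ l : List (GL D'.Idx F × GL D.Idx F), l.prod.1 = (l.map Prod.fst).prod from
            fun l => map_list_prod (MonoidHom.fst _ _) l, List.map_map]
          refine congrArg List.prod (List.map_congr_left fun p hp => ?_)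
          simp only [rhsWord, List.mem_map] at hp
          obtain ⟨c, hc, rfl⟩ := hp
          simp [hlt r s c hr hs hc]
        · simp only [Subgroup.coe_mul, InvMemClass.coe_inv, Subgroup.val_list_prod, xb, gx, hr, hs,
            if_true, Prod.snd_mul, Prod.snd_inv, List.map_map]
          have e := (foldSpec h hr).2 s hs h1 h2
          simp only [chkFoldPair, decide_eq_true_eq] at e
          have e' := congrArg (fun l => G.evTerms (F := F) l t u) e
          simp only [G.evTerms_collect, G.evTerms_append, G.evTerms_foldImg, Int.cast_one, pow_one,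
            pow_zero, one_mul, mul_one] at e'
          rw [show (G.foldX f s u)⁻¹ * (G.foldX f r t)⁻¹ * G.foldX f s u * G.foldX f r t =
            (G.foldX f s u)⁻¹ * (G.foldX f r t)⁻¹ * (G.foldX f s u * G.foldX f r t) by group, e']
          have hfl : ∀ l : List (ℕ × ℤ × ℕ × ℕ), G.evTerms (F := F) (l.flatMap fun c =>
              foldImg f c.1 (c.2.1 * (-1) ^ c.2.2.1) c.2.2.1 c.2.2.2) t u =
              ((rhsWord l t u).map fun p => G.foldX f p.1 p.2).prod := by
            intro l
            induction l with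
            | nil => rfl
            | cons c l ih =>
              rw [List.flatMap_cons, G.evTerms_append, ih, G.evTerms_foldImg]
              simp only [rhsWord, List.map_cons, List.prod_cons]
              congr 2
              push_cast
              rw [neg_pow t]
              ring
          rw [hfl, show ∀ l : List (GL D'.Idx F × GL D.Idx F), l.prod.2 = (l.map Prod.snd).prod from
            fun l => map_list_prod (MonoidHom.snd _ _) l, List.map_map]
          rw [show ∀ a b c : GL D.Idx F, b⁻¹ * a⁻¹ * (a * b * c) = c from fun a b c => by group]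
          refine congrArg List.prod (List.map_congr_left fun p hp => ?_)
          simp only [rhsWord, List.mem_map] at hp
          obtain ⟨c, hc, rfl⟩ := hp
          simp [hlt r s c hr hs hc]
      gen := by
        rw [eq_top_iff]
        rintro ⟨p, hp⟩ -
        refine Subgroup.closure_induction
          (p := fun p hp => (⟨p, hp⟩ : E) ∈ Subgroup.closure {g | ∃ r < D'.nroots, ∃ t, g = xb r t})
          (fun p hp => ?_) (one_mem _) (fun a b _ _ ha hb => mul_mem ha hb)
          (fun a _ ha => inv_mem ha) hp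
        obtain ⟨r, hr, t, rfl⟩ := hp
        exact Subgroup.subset_closure ⟨r, hr, t, rfl⟩ }
  have hker : S.θ.ker = ⊥ := by
    refine S.ker_eq_bot hW (fun j t u => ?_) (G'.hT_injective hM)
    exact S.hbR_mul hW (G'.full.simple_lt j.isLt) t.ne_zero u.ne_zero
  have hrange : S.θ.range = D'.group F := S.θ_range
  let e : E ≃* D'.group F := (MonoidHom.ofInjective (S.θ.ker_eq_bot_iff.mp hker)).trans
    (MulEquiv.subgroupCongr hrange)
  refine ⟨((MonoidHom.snd _ _).comp E.subtype).comp e.symm.toMonoidHom, fun g r t hr hg => ?_⟩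
  have : e.symm g = xb r t := by
    rw [MulEquiv.symm_apply_eq]
    refine Subtype.ext (hg.trans ?_)
    show G'.full.x r t = S.θ (xb r t)
    exact (S.θ_x r t).symm
  show (e.symm g : GL D'.Idx F × GL D.Idx F).2 = _
  rw [this]
  simp [xb, gx, hr]

include G' in
/-- A folding which keeps the torus diagonal is injective. -/
theorem fold_injective (h : T.chkFold T' f fuel = true) (ψ : D'.group F →* GL D.Idx F)
    (hψ : ∀ (g : D'.group F) (r : ℕ) (t : F), r < D'.nroots →
      (g : GL D'.Idx F) = G'.full.x r t → ψ g = G.foldX f r t)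
    (hns : ∀ (g : D'.group F) (i : ℕ), i < D'.rank → (g : GL D'.Idx F) = G'.full.ns F i →
      ψ g ∈ D.monomialSubgroup F)
    (hhr : ∀ (g : D'.group F) (i : ℕ) (t : F), i < D'.rank → t ≠ 0 →
      (g : GL D'.Idx F) = G'.full.hr (D'.simple i) t → ψ g ∈ D.diagonalSubgroup F) :
    Function.Injective ψ := by
  classical
  have hX : ∀ r (hr : r < D'.nroots) (t : F),
      ψ ⟨G'.full.x r t, G'.x_mem_group r t⟩ = G.foldX f r t := fun r hr t => hψ _ r t hr rfl
  have hpos : ∀ r, IsPos D' r → ∀ t : F, G.foldX f r t ∈ D.posUnipotent F := by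
    intro r hr t
    obtain ⟨⟨-, hl, -⟩, -⟩ := foldSpec h hr.1
    refine list_prod_mem fun x hx => ?_
    obtain ⟨a, ha, rfl⟩ := List.mem_map.mp hx
    exact G.x_mem_pos ⟨(hl a ha).1, (hl a ha).2.2.1.mp hr.2⟩ _
  have hneg : ∀ r < D'.nroots, ¬ IsPos D' r → ∀ t : F, G.foldX f r t ∈ D.negUnipotent F := by
    intro r hr hn t
    obtain ⟨⟨-, hl, -⟩, -⟩ := foldSpec h hr
    refine list_prod_mem fun x hx => ?_
    obtain ⟨a, ha, rfl⟩ := List.mem_map.mp hx
    exact G.x_mem_neg (hl a ha).1 (fun hp => hn ⟨hr, (hl a ha).2.2.1.mpr hp.2⟩) _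
  have hne : ∀ r, IsPos D' r → G.foldX f r (1 : F) ≠ 1 := by
    intro r hr e
    obtain ⟨⟨h0, hl, hhd⟩, -⟩ := foldSpec h hr.1
    have hhd' := hhd hr.2
    cases hf : f.getD r [] with
    | nil => exact h0 hf
    | cons a tl =>
      rw [foldX, hf, List.map_cons, List.prod_cons, mul_eq_one_iff_eq_inv] at e
      rw [hf] at hl hhd'
      simp only [List.tail_cons, List.headD_cons] at hhd'
      let S : Set ℕ := {s | s ∈ tl.map Prod.fst}
      have hS : T.Closed S := by
        refine ⟨fun s hs => ?_, fun s hs s' hs' c hc => ?_⟩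
        · obtain ⟨b, hb, rfl⟩ := List.mem_map.mp hs
          have := hl b (List.mem_cons_of_mem _ hb)
          exact ⟨this.1, this.2.2.1.mp hr.2⟩
        · obtain ⟨b, hb, rfl⟩ := List.mem_map.mp hs
          obtain ⟨b', hb', rfl⟩ := List.mem_map.mp hs'
          rw [(hhd' b hb).2 b' hb'] at hc
          simp at hc
      have haS : a.1 ∉ S := fun hs => by
        obtain ⟨b, hb, hb'⟩ := List.mem_map.mp hs
        exact (hhd' b hb).1 hb'
      have ha := hl a (List.mem_cons_self ..)
      have hz := G.eq_zero_of_x_mem_closed ⟨ha.1, ha.2.2.1.mp hr.2⟩ hS haS (by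
        rw [e]
        refine inv_mem (list_prod_mem fun x hx => ?_)
        obtain ⟨b, hb, rfl⟩ := List.mem_map.mp hx
        exact G.x_mem_US (List.mem_map_of_mem hb) _)
      rw [mul_one] at hz
      rcases ha.2.1 with e1 | e1 <;> rw [e1] at hz <;> simp at hz
  -- images of the Borel subgroup
  let K := (D.borelSubgroup F).comap ψ
  have hB : (D'.borelSubgroup F).subgroupOf (D'.group F) ≤ K := by
    intro g hg
    rw [Subgroup.mem_subgroupOf, G'.mem_borel] at hg
    obtain ⟨v, hv, c, hg⟩ := hg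
    have hvG : v ∈ (K.map (D'.group F).subtype) := by
      have hle : D'.posUnipotent F ≤ K.map (D'.group F).subtype := by
        rw [G'.posUnipotent_eq, US, Subgroup.closure_le]
        rintro _ ⟨r, hr, t, rfl⟩
        refine ⟨⟨_, G'.x_mem_group r t⟩, ?_, rfl⟩
        show ψ ⟨_, G'.x_mem_group r t⟩ ∈ D.borelSubgroup F
        rw [hX r hr.1]
        exact Subgroup.mem_sup_left (hpos r hr t)
      exact hle hv
    have hcG : T'.hT F c ∈ (K.map (D'.group F).subtype) := by
      clear hg
      induction c using G'.full.hT_induction with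
      | h1 => rw [map_one]; exact one_mem _
      | hm a b ha hb => rw [map_mul]; exact mul_mem ha hb
      | hs i u =>
        refine ⟨⟨_, G'.diagonal_le_group (by rw [G'.full.diagonal_eq_range]; exact ⟨_, rfl⟩)⟩,
          Subgroup.mem_sup_right (hhr _ i u i.isLt u.ne_zero ?_), rfl⟩
        exact G'.full.hT_single u
    obtain ⟨a, ha, e⟩ := mul_mem hvG hcG
    obtain rfl : a = g := Subtype.ext (e.trans hg.symm)
    exact ha
  rw [← ψ.ker_eq_bot_iff, eq_bot_iff, ← G'.normalCore_borel]
  refine Subgroup.normal_le_normalCore.mpr fun g hg => ?_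
  obtain ⟨b, hb, n, hn, L, hL, u, hu, e⟩ := G'.canonical_exists g.2
  let gb : D'.group F := ⟨b, G'.borel_le_group hb⟩
  let gn : D'.group F := ⟨n, G'.monomial_le_group hn⟩
  let gu : D'.group F := ⟨u, G'.US_le_group _ hu⟩
  have eg : g = gb * gn * gu := Subtype.ext e
  have hub : u ∈ D'.borelSubgroup F := Subgroup.mem_sup_left (G'.flip_le_pos _ hu)
  have hψb : ψ gb ∈ D.borelSubgroup F := hB (show gb ∈ _ from hb)
  have hψu : ψ gu ∈ D.borelSubgroup F := hB (show gu ∈ _ from hub)
  have hψn : ψ gn ∈ D.borelSubgroup F := by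
    rw [MonoidHom.mem_ker, eg, map_mul, map_mul] at hg
    have : ψ gn = (ψ gb)⁻¹ * (ψ gu)⁻¹ := by
      calc ψ gn = (ψ gb)⁻¹ * (ψ gb * ψ gn * ψ gu) * (ψ gu)⁻¹ := by group
        _ = _ := by rw [hg, mul_one]
    rw [this]
    exact mul_mem (inv_mem hψb) (inv_mem hψu)
  have hψmono : ψ gn ∈ D.monomialSubgroup F := by
    obtain ⟨c, L', hn'⟩ := G'.exists_word hn
    have hl : ∀ L' : List (Fin D'.rank),
        G'.full.nw F L' ∈ ((D.monomialSubgroup F).comap ψ).map (D'.group F).subtype := fun L' => by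
      refine list_prod_mem fun x hx => ?_
      obtain ⟨i, -, rfl⟩ := List.mem_map.mp hx
      exact ⟨⟨_, G'.monomial_le_group (G'.ns_mem_monomial i)⟩, hns _ i i.isLt rfl, rfl⟩
    have hc : T'.hT F c ∈ ((D.monomialSubgroup F).comap ψ).map (D'.group F).subtype := by
      clear hn'
      induction c using G'.full.hT_induction with
      | h1 => rw [map_one]; exact one_mem _
      | hm a b ha hb => rw [map_mul]; exact mul_mem ha hb
      | hs i u =>
        refine ⟨⟨_, G'.diagonal_le_group (by rw [G'.full.diagonal_eq_range]; exact ⟨_, rfl⟩)⟩,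
          Subgroup.mem_sup_left (hhr _ i u i.isLt u.ne_zero ?_), rfl⟩
        exact G'.full.hT_single u
    obtain ⟨a, ha, ea⟩ := mul_mem hc (hl L')
    obtain rfl : a = gn := Subtype.ext (ea.trans hn'.symm)
    exact ha
  have hψd : ψ gn ∈ D.diagonalSubgroup F := by
    rw [← G.borel_inf_monomial]; exact ⟨hψn, hψmono⟩
  have hdiag : n ∈ D'.diagonalSubgroup F := by
    refine G'.mem_diagonal_of_pos hn hL fun s hs => ?_
    by_contra hns'
    obtain ⟨c, hc⟩ := hL
    have e1 : gn * ⟨_, G'.x_mem_group s.val 1⟩ * gn⁻¹ =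
        (⟨_, G'.x_mem_group (G'.full.pw L s).val (c s : F)⟩ : D'.group F) :=
      Subtype.ext (by
        show n * G'.full.x s.val 1 * n⁻¹ = _
        rw [(hc s).2.2.2 1, mul_one])
    have e2 := congrArg ψ e1
    rw [map_mul, map_mul, map_inv, hX _ s.isLt, hX _ (Fin.isLt _)] at e2
    have h1 : ψ gn * G.foldX f s.val 1 * (ψ gn)⁻¹ ∈ D.posUnipotent F :=
      ((Subgroup.mem_normalizer_iff.mp (G.diagonal_le_normalizer_pos hψd)) _).mp (hpos _ hs 1)
    have h2 : ψ gn * G.foldX f s.val 1 * (ψ gn)⁻¹ ∈ D.negUnipotent F :=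
      e2 ▸ hneg _ (Fin.isLt _) hns' _
    have h3 : ψ gn * G.foldX f s.val 1 * (ψ gn)⁻¹ ∈ D.borelSubgroup F ⊓ D.negUnipotent F :=
      ⟨Subgroup.mem_sup_left h1, h2⟩
    rw [G.borel_inf_neg, Subgroup.mem_bot, conj_eq_one_iff] at h3
    exact hne _ hs h3
  show (g : GL D'.Idx F) ∈ D'.borelSubgroup F
  rw [e]
  exact mul_mem (mul_mem hb (Subgroup.mem_sup_right hdiag)) hub

end Good

end Tab

end CfsgLib.Chev
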