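import Cfsg.Agent.Chev.Levi
import Cfsg.Agent.Chev.Fold
import Cfsg.Agent.Chev.CoxeterW

/-!
Centralisers of products of commuting positive root elements, by the Bruhat decomposition.
-/

set_option autoImplicit false

namespace CfsgLib.Chev

open Cfsg.Lie Matrix
open scoped MatrixGroups

namespace Tab

variable {D : ChevalleyDatum}

/-- Modulo `p`, conjugation by positive root elements only moves the roots of `X` into `S`, and the
root subgroups of `X` commute. -/
def chkCent (T : Tab D) (p : ℕ) (R S : List ℕ) : Bool :=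
  (R ++ S).all (fun x => Nat.blt x D.nroots && Nat.ble D.nroots (Nat.mul 2 x) &&
    (R ++ S).all (fun y => T.chkCommute p x y) &&
    allBelow (fun s => Nat.blt (Nat.mul 2 s) D.nroots || Nat.beq s x ||
      (T.commT s x).all fun c => decide (c.2.1 % (p : ℤ) = 0) || S.contains c.1) D.nroots) &&
    decide R.Nodup && R.all (fun r => !(S.contains r))

/-- The two symbolic words agree modulo `p`. -/
def chkWord (T : Tab D) (p fuel : ℕ) (l l' : List (ℕ × ℤ × ℕ × ℕ)) : Bool :=
  decide (normTerms p (T.collect fuel l) = normTerms p (T.collect fuel l'))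

namespace Good

variable {T : Tab D} (G : T.Good) {F : Type*} [Field F]
include G

theorem word_eq {p : ℕ} (hp : (p : F) = 0) {fuel : ℕ} {l l' : List (ℕ × ℤ × ℕ × ℕ)}
    (h : T.chkWord p fuel l l' = true) (t u : F) : G.evTerms l t u = G.evTerms l' t u := by
  rw [chkWord, decide_eq_true_eq] at h
  rw [← G.evTerms_collect fuel l, ← G.evTerms_norm hp, h, G.evTerms_norm hp, G.evTerms_collect]

/-! ### Invariance of the pairing -/

theorem pairT_pw (L : List (Fin D.rank)) (r s : Fin D.nroots) :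
    T.pairT (G.full.pw L r).val (G.full.pw L s).val = T.pairT r.val s.val := by
  rw [G.pw_apply, G.pw_apply]
  induction L with
  | nil => rfl
  | cons i L ih =>
    show T.pairT (T.reflT i.val _) (T.reflT i.val _) = _
    have hlt : ∀ x : Fin D.nroots, T.wordT (L.map Fin.val) x.val < D.nroots := fun x => by
      rw [← G.pw_apply]; exact Fin.isLt _
    rw [G.full.pairT_reflect i.isLt (hlt r) (hlt s), ih]

/-! ### Commuting products -/

theorem segProd_commute (Z : Set ℕ) {g : GL D.Idx F}
    (h : ∀ s ∈ Z, ∀ t : F, Commute g (G.full.x s t)) (f : ℕ → F) :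
    ∀ m k, Commute g (G.segProd Z f k m) := by
  intro m
  induction m with
  | zero => intro k; exact Commute.one_right _
  | succ m ih =>
    intro k
    simp only [segProd]
    refine Commute.mul_right ?_ (ih (k + 1))
    split_ifs with hk
    · exact h k hk _
    · exact Commute.one_right _

theorem segProd_add (Z : Set ℕ)
    (h : ∀ r ∈ Z, ∀ s ∈ Z, ∀ t u : F, Commute (G.full.x r t) (G.full.x s u)) (f g : ℕ → F) :
    ∀ m k, G.segProd Z f k m * G.segProd Z g k m = G.segProd Z (fun r => f r + g r) k m := by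
  intro m
  induction m with
  | zero => intro k; exact one_mul 1
  | succ m ih =>
    intro k
    simp only [segProd]
    split_ifs with hk
    · have hc := G.segProd_commute Z (fun s hs t => h k hk s hs (g k) t) f m (k + 1)
      calc G.full.x k (f k) * G.segProd Z f (k + 1) m * (G.full.x k (g k) * G.segProd Z g (k + 1) m)
          = G.full.x k (f k) * (G.segProd Z f (k + 1) m * G.full.x k (g k)) *
              G.segProd Z g (k + 1) m := by group
        _ = G.full.x k (f k) * G.full.x k (g k) *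
              (G.segProd Z f (k + 1) m * G.segProd Z g (k + 1) m) := by rw [← hc.eq]; group
        _ = _ := by rw [G.full.x_add, ih]
    · simp only [one_mul, ih]

theorem segProd_zero (Z : Set ℕ) : ∀ m k, G.segProd Z (fun _ => (0 : F)) k m = 1 := by
  intro m
  induction m with
  | zero => intro k; rfl
  | succ m ih => intro k; simp only [segProd]; split_ifs <;> simp [G.full.x_zero, ih]

theorem segProd_single (Z : Set ℕ) {y : ℕ} (hy : y ∈ Z) (t : F) : ∀ m k,
    G.segProd Z (fun r => if r = y then t else 0) k m =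
      if k ≤ y ∧ y < k + m then G.full.x y t else 1 := by
  intro m
  induction m with
  | zero => intro k; rw [if_neg (by omega)]; rfl
  | succ m ih =>
    intro k
    simp only [segProd, ih]
    by_cases hk : k = y
    · subst hk
      rw [if_pos hy, if_pos rfl, if_neg (by omega), if_pos (by omega), mul_one]
    · by_cases h2 : k + 1 ≤ y ∧ y < k + 1 + m
      · rw [if_pos h2, if_pos (show k ≤ y ∧ y < k + (m + 1) by omega)]
        split_ifs <;> simp [G.full.x_zero]
      · rw [if_neg h2, if_neg (show ¬(k ≤ y ∧ y < k + (m + 1)) by omega)]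
        split_ifs <;> simp [G.full.x_zero]

theorem segProd_pos {Z : Set ℕ} (hZ : ∀ r ∈ Z, IsPos D r) (f : ℕ → F) [DecidablePred (· ∈ Z)] :
    ∀ m k, G.segProd Z f k m =
      G.segProd {r | IsPos D r} (fun r => if r ∈ Z then f r else 0) k m := by
  intro m
  induction m with
  | zero => intro k; rfl
  | succ m ih =>
    intro k
    simp only [segProd, ih]
    congr 1
    by_cases hk : k ∈ Z
    · rw [if_pos hk, if_pos (show k ∈ {r | IsPos D r} from hZ k hk), if_pos hk]
    · rw [if_neg hk, if_neg hk]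
      split_ifs <;> simp [G.full.x_zero]

section Cent

variable {p : ℕ} {R S : List ℕ} (hp : (p : F) = 0) (h : T.chkCent p R S = true)
include hp h

omit G hp in
theorem cent_spec :
    (∀ x ∈ R ++ S, IsPos D x ∧ (∀ y ∈ R ++ S, T.chkCommute p x y = true) ∧
      ∀ s, IsPos D s → s ≠ x → ∀ c ∈ T.commT s x, c.2.1 % (p : ℤ) = 0 ∨ c.1 ∈ S) ∧
    R.Nodup ∧ ∀ r ∈ R, r ∉ S := by
  simp only [chkCent, Bool.and_eq_true, List.all_eq_true, allBelow_iff, Bool.or_eq_true,
    Nat.blt_eq, Bool.not_eq_true', decide_eq_true_eq, List.contains_iff_mem] at h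
  obtain ⟨⟨h1, h2⟩, h3⟩ := h
  refine ⟨fun x hx => ?_, h2, fun r hr hs => ?_⟩
  · obtain ⟨⟨⟨g1, g2⟩, g3⟩, g4⟩ := h1 x hx
    refine ⟨⟨g1, Nat.le_of_ble_eq_true g2⟩, g3, fun s hs hne => ?_⟩
    rcases g4 s hs.1 with (h' | h') | h'
    · exact absurd hs.2 (Nat.not_le.mpr h')
    · exact absurd (Nat.eq_of_beq_eq_true h') hne
    · exact h'
  · have := h3 r hr
    rw [← Bool.not_eq_true, List.contains_iff_mem] at this
    exact this hs

theorem cent_commute : ∀ r ∈ {r | r ∈ R ++ S}, ∀ s ∈ {r | r ∈ R ++ S}, ∀ t u : F,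
    Commute (G.full.x r t) (G.full.x s u) := fun r hr s hs t u =>
  G.x_commute hp ((cent_spec h).1 r hr |>.2.1 s hs) t u

/-- A positive root element moves a root element of `X` by an element of `US S`. -/
theorem cent_conj_x {s x : ℕ} (hs : IsPos D s) (hx : x ∈ R ++ S) (u t : F) :
    (G.full.x x t)⁻¹ * ((G.full.x s u)⁻¹ * G.full.x x t * G.full.x s u) ∈
      G.US F {r | r ∈ S} := by
  obtain ⟨hxp, -, hc⟩ := (cent_spec h).1 x hx
  by_cases e : s = x
  · subst e
    rw [show (G.full.x s t)⁻¹ * ((G.full.x s u)⁻¹ * G.full.x s t * G.full.x s u) = 1 by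
      rw [mul_assoc (G.full.x s u)⁻¹, G.full.x_add, add_comm, ← G.full.x_add]; group]
    exact one_mem _
  have hne : x ≠ negR D s := fun e' => G.negR_pos hs (by rw [← e']; exact hxp.2)
  have e1 := G.full.x_comm hs.1 hxp.1 (Ne.symm e) hne u t
  rw [G.full.cert.commWord_eq hs.1 hxp.1] at e1
  rw [show (G.full.x x t)⁻¹ * ((G.full.x s u)⁻¹ * G.full.x x t * G.full.x s u) =
    (G.full.x x t)⁻¹ * (G.full.x s u)⁻¹ * (G.full.x x t * G.full.x s u) by group, e1]
  rw [show (G.full.x x t)⁻¹ * (G.full.x s u)⁻¹ * (G.full.x s u * G.full.x x t *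
    ((rhsWord (T.commT s x) u t).map fun q => G.full.x q.1 q.2).prod) =
    ((rhsWord (T.commT s x) u t).map fun q => G.full.x q.1 q.2).prod by group]
  refine list_prod_mem fun g hg => ?_
  obtain ⟨q, hq, rfl⟩ := List.mem_map.mp hg
  simp only [rhsWord, List.mem_map] at hq
  obtain ⟨c, hc', rfl⟩ := hq
  rcases hc s hs e c hc' with h0 | h0
  · obtain ⟨k, hk⟩ := Int.dvd_of_emod_eq_zero h0
    have : (c.2.1 : F) = 0 := by rw [hk, Int.cast_mul, Int.cast_natCast, hp, zero_mul]
    rw [this, zero_mul, zero_mul, G.full.x_zero]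
    exact one_mem _
  · exact G.x_mem_US (S := {r | r ∈ S}) h0 _

/-- Conjugation by a positive unipotent element is trivial modulo `US S`. -/
theorem cent_conj_pos {g : GL D.Idx F} (hg : g ∈ D.posUnipotent F) :
    ∀ w ∈ G.US F {r | r ∈ R ++ S}, w⁻¹ * (g⁻¹ * w * g) ∈ G.US F {r | r ∈ S} := by
  have hSX : G.US F {r | r ∈ S} ≤ G.US F {r | r ∈ R ++ S} :=
    G.US_mono fun r hr => List.mem_append_right R hr
  have hcomm : ∀ a ∈ G.US F {r | r ∈ R ++ S}, ∀ b ∈ G.US F {r | r ∈ R ++ S}, a * b = b * a := by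
    intro a ha b hb
    refine Subgroup.closure_induction₂ (p := fun a b _ _ => a * b = b * a) ?_
      (fun x _ => by simp) (fun x _ => by simp) ?_ ?_ ?_ ?_ ha hb
    · rintro x y ⟨r, hr, t, rfl⟩ ⟨s, hs, u, rfl⟩
      exact G.cent_commute hp h r hr s hs t u
    · intro x y z _ _ _ h1 h2; exact (Commute.mul_left h1 h2)
    · intro x y z _ _ _ h1 h2; exact (Commute.mul_right h1 h2)
    · intro x y _ _ h1; exact (Commute.inv_left h1)
    · intro x y _ _ h1; exact (Commute.inv_right h1)
  -- a single conjugating element, if good on generators, is good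
  have step : ∀ g : GL D.Idx F,
      (∀ x ∈ R ++ S, ∀ t, (G.full.x x t)⁻¹ * (g⁻¹ * G.full.x x t * g) ∈ G.US F {r | r ∈ S}) →
      ∀ w ∈ G.US F {r | r ∈ R ++ S}, w⁻¹ * (g⁻¹ * w * g) ∈ G.US F {r | r ∈ S} := by
    intro g hgen w hw
    induction hw using Subgroup.closure_induction with
    | mem x hx => obtain ⟨r, hr, t, rfl⟩ := hx; exact hgen r hr t
    | one => simp
    | mul a b ha hb iha ihb =>
      have e : (a * b)⁻¹ * (g⁻¹ * (a * b) * g) =
          b⁻¹ * (a⁻¹ * (g⁻¹ * a * g)) * b * (b⁻¹ * (g⁻¹ * b * g)) := by group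
      rw [e]
      refine mul_mem ?_ ihb
      rw [mul_assoc, hcomm _ (hSX iha) b hb, inv_mul_cancel_left]
      exact iha
    | inv a ha iha =>
      have hga : g⁻¹ * a * g ∈ G.US F {r | r ∈ R ++ S} := by
        have := mul_mem ha (hSX iha)
        rwa [mul_inv_cancel_left] at this
      have e : a⁻¹⁻¹ * (g⁻¹ * a⁻¹ * g) = a * (g⁻¹ * a * g)⁻¹ := by group
      rw [e, hcomm _ ha _ (inv_mem hga),
        show (g⁻¹ * a * g)⁻¹ * a = (a⁻¹ * (g⁻¹ * a * g))⁻¹ by group]
      exact inv_mem iha
  refine step g ?_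
  rw [G.posUnipotent_eq] at hg
  induction hg using Subgroup.closure_induction'' with
  | one => intro x _ t; simp
  | mem g hg =>
    obtain ⟨s, hs, u, rfl⟩ := hg
    exact fun x hx t => G.cent_conj_x hp h hs hx u t
  | inv_mem g hg =>
    obtain ⟨s, hs, u, rfl⟩ := hg
    rw [G.full.x_inv]
    exact fun x hx t => G.cent_conj_x hp h hs hx (-u) t
  | mul a b _ _ iha ihb =>
    intro x hx t
    have ha := iha x hx t
    have hX : G.full.x x t ∈ G.US F {r | r ∈ R ++ S} :=
      G.x_mem_US (S := {r | r ∈ R ++ S}) hx t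
    have ha' : a⁻¹ * G.full.x x t * a ∈ G.US F {r | r ∈ R ++ S} := by
      have := mul_mem hX (hSX ha)
      rwa [mul_inv_cancel_left] at this
    have hb := step b ihb _ ha'
    have e : (G.full.x x t)⁻¹ * ((a * b)⁻¹ * G.full.x x t * (a * b)) =
        (G.full.x x t)⁻¹ * (a⁻¹ * G.full.x x t * a) *
          ((a⁻¹ * G.full.x x t * a)⁻¹ * (b⁻¹ * (a⁻¹ * G.full.x x t * a) * b)) := by group
    rw [e]
    exact mul_mem ha hb

/-- Coordinates of the elements of `US X`. -/
theorem cent_coords {w : GL D.Idx F} (hw : w ∈ G.US F {r | r ∈ R ++ S}) :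
    ∃ f : ℕ → F, w = G.segProd {r | r ∈ R ++ S} f 0 D.nroots := by
  induction hw using Subgroup.closure_induction'' with
  | one => exact ⟨fun _ => 0, (G.segProd_zero _ _ _).symm⟩
  | mem x hx =>
    obtain ⟨r, hr, t, rfl⟩ := hx
    refine ⟨fun s => if s = r then t else 0, ?_⟩
    rw [G.segProd_single _ hr, if_pos ⟨Nat.zero_le _, by rw [zero_add]; exact ((cent_spec h).1 r hr).1.1⟩]
  | inv_mem x hx =>
    obtain ⟨r, hr, t, rfl⟩ := hx
    refine ⟨fun s => if s = r then -t else 0, ?_⟩
    rw [G.segProd_single _ hr, if_pos ⟨Nat.zero_le _, by rw [zero_add]; exact ((cent_spec h).1 r hr).1.1⟩,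
      G.full.x_inv]
  | mul a b _ _ iha ihb =>
    obtain ⟨f, rfl⟩ := iha
    obtain ⟨g, rfl⟩ := ihb
    exact ⟨_, G.segProd_add _ (G.cent_commute hp h) f g _ _⟩

/-- Coordinates of the elements of `US S` vanish on `R`. -/
theorem cent_coords_S {w : GL D.Idx F} (hw : w ∈ G.US F {r | r ∈ S}) :
    ∃ f : ℕ → F, (∀ r ∈ R, f r = 0) ∧ w = G.segProd {r | r ∈ R ++ S} f 0 D.nroots := by
  have hne := (cent_spec h).2.2
  have hlt : ∀ r ∈ S, 0 ≤ r ∧ r < 0 + D.nroots := fun r hr =>
    ⟨Nat.zero_le _, by rw [zero_add]; exact ((cent_spec h).1 r (List.mem_append_right R hr)).1.1⟩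
  induction hw using Subgroup.closure_induction'' with
  | one => exact ⟨fun _ => 0, fun _ _ => rfl, (G.segProd_zero _ _ _).symm⟩
  | mem x hx =>
    obtain ⟨r, hr, t, rfl⟩ := hx
    refine ⟨fun s => if s = r then t else 0, fun q hq => if_neg fun e : q = r => hne q hq (e ▸ hr), ?_⟩
    rw [G.segProd_single _ (List.mem_append_right R hr), if_pos (hlt r hr)]
  | inv_mem x hx =>
    obtain ⟨r, hr, t, rfl⟩ := hx
    refine ⟨fun s => if s = r then -t else 0,
      fun q hq => if_neg fun e : q = r => hne q hq (e ▸ hr), ?_⟩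
    rw [G.segProd_single _ (List.mem_append_right R hr), if_pos (hlt r hr), G.full.x_inv]
  | mul a b _ _ iha ihb =>
    obtain ⟨f, hf, rfl⟩ := iha
    obtain ⟨g, hg, rfl⟩ := ihb
    exact ⟨_, fun r hr => by simp only [hf r hr, hg r hr, add_zero],
      G.segProd_add _ (G.cent_commute hp h) f g _ _⟩

/-- The coordinates on `R ++ S` are determined. -/
theorem cent_inj {f g : ℕ → F}
    (e : G.segProd {r | r ∈ R ++ S} f 0 D.nroots = G.segProd {r | r ∈ R ++ S} g 0 D.nroots) :
    ∀ r ∈ R ++ S, f r = g r := by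
  intro r hr
  have hX : ∀ r ∈ {r | r ∈ R ++ S}, IsPos D r := fun r hr => ((cent_spec h).1 r hr).1
  rw [G.segProd_pos hX, G.segProd_pos hX] at e
  have := G.segProd_injective G.closed_pos D.nroots 0 _ _ (zero_add _) e r (hX r hr) (Nat.zero_le _)
  have hr' : r ∈ {r | r ∈ R ++ S} := hr
  simpa only [if_pos hr'] using this

theorem prod_R (a : ℕ → F) :
    (R.map fun r => G.full.x r (a r)).prod =
      G.segProd {r | r ∈ R ++ S} (fun r => if r ∈ R then a r else 0) 0 D.nroots := by
  have hnd := (cent_spec h).2.1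
  have key : ∀ l : List ℕ, l.Nodup → (∀ r ∈ l, r ∈ R) →
      (l.map fun r => G.full.x r (a r)).prod =
        G.segProd {r | r ∈ R ++ S} (fun r => if r ∈ l then a r else 0) 0 D.nroots := by
    intro l
    induction l with
    | nil => intro _ _; simp [G.segProd_zero]
    | cons q l ih =>
      intro hn hl
      obtain ⟨hq, hn'⟩ := List.nodup_cons.mp hn
      have hqX : q ∈ R ++ S := List.mem_append_left S (hl q (List.mem_cons_self ..))
      rw [List.map_cons, List.prod_cons, ih hn' fun r hr => hl r (List.mem_cons_of_mem _ hr)]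
      have e1 : G.full.x q (a q) =
          G.segProd {r | r ∈ R ++ S} (fun r => if r = q then a q else 0) 0 D.nroots := by
        rw [G.segProd_single _ hqX, if_pos ⟨Nat.zero_le _, by
          rw [zero_add]; exact ((cent_spec h).1 q hqX).1.1⟩]
      rw [e1, G.segProd_add _ (G.cent_commute hp h)]
      refine G.segProd_congr _ _ _ fun r _ _ => ?_
      by_cases e : r = q
      · subst e; simp [hq]
      · simp [e]
  exact key R hnd fun _ hr => hr

/-- The coordinates on `R` of a conjugate under `B`. -/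
theorem cent_borel (a : ℕ → F) {u : GL D.Idx F} (hu : u ∈ D.posUnipotent F)
    (c : Fin D.rank → Fˣ) :
    ∃ f : ℕ → F, (∀ r ∈ R, f r = (T.chi (F := F) r c : F)⁻¹ * a r) ∧
      (u * T.hT F c)⁻¹ * (R.map fun r => G.full.x r (a r)).prod * (u * T.hT F c) =
        G.segProd {r | r ∈ R ++ S} f 0 D.nroots := by
  set v := (R.map fun r => G.full.x r (a r)).prod with hv
  have hvX : v ∈ G.US F {r | r ∈ R ++ S} := list_prod_mem fun g hg => by
    obtain ⟨r, hr, rfl⟩ := List.mem_map.mp hg
    exact G.x_mem_US (S := {r | r ∈ R ++ S}) (List.mem_append_left S hr) _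
  set d := T.hT F c
  have hd : ∀ r < D.nroots, ∀ t : F,
      d⁻¹ * G.full.x r t * d = G.full.x r ((T.chi (F := F) r c : F)⁻¹ * t) := by
    intro r hr t
    have := G.full.hT_conj (F := F) hr c⁻¹ t
    rw [map_inv, map_inv, inv_inv, Units.val_inv_eq_inv_val] at this
    exact this
  have hdS : ∀ w ∈ G.US F {r | r ∈ S}, d⁻¹ * w * d ∈ G.US F {r | r ∈ S} := by
    intro w hw
    have hle : G.US F {r | r ∈ S} ≤ (G.US F {r | r ∈ S}).comap (MulAut.conj d⁻¹).toMonoidHom := by
      refine (Subgroup.closure_le _).mpr ?_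
      rintro g ⟨r, hr, t, rfl⟩
      show d⁻¹ * G.full.x r t * d⁻¹⁻¹ ∈ G.US F {r | r ∈ S}
      rw [inv_inv, hd r ((cent_spec h).1 r (List.mem_append_right R hr)).1.1]
      exact G.x_mem_US hr _
    have := hle hw
    rwa [Subgroup.mem_comap, show (MulAut.conj d⁻¹).toMonoidHom w = d⁻¹ * w * d⁻¹⁻¹ from rfl,
      inv_inv] at this
  obtain ⟨f0, hf0, e0⟩ := G.cent_coords_S hp h (hdS _ (G.cent_conj_pos hp h hu v hvX))
  refine ⟨fun r => (if r ∈ R then (T.chi (F := F) r c : F)⁻¹ * a r else 0) + f0 r,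
    fun r hr => by simp only [if_pos hr, hf0 r hr, add_zero], ?_⟩
  rw [← G.segProd_add _ (G.cent_commute hp h),
    ← G.prod_R hp h (fun r => (T.chi (F := F) r c : F)⁻¹ * a r), ← e0]
  have key : ∀ l : List ℕ, (∀ r ∈ l, r < D.nroots) →
      d⁻¹ * (l.map fun r => G.full.x r (a r)).prod * d =
        (l.map fun r => G.full.x r ((T.chi (F := F) r c : F)⁻¹ * a r)).prod := by
    intro l
    induction l with
    | nil => intro _; simp
    | cons q l ih =>
      intro hl
      rw [List.map_cons, List.prod_cons, List.map_cons, List.prod_cons,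
        ← ih fun r hr => hl r (List.mem_cons_of_mem _ hr), ← hd q (hl q (List.mem_cons_self ..))]
      group
  rw [← key R fun r hr => ((cent_spec h).1 r (List.mem_append_left S hr)).1.1, ← hv]
  group

/-- The Weyl element of a centralising element maps a support onto another one. -/
theorem cent_main {g : GL D.Idx F} (hg : g ∈ D.group F)
    (hcg : g * (R.map fun r => G.full.x r (1 : F)).prod =
      (R.map fun r => G.full.x r (1 : F)).prod * g) :
    ∃ b ∈ D.borelSubgroup F, ∃ n ∈ D.monomialSubgroup F, ∃ L : List (Fin D.rank),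
      G.full.RootAct n (G.full.pw L) ∧ ∃ u ∈ G.US F (flipSet (G.full.pw L)), g = b * n * u ∧
      ∃ f1 f2 : ℕ → F, (∀ r ∈ R, f1 r ≠ 0 ∧ f2 r ≠ 0) ∧
        (∀ s : Fin D.nroots, s.val ∈ R ++ S → f1 s.val ≠ 0 →
          (G.full.pw L s).val ∈ R ++ S ∧ f2 (G.full.pw L s).val ≠ 0) ∧
        (∀ y ∈ R ++ S, f2 y ≠ 0 →
          ∃ s : Fin D.nroots, s.val ∈ R ++ S ∧ f1 s.val ≠ 0 ∧ (G.full.pw L s).val = y) := by
  classical
  obtain ⟨b, hb, n, hn, L, hL, u, hu, rfl⟩ := G.canonical_exists hg
  refine ⟨b, hb, n, hn, L, hL, u, hu, rfl, ?_⟩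
  set v := (R.map fun r => G.full.x r (1 : F)).prod
  set σ := G.full.pw L
  have hX : ∀ r ∈ R ++ S, IsPos D r := fun r hr => ((cent_spec h).1 r hr).1
  have hvU : v ∈ D.posUnipotent F := list_prod_mem fun x hx => by
    obtain ⟨r, hr, rfl⟩ := List.mem_map.mp hx
    exact G.x_mem_pos (hX r (List.mem_append_left S hr)) 1
  have huU : u ∈ D.posUnipotent F := G.flip_le_pos σ hu
  -- `u v` splits across `n`
  have huv : u * v ∈ G.US F {r | IsPos D r} := by
    rw [← G.posUnipotent_eq]; exact mul_mem huU hvU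
  obtain ⟨k, hk, f, hf, hkf⟩ := G.US_split (G.closed_keep L) (G.closed_flip L) G.closed_pos
    (pos_eq_keep_union_flip _) huv
  have hnk : n * k * n⁻¹ ∈ D.posUnipotent F := by
    rw [G.posUnipotent_eq]
    exact G.conj_x_act hL (fun s hs => by obtain ⟨h, -, h2⟩ := hs; exact ⟨h, h2⟩) hk
  have e1 : b * (n * k * n⁻¹) * n * f = v * b * n * u := by
    calc b * (n * k * n⁻¹) * n * f = b * n * (k * f) := by group
      _ = b * n * u * v := by rw [← hkf]; group
      _ = v * (b * n * u) := hcg
      _ = _ := by group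
  obtain ⟨-, huniq⟩ := G.canonical_unique (mul_mem hb (pos_le_borel G hnk))
    (mul_mem (pos_le_borel G hvU) hb) hn hn hL hL hf hu e1
  obtain ⟨e2, e3⟩ := huniq rfl
  subst e3
  have ek : k = f * v * f⁻¹ := eq_mul_inv_of_mul_eq hkf.symm
  have hnkb : n * k * n⁻¹ = b⁻¹ * v * b := by
    rw [mul_assoc b⁻¹, eq_inv_mul_iff_mul_eq]; exact e2
  -- coordinates
  obtain ⟨f1, hf1, ef1⟩ := G.cent_borel hp h (fun _ => (1 : F)) (inv_mem huU) 1
  rw [map_one, mul_one, inv_inv, show (R.map fun r => G.full.x r ((fun _ => (1 : F)) r)).prod = v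
    from rfl, ← ek] at ef1
  obtain ⟨u2, hu2, c2, rfl⟩ := G.mem_borel.mp hb
  obtain ⟨f2, hf2, ef2⟩ := G.cent_borel hp h (fun _ => (1 : F)) hu2 c2
  rw [show (R.map fun r => G.full.x r ((fun _ => (1 : F)) r)).prod = v from rfl, ← hnkb] at ef2
  have hf1' : ∀ r ∈ R, f1 r ≠ 0 := fun r hr => by rw [hf1 r hr]; simp
  have hf2' : ∀ r ∈ R, f2 r ≠ 0 := fun r hr => by rw [hf2 r hr]; simp
  -- the roots of `k` stay positive
  have hkeep : ∀ r ∈ R ++ S, f1 r ≠ 0 → r ∈ keepSet σ := by
    intro r hr hne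
    by_contra hnk'
    obtain ⟨fk, hfk⟩ : k ∈ Set.range fun f => G.segProd (keepSet σ) f 0 D.nroots := by
      rw [← G.US_eq_range (G.closed_keep L)]; exact hk
    have e : G.segProd (keepSet σ) fk 0 D.nroots = G.segProd {r | r ∈ R ++ S} f1 0 D.nroots :=
      hfk.trans ef1
    have hkp : ∀ s ∈ keepSet σ, IsPos D s := (G.closed_keep L).1
    have hXp : ∀ s ∈ {r | r ∈ R ++ S}, IsPos D s := hX
    rw [G.segProd_pos hkp, G.segProd_pos hXp] at e
    have e4 := G.segProd_injective G.closed_pos D.nroots 0 _ _ (zero_add _) e r (hX r hr)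
      (Nat.zero_le _)
    simp only [if_neg hnk', Set.mem_setOf_eq, hr, if_true] at e4
    exact hne e4.symm
  -- transport the product
  obtain ⟨c, hc⟩ := hL
  set Z : Set ℕ := {y | ∃ s : Fin D.nroots, s.val ∈ R ++ S ∧ f1 s.val ≠ 0 ∧ (σ s).val = y} with hZ
  have hZp : ∀ y ∈ Z, IsPos D y := by
    rintro y ⟨s, hs, hne, rfl⟩
    obtain ⟨_, -, h2⟩ := hkeep s.val hs hne
    exact h2
  have hZc : ∀ y ∈ Z, ∀ z ∈ Z, ∀ t w : F, Commute (G.full.x y t) (G.full.x z w) := by
    rintro y ⟨s, hs, -, rfl⟩ z ⟨s', hs', -, rfl⟩ t w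
    have h0 := G.cent_commute hp h s.val hs s'.val hs' (((c s)⁻¹ : Fˣ) * t) (((c s')⁻¹ : Fˣ) * w)
    have h1 := h0.map (MulAut.conj n).toMonoidHom
    simp only [MulEquiv.coe_toMonoidHom, MulAut.conj_apply] at h1
    rw [(hc s).2.2.2, (hc s').2.2.2, ← mul_assoc, ← mul_assoc, Units.mul_inv, Units.mul_inv,
      one_mul, one_mul] at h1
    exact h1
  let img : ℕ → F := fun y => if hy : y < D.nroots then
    (c (σ.symm ⟨y, hy⟩) : F) * f1 (σ.symm ⟨y, hy⟩).val else 0
  have himg : ∀ s : Fin D.nroots, img (σ s).val = (c s : F) * f1 s.val := fun s => by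
    simp [img]
  have hseg : ∀ m k', k' + m ≤ D.nroots →
      n * G.segProd {r | r ∈ R ++ S} f1 k' m * n⁻¹ =
        G.segProd Z (fun y => if hy : y < D.nroots then
          (if k' ≤ (σ.symm ⟨y, hy⟩).val ∧ (σ.symm ⟨y, hy⟩).val < k' + m then img y else 0)
          else 0) 0 D.nroots := by
    intro m
    induction m with
    | zero =>
      intro k' _
      rw [show G.segProd {r | r ∈ R ++ S} f1 k' 0 = 1 from rfl, mul_one, mul_inv_cancel,
        ← G.segProd_zero Z D.nroots 0]
      refine G.segProd_congr _ _ _ fun y _ _ => ?_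
      split_ifs with hy hh
      · omega
      · rfl
      · rfl
    | succ m ih =>
      intro k' hk'
      have hlt : k' < D.nroots := by omega
      rw [segProd, show ∀ A B : GL D.Idx F, n * (A * B) * n⁻¹ = n * A * n⁻¹ * (n * B * n⁻¹) from
        fun A B => by group, ih (k' + 1) (by omega)]
      by_cases hin : k' ∈ R ++ S ∧ f1 k' ≠ 0
      · have hy : (σ ⟨k', hlt⟩).val ∈ Z := ⟨⟨k', hlt⟩, hin.1, hin.2, rfl⟩
        rw [if_pos (show k' ∈ {r | r ∈ R ++ S} from hin.1),
          show n * G.full.x k' (f1 k') * n⁻¹ = G.full.x (σ ⟨k', hlt⟩).val (img (σ ⟨k', hlt⟩).val) by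
            rw [himg]; exact (hc ⟨k', hlt⟩).2.2.2 (f1 k')]
        have e5 : G.full.x (σ ⟨k', hlt⟩).val (img (σ ⟨k', hlt⟩).val) = G.segProd Z
            (fun r => if r = (σ ⟨k', hlt⟩).val then img (σ ⟨k', hlt⟩).val else 0) 0 D.nroots := by
          rw [G.segProd_single Z hy, if_pos ⟨Nat.zero_le _, by rw [zero_add]; exact Fin.isLt _⟩]
        rw [e5, G.segProd_add Z hZc]
        refine G.segProd_congr _ _ _ fun y hy' _ => ?_
        have hylt := (hZp y hy').1
        simp only [dif_pos hylt]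
        by_cases ey : y = (σ ⟨k', hlt⟩).val
        · subst ey
          simp only [Fin.eta, Equiv.symm_apply_apply, le_refl, true_and, Nat.not_succ_le_self,
            false_and, if_true, if_false, add_zero]
          rw [if_pos (by omega)]
        · have hne' : (σ.symm ⟨y, hylt⟩).val ≠ k' := fun e6 => ey (by
            rw [show (⟨k', hlt⟩ : Fin D.nroots) = σ.symm ⟨y, hylt⟩ from Fin.ext e6.symm,
              Equiv.apply_symm_apply])
          rw [if_neg ey, zero_add]
          congr 1
          exact propext (by omega)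
      · have e7 : ∀ A : GL D.Idx F, A = 1 → n * A * n⁻¹ = 1 := fun A hA => by rw [hA]; group
        rw [e7 _ (by
          split_ifs with hk2
          · rw [show f1 k' = 0 from not_not.mp fun e8 => hin ⟨hk2, e8⟩, G.full.x_zero]
          · rfl), one_mul]
        refine G.segProd_congr _ _ _ fun y hy' _ => ?_
        have hylt := (hZp y hy').1
        obtain ⟨s, hs, hne, rfl⟩ := hy'
        simp only [dif_pos hylt, Fin.eta, Equiv.symm_apply_apply]
        have : s.val ≠ k' := fun e9 => hin ⟨e9 ▸ hs, e9 ▸ hne⟩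
        congr 1
        exact propext (by omega)
  have e10 := hseg D.nroots 0 (by omega)
  rw [← ef1] at e10
  rw [ef2] at e10
  have hXp : ∀ s ∈ {r | r ∈ R ++ S}, IsPos D s := hX
  rw [G.segProd_pos hXp, G.segProd_pos hZp] at e10
  have key := G.segProd_injective G.closed_pos D.nroots 0 _ _ (zero_add _) e10
  have key' : ∀ y, IsPos D y → ((if y ∈ R ++ S then f2 y else 0) = 0 ↔ y ∉ Z) := by
    intro y hy
    have e11 := key y hy (Nat.zero_le _)
    simp only [Set.mem_setOf_eq, dif_pos hy.1, Nat.zero_le, Fin.is_lt, zero_add, and_self,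
      if_true] at e11
    rw [e11]
    by_cases hyZ : y ∈ Z
    · obtain ⟨s, hs, hne, rfl⟩ := hyZ
      rw [if_pos (show (σ s).val ∈ Z from ⟨s, hs, hne, rfl⟩), himg]
      simp [hne, show (σ s).val ∈ Z from ⟨s, hs, hne, rfl⟩]
    · rw [if_neg hyZ]; simp [hyZ]
  refine ⟨f1, f2, fun r hr => ⟨hf1' r hr, hf2' r hr⟩, fun s hs hne => ?_, fun y hy hne => ?_⟩
  · have hz : (σ s).val ∈ Z := ⟨s, hs, hne, rfl⟩
    have := mt (key' _ (hZp _ hz)).mp (not_not.mpr hz)
    split_ifs at this with h1
    · exact ⟨h1, this⟩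
    · exact absurd rfl this
  · have := mt (key' y (hX y hy)).mpr (by rw [if_pos hy]; exact hne)
    obtain ⟨s, hs, hne', e⟩ := not_not.mp this
    exact ⟨s, hs, hne', e⟩

end Cent

/-! ### Stabilisers in the Weyl group -/

/-- A Weyl element fixing roots lies in the subgroup of the nodes orthogonal to a dominant
combination of them. -/
theorem fix_mem_WJ {R : List (ℕ × ℤ)} (hR : ∀ q ∈ R, q.1 < D.nroots) {J : List ℕ}
    (hm : ∀ i : Fin D.rank, 0 ≤ (R.map fun q => q.2 * T.cart i q.1).sum)
    (hJ : ∀ i : Fin D.rank, (R.map fun q => q.2 * T.cart i q.1).sum = 0 →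
      i.val ∈ J ∧ ∀ q ∈ R, T.reflT i q.1 = q.1)
    (L : List (Fin D.rank))
    (hfix : ∀ q ∈ R, ∀ hq : q.1 < D.nroots, (G.full.pw L ⟨q.1, hq⟩).val = q.1) :
    G.full.pw L ∈ G.full.WJ J := by
  obtain ⟨N, hN⟩ : ∃ N, (invSet (G.full.pw L)).card = N := ⟨_, rfl⟩
  induction N using Nat.strong_induction_on generalizing L with
  | _ N ih =>
    subst hN
    by_cases hz : invSet (G.full.pw L) = ∅
    · have hpos : ∀ s, IsPos D s.val → IsPos D (G.full.pw L s).val := fun s hs => by
        by_contra hn'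
        have : s ∈ invSet (G.full.pw L) := mem_inv.mpr ⟨hs, hn'⟩
        rw [hz] at this
        exact absurd this (Finset.notMem_empty s)
      obtain ⟨c, hc⟩ := G.nw_mem_torus (F := ℚ) _ L rfl hpos
      rw [G.pw_eq_of_nw (F := ℚ) (L' := []) (c := c) (by rw [hc]; simp [Full.nw])]
      exact one_mem _
    · obtain ⟨s, hs⟩ := Finset.nonempty_of_ne_empty hz
      have hfull : G.full.pw L ∈ G.full.WJ (List.range D.rank) := by
        rw [Full.pw]
        exact list_prod_mem fun a ha => by
          obtain ⟨i, -, rfl⟩ := List.mem_map.mp ha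
          exact G.refl_mem_full i
      obtain ⟨l, -, hneg⟩ := G.exists_flip_simple hfull hs
      have hzero : (R.map fun q => q.2 * T.cart l q.1).sum = 0 := by
        refine le_antisymm ?_ (hm l)
        have e : ∀ q ∈ R, T.cart l q.1 = T.pairT (G.full.pw L (G.full.simp' l)).val q.1 := by
          intro q hq
          have := G.pairT_pw L (G.full.simp' l) ⟨q.1, hR q hq⟩
          rw [hfix q hq (hR q hq)] at this
          rw [this]
          exact (G.full.pairT_simple l.isLt).symm
        rw [List.map_congr_left fun q hq => by rw [e q hq]]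
        set y := (G.full.pw L (G.full.simp' l)).val
        have hcor : ∀ j : Fin D.rank, T.cor y j ≤ 0 := fun j => by
          by_contra hcon
          exact hneg (G.pos_of_cor_pos (Fin.isLt _) j.isLt (not_le.mp hcon))
        have hexp : (R.map fun q => q.2 * T.pairT y q.1).sum =
            ∑ i : Fin D.rank, T.cor y i * (R.map fun q => q.2 * T.cart i q.1).sum := by
          clear e hm hJ hfix ih hR
          induction R with
          | nil => simp
          | cons q R ih' =>
            rw [List.map_cons, List.sum_cons, ih', T.pairT_eq_sum, Finset.mul_sum,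
              ← Finset.sum_add_distrib]
            refine Finset.sum_congr rfl fun i _ => ?_
            rw [List.map_cons, List.sum_cons]
            ring
        rw [hexp]
        exact Finset.sum_nonpos fun i _ => mul_nonpos_of_nonpos_of_nonneg (hcor i) (hm i)
      obtain ⟨hlJ, hlfix⟩ := hJ l hzero
      have happ : G.full.pw (L ++ [l]) = G.full.pw L * G.full.refl l := by
        rw [G.pw_append, G.pw_singleton]
      have hp : IsPos D (G.full.pw (L ++ [l]) (G.full.simp' l)).val := by
        rw [happ, Equiv.Perm.mul_apply, G.refl_simp, G.negF_WJ hfull, G.pos_negF]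
        exact hneg
      have hcard := G.inv_mul_refl hp
      rw [G.pw_append (L ++ [l]) [l], happ, G.pw_singleton, mul_assoc, G.refl_mul_self, mul_one] at hcard
      have := ih _ (by rw [happ]; exact hcard) (L ++ [l]) (fun q hq hlt => by
        rw [happ, Equiv.Perm.mul_apply,
          show G.full.refl l ⟨q.1, hlt⟩ = ⟨q.1, hlt⟩ from Fin.ext (hlfix q hq)]
        exact hfix q hq hlt) rfl
      rw [happ] at this
      have h2 := mul_mem this (G.refl_mem hlJ)
      rwa [mul_assoc, G.refl_mul_self, mul_one] at h2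

/-- A Bruhat cell of an element of `W_J` lies in a subgroup containing `B` and the `n_j`. -/
theorem mem_of_cell {J : List ℕ} {K : Subgroup (GL D.Idx F)} (hB : D.borelSubgroup F ≤ K)
    (hn : ∀ j : Fin D.rank, j.val ∈ J → G.full.ns F j ∈ K) {b n u : GL D.Idx F}
    (hb : b ∈ D.borelSubgroup F) (hnm : n ∈ D.monomialSubgroup F) {L : List (Fin D.rank)}
    (hL : G.full.RootAct n (G.full.pw L)) (hu : u ∈ G.US F (flipSet (G.full.pw L)))
    (hJ : G.full.pw L ∈ G.full.WJ J) : b * n * u ∈ K := by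
  obtain ⟨L', hL', e⟩ := G.exists_word_WJ hJ
  have hnw : G.full.nw F L' ∈ K := list_prod_mem fun a ha => by
    obtain ⟨i, hi, rfl⟩ := List.mem_map.mp ha
    exact hn i (hL' i hi)
  have hd : n * (G.full.nw F L')⁻¹ ∈ D.diagonalSubgroup F := by
    have hinv := G.rootAct_inv (G.nw_mem_monomial (F := F) L') (G.rootAct_nw L')
    refine G.mem_diagonal_of_pos (mul_mem hnm (inv_mem (G.nw_mem_monomial L')))
      (G.rootAct_mul hL hinv) fun s hs => ?_
    rw [e, mul_inv_cancel]
    exact hs
  have hn' : n ∈ K := by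
    have := mul_mem (hB (Subgroup.mem_sup_right hd)) hnw
    rwa [inv_mul_cancel_right] at this
  exact mul_mem (mul_mem (hB hb) hn') (hB (pos_le_borel G (G.flip_le_pos _ hu)))

end Good

end Tab

end CfsgLib.Chev
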