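import Cfsg.Agent.Chev.RankOne
import Cfsg.Agent.Chev.RadCent
import Cfsg.Agent.Chev.CentRoots
import Mathlib.NumberTheory.LegendreSymbol.QuadraticChar.Basic

/-!
In a simply connected Chevalley group over a finite field of odd order every involution is
conjugate into the torus.
-/

set_option autoImplicit false
set_option linter.style.haveILetI false

namespace CfsgLib.Chev

open Cfsg.Lie Matrix
open scoped MatrixGroups

namespace Tab

variable {D : ChevalleyDatum}

/-- A lower unitriangular matrix of `SL₂`. -/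
def eY {F : Type*} [Field F] (t : F) : SL(2, F) :=
  ⟨!![1, 0; t, 1], by simp [Matrix.det_fin_two]⟩

theorem coe_eY {F : Type*} [Field F] (t : F) :
    ((eY t : SL(2, F)) : Matrix (Fin 2) (Fin 2) F) = !![1, 0; t, 1] := rfl

/-- An integral inverse of the Cartan matrix, and the commuting pairs of fundamental roots. -/
def chkSC (T : Tab D) (M : List (List ℤ)) : Bool :=
  allBelow (fun k => allBelow (fun i => decide
    (((List.range D.rank).map fun j => (M.getD k []).getD j 0 * T.cart i (D.simple j)).sum =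
      if i = k then 1 else 0)) D.rank) D.rank &&
  allBelow (fun a => allBelow (fun b => Nat.beq a b ||
    decide (T.cart b (D.simple a) % 2 = 1) || decide (T.cart a (D.simple b) % 2 = 1) ||
    (Nat.beq (T.reflT b (D.simple a)) (D.simple a) && T.chkCommute 0 (D.simple a) (D.simple b) &&
      T.chkCommute 0 (D.simple a) (negR D (D.simple b)) &&
      T.chkCommute 0 (negR D (D.simple a)) (D.simple b) &&
      T.chkCommute 0 (negR D (D.simple a)) (negR D (D.simple b)))) D.rank) D.rank

namespace Good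

variable {T : Tab D} (G : T.Good) {F : Type*} [Field F]
include G

omit G in
theorem sc_hT_inj (G : T.Good) {M : List (List ℤ)} (hM : T.chkSC M = true)
    {c : Fin D.rank → Fˣ} (h : T.hT F c = 1) : c = 1 := by
  have h1 := (G.full.hT_eq_one_iff c).mp h
  simp only [chkSC, Bool.and_eq_true, allBelow_iff, decide_eq_true_eq] at hM
  funext k
  have e : ∏ j : Fin D.rank, (T.chi (F := F) (D.simple j) c) ^ (M.getD k.val []).getD j.val 0 = 1 :=
    Finset.prod_eq_one fun j _ => by rw [h1 j j.isLt, _root_.one_zpow]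
  have e2 : ∀ i : Fin D.rank,
      ∑ j : Fin D.rank, T.cart i (D.simple j) * (M.getD k.val []).getD j.val 0 =
        if i = k then 1 else 0 := fun i => by
    have := hM.1 k k.isLt i i.isLt
    rw [list_sum_range] at this
    simp only [Fin.val_eq_val] at this
    rw [← this]
    exact Finset.sum_congr rfl fun j _ => mul_comm _ _
  rw [Pi.one_apply, ← e]
  simp only [chi, MonoidHom.coe_mk, OneHom.coe_mk, ← Finset.prod_zpow, ← _root_.zpow_mul]
  rw [Finset.prod_comm]
  simp only [← zpow_sum_eq_prod, e2]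
  rw [Finset.prod_eq_single k (fun i _ hi => by simp [hi]) (by simp)]
  simp

/-- Conjugating a torus element by a fundamental reflection. -/
theorem ns_hT_eq (i : Fin D.rank) (c : Fin D.rank → Fˣ) :
    G.full.ns F i * T.hT F c =
      T.hT F (c * Pi.mulSingle i (T.chi (F := F) (D.simple i) c)⁻¹) * G.full.ns F i := by
  obtain ⟨d, hd⟩ := G.ns_hT (F := F) i c
  rw [hd]
  congr 1
  set e := c * Pi.mulSingle i (T.chi (F := F) (D.simple i) c)⁻¹
  rw [← mul_inv_eq_one, ← map_inv, ← map_mul, G.full.hT_eq_one_iff]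
  intro j hj
  obtain ⟨hr, hinv, -⟩ := G.full.reflT_spec i.isLt (G.full.simple_lt hj)
  set s := T.reflT i (D.simple j)
  have h1 : ∀ t : F, T.hT F d * G.full.x (D.simple j) ((T.sgn i s : F) * t) * (T.hT F d)⁻¹ =
      G.full.x (D.simple j) ((T.sgn i s : F) * ((T.chi (F := F) s c : F) * t)) := by
    intro t
    have e1 : G.full.ns F i * G.full.x s t * (G.full.ns F i)⁻¹ =
        G.full.x (D.simple j) ((T.sgn i s : F) * t) := by
      rw [G.full.ns_conj i.isLt hr, hinv]
    have e2 : G.full.ns F i * G.full.x s ((T.chi (F := F) s c : F) * t) * (G.full.ns F i)⁻¹ =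
        G.full.x (D.simple j) ((T.sgn i s : F) * ((T.chi (F := F) s c : F) * t)) := by
      rw [G.full.ns_conj i.isLt hr, hinv]
    rw [← e1, ← e2, ← G.full.hT_conj hr]
    calc T.hT F d * (G.full.ns F i * G.full.x s t * (G.full.ns F i)⁻¹) * (T.hT F d)⁻¹
        = (T.hT F d * G.full.ns F i) * G.full.x s t * (T.hT F d * G.full.ns F i)⁻¹ := by group
      _ = _ := by rw [← hd]; group
  have h2 := h1 1
  rw [G.full.hT_conj (G.full.simple_lt hj)] at h2
  have h3 : (T.sgn i s : F) ≠ 0 := by
    obtain ⟨-, -, -, -, -, -, hs1, -⟩ := G.full.reflT_spec i.isLt hr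
    rcases hs1 with h | h <;> rw [h] <;> simp
  have h4 : (T.chi (F := F) (D.simple j) d : F) = (T.chi (F := F) s c : F) := by
    have h5 : G.full.x (D.simple j) ((T.chi (F := F) (D.simple j) d : F) * ((T.sgn i s : F) * 1) -
        (T.sgn i s : F) * ((T.chi (F := F) s c : F) * 1)) = 1 := by
      rw [sub_eq_add_neg, ← G.full.x_add, h2, G.full.x_add, add_neg_cancel, G.full.x_zero]
    have h6 := G.x_eq_one (G.full.simple_lt hj) h5
    exact mul_right_cancel₀ h3 (by linear_combination h6)
  rw [map_mul, map_inv, mul_inv_eq_one, Units.ext h4, G.full.chi_reflT i.isLt (G.full.simple_lt hj),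
    map_mul]
  congr 1
  show _ = ∏ k, (Pi.mulSingle i (T.chi (F := F) (D.simple i) c)⁻¹ : Fin D.rank → Fˣ) k ^
    T.cart k (D.simple j)
  rw [Finset.prod_eq_single i (fun k _ hk => by simp [hk]) (by simp), Pi.mulSingle_eq_same,
    _root_.inv_zpow, _root_.zpow_neg]

theorem refl_inj_left (i : Fin D.rank) {s : Fin D.nroots} :
    G.full.refl i (G.full.refl i s) = s :=
  Fin.ext (G.full.reflT_spec i.isLt s.isLt).2.1

/-- `⟨X_a, X_{-a}⟩` of a fundamental root, on the lower triangular matrices. -/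
theorem hom_lower (i : Fin D.rank) (t : F) :
    (G.rankOne F i).hom (eY t) = G.full.x (negR D (D.simple i)) t :=
  G.rankOne_hom_lower i _ t rfl

theorem hom_upper (i : Fin D.rank) (t : F) :
    (G.rankOne F i).hom (RankOne.eX t) = G.full.x (D.simple i) t := (G.rankOne F i).phi_eX t

/-- The coefficient of a monomial involution on a negated fundamental root. -/
theorem coeff_spec {m : GL D.Idx F} {σ : Equiv.Perm (Fin D.nroots)}
    (hact : G.full.RootAct m σ) {i : Fin D.rank}
    (ha : σ (G.full.simp' i) = negF (G.full.simp' i)) :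
    ∃ e : F, e ≠ 0 ∧
      (∀ t, m * G.full.x (D.simple i) t * m⁻¹ = G.full.x (negR D (D.simple i)) (e * t)) ∧
      ∀ t, m * G.full.x (negR D (D.simple i)) t * m⁻¹ = G.full.x (D.simple i) (e⁻¹ * t) := by
  obtain ⟨c, hc⟩ := hact
  refine ⟨c (G.full.simp' i), Units.ne_zero _, fun t => ?_, fun t => ?_⟩
  · have := (hc (G.full.simp' i)).2.2.2 t
    rwa [ha] at this
  · have h := (hc (negF (G.full.simp' i))).2.2.2 t
    rw [(hc (G.full.simp' i)).1, ha, negF_negF, (hc (G.full.simp' i)).2.1,
      Units.val_inv_eq_inv_val] at h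
    exact h

theorem coeff_unique {i : Fin D.rank} {m : GL D.Idx F} {e e' : F}
    (h : m * G.full.x (D.simple i) 1 * m⁻¹ = G.full.x (negR D (D.simple i)) e)
    (h' : m * G.full.x (D.simple i) 1 * m⁻¹ = G.full.x (negR D (D.simple i)) e') : e = e' := by
  have e1 : G.full.x (negR D (D.simple i)) (e + -e') = 1 := by
    rw [← G.full.x_add, ← G.full.x_inv, mul_inv_eq_one, ← h, ← h']
  have := G.x_eq_one (Cert.negR_lt (G.full.simple_lt i.isLt)) e1
  linear_combination this

/-- Conjugation by an element of `⟨X_a, X_{-a}⟩` multiplies a monomial involution on the right. -/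
theorem conj_move {m : GL D.Idx F} (hm2 : m * m = 1) (i : Fin D.rank) {e : F}
    (h1 : ∀ t, m * G.full.x (D.simple i) t * m⁻¹ = G.full.x (negR D (D.simple i)) (e * t))
    (h2 : ∀ t, m * G.full.x (negR D (D.simple i)) t * m⁻¹ = G.full.x (D.simple i) (e⁻¹ * t))
    (u v : F) {M : SL(2, F)}
    (hM : (M : Matrix (Fin 2) (Fin 2) F) =
      !![1, 0; -(e * v), 1] * !![1, -(e⁻¹ * u); 0, 1] * !![1, 0; u, 1] * !![1, v; 0, 1]) :
    ∃ h ∈ D.group F, h * m * h⁻¹ = m * (G.rankOne F i).hom M := by
  set g := G.full.x (negR D (D.simple i)) u * G.full.x (D.simple i) v with hg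
  refine ⟨g⁻¹, inv_mem (mul_mem (G.x_mem_group _ _) (G.x_mem_group _ _)), ?_⟩
  have hM' : M = eY (-(e * v)) * RankOne.eX (-(e⁻¹ * u)) * eY u * RankOne.eX v :=
    Subtype.ext hM
  rw [hM', map_mul, map_mul, map_mul, G.hom_lower, G.hom_lower, G.hom_upper, G.hom_upper]
  have hi : m⁻¹ = m := inv_eq_of_mul_eq_one_right hm2
  have e1 := h1 (-v)
  have e2 := h2 (-u)
  rw [mul_neg, ← G.full.x_inv (D.simple i) v] at e1
  rw [mul_neg, ← G.full.x_inv (negR D (D.simple i)) u] at e2
  rw [← e1, ← e2, inv_inv, hg]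
  simp only [hi]
  calc (G.full.x (negR D (D.simple i)) u * G.full.x (D.simple i) v)⁻¹ * m *
        (G.full.x (negR D (D.simple i)) u * G.full.x (D.simple i) v)
      = (m * m) * (G.full.x (D.simple i) v)⁻¹ * ((m * m) * (G.full.x (negR D (D.simple i)) u)⁻¹) *
          m * G.full.x (negR D (D.simple i)) u * G.full.x (D.simple i) v := by
        rw [hm2]; group
    _ = _ := by group

/-- A square coefficient removes the fundamental reflection. -/
theorem split_step {m : GL D.Idx F} (hm : m ∈ D.monomialSubgroup F) (hm2 : m * m = 1)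
    {σ : Equiv.Perm (Fin D.nroots)} (hact : G.full.RootAct m σ) {i : Fin D.rank}
    (ha : σ (G.full.simp' i) = negF (G.full.simp' i)) {e : F} (he : e ≠ 0) (hsq : IsSquare e)
    (h2' : (2 : F) ≠ 0)
    (h1 : ∀ t, m * G.full.x (D.simple i) t * m⁻¹ = G.full.x (negR D (D.simple i)) (e * t))
    (h2 : ∀ t, m * G.full.x (negR D (D.simple i)) t * m⁻¹ = G.full.x (D.simple i) (e⁻¹ * t)) :
    ∃ h ∈ D.group F, ∃ m' ∈ D.monomialSubgroup F, ∃ σ', G.full.RootAct m' σ' ∧
      (invSet σ').card < (invSet σ).card ∧ h * m * h⁻¹ = m' := by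
  obtain ⟨u, rfl⟩ := hsq
  have hu : u ≠ 0 := fun h => he (by simp [h])
  have hw : -u⁻¹ ≠ 0 := neg_ne_zero.mpr (inv_ne_zero hu)
  obtain ⟨h, hh, e1⟩ := G.conj_move hm2 i h1 h2 u (-(2 * u)⁻¹)
    (M := RankOne.eH (Units.mk0 _ hw) * RankOne.eN) (by
      ext a b
      fin_cases a <;> fin_cases b <;>
        simp [RankOne.coe_eH, RankOne.coe_eN, Matrix.SpecialLinearGroup.coe_mul, Matrix.mul_apply,
          Fin.sum_univ_two] <;> field_simp <;> ring)
  rw [map_mul, show (G.rankOne F i).hom (RankOne.eH (Units.mk0 _ hw)) =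
      G.full.hr (D.simple i) (-u⁻¹) from (G.rankOne F i).phi_eH _,
    show (G.rankOne F i).hom RankOne.eN = G.full.ns F i from (G.rankOne F i).phi_eN] at e1
  obtain ⟨d, hd⟩ := G.full.hr_mem (F := F) (G.full.simple_lt i.isLt) hw
  rw [← hd, ← mul_assoc] at e1
  have hact' := G.rootAct_mul (G.rootAct_mul hact (G.rootAct_hT d)) (G.rootAct_ns i)
  rw [mul_one] at hact'
  refine ⟨h, hh, _, mul_mem (mul_mem hm (G.hT_mem_monomial d)) (G.ns_mem_monomial i), _, hact', ?_,
    e1⟩
  obtain ⟨c, hc⟩ := hact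
  set a := G.full.simp' i
  refine lt_of_le_of_lt (Finset.card_le_card_of_injOn (G.full.refl i) (t := (invSet σ).erase a)
    (fun x hx => ?_) (G.full.refl i).injective.injOn) (Finset.card_erase_lt_of_mem
      (mem_inv.mpr ⟨G.pos_simp i, by rw [ha, G.pos_negF, not_not]; exact G.pos_simp i⟩))
  obtain ⟨hx1, hx2⟩ := mem_inv.mp hx
  have hxa : x ≠ a := by
    rintro rfl
    refine hx2 ?_
    rw [Equiv.Perm.mul_apply, G.refl_simp, (hc _).1, ha, negF_negF]
    exact G.pos_simp i
  refine Finset.mem_erase.mpr ⟨fun e => ?_, mem_inv.mpr ⟨(G.refl_pos i hx1 hxa).1, hx2⟩⟩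
  exact (G.refl_pos i hx1 hxa).2 e

/-- A monomial involution with prescribed behaviour outside the simple root `i`. -/
theorem change_step [Finite F] {m : GL D.Idx F} (hm2 : m * m = 1)
    {i : Fin D.rank} {e : F} (he : ¬ IsSquare e)
    (h1 : ∀ t, m * G.full.x (D.simple i) t * m⁻¹ = G.full.x (negR D (D.simple i)) (e * t))
    (h2 : ∀ t, m * G.full.x (negR D (D.simple i)) t * m⁻¹ = G.full.x (D.simple i) (e⁻¹ * t))
    (h2' : (2 : F) ≠ 0) :
    ∃ h ∈ D.group F, ∃ lam : F, ¬ IsSquare lam ∧
      h * m * h⁻¹ = m * G.full.hr (D.simple i) lam := by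
  haveI := Fintype.ofFinite F
  have he0 : e ≠ 0 := fun h => he (h ▸ IsSquare.zero)
  obtain ⟨a, b, hab⟩ := FiniteField.exists_root_sum_quadratic (R := F)
    (f := (Polynomial.X : Polynomial F) ^ 2) (g := (Polynomial.X : Polynomial F) ^ 2 - Polynomial.C e)
    (Polynomial.degree_X_pow 2) (Polynomial.degree_X_pow_sub_C (by norm_num) e) (by
      rw [← Nat.card_eq_fintype_card]
      rcases Nat.even_or_odd (Nat.card F) with hev | hodd
      · exfalso
        rw [Nat.card_eq_fintype_card, Nat.even_iff] at hev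
        haveI := ringChar.of_eq (FiniteField.even_card_iff_char_two.mpr hev)
        exact h2' (CharP.cast_eq_zero F 2)
      · exact Nat.odd_iff.mp hodd)
  simp only [Polynomial.eval_pow, Polynomial.eval_X, Polynomial.eval_sub, Polynomial.eval_C] at hab
  have ha : a ≠ 0 := fun h => he ⟨b, by rw [h] at hab; linear_combination -hab⟩
  have hb : b ≠ 0 := fun h => he ⟨a, by rw [h] at hab; linear_combination -hab⟩
  have hlam : (e - a ^ 2) / e = b ^ 2 / e := by congr 1; linear_combination -hab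
  have hb2 : e - a ^ 2 ≠ 0 := by
    rw [show e - a ^ 2 = b ^ 2 by linear_combination -hab]
    exact pow_ne_zero _ hb
  have hl0 : (e - a ^ 2) / e ≠ 0 := div_ne_zero hb2 he0
  obtain ⟨h, hh, e1⟩ := G.conj_move hm2 i h1 h2 a (a / (e - a ^ 2))
    (M := RankOne.eH (Units.mk0 _ hl0)) (by
      ext x y
      fin_cases x <;> fin_cases y <;>
        simp [RankOne.coe_eH, Matrix.mul_apply, Fin.sum_univ_two] <;> field_simp <;> ring)
  refine ⟨h, hh, (e - a ^ 2) / e, ?_, by rw [e1]; exact congrArg _ ((G.rankOne F i).phi_eH _)⟩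
  rw [hlam]
  rintro ⟨r, hr⟩
  refine he ⟨b / r, ?_⟩
  have hr0 : r ≠ 0 := fun h => by
    rw [h, mul_zero, div_eq_zero_iff] at hr
    exact hr.elim (pow_ne_zero _ hb) he0
  field_simp at hr ⊢
  linear_combination -hr

theorem ns_commute {a : Fin D.rank} {p q : ℕ} (hp : p = D.simple a)
    (hq : q = negR D (D.simple a)) {g : GL D.Idx F}
    (h1 : ∀ t, Commute (G.full.x p t) g) (h2 : ∀ t, Commute (G.full.x q t) g) :
    Commute (G.full.ns F a) g := by
  subst hp hq
  exact ((h1 1).mul_left (h2 _)).mul_left (h1 1)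

/-- A product of commuting fundamental reflections, squared around a torus element. -/
theorem orth_square {a : Fin D.rank} : ∀ L : List (Fin D.rank), a ∉ L → L.Nodup →
    (∀ b ∈ L, ∀ b' ∈ L, b ≠ b' → Commute (G.full.ns F b) (G.full.ns F b')) →
    ∀ e : Fin D.rank → Fˣ, ∃ f : Fin D.rank → Fˣ, f a = e a ∧
      G.full.nw F L * T.hT F e * G.full.nw F L = T.hT F f := by
  intro L
  induction L with
  | nil => intro _ _ _ e; exact ⟨e, rfl, by simp [Full.nw]⟩
  | cons b L ih =>
    intro ha hnd hc e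
    obtain ⟨hb, hnd'⟩ := List.nodup_cons.mp hnd
    obtain ⟨f, hf, ef⟩ := ih (fun h => ha (List.mem_cons_of_mem _ h)) hnd'
      (fun x hx y hy => hc x (List.mem_cons_of_mem _ hx) y (List.mem_cons_of_mem _ hy)) e
    have hX : Commute (G.full.ns F b) (G.full.nw F L) := by
      refine Commute.list_prod_right _ _ fun g hg => ?_
      obtain ⟨c, hc', rfl⟩ := List.mem_map.mp hg
      exact hc b (List.mem_cons_self ..) c (List.mem_cons_of_mem _ hc') fun h => hb (h ▸ hc')
    have hba : b ≠ a := fun h => ha (h ▸ List.mem_cons_self ..)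
    refine ⟨f * Pi.mulSingle b (T.chi (F := F) (D.simple b) f)⁻¹ *
      Pi.mulSingle b (Units.mk0 (-1) (neg_ne_zero.mpr one_ne_zero)), by simp [hba.symm, hf], ?_⟩
    rw [G.nw_cons, map_mul, ← map_inv, G.full.hT_single]
    calc G.full.ns F b * G.full.nw F L * T.hT F e * (G.full.ns F b * G.full.nw F L)
        = G.full.ns F b * G.full.nw F L * T.hT F e * (G.full.nw F L * G.full.ns F b) := by rw [hX.eq]
      _ = G.full.ns F b * T.hT F f * G.full.ns F b := by rw [← ef]; group
      _ = _ := by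
        rw [G.ns_hT_eq, mul_assoc, G.full.ns_sq b.isLt, map_mul]
        simp

/-- The flips of a Weyl element negating all its flipped fundamental roots, pairwise orthogonal. -/
theorem orth_word : ∀ (N : ℕ) (L : List (Fin D.rank)), (invSet (G.full.pw L)).card = N →
    (∀ b, ¬ IsPos D (G.full.pw L (G.full.simp' b)).val →
      G.full.pw L (G.full.simp' b) = negF (G.full.simp' b)) →
    (∀ b b', ¬ IsPos D (G.full.pw L (G.full.simp' b)).val →
      ¬ IsPos D (G.full.pw L (G.full.simp' b')).val → b ≠ b' →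
        T.reflT b' (D.simple b) = D.simple b) →
    ∀ a, ¬ IsPos D (G.full.pw L (G.full.simp' a)).val →
      ∃ L' : List (Fin D.rank), (a :: L').Nodup ∧
        (∀ b ∈ L', ¬ IsPos D (G.full.pw L (G.full.simp' b)).val) ∧
        G.full.pw L = G.full.pw (a :: L') := by
  intro N
  induction N using Nat.strong_induction_on with
  | _ N ih =>
    intro L hN hneg horth a ha
    subst hN
    obtain ⟨c, hc⟩ := G.rootAct_nw (F := ℚ) L
    have haa := hneg a ha
    set σ := G.full.pw L with hσ
    have hσ' : G.full.pw (a :: L) = G.full.refl a * σ := G.pw_cons a L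
    have hfix : ∀ x, σ x = G.full.simp' a → x = negF (G.full.simp' a) := fun x hx =>
      σ.injective (by rw [hx, (hc _).1, haa, negF_negF])
    have hcard : (invSet (G.full.pw (a :: L))).card < (invSet σ).card := by
      refine lt_of_le_of_lt (Finset.card_le_card (t := (invSet σ).erase (G.full.simp' a))
        fun x hx => ?_) (Finset.card_erase_lt_of_mem (mem_inv.mpr ⟨G.pos_simp a, ha⟩))
      obtain ⟨hx1, hx2⟩ := mem_inv.mp hx
      rw [hσ', Equiv.Perm.mul_apply] at hx2
      refine Finset.mem_erase.mpr ⟨?_, mem_inv.mpr ⟨hx1, fun hp => ?_⟩⟩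
      · rintro rfl
        refine hx2 ?_
        rw [haa, ← G.refl_simp a, G.refl_inj_left]
        exact G.pos_simp a
      · rcases eq_or_ne (σ x) (G.full.simp' a) with e | e
        · rw [hfix x e] at hx1
          exact G.pos_negF.mp hx1 (G.pos_simp a)
        · exact hx2 (G.refl_pos a hp e).1
    have hflip : ∀ b, ¬ IsPos D (G.full.pw (a :: L) (G.full.simp' b)).val →
        b ≠ a ∧ ¬ IsPos D (σ (G.full.simp' b)).val := by
      intro b hb
      rw [hσ', Equiv.Perm.mul_apply] at hb
      refine ⟨?_, fun hp => ?_⟩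
      · rintro rfl
        refine hb ?_
        rw [haa, ← G.refl_simp, G.refl_inj_left]
        exact G.pos_simp b
      · rcases eq_or_ne (σ (G.full.simp' b)) (G.full.simp' a) with e | e
        · have := G.pos_simp b
          rw [hfix _ e] at this
          exact G.pos_negF.mp this (G.pos_simp a)
        · exact hb (G.refl_pos a hp e).1
    have hneg' : ∀ b, ¬ IsPos D (G.full.pw (a :: L) (G.full.simp' b)).val →
        G.full.pw (a :: L) (G.full.simp' b) = negF (G.full.simp' b) := by
      intro b hb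
      obtain ⟨hba, hb'⟩ := hflip b hb
      have h0 := horth b a hb' ha hba
      rw [hσ', Equiv.Perm.mul_apply, hneg b hb']
      refine Fin.ext ?_
      show T.reflT a (negR D (D.simple b)) = negR D (D.simple b)
      obtain ⟨-, -, hn, -⟩ := G.full.reflT_spec a.isLt (G.full.simple_lt b.isLt)
      rw [hn, h0]
    by_cases hex : ∃ b, ¬ IsPos D (G.full.pw (a :: L) (G.full.simp' b)).val
    · obtain ⟨b, hb⟩ := hex
      obtain ⟨L'', hnd, hflips, e⟩ := ih _ hcard (a :: L) rfl hneg'
        (fun x y hx hy => horth x y (hflip x hx).2 (hflip y hy).2) b hb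
      have hall : ∀ x ∈ b :: L'', x ≠ a ∧ ¬ IsPos D (σ (G.full.simp' x)).val := fun x hx => by
        rcases List.mem_cons.mp hx with rfl | hx'
        exacts [hflip _ hb, hflip x (hflips x hx')]
      refine ⟨b :: L'', List.nodup_cons.mpr ⟨fun h => (hall a h).1 rfl, hnd⟩,
        fun x hx => (hall x hx).2, ?_⟩
      rw [G.pw_cons a (b :: L''), ← e, hσ', ← mul_assoc, G.refl_mul_self, one_mul]
    · refine ⟨[], List.nodup_singleton a, by simp, ?_⟩
      have hone : G.full.pw (a :: L) = 1 := by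
        have hz : ∀ s, IsPos D s.val → IsPos D (G.full.pw (a :: L) s).val := fun s hs => by
          by_contra hn
          obtain ⟨l, -, hl⟩ := G.exists_flip_simple
            (J := List.range D.rank) (list_prod_mem fun g hg => by
              obtain ⟨j, -, rfl⟩ := List.mem_map.mp hg
              exact G.refl_mem (List.mem_range.mpr j.isLt)) (mem_inv.mpr ⟨hs, hn⟩)
          exact hex ⟨l, hl⟩
        obtain ⟨c', hc'⟩ := G.nw_mem_torus (F := ℚ) _ (a :: L) rfl hz
        rw [G.pw_eq_of_nw (F := ℚ) (L' := []) (c := c') (by rw [hc']; simp [Full.nw])]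
        simp [Full.pw]
      rw [hσ'] at hone
      rw [show G.full.pw [a] = G.full.refl a by simp [Full.pw], eq_inv_of_mul_eq_one_right hone]
      exact inv_eq_of_mul_eq_one_right (G.refl_mul_self a)

omit G in
theorem mul_nonsquare [Fintype F] [DecidableEq F] {x y : F}
    (hx : ¬ IsSquare x) (hy : ¬ IsSquare y) : IsSquare (x * y) := by
  have hx0 : x ≠ 0 := fun h => hx (h ▸ IsSquare.zero)
  have hy0 : y ≠ 0 := fun h => hy (h ▸ IsSquare.zero)
  rw [← quadraticChar_one_iff_isSquare (mul_ne_zero hx0 hy0), map_mul,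
    quadraticChar_neg_one_iff_not_isSquare.mpr hx, quadraticChar_neg_one_iff_not_isSquare.mpr hy]
  norm_num

/-- A monomial involution is conjugate into the torus. -/
theorem monomial_to_torus [Finite F] (h2' : (2 : F) ≠ 0) {M : List (List ℤ)}
    (hM : T.chkSC M = true) : ∀ (N : ℕ) (m : GL D.Idx F), m ∈ D.monomialSubgroup F → m * m = 1 →
      ∀ σ, G.full.RootAct m σ → (invSet σ).card = N →
      ∃ h ∈ D.group F, h * m * h⁻¹ ∈ D.diagonalSubgroup F := by
  classical
  haveI := Fintype.ofFinite F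
  intro N
  induction N using Nat.strong_induction_on with
  | _ N ih =>
    intro m hm hm2 σ hact hN
    subst hN
    have step : (∃ h ∈ D.group F, ∃ m' ∈ D.monomialSubgroup F, ∃ σ', G.full.RootAct m' σ' ∧
        (invSet σ').card < (invSet σ).card ∧ h * m * h⁻¹ = m') →
        ∃ h ∈ D.group F, h * m * h⁻¹ ∈ D.diagonalSubgroup F := by
      rintro ⟨h, hh, m', hm', σ', hact', hlt, rfl⟩
      obtain ⟨k, hk, e⟩ := ih _ hlt _ hm' (by
        rw [show h * m * h⁻¹ * (h * m * h⁻¹) = h * (m * m) * h⁻¹ by group, hm2, mul_one,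
          mul_inv_cancel]) σ' hact' rfl
      refine ⟨k * h, mul_mem hk hh, ?_⟩
      rwa [show k * h * m * (k * h)⁻¹ = k * (h * m * h⁻¹) * k⁻¹ by group]
    obtain ⟨L, hL⟩ := G.exists_rootAct hm
    obtain rfl := G.rootAct_unique hact hL
    have hfull : G.full.pw L ∈ G.full.WJ (List.range D.rank) := list_prod_mem fun g hg => by
      obtain ⟨j, -, rfl⟩ := List.mem_map.mp hg
      exact G.refl_mem (List.mem_range.mpr j.isLt)
    set σ := G.full.pw L with hσdef
    have hinv : σ * σ = 1 := G.rootAct_unique (G.rootAct_mul hact hact) (hm2 ▸ G.rootAct_one)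
    have hinv' : ∀ x, σ (σ x) = x := fun x => by rw [← Equiv.Perm.mul_apply, hinv]; rfl
    obtain ⟨c, hc⟩ := hact
    have hact : G.full.RootAct m σ := ⟨c, hc⟩
    by_cases hflip : ∃ l, ¬ IsPos D (σ (G.full.simp' l)).val
    swap
    · refine ⟨1, one_mem _, ?_⟩
      rw [one_mul, inv_one, mul_one]
      refine G.mem_diagonal_of_pos hm hact fun s hs => ?_
      by_contra hn
      obtain ⟨l, -, hl⟩ := G.exists_flip_simple hfull (mem_inv.mpr ⟨hs, hn⟩)
      exact hflip ⟨l, hl⟩
    by_cases hne : ∃ l, ¬ IsPos D (σ (G.full.simp' l)).val ∧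
        σ (G.full.simp' l) ≠ negF (G.full.simp' l)
    · obtain ⟨l, hl, hl'⟩ := hne
      have hsinv : (G.full.refl l)⁻¹ = G.full.refl l :=
        inv_eq_of_mul_eq_one_right (G.refl_mul_self l)
      have hact' := G.rootAct_mul (G.rootAct_mul (G.rootAct_ns l) hact)
        (G.rootAct_inv (G.ns_mem_monomial l) (G.rootAct_ns l))
      rw [hsinv] at hact'
      refine step ⟨_, G.ns_mem_group l, _, mul_mem (mul_mem (G.ns_mem_monomial l) hm)
        (inv_mem (G.ns_mem_monomial l)), _, hact', ?_, rfl⟩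
      set a := G.full.simp' l
      refine lt_of_le_of_lt (Finset.card_le_card_of_injOn (G.full.refl l)
        (t := (invSet σ).erase a) (fun x hx => ?_) (G.full.refl l).injective.injOn)
        (Finset.card_erase_lt_of_mem (mem_inv.mpr ⟨G.pos_simp l, hl⟩))
      obtain ⟨hx1, hx2⟩ := mem_inv.mp hx
      rw [Equiv.Perm.mul_apply, Equiv.Perm.mul_apply] at hx2
      have hxa : x ≠ a := by
        rintro rfl
        rw [G.refl_simp, (hc _).1] at hx2
        refine hx2 (G.refl_pos l (G.pos_negF.mpr hl) fun e => hl' ?_).1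
        rw [← negF_negF (σ a)]
        exact congrArg negF e
      have hy := G.refl_pos l hx1 hxa
      refine Finset.mem_erase.mpr ⟨fun e => hy.2 e, mem_inv.mpr ⟨hy.1, fun hp => ?_⟩⟩
      rcases eq_or_ne (σ (G.full.refl l x)) a with e | e
      · have := hy.1
        rw [← hinv' (G.full.refl l x), e] at this
        exact hl this
      · exact hx2 (G.refl_pos l hp e).1
    simp only [not_exists, not_and, not_not] at hne
    by_cases hodd : ∃ a b, ¬ IsPos D (σ (G.full.simp' a)).val ∧
        ¬ IsPos D (σ (G.full.simp' b)).val ∧ a ≠ b ∧ T.cart b (D.simple a) % 2 = 1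
    · obtain ⟨a, b, ha, hb, hab, hpar⟩ := hodd
      obtain ⟨ea, hea, ha1, ha2⟩ := G.coeff_spec hact (hne a ha)
      obtain ⟨eb, heb, hb1, hb2⟩ := G.coeff_spec hact (hne b hb)
      by_cases hsa : IsSquare ea
      · exact step (G.split_step hm hm2 hact (hne a ha) hea hsa h2' ha1 ha2)
      by_cases hsb : IsSquare eb
      · exact step (G.split_step hm hm2 hact (hne b hb) heb hsb h2' hb1 hb2)
      obtain ⟨h, hh, lam, hlam, e1⟩ := G.change_step hm2 hsb hb1 hb2 h2'
      have hl0 : lam ≠ 0 := fun h => hlam (h ▸ IsSquare.zero)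
      set m' := m * G.full.hr (D.simple b) lam with hm'def
      obtain ⟨d, hd⟩ := G.full.hr_mem (F := F) (G.full.simple_lt b.isLt) hl0
      have hact' : G.full.RootAct m' σ := by
        have := G.rootAct_mul hact (G.rootAct_hT d)
        rwa [mul_one, hd] at this
      have hm' : m' ∈ D.monomialSubgroup F := mul_mem hm (hd ▸ G.hT_mem_monomial d)
      have hm2' : m' * m' = 1 := by
        rw [← e1, show h * m * h⁻¹ * (h * m * h⁻¹) = h * (m * m) * h⁻¹ by group, hm2,
          mul_one, mul_inv_cancel]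
      obtain ⟨ea', hea', ha1', ha2'⟩ := G.coeff_spec hact' (hne a ha)
      have hcal : ea' = ea * lam ^ T.cart b (D.simple a) := by
        refine G.coeff_unique (m := m') (i := a) (by simpa using ha1' 1) ?_
        rw [hm'def, show m * G.full.hr (D.simple b) lam * G.full.x (D.simple a) 1 *
          (m * G.full.hr (D.simple b) lam)⁻¹ = m * (G.full.hr (D.simple b) lam *
            G.full.x (D.simple a) 1 * (G.full.hr (D.simple b) lam)⁻¹) * m⁻¹ by group,
          G.full.hr_conj_simple b.isLt (G.full.simple_lt a.isLt) hl0, ha1, mul_one]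
      have hsq : IsSquare ea' := by
        obtain ⟨k, hk⟩ : Odd (T.cart b (D.simple a)) := Int.odd_iff.mpr hpar
        rw [hcal, hk, zpow_add₀ hl0, zpow_one, show ea * (lam ^ (2 * k) * lam) =
          ea * lam * lam ^ (2 * k) by ring]
        exact (mul_nonsquare hsa hlam).mul ⟨lam ^ k, by rw [← zpow_add₀ hl0, two_mul]⟩
      obtain ⟨h', hh', mm, hmm, σ', hact'', hlt, e2⟩ :=
        G.split_step hm' hm2' hact' (hne a ha) hea' hsq h2' ha1' ha2'
      refine step ⟨h' * h, mul_mem hh' hh, mm, hmm, σ', hact'', hlt, ?_⟩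
      rw [← e2, ← e1]
      group
    -- the flipped fundamental roots are pairwise orthogonal
    simp only [not_exists, not_and] at hodd
    simp only [chkSC, Bool.and_eq_true, allBelow_iff, Bool.or_eq_true, Nat.beq_eq,
      decide_eq_true_eq] at hM
    have horth : ∀ a b, ¬ IsPos D (σ (G.full.simp' a)).val → ¬ IsPos D (σ (G.full.simp' b)).val →
        a ≠ b → T.reflT b (D.simple a) = D.simple a ∧
        T.chkCommute 0 (D.simple a) (D.simple b) = true ∧
        T.chkCommute 0 (D.simple a) (negR D (D.simple b)) = true ∧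
        T.chkCommute 0 (negR D (D.simple a)) (D.simple b) = true ∧
        T.chkCommute 0 (negR D (D.simple a)) (negR D (D.simple b)) = true := by
      intro a b ha hb hab
      rcases hM.2 a a.isLt b b.isLt with ((h | h) | h) | h
      · exact absurd (Fin.ext h) hab
      · exact absurd h (hodd a b ha hb hab)
      · exact absurd h (hodd b a hb ha hab.symm)
      · exact ⟨h.1.1.1.1, h.1.1.1.2, h.1.1.2, h.1.2, h.2⟩
    obtain ⟨a, ha⟩ := hflip
    obtain ⟨L', hnd, hflips, eσ⟩ := G.orth_word _ L rfl hne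
      (fun x y hx hy hxy => (horth x y hx hy hxy).1) a ha
    have hall : ∀ b ∈ a :: L', ¬ IsPos D (σ (G.full.simp' b)).val := fun b hb => by
      rcases List.mem_cons.mp hb with rfl | h
      exacts [ha, hflips b h]
    have hz : ((0 : ℕ) : F) = 0 := Nat.cast_zero
    have hcomm : ∀ b ∈ a :: L', ∀ b' ∈ a :: L', b ≠ b' →
        (∀ t, Commute (G.full.x (D.simple b) t) (G.full.ns F b')) ∧
        (∀ t, Commute (G.full.x (negR D (D.simple b)) t) (G.full.ns F b')) := by
      intro b hb b' hb' hne'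
      obtain ⟨-, c1, c2, c3, c4⟩ := horth b b' (hall b hb) (hall b' hb') hne'
      exact ⟨fun t => (G.ns_commute rfl rfl (fun s => (G.x_commute hz c1 t s).symm)
          (fun s => (G.x_commute hz c2 t s).symm)).symm,
        fun t => (G.ns_commute rfl rfl (fun s => (G.x_commute hz c3 t s).symm)
          (fun s => (G.x_commute hz c4 t s).symm)).symm⟩
    have hnsns : ∀ b ∈ a :: L', ∀ b' ∈ a :: L', b ≠ b' →
        Commute (G.full.ns F b) (G.full.ns F b') := fun b hb b' hb' hne' =>
      G.ns_commute rfl rfl (hcomm b hb b' hb' hne').1 (hcomm b hb b' hb' hne').2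
    have haL : a ∉ L' := (List.nodup_cons.mp hnd).1
    have hXR : ∀ t, Commute (G.full.x (D.simple a) t) (G.full.nw F L') ∧
        Commute (G.full.x (negR D (D.simple a)) t) (G.full.nw F L') := fun t => by
      constructor <;>
      · refine Commute.list_prod_right _ _ fun g hg => ?_
        obtain ⟨b, hb, rfl⟩ := List.mem_map.mp hg
        have := hcomm a (List.mem_cons_self ..) b (List.mem_cons_of_mem _ hb) fun h => haL (h ▸ hb)
        first | exact this.1 t | exact this.2 t
    have hsR : Commute (G.full.ns F a) (G.full.nw F L') :=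
      G.ns_commute rfl rfl (fun t => (hXR t).1) (fun t => (hXR t).2)
    have hd0 : m * (G.full.nw F (a :: L'))⁻¹ ∈ D.diagonalSubgroup F := by
      refine G.mem_diagonal_of_pos (mul_mem hm (inv_mem (G.nw_mem_monomial _)))
        (G.rootAct_mul hact (G.rootAct_inv (G.nw_mem_monomial _) (G.rootAct_nw _))) fun s hs => ?_
      rw [← eσ, ← hσdef, mul_inv_cancel]
      exact hs
    rw [G.full.diagonal_eq_range] at hd0
    obtain ⟨d, hd⟩ := hd0
    rw [eq_mul_inv_iff_mul_eq, G.nw_cons, ← mul_assoc] at hd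
    -- the square of `m`
    set R := G.full.nw F L'
    set d1 := d * Pi.mulSingle a (T.chi (F := F) (D.simple a) d)⁻¹
    set u1 : Fin D.rank → Fˣ := Pi.mulSingle a (Units.mk0 (-1) (neg_ne_zero.mpr one_ne_zero))
    obtain ⟨f, hf, ef⟩ := G.orth_square L' haL (List.nodup_cons.mp hnd).2
      (fun x hx y hy => hnsns x (List.mem_cons_of_mem _ hx) y (List.mem_cons_of_mem _ hy))
      (d1 * u1)
    have e0 : T.hT F (d * f) = 1 := by
      rw [map_mul, ← ef, map_mul, ← hm2, ← hd, G.full.hT_single, Units.val_mk0,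
        ← G.full.ns_sq a.isLt]
      calc T.hT F d * (R * (T.hT F d1 * (G.full.ns F a * G.full.ns F a)) * R)
          = T.hT F d * (R * (G.full.ns F a * T.hT F d * G.full.ns F a) * R) := by
            rw [show T.hT F d1 * (G.full.ns F a * G.full.ns F a) =
              G.full.ns F a * T.hT F d * G.full.ns F a by rw [G.ns_hT_eq a d, mul_assoc]]
        _ = T.hT F d * (R * G.full.ns F a) * T.hT F d * G.full.ns F a * R := by group
        _ = _ := by rw [← hsR.eq]; group
    have e1 := congrFun (G.sc_hT_inj (M := M) (by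
      simp only [chkSC, Bool.and_eq_true, allBelow_iff, Bool.or_eq_true, Nat.beq_eq,
        decide_eq_true_eq]
      exact hM) e0) a
    simp only [Pi.mul_apply, Pi.one_apply, hf, d1, u1, Pi.mulSingle_eq_same] at e1
    have e2 := congrArg Units.val e1
    simp only [Units.val_mul, Units.val_one, Units.val_inv_eq_inv_val, Units.val_mk0] at e2
    obtain ⟨ea, hea, ha1, ha2⟩ := G.coeff_spec hact (hne a ha)
    refine step (G.split_step hm hm2 hact (hne a ha) hea ⟨((d a : F))⁻¹, ?_⟩ h2' ha1 ha2)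
    refine G.coeff_unique (m := m) (i := a) (by simpa using ha1 1) ?_
    have hns : G.full.ns F a * G.full.x (D.simple a) 1 * (G.full.ns F a)⁻¹ =
        G.full.x (negR D (D.simple a)) (-1) := by
      rw [G.full.ns_conj a.isLt (G.full.simple_lt a.isLt), G.full.simple_reflect a.isLt,
        (G.full.node_spec a.isLt).2.2.2.1]
      simp
    rw [← hd, show T.hT F d * G.full.ns F a * R * G.full.x (D.simple a) 1 *
        (T.hT F d * G.full.ns F a * R)⁻¹ = T.hT F d * (G.full.ns F a *
          (R * G.full.x (D.simple a) 1 * R⁻¹) * (G.full.ns F a)⁻¹) * (T.hT F d)⁻¹ by group,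
      show R * G.full.x (D.simple a) 1 * R⁻¹ = G.full.x (D.simple a) 1 by
        rw [← (hXR 1).1.eq, mul_inv_cancel_right], hns,
      G.full.hT_conj (Cert.negR_lt (G.full.simple_lt a.isLt))]
    congr 1
    rw [← G.full.simple_reflect a.isLt, G.full.chi_reflT a.isLt (G.full.simple_lt a.isLt),
      (G.full.node_spec a.isLt).2.2.1]
    set X := (T.chi (F := F) (D.simple a)) d
    have hXne : ((X : Fˣ) : F) ≠ 0 := Units.ne_zero _
    simp only [Units.val_mul, Units.val_zpow_eq_zpow_val]
    rw [_root_.zpow_neg, zpow_ofNat]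
    field_simp at e2 ⊢
    linear_combination e2

/-- An involution is conjugate to a monomial one. -/
theorem to_monomial [Finite F] (h2' : (2 : F) ≠ 0) {g : GL D.Idx F} (hg : g ∈ D.group F)
    (hg2 : g * g = 1) : ∃ h ∈ D.group F, h * g * h⁻¹ ∈ D.monomialSubgroup F := by
  classical
  obtain ⟨b, hb, m, hm, L, hL, u, hu, rfl⟩ := G.canonical_exists hg
  obtain ⟨v, hv, d, hvd⟩ := G.mem_borel.mp (mul_mem (pos_le_borel G (G.flip_le_pos _ hu)) hb)
  have hb' := G.borel_le_group hb
  set m' := m * T.hT F d with hm'def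
  set w := (T.hT F d)⁻¹ * v * T.hT F d with hwdef
  have hm' : m' ∈ D.monomialSubgroup F := mul_mem hm (G.hT_mem_monomial d)
  have hact : G.full.RootAct m' (G.full.pw L) := by
    simpa using G.rootAct_mul hL (G.rootAct_hT d)
  have hw : w ∈ D.posUnipotent F := by
    have h := (Subgroup.mem_normalizer_iff.mp
      (G.diagonal_le_normalizer_pos (F := F) (x := (T.hT F d)⁻¹) (by
        rw [G.full.diagonal_eq_range]; exact inv_mem ⟨d, rfl⟩)) v).mp hv
    rwa [inv_inv] at h
  have ht : b⁻¹ * (b * m * u) * b⁻¹⁻¹ = m' * w := by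
    rw [hm'def, hwdef, inv_inv, show b⁻¹ * (b * m * u) * b = m * (u * b) by group, hvd]
    group
  have ht2 : m' * w * (m' * w) = 1 := by
    rw [← ht, show b⁻¹ * (b * m * u) * b⁻¹⁻¹ * (b⁻¹ * (b * m * u) * b⁻¹⁻¹) =
      b⁻¹ * ((b * m * u) * (b * m * u)) * b by group, hg2, mul_one, inv_mul_cancel]
  have hwU : w ∈ G.US F {r | IsPos D r} := by rwa [← G.posUnipotent_eq]
  obtain ⟨k, hk, f, hf, hkf⟩ := G.US_split (G.closed_keep L) (G.closed_flip L) G.closed_pos
    (pos_eq_keep_union_flip _) hwU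
  have hkU : k ∈ D.posUnipotent F := by
    rw [G.posUnipotent_eq]
    exact G.US_mono (fun s hs => by obtain ⟨_, h1, -⟩ := hs; exact h1) hk
  have hmk : m' * k * m'⁻¹ ∈ D.posUnipotent F := by
    rw [G.posUnipotent_eq]
    exact G.conj_x_act hact (fun s hs => by obtain ⟨h, -, h2⟩ := hs; exact ⟨h, h2⟩) hk
  obtain ⟨L₂, hL₂⟩ := G.exists_rootAct (inv_mem hm')
  have e : m' * k * m'⁻¹ * m' * f = w⁻¹ * m'⁻¹ * 1 := by
    rw [inv_mul_cancel_right, mul_assoc, ← hkf, mul_one, ← _root_.mul_inv_rev]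
    exact (inv_eq_of_mul_eq_one_right ht2).symm
  obtain ⟨hd, -⟩ := G.canonical_unique (pos_le_borel G hmk) (pos_le_borel G (inv_mem hw)) hm'
    (inv_mem hm') hact hL₂ hf (one_mem _) e
  have hd' : m' * (m'⁻¹ * m'⁻¹) * m'⁻¹ ∈ D.diagonalSubgroup F :=
    (G.diagonal_normal (F := F)).conj_mem ⟨_, mul_mem (inv_mem hm') (inv_mem hm')⟩ hd ⟨m', hm'⟩
  have e' : m' * k * m'⁻¹ * m' * f =
      w⁻¹ * (m' * (m'⁻¹ * m'⁻¹) * m'⁻¹) * m' * 1 := by rw [e]; group
  obtain ⟨-, huniq⟩ := G.canonical_unique (pos_le_borel G hmk)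
    (mul_mem (pos_le_borel G (inv_mem hw)) (Subgroup.mem_sup_right hd')) hm' hm' hact hact hf
    (one_mem _) e'
  obtain ⟨e2, rfl⟩ := huniq rfl
  rw [mul_one] at hkf
  subst hkf
  have hm2 : m' * m' = 1 := by
    have hU : m' * (m'⁻¹ * m'⁻¹) * m'⁻¹ ∈ D.posUnipotent F ⊓ D.diagonalSubgroup F :=
      ⟨by
        have := mul_mem hkU hmk
        rwa [e2, mul_inv_cancel_left] at this, hd'⟩
    rw [G.pos_inf_diagonal, Subgroup.mem_bot, conj_eq_one_iff] at hU
    rw [← _root_.mul_inv_rev, inv_eq_one] at hU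
    exact hU
  -- `w` has odd order and is inverted by `m'`
  obtain ⟨p, hp⟩ := CharP.exists F
  haveI := hp
  haveI : Fact p.Prime := ⟨(CharP.char_is_prime_or_zero F p).resolve_right fun h0 => by
    subst h0
    haveI := CharP.charP_to_charZero F
    exact not_finite F⟩
  obtain ⟨j, hj⟩ := G.isPGroup_pos (F := F) p ⟨w, hw⟩
  have hj' : w ^ p ^ j = 1 := by
    have := congrArg Subtype.val hj
    simpa using this
  obtain ⟨r, hr⟩ : Odd (p ^ j) := by
    refine Odd.pow (Nat.Prime.odd_of_ne_two (Fact.out : p.Prime) fun h => h2' ?_)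
    subst h
    exact CharP.cast_eq_zero F 2
  set z := w ^ (r + 1)
  have hz : z * z = w := by
    rw [← pow_add, show r + 1 + (r + 1) = p ^ j + 1 by omega, pow_succ, hj', one_mul]
  have hmi : m'⁻¹ = m' := inv_eq_of_mul_eq_one_right hm2
  have hinv : m' * w * m'⁻¹ = w⁻¹ := by
    rw [hmi, eq_inv_iff_mul_eq_one, ← ht2]
    group
  have hzinv : m' * z * m'⁻¹ = z⁻¹ := by rw [← conj_pow, hinv, inv_pow]
  refine ⟨z * b⁻¹, mul_mem (pow_mem (G.borel_le_group (pos_le_borel G hw)) _) (inv_mem hb'), ?_⟩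
  rw [show z * b⁻¹ * (b * m * u) * (z * b⁻¹)⁻¹ = z * (b⁻¹ * (b * m * u) * b⁻¹⁻¹) * z⁻¹ by group,
    ht, show z * (m' * w) * z⁻¹ = m' * ((m' * z * m'⁻¹) * w * z⁻¹) by
      rw [hmi]
      calc z * (m' * w) * z⁻¹ = (m' * m') * z * (m' * w) * z⁻¹ := by rw [hm2, one_mul]
        _ = _ := by group,
    hzinv, ← hz, inv_mul_cancel_left, mul_inv_cancel, mul_one]
  exact hm'

/-- Every involution is conjugate into the torus. -/
theorem to_torus [Finite F] (h2' : (2 : F) ≠ 0) {M : List (List ℤ)} (hM : T.chkSC M = true)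
    {g : GL D.Idx F} (hg : g ∈ D.group F) (hg2 : g * g = 1) :
    ∃ h ∈ D.group F, ∃ c, h * g * h⁻¹ = T.hT F c := by
  obtain ⟨h, hh, hmem⟩ := G.to_monomial h2' hg hg2
  obtain ⟨L, hL⟩ := G.exists_rootAct hmem
  obtain ⟨k, hk, hkd⟩ := G.monomial_to_torus h2' hM _ _ hmem (by
    rw [show h * g * h⁻¹ * (h * g * h⁻¹) = h * (g * g) * h⁻¹ by group, hg2, mul_one,
      mul_inv_cancel]) _ hL rfl
  rw [G.full.diagonal_eq_range] at hkd
  obtain ⟨c, hc⟩ := hkd
  exact ⟨k * h, mul_mem hk hh, c, by rw [hc]; group⟩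

end Good

end Tab

end CfsgLib.Chev
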