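import Cfsg.Agent.Chev.TwistedA1
import Mathlib.FieldTheory.Finite.Basic

/-!
Field automorphisms `t ↦ t^q` and common facts for the twisted groups of type `²E₆` and `³D₄`.
-/

set_option autoImplicit false

namespace CfsgLib.Chev

open Cfsg.Lie Matrix
open scoped MatrixGroups

section Field

variable {K : Type*} [Field K] [Fintype K] {q d : ℕ}

theorem exists_frob (hq : IsPrimePow q) (hK : Fintype.card K = q ^ d) (hd : 0 < d) :
    ∃ φ : K →+* K, ∀ x, φ x = x ^ q := by
  obtain ⟨p, k, hp, -, rfl⟩ := hq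
  have hp' : p.Prime := Nat.prime_iff.mpr hp
  obtain ⟨r, hr⟩ := CharP.exists K
  obtain ⟨n, hr', hn⟩ := FiniteField.card K r
  have hpr : r = p := by
    have h2 : r ∣ p ^ (k * d) := by
      rw [pow_mul, ← hK, hn]
      exact dvd_pow_self r n.ne_zero
    exact (Nat.prime_dvd_prime_iff_eq hr' hp').mp (hr'.dvd_of_dvd_pow h2)
  subst hpr
  haveI : ExpChar K r := ExpChar.prime hr'
  exact ⟨iterateFrobenius K r k, iterateFrobenius_def r k⟩

theorem two_le_of_isPrimePow (hq : IsPrimePow q) : 2 ≤ q := hq.one_lt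

theorem pow_q_pow (hK : Fintype.card K = q ^ d) (x : K) : x ^ q ^ d = x := by
  rw [← hK]; exact FiniteField.pow_card x

theorem units_card (hK : Fintype.card K = q ^ d) : Nat.card Kˣ = q ^ d - 1 := by
  classical
  rw [Nat.card_eq_fintype_card, Fintype.card_units, hK]

theorem units_pow_q_pow (hK : Fintype.card K = q ^ d) (x : Kˣ) : x ^ q ^ d = x :=
  Units.ext (by rw [Units.val_pow_eq_pow_val]; exact pow_q_pow hK _)

theorem card_pow_eq_one (n : ℕ) :
    Nat.card {u : Kˣ // u ^ n = 1} = Nat.gcd (Nat.card Kˣ) n := by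
  rw [← IsCyclic.card_powMonoidHom_ker (G := Kˣ) n]
  exact Nat.card_congr (Equiv.subtypeEquivRight fun u => Iff.rfl)

theorem card_units_fixed (hq : IsPrimePow q) (hK : Fintype.card K = q ^ d) :
    Nat.card {u : Kˣ // u ^ q = u} = q - 1 := by
  have h1 := hq.one_lt
  have e : Nat.card {u : Kˣ // u ^ q = u} = Nat.card {u : Kˣ // u ^ (q - 1) = 1} := by
    refine Nat.card_congr (Equiv.subtypeEquivRight fun u => ?_)
    conv_lhs => rw [show q = q - 1 + 1 by omega, pow_succ, mul_eq_right]
  rw [e, card_pow_eq_one, units_card hK, Nat.gcd_eq_right]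
  simpa using Nat.sub_dvd_pow_sub_pow q 1 d

theorem card_fixed (hq : IsPrimePow q) (hK : Fintype.card K = q ^ d) :
    Nat.card {x : K // x ^ q = x} = q := by
  classical
  have h1 := hq.one_lt
  let e : {x : K // x ^ q = x} ≃ Option {u : Kˣ // u ^ q = u} :=
    { toFun := fun x => if h : x.1 = 0 then none else some ⟨Units.mk0 x.1 h, Units.ext (by simp [x.2])⟩
      invFun := fun o => match o with
        | none => ⟨0, zero_pow (by omega)⟩
        | some u => ⟨u.1, by rw [← Units.val_pow_eq_pow_val, u.2]⟩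
      left_inv := fun x => by
        by_cases h : x.1 = 0
        · simp [h, Subtype.ext_iff]
        · simp [h]
      right_inv := fun o => by
        rcases o with _ | u
        · simp
        · simp [Subtype.ext_iff, Units.ext_iff] }
  rw [Nat.card_congr e, Finite.card_option, card_units_fixed hq hK]
  omega

theorem exists_sq_ne_one (hq : IsPrimePow q) (hK : Fintype.card K = q ^ d) (hd : 2 ≤ d) :
    ∃ a : Kˣ, a ^ 2 ≠ 1 := by
  by_contra h
  simp only [not_exists, not_not] at h
  have h4 : 4 ≤ q ^ d := by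
    calc 4 = 2 ^ 2 := rfl
    _ ≤ q ^ 2 := Nat.pow_le_pow_left hq.one_lt 2
    _ ≤ q ^ d := Nat.pow_le_pow_right hq.pos hd
  have e : Nat.card Kˣ = Nat.card {u : Kˣ // u ^ 2 = 1} :=
    Nat.card_congr (Equiv.subtypeUnivEquiv h).symm
  rw [card_pow_eq_one, units_card hK] at e
  have := Nat.le_of_dvd (by omega) (Nat.gcd_dvd_right (q ^ d - 1) 2)
  omega

end Field

namespace Tab

variable {D : ChevalleyDatum}

/-- Certificate for the exponent of the kernel of the torus map. -/
def chkKer (T : Tab D) (k : ℤ) (M : List (List ℤ)) : Bool :=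
  allBelow (fun i => allBelow (fun l => decide
    (((List.range D.rank).map fun j => (M.getD i []).getD j 0 * T.cart l (D.simple j)).sum =
      if i = l then k else 0)) D.rank) D.rank

/-- Certificate that a fixed root group is generated by commutators. -/
def chkLong (T : Tab D) (orbs : List (List ℕ)) (m : List (ℕ × ℤ × ℕ))
    (a b p : ℕ) (L : List ℕ) : Bool :=
  Nat.ble D.nroots (Nat.mul 2 a) && Nat.blt a D.nroots && Nat.ble D.nroots (Nat.mul 2 b) &&
    Nat.blt b D.nroots && !(Nat.beq b a) && !(Nat.beq b (negR D a)) &&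
    decide (mapAt m a = (a, 1, 1)) && decide (mapAt m b = (b, 1, 1)) &&
    L.all (fun J => Nat.blt J orbs.length) &&
    match T.commT a b with
    | [c] => decide (c.2.1.natAbs = 1) && Nat.beq c.2.2.1 1 && Nat.beq c.2.2.2 1 &&
        Nat.blt c.1 D.nroots && Nat.beq (T.wordT (flatW orbs L) c.1) p
    | _ => false

namespace Good

variable {T : Tab D} (G : T.Good) {F : Type*} [Field F]
include G

theorem ker_pow {k : ℕ} {M : List (List ℤ)} (hM : T.chkKer k M = true) {c : Fin D.rank → Fˣ}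
    (hc : T.hT F c = 1) : c ^ k = 1 := by
  rw [G.full.hT_eq_one_iff] at hc
  simp only [chkKer, allBelow_iff, decide_eq_true_eq] at hM
  funext i
  have e : c i ^ k = ∏ l, c l ^ (if i.val = l.val then (k : ℤ) else 0) := by
    rw [Finset.prod_eq_single i (fun l _ hl => by
      rw [if_neg fun h => hl (Fin.ext h.symm), _root_.zpow_zero])
      (fun h => absurd (Finset.mem_univ i) h), if_pos rfl, zpow_natCast]
  rw [Pi.pow_apply, e]
  calc ∏ l, c l ^ (if i.val = l.val then (k : ℤ) else 0)
      = ∏ l : Fin D.rank, ∏ j : Fin D.rank,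
          (c l ^ T.cart l (D.simple j)) ^ ((M.getD i []).getD j 0) := by
        refine Finset.prod_congr rfl fun l _ => ?_
        rw [← hM i i.isLt l l.isLt, list_sum_range
          (fun j => (M.getD i []).getD j 0 * T.cart l (D.simple j)), zpow_sum_eq_prod]
        refine Finset.prod_congr rfl fun j _ => ?_
        rw [← _root_.zpow_mul, mul_comm]
    _ = ∏ j : Fin D.rank, (T.chi (D.simple j) c) ^ ((M.getD i []).getD j 0) := by
        rw [Finset.prod_comm]
        exact Finset.prod_congr rfl fun j _ => Finset.prod_zpow _ _ _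
    _ = 1 := Finset.prod_eq_one fun j _ => by rw [hc j j.isLt, _root_.one_zpow]

end Good

namespace Good.Twisted

variable {T : Tab D} {G : T.Good} {F : Type*} [Field F] {Φ : G.Graph F} (Z : Twisted Φ)
include Z

/-- Connectedness from the orders of the products of the generators. -/
theorem connected_of {M : Fin Z.nJ → Fin Z.nJ → ℕ} (hM : ∀ i j, orderOf (Z.w i * Z.w j) = M i j)
    (h : ∀ P : Fin Z.nJ → Bool, (∃ a, P a = true) → (∃ b, P b = false) →
      ∃ a b, P a = true ∧ P b = false ∧ 2 < M a b) : Z.Connected := by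
  classical
  intro P hP hP'
  obtain ⟨a, b, ha, hb, hlt⟩ := h (fun a => decide (P a))
    (hP.imp fun a ha => decide_eq_true ha) (hP'.imp fun a ha => decide_eq_false ha)
  refine ⟨a, b, of_decide_eq_true ha, of_decide_eq_false hb, fun e => ?_⟩
  have h2 : (Z.w a * Z.w b) ^ 2 = 1 := by
    rw [pow_two, mul_assoc, ← mul_assoc (Z.w b), ← e, mul_assoc (Z.w a) (Z.w b) (Z.w b),
      show Z.w b * Z.w b = 1 from Z.invol b, mul_one, show Z.w a * Z.w a = 1 from Z.invol a]
  have := Nat.le_of_dvd two_pos (orderOf_dvd_of_pow_eq_one h2)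
  rw [hM] at this
  omega

end Good.Twisted

namespace Good.A1Data

variable {T : Tab D} {G : T.Good} {F : Type*} [Field F] {Φ : G.Graph F} {orbs : List (List ℕ)}
  (A : G.A1Data Φ orbs) [Finite F]
include A

theorem long_mem_commutator
    (htor : ∀ c, T.hT F (Φ.σc c) = T.hT F c → T.hT F (c * c) = 1 → T.hT F c ∈ A.torus) {m : List (ℕ × ℤ × ℕ)}
    (hπ : ∀ r, (Φ.π r).val = (mapAt m r.val).1) (σ : F →+* F)
    (hf : ∀ r t, Φ.f r t = σ (((mapAt m r.val).2.1 : F) * t ^ (mapAt m r.val).2.2))
    {a b p : ℕ} {L : List ℕ} (h : T.chkLong orbs m a b p L = true) {t : F} (ht : σ t = t) :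
    G.full.x p t ∈ ⁅A.grp, A.grp⁆ := by
  simp only [chkLong, Bool.and_eq_true, Nat.ble_eq, Nat.blt_eq, Bool.not_eq_true',
    decide_eq_true_eq, List.all_eq_true] at h
  obtain ⟨⟨⟨⟨⟨⟨⟨⟨⟨ha2, ha⟩, hb2⟩, hb⟩, hba⟩, hbn⟩, hma⟩, hmb⟩, hL⟩, hc⟩ := h
  have hne : b ≠ a := fun e => by rw [Tab.beq_true e] at hba; simp at hba
  have hne' : b ≠ negR D a := fun e => by rw [Tab.beq_true e] at hbn; simp at hbn
  have hfix : ∀ r : ℕ, r < D.nroots → D.nroots ≤ 2 * r → mapAt m r = (r, 1, 1) →
      ∀ s : F, σ s = s → G.full.x r s ∈ A.grp := by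
    intro r hr hr2 hm s hs
    refine (A.twisted htor).U1_le (Subgroup.mem_inf.mpr ⟨⟨G.x_mem_group _ _, ?_⟩, ?_⟩)
    · rw [show r = (⟨r, hr⟩ : Fin D.nroots).val from rfl, Φ.A_x, hπ, hf, hm]
      simp [hs]
    · rw [G.posUnipotent_eq]
      exact G.x_mem_US (S := {r | IsPos D r}) ⟨hr, hr2⟩ _
  revert hc
  rcases hcomm : T.commT a b with _ | ⟨c, _ | ⟨c', L'⟩⟩
  · exact fun hc => Bool.noConfusion hc
  swap
  · exact fun hc => Bool.noConfusion hc
  intro hc
  simp only [Bool.and_eq_true, decide_eq_true_eq, Nat.beq_eq, Nat.blt_eq] at hc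
  obtain ⟨⟨⟨⟨hc1, hc2⟩, hc3⟩, hc4⟩, hc5⟩ := hc
  set Lf : List (Fin orbs.length) := toFins orbs.length L
  have hflat : (Lf.flatMap (G.oJ orbs)).map Fin.val = flatW orbs L := by
    rw [← map_toFins hL]
    exact ((A.twisted htor).flatW_eq A.hasData Lf).symm
  set W := Lf.flatMap (G.oJ orbs)
  have himg : (G.full.pw W ⟨c.1, hc4⟩).val = p := by rw [G.pw_apply, hflat]; exact hc5
  obtain ⟨ε, hε, he⟩ := G.conj_x_sign (F := F) hc4 W
  have hscale : ∀ u : F, G.full.nw F W * G.full.x c.1 u * (G.full.nw F W)⁻¹ =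
      G.full.x p (ε * u) := by
    intro u
    obtain ⟨d, hd⟩ := G.rootAct_nw (F := F) W
    have e1 := (hd ⟨c.1, hc4⟩).2.2.2 1
    rw [he, mul_one] at e1
    have := G.x_inj (Fin.isLt _) e1
    rw [(hd ⟨c.1, hc4⟩).2.2.2 u, ← this, himg]
  have hW : G.full.nw F W ∈ A.grp := by
    rw [← A.word_prod]
    exact list_prod_mem fun x hx => by
      obtain ⟨J, -, rfl⟩ := List.mem_map.mp hx
      exact A.n_mem J
  have hk : ∀ u : F, σ u = u → G.full.x c.1 ((c.2.1 : F) * -u) ∈ ⁅A.grp, A.grp⁆ := by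
    intro u hu
    have e := G.full.x_comm ha hb hne hne' u (1 : F)
    rw [G.full.cert.commWord_eq ha hb, hcomm] at e
    simp only [rhsWord, List.map_cons, List.map_nil, List.prod_cons, List.prod_nil, mul_one,
      hc2, hc3, pow_one] at e
    have hm := Subgroup.commutator_mem_commutator (inv_mem (hfix b hb hb2 hmb 1 σ.map_one))
      (inv_mem (hfix a ha ha2 hma u hu))
    convert hm using 1
    rw [commutatorElement_def, inv_inv, inv_inv, mul_assoc _ (G.full.x b 1) (G.full.x a u), e]
    group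
  have hεε : ε * ε = 1 := by rcases hε with rfl | rfl <;> simp
  have hcc : (c.2.1 : F) * (c.2.1 : F) = 1 := by
    rcases Int.natAbs_eq c.2.1 with e | e <;> rw [hc1] at e <;> rw [e] <;> simp
  have hσε : σ ε = ε := by rcases hε with rfl | rfl <;> simp
  set u := -((c.2.1 : F) * (ε * t)) with hu
  have huf : σ u = u := by rw [hu, map_neg, map_mul, map_mul, map_intCast, hσε, ht]
  have hx := hk u huf
  rw [show (c.2.1 : F) * -u = ε * t by rw [hu, neg_neg, ← mul_assoc, hcc, one_mul]] at hx
  rw [show t = ε * (ε * t) by rw [← mul_assoc, hεε, one_mul], ← hscale]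
  set g := G.full.nw F W
  set k := G.full.x c.1 (ε * t)
  have hkG : k ∈ A.grp := by
    refine Subgroup.commutator_le.mpr (fun a ha b hb => ?_) hx
    exact mul_mem (mul_mem (mul_mem ha hb) (inv_mem ha)) (inv_mem hb)
  rw [show g * k * g⁻¹ = g * k * g⁻¹ * k⁻¹ * k by group]
  exact mul_mem (Subgroup.commutator_mem_commutator hW hkG) hx

/-- The order of the torus. -/
theorem card_torus :
    Nat.card A.torus * Nat.card {c : A.Cσ // T.hT F (c : Fin D.rank → Fˣ) = 1} =
      Nat.card A.Cσ := by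
  let f := (T.hT F).comp A.Cσ.subtype
  have e1 : f.range = A.torus := by
    rw [MonoidHom.range_comp, Subgroup.range_subtype]
    rfl
  rw [← e1, ← Nat.card_congr (QuotientGroup.quotientKerEquivRange f).toEquiv,
    Subgroup.card_eq_card_quotient_mul_card_subgroup f.ker]
  rfl

end Good.A1Data

end Tab

end CfsgLib.Chev
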