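import Cfsg.Agent.Chev.TwistedGen
import Cfsg.Agent.Chev.TwistedField
import Cfsg.Agent.Chev.RootMapData
import Cfsg.Agent.Chev.SteinbergData
import Cfsg.Agent.Invol.Dihedral
import Cfsg.Prelude.Def_LieTwisted

/-!
The twisted groups `²F₄(q)`, `q = 2^(2m+1)`.
-/

set_option autoImplicit false
set_option linter.style.haveILetI false

namespace CfsgLib.Chev.F4Tw

open Cfsg.Lie Matrix Tab
open scoped MatrixGroups

/-- The orbits of fundamental roots. -/
def orbs : List (List ℕ) := [[0, 3], [1, 2]]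

/-- The words for their longest elements. -/
def words : List (List ℕ) := [[0, 3], [1, 2, 1, 2]]

/-- The roots made negative by the two longest elements. -/
def flips : List (List ℕ) := [[33, 24], [27, 25, 28, 30]]

/-- The levels of the fixed Weyl group. -/
def levels : List (ℕ × List (List ℕ) × List ℕ) :=
  [(1, [[], [1], [0, 1], [1, 0, 1], [0, 1, 0, 1], [1, 0, 1, 0, 1], [0, 1, 0, 1, 0, 1],
      [1, 0, 1, 0, 1, 0, 1]], [0, 2, 3, 5, 6, 8, 9, 11]),
   (0, [[], [0]], [0, 1])]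

theorem chkRho : chkGraphMap chevF4 graphMapF4 [3, 2, 1, 0] = true := by decide +kernel

theorem chkO : F4Data.tab.chkOrbits (fun s => (mapAt graphMapF4 s).1) [3, 2, 1, 0] orbs words =
    true := by
  decide +kernel

theorem chkKer1 : F4Data.tab.chkKer 1
    [[2, 3, 2, 1], [3, 6, 4, 2], [4, 8, 6, 3], [2, 4, 3, 2]] = true := by
  decide +kernel

theorem chkLevels : F4Data.tab.chkChainT orbs words 2 (List.range 2) levels = true := by
  decide +kernel

theorem chkOrders : ∀ i j : Fin 2, F4Data.tab.chkOrder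
    (words.getD i [] ++ words.getD j []) (if i = j then 1 else 8) = true := by
  decide +kernel

theorem chkFlips : ∀ J : Fin 2, allBelow (fun s => decide
    ((24 ≤ s ∧ ¬ 24 ≤ F4Data.tab.wordT (words.getD J []) s) ↔ s ∈ flips.getD J [])) 48 = true := by
  decide +kernel

/-- A quadruple of roots spanning a subsystem of type `B₂`. -/
def chkQuad (a b c d : ℕ) : Bool :=
  decide (a < 48 ∧ b < 48 ∧ c < 48 ∧ d < 48) &&
    decide (mapAt graphMapF4 a = (b, 1, 2) ∧ mapAt graphMapF4 b = (a, 1, 1) ∧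
      mapAt graphMapF4 c = (d, 1, 2) ∧ mapAt graphMapF4 d = (c, 1, 1)) &&
    (F4Data.tab.chkCommute 2 c a && F4Data.tab.chkCommute 2 c b &&
      F4Data.tab.chkCommute 2 d a && F4Data.tab.chkCommute 2 d b && F4Data.tab.chkCommute 2 d c) &&
    !(Nat.beq b a) && !(Nat.beq b (negR chevF4 a)) &&
    match F4Data.tab.commT a b with
    | [p, p'] => decide (p.1 = c ∧ p.2.1.natAbs = 1 ∧ p.2.2.1 = 1 ∧ p.2.2.2 = 1 ∧
        p'.1 = d ∧ p'.2.1.natAbs = 1 ∧ p'.2.2.1 = 2 ∧ p'.2.2.2 = 1)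
    | _ => false

theorem quadPos : chkQuad 27 25 28 30 = true := by decide +kernel

theorem quadNeg : chkQuad 20 22 19 17 = true := by decide +kernel

theorem chkPairs : ∀ p ∈ [(33, 24), (33, 23), (14, 24), (14, 23), (24, 14), (23, 14), (24, 33),
    (23, 33)], F4Data.tab.chkCommute 2 p.1 p.2 = true := by
  decide +kernel

/-- The automorphism defining `²F₄(q)`. -/
structure Ctx (K : Type*) [Field K] [Fintype K] (m : ℕ) where
  hK : Fintype.card K = 2 ^ (2 * m + 1)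
  hp : ((2 : ℕ) : K) = 0
  /-- the automorphism -/
  Φ : good_F4.Graph K
  hπ : ∀ r, (Φ.π r).val = (mapAt graphMapF4 r.val).1
  hρ : ∀ i, (Φ.ρ i).val = ([3, 2, 1, 0] : List ℕ).getD i.val 0
  hf : ∀ r t, Φ.f r t =
    (((mapAt graphMapF4 r.val).2.1 : K) * t ^ (mapAt graphMapF4 r.val).2.2) ^ 2 ^ m

variable {K : Type*} [Field K] [Fintype K] {m : ℕ}

/-- The rank is not zero. -/
local instance neZeroRank : NeZero chevF4.rank := ⟨by decide⟩

theorem exists_ctx (hK : Fintype.card K = 2 ^ (2 * m + 1)) : Nonempty (Ctx K m) := by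
  have h0 : ((2 : ℕ) : K) = 0 := by
    have h := FiniteField.cast_card_eq_zero K
    rw [hK, Nat.cast_pow] at h
    exact eq_zero_of_pow_eq_zero h
  haveI : CharP K 2 := (CharP.charP_iff_prime_eq_zero Nat.prime_two).mpr h0
  haveI : ExpChar K 2 := ExpChar.prime Nat.prime_two
  obtain ⟨Φ, h1, h2, h3⟩ := good_F4.exists_graph (F := K) ⟨_, wits_F4⟩ (p := 2) h0
    (fun _ t u => add_pow_char t u 2) chkGraphF4 chkRho (iterateFrobenius K 2 m)
  exact ⟨⟨hK, h0, Φ, h1, h2, fun r t => by rw [h3, iterateFrobenius_def]⟩⟩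

/-- Half the numbers of roots made negative. -/
def kJ (J : ℕ) : ℕ := J + 1

theorem flips_card : ∀ J : Fin 2, ((Finset.univ : Finset (Fin chevF4.nroots)).filter
    fun s => s.val ∈ flips.getD J []).card = 2 * kJ J := by
  decide +kernel

namespace Ctx

variable (C : Ctx K m)
include C

theorem add_self (x : K) : x + x = 0 := by
  rw [← two_mul, show (2 : K) = ((2 : ℕ) : K) by norm_num, C.hp, zero_mul]

theorem neg_eq (x : K) : -x = x := neg_eq_of_add_eq_zero_left (C.add_self x)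

theorem one_of_natAbs {k : ℤ} (h : k.natAbs = 1) : (k : K) = 1 := by
  rcases Int.natAbs_eq k with e | e <;> rw [h] at e <;> rw [e] <;> simp [C.neg_eq]

theorem add_pow_e (x y : K) : (x + y) ^ 2 ^ m = x ^ 2 ^ m + y ^ 2 ^ m := by
  haveI : CharP K 2 := (CharP.charP_iff_prime_eq_zero Nat.prime_two).mpr C.hp
  haveI : ExpChar K 2 := ExpChar.prime Nat.prime_two
  exact add_pow_expChar_pow ..

theorem add_pow' (x y : K) : (x + y) ^ (2 * 2 ^ m) = x ^ (2 * 2 ^ m) + y ^ (2 * 2 ^ m) := by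
  haveI : CharP K 2 := (CharP.charP_iff_prime_eq_zero Nat.prime_two).mpr C.hp
  haveI : ExpChar K 2 := ExpChar.prime Nat.prime_two
  rw [← pow_succ']
  exact add_pow_expChar_pow ..

theorem pow_qq (x : K) : (x ^ (2 * 2 ^ m)) ^ 2 ^ m = x := by
  rw [← pow_mul, show 2 * 2 ^ m * 2 ^ m = 2 ^ (2 * m + 1) by ring,
    ← C.hK]
  exact FiniteField.pow_card x

theorem pow_qq' (x : K) : (x ^ 2 ^ m) ^ (2 * 2 ^ m) = x := by
  rw [← pow_mul, mul_comm, pow_mul]
  exact C.pow_qq x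

omit C in
theorem zero_pow_e : (0 : K) ^ 2 ^ m = 0 := zero_pow (by positivity)

omit C in
theorem zero_pow_e' : (0 : K) ^ (2 * 2 ^ m) = 0 := zero_pow (by positivity)

theorem commute_of {a b : ℕ} (h : F4Data.tab.chkCommute 2 a b = true) (v w : K) :
    Commute (good_F4.full.x a v) (good_F4.full.x b w) :=
  good_F4.x_commute C.hp h v w

theorem A_root {a b k : ℕ} (ha : a < 48) (h : mapAt graphMapF4 a = (b, 1, k)) (y : K) :
    C.Φ.A (good_F4.full.x a y) = good_F4.full.x b (y ^ (k * 2 ^ m)) := by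
  rw [show a = (⟨a, ha⟩ : Fin chevF4.nroots).val from rfl, C.Φ.A_x, C.hπ, C.hf, h]
  simp [pow_mul]

/-- An element of a `B₂` unipotent subgroup. -/
def P4 (_C : Ctx K m) (a b c d : ℕ) (y1 y2 y3 y4 : K) : GL chevF4.Idx K :=
  good_F4.full.x a y1 * good_F4.full.x b y2 * (good_F4.full.x c y3 * good_F4.full.x d y4)

section Quad

variable {a b c d : ℕ} (h : chkQuad a b c d = true)
include h

theorem quad_swap (p q : K) : good_F4.full.x b q * good_F4.full.x a p =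
    C.P4 a b c d p q (p * q) (p ^ 2 * q) := by
  simp only [chkQuad, Bool.and_eq_true, decide_eq_true_eq, Bool.not_eq_true'] at h
  obtain ⟨⟨⟨⟨⟨⟨ha, hb, -, -⟩, -⟩, -⟩, hne⟩, hne'⟩, hc⟩ := h
  have e := good_F4.full.x_comm (F := K) ha hb (fun e => by rw [e] at hne; simp at hne)
    (fun e => by rw [e] at hne'; simp at hne') p q
  rw [good_F4.full.cert.commWord_eq ha hb] at e
  revert hc
  rcases hcomm : F4Data.tab.commT a b with _ | ⟨p1, _ | ⟨p2, _ | ⟨p3, L⟩⟩⟩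
  · exact fun hc => Bool.noConfusion hc
  · exact fun hc => Bool.noConfusion hc
  swap
  · exact fun hc => Bool.noConfusion hc
  intro hc
  simp only [decide_eq_true_eq] at hc
  obtain ⟨h1, h2, h3, h4, h5, h6, h7, h8⟩ := hc
  rw [hcomm] at e
  simp only [rhsWord, List.map_cons, List.map_nil, List.prod_cons, List.prod_nil, mul_one, h1, h5,
    h3, h4, h7, h8, C.one_of_natAbs h2, C.one_of_natAbs h6, one_mul, C.neg_eq, pow_one] at e
  exact e

theorem quad_comm : (∀ v w, Commute (good_F4.full.x c v) (good_F4.full.x a (w : K))) ∧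
    (∀ v w, Commute (good_F4.full.x c v) (good_F4.full.x b (w : K))) ∧
    (∀ v w, Commute (good_F4.full.x d v) (good_F4.full.x a (w : K))) ∧
    (∀ v w, Commute (good_F4.full.x d v) (good_F4.full.x b (w : K))) ∧
    (∀ v w, Commute (good_F4.full.x d v) (good_F4.full.x c (w : K))) := by
  simp only [chkQuad, Bool.and_eq_true] at h
  obtain ⟨⟨⟨⟨-, ⟨⟨⟨⟨h1, h2⟩, h3⟩, h4⟩, h5⟩⟩, -⟩, -⟩, -⟩ := h
  exact ⟨C.commute_of h1, C.commute_of h2, C.commute_of h3, C.commute_of h4, C.commute_of h5⟩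

theorem P4_mul (y1 y2 y3 y4 z1 z2 z3 z4 : K) :
    C.P4 a b c d y1 y2 y3 y4 * C.P4 a b c d z1 z2 z3 z4 =
      C.P4 a b c d (y1 + z1) (y2 + z2) (z1 * y2 + (y3 + z3)) (z1 ^ 2 * y2 + (y4 + z4)) := by
  obtain ⟨hca, hcb, hda, hdb, hdc⟩ := C.quad_comm h
  have h1 : Commute (good_F4.full.x c y3 * good_F4.full.x d y4)
      (good_F4.full.x a z1 * good_F4.full.x b z2) :=
    Commute.mul_left ((hca _ _).mul_right (hcb _ _)) ((hda _ _).mul_right (hdb _ _))
  have h2 : Commute (good_F4.full.x c (z1 * y2) * good_F4.full.x d (z1 ^ 2 * y2))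
      (good_F4.full.x b z2) :=
    Commute.mul_left (hcb _ _) (hdb _ _)
  have hcd : ∀ p q r s : K, good_F4.full.x c p * good_F4.full.x d q *
      (good_F4.full.x c r * good_F4.full.x d s) =
      good_F4.full.x c (p + r) * good_F4.full.x d (q + s) := fun p q r s => by
    rw [(hdc q r).mul_mul_mul_comm, good_F4.full.x_add, good_F4.full.x_add]
  have hsw := C.quad_swap h z1 y2
  unfold P4 at hsw ⊢
  calc good_F4.full.x a y1 * good_F4.full.x b y2 * (good_F4.full.x c y3 * good_F4.full.x d y4) *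
        (good_F4.full.x a z1 * good_F4.full.x b z2 * (good_F4.full.x c z3 * good_F4.full.x d z4))
      = good_F4.full.x a y1 * good_F4.full.x b y2 *
          ((good_F4.full.x c y3 * good_F4.full.x d y4) *
            (good_F4.full.x a z1 * good_F4.full.x b z2)) *
          (good_F4.full.x c z3 * good_F4.full.x d z4) := by group
    _ = good_F4.full.x a y1 * (good_F4.full.x b y2 * good_F4.full.x a z1) * good_F4.full.x b z2 *
          ((good_F4.full.x c y3 * good_F4.full.x d y4) *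
            (good_F4.full.x c z3 * good_F4.full.x d z4)) := by rw [h1.eq]; group
    _ = good_F4.full.x a y1 * good_F4.full.x a z1 * good_F4.full.x b y2 *
          ((good_F4.full.x c (z1 * y2) * good_F4.full.x d (z1 ^ 2 * y2)) * good_F4.full.x b z2) *
          ((good_F4.full.x c y3 * good_F4.full.x d y4) *
            (good_F4.full.x c z3 * good_F4.full.x d z4)) := by rw [hsw]; group
    _ = good_F4.full.x a (y1 + z1) * good_F4.full.x b (y2 + z2) *
          ((good_F4.full.x c (z1 * y2) * good_F4.full.x d (z1 ^ 2 * y2)) *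
          ((good_F4.full.x c y3 * good_F4.full.x d y4) *
            (good_F4.full.x c z3 * good_F4.full.x d z4))) := by
          rw [h2.eq, ← good_F4.full.x_add, ← good_F4.full.x_add]; group
    _ = _ := by rw [hcd, hcd]

theorem A_P4 (y1 y2 y3 y4 : K) :
    C.Φ.A (C.P4 a b c d y1 y2 y3 y4) = C.P4 a b c d (y2 ^ 2 ^ m) (y1 ^ (2 * 2 ^ m))
      (y2 ^ 2 ^ m * y1 ^ (2 * 2 ^ m) + y4 ^ 2 ^ m)
      ((y2 ^ 2 ^ m) ^ 2 * y1 ^ (2 * 2 ^ m) + y3 ^ (2 * 2 ^ m)) := by
  have hsw := C.quad_swap h (y2 ^ 2 ^ m) (y1 ^ (2 * 2 ^ m))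
  obtain ⟨-, -, -, -, hdc⟩ := C.quad_comm h
  simp only [chkQuad, Bool.and_eq_true, decide_eq_true_eq] at h
  obtain ⟨⟨⟨⟨⟨⟨ha, hb, hc, hd⟩, m1, m2, m3, m4⟩, -⟩, -⟩, -⟩, -⟩ := h
  have g := fun r (v : K) => good_F4.x_mem_group (F := K) r v
  rw [P4, C.Φ.A_mul (mul_mem (g a y1) (g b y2)) (mul_mem (g c y3) (g d y4)),
    C.Φ.A_mul (g a y1) (g b y2), C.Φ.A_mul (g c y3) (g d y4), C.A_root ha m1, C.A_root hb m2,
    C.A_root hc m3, C.A_root hd m4, one_mul, hsw, (hdc _ _).eq]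
  unfold P4
  rw [mul_assoc _ (good_F4.full.x c _ * good_F4.full.x d _),
    (hdc _ _).mul_mul_mul_comm, good_F4.full.x_add, good_F4.full.x_add]

/-- The fixed elements of a `B₂` unipotent subgroup. -/
theorem quad_fixed (t u : K) :
    C.P4 a b c d (t ^ 2 ^ m) t (t ^ (2 ^ m + 1) + u) (u ^ (2 * 2 ^ m)) ∈ C.Φ.Fix := by
  refine ⟨?_, ?_⟩
  · exact mul_mem (mul_mem (good_F4.x_mem_group _ _) (good_F4.x_mem_group _ _))
      (mul_mem (good_F4.x_mem_group _ _) (good_F4.x_mem_group _ _))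
  rw [C.A_P4 h, C.pow_qq', C.pow_qq, C.add_pow', pow_succ t, mul_pow, C.pow_qq']
  congr 1
  rw [← pow_mul t, ← add_assoc, show t * t ^ (2 * 2 ^ m) = t ^ (2 * 2 ^ m) * t from
    mul_comm _ _, show 2 ^ m * 2 = 2 * 2 ^ m from mul_comm _ _, C.add_self, zero_add]

end Quad

/-- The generators of the pair orbit. -/
def U0 (_C : Ctx K m) (a b : ℕ) (t : K) : GL chevF4.Idx K :=
  good_F4.full.x a (t ^ 2 ^ m) * good_F4.full.x b t

/-- The generators of the `B₂` orbit. -/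
def U1 (C : Ctx K m) (a b c d : ℕ) (t u : K) : GL chevF4.Idx K :=
  C.P4 a b c d (t ^ 2 ^ m) t (t ^ (2 ^ m + 1) + u) (u ^ (2 * 2 ^ m))

theorem A_pair {a b : ℕ} (hlt : a < 48 ∧ b < 48)
    (hm : mapAt graphMapF4 a = (b, 1, 2) ∧ mapAt graphMapF4 b = (a, 1, 1))
    (hc : F4Data.tab.chkCommute 2 b a = true) (y1 y2 : K) :
    C.Φ.A (good_F4.full.x a y1 * good_F4.full.x b y2) =
      good_F4.full.x a (y2 ^ 2 ^ m) * good_F4.full.x b (y1 ^ (2 * 2 ^ m)) := by
  rw [C.Φ.A_mul (good_F4.x_mem_group _ _) (good_F4.x_mem_group _ _), C.A_root hlt.1 hm.1,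
    C.A_root hlt.2 hm.2, one_mul, (C.commute_of hc _ _).eq]

theorem pair_fixed {a b : ℕ} (hlt : a < 48 ∧ b < 48)
    (hm : mapAt graphMapF4 a = (b, 1, 2) ∧ mapAt graphMapF4 b = (a, 1, 1))
    (hc : F4Data.tab.chkCommute 2 b a = true) (t : K) : C.U0 a b t ∈ C.Φ.Fix := by
  refine ⟨mul_mem (good_F4.x_mem_group _ _) (good_F4.x_mem_group _ _), ?_⟩
  rw [U0, C.A_pair hlt hm hc, C.pow_qq']

/-- The positive generators of the orbits. -/
def U (C : Ctx K m) : ℕ → K → K → GL chevF4.Idx K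
  | 0, t, _ => C.U0 33 24 t
  | _, t, u => C.U1 27 25 28 30 t u

theorem spec : good_F4.TwSpec C.Φ orbs words :=
  Good.twSpec C.Φ C.hπ C.hρ chkO

theorem flip_word (J : Fin orbs.length) :
    flipSet (good_F4.full.pw (toFins chevF4.rank (words.getD J []))) =
      {r | r ∈ flips.getD J []} := by
  have hchk := chkFlips J
  simp only [allBelow_iff, decide_eq_true_eq] at hchk
  have hlt : ∀ r ∈ flips.getD J [], r < 48 := by revert J; decide +kernel
  ext s
  constructor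
  · rintro ⟨hs, h1, h2⟩
    refine (hchk s hs).mp ⟨?_, fun h => h2 ⟨Fin.isLt _, ?_⟩⟩
    · have := h1.2
      change 48 ≤ 2 * s at this
      omega
    · rw [good_F4.pw_apply, C.spec.map_word]
      show 48 ≤ 2 * F4Data.tab.wordT (words.getD J []) s
      omega
  · intro hs
    have hs' := hlt s hs
    obtain ⟨h1, h2⟩ := (hchk s hs').mpr hs
    refine ⟨hs', ⟨hs', show 48 ≤ 2 * s by omega⟩, fun h => h2 ?_⟩
    have h3 := h.2
    rw [good_F4.pw_apply, C.spec.map_word] at h3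
    change 48 ≤ 2 * F4Data.tab.wordT (words.getD J []) s at h3
    omega

theorem closed_flips (J : Fin orbs.length) : F4Data.tab.Closed {r | r ∈ flips.getD J []} := by
  rw [← C.flip_word J]
  exact good_F4.closed_flip _

theorem pair_form {g : GL chevF4.Idx K} (hg : g ∈ good_F4.US K {r | r ∈ [33, 24]}) :
    ∃ y1 y2, g = good_F4.full.x 33 y1 * good_F4.full.x 24 y2 := by
  induction hg using Subgroup.closure_induction with
  | mem u hu =>
    obtain ⟨r, hr, y, rfl⟩ := hu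
    simp only [Set.mem_setOf_eq, List.mem_cons, List.not_mem_nil, or_false] at hr
    rcases hr with rfl | rfl
    · exact ⟨y, 0, by simp [good_F4.full.x_zero]⟩
    · exact ⟨0, y, by simp [good_F4.full.x_zero]⟩
  | one => exact ⟨0, 0, by simp [good_F4.full.x_zero]⟩
  | mul a b _ _ iha ihb =>
    obtain ⟨a1, a2, rfl⟩ := iha
    obtain ⟨b1, b2, rfl⟩ := ihb
    refine ⟨a1 + b1, a2 + b2, ?_⟩
    rw [(C.commute_of (chkPairs (24, 33) (by decide)) a2 b1).mul_mul_mul_comm, good_F4.full.x_add,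
      good_F4.full.x_add]
  | inv a _ iha =>
    obtain ⟨a1, a2, rfl⟩ := iha
    refine ⟨-a1, -a2, ?_⟩
    rw [_root_.mul_inv_rev, good_F4.full.x_inv, good_F4.full.x_inv,
      (C.commute_of (chkPairs (24, 33) (by decide)) _ _).eq]

theorem quad_form {g : GL chevF4.Idx K} (hg : g ∈ good_F4.US K {r | r ∈ [27, 25, 28, 30]}) :
    ∃ y1 y2 y3 y4, g = C.P4 27 25 28 30 y1 y2 y3 y4 := by
  induction hg using Subgroup.closure_induction with
  | mem u hu =>
    obtain ⟨r, hr, y, rfl⟩ := hu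
    simp only [Set.mem_setOf_eq, List.mem_cons, List.not_mem_nil, or_false] at hr
    rcases hr with rfl | rfl | rfl | rfl
    · exact ⟨y, 0, 0, 0, by simp [P4, good_F4.full.x_zero]⟩
    · exact ⟨0, y, 0, 0, by simp [P4, good_F4.full.x_zero]⟩
    · exact ⟨0, 0, y, 0, by simp [P4, good_F4.full.x_zero]⟩
    · exact ⟨0, 0, 0, y, by simp [P4, good_F4.full.x_zero]⟩
  | one => exact ⟨0, 0, 0, 0, by simp [P4, good_F4.full.x_zero]⟩
  | mul a b _ _ iha ihb =>
    obtain ⟨a1, a2, a3, a4, rfl⟩ := iha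
    obtain ⟨b1, b2, b3, b4, rfl⟩ := ihb
    exact ⟨_, _, _, _, C.P4_mul quadPos ..⟩
  | inv a _ iha =>
    obtain ⟨a1, a2, a3, a4, rfl⟩ := iha
    refine ⟨a1, a2, a1 * a2 + a3, a1 ^ 2 * a2 + a4, inv_eq_of_mul_eq_one_right ?_⟩
    rw [C.P4_mul quadPos]
    simp only [P4]
    rw [C.add_self, C.add_self, ← add_assoc a3 (a1 * a2), add_comm a3 (a1 * a2), ← add_assoc,
      ← add_assoc, C.add_self, zero_add, C.add_self, ← add_assoc a4 (a1 ^ 2 * a2),
      add_comm a4 (a1 ^ 2 * a2), ← add_assoc, ← add_assoc, C.add_self, zero_add, C.add_self]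
    simp [good_F4.full.x_zero]

theorem pair_mem_US (y1 y2 : K) :
    good_F4.full.x 33 y1 * good_F4.full.x 24 y2 ∈ good_F4.US K {r | r ∈ [33, 24]} :=
  mul_mem (good_F4.x_mem_US (by simp) _) (good_F4.x_mem_US (by simp) _)

theorem quad_mem_US (y1 y2 y3 y4 : K) :
    C.P4 27 25 28 30 y1 y2 y3 y4 ∈ good_F4.US K {r | r ∈ [27, 25, 28, 30]} :=
  mul_mem (mul_mem (good_F4.x_mem_US (by simp) _) (good_F4.x_mem_US (by simp) _))
    (mul_mem (good_F4.x_mem_US (by simp) _) (good_F4.x_mem_US (by simp) _))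

omit C in
theorem card_list_set (l : List ℕ) (hl : l.Nodup) : Nat.card {r | r ∈ l} = l.length := by
  rw [← List.toFinset_card_of_nodup hl, ← Nat.card_eq_finsetCard]
  exact Nat.card_congr (Equiv.subtypeEquivRight fun r => by simp)

theorem pair_inj {y1 y2 z1 z2 : K}
    (h : good_F4.full.x 33 y1 * good_F4.full.x 24 y2 =
      good_F4.full.x 33 z1 * good_F4.full.x 24 z2) : y1 = z1 ∧ y2 = z2 := by
  let f : K × K → good_F4.US K {r | r ∈ [33, 24]} := fun p => ⟨_, C.pair_mem_US p.1 p.2⟩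
  have hs : Function.Surjective f := fun ⟨g, hg⟩ => by
    obtain ⟨a, b, e⟩ := C.pair_form hg
    exact ⟨(a, b), Subtype.ext e.symm⟩
  have hc : Nat.card (K × K) = Nat.card (good_F4.US K {r | r ∈ [33, 24]}) := by
    rw [good_F4.card_US (show F4Data.tab.Closed {r | r ∈ [33, 24]} from C.closed_flips (0 : Fin 2)), card_list_set _ (by decide), Nat.card_prod]
    simp [pow_two]
  have := ((Nat.bijective_iff_surjective_and_card f).mpr ⟨hs, hc⟩).1
    (a₁ := (y1, y2)) (a₂ := (z1, z2)) (Subtype.ext h)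
  simpa using this

theorem quad_inj {y1 y2 y3 y4 z1 z2 z3 z4 : K}
    (h : C.P4 27 25 28 30 y1 y2 y3 y4 = C.P4 27 25 28 30 z1 z2 z3 z4) :
    y1 = z1 ∧ y2 = z2 ∧ y3 = z3 ∧ y4 = z4 := by
  let f : K × K × K × K → good_F4.US K {r | r ∈ [27, 25, 28, 30]} := fun p =>
    ⟨_, C.quad_mem_US p.1 p.2.1 p.2.2.1 p.2.2.2⟩
  have hs : Function.Surjective f := fun ⟨g, hg⟩ => by
    obtain ⟨a, b, c, d, e⟩ := C.quad_form hg
    exact ⟨(a, b, c, d), Subtype.ext e.symm⟩
  have hc : Nat.card (K × K × K × K) =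
      Nat.card (good_F4.US K {r | r ∈ [27, 25, 28, 30]}) := by
    rw [good_F4.card_US
      (show F4Data.tab.Closed {r | r ∈ [27, 25, 28, 30]} from C.closed_flips (1 : Fin 2)), card_list_set _ (by decide)]
    simp only [Nat.card_prod, List.length_cons, List.length_nil]
    ring
  have := ((Nat.bijective_iff_surjective_and_card f).mpr ⟨hs, hc⟩).1
    (a₁ := (y1, y2, y3, y4)) (a₂ := (z1, z2, z3, z4)) (Subtype.ext h)
  simpa using this

theorem fix_inf (J : Fin orbs.length) {g : GL chevF4.Idx K} :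
    g ∈ C.Φ.Fix ⊓ good_F4.US K {r | r ∈ flips.getD J []} ↔ ∃ t u, g = C.U J t u := by
  revert J
  refine fun J : Fin 2 => ?_
  fin_cases J
  · constructor
    · rintro h
      obtain ⟨hfix, hg⟩ := Subgroup.mem_inf.mp h
      obtain ⟨y1, y2, rfl⟩ := C.pair_form hg
      obtain ⟨e1, -⟩ := C.pair_inj ((C.A_pair (by decide) (by decide +kernel)
        (chkPairs (24, 33) (by decide)) y1 y2).symm.trans hfix.2)
      exact ⟨y2, 0, by rw [← e1]; rfl⟩
    · rintro ⟨t, u, rfl⟩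
      exact Subgroup.mem_inf.mpr ⟨C.pair_fixed (by decide) (by decide +kernel)
        (chkPairs (24, 33) (by decide)) t, C.pair_mem_US _ _⟩
  · constructor
    · rintro h
      obtain ⟨hfix, hg⟩ := Subgroup.mem_inf.mp h
      obtain ⟨y1, y2, y3, y4, rfl⟩ := C.quad_form hg
      obtain ⟨e1, e2, e3, -⟩ := C.quad_inj ((C.A_P4 quadPos y1 y2 y3 y4).symm.trans hfix.2)
      refine ⟨y2, y4 ^ 2 ^ m, ?_⟩
      show _ = C.P4 _ _ _ _ _ _ _ _
      rw [← e3, e2, ← e1, pow_succ y2, ← pow_mul y4, mul_comm (2 ^ m) (2 * 2 ^ m), pow_mul y4,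
        C.pow_qq]
    · rintro ⟨t, u, rfl⟩
      exact Subgroup.mem_inf.mpr ⟨C.quad_fixed quadPos t u, C.quad_mem_US _ _ _ _⟩

/-- The group. -/
abbrev grp (_C : Ctx K m) : Subgroup (GL chevF4.Idx K) := twistedF4 K (2 ^ m)

/-- The negative generators. -/
def V (C : Ctx K m) : ℕ → K → K → GL chevF4.Idx K
  | 0, t, _ => C.U0 14 23 t
  | _, t, u => C.U1 20 22 19 17 t u

theorem U_mem (J : ℕ) (t u : K) : C.U J t u ∈ C.grp := by
  rcases J with _ | J
  · refine Subgroup.subset_closure ⟨_, Or.inl ⟨t, Or.inl rfl⟩, ?_⟩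
    rw [← good_F4.full.coe_word]
    exact congrArg Units.val (by simp [U, U0, f4PairWord, f4p1, f4p4])
  · refine Subgroup.subset_closure ⟨_, Or.inr ⟨t, u, Or.inl rfl⟩, ?_⟩
    rw [← good_F4.full.coe_word]
    exact congrArg Units.val
      (by simp [U, U1, P4, b2ClassWord, f4a, f4b, f4ab, f4aab, mul_assoc])

theorem V_mem (J : ℕ) (t u : K) : C.V J t u ∈ C.grp := by
  rcases J with _ | J
  · refine Subgroup.subset_closure ⟨_, Or.inl ⟨t, Or.inr rfl⟩, ?_⟩
    rw [← good_F4.full.coe_word]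
    exact congrArg Units.val (by simp [V, U0, f4PairWord, f4m1, f4m4])
  · refine Subgroup.subset_closure ⟨_, Or.inr ⟨t, u, Or.inr rfl⟩, ?_⟩
    rw [← good_F4.full.coe_word]
    exact congrArg Units.val
      (by simp [V, U1, P4, b2ClassWord, f4ma, f4mb, f4mab, f4maab, mul_assoc])


theorem V_fix (J : ℕ) (t u : K) : C.V J t u ∈ C.Φ.Fix := by
  rcases J with _ | J
  · exact C.pair_fixed (by decide) (by decide +kernel) (chkPairs (23, 14) (by decide)) t
  · exact C.quad_fixed quadNeg t u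

theorem mem_cases {g : GL chevF4.Idx K} {w : List (ℕ × K)} (hw : w ∈ f4Words K (2 ^ m))
    (hg : (g : Matrix chevF4.Idx chevF4.Idx K) = chevF4.wordMat K w) :
    ∃ (J : Fin orbs.length) (t u : K), g = C.U J t u ∨ g = C.V J t u := by
  have e : g = (w.map fun p => good_F4.full.x p.1 p.2).prod :=
    Units.ext (hg.trans (good_F4.full.coe_word w).symm)
  rcases hw with ⟨t, rfl | rfl⟩ | ⟨t, u, rfl | rfl⟩
  · exact ⟨(0 : Fin 2), t, 0, Or.inl (e.trans (by simp [U, U0, f4PairWord, f4p1, f4p4]))⟩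
  · exact ⟨(0 : Fin 2), t, 0, Or.inr (e.trans (by simp [V, U0, f4PairWord, f4m1, f4m4]))⟩
  · exact ⟨(1 : Fin 2), t, u,
      Or.inl (e.trans (by simp [U, U1, P4, b2ClassWord, f4a, f4b, f4ab, f4aab, mul_assoc]))⟩
  · exact ⟨(1 : Fin 2), t, u,
      Or.inr (e.trans (by simp [V, U1, P4, b2ClassWord, f4ma, f4mb, f4mab, f4maab, mul_assoc]))⟩

theorem grp_le_fix : C.grp ≤ C.Φ.Fix := by
  refine (Subgroup.closure_le _).mpr ?_
  rintro g ⟨w, hw, hg⟩
  obtain ⟨J, t, u, rfl | rfl⟩ := C.mem_cases hw hg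
  · exact ((C.fix_inf J).mpr ⟨t, u, rfl⟩).1
  · exact C.V_fix J t u

theorem orbit (J : Fin orbs.length) :
    good_F4.Orbit C.Φ (toFins chevF4.rank (orbs.getD J []))
      (toFins chevF4.rank (words.getD J [])) :=
  ⟨C.spec.word_mem J, C.spec.orb_trans J, C.spec.flip J, C.spec.comm J, C.spec.invol J⟩

theorem V_mem_neg (J : Fin orbs.length) (t u : K) :
    ∃ v ∈ good_F4.US K (flipSet (good_F4.full.pw (toFins chevF4.rank (words.getD J [])))),
      C.V J t u = good_F4.full.nw K (toFins chevF4.rank (words.getD J [])) * v *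
        (good_F4.full.nw K (toFins chevF4.rank (words.getD J [])))⁻¹ := by
  refine (C.orbit J).exists_of_neg ?_
  rw [C.flip_word J]
  have h : ∀ J : Fin 2, ∀ r ∈ ([[14, 23], [20, 22, 19, 17]] : List (List ℕ)).getD J [],
      r < 48 ∧ negR chevF4 r ∈ flips.getD J [] := by decide +kernel
  have h' : ∀ r ∈ ([[14, 23], [20, 22, 19, 17]] : List (List ℕ)).getD J [], ∀ y : K,
      good_F4.full.x r y ∈ good_F4.US K {r | ∃ h : r < chevF4.nroots,
        (negF (D := chevF4) ⟨r, h⟩).val ∈ {r | r ∈ flips.getD J []}} :=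
    fun r hr y => good_F4.x_mem_US (S := {r | ∃ h : r < chevF4.nroots,
      (negF (D := chevF4) ⟨r, h⟩).val ∈ {r | r ∈ flips.getD J []}})
      ⟨(h J r hr).1, (h J r hr).2⟩ y
  revert J
  refine fun J : Fin 2 => ?_
  fin_cases J
  · intro h'
    exact mul_mem (h' 14 (by simp) _) (h' 23 (by simp) _)
  · intro h'
    exact mul_mem (mul_mem (h' 20 (by simp) _) (h' 22 (by simp) _))
      (mul_mem (h' 19 (by simp) _) (h' 17 (by simp) _))

theorem V_ne_one (J : Fin orbs.length) : ∃ t u, C.V J t u ≠ 1 := by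
  revert J
  refine fun J : Fin 2 => ?_
  fin_cases J
  · refine ⟨1, 0, fun h => ?_⟩
    simp only [V, U0, one_pow, mul_eq_one_iff_eq_inv, good_F4.full.x_inv] at h
    exact absurd (good_F4.x_inj_root (by decide) (by decide) one_ne_zero h) (by decide)
  · refine ⟨0, 1, fun h => ?_⟩
    simp only [V, U1, P4, zero_pow_e, zero_pow, ne_eq, Nat.add_eq_zero_iff, one_ne_zero, and_false,
      not_false_eq_true, zero_add, one_pow, good_F4.full.x_zero, one_mul, mul_eq_one_iff_eq_inv,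
      good_F4.full.x_inv] at h
    exact absurd (good_F4.x_inj_root (by decide) (by decide) one_ne_zero h) (by decide)

theorem gen_data : good_F4.GenData C.Φ orbs words C.grp where
  spec := C.spec
  le_fix := C.grp_le_fix
  X_le J g hg := by
    rw [C.flip_word J] at hg
    obtain ⟨t, u, rfl⟩ := (C.fix_inf J).mp hg
    exact C.U_mem _ t u
  neg_ne J := by
    obtain ⟨t, u, h⟩ := C.V_ne_one J
    exact ⟨_, C.V_mem J t u, h, C.V_mem_neg J t u⟩
  gen := by
    refine (Subgroup.closure_le _).mpr ?_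
    rintro g ⟨w, hw, hg⟩
    obtain ⟨J, t, u, rfl | rfl⟩ := C.mem_cases hw hg
    · refine Subgroup.subset_closure (Set.mem_iUnion.mpr ⟨J, Or.inl ?_⟩)
      rw [C.flip_word J]
      exact (C.fix_inf J).mpr ⟨t, u, rfl⟩
    · exact Subgroup.subset_closure
        (Set.mem_iUnion.mpr ⟨J, Or.inr ⟨C.V_fix J t u, C.V_mem_neg J t u⟩⟩)

/-- The parameters of the torus. -/
def cvec (_C : Ctx K m) : Kˣ × Kˣ →* (Fin chevF4.rank → Kˣ) :=
  let f : Kˣ × Kˣ →* (Fin 4 → Kˣ) :=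
    MonoidHom.mk' (fun p => ![p.1 ^ 2 ^ m, p.2 ^ 2 ^ m, p.2, p.1]) fun a b => by
      funext i; fin_cases i <;> simp [mul_pow]
  f

/-- The torus. -/
def h (C : Ctx K m) : Kˣ × Kˣ →* GL chevF4.Idx K := (F4Data.tab.hT K).comp C.cvec

theorem hT_inj {c : Fin chevF4.rank → Kˣ} (hc : F4Data.tab.hT K c = 1) : c = 1 := by
  simpa using good_F4.ker_pow (k := 1) chkKer1 hc

theorem h_inj : Function.Injective C.h := by
  rw [injective_iff_map_eq_one]
  intro p hp
  have e := C.hT_inj hp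
  exact Prod.ext (congrFun e (3 : Fin 4)) (congrFun e (2 : Fin 4))

theorem pow_q_units (v : Kˣ) : v ^ (2 * 2 ^ m * 2 ^ m) = v :=
  Units.ext (by rw [Units.val_pow_eq_pow_val, pow_mul, C.pow_qq])

theorem units_pow_qq' (v : Kˣ) : (v ^ 2 ^ m) ^ (2 * 2 ^ m) = v := by
  rw [← pow_mul, mul_comm, C.pow_q_units]

theorem σc_eq (c : Fin chevF4.rank → Kˣ) :
    C.Φ.σc c = (![c (3 : Fin 4) ^ 2 ^ m, c (2 : Fin 4) ^ 2 ^ m, c (1 : Fin 4) ^ (2 * 2 ^ m),
      c (0 : Fin 4) ^ (2 * 2 ^ m)] : Fin 4 → Kˣ) := by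
  have hm : ∀ i : Fin chevF4.rank, (mapAt graphMapF4 (chevF4.simple i)).2 =
      (1, [2, 2, 1, 1].getD i.val 0) := by decide +kernel
  have key : ∀ i : Fin chevF4.rank,
      C.Φ.σc c (C.Φ.ρ i) = c i ^ ([2, 2, 1, 1].getD i.val 0 * 2 ^ m) := by
    intro i
    show C.Φ.fU (C.Φ.ρ.symm (C.Φ.ρ i)) (c (C.Φ.ρ.symm (C.Φ.ρ i))) = _
    rw [Equiv.symm_apply_apply]
    refine Units.ext ?_
    show C.Φ.f (good_F4.full.simp' i) (c i) = _
    rw [C.hf, show (good_F4.full.simp' i : ℕ) = chevF4.simple i from rfl, hm]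
    simp [pow_mul]
  have h0 := key (0 : Fin 4)
  have h1 := key (1 : Fin 4)
  have h2 := key (2 : Fin 4)
  have h3 := key (3 : Fin 4)
  rw [show C.Φ.ρ (0 : Fin 4) = (3 : Fin 4) from Fin.ext (C.hρ (0 : Fin 4))] at h0
  rw [show C.Φ.ρ (1 : Fin 4) = (2 : Fin 4) from Fin.ext (C.hρ (1 : Fin 4))] at h1
  rw [show C.Φ.ρ (2 : Fin 4) = (1 : Fin 4) from Fin.ext (C.hρ (2 : Fin 4))] at h2
  rw [show C.Φ.ρ (3 : Fin 4) = (0 : Fin 4) from Fin.ext (C.hρ (3 : Fin 4))] at h3
  refine funext fun j : Fin 4 => ?_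
  fin_cases j
  · simpa using h3
  · simpa using h2
  · simpa using h1
  · simpa using h0

theorem mem_fix_diag {g : GL chevF4.Idx K} :
    g ∈ C.Φ.Fix ⊓ chevF4.diagonalSubgroup K ↔ g ∈ C.h.range := by
  rw [Subgroup.mem_inf, good_F4.full.diagonal_eq_range]
  constructor
  · rintro ⟨hfix, c, rfl⟩
    have e : C.Φ.σc c = c := by
      have h1 := hfix.2
      rw [C.Φ.A_hT] at h1
      have h2 : F4Data.tab.hT K (C.Φ.σc c * c⁻¹) = 1 := by
        rw [map_mul, map_inv, h1, mul_inv_cancel]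
      exact mul_inv_eq_one.mp (C.hT_inj h2)
    refine ⟨(c (3 : Fin 4), c (2 : Fin 4)), congrArg (F4Data.tab.hT K) ?_⟩
    have e' := (C.σc_eq c).symm.trans e
    refine funext fun i : Fin 4 => ?_
    fin_cases i
    · exact congrFun e' (0 : Fin 4)
    · exact congrFun e' (1 : Fin 4)
    · rfl
    · rfl
  · rintro ⟨p, rfl⟩
    refine ⟨⟨C.Φ.hT_mem_group _, ?_⟩, _, rfl⟩
    show C.Φ.A (F4Data.tab.hT K (C.cvec p)) = F4Data.tab.hT K (C.cvec p)
    rw [C.Φ.A_hT]
    refine congrArg (F4Data.tab.hT K) ((C.σc_eq _).trans (funext fun i : Fin 4 => ?_))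
    fin_cases i
    · rfl
    · rfl
    · exact C.units_pow_qq' p.2
    · exact C.units_pow_qq' p.1

theorem nr_pair (u : K) :
    good_F4.full.nr 33 (u ^ 2 ^ m) * good_F4.full.nr 24 u = C.U0 33 24 u * C.U0 14 23 u⁻¹ *
      C.U0 33 24 u := by
  have h33 : negR chevF4 33 = 14 := by decide +kernel
  have h24 : negR chevF4 24 = 23 := by decide +kernel
  simp only [U0, Full.nr, h33, h24, C.neg_eq, inv_pow]
  set a := good_F4.full.x 33 (u ^ 2 ^ m)
  set b := good_F4.full.x 14 (u ^ 2 ^ m)⁻¹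
  set c := good_F4.full.x 24 u
  set d := good_F4.full.x 23 u⁻¹
  have hac : Commute a c := C.commute_of (chkPairs (33, 24) (by decide)) _ _
  have had : Commute a d := C.commute_of (chkPairs (33, 23) (by decide)) _ _
  have hbc : Commute b c := C.commute_of (chkPairs (14, 24) (by decide)) _ _
  calc a * b * a * (c * d * c) = a * b * (a * c) * d * c := by simp only [mul_assoc]
    _ = a * (b * c) * (a * d) * c := by rw [hac.eq]; simp only [mul_assoc]
    _ = a * c * (b * d) * (a * c) := by rw [hbc.eq, had.eq]; simp only [mul_assoc]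

theorem h_pair (u : Kˣ) : C.h (u, 1) =
    good_F4.full.nr 33 ((u : K) ^ 2 ^ m) * good_F4.full.nr 24 (u : K) *
      (good_F4.full.nr 33 1 * good_F4.full.nr 24 1) := by
  have h33 : negR chevF4 33 = 14 := by decide +kernel
  have h24 : negR chevF4 24 = 23 := by decide +kernel
  have hcom : Commute (good_F4.full.nr 24 (u : K)) (good_F4.full.nr 33 (1 : K)) := by
    simp only [Full.nr, h33, h24]
    have hp : ∀ a ∈ [24, 23], ∀ b ∈ [33, 14], F4Data.tab.chkCommute 2 a b = true := by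
      decide +kernel
    refine Commute.mul_left (Commute.mul_left ?_ ?_) ?_ <;>
      refine Commute.mul_right (Commute.mul_right ?_ ?_) ?_ <;>
      exact C.commute_of (hp _ (by simp) _ (by simp)) _ _
  rw [mul_assoc, ← mul_assoc (good_F4.full.nr 24 (u : K)), hcom.eq, mul_assoc,
    ← mul_assoc (good_F4.full.nr 33 ((u : K) ^ 2 ^ m))]
  nth_rewrite 1 2 [← C.neg_eq (1 : K)]
  show _ = good_F4.full.hr 33 _ * good_F4.full.hr 24 _
  rw [good_F4.full.hr_eq_hT (by decide) (pow_ne_zero _ u.ne_zero),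
    good_F4.full.hr_eq_hT (by decide) u.ne_zero, ← map_mul]
  refine congrArg (F4Data.tab.hT K) (funext fun i : Fin 4 => ?_)
  have hcor : ∀ i : Fin 4, F4Data.tab.cor 33 i = (![1, 0, 0, 0] : Fin 4 → ℤ) i ∧
      F4Data.tab.cor 24 i = (![0, 0, 0, 1] : Fin 4 → ℤ) i := by decide +kernel
  show (![u ^ 2 ^ m, (1 : Kˣ) ^ 2 ^ m, 1, u] : Fin 4 → Kˣ) i =
    Units.mk0 _ _ ^ F4Data.tab.cor 33 (i : ℕ) *
    Units.mk0 _ _ ^ F4Data.tab.cor 24 (i : ℕ)
  rw [(hcor i).1, (hcor i).2]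
  refine Units.ext ?_
  fin_cases i <;> simp

theorem h_conj_nw (u : Kˣ) :
    good_F4.full.nw K (toFins chevF4.rank (words.getD 1 [])) * C.h (u, 1) *
      (good_F4.full.nw K (toFins chevF4.rank (words.getD 1 [])))⁻¹ =
      C.h (u, u ^ (2 * 2 ^ m + 2)) := by
  set L := toFins chevF4.rank (words.getD 1 [])
  set g := good_F4.full.nw K L
  have hσ : ∀ p ∈ [(33, 37), (14, 10), (24, 32), (23, 15)],
      F4Data.tab.wordT (words.getD 1 []) p.1 = p.2 ∧ p.1 < 48 := by decide +kernel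
  have hx : ∀ p ∈ [(33, 37), (14, 10), (24, 32), (23, 15)], ∀ y : K,
      g * good_F4.full.x p.1 y * g⁻¹ = good_F4.full.x p.2 y := by
    intro p hp y
    obtain ⟨hw, hlt⟩ := hσ p hp
    obtain ⟨ε, hε, he⟩ := good_F4.conj_x_sign (F := K) hlt L
    obtain ⟨d, hd⟩ := good_F4.rootAct_nw (F := K) L
    have e1 := (hd ⟨p.1, hlt⟩).2.2.2 1
    rw [he, mul_one] at e1
    have h1 := good_F4.x_inj (Fin.isLt _) e1
    have e2 := (hd ⟨p.1, hlt⟩).2.2.2 y
    have hε1 : ε = 1 := by rcases hε with e | e <;> simp [e, C.neg_eq]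
    have himg : ((good_F4.full.pw L) ⟨p.1, hlt⟩ : Fin chevF4.nroots).val = p.2 := by
      rw [good_F4.pw_apply,
        show L.map Fin.val = words.getD 1 [] from C.spec.map_word (1 : Fin 2)]
      exact hw
    rw [e2, ← h1, hε1, one_mul, himg]
  have hn : ∀ (r r' s s' : ℕ), negR chevF4 r = s → negR chevF4 r' = s' →
      (∀ y : K, g * good_F4.full.x r y * g⁻¹ = good_F4.full.x r' y) →
      (∀ y : K, g * good_F4.full.x s y * g⁻¹ = good_F4.full.x s' y) → ∀ t : K,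
      g * good_F4.full.nr r t * g⁻¹ = good_F4.full.nr r' t := by
    intro r r' s s' e e' h1 h2 t
    rw [Full.nr, Full.nr, e, e', ← h1, ← h2]
    group
  have n33 : ∀ t : K, g * good_F4.full.nr 33 t * g⁻¹ = good_F4.full.nr 37 t :=
    hn 33 37 14 10 (by decide +kernel) (by decide +kernel) (hx (33, 37) (by simp))
      (hx (14, 10) (by simp))
  have n24 : ∀ t : K, g * good_F4.full.nr 24 t * g⁻¹ = good_F4.full.nr 32 t :=
    hn 24 32 23 15 (by decide +kernel) (by decide +kernel) (hx (24, 32) (by simp))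
      (hx (23, 15) (by simp))
  rw [C.h_pair, show ∀ a b c d : GL chevF4.Idx K, g * (a * b * (c * d)) * g⁻¹ =
    g * a * g⁻¹ * (g * b * g⁻¹) * (g * c * g⁻¹ * (g * d * g⁻¹)) from fun a b c d => by group,
    n33, n24, n33, n24]
  have h37 : negR chevF4 37 = 10 := by decide +kernel
  have h32 : negR chevF4 32 = 15 := by decide +kernel
  have hpairs : ∀ a ∈ [32, 15], ∀ b ∈ [37, 10], F4Data.tab.chkCommute 2 a b = true := by
    decide +kernel
  have hcom : Commute (good_F4.full.nr 32 (u : K)) (good_F4.full.nr 37 (1 : K)) := by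
    simp only [Full.nr, h37, h32]
    refine Commute.mul_left (Commute.mul_left ?_ ?_) ?_ <;>
      refine Commute.mul_right (Commute.mul_right ?_ ?_) ?_ <;>
      exact C.commute_of (hpairs _ (by simp) _ (by simp)) _ _
  rw [mul_assoc, ← mul_assoc (good_F4.full.nr 32 (u : K)), hcom.eq, mul_assoc,
    ← mul_assoc (good_F4.full.nr 37 ((u : K) ^ 2 ^ m))]
  nth_rewrite 1 2 [← C.neg_eq (1 : K)]
  show good_F4.full.hr 37 _ * good_F4.full.hr 32 _ = _
  rw [good_F4.full.hr_eq_hT (by decide) (pow_ne_zero _ u.ne_zero),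
    good_F4.full.hr_eq_hT (by decide) u.ne_zero, ← map_mul]
  refine congrArg (F4Data.tab.hT K) (funext fun i : Fin 4 => ?_)
  have hcor : ∀ i : Fin 4, F4Data.tab.cor 37 i = ((![1, 2, 2, 0] : Fin 4 → ℕ) i : ℤ) ∧
      F4Data.tab.cor 32 i = ((![0, 1, 2, 1] : Fin 4 → ℕ) i : ℤ) := by decide +kernel
  show Units.mk0 _ _ ^ F4Data.tab.cor 37 (i : ℕ) *
    Units.mk0 _ _ ^ F4Data.tab.cor 32 (i : ℕ) = C.cvec (u, u ^ (2 * 2 ^ m + 2)) i
  rw [(hcor i).1, (hcor i).2, zpow_natCast, zpow_natCast,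
    show Units.mk0 ((u : K) ^ 2 ^ m) (pow_ne_zero _ u.ne_zero) = u ^ 2 ^ m from
      Units.ext (by simp), Units.mk0_val]
  fin_cases i
  · show (u ^ 2 ^ m) ^ 1 * u ^ 0 = u ^ 2 ^ m
    rw [pow_one, pow_zero, mul_one]
  · show (u ^ 2 ^ m) ^ 2 * u ^ 1 = (u ^ (2 * 2 ^ m + 2)) ^ 2 ^ m
    rw [pow_one, ← pow_mul, ← pow_mul, add_mul, pow_add, C.pow_q_units, mul_comm,
      mul_comm (2 ^ m) 2]
  · show (u ^ 2 ^ m) ^ 2 * u ^ 2 = u ^ (2 * 2 ^ m + 2)
    rw [← pow_mul, ← pow_add, mul_comm (2 ^ m) 2]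
  · show (u ^ 2 ^ m) ^ 0 * u ^ 1 = u
    rw [pow_one, pow_zero, one_mul]

theorem card_units : Nat.card Kˣ = 2 ^ (2 * m + 1) - 1 := by
  rw [units_card (d := 1) (q := 2 ^ (2 * m + 1)) (by rw [C.hK, pow_one]), pow_one]

theorem h_mem (p : Kˣ × Kˣ) : C.h p ∈ C.grp := by
  have hA : ∀ u : Kˣ, C.h (u, 1) ∈ C.grp := fun u => by
    rw [C.h_pair]
    refine mul_mem ?_ ?_
    · rw [C.nr_pair]
      exact mul_mem (mul_mem (C.U_mem 0 _ 0) (C.V_mem 0 _ 0)) (C.U_mem 0 _ 0)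
    · have := C.nr_pair 1
      rw [one_pow] at this
      rw [this]
      exact mul_mem (mul_mem (C.U_mem 0 _ 0) (C.V_mem 0 _ 0)) (C.U_mem 0 _ 0)
  have hB : ∀ s : Kˣ, C.h (1, s) ∈ C.grp := by
    intro s
    obtain ⟨u, hu⟩ : ∃ u : Kˣ, u ^ (2 * 2 ^ m + 2) = s := by
      refine ⟨s⁻¹ ^ (2 ^ m - 1), ?_⟩
      have h1 : (2 ^ m - 1) * (2 * 2 ^ m + 2) + 2 = 2 * 2 ^ m * 2 ^ m := by
        obtain ⟨k, hk⟩ : ∃ k, 2 ^ m = k + 1 :=
          ⟨2 ^ m - 1, by have := Nat.one_le_pow m 2 (by norm_num); omega⟩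
        rw [hk, Nat.add_sub_cancel]; ring
      have h2 := congrArg (s ^ ·) h1
      simp only [pow_add, C.pow_q_units] at h2
      rw [← pow_mul, inv_pow, inv_eq_iff_mul_eq_one, ← mul_left_inj s,
        one_mul, mul_assoc, ← pow_two]
      exact h2
    let n := C.gen_data.n (1 : Fin 2)
    have hd : (good_F4.full.nw K (toFins chevF4.rank (words.getD 1 [])))⁻¹ * n ∈
        chevF4.diagonalSubgroup K :=
      C.gen_data.act_diag (J := (1 : Fin 2)) (good_F4.nw_mem_monomial _) (C.gen_data.n_mono _)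
        (good_F4.rootAct_nw _) (C.gen_data.n_act _)
    have hcomm : ∀ d ∈ chevF4.diagonalSubgroup K, ∀ p, d * C.h p * d⁻¹ = C.h p := by
      intro d hd p
      rw [good_F4.full.diagonal_eq_range] at hd
      obtain ⟨c, rfl⟩ := hd
      show F4Data.tab.hT K c * F4Data.tab.hT K (C.cvec p) * _ = F4Data.tab.hT K (C.cvec p)
      rw [← map_mul, mul_comm c, map_mul, mul_inv_cancel_right]
    have key : n * C.h (u, 1) * n⁻¹ = C.h (u, u ^ (2 * 2 ^ m + 2)) := by
      conv_rhs => rw [← C.h_conj_nw, ← hcomm _ hd (u, 1)]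
      group
    rw [show ((1, s) : Kˣ × Kˣ) = (u, u ^ (2 * 2 ^ m + 2)) * (u, 1)⁻¹ by simp [hu], map_mul,
      map_inv, ← key]
    exact mul_mem (mul_mem (mul_mem (C.gen_data.n_mem _) (hA u)) (inv_mem (C.gen_data.n_mem _)))
      (inv_mem (hA u))
  rw [show p = (p.1, 1) * (1, p.2) by simp, map_mul]
  exact mul_mem (hA _) (hB _)


/-- The twisted group. -/
noncomputable def Z : Good.Twisted C.Φ :=
  C.gen_data.twisted fun g hg => by
    obtain ⟨p, rfl⟩ := C.mem_fix_diag.mp hg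
    exact C.h_mem p

theorem G1_eq : C.Z.G1 = C.grp := rfl

theorem flip_w (J : Fin C.Z.nJ) : flipSet (C.Z.w J) = {r | r ∈ flips.getD J []} := C.flip_word J

theorem mem_XJ {J : Fin C.Z.nJ} {g : GL chevF4.Idx K} :
    g ∈ C.Z.XJ J ↔ ∃ t u, g = C.U J t u := by
  rw [Good.Twisted.XJ, C.flip_w J]
  exact C.fix_inf J

theorem card_X (J : Fin C.Z.nJ) : Nat.card (C.Z.XJ J) = (2 ^ (2 * m + 1)) ^ kJ J := by
  revert J
  refine fun J : Fin 2 => ?_
  rw [← C.hK, ← Nat.card_eq_fintype_card]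
  fin_cases J
  · let f : K → C.Z.XJ (0 : Fin 2) := fun t => ⟨_, C.mem_XJ.mpr ⟨t, 0, rfl⟩⟩
    have hf : Function.Bijective f := by
      refine ⟨fun a b e => (C.pair_inj (congrArg Subtype.val e)).2, fun ⟨g, hg⟩ => ?_⟩
      obtain ⟨t, u, rfl⟩ := C.mem_XJ.mp hg
      exact ⟨t, Subtype.ext rfl⟩
    exact (Nat.card_eq_of_bijective f hf).symm.trans (pow_one _).symm
  · let f : K × K → C.Z.XJ (1 : Fin 2) := fun p => ⟨_, C.mem_XJ.mpr ⟨p.1, p.2, rfl⟩⟩
    have hf : Function.Bijective f := by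
      refine ⟨fun a b e => ?_, fun ⟨g, hg⟩ => ?_⟩
      · obtain ⟨-, h2, h3, -⟩ := C.quad_inj (congrArg Subtype.val e)
        rw [h2] at h3
        exact Prod.ext h2 (add_left_cancel h3)
      · obtain ⟨t, u, rfl⟩ := C.mem_XJ.mp hg
        exact ⟨(t, u), Subtype.ext rfl⟩
    refine (Nat.card_eq_of_bijective f hf).symm.trans ?_
    show Nat.card (K × K) = Nat.card K ^ 2
    rw [Nat.card_prod, pow_two]

theorem card_inv (J : Fin C.Z.nJ) : (invSet (C.Z.w J)).card = 2 * kJ J := by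
  revert J
  refine fun J : Fin 2 => ?_
  have e : invSet (C.Z.w J) = (Finset.univ : Finset (Fin chevF4.nroots)).filter
      fun s => s.val ∈ flips.getD J [] := by
    ext s
    rw [mem_inv, Finset.mem_filter]
    have hs : s.val ∈ flipSet (C.Z.w J) ↔ s.val ∈ flips.getD J [] := by rw [C.flip_w J]; rfl
    refine ⟨fun h => ⟨Finset.mem_univ _, hs.mp ⟨s.isLt, h.1, h.2⟩⟩, fun h => ?_⟩
    obtain ⟨_, h1, h2⟩ := hs.mpr h.2
    exact ⟨h1, h2⟩
  rw [e]
  exact flips_card J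

theorem xNontrivial : C.Z.XNontrivial := by
  show ∀ J : Fin 2, ∃ u ∈ C.Z.XJ J, u ≠ 1
  intro J
  fin_cases J
  · refine ⟨C.U 0 1 0, C.mem_XJ.mpr ⟨_, _, rfl⟩, fun h => ?_⟩
    have := C.pair_inj (z1 := 0) (z2 := 0) (h.trans (by simp [good_F4.full.x_zero]))
    exact one_ne_zero this.2
  · refine ⟨C.U 1 1 0, C.mem_XJ.mpr ⟨_, _, rfl⟩, fun h => ?_⟩
    have := C.quad_inj (z1 := 0) (z2 := 0) (z3 := 0) (z4 := 0)
      (h.trans (by simp [P4, good_F4.full.x_zero]))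
    exact one_ne_zero this.2.1

theorem card_U1 : Nat.card C.Z.U1 = (2 ^ (2 * m + 1)) ^ 12 :=
  C.Z.card_U1 two_pos C.card_inv C.card_X (N := 12) rfl

theorem H0_eq : C.Z.H0 = C.h.range := Subgroup.ext fun _ => C.mem_fix_diag

theorem card_torus : Nat.card C.Z.H0 = (2 ^ (2 * m + 1) - 1) ^ 2 := by
  rw [C.H0_eq, ← C.card_units, pow_two, ← Nat.card_prod]
  exact (Nat.card_congr (MonoidHom.ofInjective C.h_inj).toEquiv).symm

theorem hasData : C.Z.HasData orbs words :=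
  { length_eq := rfl
    orb_eq := fun _ i => mem_toFins i
    word_eq := C.spec.map_word
    word_mem := C.spec.word_mem }

theorem card_group : Nat.card C.Z.G1 = (2 ^ (2 * m + 1)) ^ 12 * (2 ^ (2 * m + 1) - 1) *
    ((2 ^ (2 * m + 1)) ^ 3 + 1) * ((2 ^ (2 * m + 1)) ^ 4 - 1) * ((2 ^ (2 * m + 1)) ^ 6 + 1) := by
  rw [C.Z.card_G1 two_pos C.card_inv C.card_X, C.card_U1, C.card_torus,
    show List.range C.Z.nJ = List.range 2 from rfl,
    C.Z.poly_chain C.hasData two_pos _ _ chkLevels]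
  simp only [levels, List.map_cons, List.map_nil, List.prod_cons, List.prod_nil, List.sum_cons,
    List.sum_nil]
  generalize hq : 2 ^ (2 * m + 1) = q
  obtain ⟨r, rfl⟩ : ∃ r, q = r + 1 :=
    ⟨q - 1, by have := Nat.one_le_pow (2 * m + 1) 2 (by norm_num); omega⟩
  zify [Nat.one_le_pow 4 (r + 1) (by omega)]
  push_cast
  ring

/-- The value of a character on the torus. -/
theorem h_conj_x {r : ℕ} (hr : r < chevF4.nroots) (p : Kˣ × Kˣ) (y : K) :
    C.h p * good_F4.full.x r y * (C.h p)⁻¹ =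
      good_F4.full.x r ((F4Data.tab.chi r (C.cvec p) : K) * y) := by
  show F4Data.tab.hT K (C.cvec p) * _ * (F4Data.tab.hT K (C.cvec p))⁻¹ = _
  rw [good_F4.full.hT_conj hr]

theorem chi_eq (r : ℕ) (p : Kˣ × Kˣ) :
    F4Data.tab.chi (F := K) r (C.cvec p) = (p.1 ^ 2 ^ m) ^ F4Data.tab.cart 0 r *
      (p.2 ^ 2 ^ m) ^ F4Data.tab.cart 1 r * p.2 ^ F4Data.tab.cart 2 r *
      p.1 ^ F4Data.tab.cart 3 r := by
  show ∏ j : Fin 4, (![p.1 ^ 2 ^ m, p.2 ^ 2 ^ m, p.2, p.1] : Fin 4 → Kˣ) j ^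
    F4Data.tab.cart j r = _
  rw [Fin.prod_univ_four]
  rfl

theorem conj_pair (p : Kˣ × Kˣ) (y1 y2 : K) :
    C.h p * (good_F4.full.x 33 y1 * good_F4.full.x 24 y2) * (C.h p)⁻¹ =
      good_F4.full.x 33 ((F4Data.tab.chi 33 (C.cvec p) : K) * y1) *
        good_F4.full.x 24 ((F4Data.tab.chi 24 (C.cvec p) : K) * y2) := by
  rw [← C.h_conj_x (r := 33) (by decide) p y1, ← C.h_conj_x (r := 24) (by decide) p y2]
  group

theorem conj_quad (p : Kˣ × Kˣ) (y1 y2 y3 y4 : K) :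
    C.h p * C.P4 27 25 28 30 y1 y2 y3 y4 * (C.h p)⁻¹ =
      C.P4 27 25 28 30 ((F4Data.tab.chi 27 (C.cvec p) : K) * y1)
        ((F4Data.tab.chi 25 (C.cvec p) : K) * y2) ((F4Data.tab.chi 28 (C.cvec p) : K) * y3)
        ((F4Data.tab.chi 30 (C.cvec p) : K) * y4) := by
  unfold P4
  rw [← C.h_conj_x (r := 27) (by decide) p y1, ← C.h_conj_x (r := 25) (by decide) p y2,
    ← C.h_conj_x (r := 28) (by decide) p y3, ← C.h_conj_x (r := 30) (by decide) p y4]
  group

theorem faithful : C.Z.Faithful := by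
  intro g hg hu
  rw [C.H0_eq] at hg
  obtain ⟨p, rfl⟩ := hg
  have h0 := hu (0 : Fin 2) (C.U 0 1 0) (C.mem_XJ.mpr ⟨_, _, rfl⟩)
  have h1 := hu (1 : Fin 2) (C.U 1 1 0) (C.mem_XJ.mpr ⟨_, _, rfl⟩)
  obtain ⟨a1, a2⟩ := C.pair_inj ((C.conj_pair p _ _).symm.trans h0)
  obtain ⟨b1, b2, -, -⟩ := C.quad_inj ((C.conj_quad p _ _ _ _).symm.trans h1)
  rw [one_pow, mul_one] at a1 b1
  rw [mul_one] at a2 b2
  show F4Data.tab.hT K (C.cvec p) = 1
  rw [good_F4.full.hT_eq_one_iff]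
  have key : ∀ j : Fin 4, F4Data.tab.chi (F := K) (chevF4.simple j) (C.cvec p) = 1 := by
    intro j
    fin_cases j
    exacts [Units.ext a1, Units.ext b1, Units.ext b2, Units.ext a2]
  exact fun j hj => key ⟨j, hj⟩

theorem hM (i j : Fin C.Z.nJ) :
    orderOf (C.Z.w i * C.Z.w j) = if i = j then 1 else 8 := by
  refine good_F4.orderOf_pw_mul _ _ ?_
  rw [show (C.Z.word i).map Fin.val = words.getD i [] from C.spec.map_word i,
    show (C.Z.word j).map Fin.val = words.getD j [] from C.spec.map_word j]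
  exact chkOrders i j

theorem connected : C.Z.Connected :=
  C.Z.connected_of C.hM (by
    show ∀ P : Fin 2 → Bool, (∃ a, P a = true) → (∃ b, P b = false) →
      ∃ a b : Fin 2, P a = true ∧ P b = false ∧ 2 < (if a = b then 1 else 8)
    rintro P ⟨a, ha⟩ ⟨b, hb⟩
    refine ⟨a, b, ha, hb, ?_⟩
    rw [if_neg (fun e => by rw [e, hb] at ha; exact Bool.noConfusion ha)]
    norm_num)

theorem exists_weyl : ∃ φ : (chevF4.monomialSubgroup K ⊓ C.Z.G1 : Subgroup (GL chevF4.Idx K)) →*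
      DihedralGroup 8, Function.Surjective φ ∧
    φ.ker = (chevF4.diagonalSubgroup K ⊓ C.Z.G1).subgroupOf
      (chevF4.monomialSubgroup K ⊓ C.Z.G1) := by
  set w0 := C.Z.w (0 : Fin 2)
  set w1 := C.Z.w (1 : Fin 2)
  have h2 : ∀ J : Fin 2, orderOf (C.Z.w J) = 2 := fun J => by
    refine orderOf_eq_prime (by rw [pow_two]; exact C.Z.invol J) fun e => ?_
    obtain ⟨s, hs⟩ := C.Z.invSet_w_nonempty J
    obtain ⟨h1, h2⟩ := mem_inv.mp hs
    rw [e] at h2
    exact h2 h1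
  have h8 : orderOf (w0 * w1) = 8 := (C.hM (0 : Fin 2) (1 : Fin 2)).trans (if_neg (show (0 : Fin 2) ≠ 1 by decide))
  have hne : w0 ≠ w1 := fun e => by
    have := C.Z.w_injective (J := (0 : Fin 2)) (J' := (1 : Fin 2)) e
    exact absurd (congrArg Fin.val this) (by decide)
  have hr : C.Z.wperm.range = Subgroup.closure {w0, w1} := by
    rw [C.Z.wperm_range]
    congr 1
    ext σ
    constructor
    · rintro ⟨J, rfl⟩
      revert J
      refine fun J : Fin 2 => ?_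
      fin_cases J <;> simp [w0, w1]
    · rintro (rfl | rfl)
      exacts [⟨(0 : Fin 2), rfl⟩, ⟨(1 : Fin 2), rfl⟩]
  let d := CfsgLib.Invol.dihedralHom w0 (w0 * w1) (CfsgLib.Invol.mul_self_eq_one (h2 0))
    (CfsgLib.Invol.conj_mul_inv (h2 0) (h2 1))
  have hdi : Function.Injective d := CfsgLib.Invol.dihedralHom_injective (h2 0) (h2 1) hne
  have hdr : d.range = Subgroup.closure {w0, w1} :=
    CfsgLib.Invol.dihedralHom_range (h2 0) (h2 1)
  let ψ : C.Z.wperm.range ≃* DihedralGroup 8 :=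
    ((MulEquiv.subgroupCongr (hr.trans hdr.symm)).trans (MonoidHom.ofInjective hdi).symm).trans
      (h8 ▸ MulEquiv.refl (DihedralGroup (orderOf (w0 * w1))))
  refine ⟨ψ.toMonoidHom.comp C.Z.wperm.rangeRestrict,
    ψ.surjective.comp C.Z.wperm.rangeRestrict_surjective, ?_⟩
  rw [← C.Z.wperm_ker]
  exact (MonoidHom.ker_mulEquiv_comp _ ψ).trans C.Z.wperm.ker_rangeRestrict

theorem XJ_le_commutator (hm : 1 ≤ m) (J : Fin C.Z.nJ) : C.Z.XJ J ≤ ⁅C.Z.G1, C.Z.G1⁆ := by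
  classical
  obtain ⟨l, hl⟩ := IsCyclic.exists_ofOrder_eq_natCard (α := Kˣ)
  rw [C.card_units] at hl
  have he2 : 2 ≤ 2 ^ m := Nat.le_self_pow (by omega) 2
  have hq : 2 * 2 ^ m * 2 ^ m = 2 ^ (2 * m + 1) := by ring
  have hne : ∀ k, 0 < k → k ≤ 2 ^ m + 2 → l ^ k ≠ 1 := fun k h0 hk h => by
    have := Nat.le_of_dvd h0 (orderOf_dvd_of_pow_eq_one h)
    have : 2 ^ m + 3 < 2 * 2 ^ m * 2 ^ m := by nlinarith
    omega
  have hcart : ∀ i : Fin 4, F4Data.tab.cart i 24 = (![0, 0, -1, 2] : Fin 4 → ℤ) i ∧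
      F4Data.tab.cart i 25 = (![0, -2, 2, -1] : Fin 4 → ℤ) i ∧
      F4Data.tab.cart i 28 = (![-1, 0, 1, -1] : Fin 4 → ℤ) i := by decide +kernel
  have c24 : (F4Data.tab.chi 24 (C.cvec (l, 1)) : K) + 1 ≠ 0 := by
    intro h
    have h' : F4Data.tab.chi (F := K) 24 (C.cvec (l, 1)) = 1 :=
      Units.ext ((add_eq_zero_iff_eq_neg.mp h).trans (C.neg_eq 1))
    have e0 := (hcart (0 : Fin 4)).1
    have e3 := (hcart (3 : Fin 4)).1
    simp only [Fin.val_zero, show ((3 : Fin 4) : ℕ) = 3 from rfl, Matrix.cons_val_zero,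
      show (![0, 0, -1, 2] : Fin 4 → ℤ) 3 = 2 from rfl] at e0 e3
    rw [C.chi_eq, e0, e3] at h'
    simp only [_root_.one_zpow, one_pow, _root_.zpow_zero, one_mul, mul_one] at h'
    exact hne 2 two_pos (by omega) (by rwa [← zpow_natCast])
  have c25 : (F4Data.tab.chi 25 (C.cvec (l, 1)) : K) + 1 ≠ 0 := by
    intro h
    have h' : F4Data.tab.chi (F := K) 25 (C.cvec (l, 1)) = 1 :=
      Units.ext ((add_eq_zero_iff_eq_neg.mp h).trans (C.neg_eq 1))
    have e0 := (hcart (0 : Fin 4)).2.1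
    have e3 := (hcart (3 : Fin 4)).2.1
    simp only [Fin.val_zero, show ((3 : Fin 4) : ℕ) = 3 from rfl, Matrix.cons_val_zero,
      show (![0, -2, 2, -1] : Fin 4 → ℤ) 3 = -1 from rfl] at e0 e3
    rw [C.chi_eq, e0, e3] at h'
    simp only [_root_.one_zpow, one_pow, _root_.zpow_zero, one_mul, mul_one, _root_.zpow_neg,
      _root_.zpow_one, inv_eq_one] at h'
    exact hne 1 one_pos (by omega) (by rwa [pow_one])
  have c28 : (F4Data.tab.chi 28 (C.cvec (l, 1)) : K) + 1 ≠ 0 := by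
    intro h
    have h' : F4Data.tab.chi (F := K) 28 (C.cvec (l, 1)) = 1 :=
      Units.ext ((add_eq_zero_iff_eq_neg.mp h).trans (C.neg_eq 1))
    have e0 := (hcart (0 : Fin 4)).2.2
    have e3 := (hcart (3 : Fin 4)).2.2
    simp only [Fin.val_zero, show ((3 : Fin 4) : ℕ) = 3 from rfl, Matrix.cons_val_zero,
      show (![-1, 0, 1, -1] : Fin 4 → ℤ) 3 = -1 from rfl] at e0 e3
    rw [C.chi_eq, e0, e3] at h'
    simp only [_root_.one_zpow, one_pow, mul_one, _root_.zpow_neg, _root_.zpow_one,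
      ← _root_.mul_inv_rev, inv_eq_one] at h'
    refine hne (2 ^ m + 1) (by omega) (by omega) ?_
    rw [pow_succ, mul_comm]
    exact h'
  set p : Kˣ × Kˣ := (l, 1)
  have hp : C.h p ∈ C.Z.G1 := C.h_mem p
  have hU : ∀ J t u, C.U J t u ∈ C.Z.G1 := C.U_mem
  have hin : ∀ (J : Fin orbs.length) (t u : K), C.h p * C.U J t u * (C.h p)⁻¹ ∈ C.Φ.Fix :=
    fun J t u => mul_mem (mul_mem (C.gen_data.le_fix hp) (C.gen_data.le_fix (hU J t u)))
      (inv_mem (C.gen_data.le_fix hp))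
  have comm : ∀ J t u, C.h p * C.U J t u * (C.h p)⁻¹ * (C.U J t u)⁻¹ ∈ ⁅C.Z.G1, C.Z.G1⁆ :=
    fun J t u => Subgroup.commutator_mem_commutator hp (hU J t u)
  revert J
  refine fun J : Fin 2 => ?_
  intro g hg
  obtain ⟨t, u, rfl⟩ := C.mem_XJ.mp hg
  fin_cases J
  · obtain ⟨s, hs⟩ : ∃ s, (F4Data.tab.chi 24 (C.cvec p) : K) * s = t + s :=
      ⟨t / ((F4Data.tab.chi 24 (C.cvec p) : K) + 1), by
        field_simp
        linear_combination -C.add_self t⟩
    have e := C.conj_pair p (s ^ 2 ^ m) s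
    obtain ⟨t', u', e'⟩ := (C.fix_inf (0 : Fin 2)).mp (Subgroup.mem_inf.mpr
      ⟨hin (0 : Fin 2) s 0, show C.h p * C.U 0 s 0 * _ ∈ _ by
        rw [show C.h p * C.U 0 s 0 * (C.h p)⁻¹ = _ from e]; exact C.pair_mem_US _ _⟩)
    obtain ⟨-, e2⟩ := C.pair_inj (e.symm.trans e')
    rw [hs] at e2
    have hmul : C.U 0 t u * C.U 0 s 0 = C.U 0 t' u' := by
      show C.U0 _ _ _ * C.U0 _ _ _ = C.U0 _ _ _
      rw [U0, U0, U0, (C.commute_of (chkPairs (24, 33) (by decide)) t _).mul_mul_mul_comm,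
        good_F4.full.x_add, good_F4.full.x_add, ← C.add_pow_e, e2]
    show C.U 0 t u ∈ _
    rw [show C.U 0 t u = C.h p * C.U 0 s 0 * (C.h p)⁻¹ * (C.U 0 s 0)⁻¹ by
      rw [show C.h p * C.U 0 s 0 * (C.h p)⁻¹ = C.U 0 t' u' from e', ← hmul, mul_inv_cancel_right]]
    exact comm _ _ _
  · have hmul : ∀ t w x : K, C.U 1 t w * C.U 1 0 x = C.U 1 t (w + x) := by
      intro t w x
      show C.U1 _ _ _ _ _ _ * C.U1 _ _ _ _ _ _ = C.U1 _ _ _ _ _ _
      simp only [U1, C.P4_mul quadPos, zero_pow_e, zero_pow, ne_eq, Nat.add_eq_zero_iff,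
        one_ne_zero, and_false, not_false_eq_true, zero_mul, zero_add, add_zero, C.add_pow',
        add_assoc, two_ne_zero]
    have hconj : ∀ t w : K, ∃ w', C.h p * C.U 1 t w * (C.h p)⁻¹ =
        C.U 1 ((F4Data.tab.chi 25 (C.cvec p) : K) * t) w' ∧
        (t = 0 → w' = (F4Data.tab.chi 28 (C.cvec p) : K) * w) := by
      intro t w
      have e := C.conj_quad p (t ^ 2 ^ m) t (t ^ (2 ^ m + 1) + w) (w ^ (2 * 2 ^ m))
      obtain ⟨t', w', e'⟩ := (C.fix_inf (1 : Fin 2)).mp (Subgroup.mem_inf.mpr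
        ⟨hin (1 : Fin 2) t w, show C.h p * C.U 1 t w * _ ∈ _ by
          rw [show C.h p * C.U 1 t w * (C.h p)⁻¹ = _ from e]; exact C.quad_mem_US _ _ _ _⟩)
      obtain ⟨-, e2, e3, -⟩ := C.quad_inj (e.symm.trans e')
      refine ⟨w', e'.trans (by rw [e2]; rfl), fun ht => ?_⟩
      subst ht
      rw [mul_zero] at e2
      rw [← e2] at e3
      simpa [zero_pow] using e3.symm
    have tails : ∀ w : K, C.U 1 0 w ∈ ⁅C.Z.G1, C.Z.G1⁆ := by
      intro w
      obtain ⟨x, hx⟩ : ∃ x, (F4Data.tab.chi 28 (C.cvec p) : K) * x = w + x :=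
        ⟨w / ((F4Data.tab.chi 28 (C.cvec p) : K) + 1), by
          field_simp
          linear_combination -C.add_self w⟩
      obtain ⟨w', e1, e2⟩ := hconj 0 x
      rw [mul_zero, e2 rfl, hx, ← hmul] at e1
      rw [show C.U 1 0 w = C.h p * C.U 1 0 x * (C.h p)⁻¹ * (C.U 1 0 x)⁻¹ by
        rw [e1, mul_inv_cancel_right]]
      exact comm _ _ _
    obtain ⟨s, hs⟩ : ∃ s, (F4Data.tab.chi 25 (C.cvec p) : K) * s = t + s :=
      ⟨t / ((F4Data.tab.chi 25 (C.cvec p) : K) + 1), by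
        field_simp
        linear_combination -C.add_self t⟩
    obtain ⟨w', e1, -⟩ := hconj s 0
    obtain ⟨t2, u2, e3⟩ := (C.fix_inf (1 : Fin 2)).mp (Subgroup.mem_inf.mpr
      (⟨mul_mem (hin (1 : Fin 2) s 0) (inv_mem (C.gen_data.le_fix (hU 1 s 0))),
        mul_mem (e1 ▸ C.quad_mem_US _ _ _ _) (inv_mem (C.quad_mem_US _ _ _ _))⟩ :
        C.h p * C.U 1 s 0 * (C.h p)⁻¹ * (C.U 1 s 0)⁻¹ ∈ C.Φ.Fix ∧ _))
    have e4 : C.U 1 t2 u2 * C.U 1 s 0 = C.U 1 (t + s) w' := by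
      rw [← hs, ← e1]
      exact (mul_inv_eq_iff_eq_mul.mp e3).symm
    have ht2 : t2 = t := by
      change C.U1 _ _ _ _ _ _ * C.U1 _ _ _ _ _ _ = C.U1 _ _ _ _ _ _ at e4
      rw [U1, U1, U1, C.P4_mul quadPos] at e4
      exact add_right_cancel (C.quad_inj e4).2.1
    show C.U 1 t u ∈ _
    rw [show C.U 1 t u = C.h p * C.U 1 s 0 * (C.h p)⁻¹ * (C.U 1 s 0)⁻¹ * C.U 1 0 (u2 + u) by
      rw [show C.h p * C.U 1 s 0 * (C.h p)⁻¹ * (C.U 1 s 0)⁻¹ = C.U 1 t2 u2 from e3, hmul, ← add_assoc,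
        C.add_self, zero_add, ht2]]
    exact mul_mem (comm _ _ _) (tails _)

theorem commutator_top (hm : 1 ≤ m) : commutator C.Z.G1 = ⊤ :=
  C.Z.commutator_top (C.XJ_le_commutator hm) fun J =>
    C.gen_data.n_mem_commutator J (C.XJ_le_commutator hm J)

theorem isSimple (hm : 1 ≤ m) : IsSimpleGroup C.Z.G1 ∧ ¬ IsMulCommutative C.Z.G1 :=
  C.Z.isSimple_G1 C.xNontrivial C.faithful C.connected (show 0 < orbs.length by decide)
    (C.commutator_top hm)

end Ctx

end CfsgLib.Chev.F4Tw
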