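import Cfsg.Agent.Chev.TwistedOut
import Cfsg.Agent.Chev.TwistedF4
import Cfsg.Agent.Chev.TorusInvol

/-!
The outer automorphisms of `²F₄(q)` are the field automorphisms.
-/

set_option autoImplicit false
set_option linter.style.haveILetI false
set_option linter.unusedSectionVars false

namespace CfsgLib.Chev.F4Tw

open Cfsg.Lie Matrix Tab
open scoped MatrixGroups

variable {K : Type*} [Field K] [Fintype K] {m : ℕ}

theorem negWord : ∀ s < 48,
    F4Data.tab.wordT [0, 3, 1, 2, 1, 2, 0, 3, 1, 2, 1, 2, 0, 3, 1, 2, 1, 2, 0, 3, 1, 2, 1, 2] s =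
      negR chevF4 s := by
  decide +kernel

theorem cartTab :
    (∀ i : Fin 4, F4Data.tab.cart i 24 = (![0, 0, -1, 2] : Fin 4 → ℤ) i ∧
      F4Data.tab.cart i 25 = (![0, -2, 2, -1] : Fin 4 → ℤ) i ∧
      F4Data.tab.cart i 28 = (![-1, 0, 1, -1] : Fin 4 → ℤ) i) ∧
    chevF4.simple 0 = 33 ∧ chevF4.simple 3 = 24 ∧
      F4Data.tab.cart 3 33 = 0 ∧ F4Data.tab.cart 0 24 = 0 := by
  decide +kernel

namespace Ctx

variable (C : Ctx K m)
include C

/-- The pair orbit. -/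
def K0 (C : Ctx K m) : Fin C.Z.nJ := ⟨0, show 0 < 2 by omega⟩

/-- The quadruple orbit. -/
def K1 (C : Ctx K m) : Fin C.Z.nJ := ⟨1, show 1 < 2 by omega⟩

theorem K_cases (J : Fin C.Z.nJ) : J = C.K0 ∨ J = C.K1 := by
  obtain ⟨j, hj⟩ := J
  have : j < 2 := hj
  rcases (by omega : j = 0 ∨ j = 1) with rfl | rfl
  exacts [Or.inl rfl, Or.inr rfl]

/-- A word for the longest element. -/
def w0 (C : Ctx K m) : List (Fin C.Z.nJ) :=
  [C.K0, C.K1, C.K0, C.K1, C.K0, C.K1, C.K0, C.K1]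

theorem w0_neg : C.Z.IsMinusOne C.w0 := by
  refine C.Z.isMinusOne_of_negF fun s => ?_
  refine Fin.ext ?_
  rw [Good.Twisted.pwT, good_F4.pw_apply]
  show F4Data.tab.wordT ((C.w0.flatMap fun J => toFins chevF4.rank (words.getD J.val [])).map
    Fin.val) s.val = negR chevF4 s.val
  rw [show (C.w0.flatMap fun J => toFins chevF4.rank (words.getD J.val [])).map Fin.val =
    [0, 3, 1, 2, 1, 2, 0, 3, 1, 2, 1, 2, 0, 3, 1, 2, 1, 2, 0, 3, 1, 2, 1, 2] from rfl]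
  exact negWord s.val s.isLt

theorem cell_unique_size (J : Fin C.Z.nJ) (L : List (Fin C.Z.nJ)) (hL : C.Z.Red L)
    (h : Nat.card (C.Z.UT L) = Nat.card (C.Z.UT [J])) : C.Z.pwT L = C.Z.pwT [J] := by
  set k : Fin C.Z.nJ → ℕ := fun J => kJ J.val with hk
  have hJ : C.Z.Red [J] :=
    Good.Twisted.Red.step (Z := C.Z) [] J Good.Twisted.Red.nil fun i _ => by
      rw [C.Z.pwT_nil]
      exact good_F4.pos_simp i
  have hq : 2 ≤ 2 ^ (2 * m + 1) := Nat.le_self_pow (by omega) 2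
  rw [C.Z.card_UT_prod C.card_X hL, C.Z.card_UT_prod C.card_X hJ] at h
  have hs : (L.map k).sum = k J := by
    have := Nat.pow_right_injective hq h
    simp only [List.map_cons, List.map_nil, List.sum_cons, List.sum_nil, add_zero] at this
    exact this
  have k0 : k C.K0 = 1 := rfl
  have k1 : k C.K1 = 2 := rfl
  rcases List.eq_nil_or_concat L with rfl | ⟨L', a, rfl⟩
  · simp only [List.map_nil, List.sum_nil] at hs
    rcases C.K_cases J with rfl | rfl <;> omega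
  rw [List.concat_eq_append] at hs hL ⊢
  simp only [List.map_append, List.sum_append, List.map_cons, List.map_nil, List.sum_cons,
    List.sum_nil, add_zero] at hs
  rcases List.eq_nil_or_concat L' with rfl | ⟨L'', b, rfl⟩
  · simp only [List.map_nil, List.sum_nil, zero_add] at hs
    rcases C.K_cases J with rfl | rfl <;> rcases C.K_cases a with rfl | rfl <;>
      first | rfl | omega
  · exfalso
    rw [List.concat_eq_append] at hs hL
    simp only [List.map_append, List.sum_append, List.map_cons, List.map_nil, List.sum_cons,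
      List.sum_nil, add_zero] at hs
    have hne : b ≠ a := fun e => by
      rw [e] at hL
      exact Good.Twisted.Red.no_repeat C.Z hL
    rcases C.K_cases J with rfl | rfl <;> rcases C.K_cases a with rfl | rfl <;>
      rcases C.K_cases b with rfl | rfl <;> first | exact absurd rfl hne | omega

theorem cell_fixed {α : MulAut C.Z.G1} (hα : C.Z.FixBoth C.w0 α) (J : Fin C.Z.nJ)
    (z : C.Z.G1) : C.Z.Cell [J] (α z : GL chevF4.Idx K) ↔ C.Z.Cell [J] (z : GL chevF4.Idx K) :=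
  C.Z.aut_cell_single hα C.xNontrivial (C.cell_unique_size J) z

theorem fieldStable : C.Z.FieldStable := by
  intro σ g hg
  have h : C.grp ≤ C.grp.comap (glMap chevF4 σ.toRingHom) := by
    refine (Subgroup.closure_le _).mpr ?_
    rintro g ⟨w, hw, hg⟩
    obtain ⟨J, t, u, rfl | rfl⟩ := C.mem_cases hw hg
    · rw [SetLike.mem_coe, Subgroup.mem_comap]
      have e : glMap chevF4 σ.toRingHom (C.U J t u) = C.U J (σ t) (σ u) := by
        rcases J with ⟨_ | j, hj⟩ <;>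
          simp [U, U0, U1, P4, good_F4.glMap_x, map_mul, map_pow, map_add]
      rw [e]
      exact C.U_mem _ _ _
    · rw [SetLike.mem_coe, Subgroup.mem_comap]
      have e : glMap chevF4 σ.toRingHom (C.V J t u) = C.V J (σ t) (σ u) := by
        rcases J with ⟨_ | j, hj⟩ <;>
          simp [V, U0, U1, P4, good_F4.glMap_x, map_mul, map_pow, map_add]
      rw [e]
      exact C.V_mem _ _ _
  exact h hg

/-! ### Coordinates -/

/-- The pair root group. -/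
noncomputable def eP (C : Ctx K m) (t : K) : C.Z.G1 := ⟨C.U 0 t 0, C.U_mem 0 t 0⟩

/-- The quadruple root group. -/
noncomputable def eQ (C : Ctx K m) (t u : K) : C.Z.G1 := ⟨C.U 1 t u, C.U_mem 1 t u⟩

/-- The torus. -/
noncomputable def eH (C : Ctx K m) (p : Kˣ × Kˣ) : C.Z.G1 := ⟨C.h p, C.h_mem p⟩

theorem eP_mem (t : K) : (C.eP t : GL chevF4.Idx K) ∈ C.Z.XJ C.K0 :=
  C.mem_XJ.mpr ⟨t, 0, rfl⟩

theorem eQ_mem (t u : K) : (C.eQ t u : GL chevF4.Idx K) ∈ C.Z.XJ C.K1 :=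
  C.mem_XJ.mpr ⟨t, u, rfl⟩

theorem eP_surj {z : C.Z.G1} (hz : (z : GL chevF4.Idx K) ∈ C.Z.XJ C.K0) : ∃ t, z = C.eP t := by
  obtain ⟨t, u, e⟩ := C.mem_XJ.mp hz
  exact ⟨t, Subtype.ext e⟩

theorem eQ_surj {z : C.Z.G1} (hz : (z : GL chevF4.Idx K) ∈ C.Z.XJ C.K1) :
    ∃ t u, z = C.eQ t u := by
  obtain ⟨t, u, e⟩ := C.mem_XJ.mp hz
  exact ⟨t, u, Subtype.ext e⟩

theorem eP_inj {t t' : K} (h : C.eP t = C.eP t') : t = t' :=
  (C.pair_inj (congrArg Subtype.val h)).2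

theorem eQ_inj {t u t' u' : K} (h : C.eQ t u = C.eQ t' u') : t = t' ∧ u = u' := by
  obtain ⟨-, h2, h3, -⟩ := C.quad_inj (congrArg Subtype.val h)
  rw [h2] at h3
  exact ⟨h2, add_left_cancel h3⟩

theorem eP_add (t s : K) : C.eP (t + s) = C.eP t * C.eP s := by
  refine Subtype.ext ?_
  rw [Subgroup.coe_mul]
  show C.U0 33 24 (t + s) = C.U0 33 24 t * C.U0 33 24 s
  rw [U0, U0, U0, (C.commute_of (chkPairs (24, 33) (by decide)) t _).mul_mul_mul_comm,
    good_F4.full.x_add, good_F4.full.x_add, ← C.add_pow_e]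

theorem eQ_mul (t u s v : K) :
    C.eQ t u * C.eQ s v = C.eQ (t + s) (u + v + t ^ 2 ^ m * s) := by
  -- the product is fixed, so two coordinates determine it
  obtain ⟨a, b, e⟩ := C.eQ_surj (z := C.eQ t u * C.eQ s v) (mul_mem (C.eQ_mem t u) (C.eQ_mem s v) :
    ((C.eQ t u * C.eQ s v : C.Z.G1) : GL chevF4.Idx K) ∈ C.Z.XJ C.K1)
  rw [e]
  have e' : C.U1 27 25 28 30 t u * C.U1 27 25 28 30 s v = C.U1 27 25 28 30 a b :=
    congrArg Subtype.val e
  rw [U1, U1, U1, C.P4_mul quadPos] at e'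
  obtain ⟨-, e2, e3, -⟩ := C.quad_inj e'
  refine congrArg₂ C.eQ e2.symm ?_
  rw [← e2, pow_succ, pow_succ, pow_succ, C.add_pow_e] at e3
  linear_combination -e3 - C.add_self (t ^ 2 ^ m * s)

theorem eQ_zero : C.eQ 0 0 = 1 := by
  refine Subtype.ext ?_
  show C.U1 27 25 28 30 0 0 = 1
  simp [U1, P4, good_F4.full.x_zero, zero_pow]

theorem eQ_sq (t u : K) : C.eQ t u * C.eQ t u = C.eQ 0 (t ^ (2 ^ m + 1)) := by
  rw [C.eQ_mul, C.add_self, C.add_self, zero_add, pow_succ]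

/-- The character on the pair. -/
def chP (_C : Ctx K m) (p : Kˣ × Kˣ) : Kˣ := p.2⁻¹ * p.1 ^ 2

/-- The character on the quotient of the quadruple. -/
def chQ (_C : Ctx K m) (p : Kˣ × Kˣ) : Kˣ :=
  (p.2 ^ 2 ^ m * p.2 ^ 2 ^ m)⁻¹ * p.2 ^ 2 * p.1⁻¹

/-- The character on the centre of the quadruple. -/
def chZ (_C : Ctx K m) (p : Kˣ × Kˣ) : Kˣ := p.2 * (p.1 ^ (2 ^ m + 1))⁻¹

theorem chi_vals' (p : Kˣ × Kˣ) :
    F4Data.tab.chi (F := K) 24 (C.cvec p) = C.chP p ∧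
    F4Data.tab.chi (F := K) 25 (C.cvec p) = C.chQ p ∧
    F4Data.tab.chi (F := K) 28 (C.cvec p) = C.chZ p := by
  have h0 := cartTab.1 (0 : Fin 4)
  have h1 := cartTab.1 (1 : Fin 4)
  have h2 := cartTab.1 (2 : Fin 4)
  have h3 := cartTab.1 (3 : Fin 4)
  simp only [show ((0 : Fin 4) : ℕ) = 0 from rfl, show ((1 : Fin 4) : ℕ) = 1 from rfl,
    show ((2 : Fin 4) : ℕ) = 2 from rfl, show ((3 : Fin 4) : ℕ) = 3 from rfl] at h0 h1 h2 h3
  refine ⟨?_, ?_, ?_⟩
  · rw [C.chi_eq, h0.1, h1.1, h2.1, h3.1]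
    simp [chP, zpow_ofNat]
  · rw [C.chi_eq, h0.2.1, h1.2.1, h2.2.1, h3.2.1]
    simp [chQ, zpow_ofNat, pow_two]
  · rw [C.chi_eq, h0.2.2, h1.2.2, h2.2.2, h3.2.2]
    simp [chZ, zpow_ofNat, pow_succ, mul_comm, mul_assoc, mul_left_comm]

theorem eH_eP (p : Kˣ × Kˣ) (t : K) :
    C.eH p * C.eP t * (C.eH p)⁻¹ = C.eP ((C.chP p : K) * t) := by
  obtain ⟨t', e⟩ := C.eP_surj (z := C.eH p * C.eP t * (C.eH p)⁻¹) (C.Z.H0_conj_US (S := flipSet (C.Z.w C.K0)) (fun s ⟨hs, _⟩ => hs)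
    (show C.h p ∈ C.Z.H0 by rw [C.H0_eq]; exact ⟨p, rfl⟩) (C.eP_mem t) :
    ((C.eH p * C.eP t * (C.eH p)⁻¹ : C.Z.G1) : GL chevF4.Idx K) ∈ C.Z.XJ C.K0)
  rw [e]
  obtain ⟨-, h⟩ := C.pair_inj ((C.conj_pair p _ _).symm.trans (congrArg Subtype.val e))
  rw [(C.chi_vals' p).1] at h
  rw [h]

theorem eH_eQ (p : Kˣ × Kˣ) (t u : K) : ∃ u',
    C.eH p * C.eQ t u * (C.eH p)⁻¹ = C.eQ ((C.chQ p : K) * t) u' ∧
      (C.chZ p : K) * (t ^ (2 ^ m + 1) + u) = ((C.chQ p : K) * t) ^ (2 ^ m + 1) + u' := by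
  obtain ⟨t', u', e⟩ := C.eQ_surj (z := C.eH p * C.eQ t u * (C.eH p)⁻¹) (C.Z.H0_conj_US (S := flipSet (C.Z.w C.K1))
    (fun s ⟨hs, _⟩ => hs) (show C.h p ∈ C.Z.H0 by rw [C.H0_eq]; exact ⟨p, rfl⟩) (C.eQ_mem t u) :
    ((C.eH p * C.eQ t u * (C.eH p)⁻¹ : C.Z.G1) : GL chevF4.Idx K) ∈ C.Z.XJ C.K1)
  obtain ⟨-, h2, h3, -⟩ := C.quad_inj ((C.conj_quad p _ _ _ _).symm.trans (congrArg Subtype.val e))
  rw [(C.chi_vals' p).2.1] at h2
  rw [(C.chi_vals' p).2.2, ← h2] at h3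
  exact ⟨u', by rw [e, ← h2], h3⟩

theorem eH_eZ (p : Kˣ × Kˣ) (u : K) :
    C.eH p * C.eQ 0 u * (C.eH p)⁻¹ = C.eQ 0 ((C.chZ p : K) * u) := by
  obtain ⟨u', e, h⟩ := C.eH_eQ p 0 u
  rw [mul_zero, zero_pow (Nat.succ_ne_zero _), zero_add, zero_add] at h
  rw [e, mul_zero, h]

theorem eH_surj {z : C.Z.G1} (hz : (z : GL chevF4.Idx K) ∈ C.Z.H0) : ∃ p, z = C.eH p := by
  rw [C.H0_eq] at hz
  obtain ⟨p, e⟩ := hz
  exact ⟨p, Subtype.ext e.symm⟩

theorem eH_mem (p : Kˣ × Kˣ) : (C.eH p : GL chevF4.Idx K) ∈ C.Z.H0 := by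
  rw [C.H0_eq]; exact ⟨p, rfl⟩

theorem eH_mul (p p' : Kˣ × Kˣ) : C.eH (p * p') = C.eH p * C.eH p' :=
  Subtype.ext (map_mul C.h p p')

/-! ### Exponents -/

theorem units_pow_e_inj {x : Kˣ} (h : x ^ 2 ^ m = x) : x = 1 := by
  have h1 : x ^ (2 * 2 ^ m * 2 ^ m) = x ^ 2 := by
    rw [pow_mul, mul_comm 2, pow_mul, h, ← pow_mul, mul_comm, pow_mul, h]
  rw [C.pow_q_units, pow_two, left_eq_mul] at h1
  exact h1

theorem units_pow_e1_inj {x : Kˣ} (h : x ^ (2 ^ m + 1) = 1) : x = 1 := by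
  rw [pow_succ, mul_eq_one_iff_eq_inv] at h
  have h1 : x ^ (2 * 2 ^ m * 2 ^ m) = x ^ 2 := by
    rw [pow_mul, mul_comm 2, pow_mul, h, inv_pow, inv_pow, ← pow_mul, mul_comm, pow_mul, h,
      inv_pow, inv_inv]
  rw [C.pow_q_units, pow_two, left_eq_mul] at h1
  exact h1

theorem exists_root_e1 (v : Kˣ) : ∃ x : Kˣ, x ^ (2 ^ m + 1) = v :=
  (Finite.injective_iff_surjective (f := powMonoidHom (α := Kˣ) (2 ^ m + 1))).mp
    ((injective_iff_map_eq_one _).mpr fun _ h => C.units_pow_e1_inj h) v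

theorem exists_torus (a b : Kˣ) : ∃ p : Kˣ × Kˣ, C.chP p = a ∧ C.chZ p = b := by
  let f : Kˣ →* Kˣ := powMonoidHom (2 ^ m) / MonoidHom.id Kˣ
  have hf : Function.Injective f := (injective_iff_map_eq_one _).mpr fun x h =>
    C.units_pow_e_inj (div_eq_one.mp h)
  obtain ⟨y, hy⟩ := Finite.injective_iff_surjective.mp hf (a * b)⁻¹
  change y ^ 2 ^ m / y = (a * b)⁻¹ at hy
  refine ⟨(y, y ^ 2 * a⁻¹), by simp [chP], ?_⟩
  show y ^ 2 * a⁻¹ * (y ^ (2 ^ m + 1))⁻¹ = b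
  have e : y ^ 2 ^ m = y * (a * b)⁻¹ := by rw [← hy, mul_div_cancel]
  rw [pow_succ y (2 ^ m), e, pow_two]
  simp only [mul_inv, inv_inv]
  calc y * y * a⁻¹ * (y⁻¹ * (a * b) * y⁻¹) = (y * y⁻¹) * (y * y⁻¹) * (a⁻¹ * a) * b := by ac_rfl
    _ = b := by simp

theorem exists_pow_ne (hm : 1 ≤ m) : ∃ x : K, x ^ 2 ^ m + x ≠ 0 := by
  classical
  obtain ⟨x, hx⟩ : ∃ x : Kˣ, x ≠ 1 := by
    obtain ⟨l, hl⟩ := IsCyclic.exists_ofOrder_eq_natCard (α := Kˣ)
    rw [C.card_units] at hl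
    refine ⟨l, fun e => ?_⟩
    rw [e, orderOf_one] at hl
    have : 2 ^ 2 ≤ 2 ^ (2 * m + 1) := Nat.pow_le_pow_right two_pos (by omega)
    omega
  refine ⟨x, fun h => hx (C.units_pow_e_inj (Units.ext ?_))⟩
  rw [Units.val_pow_eq_pow_val]
  exact (add_eq_zero_iff_eq_neg.mp h).trans (C.neg_eq _)

theorem chP_injective_pair {p p' : Kˣ × Kˣ} (h1 : C.chP p = C.chP p') (h2 : C.chZ p = C.chZ p') :
    p = p' := by
  have e : ∀ p : Kˣ × Kˣ, C.chP p * C.chZ p = p.1 / p.1 ^ 2 ^ m := fun p => by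
    simp only [chP, chZ, pow_succ _ (2 ^ m), pow_two, mul_inv, div_eq_mul_inv]
    calc p.2⁻¹ * (p.1 * p.1) * (p.2 * ((p.1 ^ 2 ^ m)⁻¹ * p.1⁻¹))
        = (p.2⁻¹ * p.2) * (p.1 * p.1⁻¹) * (p.1 * (p.1 ^ 2 ^ m)⁻¹) := by ac_rfl
      _ = _ := by simp
  have h := (e p).symm.trans ((congrArg₂ (· * ·) h1 h2).trans (e p'))
  have hy : p.1 / p'.1 = 1 := by
    refine C.units_pow_e_inj ?_
    rw [div_pow]
    rw [div_eq_div_iff_mul_eq_mul] at h ⊢
    exact (mul_comm _ _).trans h.symm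
  have h1' : p.1 = p'.1 := div_eq_one.mp hy
  refine Prod.ext h1' ?_
  rw [chP, chP, h1', mul_left_inj, _root_.inv_inj] at h1
  exact h1

/-- The torus element of the pair orbit commutator. -/
theorem comm_nP (p : Kˣ × Kˣ) :
    C.Z.nG C.K0 * C.eH p * (C.Z.nG C.K0)⁻¹ * (C.eH p)⁻¹ = C.eH ((C.chP p)⁻¹, 1) := by
  refine Subtype.ext ?_
  show C.gen_data.n (0 : Fin 2) * C.h p * (C.gen_data.n (0 : Fin 2))⁻¹ * (C.h p)⁻¹ =
    C.h ((C.chP p)⁻¹, 1)
  set L := toFins chevF4.rank (words.getD 0 [])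
  have hd : (good_F4.full.nw K L)⁻¹ * C.gen_data.n (0 : Fin 2) ∈ chevF4.diagonalSubgroup K :=
    C.gen_data.act_diag (J := (0 : Fin 2)) (good_F4.nw_mem_monomial _) (C.gen_data.n_mono _)
      (good_F4.rootAct_nw _) (C.gen_data.n_act _)
  rw [good_F4.full.diagonal_eq_range] at hd
  obtain ⟨d, hd⟩ := hd
  rw [show C.gen_data.n (0 : Fin 2) = good_F4.full.nw K L * F4Data.tab.hT K d by rw [hd]; group,
    show good_F4.full.nw K L * F4Data.tab.hT K d * C.h p *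
      (good_F4.full.nw K L * F4Data.tab.hT K d)⁻¹ = good_F4.full.nw K L *
      (F4Data.tab.hT K d * C.h p * (F4Data.tab.hT K d)⁻¹) * (good_F4.full.nw K L)⁻¹ by group]
  have hc : F4Data.tab.hT K d * C.h p * (F4Data.tab.hT K d)⁻¹ = C.h p := by
    show F4Data.tab.hT K d * F4Data.tab.hT K (C.cvec p) * _ = F4Data.tab.hT K (C.cvec p)
    rw [← map_mul, mul_comm d, map_mul, mul_inv_cancel_right]
  rw [hc]
  let i0 : Fin chevF4.rank := (0 : Fin 4)
  let i3 : Fin chevF4.rank := (3 : Fin 4)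
  have hL : good_F4.full.nw K L = good_F4.full.ns K i0 * good_F4.full.ns K i3 := by
    rw [show L = [i0, i3] from rfl]
    simp [Full.nw]
  have hchi : F4Data.tab.chi (F := K) (chevF4.simple i0) (C.cvec p) = C.chP p ^ 2 ^ m := by
    have hh : ∀ i : Fin 4, F4Data.tab.cart i 33 = (![2, -1, 0, 0] : Fin 4 → ℤ) i := by
      decide +kernel
    have h0 := hh (0 : Fin 4)
    have h1 := hh (1 : Fin 4)
    have h2 := hh (2 : Fin 4)
    have h3 := hh (3 : Fin 4)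
    simp only [show ((0 : Fin 4) : ℕ) = 0 from rfl, show ((1 : Fin 4) : ℕ) = 1 from rfl,
      show ((2 : Fin 4) : ℕ) = 2 from rfl, show ((3 : Fin 4) : ℕ) = 3 from rfl] at h0 h1 h2 h3
    rw [show chevF4.simple i0 = 33 from cartTab.2.1, C.chi_eq, h0, h1, h2, h3]
    simp [chP, zpow_ofNat, mul_pow, ← pow_mul, mul_comm]
  have hsingle : F4Data.tab.chi (F := K) (chevF4.simple i0)
      (Pi.mulSingle i3 (C.chP p)⁻¹ : Fin chevF4.rank → Kˣ) = 1 := by
    show ∏ j : Fin chevF4.rank, (Pi.mulSingle i3 (C.chP p)⁻¹ : Fin chevF4.rank → Kˣ) j ^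
      F4Data.tab.cart j (chevF4.simple i0) = 1
    refine Finset.prod_eq_one fun j _ => ?_
    rcases eq_or_ne j i3 with rfl | hj
    · rw [show chevF4.simple i0 = 33 from cartTab.2.1,
        show F4Data.tab.cart (i3 : ℕ) 33 = 0 from cartTab.2.2.2.1, _root_.zpow_zero]
    · rw [Pi.mulSingle_eq_of_ne hj, _root_.one_zpow]
  have e3 : F4Data.tab.chi (F := K) (chevF4.simple i3) (C.cvec p) = C.chP p := by
    rw [show chevF4.simple i3 = 24 from cartTab.2.2.1]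
    exact (C.chi_vals' p).1
  have e : good_F4.full.nw K L * F4Data.tab.hT K (C.cvec p) = F4Data.tab.hT K
      (C.cvec p * ((Pi.mulSingle i3 (C.chP p)⁻¹ : Fin chevF4.rank → Kˣ) *
        Pi.mulSingle i0 ((C.chP p)⁻¹ ^ 2 ^ m))) *
      good_F4.full.nw K L := by
    rw [hL, mul_assoc, good_F4.ns_hT_eq, e3, ← mul_assoc, good_F4.ns_hT_eq,
      (F4Data.tab.chi (F := K) (chevF4.simple i0)).map_mul, hchi,
      hsingle, mul_one, ← inv_pow, mul_assoc (C.cvec p), mul_assoc]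
  show good_F4.full.nw K L * F4Data.tab.hT K (C.cvec p) * _ * _ = _
  rw [e, mul_inv_cancel_right]
  show _ * (F4Data.tab.hT K (C.cvec p))⁻¹ = F4Data.tab.hT K (C.cvec ((C.chP p)⁻¹, 1))
  rw [map_mul, mul_comm_of_range, mul_inv_cancel_right]
  · refine congrArg (F4Data.tab.hT K) (funext fun j : Fin 4 => ?_)
    show (Pi.mulSingle (3 : Fin 4) (C.chP p)⁻¹ : Fin 4 → Kˣ) j *
        (Pi.mulSingle (0 : Fin 4) ((C.chP p)⁻¹ ^ 2 ^ m) : Fin 4 → Kˣ) j =
      (![(C.chP p)⁻¹ ^ 2 ^ m, (1 : Kˣ) ^ 2 ^ m, 1, (C.chP p)⁻¹] : Fin 4 → Kˣ) j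
    fin_cases j <;> simp [Pi.mulSingle_apply]
where
  mul_comm_of_range {a b : Fin chevF4.rank → Kˣ} :
      F4Data.tab.hT K a * F4Data.tab.hT K b = F4Data.tab.hT K b * F4Data.tab.hT K a := by
    rw [← map_mul, mul_comm, map_mul]

/-! ### Automorphisms -/

/-- A field automorphism. -/
noncomputable def fA (C : Ctx K m) (σ : K ≃+* K) : MulAut C.Z.G1 :=
  C.Z.fieldAut C.fieldStable σ

theorem fA_eP (σ : K ≃+* K) (t : K) : C.fA σ (C.eP t) = C.eP (σ t) := by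
  refine Subtype.ext ?_
  show glMap chevF4 σ.toRingHom (C.U0 33 24 t) = C.U0 33 24 (σ t)
  simp [U0, good_F4.glMap_x, map_mul, map_pow]

theorem fA_eQ (σ : K ≃+* K) (t u : K) : C.fA σ (C.eQ t u) = C.eQ (σ t) (σ u) := by
  refine Subtype.ext ?_
  show glMap chevF4 σ.toRingHom (C.U1 27 25 28 30 t u) = C.U1 27 25 28 30 (σ t) (σ u)
  simp [U1, P4, good_F4.glMap_x, map_mul, map_pow, map_add]

theorem fA_inner_trivial (σ : K ≃+* K) (h : C.Z.G1) (hh : (h : GL chevF4.Idx K) ∈ C.Z.H0)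
    (he : ∀ x, C.Z.fieldAut C.fieldStable σ x = h * x * h⁻¹) : σ = RingEquiv.refl K := by
  obtain ⟨p, rfl⟩ := C.eH_surj hh
  have key : ∀ t, σ t = (C.chP p : K) * t := fun t => by
    have := he (C.eP t)
    rw [show C.Z.fieldAut C.fieldStable σ (C.eP t) = C.fA σ (C.eP t) from rfl, C.fA_eP,
      C.eH_eP] at this
    exact C.eP_inj this
  refine RingEquiv.ext fun t => ?_
  have h1 := key 1
  rw [map_one, mul_one] at h1
  rw [key, ← h1, one_mul, RingEquiv.refl_apply]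

theorem gen_pointwise {β : MulAut C.Z.G1} (hβ : C.Z.FixBoth C.w0 β)
    (hfix : ∀ J, ∀ z : C.Z.G1, (z : GL chevF4.Idx K) ∈ C.Z.XJ J → β z = z) (z : C.Z.G1) :
    β z = z := by
  obtain ⟨g, hg⟩ := z
  have key : ∀ g (h : g ∈ C.grp), β ⟨g, h⟩ = ⟨g, h⟩ := by
    intro g hg
    induction hg using Subgroup.closure_induction with
    | mem g hg =>
      obtain ⟨w, hw, hg⟩ := hg
      obtain ⟨J, t, u, rfl | rfl⟩ := C.mem_cases hw hg
      · exact hfix J _ (C.mem_XJ.mpr ⟨t, u, rfl⟩)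
      · refine C.Z.aut_rigid C.w0_neg hβ C.xNontrivial (C.cell_fixed hβ J) (hfix J) ?_
        obtain ⟨v, hv, e⟩ := C.V_mem_neg J t u
        refine C.Z.mem_XN.mpr ?_
        exact C.gen_data.conj_back (C.gen_data.le_fix (C.gen_data.n_mem J)) (C.gen_data.n_mono J)
          (C.gen_data.n_act J) (C.V_fix J t u) hv e
    | one => exact map_one β
    | mul a b ha hb h1 h2 =>
      show β (⟨a, ha⟩ * ⟨b, hb⟩) = ⟨a, ha⟩ * ⟨b, hb⟩
      rw [map_mul]
      exact congrArg₂ (· * ·) h1 h2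
    | inv a ha h1 =>
      show β ((⟨a, ha⟩ : C.Z.G1)⁻¹) = (⟨a, ha⟩ : C.Z.G1)⁻¹
      rw [map_inv]
      exact congrArg Inv.inv h1
  exact key g hg

/-- An automorphism fixing `U` and `V` and both central parameters `1` is a field one. -/
theorem exists_field (hm : 1 ≤ m) {α : MulAut C.Z.G1} (hα : C.Z.FixBoth C.w0 α) :
    ∃ (σ : K ≃+* K) (g : C.Z.G1), ∀ x, α x = g * C.Z.fieldAut C.fieldStable σ x * g⁻¹ := by
  have hX := C.xNontrivial
  have h0 := C.w0_neg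
  -- the centre of the quadruple
  have hcentre : ∀ {β : MulAut C.Z.G1}, C.Z.FixBoth C.w0 β → ∀ u, ∃ u',
      β (C.eQ 0 u) = C.eQ 0 u' := fun {β} hβ u => by
    obtain ⟨t', u', e⟩ := C.eQ_surj
      ((C.Z.aut_XJ h0 hβ hX (C.cell_fixed hβ _)).mpr (C.eQ_mem 0 u))
    have h1 : C.eQ 0 (t' ^ (2 ^ m + 1)) = C.eQ 0 0 := by
      rw [← C.eQ_sq t' u', ← e, ← map_mul, C.eQ_sq, zero_pow (Nat.succ_ne_zero _), C.eQ_zero,
        map_one]
    exact ⟨u', by rw [e, pow_eq_zero_iff (Nat.succ_ne_zero _) |>.mp (C.eQ_inj h1).2]⟩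
  have eP0 : C.eP 0 = 1 := by
    have := C.eP_add 0 0
    rwa [add_zero, left_eq_mul] at this
  obtain ⟨a, ha⟩ := C.eP_surj ((C.Z.aut_XJ h0 hα hX (C.cell_fixed hα _)).mpr (C.eP_mem 1))
  obtain ⟨b, hb⟩ := hcentre hα 1
  have ha0 : a ≠ 0 := fun e => by
    rw [e, eP0, EmbeddingLike.map_eq_one_iff, ← eP0] at ha
    exact one_ne_zero (C.eP_inj ha)
  have hb0 : b ≠ 0 := fun e => by
    rw [e, C.eQ_zero, EmbeddingLike.map_eq_one_iff, ← C.eQ_zero] at hb
    exact one_ne_zero (C.eQ_inj hb).2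
  obtain ⟨c, hcP, hcZ⟩ := C.exists_torus (Units.mk0 a ha0) (Units.mk0 b hb0)
  let α' : MulAut C.Z.G1 := MulAut.conj (C.eH c)⁻¹ * α
  have hα' : C.Z.FixBoth C.w0 α' :=
    C.Z.fixBoth_conj_H0 h0 hα (inv_mem (C.eH_mem c))
  have hcell := C.cell_fixed hα'
  have eα' : ∀ x, α x = C.eH c * α' x * (C.eH c)⁻¹ := fun x => by
    simp only [α', MulAut.mul_apply, MulAut.conj_apply]
    group
  choose φP hφP using fun t => C.eP_surj ((C.Z.aut_XJ h0 hα' hX (hcell _)).mpr (C.eP_mem t))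
  choose φZ hφZ using hcentre hα'
  choose μ hμ using fun p => C.eH_surj ((C.Z.aut_H0 h0 hα' hX).mpr (C.eH_mem p))
  have hP1 : φP 1 = 1 := by
    have e := eα' (C.eP 1)
    rw [ha, hφP, C.eH_eP] at e
    have e' := C.eP_inj e
    rw [hcP, Units.val_mk0] at e'
    exact mul_left_cancel₀ ha0 (by rw [mul_one]; exact e'.symm)
  have hZ1 : φZ 1 = 1 := by
    have e := eα' (C.eQ 0 1)
    rw [hb, hφZ, C.eH_eZ] at e
    have e' := (C.eQ_inj e).2
    rw [hcZ, Units.val_mk0] at e'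
    exact mul_left_cancel₀ hb0 (by rw [mul_one]; exact e'.symm)
  have hPc : ∀ p (t : K), φP ((C.chP p : K) * t) = (C.chP (μ p) : K) * φP t := fun p t => by
    have e := congrArg α' (C.eH_eP p t)
    rw [map_mul, map_mul, map_inv, hμ, hφP, hφP, C.eH_eP] at e
    exact (C.eP_inj e).symm
  have hZc : ∀ p (u : K), φZ ((C.chZ p : K) * u) = (C.chZ (μ p) : K) * φZ u := fun p u => by
    have e := congrArg α' (C.eH_eZ p u)
    rw [map_mul, map_mul, map_inv, hμ, hφZ, hφZ, C.eH_eZ] at e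
    exact (C.eQ_inj e).2.symm
  have hP0 : φP 0 = 0 := by
    have := hφP 0
    rw [eP0, map_one, ← eP0] at this
    exact (C.eP_inj this).symm
  have hPmul : ∀ x y, φP (x * y) = φP x * φP y := fun x y => by
    by_cases hx : x = 0
    · rw [hx, zero_mul, hP0, zero_mul]
    obtain ⟨p, hp, -⟩ := C.exists_torus (Units.mk0 x hx) 1
    have h1 := hPc p 1
    rw [hp, Units.val_mk0, hP1, mul_one, mul_one] at h1
    have h2 := hPc p y
    rw [hp, Units.val_mk0] at h2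
    rw [h2, h1]
  have hPadd : ∀ x y, φP (x + y) = φP x + φP y := fun x y => by
    have e := hφP (x + y)
    rw [C.eP_add, map_mul, hφP, hφP, ← C.eP_add] at e
    exact (C.eP_inj e).symm
  have hPinj : Function.Injective φP := fun x y e =>
    C.eP_inj (α'.injective (by rw [hφP, hφP, e]))
  let σ : K ≃+* K :=
    { Equiv.ofBijective φP ⟨hPinj, Finite.injective_iff_surjective.mp hPinj⟩ with
      map_mul' := hPmul
      map_add' := hPadd }
  have hσ : ∀ t, σ t = φP t := fun _ => rfl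
  -- the centre carries the same automorphism
  have hlink : ∀ u, φZ u = σ u := by
    intro u
    by_cases hu : u = 0
    · have h := hφZ 0
      rw [C.eQ_zero, map_one, ← C.eQ_zero] at h
      rw [hu, map_zero]
      exact (C.eQ_inj h).2.symm
    obtain ⟨w, hw⟩ := C.exists_root_e1 (Units.mk0 u hu)
    obtain ⟨p, hp, -⟩ := C.exists_torus w 1
    obtain ⟨k, hk, ek⟩ := C.Z.aut_n h0 hα' hX (hcell C.K0)
    obtain ⟨k', ek'⟩ := C.eH_surj (z := ⟨k, C.Z.H0_le hk⟩) hk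
    have en : α' (C.Z.nG C.K0) = C.Z.nG C.K0 * C.eH k' := Subtype.ext
      (by rw [Subgroup.coe_mul, ← ek']; exact ek)
    have e : α' (C.eH ((C.chP p)⁻¹, 1)) = C.eH ((C.chP (μ p))⁻¹, 1) := by
      rw [← C.comm_nP, ← C.comm_nP (μ p), map_mul, map_mul, map_mul, map_inv, map_inv, hμ, en,
        show C.Z.nG C.K0 * C.eH k' * C.eH (μ p) * (C.Z.nG C.K0 * C.eH k')⁻¹ =
          C.Z.nG C.K0 * (C.eH k' * C.eH (μ p) * (C.eH k')⁻¹) * (C.Z.nG C.K0)⁻¹ by group]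
      congr 3
      rw [← C.eH_mul, mul_comm k', C.eH_mul, mul_inv_cancel_right]
    have e' := congrArg α' (C.eH_eZ ((C.chP p)⁻¹, 1) 1)
    rw [map_mul, map_mul, map_inv, e, hφZ, hφZ, C.eH_eZ, hZ1] at e'
    have e'' := (C.eQ_inj e').2
    simp only [mul_one, chZ, inv_pow, inv_inv, one_mul, hp] at e''
    rw [Units.val_pow_eq_pow_val, Units.val_pow_eq_pow_val] at e''
    have h1 := hPc p 1
    rw [hp, hP1, mul_one, mul_one] at h1
    have hu' : u = (w : K) ^ (2 ^ m + 1) := by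
      rw [← Units.val_pow_eq_pow_val, hw, Units.val_mk0]
    rw [hu', ← e'', map_pow, hσ, h1]
  let β : MulAut C.Z.G1 := C.fA σ.symm * α'
  have hβ : C.Z.FixBoth C.w0 β := by
    have hf := C.Z.fieldAut_fixBoth C.fieldStable σ.symm C.w0
    exact ⟨fun g => (hf.pos _).trans (hα'.pos g), fun g => (hf.neg _).trans (hα'.neg g)⟩
  have hβP : ∀ t, β (C.eP t) = C.eP t := fun t => by
    show C.fA σ.symm (α' (C.eP t)) = _
    rw [hφP, C.fA_eP, ← hσ, RingEquiv.symm_apply_apply]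
  have hβZ : ∀ u, β (C.eQ 0 u) = C.eQ 0 u := fun u => by
    show C.fA σ.symm (α' (C.eQ 0 u)) = _
    rw [hφZ, C.fA_eQ, map_zero, hlink, RingEquiv.symm_apply_apply]
  have hβH : ∀ p, β (C.eH p) = C.eH p := fun p => by
    obtain ⟨p', hp'⟩ := C.eH_surj ((C.Z.aut_H0 h0 hβ hX).mpr (C.eH_mem p))
    have h1 := congrArg β (C.eH_eP p 1)
    rw [map_mul, map_mul, map_inv, hp', hβP, hβP, C.eH_eP, mul_one, mul_one] at h1
    have h2 := congrArg β (C.eH_eZ p 1)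
    rw [map_mul, map_mul, map_inv, hp', hβZ, hβZ, C.eH_eZ, mul_one, mul_one] at h2
    rw [hp', C.chP_injective_pair (Units.ext (C.eP_inj h1)) (Units.ext (C.eQ_inj h2).2)]
  choose f g hfg using fun t =>
    C.eQ_surj ((C.Z.aut_XJ h0 hβ hX (C.cell_fixed hβ _)).mpr (C.eQ_mem t 0))
  have hf : ∀ t, f t = t := by
    intro t
    have e := congrArg β (C.eQ_sq t 0)
    rw [map_mul, hfg, C.eQ_sq, hβZ] at e
    have e' := (C.eQ_inj e).2
    by_cases ht : t = 0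
    · rw [ht, zero_pow (Nat.succ_ne_zero _)] at e'
      rw [ht]
      exact pow_eq_zero_iff (Nat.succ_ne_zero _) |>.mp e'
    have hf0 : f t ≠ 0 := fun h => by
      rw [h, zero_pow (Nat.succ_ne_zero _)] at e'
      exact pow_ne_zero _ ht e'.symm
    have h1 := C.units_pow_e1_inj (x := Units.mk0 (f t) hf0 / Units.mk0 t ht) (Units.ext (by
      rw [div_pow]
      simp [e', div_self (pow_ne_zero _ ht)]))
    exact congrArg Units.val (div_eq_one.mp h1)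
  have hQ : ∀ t u, β (C.eQ t u) = C.eQ t (g t + u) := fun t u => by
    have e : C.eQ t u = C.eQ t 0 * C.eQ 0 u := by
      rw [C.eQ_mul, add_zero, zero_add, mul_zero, add_zero]
    rw [e, map_mul, hfg, hβZ, hf, C.eQ_mul, add_zero, mul_zero, add_zero]
  have gadd : ∀ t s, g (t + s) = g t + g s := fun t s => by
    have e := congrArg β (C.eQ_mul t 0 s 0)
    rw [map_mul, hQ, hQ, hQ, C.eQ_mul] at e
    have e' := (C.eQ_inj e).2
    linear_combination -e'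
  have gscale : ∀ (v : Kˣ) (t : K),
      g ((v : K) * t) = (v : K) ^ (2 ^ m + 1) * g t := by
    intro v t
    have hQ1 : C.chQ (v⁻¹, 1) = v := by simp [chQ]
    have hZ1 : C.chZ (v⁻¹, 1) = v ^ (2 ^ m + 1) := by simp [chZ]
    obtain ⟨u', e, hu'⟩ := C.eH_eQ (v⁻¹, 1) t 0
    obtain ⟨u'', e2, hu''⟩ := C.eH_eQ (v⁻¹, 1) t (g t)
    rw [hQ1] at e e2 hu' hu''
    rw [hZ1] at hu' hu''
    have h := congrArg β e
    rw [map_mul, map_mul, map_inv, hβH, hQ, hQ, add_zero, e2] at h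
    have h' := (C.eQ_inj h).2
    rw [Units.val_pow_eq_pow_val] at hu' hu''
    linear_combination -h' - hu'' + hu'
  have hg : ∀ t, g t = 0 := by
    have g0 : g 0 = 0 := by
      have := gadd 0 0
      rw [add_zero] at this
      linear_combination -this
    have gt : ∀ t, g t = t ^ (2 ^ m + 1) * g 1 := fun t => by
      by_cases ht : t = 0
      · rw [ht, g0, zero_pow (Nat.succ_ne_zero _), zero_mul]
      · have := gscale (Units.mk0 t ht) 1
        rwa [mul_one, Units.val_mk0] at this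
    obtain ⟨x, hx⟩ := C.exists_pow_ne hm
    have h1 := gadd x 1
    rw [gt (x + 1), gt x, pow_succ, pow_succ, C.add_pow_e, one_pow] at h1
    have h2 : (x ^ 2 ^ m + x) * g 1 = 0 := by linear_combination h1
    intro t
    rw [gt, (mul_eq_zero.mp h2).resolve_left hx, mul_zero]
  have hβ1 : ∀ z, β z = z := C.gen_pointwise hβ fun J z hz => by
    rcases C.K_cases J with rfl | rfl
    · obtain ⟨t, rfl⟩ := C.eP_surj hz
      exact hβP t
    · obtain ⟨t, u, rfl⟩ := C.eQ_surj hz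
      rw [hQ, hg, zero_add]
  refine ⟨σ, C.eH c, fun x => ?_⟩
  have := congrArg (C.fA σ) (hβ1 x)
  simp only [β, MulAut.mul_apply] at this
  rw [show C.fA σ (C.fA σ.symm (α' x)) = α' x from C.Z.fieldAut_symm_apply C.fieldStable σ _] at this
  rw [eα', this]
  rfl

/-- The order of the outer automorphism group. -/
theorem card_out (hm : 1 ≤ m) : Nat.card (Cfsg.Out C.Z.G1) = 2 * m + 1 := by
  haveI : CharP K 2 := (CharP.charP_iff_prime_eq_zero Nat.prime_two).mpr C.hp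
  haveI : Fact (Nat.Prime 2) := ⟨Nat.prime_two⟩
  rw [← CfsgLib.Chev.card_ringEquiv (F := K) (p := 2) C.hK]
  set q := 2 ^ (2 * m + 1) with hq
  obtain ⟨P, hP⟩ := C.Z.exists_sylow_of_card (p := 2) (a := (2 * m + 1) * 12)
    (m := (q - 1) * (q ^ 3 + 1) * (q ^ 4 - 1) * (q ^ 6 + 1))
    (by rw [C.card_U1, pow_mul]) (by rw [C.card_group, pow_mul, ← hq]; ring) (by
      have h2 : 2 ∣ q := dvd_pow_self 2 (by omega)
      have hodd : ∀ n, n ≠ 0 → ¬ 2 ∣ q ^ n + 1 ∧ ¬ 2 ∣ q ^ n - 1 := fun n hn => by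
        have := h2.trans (dvd_pow_self q hn)
        have : 1 ≤ q ^ n := Nat.one_le_pow _ _ (Nat.pos_of_ne_zero fun e =>
          absurd (hq.symm.trans e) (pow_ne_zero _ two_ne_zero))
        omega
      have h1 := (hodd 1 one_ne_zero).2
      rw [pow_one] at h1
      rw [Nat.prime_two.dvd_mul, Nat.prime_two.dvd_mul, Nat.prime_two.dvd_mul]
      exact not_or.mpr ⟨not_or.mpr ⟨not_or.mpr ⟨h1, (hodd 3 (by norm_num)).1⟩,
        (hodd 4 (by norm_num)).2⟩, (hodd 6 (by norm_num)).1⟩)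
  exact C.Z.card_out_field C.fieldStable C.w0_neg C.xNontrivial hP
    (fun α hα => C.exists_field hm hα) C.fA_inner_trivial

end Ctx

end CfsgLib.Chev.F4Tw
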