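import Cfsg.Agent.Chev.ReeToral

/-!
The solvable subgroups of the small Ree group lie in local normalisers.
-/

set_option autoImplicit false
set_option linter.style.haveILetI false
set_option linter.unusedSectionVars false

namespace CfsgLib.Chev.ReeCount

variable {G : Type*} [Group G]

/-- A non-trivial solvable subgroup normalises a non-trivial elementary abelian subgroup. -/
theorem exists_elementary [Finite G] (M : Subgroup G) (hM : M ≠ ⊥) (hs : Group.IsSolvable M) :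
    ∃ p : ℕ, p.Prime ∧ ∃ E : Subgroup G, E ≤ M ∧ E ≠ ⊥ ∧ (∀ a ∈ E, ∀ b ∈ E, a * b = b * a) ∧
      (∀ a ∈ E, a ^ p = 1) ∧ ∀ g ∈ M, ∀ a ∈ E, g * a * g⁻¹ ∈ E := by
  classical
  have hex : ∃ k, derivedSeries M k = ⊥ := hs.solvable
  have h0 : Nat.find hex ≠ 0 := fun h => by
    have e := Nat.find_spec hex
    rw [h, derivedSeries_zero] at e
    refine hM ((Subgroup.eq_bot_iff_forall M).mpr fun x hx => ?_)
    have h1 : (⟨x, hx⟩ : M) ∈ (⊥ : Subgroup M) := by rw [← e]; exact Subgroup.mem_top _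
    exact congrArg Subtype.val (Subgroup.mem_bot.mp h1)
  obtain ⟨k, hk⟩ := Nat.exists_eq_succ_of_ne_zero h0
  have hN : derivedSeries M k ≠ ⊥ := Nat.find_min hex (by omega)
  have hN1 : ⁅derivedSeries M k, derivedSeries M k⁆ = ⊥ := by
    rw [← derivedSeries_succ, ← Nat.succ_eq_add_one, ← hk]
    exact Nat.find_spec hex
  haveI : (derivedSeries M k).Normal := derivedSeries_normal (G := M) k
  have hcomm : ∀ a ∈ derivedSeries M k, ∀ b ∈ derivedSeries M k, a * b = b * a :=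
    fun a ha b hb => Subgroup.mem_centralizer_iff.mp
      (Subgroup.commutator_eq_bot_iff_le_centralizer.mp hN1 hb) a ha
  obtain ⟨⟨n, hn⟩, hne⟩ : ∃ n : derivedSeries M k, n ≠ 1 := by
    obtain ⟨x, hx, hx1⟩ := (derivedSeries M k).bot_or_exists_ne_one.resolve_left hN
    exact ⟨⟨x, hx⟩, fun e => hx1 (congrArg Subtype.val e)⟩
  obtain ⟨p, hp, hd⟩ := Nat.exists_prime_and_dvd
    (show Nat.card (derivedSeries M k) ≠ 1 from fun h =>
      hne ((Nat.card_eq_one_iff_unique.mp h).1.elim _ _))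
  haveI := Fact.mk hp
  obtain ⟨y, hy⟩ := exists_prime_orderOf_dvd_card' p hd
  let E' : Subgroup M :=
    { carrier := {x | x ∈ derivedSeries M k ∧ x ^ p = 1}
      mul_mem' := fun {a b} ha hb => ⟨mul_mem ha.1 hb.1, by
        rw [(show Commute a b from hcomm a ha.1 b hb.1).mul_pow, ha.2, hb.2, one_mul]⟩
      one_mem' := ⟨one_mem _, one_pow p⟩
      inv_mem' := fun {a} ha => ⟨inv_mem ha.1, by rw [inv_pow, ha.2, inv_one]⟩ }
  have hyE : (y : M) ∈ E' := ⟨y.2, by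
    rw [← SubmonoidClass.coe_pow, orderOf_dvd_iff_pow_eq_one.mp (dvd_of_eq hy)]; rfl⟩
  refine ⟨p, hp, E'.map M.subtype, Subgroup.map_subtype_le _, fun e => ?_, ?_, ?_, ?_⟩
  · have := (Subgroup.map_eq_bot_iff_of_injective _ (Subgroup.subtype_injective _)).mp e
    rw [this, Subgroup.mem_bot, OneMemClass.coe_eq_one] at hyE
    rw [hyE, orderOf_one] at hy
    exact hp.one_lt.ne hy
  · rintro _ ⟨a, ha, rfl⟩ _ ⟨b, hb, rfl⟩
    rw [← map_mul, ← map_mul, hcomm a ha.1 b hb.1]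
  · rintro _ ⟨a, ha, rfl⟩
    rw [← map_pow, ha.2, map_one]
  · rintro g hg _ ⟨a, ha, rfl⟩
    exact ⟨⟨g, hg⟩ * a * ⟨g, hg⟩⁻¹, ⟨Subgroup.Normal.conj_mem ‹_› a ha.1 _, by
      rw [conj_pow, ha.2, mul_one, mul_inv_cancel]⟩, rfl⟩

theorem conj_mem_normalizer {A : Subgroup G} {x g : G}
    (h : x * g * x⁻¹ ∈ Subgroup.normalizer (A : Set G)) :
    g ∈ Subgroup.normalizer ((A.map (MulAut.conj x⁻¹).toMonoidHom : Subgroup G) : Set G) := by
  have hm : ∀ z, z ∈ A.map (MulAut.conj x⁻¹).toMonoidHom ↔ x * z * x⁻¹ ∈ A := fun z =>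
    ⟨fun ⟨y, hy, e⟩ => by rw [← e]; simpa [mul_assoc] using hy,
      fun hz => ⟨_, hz, by simp [mul_assoc]⟩⟩
  refine Subgroup.mem_normalizer_iff.mpr fun z => ?_
  rw [hm, hm, show x * (g * z * g⁻¹) * x⁻¹ = x * g * x⁻¹ * (x * z * x⁻¹) * (x * g * x⁻¹)⁻¹ by group]
  exact Subgroup.mem_normalizer_iff.mp h _

end CfsgLib.Chev.ReeCount

namespace CfsgLib.Chev.G2Tw

open Cfsg.Lie
open CfsgLib.Linear.SmallSub (P2)

namespace Ctx

variable {K : Type*} [Field K] [Fintype K] {m : ℕ} (C : Ctx K m)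
include C

/-- The local subgroups. -/
def IsLoc (_C : Ctx K m) (A : Subgroup (RG K m)) : Prop :=
  (∃ P : Sylow 2 (RG K m), A = P) ∨ (∃ P : Sylow 3 (RG K m), A = P) ∨
    (IsCyclic A ∧ (Nat.card A = (qq m - 1) / 2 ∨ Nat.card A = (qq m + 1) / 4 ∨
      Nat.card A = qq m - 3 ^ (m + 1) + 1 ∨ Nat.card A = qq m + 3 ^ (m + 1) + 1))

/-- A subgroup lying in a local normaliser. -/
def InLoc (C : Ctx K m) (M : Subgroup (RG K m)) : Prop :=
  ∃ A : Subgroup (RG K m), M ≤ Subgroup.normalizer (A : Set (RG K m)) ∧ C.IsLoc A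

theorem inLoc_of_conj {M A : Subgroup (RG K m)} (hA : C.IsLoc A) {x : RG K m}
    (h : ∀ g ∈ M, x * g * x⁻¹ ∈ Subgroup.normalizer (A : Set (RG K m))) : C.InLoc M := by
  refine ⟨A.map (MulAut.conj x⁻¹).toMonoidHom, fun g hg => ReeCount.conj_mem_normalizer (h g hg), ?_⟩
  rcases hA with ⟨P, rfl⟩ | ⟨P, rfl⟩ | ⟨hc, hcard⟩
  · exact Or.inl ⟨x⁻¹ • P, rfl⟩
  · exact Or.inr (Or.inl ⟨x⁻¹ • P, rfl⟩)
  · refine Or.inr (Or.inr ⟨?_, ?_⟩)
    · haveI := hc
      exact isCyclic_of_surjective _ (MonoidHom.subgroupMap_surjective _ A)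
    · rwa [Subgroup.card_map_of_injective (f := (MulAut.conj x⁻¹).toMonoidHom) (MulAut.conj x⁻¹).injective]

theorem UG_normal {g : RG K m} (hg : g ∈ C.BG) : g ∈ Subgroup.normalizer (C.UG : Set (RG K m)) :=
  ReeCount.eq_of_conj_le fun _ hx => C.BG_conj_UG hg hx

theorem exists_sylow_three : ∃ P : Sylow 3 (RG K m), (P : Subgroup (RG K m)) = C.UG := by
  haveI : Fact (Nat.Prime 3) := ⟨Nat.prime_three⟩
  have hp : IsPGroup 3 C.UG := IsPGroup.of_card (n := (2 * m + 1) * 3)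
    (C.card_UG.trans (pow_mul 3 (2 * m + 1) 3).symm)
  exact ⟨hp.toSylow C.index_UG, IsPGroup.toSylow_coe _ _⟩

/-- Subgroups normalising a non-trivial elementary abelian group of odd order. -/
theorem inLoc_odd (hm : 1 ≤ m) {M E : Subgroup (RG K m)} {p : ℕ} (hp : p.Prime) (h2 : p ≠ 2)
    (hE1 : E ≠ ⊥) (hc : ∀ a ∈ E, ∀ b ∈ E, a * b = b * a) (hpow : ∀ a ∈ E, a ^ p = 1)
    (hn : ∀ g ∈ M, ∀ a ∈ E, g * a * g⁻¹ ∈ E) : C.InLoc M := by
  classical
  haveI := Fact.mk hp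
  haveI := Fintype.ofFinite (RG K m)
  obtain ⟨a, ha, ha1⟩ := E.bot_or_exists_ne_one.resolve_left hE1
  have hao : orderOf a = p := orderOf_eq_prime (hpow a ha) ha1
  have hPE : IsPGroup p E := fun b => ⟨1, Subtype.ext (by
    rw [pow_one, SubmonoidClass.coe_pow]; exact hpow b b.2)⟩
  have hdiv : p ∣ Nat.card (RG K m) := hao ▸ orderOf_dvd_natCard a
  have conjE : ∀ (x : RG K m) {g : RG K m}, g ∈ M →
      x * g * x⁻¹ * (x * a * x⁻¹) * (x * g * x⁻¹)⁻¹ = x * (g * a * g⁻¹) * x⁻¹ := fun x g _ => by group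
  have hx1 : ∀ x : RG K m, x * a * x⁻¹ ≠ 1 := fun x e => ha1 (conj_eq_one_iff.mp e)
  rcases C.prime_dvd_card hp hdiv with h | h | h | h
  · subst h
    obtain ⟨x, hx⟩ := ReeCount.exists_conj_mem C.UG C.index_UG hPE
    obtain ⟨P, hP⟩ := C.exists_sylow_three
    refine C.inLoc_of_conj (A := C.UG) (Or.inr (Or.inl ⟨P, hP.symm⟩)) (x := x) fun g hg =>
      C.UG_normal (C.mem_BG_of_conj (hx a ha) (hx1 x) ?_)
    rw [conjE x hg]
    exact hx _ (hn g hg a ha)
  · obtain ⟨x, hx⟩ := ReeCount.exists_conj_mem C.HG (C.index_HG hp h2 h) hPE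
    obtain ⟨A, hA, hAc, hcard⟩ := C.exists_half
    haveI := C.isCyclic_HG
    obtain ⟨s, hs⟩ := hx a ha
    have hs2 : s ^ 2 ≠ 1 := fun e => h2 (by
      have := orderOf_dvd_of_pow_eq_one e
      rw [← C.orderOf_tG, hs, C.orderOf_conj, hao] at this
      exact (Nat.prime_dvd_prime_iff_eq hp Nat.prime_two).mp this)
    refine C.inLoc_of_conj (A := A) (Or.inr (Or.inr ⟨hAc, Or.inl hcard⟩)) (x := x) fun g hg =>
      ReeCount.normalizer_le_of_cyclic hA (C.conj_HG hs2 ?_)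
    rw [hs, conjE x hg]
    exact hx _ (hn g hg a ha)
  · have h4 : p ∣ (qq m + 1) / 4 := by
      obtain ⟨h8, -⟩ := C.arith
      have hcop : Nat.Coprime p (2 ^ 2) := Nat.Coprime.pow_right 2
        ((Nat.coprime_primes hp Nat.prime_two).mpr h2)
      refine hcop.dvd_of_dvd_mul_left ?_
      convert h using 1
      omega
    obtain ⟨x, hx⟩ := ReeCount.exists_conj_mem C.AG (C.index_AG hp h4) hPE
    refine C.inLoc_of_conj (A := C.AG) (Or.inr (Or.inr ⟨C.isCyclic_AG, Or.inr (Or.inl C.card_AG)⟩))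
      (x := x) fun g hg => C.ti_AG hm _ (hx a ha) (hx1 x) _ ?_
    rw [conjE x hg]
    exact hx _ (hn g hg a ha)
  · obtain ⟨T₁, T₂, h₁, h₂, hmul, hor⟩ := C.two_classes hm
    have key : ∀ (T : Subgroup (RG K m)) (n : ℕ), C.IsTor T n → p ∣ n →
        (n = qq m - 3 ^ (m + 1) + 1 ∨ n = qq m + 3 ^ (m + 1) + 1) → C.InLoc M := by
      intro T n hT hpn hn'
      obtain ⟨x, hx⟩ := hT.conj a ha1 (hao ▸ hpn)
      have hEX : ∀ b ∈ E, x * b * x⁻¹ ∈ T := fun b hb => by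
        rw [← hT.cent _ hx (hx1 x), Subgroup.mem_centralizer_singleton_iff, ← MulAut.conj_apply,
          ← MulAut.conj_apply, ← map_mul, ← map_mul, hc b hb a ha]
      refine C.inLoc_of_conj (A := T) (Or.inr (Or.inr ⟨hT.cyc, ?_⟩)) (x := x) fun g hg =>
        hT.ti _ hx (hx1 x) _ ?_
      · rw [hT.card]
        exact Or.inr (Or.inr hn')
      · rw [conjE x hg]
        exact hEX _ (hn g hg a ha)
    rcases hor a (hao ▸ h) with hd | hd
    · exact key T₁ _ h₁ (hao ▸ hd) (Or.inl rfl)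
    · exact key T₂ _ h₂ (hao ▸ hd) (Or.inr rfl)

/-- The four-group in the torus of order `q + 1`. -/
noncomputable def VG : Subgroup (RG K m) :=
  ((⊤ : Subgroup Z2).prod (Subgroup.zpowers C.xU)).map C.Φc

theorem card_VG : Nat.card C.VG = 4 := by
  rw [VG, Subgroup.card_map_of_injective C.Φc_inj, Nat.card_congr (Subgroup.prodEquiv _ _).toEquiv,
    Nat.card_prod, Subgroup.card_top, Nat.card_congr Multiplicative.toAdd, Nat.card_zmod,
    Nat.card_zpowers, orderOf_eq_prime (by rw [pow_two, C.Ut_spec.1]) C.Ut_spec.2.1]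

theorem VG_le_WG : C.VG ≤ C.WG :=
  Subgroup.map_mono (Subgroup.prod_mono le_rfl (Subgroup.zpowers_le.mpr C.Ut_spec.2.2.1))

theorem normalizer_VG (hm : 1 ≤ m) :
    Subgroup.normalizer (C.VG : Set (RG K m)) ≤ Subgroup.normalizer (C.AG : Set (RG K m)) := by
  intro g hg
  have haV : C.aG ∈ C.VG := ⟨(Multiplicative.ofAdd 1, 1), ⟨Subgroup.mem_top _, one_mem _⟩, C.Φc_a⟩
  have hxV : C.Φc (1, C.xU) ∈ C.VG :=
    ⟨(1, C.xU), ⟨Subgroup.mem_top _, Subgroup.mem_zpowers _⟩, rfl⟩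
  have hv := (Subgroup.mem_normalizer_iff.mp hg _).mp haV
  obtain ⟨h, hh, he⟩ := C.exists_conj_involution hm (C.VG_le_WG hv)
    (by rw [show g * C.aG * g⁻¹ * (g * C.aG * g⁻¹) = g * (C.aG * C.aG) * g⁻¹ by group, C.aG_sq]; group)
    (fun e => C.aG_ne_one (conj_eq_one_iff.mp e))
  have hhV : h ∈ Subgroup.normalizer (C.VG : Set (RG K m)) := by
    refine ReeCount.eq_of_conj_le fun b hb => ?_
    have hbW := (Subgroup.mem_normalizer_iff.mp ((C.normalizer_WG hm).symm ▸ hh) b).mp (C.VG_le_WG hb)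
    refine (C.WG_sq_iff hbW).mp ?_
    have hb2 : b * b = 1 := (C.WG_sq_iff (C.VG_le_WG hb)).mpr hb
    rw [show h * b * h⁻¹ * (h * b * h⁻¹) = h * (b * b) * h⁻¹ by group, hb2]
    group
  have hc : Commute (h * g) C.aG := by
    have : h * g * C.aG * (h * g)⁻¹ = C.aG := by
      rw [show h * g * C.aG * (h * g)⁻¹ = h * (g * C.aG * g⁻¹) * h⁻¹ by group, he]
    exact mul_inv_eq_iff_eq_mul.mp this
  obtain ⟨⟨z, y⟩, hzy⟩ := C.exists_of_commute hc
  have hy : y ∈ Subgroup.normalizer (C.Ut : Set (P2 K)) := by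
    refine C.xU_centralizer ?_
    obtain ⟨⟨z', w⟩, ⟨-, hw⟩, e⟩ := (Subgroup.mem_normalizer_iff.mp (mul_mem hhV hg) _).mp hxV
    rw [← hzy, ← map_inv, ← map_mul, ← map_mul] at e
    have e2 : w = y * C.xU * y⁻¹ := congrArg Prod.snd (C.Φc_inj e)
    obtain ⟨k, hk⟩ := (isOfFinOrder_of_finite C.xU).mem_powers_iff_mem_zpowers.mpr hw
    rcases Nat.even_or_odd' k with ⟨j, rfl | rfl⟩
    · simp only [pow_mul, pow_two, C.Ut_spec.1, one_pow] at hk
      exact absurd (conj_eq_one_iff.mp (e2.symm.trans hk.symm)) C.Ut_spec.2.1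
    · simp only [pow_succ, pow_mul, pow_two, C.Ut_spec.1, one_pow, one_mul, pow_zero] at hk
      exact mul_inv_eq_iff_eq_mul.mp (e2.symm.trans hk.symm)
  have hW : h * g ∈ Subgroup.normalizer (C.WG : Set (RG K m)) := by
    refine ReeCount.eq_of_conj_le fun w hw => ?_
    obtain ⟨z', u, hu, rfl⟩ := C.mem_WG.mp hw
    rw [← hzy, ← map_inv, ← map_mul, ← map_mul]
    exact C.mem_WG.mpr ⟨_, _, (Subgroup.mem_normalizer_iff.mp hy u).mp hu, rfl⟩
  have := mul_mem (inv_mem hh) (C.normalizer_WG_le _ hW)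
  rwa [inv_mul_cancel_left] at this

/-- Subgroups normalising an elementary abelian 2-group of order at least four. -/
theorem inLoc_two (hm : 1 ≤ m) {M E : Subgroup (RG K m)} (h4 : 4 ≤ Nat.card E)
    (hc : ∀ a ∈ E, ∀ b ∈ E, a * b = b * a) (hpow : ∀ a ∈ E, a ^ 2 = 1)
    (hn : ∀ g ∈ M, ∀ a ∈ E, g * a * g⁻¹ ∈ E) : C.InLoc M := by
  classical
  haveI : Fact (Nat.Prime 2) := ⟨Nat.prime_two⟩
  have hPE : IsPGroup 2 E := fun b => ⟨1, Subtype.ext (by
    rw [pow_one, SubmonoidClass.coe_pow]; exact hpow b b.2)⟩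
  obtain ⟨S, hS⟩ := hPE.exists_le_sylow
  have hNE : M ≤ Subgroup.normalizer (E : Set (RG K m)) := fun g hg =>
    ReeCount.eq_of_conj_le fun b hb => hn g hg b hb
  have hd := Subgroup.card_dvd_of_le hS
  rw [(C.sylow_two S).1] at hd
  have h8 := Nat.le_of_dvd (by norm_num) hd
  rcases (show Nat.card E = 8 ∨ Nat.card E = 4 by interval_cases h : Nat.card E <;> omega) with h | h
  · refine ⟨E, hNE, Or.inl ⟨S, ?_⟩⟩
    exact Subgroup.eq_of_le_of_card_ge hS (by rw [(C.sylow_two S).1, h])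
  · obtain ⟨v, hv, hv1⟩ := E.bot_or_exists_ne_one.resolve_left fun e => by
      rw [e, Subgroup.card_bot] at h; omega
    obtain ⟨x, hx⟩ := isConj_iff.mp
      (C.isConj_aG hm (by rw [← pow_two]; exact hpow v hv) hv1).symm
    obtain ⟨w, hw, hw1, hwv⟩ : ∃ w ∈ E, w ≠ 1 ∧ w ≠ v := by
      by_contra hno
      push Not at hno
      have hsub : (E : Set (RG K m)) ⊆ {1, v} := fun z hz => by
        by_cases e : z = 1
        · exact Or.inl e
        · exact Or.inr (hno z hz e)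
      have := Set.ncard_le_ncard hsub
      rw [← Nat.card_coe_set_eq, show Nat.card (E : Set (RG K m)) = Nat.card E from rfl, h] at this
      have h2 := Set.ncard_insert_le (1 : RG K m) {v}
      rw [Set.ncard_singleton] at h2
      omega
    have hwa : Commute (x * w * x⁻¹) C.aG := by
      rw [← hx, ← MulAut.conj_apply, ← MulAut.conj_apply]
      exact (show Commute w v from hc w hw v hv).map _
    obtain ⟨⟨z, y⟩, hzy⟩ := C.exists_of_commute hwa
    have hy2 : y * y = 1 := by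
      have h1 : (x * w * x⁻¹) ^ 2 = 1 := by rw [conj_pow, hpow w hw]; group
      rw [← hzy, pow_two, ← map_mul] at h1
      exact congrArg Prod.snd (C.Φc_inj (h1.trans (map_one C.Φc).symm))
    have hy1 : y ≠ 1 := by
      rintro rfl
      rcases z2_cases z with rfl | rfl
      · exact hw1 (conj_eq_one_iff.mp (hzy.symm.trans (map_one C.Φc)))
      · rw [C.Φc_a, ← hx] at hzy
        exact hwv (mul_left_cancel (mul_right_cancel hzy.symm))
    obtain ⟨c, hcy⟩ := isConj_iff.mp (CfsgLib.Linear.FourGroups.involutions_conj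
      (ReePSL.odd_card C.q_mod_eight) hy2 hy1 C.Ut_spec.1 C.Ut_spec.2.1)
    set g₀ := C.Φc (1, c) * x with hg₀
    have e1 : g₀ * v * g₀⁻¹ = C.aG := by
      rw [hg₀, show C.Φc (1, c) * x * v * (C.Φc (1, c) * x)⁻¹ =
        C.Φc (1, c) * (x * v * x⁻¹) * (C.Φc (1, c))⁻¹ by group, hx,
        (C.commute_Φc (1, c)).eq, mul_inv_cancel_right]
    have e2 : g₀ * w * g₀⁻¹ = C.Φc (z, C.xU) := by
      rw [hg₀, show C.Φc (1, c) * x * w * (C.Φc (1, c) * x)⁻¹ =
        C.Φc (1, c) * (x * w * x⁻¹) * (C.Φc (1, c))⁻¹ by group, ← hzy, ← map_inv, ← map_mul,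
        ← map_mul]
      exact congrArg C.Φc (Prod.ext (by simp) hcy)
    have hEV : E.map (MulAut.conj g₀).toMonoidHom = C.VG := by
      refine (Subgroup.eq_of_le_of_card_ge ?_ ?_).symm
      · have hz : ∀ t : Z2, C.Φc (t, 1) ∈ E.map (MulAut.conj g₀).toMonoidHom := fun t => by
          rcases z2_cases t with rfl | rfl
          · exact (show C.Φc (1, 1) = 1 from map_one C.Φc) ▸ one_mem _
          · rw [C.Φc_a, ← e1]
            exact ⟨v, hv, rfl⟩
        have hxU : C.Φc (1, C.xU) ∈ E.map (MulAut.conj g₀).toMonoidHom := by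
          have hzx : C.Φc (z, C.xU) ∈ E.map (MulAut.conj g₀).toMonoidHom := e2 ▸ ⟨w, hw, rfl⟩
          have := mul_mem (hz z) hzx
          rwa [← map_mul, Prod.mk_mul_mk, z2_mul_self, one_mul] at this
        rintro _ ⟨⟨t, u⟩, ⟨-, hu⟩, rfl⟩
        obtain ⟨k, rfl⟩ := Subgroup.mem_zpowers_iff.mp hu
        have := mul_mem (hz t) (zpow_mem hxU k)
        rw [← map_zpow, ← map_mul] at this
        rwa [show ((t, (1 : P2 K)) * ((1 : Z2), C.xU) ^ k) = (t, C.xU ^ k) by ext <;> simp] at this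
      · rw [C.card_VG, Subgroup.card_map_of_injective (MulAut.conj g₀).injective, h]
    refine C.inLoc_of_conj (A := C.AG) (Or.inr (Or.inr ⟨C.isCyclic_AG, Or.inr (Or.inl C.card_AG)⟩))
      (x := g₀) fun g hg => C.normalizer_VG hm ?_
    rw [← hEV]
    refine ReeCount.eq_of_conj_le ?_
    rintro _ ⟨b, hb, rfl⟩
    exact ⟨g * b * g⁻¹, hn g hg b hb, by simp [mul_assoc]⟩

theorem inLoc_two_group {M : Subgroup (RG K m)} (h : IsPGroup 2 M) : C.InLoc M := by
  haveI : Fact (Nat.Prime 2) := ⟨Nat.prime_two⟩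
  obtain ⟨S, hS⟩ := h.exists_le_sylow
  exact ⟨S, hS.trans Subgroup.le_normalizer, Or.inl ⟨S, rfl⟩⟩

/-- Solvable subgroups of the centraliser of the involution. -/
theorem inLoc_centralizer (hm : 1 ≤ m) {M : Subgroup (RG K m)} (hs : Group.IsSolvable M)
    (ha : C.aG ∈ M) (hM : ∀ g ∈ M, Commute g C.aG) : C.InLoc M := by
  classical
  set N : Subgroup (P2 K) := (M.comap C.Φc).map (MonoidHom.snd Z2 (P2 K)) with hN
  have hz : ∀ t : Z2, C.Φc (t, 1) ∈ M := fun t => by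
    rcases z2_cases t with rfl | rfl
    · exact (show C.Φc (1, 1) = 1 from map_one C.Φc) ▸ one_mem _
    · rwa [C.Φc_a]
  have hlift : ∀ y ∈ N, ∀ t : Z2, C.Φc (t, y) ∈ M := by
    rintro _ ⟨⟨t', y⟩, hy, rfl⟩ t
    have := mul_mem (hz (t * t')) (Subgroup.mem_comap.mp hy)
    rwa [← map_mul, Prod.mk_mul_mk, one_mul, mul_assoc, z2_mul_self, mul_one] at this
  have hmem : ∀ g ∈ M, ∃ t, ∃ y ∈ N, C.Φc (t, y) = g := fun g hg => by
    obtain ⟨⟨t, y⟩, rfl⟩ := C.exists_of_commute (hM g hg)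
    exact ⟨t, y, ⟨(t, y), hg, rfl⟩, rfl⟩
  by_cases hN1 : N = ⊥
  · refine C.inLoc_two_group fun g => ⟨1, Subtype.ext ?_⟩
    obtain ⟨t, y, hy, e⟩ := hmem g g.2
    rw [hN1, Subgroup.mem_bot] at hy
    rw [pow_one, SubmonoidClass.coe_pow, ← e, hy, ← map_pow, Prod.pow_mk, z2_sq, one_pow]
    exact map_one C.Φc
  have hNs : Group.IsSolvable N := by
    let f : M →* P2 K :=
      MonoidHom.mk' (fun g => (hmem g g.2).choose_spec.choose) fun g g' => by
        obtain ⟨h1, e1⟩ := (hmem g g.2).choose_spec.choose_spec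
        obtain ⟨h2, e2⟩ := (hmem g' g'.2).choose_spec.choose_spec
        obtain ⟨h3, e3⟩ := (hmem (g * g' : M) (g * g').2).choose_spec.choose_spec
        have h := e3.trans (congrArg₂ (· * ·) e1.symm e2.symm)
        rw [← map_mul] at h
        exact congrArg Prod.snd (C.Φc_inj h)
    haveI := hs
    have hr : f.range = N := by
      ext y
      constructor
      · rintro ⟨g, rfl⟩
        exact (hmem g g.2).choose_spec.choose_spec.1
      · intro hy
        refine ⟨⟨C.Φc (1, y), hlift y hy 1⟩, ?_⟩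
        exact congrArg Prod.snd (C.Φc_inj (hmem _ (hlift y hy 1)).choose_spec.choose_spec.2)
    exact hr ▸ Group.isSolvable_of_surjective f.rangeRestrict_surjective
  obtain ⟨ℓ, hℓ, B, hBN, hB1, hBc, hBp, hBn⟩ := ReeCount.exists_elementary N hN1 hNs
  obtain ⟨b, hb, hb1⟩ := B.bot_or_exists_ne_one.resolve_left hB1
  rcases eq_or_ne ℓ 2 with rfl | h2
  · refine C.inLoc_two hm (E := ((⊤ : Subgroup Z2).prod B).map C.Φc) ?_ ?_ ?_ ?_
    · rw [Subgroup.card_map_of_injective C.Φc_inj, Nat.card_congr (Subgroup.prodEquiv _ _).toEquiv,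
        Nat.card_prod, Subgroup.card_top, Nat.card_congr Multiplicative.toAdd, Nat.card_zmod]
      haveI : Nontrivial B := ⟨⟨⟨b, hb⟩, 1, fun e => hb1 (congrArg Subtype.val e)⟩⟩
      have := Finite.one_lt_card (α := B)
      omega
    · rintro _ ⟨⟨t, y⟩, ⟨-, hy⟩, rfl⟩ _ ⟨⟨t', y'⟩, ⟨-, hy'⟩, rfl⟩
      rw [← map_mul, ← map_mul, Prod.mk_mul_mk, Prod.mk_mul_mk, mul_comm t, hBc y hy y' hy']
    · rintro _ ⟨⟨t, y⟩, ⟨-, hy⟩, rfl⟩
      rw [← map_pow, Prod.pow_mk, z2_sq, hBp y hy]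
      exact map_one C.Φc
    · rintro g hg _ ⟨⟨t, y⟩, ⟨-, hy⟩, rfl⟩
      obtain ⟨t', y', hy', rfl⟩ := hmem g hg
      rw [← map_inv, ← map_mul, ← map_mul]
      exact ⟨_, ⟨Subgroup.mem_top _, hBn y' hy' y hy⟩, rfl⟩
  · refine C.inLoc_odd hm hℓ h2 (E := ((⊥ : Subgroup Z2).prod B).map C.Φc) ?_ ?_ ?_ ?_
    · intro e
      have : C.Φc (1, b) ∈ ((⊥ : Subgroup Z2).prod B).map C.Φc := ⟨_, ⟨one_mem _, hb⟩, rfl⟩
      rw [e, Subgroup.mem_bot] at this
      exact hb1 (congrArg Prod.snd (C.Φc_inj (this.trans (map_one C.Φc).symm)))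
    · rintro _ ⟨⟨t, y⟩, ⟨-, hy⟩, rfl⟩ _ ⟨⟨t', y'⟩, ⟨-, hy'⟩, rfl⟩
      rw [← map_mul, ← map_mul, Prod.mk_mul_mk, Prod.mk_mul_mk, mul_comm t, hBc y hy y' hy']
    · rintro _ ⟨⟨t, y⟩, ⟨ht, hy⟩, rfl⟩
      rw [← map_pow, Prod.pow_mk, hBp y hy, show t = 1 from Subgroup.mem_bot.mp ht, one_pow]
      exact map_one C.Φc
    · rintro g hg _ ⟨⟨t, y⟩, ⟨ht, hy⟩, rfl⟩
      obtain ⟨t', y', hy', rfl⟩ := hmem g hg
      rw [← map_inv, ← map_mul, ← map_mul]
      refine ⟨_, ⟨?_, hBn y' hy' y hy⟩, rfl⟩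
      rw [show t = 1 from Subgroup.mem_bot.mp ht]
      simp

/-- Every solvable subgroup lies in a local normaliser. -/
theorem inLoc_solvable (hm : 1 ≤ m) {M : Subgroup (RG K m)} (hs : Group.IsSolvable M) :
    C.InLoc M := by
  classical
  by_cases hM : M = ⊥
  · subst hM
    exact C.inLoc_two_group (IsPGroup.of_card (n := 0) (by rw [Subgroup.card_bot, pow_zero]))
  obtain ⟨p, hp, E, hEM, hE1, hc, hpow, hn⟩ := ReeCount.exists_elementary M hM hs
  rcases eq_or_ne p 2 with rfl | h2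
  swap
  · exact C.inLoc_odd hm hp h2 hE1 hc hpow hn
  by_cases h4 : 4 ≤ Nat.card E
  · exact C.inLoc_two hm h4 hc hpow hn
  haveI : Fact (Nat.Prime 2) := ⟨Nat.prime_two⟩
  obtain ⟨v, hv, hv1⟩ := E.bot_or_exists_ne_one.resolve_left hE1
  have hE2 : Nat.card E = 2 := by
    have hd : 2 ∣ Nat.card E := by
      rw [← orderOf_eq_prime (hpow v hv) hv1]
      exact Subgroup.orderOf_dvd_natCard _ hv
    have := Nat.card_pos (α := E)
    omega
  have hcen : ∀ g ∈ M, g * v * g⁻¹ = v := by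
    intro g hg
    have hz : E = Subgroup.zpowers v := (Subgroup.eq_of_le_of_card_ge (Subgroup.zpowers_le.mpr hv)
      (by rw [Nat.card_zpowers, orderOf_eq_prime (hpow v hv) hv1, hE2])).symm
    have h := hn g hg v hv
    rw [hz] at h
    obtain ⟨k, hk⟩ := (isOfFinOrder_of_finite v).mem_powers_iff_mem_zpowers.mpr h
    rcases Nat.even_or_odd' k with ⟨j, rfl | rfl⟩
    · simp only [pow_mul, hpow v hv, one_pow] at hk
      exact absurd (conj_eq_one_iff.mp hk.symm) hv1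
    · simp only [pow_succ (a := v) (n := 2 * j), pow_mul, hpow v hv, one_pow, one_mul] at hk
      exact hk.symm
  obtain ⟨x, hx⟩ := isConj_iff.mp (C.isConj_aG hm (by rw [← pow_two]; exact hpow v hv) hv1).symm
  have hs' : Group.IsSolvable (M.map (MulAut.conj x).toMonoidHom) := by
    haveI := hs
    exact Group.isSolvable_of_surjective (MonoidHom.subgroupMap_surjective _ M)
  obtain ⟨A, hA, hloc⟩ := C.inLoc_centralizer hm hs' ⟨v, hEM hv, hx⟩ (by
    rintro _ ⟨g, hg, rfl⟩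
    rw [← hx]
    show Commute (MulAut.conj x g) (MulAut.conj x v)
    exact (show Commute g v from mul_inv_eq_iff_eq_mul.mp (hcen g hg)).map _)
  exact C.inLoc_of_conj hloc (x := x) fun g hg => hA ⟨g, hg, rfl⟩

end Ctx

end CfsgLib.Chev.G2Tw
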