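import Cfsg.Agent.Chev.Collect
import Cfsg.Agent.Chev.TwistedF4
import Mathlib.GroupTheory.Sylow
import Mathlib.GroupTheory.Abelianization.Defs

/-!
The group `²F₄(2)`: coordinates on the Sylow 2-subgroup and the images of its involutions in the
abelianisation.
-/

set_option autoImplicit false
set_option maxRecDepth 8192
set_option linter.style.haveILetI false

namespace CfsgLib.Chev.F4Two

open Cfsg.Lie Matrix Tab Collect
open scoped MatrixGroups

/-- The twelve generators: a word in the orbits and a list of roots. -/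
def segs : List (List ℕ × List ℕ) :=
  [([], [33, 24]), ([1], [33, 24]), ([0], [27, 25, 28]), ([0], [28, 30]), ([], [27, 25, 28]),
    ([], [28, 30]), ([0, 1, 0], [27, 25, 28]), ([0, 1, 0], [28, 30]), ([1, 0, 1], [33, 24]),
    ([1, 0], [27, 25, 28]), ([1, 0], [28, 30]), ([0, 1], [33, 24])]

/-- The roots of a generator. -/
def roots (k : ℕ) : List ℕ :=
  (segs.getD k ([], [])).2.map (F4Data.tab.wordT (flatW F4Tw.words (segs.getD k ([], [])).1))

/-- A generator with a polynomial coefficient. -/
def seg (k : ℕ) (p : List ℕ) : List (ℕ × List ℕ) := (roots k).map fun r => (r, p)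

/-- The product of all generators with variable exponents. -/
def word : List (ℕ × List ℕ) := (List.range 12).flatMap fun k => seg k [2 ^ k]

/-- The empty stack. -/
def zeros : List (ℕ × List ℕ) := (List.range' 24 24).reverse.map fun r => (r, [])

/-- The collected form. -/
def co (n : ℕ) (w : List (ℕ × List ℕ)) : List (ℕ × List ℕ) × List (ℕ × List ℕ) :=
  collect F4Data.tab n zeros w

/-- The coefficient of a root. -/
def poly (l : List (ℕ × List ℕ)) (k : ℕ) : List ℕ :=
  ((l.find? fun e => Nat.beq e.1 k).map Prod.snd).getD []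

/-- The variables, the roots that determine them and the coefficients there. -/
def pivots : List (ℕ × ℕ × List ℕ) :=
  [(0, 24, [1]), (4, 25, [16]), (2, 26, [4]), (5, 28, [32]), (6, 29, [64]), (9, 31, [512]),
    (1, 32, [2]), (3, 36, [8, 65]), (11, 38, [2048, 68, 81, 24, 513]),
    (8, 39, [256, 40, 3, 6, 97, 84]),
    (10, 40, [1024, 100, 113, 66, 81, 84, 97, 56, 19, 22, 24, 40, 545, 532]),
    (7, 47, [84, 81, 97, 24, 40, 128, 536, 532, 515])]

/-- Some coefficients of the square. -/
def sqPolys : List (ℕ × List ℕ) :=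
  [(28, [16]), (29, [33, 20]), (36, [4, 513, 33, 65]),
    (39, [545, 33, 19, 17, 2064, 24, 6, 3, 40, 37, 529, 20, 576, 84, 97]),
    (40, [512, 97, 100, 592, 113, 37, 35, 2080, 56, 561, 272, 40, 81, 66, 6, 84, 2064, 17, 36, 529]),
    (44, [113, 81, 84, 17, 44, 57, 25, 41, 260, 101, 40, 10, 23, 67, 1025, 37, 2064, 19, 33, 36,
      561, 53, 64, 549, 515, 2560])]

/-- Whether collection has finished. -/
def finished (r : List (ℕ × List ℕ) × List (ℕ × List ℕ)) : Bool :=
  r.2.isEmpty && decide (r.1.reverse.map Prod.fst = List.range' 24 24)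

theorem co_word : finished (co 3000 word) = true ∧
    pivots.all (fun p => decide (poly (co 3000 word).1.reverse p.2.1 = p.2.2)) = true := by
  decide +kernel

theorem co_square : finished (co 3000 (word ++ word)) = true ∧
    sqPolys.all (fun p => decide (poly (co 3000 (word ++ word)).1.reverse p.1 = p.2)) = true := by
  decide +kernel

theorem co_ids : ∀ p ∈ [([2, 2], [3]), ([2, 6], [6, 2, 11]), ([0, 6], [6, 0, 3])],
    (co 3000 ((p : List ℕ × List ℕ).1.flatMap fun k => seg k [0])).2 = [] ∧
      co 3000 (p.1.flatMap fun k => seg k [0]) = co 3000 (p.2.flatMap fun k => seg k [0]) := by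
  decide +kernel

attribute [local irreducible] co

/-- Recover the exponents from coordinates. -/
def dec (c : ℕ → Bool) : ℕ :=
  pivots.foldl (fun a p => if xor (c p.2.1) (ev a p.2.2) then a + 2 ^ p.1 else a) 0

/-- Recover the exponents from the pivotal coefficients evaluated at exponents. -/
def dec' (a : ℕ) : ℕ :=
  pivots.foldl (fun a' p => if xor (ev a p.2.2) (ev a' p.2.2) then a' + 2 ^ p.1 else a') 0

theorem chk_dec : allBelow (fun i => allBelow (fun j => Nat.beq (dec' (64 * i + j)) (64 * i + j)) 64)
    64 = true := by decide +kernel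

/-- The four variables carrying the parity. -/
def parity (a : ℕ) : Bool :=
  xor (xor (Nat.testBit a 2) (Nat.testBit a 4)) (xor (Nat.testBit a 6) (Nat.testBit a 9))

theorem chk_parity : allBelow (fun i => allBelow (fun j =>
    !(parity (64 * i + j)) || sqPolys.any (fun p => ev (64 * i + j) p.2)) 64) 64 = true := by
  decide +kernel

theorem segs_ok : ∀ k < 12, (segs.getD k ([], [])).1.all (fun J => Nat.blt J 2) = true ∧
    ((segs.getD k ([], [])).2 = [33, 24] ∨ (segs.getD k ([], [])).2 = [27, 25, 28] ∨
      (segs.getD k ([], [])).2 = [28, 30]) := by decide +kernel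

/-- The abbreviation for the field. -/
abbrev K2 : Type := ZMod 2

variable (C : F4Tw.Ctx K2 0)

/-- The value of a word. -/
noncomputable abbrev vl (a : ℕ) (w : List (ℕ × List ℕ)) : GL chevF4.Idx K2 := val good_F4 a w

/-- A generator. -/
noncomputable def gen (k : ℕ) : GL chevF4.Idx K2 := vl 0 (seg k [0])

theorem vl_seg (a k : ℕ) (p : List ℕ) : vl a (seg k p) = if ev a p then gen k else 1 := by
  rw [gen, seg, seg]
  induction roots k with
  | nil => simp [vl, Collect.val]
  | cons r l ih =>
    simp only [vl] at ih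
    simp only [vl, List.map_cons, val_cons, ih]
    cases h : ev a p <;> simp [ev, x_fval_false good_F4]

theorem vl_segs (a : ℕ) (L : List ℕ) :
    vl a (L.flatMap fun k => seg k [0]) = (L.map gen).prod := by
  induction L with
  | nil => rfl
  | cons k L ih =>
    rw [List.flatMap_cons, vl, val_append, List.map_cons, List.prod_cons]
    exact congrArg₂ (· * ·) ((vl_seg a k [0]).trans (by simp [ev])) ih

theorem vl_zeros (a : ℕ) : vl a zeros.reverse = 1 := by
  rw [vl, Collect.val]
  generalize hz : zeros.reverse = l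
  have hl : ∀ e ∈ l, e.2 = [] := by
    intro e he
    rw [← hz, List.mem_reverse, zeros, List.mem_map] at he
    obtain ⟨r, -, rfl⟩ := he
    rfl
  clear hz
  induction l with
  | nil => simp only [List.map_nil, List.prod_nil]
  | cons e l ih =>
    rw [List.map_cons, List.prod_cons, ih fun e' he' => hl e' (List.mem_cons_of_mem _ he'),
      mul_one, hl e (List.mem_cons_self ..), ev, x_fval_false good_F4]

theorem vl_co (a n : ℕ) (w : List (ℕ × List ℕ)) (h : (co n w).2 = []) :
    vl a (co n w).1.reverse = vl a w := by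
  have := collect_sound (T := F4Data.tab) good_F4 a n zeros w
  rw [val_append, val_append] at this
  rw [show collect F4Data.tab n zeros w = co n w by rw [co]] at this
  change vl a (co n w).1.reverse * vl a (co n w).2 = vl a zeros.reverse * vl a w at this
  rwa [h, vl_zeros, one_mul, show vl a [] = 1 from rfl, mul_one] at this

/-- Equal values have equal coefficients. -/
theorem coeff_inj {a b : ℕ} {l l' : List (ℕ × List ℕ)} (hl : l.map Prod.fst = List.range' 24 24)
    (hl' : l'.map Prod.fst = List.range' 24 24) (h : vl a l = vl b l') :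
    ∀ r, 24 ≤ r → r < 48 → ev a (poly l r) = ev b (poly l' r) := by
  intro r h1 h2
  have len : ∀ {l : List (ℕ × List ℕ)}, l.map Prod.fst = List.range' 24 24 → l.length = 24 :=
    fun {l} e => by simpa using congrArg List.length e
  have hS : ∀ {l : List (ℕ × List ℕ)}, l.map Prod.fst = List.range' 24 24 →
      ∀ r ∈ l.map Prod.fst, r ∈ {s | IsPos chevF4 s} := fun e r hr => by
    rw [e, List.mem_range'_1] at hr
    exact ⟨show r < 48 by omega, show 48 ≤ 2 * r by omega⟩
  rw [vl, vl, val_segProd good_F4 a {s | IsPos chevF4 s} l 24 (by rw [len hl]; exact hl) (hS hl),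
    val_segProd good_F4 b {s | IsPos chevF4 s} l' 24 (by rw [len hl']; exact hl') (hS hl'),
    len hl, len hl'] at h
  have e := good_F4.segProd_injective good_F4.closed_pos 24 24 _ _ rfl h r
    ⟨h2, show 48 ≤ 2 * r by omega⟩ h1
  have hb : ∀ x y : Bool, Collect.fval x = Collect.fval y → x = y := by decide
  exact hb _ _ e

theorem finished_spec {w : List (ℕ × List ℕ)} {n : ℕ} (h : finished (co n w) = true) :
    (co n w).2 = [] ∧ (co n w).1.reverse.map Prod.fst = List.range' 24 24 := by
  simpa [finished, List.isEmpty_iff] using h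

theorem gen_eq_conj (k : ℕ) (hk : k < 12) :
    ∃ n ∈ C.grp, gen k = n * vl 0 ((segs.getD k ([], [])).2.map fun r => (r, [0])) * n⁻¹ := by
  obtain ⟨hR, hbase⟩ := segs_ok k hk
  set R := (segs.getD k ([], [])).1
  let L : List (Fin F4Tw.orbs.length) := toFins _ R
  refine ⟨(L.map C.gen_data.n).prod, list_prod_mem (l := List.map C.gen_data.n L)
    fun g hg => ?_, ?_⟩
  · obtain ⟨J, -, rfl⟩ := List.mem_map.mp hg
    exact C.gen_data.n_mem J
  obtain ⟨-, c, hc⟩ := C.gen_data.prod_act L
  have hval : L.map Fin.val = R := map_toFins fun i hi => Nat.blt_eq.mp (List.all_eq_true.mp hR i hi)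
  have hflat : (L.flatMap fun J : Fin F4Tw.orbs.length =>
      toFins chevF4.rank (F4Tw.words.getD J.val [])).map Fin.val =
      flatW F4Tw.words R := by
    rw [flatW, List.map_flatMap, ← hval, List.flatMap_map]
    exact congrArg List.flatten (List.map_congr_left fun J _ => C.spec.map_word J)
  have hlt : ∀ r ∈ (segs.getD k ([], [])).2, r < chevF4.nroots := fun r hr => by
    show r < 48
    rcases hbase with e | e | e <;> rw [e] at hr <;> simp at hr <;> omega
  have one : ∀ u : K2ˣ, (u : K2) = 1 := fun u => by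
    have : ∀ z : K2, z ≠ 0 → z = 1 := by decide
    exact this _ u.ne_zero
  rw [gen, seg, roots, List.map_map]
  generalize (segs.getD k ([], [])).2 = base at hlt ⊢
  induction base with
  | nil => simp [vl, Collect.val]
  | cons r l ih =>
    simp only [vl, List.map_cons, Function.comp_apply, val_cons] at ih ⊢
    rw [ih fun s hs => hlt s (List.mem_cons_of_mem _ hs)]
    have e := (hc ⟨r, hlt r (List.mem_cons_self ..)⟩).2.2.2 (Collect.fval (ev 0 [0]))
    rw [one, one_mul, good_F4.pw_apply, hflat] at e
    rw [← e]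
    group

theorem base_mem {k : ℕ} (hk : k < 12) :
    vl 0 ((segs.getD k ([], [])).2.map fun r => (r, [0])) ∈ C.grp := by
  rcases (segs_ok k hk).2 with h | h | h <;> rw [h]
  · have e := C.U_mem 0 1 0
    simpa [F4Tw.Ctx.U, F4Tw.Ctx.U0, vl, Collect.val, ev, Collect.fval] using e
  · have e := C.U_mem 1 1 0
    simpa [F4Tw.Ctx.U, F4Tw.Ctx.U1, F4Tw.Ctx.P4, vl, Collect.val, ev, Collect.fval, mul_assoc,
      good_F4.full.x_zero, show (1 + 1 : K2) = 0 from rfl] using e
  · have e := C.U_mem 1 0 1
    simpa [F4Tw.Ctx.U, F4Tw.Ctx.U1, F4Tw.Ctx.P4, vl, Collect.val, ev, Collect.fval, mul_assoc,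
      good_F4.full.x_zero] using e

theorem gen_mem {k : ℕ} (hk : k < 12) : gen k ∈ C.grp := by
  obtain ⟨n, hn, e⟩ := gen_eq_conj C k hk
  rw [e]
  exact mul_mem (mul_mem hn (base_mem C hk)) (inv_mem hn)

/-- A generator as an element of the group. -/
noncomputable def gG (k : Fin 12) : C.grp := ⟨gen k.val, gen_mem C k.isLt⟩

/-- Conjugate generators have the same image in an abelian group. -/
theorem ab_eq {i j : Fin 12} (h : (segs.getD i.val ([], [])).2 = (segs.getD j.val ([], [])).2) :
    Abelianization.of (gG C i) = Abelianization.of (gG C j) := by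
  have key : ∀ k : Fin 12, Abelianization.of (gG C k) =
      Abelianization.of (⟨_, base_mem C k.isLt⟩ : C.grp) := by
    intro k
    obtain ⟨n, hn, e⟩ := gen_eq_conj C k k.isLt
    have : gG C k = ⟨n, hn⟩ * ⟨_, base_mem C k.isLt⟩ * ⟨n, hn⟩⁻¹ := Subtype.ext e
    rw [this, map_mul, map_mul, map_inv, mul_comm (Abelianization.of (⟨n, hn⟩ : C.grp)),
      mul_inv_cancel_right]
  rw [key i, key j]
  exact congrArg _ (Subtype.ext (by simp only [h]))

theorem gG_rel {L L' : List (Fin 12)}
    (h : (L.map Fin.val, L'.map Fin.val) ∈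
      [([2, 2], [3]), ([2, 6], [6, 2, 11]), (([0, 6], [6, 0, 3]) : List ℕ × List ℕ)]) :
    (L.map fun k => Abelianization.of (gG C k)).prod =
      (L'.map fun k => Abelianization.of (gG C k)).prod := by
  obtain ⟨hfin, heq⟩ := co_ids _ h
  have e : (L.map (gG C)).prod = (L'.map (gG C)).prod := by
    refine Subtype.ext ?_
    rw [Subgroup.val_list_prod, Subgroup.val_list_prod, List.map_map, List.map_map]
    show (L.map fun k => gen k.val).prod = (L'.map fun k => gen k.val).prod
    have e1 := vl_co 0 _ _ hfin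
    have e2 := vl_co 0 3000 ((L'.map Fin.val).flatMap fun k => seg k [0]) (heq ▸ hfin)
    rw [heq, e2, vl_segs, vl_segs, List.map_map, List.map_map] at e1
    exact e1.symm
  have := congrArg Abelianization.of e
  rwa [map_list_prod, map_list_prod, List.map_map, List.map_map] at this

theorem ab_values (k : Fin 12) :
    Abelianization.of (gG C k) =
      if k.val ∈ [2, 4, 6, 9] then Abelianization.of (gG C 2) else 1 := by
  have h0 : Abelianization.of (gG C 3) = 1 := by
    have h := gG_rel C (L := [0, 6]) (L' := [6, 0, 3]) (by decide)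
    simp only [List.map_cons, List.map_nil, List.prod_cons, List.prod_nil, mul_one] at h
    rw [← mul_assoc, mul_comm (Abelianization.of (gG C 6))] at h
    exact left_eq_mul.mp h
  have h1 : Abelianization.of (gG C 11) = 1 := by
    have h := gG_rel C (L := [2, 6]) (L' := [6, 2, 11]) (by decide)
    simp only [List.map_cons, List.map_nil, List.prod_cons, List.prod_nil, mul_one] at h
    rw [← mul_assoc, mul_comm (Abelianization.of (gG C 6))] at h
    exact left_eq_mul.mp h
  have hc : ∀ k : Fin 12, (segs.getD k.val ([], [])).2 = (segs.getD 2 ([], [])).2 ∧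
      k.val ∈ [2, 4, 6, 9] ∨ k.val ∉ [2, 4, 6, 9] ∧
      ((segs.getD k.val ([], [])).2 = (segs.getD 3 ([], [])).2 ∨
        (segs.getD k.val ([], [])).2 = (segs.getD 11 ([], [])).2) := by decide +kernel
  rcases hc k with ⟨e, hk⟩ | ⟨hk, e | e⟩
  · rw [if_pos hk, ab_eq C (i := k) (j := 2) e]
  · rw [if_neg hk, ab_eq C (i := k) (j := 3) e, h0]
  · rw [if_neg hk, ab_eq C (i := k) (j := 11) e, h1]

/-- The element with given exponents. -/
noncomputable def elt (a : ℕ) : C.grp :=
  ((List.finRange 12).map fun k : Fin 12 =>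
    if ev a [2 ^ k.val] then gG C k else 1).prod

theorem elt_val (a : ℕ) : (elt C a : GL chevF4.Idx K2) = vl a word := by
  rw [elt, Subgroup.val_list_prod, List.map_map, word,
    show List.range 12 = (List.finRange 12).map Fin.val from (List.map_coe_finRange_eq_range).symm]
  generalize List.finRange 12 = l
  induction l with
  | nil => rfl
  | cons k l ih =>
    rw [List.map_cons, List.map_cons, List.flatMap_cons, vl, val_append, List.prod_cons, ih]
    refine congrArg₂ (· * ·) ?_ rfl
    rw [Function.comp_apply, show val good_F4 a (seg k.val [2 ^ k.val]) = _ from vl_seg a _ _]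
    split_ifs <;> rfl

theorem elt_mem_U1 (a : ℕ) : (elt C a : GL chevF4.Idx K2) ∈ C.Z.U1 := by
  refine Subgroup.mem_inf.mpr ⟨C.grp_le_fix (elt C a).2, ?_⟩
  obtain ⟨h1, h2⟩ := finished_spec co_word.1
  rw [elt_val, ← vl_co a _ _ h1, vl, Collect.val]
  generalize (co 3000 word).1.reverse = l at h2
  have hm : ∀ e ∈ l, IsPos chevF4 e.1 := fun e he => by
    have hm : e.1 ∈ List.range' 24 24 := h2 ▸ List.mem_map_of_mem he
    rw [List.mem_range'_1] at hm
    exact ⟨show e.1 < 48 by omega, show 48 ≤ 2 * e.1 by omega⟩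
  clear h2
  induction l with
  | nil => rw [List.map_nil, List.prod_nil]; exact one_mem (chevF4.posUnipotent K2)
  | cons e l ih =>
    rw [List.map_cons, List.prod_cons]
    exact mul_mem (good_F4.x_mem_pos (hm e (List.mem_cons_self ..)) _)
      (ih fun e' he' => hm e' (List.mem_cons_of_mem _ he'))

attribute [local irreducible] elt

theorem lt_blocks {P : ℕ → Bool} (h : allBelow (fun i => allBelow (fun j => P (64 * i + j)) 64) 64
    = true) {a : ℕ} (ha : a < 4096) : P a = true := by
  simp only [allBelow_iff] at h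
  have := h (a / 64) (by omega) (a % 64) (by omega)
  rwa [Nat.div_add_mod] at this

theorem dec_elt {a : ℕ} (ha : a < 4096) :
    dec (fun r => ev a (poly (co 3000 word).1.reverse r)) = a := by
  have h := Nat.eq_of_beq_eq_true (lt_blocks (P := fun a => Nat.beq (dec' a) a) chk_dec ha)
  conv_rhs => rw [← h]
  have hp := List.all_eq_true.mp co_word.2
  simp only [decide_eq_true_eq] at hp
  rw [dec, dec']
  refine List.foldl_ext _ _ _ fun a' p hp' => ?_
  show (if xor (ev a (poly _ p.2.1)) _ then _ else _) = _
  rw [hp p hp']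

theorem elt_inj {a b : ℕ} (ha : a < 4096) (hb : b < 4096) (h : elt C a = elt C b) : a = b := by
  obtain ⟨h1, h2⟩ := finished_spec co_word.1
  have e := congrArg (fun g : C.grp => (g : GL chevF4.Idx K2)) h
  simp only [elt_val] at e
  rw [← vl_co a _ _ h1, ← vl_co b _ _ h1] at e
  have hco := coeff_inj h2 h2 e
  have hrange : ∀ p ∈ pivots, 24 ≤ p.2.1 ∧ p.2.1 < 48 := by decide +kernel
  rw [← dec_elt ha, ← dec_elt hb, dec, dec]
  refine List.foldl_ext _ _ _ fun a' p hp => ?_
  show (if xor (ev a (poly _ p.2.1)) _ then _ else _) = _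
  rw [hco _ (hrange p hp).1 (hrange p hp).2]

theorem exists_elt {g : C.grp} (hg : (g : GL chevF4.Idx K2) ∈ C.Z.U1) :
    ∃ a < 4096, elt C a = g := by
  let f : Fin 4096 → C.Z.U1 := fun a => ⟨_, elt_mem_U1 C a.val⟩
  have hinj : Function.Injective f := fun a b h => by
    have e : (elt C a.val : GL chevF4.Idx K2) = (elt C b.val : GL chevF4.Idx K2) :=
      Subtype.mk.inj h
    exact Fin.ext (elt_inj C a.isLt b.isLt (Subtype.ext e))
  have hcard : Nat.card C.Z.U1 = (2 ^ (2 * 0 + 1)) ^ 12 := C.card_U1
  have hpow : (2 ^ (2 * 0 + 1)) ^ 12 = 4096 := by norm_num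
  rw [hpow] at hcard
  haveI : Finite C.Z.U1 := Nat.finite_of_card_ne_zero (by omega)
  have hb : Function.Bijective f :=
    hinj.bijective_of_nat_card_le (by rw [hcard, Nat.card_eq_fintype_card, Fintype.card_fin])
  obtain ⟨a, ha⟩ := hb.2 ⟨_, hg⟩
  exact ⟨a, a.isLt, Subtype.ext (congrArg (fun u : C.Z.U1 => (u : GL chevF4.Idx K2)) ha)⟩

theorem ev_bit (a i : ℕ) : ev a [2 ^ i] = a.testBit i := by
  show xor (Nat.beq (2 ^ i &&& a) (2 ^ i)) false = _
  rw [Bool.xor_false, Nat.and_comm, Nat.and_two_pow]
  cases a.testBit i <;> simp [(Nat.two_pow_pos i).ne, Bool.eq_false_iff]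

theorem ab_elt (a : ℕ) :
    Abelianization.of (elt C a) =
      if parity a then Abelianization.of (gG C 2) else 1 := by
  set t := Abelianization.of (gG C 2)
  have ht : t * t = 1 := by
    have h := gG_rel C (L := [2, 2]) (L' := [3]) (by decide)
    simp only [List.map_cons, List.map_nil, List.prod_cons, List.prod_nil, mul_one] at h
    rw [h, ab_values C 3]
    rfl
  have e : Abelianization.of (elt C a) = ((List.finRange 12).map fun k : Fin 12 =>
      if k.val ∈ [2, 4, 6, 9] ∧ a.testBit k.val then t else 1).prod := by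
    rw [elt, map_list_prod, List.map_map]
    refine congrArg List.prod (List.map_congr_left fun k _ => ?_)
    simp only [Function.comp_apply, ev_bit]
    cases a.testBit k.val
    · simp
    · simp only [if_true, and_true]
      exact ab_values C k
  rw [e, show List.finRange 12 = [0, 1, 2, 3, 4, 5, 6, 7, 8, 9, 10, 11] by decide]
  simp [parity]
  cases a.testBit 2 <;> cases a.testBit 4 <;> cases a.testBit 6 <;> cases a.testBit 9 <;>
    simp [ht]

theorem parity_of_sq {a : ℕ} (ha : a < 4096) (h : elt C a * elt C a = 1) : parity a = false := by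
  by_contra hp
  rw [Bool.not_eq_false] at hp
  have hc := lt_blocks (P := fun a => !(parity a) || sqPolys.any (fun p => ev a p.2)) chk_parity ha
  simp only [hp, Bool.not_true, Bool.false_or, List.any_eq_true] at hc
  obtain ⟨p, hp', hev⟩ := hc
  obtain ⟨h1, h2⟩ := finished_spec co_square.1
  have e := congrArg (fun g : C.grp => (g : GL chevF4.Idx K2)) h
  simp only [Subgroup.coe_mul, elt_val, OneMemClass.coe_one] at e
  rw [← val_append, show val good_F4 a (word ++ word) = vl a (word ++ word) from rfl,
    ← vl_co a _ _ h1, ← vl_zeros a] at e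
  have hz : (zeros.reverse.map Prod.fst) = List.range' 24 24 := by decide +kernel
  have hrange : ∀ p ∈ sqPolys, 24 ≤ p.1 ∧ p.1 < 48 ∧ poly zeros.reverse p.1 = [] := by
    decide +kernel
  obtain ⟨r1, r2, r3⟩ := hrange p hp'
  have hq := coeff_inj h2 hz e p.1 r1 r2
  have hpol := List.all_eq_true.mp co_square.2 p hp'
  simp only [decide_eq_true_eq] at hpol
  rw [hpol, hev, r3] at hq
  exact Bool.noConfusion hq

/-- Every involution lies in the commutator subgroup. -/
theorem involution_mem (g : C.grp) (hg : orderOf g = 2) : g ∈ commutator C.grp := by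
  haveI : Fact (Nat.Prime 2) := ⟨Nat.prime_two⟩
  have hcG : Nat.card C.grp = 2 ^ 12 * 8775 := by
    show Nat.card C.Z.G1 = _
    rw [C.card_group]; norm_num
  haveI : Finite C.grp := Nat.finite_of_card_ne_zero (by omega)
  let S : Subgroup C.grp := C.Z.U1.subgroupOf C.grp
  have hS : Nat.card S = 2 ^ 12 := by
    rw [Nat.card_congr (Subgroup.subgroupOfEquivOfLe (show C.Z.U1 ≤ C.grp from C.Z.U1_le)).toEquiv,
      C.card_U1]
    norm_num
  have hfac : (Nat.card C.grp).factorization 2 = 12 := by
    have h0 : Nat.factorization 8775 2 = 0 := Nat.factorization_eq_zero_of_not_dvd (by norm_num)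
    rw [hcG, Nat.factorization_mul (by norm_num) (by norm_num),
      Nat.Prime.factorization_pow Nat.prime_two]
    simp [h0]
  let P : Sylow 2 C.grp := Sylow.ofCard S (by rw [hS, hfac])
  have hp : IsPGroup 2 (Subgroup.zpowers g) :=
    IsPGroup.of_card (n := 1) (by rw [Nat.card_zpowers, hg, pow_one])
  obtain ⟨Q, hQ⟩ := hp.exists_le_sylow
  obtain ⟨x, hx⟩ := MulAction.exists_smul_eq C.grp Q P
  have hu : x * g * x⁻¹ ∈ S := by
    have : x * g * x⁻¹ ∈ ((x • Q : Sylow 2 C.grp) : Subgroup C.grp) := by
      rw [Sylow.smul_def, Sylow.pointwise_smul_def]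
      exact ⟨g, hQ (Subgroup.mem_zpowers g), rfl⟩
    rw [hx] at this
    exact this
  obtain ⟨a, ha, hea⟩ := exists_elt C (Subgroup.mem_subgroupOf.mp hu)
  have hsq : elt C a * elt C a = 1 := by
    rw [hea]
    have : g * g = 1 := by
      have := pow_orderOf_eq_one g
      rwa [hg, pow_two] at this
    calc x * g * x⁻¹ * (x * g * x⁻¹) = x * (g * g) * x⁻¹ := by group
      _ = 1 := by rw [this]; group
  have hab : Abelianization.of (x * g * x⁻¹) = 1 := by
    rw [← hea, ab_elt, parity_of_sq C ha hsq]
    rfl
  rw [map_mul, map_mul, map_inv, mul_comm (Abelianization.of x), mul_inv_cancel_right] at hab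
  rw [← Abelianization.ker_of]
  exact hab

end CfsgLib.Chev.F4Two
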