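import Cfsg.Agent.Chev.RootElem
import Mathlib.RingTheory.Nilpotent.Exp

/-!
Root elements act as automorphisms: `x_r(t) ad(v) = ad(x_r(t) v) x_r(t)`, the exponential
description over rings containing the rationals, and conjugation by diagonal matrices.
-/

set_option autoImplicit false

namespace CfsgLib.Chev

open Cfsg.Lie Matrix

namespace Tab

variable {D : ChevalleyDatum} (T : Tab D)

/-- The structure matrices over a ring. -/
def adR (R : Type*) [CommRing R] (b : D.Idx) : Matrix D.Idx D.Idx R :=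
  (T.adM b).map (Int.cast : ℤ → R)

/-- The linear extension of `adR`. -/
def ADR {R : Type*} [CommRing R] (v : D.Idx → R) : Matrix D.Idx D.Idx R := ∑ b, v b • T.adR R b

theorem ADR_single {R : Type*} [CommRing R] (b : D.Idx) (c : R) :
    T.ADR (Pi.single b c) = c • T.adR R b := by
  unfold ADR
  rw [Finset.sum_eq_single b]
  · simp
  · intro x _ hx; simp [Pi.single_eq_of_ne hx]
  · intro h; exact absurd (Finset.mem_univ b) h

theorem ADR_add {R : Type*} [CommRing R] (u v : D.Idx → R) :
    T.ADR (u + v) = T.ADR u + T.ADR v := by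
  simp [ADR, Finset.sum_add_distrib, add_smul]

theorem ADR_smul {R : Type*} [CommRing R] (c : R) (v : D.Idx → R) :
    T.ADR (c • v) = c • T.ADR v := by
  simp [ADR, Finset.smul_sum, smul_smul]

theorem map_adLin {R : Type*} [CommRing R] (v : D.Idx → ℤ) :
    (adLin T.adM v).map (Int.cast : ℤ → R) = T.ADR (fun b => (v b : R)) := by
  ext x y
  simp only [adLin, ADR, adR, Matrix.map_apply, Matrix.sum_apply, Matrix.smul_apply, smul_eq_mul,
    Int.cast_sum, Int.cast_mul]

namespace Cert

variable {T} (C : T.Cert)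
include C

theorem leibniz {r : ℕ} (hr : r < D.nroots) (b : D.Idx) :
    T.P 1 r * T.adM b = adLin T.adM (fun x => T.P 1 r x b) + T.adM b * T.P 1 r := by
  have h := C.jacobi (Sum.inr ⟨r, hr⟩) b
  rw [T.adM_inr, cm, sub_eq_iff_eq_add] at h
  exact h

theorem P1_adLin {r : ℕ} (hr : r < D.nroots) (v : D.Idx → ℤ) :
    T.P 1 r * adLin T.adM v = adLin T.adM (T.P 1 r *ᵥ v) + adLin T.adM v * T.P 1 r := by
  have h := (C.jacobi (Sum.inr ⟨r, hr⟩)).apply v
  rw [T.adM_inr, cm, sub_eq_iff_eq_add] at h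
  exact h

/-- The `j`-th Leibniz sum. -/
theorem P_adM {r : ℕ} (hr : r < D.nroots) (b : D.Idx) (j : ℕ) :
    T.P j r * T.adM b = ∑ i ∈ Finset.range (j + 1),
      adLin T.adM (fun x => T.P i r x b) * T.P (j - i) r := by
  induction j with
  | zero =>
    have e : (fun x => T.P 0 r x b) = Pi.single b 1 := by
      funext x
      rw [T.P_zero, Matrix.one_apply]
      rcases eq_or_ne x b with h | h
      · subst h; simp
      · simp [h]
    rw [Finset.sum_range_one, e, adLin_single, T.P_zero]
    simp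
  | succ j ih =>
    have hne : ((j + 1 : ℕ) : ℤ) ≠ 0 := by exact_mod_cast Nat.succ_ne_zero j
    apply smul_right_injective _ hne
    show ((j + 1 : ℕ) : ℤ) • (T.P (j + 1) r * T.adM b) = _
    rw [← Matrix.smul_mul, ← C.P_succ hr j, mul_assoc, ih, Matrix.mul_sum]
    set F : ℕ → ℕ → Matrix D.Idx D.Idx ℤ := fun i k =>
      adLin T.adM (fun x => T.P i r x b) * T.P k r with hF
    show ∑ i ∈ Finset.range (j + 1), T.P 1 r * F i (j - i) =
      ((j + 1 : ℕ) : ℤ) • ∑ i ∈ Finset.range (j + 1 + 1), F i (j + 1 - i)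
    have key : ∀ i k, T.P 1 r * F i k =
        ((i + 1 : ℕ) : ℤ) • F (i + 1) k + ((k + 1 : ℕ) : ℤ) • F i (k + 1) := by
      intro i k
      simp only [hF]
      rw [← mul_assoc, C.P1_adLin hr, add_mul, mul_assoc, C.P_succ hr k, Matrix.mul_smul]
      congr 1
      rw [← Matrix.smul_mul, ← adLin_smul]
      congr 2
      funext x
      show (T.P 1 r * T.P i r) x b = _
      rw [C.P_succ hr i]
      rfl
    simp only [key, Finset.sum_add_distrib]
    have h1 : ∑ i ∈ Finset.range (j + 1), ((i + 1 : ℕ) : ℤ) • F (i + 1) (j - i) =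
        ∑ i ∈ Finset.range (j + 1 + 1), (i : ℤ) • F i (j + 1 - i) := by
      rw [Finset.sum_range_succ' _ (j + 1)]
      simp
    have h2 : ∑ i ∈ Finset.range (j + 1), ((j - i + 1 : ℕ) : ℤ) • F i (j - i + 1) =
        ∑ i ∈ Finset.range (j + 1 + 1), ((j + 1 - i : ℕ) : ℤ) • F i (j + 1 - i) := by
      rw [Finset.sum_range_succ _ (j + 1), Nat.sub_self, Nat.cast_zero, zero_smul, add_zero]
      refine Finset.sum_congr rfl fun i hi => ?_
      rw [show j - i + 1 = j + 1 - i by simp at hi; omega]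
    rw [h1, h2, ← Finset.sum_add_distrib, Finset.smul_sum]
    refine Finset.sum_congr rfl fun i hi => ?_
    rw [← add_smul]
    congr 1
    simp at hi
    omega

theorem X_mul_adR {R : Type*} [CommRing R] {r : ℕ} (hr : r < D.nroots) (t : R) (b : D.Idx) :
    T.X R r t * T.adR R b = T.ADR (fun x => T.X R r t x b) * T.X R r t := by
  let f : Matrix D.Idx D.Idx ℤ →+* Matrix D.Idx D.Idx R := (Int.castRingHom R).mapMatrix
  have hcol : T.ADR (fun x => T.X R r t x b) =
      ∑ i ∈ Finset.range 4, t ^ i • f (adLin T.adM (fun x => T.P i r x b)) := by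
    show _ = ∑ i ∈ Finset.range 4, t ^ i • (adLin T.adM (fun x => T.P i r x b)).map (Int.cast : ℤ → R)
    simp only [T.map_adLin, ← T.ADR_smul, Finset.sum_range_succ, Finset.sum_range_zero, zero_add,
      ← T.ADR_add]
    congr 1
    funext x
    simp [X, Finset.sum_range_succ]
  rw [hcol]
  show (∑ j ∈ Finset.range 4, t ^ j • f (T.P j r)) * f (T.adM b) =
    _ * (∑ j ∈ Finset.range 4, t ^ j • f (T.P j r))
  set F : ℕ → Matrix D.Idx D.Idx R := fun i => f (adLin T.adM (fun x => T.P i r x b)) with hF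
  have key : ∀ j, f (T.P j r) * f (T.adM b) =
      ∑ i ∈ Finset.range (j + 1), F i * f (T.P (j - i) r) := by
    intro j
    rw [← map_mul, C.P_adM hr b j, map_sum]
    simp [hF, map_mul]
  have hz : ∀ j, 4 ≤ j → f (T.P j r) = 0 := fun j hj => by rw [T.P_large hj, map_zero]
  have hzF : ∀ i, 4 ≤ i → F i = 0 := by
    intro i hi
    have e : (fun x => T.P i r x b) = (0 : D.Idx → ℤ) := by funext x; rw [T.P_large hi]; rfl
    simp only [hF, e, adLin_zero, map_zero]
  have e4 := key 4
  have e5 := key 5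
  have e6 := key 6
  simp only [Finset.sum_range_succ, Finset.sum_range_zero, zero_add, Nat.sub_zero, Nat.reduceSub,
    hz 4 (by omega), hz 5 (by omega), hz 6 (by omega), hzF 4 (by omega), hzF 5 (by omega),
    hzF 6 (by omega), zero_mul, mul_zero, add_zero, zero_add] at e4 e5 e6
  simp only [Finset.sum_range_succ, Finset.sum_range_zero, zero_add, add_mul, mul_add,
    smul_mul_smul_comm]
  simp only [Matrix.smul_mul, key, Finset.sum_range_succ, Finset.sum_range_zero, zero_add,
    Nat.sub_zero, Nat.reduceSub, smul_add]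
  linear_combination (norm := module) t ^ 4 • e4 + t ^ 5 • e5 + t ^ 6 • e6

theorem X_mul_ADR {R : Type*} [CommRing R] {r : ℕ} (hr : r < D.nroots) (t : R) (v : D.Idx → R) :
    T.X R r t * T.ADR v = T.ADR (T.X R r t *ᵥ v) * T.X R r t := by
  have e : T.X R r t *ᵥ v = ∑ b, v b • fun x => T.X R r t x b := by
    funext x
    simp [Matrix.mulVec, dotProduct, mul_comm]
  rw [e]
  have hs : T.ADR (∑ b, v b • fun x => T.X R r t x b) =
      ∑ b, v b • T.ADR (fun x => T.X R r t x b) := by
    refine (map_sum (AddMonoidHom.mk' (T.ADR (R := R)) T.ADR_add) _ Finset.univ).trans ?_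
    exact Finset.sum_congr rfl fun b _ => T.ADR_smul _ _
  rw [hs, Finset.sum_mul]
  simp only [ADR, Matrix.mul_sum, Matrix.mul_smul]
  exact Finset.sum_congr rfl fun b _ => by
    rw [C.X_mul_adR hr t b, Matrix.smul_mul]
    rfl

/-! ### Over a ring containing the rationals -/

theorem A_pow_four {r : ℕ} (hr : r < D.nroots) : T.P 1 r ^ 4 = 0 := by
  rw [← C.factorial_P hr 4, T.P_large (le_refl 4), smul_zero]

theorem adR_pow_four {R : Type*} [CommRing R] {r : ℕ} (hr : r < D.nroots) :
    T.adR R (Sum.inr ⟨r, hr⟩) ^ 4 = 0 := by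
  have e : T.adR R (Sum.inr ⟨r, hr⟩) = (Int.castRingHom R).mapMatrix (T.P 1 r) := by
    rw [adR, T.adM_inr]; rfl
  rw [e, ← map_pow, C.A_pow_four hr, map_zero]

theorem X_eq_exp {R : Type*} [CommRing R] [Algebra ℚ R] {r : ℕ} (hr : r < D.nroots) (t : R) :
    T.X R r t = IsNilpotent.exp (t • T.adR R (Sum.inr ⟨r, hr⟩)) := by
  have h4 : (t • T.adR R (Sum.inr ⟨r, hr⟩)) ^ 4 = 0 := by
    rw [smul_pow, C.adR_pow_four hr, smul_zero]
  rw [IsNilpotent.exp_eq_sum h4]
  refine Finset.sum_congr rfl fun j _ => ?_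
  have e : T.adR R (Sum.inr ⟨r, hr⟩) = (Int.castRingHom R).mapMatrix (T.P 1 r) := by
    rw [adR, T.adM_inr]; rfl
  rw [smul_pow, e, ← map_pow, ← C.factorial_P hr j, map_zsmul, smul_comm,
    show (j.factorial : ℤ) • ((Int.castRingHom R).mapMatrix (T.P j r)) =
      (j.factorial : ℚ) • ((Int.castRingHom R).mapMatrix (T.P j r)) from by
        rw [natCast_zsmul, Nat.cast_smul_eq_nsmul],
    smul_smul, inv_mul_cancel₀ (by exact_mod_cast j.factorial_ne_zero), one_smul]
  rfl

/-! ### Diagonal matrices -/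

theorem diag_mul_X {R : Type*} [CommRing R] {w : ℕ → ℤ} (hw : T.IsAdd w) (c : Rˣ) {r : ℕ}
    (hr : r < D.nroots) (t : R) :
    Matrix.diagonal (fun b : D.Idx => ((c ^ w (code b) : Rˣ) : R)) * T.X R r t =
      T.X R r (((c ^ w r : Rˣ) : R) * t) *
        Matrix.diagonal (fun b : D.Idx => ((c ^ w (code b) : Rˣ) : R)) := by
  simp only [X, Matrix.mul_sum, Matrix.sum_mul, Matrix.mul_smul, Matrix.smul_mul]
  refine Finset.sum_congr rfl fun j hj => ?_
  ext x y
  simp only [Matrix.smul_apply, Matrix.diagonal_mul, Matrix.mul_diagonal, Matrix.map_apply,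
    smul_eq_mul]
  rcases eq_or_ne (T.P j r x y) 0 with h | h
  · simp [h]
  have hwx : w (code x) = (j : ℤ) * w r + w (code y) := by
    rcases Nat.eq_zero_or_pos j with hj0 | hj0
    · subst hj0
      rw [T.P_zero, Matrix.one_apply] at h
      have : x = y := by by_contra hne; rw [if_neg hne] at h; exact h rfl
      subst this
      simp
    · simp only [Finset.mem_range] at hj
      simp only [P, show j ≠ 0 by omega, show j ≤ 3 by omega, if_false, if_true] at h
      exact C.A_hom hw hj0 hr x y h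
  rw [hwx, _root_.zpow_add, mul_pow, Units.val_mul, mul_comm ((j : ℤ)) (w r), _root_.zpow_mul,
    zpow_natCast, Units.val_pow_eq_pow_val]
  ring

/-- Conjugating a root element by an integral matrix which maps `ad e_r` to `η · ad e_k`. -/
theorem conj_X_of_int {R : Type*} [CommRing R] (U U' : Matrix D.Idx D.Idx ℤ) (hU : U' * U = 1)
    {r k : ℕ} (hr : r < D.nroots) (hk : k < D.nroots) (η : ℤ)
    (h : U * T.A 1 r = (η • T.A 1 k) * U) (t : R) :
    (Int.castRingHom R).mapMatrix U * T.X R r t =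
      T.X R k ((η : R) * t) * (Int.castRingHom R).mapMatrix U := by
  have hpow : ∀ j : ℕ, U * T.P 1 r ^ j = (η • T.P 1 k) ^ j * U := by
    intro j
    induction j with
    | zero => simp
    | succ j ih =>
      rw [pow_succ', ← mul_assoc, T.P_one, h, pow_succ', mul_assoc (η • T.P 1 k), ← ih,
        T.P_one, T.P_one, mul_assoc]
  have hP : ∀ j : ℕ, U * T.P j r = (η ^ j • T.P j k) * U := by
    intro j
    apply smul_right_injective _
      (show (j.factorial : ℤ) ≠ 0 by exact_mod_cast j.factorial_ne_zero)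
    show (j.factorial : ℤ) • (U * T.P j r) = (j.factorial : ℤ) • ((η ^ j • T.P j k) * U)
    rw [← Matrix.mul_smul, C.factorial_P hr, hpow, smul_pow, ← Matrix.smul_mul, smul_comm,
      C.factorial_P hk]
  simp only [X, Matrix.mul_sum, Matrix.sum_mul, Matrix.mul_smul, Matrix.smul_mul]
  refine Finset.sum_congr rfl fun j _ => ?_
  show t ^ j • ((Int.castRingHom R).mapMatrix U * (Int.castRingHom R).mapMatrix (T.P j r)) =
    ((η : R) * t) ^ j • ((Int.castRingHom R).mapMatrix (T.P j k) * (Int.castRingHom R).mapMatrix U)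
  rw [← map_mul, hP, Matrix.smul_mul, map_zsmul, ← map_mul, mul_pow, mul_smul, ← Int.cast_pow,
    smul_comm (t ^ j), Int.cast_smul_eq_zsmul]

end Cert

end Tab

end CfsgLib.Chev
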