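import Cfsg.Agent.Chev.Weyl
import Cfsg.Prelude.Def_LieExceptional

/-!
The (B, N)-pair of a Chevalley group.
-/

set_option autoImplicit false

namespace CfsgLib.Chev

open Cfsg.Lie Matrix
open scoped MatrixGroups

namespace Tab

variable {D : ChevalleyDatum}

/-- Positive roots which stay positive under `σ`. -/
def keepSet {D : ChevalleyDatum} (σ : Equiv.Perm (Fin D.nroots)) : Set ℕ :=
  {s | ∃ h : s < D.nroots, IsPos D s ∧ IsPos D (σ ⟨s, h⟩).val}

/-- Positive roots which become negative under `σ`. -/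
def flipSet {D : ChevalleyDatum} (σ : Equiv.Perm (Fin D.nroots)) : Set ℕ :=
  {s | ∃ h : s < D.nroots, IsPos D s ∧ ¬ IsPos D (σ ⟨s, h⟩).val}

theorem pos_eq_keep_union_flip {D : ChevalleyDatum} (σ : Equiv.Perm (Fin D.nroots)) :
    {r | IsPos D r} = keepSet σ ∪ flipSet σ := by
  ext r
  constructor
  · intro h
    by_cases h' : IsPos D (σ ⟨r, h.1⟩).val
    · exact Or.inl ⟨h.1, h, h'⟩
    · exact Or.inr ⟨h.1, h, h'⟩
  · rintro (⟨-, h, -⟩ | ⟨-, h, -⟩) <;> exact h

namespace Good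

variable {T : Tab D} (G : T.Good) {F : Type*} [Field F]
include G

theorem rootT_add {a b i k : ℕ} (ha : a < D.nroots) (hb : b < D.nroots)
    (h : T.rootT a b i = some k) :
    k < D.nroots ∧ ∃ m : ℤ, 1 ≤ m ∧ ∀ w : ℕ → ℤ, T.IsAdd w → w k = m * w a + w b := by
  simp only [rootT, Option.map_eq_some_iff] at h
  obtain ⟨p, hp, rfl⟩ := h
  exact ⟨(G.full.cert.ent_spec ha hb hp).1, ((i - 1 : ℕ) : ℤ) + 1, by omega,
    fun w hw => by have := hw.chain a ha b hb _ p hp; push_cast at this; exact this⟩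

theorem comm_add {r s : ℕ} (hr : r < D.nroots) (hs : s < D.nroots) {c : ℕ × ℤ × ℕ × ℕ}
    (hc : c ∈ T.commT r s) :
    ∃ i j : ℤ, 1 ≤ i ∧ 1 ≤ j ∧ ∀ w : ℕ → ℤ, T.IsAdd w → w c.1 = i * w r + j * w s := by
  simp only [commT, List.mem_filterMap, List.mem_cons, List.not_mem_nil, or_false] at hc
  obtain ⟨a, ha, hc⟩ := hc
  obtain ⟨k, hk, rfl⟩ := Option.map_eq_some_iff.mp hc
  rcases ha with rfl | rfl | rfl | rfl | rfl | rfl | rfl
  · obtain ⟨-, m, hm, e⟩ := G.rootT_add hr hs hk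
    exact ⟨m, 1, hm, le_rfl, fun w hw => by rw [e w hw]; ring⟩
  · obtain ⟨-, m, hm, e⟩ := G.rootT_add hr hs hk
    exact ⟨m, 1, hm, le_rfl, fun w hw => by rw [e w hw]; ring⟩
  · obtain ⟨-, m, hm, e⟩ := G.rootT_add hs hr hk
    exact ⟨1, m, le_rfl, hm, fun w hw => by rw [e w hw]; ring⟩
  · obtain ⟨-, m, hm, e⟩ := G.rootT_add hr hs hk
    exact ⟨m, 1, hm, le_rfl, fun w hw => by rw [e w hw]; ring⟩
  · obtain ⟨-, m, hm, e⟩ := G.rootT_add hs hr hk
    exact ⟨1, m, le_rfl, hm, fun w hw => by rw [e w hw]; ring⟩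
  · obtain ⟨k', hk', hk''⟩ := Option.bind_eq_some_iff.mp hk
    obtain ⟨hlt, m, hm, e⟩ := G.rootT_add hr hs hk'
    obtain ⟨-, m', hm', e'⟩ := G.rootT_add hlt hs hk''
    exact ⟨m' * m, m' + 1, by nlinarith, by omega, fun w hw => by rw [e' w hw, e w hw]; ring⟩
  · obtain ⟨k', hk', hk''⟩ := Option.bind_eq_some_iff.mp hk
    obtain ⟨hlt, m, hm, e⟩ := G.rootT_add hs hr hk'
    obtain ⟨-, m', hm', e'⟩ := G.rootT_add hlt hr hk''
    exact ⟨m' + 1, m' * m, by omega, by nlinarith, fun w hw => by rw [e' w hw, e w hw]; ring⟩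

theorem pos_iff_ht {s : ℕ} (hs : s < D.nroots) : IsPos D s ↔ 0 < T.ht s := by
  rw [(G.full.cert.root_spec hs).2.1]
  exact ⟨fun h => h.2, fun h => ⟨hs, h⟩⟩

/-- The height after applying a word is a combination of additive functions. -/
theorem ht_pw : ∀ L : List (Fin D.rank), ∃ (a : ℤ) (b : Fin D.rank → ℤ), ∀ s : Fin D.nroots,
    T.ht (G.full.pw L s) = a * T.ht s + ∑ k : Fin D.rank, b k * T.cart k s := by
  intro L
  induction L using List.reverseRecOn with
  | nil => exact ⟨1, 0, fun s => by simp [Full.pw]⟩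
  | append_singleton L i ih =>
    obtain ⟨a, b, hab⟩ := ih
    refine ⟨a, fun k => b k - if k = i then a + ∑ l : Fin D.rank, b l * T.cart l (D.simple i) else 0,
      fun s => ?_⟩
    rw [G.pw_append, Equiv.Perm.mul_apply, show G.full.pw [i] = G.full.refl i by simp [Full.pw],
      hab]
    obtain ⟨-, -, -, hht, hlin, -⟩ := G.full.reflT_spec i.isLt s.isLt
    show a * T.ht (T.reflT i s) + ∑ k : Fin D.rank, b k * T.cart k (T.reflT i s) = _
    rw [hht]
    have hsum : ∑ k : Fin D.rank, b k * T.cart k (T.reflT i s) =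
        ∑ k : Fin D.rank, b k * T.cart k s -
          T.cart i s * ∑ l : Fin D.rank, b l * T.cart l (D.simple i) := by
      rw [Finset.mul_sum, ← Finset.sum_sub_distrib]
      refine Finset.sum_congr rfl fun k _ => ?_
      rw [(hlin k k.isLt).1]
      ring
    rw [hsum]
    simp only [sub_mul, ite_mul, zero_mul, Finset.sum_sub_distrib, Finset.sum_ite_eq',
      Finset.mem_univ, if_true]
    ring

theorem ht_pw_comm (L : List (Fin D.rank)) {r s : ℕ} (hr : r < D.nroots) (hs : s < D.nroots)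
    {c : ℕ × ℤ × ℕ × ℕ} (hc : c ∈ T.commT r s) (hcl : c.1 < D.nroots) :
    ∃ i j : ℤ, 1 ≤ i ∧ 1 ≤ j ∧ T.ht (G.full.pw L ⟨c.1, hcl⟩) =
      i * T.ht (G.full.pw L ⟨r, hr⟩) + j * T.ht (G.full.pw L ⟨s, hs⟩) := by
  obtain ⟨i, j, hi, hj, hw⟩ := G.comm_add hr hs hc
  obtain ⟨a, b, hab⟩ := G.ht_pw L
  refine ⟨i, j, hi, hj, ?_⟩
  have eg := hw T.gr G.full.cert.isAdd_gr
  rw [T.gr_root hcl, T.gr_root hr, T.gr_root hs] at eg
  have ew : ∀ k : Fin D.rank, T.cart k c.1 = i * T.cart k r + j * T.cart k s := fun k => by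
    have := hw _ (G.full.cert.isAdd_wt k.isLt)
    rwa [T.wt_root hcl, T.wt_root hr, T.wt_root hs] at this
  rw [hab, hab, hab]
  simp only [eg, ew, mul_add, Finset.mul_sum, Finset.sum_add_distrib, ← add_assoc]
  ring_nf

theorem closed_keep (L : List (Fin D.rank)) : T.Closed (keepSet (G.full.pw L)) := by
  refine ⟨fun r ⟨_, h, _⟩ => h, fun r ⟨hr, hr1, hr2⟩ s ⟨hs, hs1, hs2⟩ c hc => ?_⟩
  have hk := G.comm_keys hr1 hs1 hc
  obtain ⟨i, j, hi, hj, e⟩ := G.ht_pw_comm L hr hs hc hk.1.1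
  refine ⟨hk.1.1, hk.1, (G.pos_iff_ht (Fin.isLt _)).mpr ?_⟩
  rw [e]
  have := (G.pos_iff_ht (Fin.isLt _)).mp hr2
  have := (G.pos_iff_ht (Fin.isLt _)).mp hs2
  positivity

theorem closed_flip (L : List (Fin D.rank)) : T.Closed (flipSet (G.full.pw L)) := by
  refine ⟨fun r ⟨_, h, _⟩ => h, fun r ⟨hr, hr1, hr2⟩ s ⟨hs, hs1, hs2⟩ c hc => ?_⟩
  have hk := G.comm_keys hr1 hs1 hc
  obtain ⟨i, j, hi, hj, e⟩ := G.ht_pw_comm L hr hs hc hk.1.1
  refine ⟨hk.1.1, hk.1, fun h => ?_⟩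
  rw [G.pos_iff_ht (Fin.isLt _)] at hr2 hs2 h
  rw [e] at h
  nlinarith

theorem pw_singleton (i : Fin D.rank) : G.full.pw [i] = G.full.refl i := by simp [Full.pw]

theorem mem_X {r : ℕ} {b : GL D.Idx F} (hb : b ∈ G.US F {r}) : ∃ t, b = G.full.x r t := by
  induction hb using Subgroup.closure_induction with
  | mem b hb => obtain ⟨s, rfl : s = r, t, rfl⟩ := hb; exact ⟨t, rfl⟩
  | one => exact ⟨0, by rw [G.full.x_zero]⟩
  | mul b c _ _ ihb ihc =>
    obtain ⟨t, rfl⟩ := ihb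
    obtain ⟨u, rfl⟩ := ihc
    exact ⟨t + u, G.full.x_add r t u⟩
  | inv b _ ih =>
    obtain ⟨t, rfl⟩ := ih
    exact ⟨-t, G.full.x_inv r t⟩

theorem x_eq_one {r : ℕ} (hr : r < D.nroots) {t : F} (h : G.full.x r t = 1) : t = 0 := by
  by_contra ht
  rw [← G.full.x_zero (F := F) (negR D r)] at h
  exact G.full.cert.negR_ne hr (G.x_inj_root hr (Cert.negR_lt hr) ht h).symm

theorem keep_refl (i : Fin D.rank) :
    keepSet (G.full.refl i) = {s | IsPos D s ∧ s ≠ D.simple i} := by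
  ext s
  constructor
  · rintro ⟨hs, h1, h2⟩
    refine ⟨h1, ?_⟩
    rintro rfl
    have h3 : IsPos D (G.full.refl i (G.full.simp' i)).val := h2
    rw [G.refl_simp] at h3
    exact (G.pos_negF.mp h3) (G.pos_simp i)
  · rintro ⟨h1, h2⟩
    exact ⟨h1.1, h1, (G.refl_pos i (s := ⟨s, h1.1⟩) h1 fun e => h2 (congrArg Fin.val e)).1⟩

theorem flip_refl (i : Fin D.rank) : flipSet (G.full.refl i) = {D.simple i} := by
  ext s
  constructor
  · rintro ⟨hs, h1, h2⟩
    by_contra h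
    exact h2 (G.refl_pos i (s := ⟨s, hs⟩) h1 fun e => h (congrArg Fin.val e)).1
  · rintro rfl
    exact ⟨G.full.simple_lt i.isLt, G.pos_simp i, by
      show ¬ IsPos D (G.full.refl i (G.full.simp' i)).val
      rw [G.refl_simp, G.pos_negF, not_not]; exact G.pos_simp i⟩

/-- The unipotent subgroup of the roots other than `p_i`. -/
theorem pos_split_simple (i : Fin D.rank) {u : GL D.Idx F} (hu : u ∈ D.posUnipotent F) :
    ∃ a ∈ G.US F {s | IsPos D s ∧ s ≠ D.simple i}, ∃ t, u = a * G.full.x (D.simple i) t := by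
  rw [G.posUnipotent_eq] at hu
  have e := pos_eq_keep_union_flip (G.full.refl i)
  have h1 := G.closed_keep [i]
  have h2 := G.closed_flip [i]
  rw [G.pw_singleton, G.keep_refl] at h1
  rw [G.pw_singleton, G.flip_refl] at h2
  rw [G.keep_refl, G.flip_refl] at e
  obtain ⟨a, ha, b, hb, rfl⟩ := G.US_split h1 h2 G.closed_pos e hu
  refine ⟨a, ha, ?_⟩
  obtain ⟨t, rfl⟩ := G.mem_X hb
  exact ⟨t, rfl⟩

theorem US_le_group (S : Set ℕ) : G.US F S ≤ D.group F := by
  rw [US, Subgroup.closure_le]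
  rintro g ⟨r, -, t, rfl⟩
  by_cases hr : r < D.nroots
  · refine Subgroup.subset_closure ⟨⟨r, hr⟩, t, ?_⟩
    rw [G.full.coe_x', ChevalleyDatum.x, dif_pos hr]
  · simp [Full.x, hr]

theorem x_mem_group (r : ℕ) (t : F) : G.full.x r t ∈ D.group F :=
  G.US_le_group {r} (G.x_mem_US (S := {r}) (Set.mem_singleton r) t)

theorem nr_mem_group (r : ℕ) (t : F) : G.full.nr r t ∈ D.group F :=
  mul_mem (mul_mem (G.x_mem_group _ _) (G.x_mem_group _ _)) (G.x_mem_group _ _)

theorem diagonal_le_group : D.diagonalSubgroup F ≤ D.group F := by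
  rw [ChevalleyDatum.diagonalSubgroup, Subgroup.closure_le]
  rintro g ⟨r, t, hr, -, hg⟩
  rw [← G.full.coe_hr r hr t] at hg
  rw [Units.ext hg]
  exact mul_mem (G.nr_mem_group _ _) (G.nr_mem_group _ _)

theorem monomial_le_group : D.monomialSubgroup F ≤ D.group F := by
  refine sup_le G.diagonal_le_group ?_
  rw [Subgroup.closure_le]
  rintro g ⟨r, hr, hg⟩
  rw [← G.full.coe_nr r hr] at hg
  rw [Units.ext hg]
  exact G.nr_mem_group _ _

theorem borel_le_group : D.borelSubgroup F ≤ D.group F :=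
  sup_le (by rw [G.posUnipotent_eq]; exact G.US_le_group _) G.diagonal_le_group

theorem group_le_iff {K : Subgroup (GL D.Idx F)} :
    D.group F ≤ K ↔ ∀ r < D.nroots, ∀ t : F, G.full.x r t ∈ K := by
  constructor
  · exact fun h r _ t => h (G.x_mem_group r t)
  · intro h
    rw [ChevalleyDatum.group, Subgroup.closure_le]
    rintro g ⟨r, t, hg⟩
    have : g = G.full.x r.val t := G.full.eq_x.mp (by
      rw [hg, ChevalleyDatum.x, dif_pos r.isLt])
    exact this ▸ h r r.isLt t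

theorem x_mem_pos {r : ℕ} (hr : IsPos D r) (t : F) : G.full.x r t ∈ D.posUnipotent F := by
  rw [G.posUnipotent_eq]; exact G.x_mem_US hr t

theorem x_mem_neg {r : ℕ} (hr : r < D.nroots) (hn : ¬ IsPos D r) (t : F) :
    G.full.x r t ∈ D.negUnipotent F := by
  rw [G.negUnipotent_eq]; exact G.x_mem_US (S := {r | r < D.nroots ∧ ¬ D.nroots ≤ 2 * r}) ⟨hr, fun h => hn ⟨hr, h⟩⟩ t

theorem borel_sup_monomial : D.borelSubgroup F ⊔ D.monomialSubgroup F = D.group F := by
  refine le_antisymm (sup_le G.borel_le_group G.monomial_le_group) (G.group_le_iff.mpr ?_)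
  intro r hr t
  obtain ⟨g, hg, j, hj, η, hη, h1, -⟩ := G.full.exists_conj (F := F) hr
  have hgN : g ∈ D.monomialSubgroup F := by
    refine (Subgroup.closure_le _).mpr ?_ hg
    rintro a ⟨i, hi, rfl⟩
    exact G.ns_mem_monomial ⟨i, hi⟩
  have e := h1 (η * t)
  rw [← mul_assoc, hη, one_mul] at e
  rw [← e]
  exact mul_mem (mul_mem (Subgroup.mem_sup_right hgN) (Subgroup.mem_sup_left
    (Subgroup.mem_sup_left (G.x_mem_pos (G.pos_simp ⟨j, hj⟩) _))))
    (inv_mem (Subgroup.mem_sup_right hgN))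

theorem pos_sup_neg : D.posUnipotent F ⊔ D.negUnipotent F = D.group F := by
  refine le_antisymm (sup_le (by rw [G.posUnipotent_eq]; exact G.US_le_group _)
    (by rw [G.negUnipotent_eq]; exact G.US_le_group _)) (G.group_le_iff.mpr fun r hr t => ?_)
  by_cases h : IsPos D r
  · exact Subgroup.mem_sup_left (G.x_mem_pos h t)
  · exact Subgroup.mem_sup_right (G.x_mem_neg hr h t)

theorem conj_x_act {g : GL D.Idx F} {σ : Equiv.Perm (Fin D.nroots)} (h : G.full.RootAct g σ)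
    {S S' : Set ℕ} (hS : ∀ s ∈ S, ∃ hs : s < D.nroots, (σ ⟨s, hs⟩).val ∈ S')
    {u : GL D.Idx F} (hu : u ∈ G.US F S) : g * u * g⁻¹ ∈ G.US F S' := by
  obtain ⟨c, hc⟩ := h
  refine G.conj_US g (fun r hr t => ?_) hu
  obtain ⟨hr', hmem⟩ := hS r hr
  rw [show G.full.x r t = G.full.x (⟨r, hr'⟩ : Fin D.nroots).val t from rfl, (hc _).2.2.2 t]
  exact G.x_mem_US hmem _

theorem ns_conj_Up (i : Fin D.rank) {a : GL D.Idx F}
    (ha : a ∈ G.US F {s | IsPos D s ∧ s ≠ D.simple i}) :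
    G.full.ns F i * a * (G.full.ns F i)⁻¹ ∈ G.US F {s | IsPos D s ∧ s ≠ D.simple i} :=
  G.conj_x_act (G.rootAct_ns i) (fun s hs => ⟨hs.1.1, by
    have h := G.refl_pos i (s := ⟨s, hs.1.1⟩) hs.1 fun e => hs.2 (congrArg Fin.val e)
    exact ⟨h.1, fun e => h.2 (Fin.ext e)⟩⟩) ha

theorem Up_le_pos (i : Fin D.rank) :
    G.US F {s | IsPos D s ∧ s ≠ D.simple i} ≤ D.posUnipotent F := by
  rw [G.posUnipotent_eq]
  exact G.US_mono fun s hs => hs.1

theorem x_simple_conj_Up (i : Fin D.rank) (t : F) {a : GL D.Idx F}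
    (ha : a ∈ G.US F {s | IsPos D s ∧ s ≠ D.simple i}) :
    G.full.x (D.simple i) t * a * (G.full.x (D.simple i) t)⁻¹ ∈
      G.US F {s | IsPos D s ∧ s ≠ D.simple i} := by
  have hp := G.pos_simp i
  refine G.conj_US _ (fun s hs u => ?_) ha
  have h := G.conj_pos (F := F) hp hs.1 t u (S := {s | IsPos D s ∧ s ≠ D.simple i}) fun _ c hc => by
    have hk := G.comm_keys hp hs.1 hc
    refine ⟨hk.1, fun e => ?_⟩
    have hlt := hk.2.1
    rw [e] at hlt
    exact lt_irrefl _ hlt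
  have h' := mul_mem (G.x_mem_US (S := {s | IsPos D s ∧ s ≠ D.simple i}) hs u) h
  rwa [mul_inv_cancel_left] at h'

theorem x_negR_simple_eq (i : Fin D.rank) (u : F) :
    ∃ v, G.full.x (negR D (D.simple i)) u =
      G.full.ns F i * G.full.x (D.simple i) v * (G.full.ns F i)⁻¹ := by
  refine ⟨-u, ?_⟩
  rw [G.full.ns_conj i.isLt (G.full.simple_lt i.isLt), G.full.simple_reflect i.isLt,
    (G.full.node_spec i.isLt).2.2.2.1]
  simp

theorem x_neg_decomp (r : ℕ) {u : F} (hu : u ≠ 0) :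
    G.full.x (negR D r) u = G.full.x r u⁻¹ * G.full.nr r (-u⁻¹) * G.full.x r u⁻¹ := by
  rw [Full.nr, neg_inv, inv_inv, neg_neg, ← neg_inv, ← G.full.x_inv]
  group

/-- The double coset `B g B` in the general linear group. -/
def dbl (g : GL D.Idx F) : Set (GL D.Idx F) :=
  DoubleCoset.doubleCoset g (D.borelSubgroup F : Set (GL D.Idx F)) (D.borelSubgroup F)

omit G in
theorem mem_dbl {g x : GL D.Idx F} :
    x ∈ dbl g ↔ ∃ b ∈ D.borelSubgroup F, ∃ c ∈ D.borelSubgroup F, x = b * g * c :=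
  DoubleCoset.mem_doubleCoset

theorem borel_hT (c : Fin D.rank → Fˣ) : T.hT F c ∈ D.borelSubgroup F :=
  Subgroup.mem_sup_right (by rw [G.full.diagonal_eq_range]; exact ⟨c, rfl⟩)

theorem pos_le_borel : D.posUnipotent F ≤ D.borelSubgroup F := le_sup_left

theorem conj_inv_simple {n : GL D.Idx F} (L : List (Fin D.rank))
    (hL : G.full.RootAct n (G.full.pw L)) (i : Fin D.rank) (t : F)
    (hpos : IsPos D ((G.full.pw L).symm (G.full.simp' i)).val) :
    ∃ b ∈ D.borelSubgroup F, G.full.x (D.simple i) t * n = n * b := by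
  obtain ⟨c, hc⟩ := hL
  set s := (G.full.pw L).symm (G.full.simp' i) with hs
  refine ⟨G.full.x s.val (((c s)⁻¹ : Fˣ) * t), pos_le_borel G (G.x_mem_pos hpos _), ?_⟩
  have e := (hc s).2.2.2 ((((c s)⁻¹ : Fˣ) : F) * t)
  rw [← mul_assoc (c s : F), Units.mul_inv, one_mul,
    show G.full.pw L s = G.full.simp' i from Equiv.apply_symm_apply _ _] at e
  exact (mul_inv_eq_iff_eq_mul.mp e).symm

theorem mul_mem_union {n : GL D.Idx F} (hn : n ∈ D.monomialSubgroup F) (i : Fin D.rank)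
    {b : GL D.Idx F} (hb : b ∈ D.borelSubgroup F) :
    G.full.ns F i * b * n ∈ dbl (G.full.ns F i * n) ∪ dbl n := by
  obtain ⟨u, hu, c, rfl⟩ := G.mem_borel.mp hb
  obtain ⟨a, ha, t, rfl⟩ := G.pos_split_simple i hu
  obtain ⟨L, hL⟩ := G.exists_rootAct hn
  obtain ⟨e, L', hn'⟩ := G.exists_word hn
  -- move the torus factor through `n`
  obtain ⟨d, hd⟩ : ∃ d, T.hT F c * n = n * T.hT F d := by
    obtain ⟨_, hm⟩ : ∃ d, n⁻¹ * T.hT F c * n = T.hT F d := by
      have hH : T.hT F c ∈ D.diagonalSubgroup F := by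
        rw [G.full.diagonal_eq_range]; exact ⟨c, rfl⟩
      have := G.diagonal_normal.conj_mem ⟨_, G.hT_mem_monomial c⟩ hH
        (⟨n⁻¹, inv_mem hn⟩ : D.monomialSubgroup F)
      rw [Subgroup.mem_subgroupOf, G.full.diagonal_eq_range] at this
      obtain ⟨d, hd⟩ := this
      exact ⟨d, by simpa using hd.symm⟩
    exact ⟨_, by rw [← hm]; group⟩
  set s := G.full.ns F i
  have hB1 : s * a * s⁻¹ ∈ D.borelSubgroup F :=
    pos_le_borel G (G.Up_le_pos i (G.ns_conj_Up i ha))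
  have e1 : s * (a * G.full.x (D.simple i) t * T.hT F c) * n =
      (s * a * s⁻¹) * (s * G.full.x (D.simple i) t * n) * T.hT F d := by
    rw [show s * (a * G.full.x (D.simple i) t * T.hT F c) * n =
      (s * a * s⁻¹) * (s * G.full.x (D.simple i) t) * (T.hT F c * n) by group, hd]
    group
  suffices h : s * G.full.x (D.simple i) t * n ∈ dbl (s * n) ∪ dbl n by
    rw [e1]
    rcases h with h | h
    · left
      obtain ⟨b1, hb1, b2, hb2, e2⟩ := mem_dbl.mp h
      exact mem_dbl.mpr ⟨_, mul_mem hB1 hb1, _, mul_mem hb2 (G.borel_hT d), by rw [e2]; group⟩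
    · right
      obtain ⟨b1, hb1, b2, hb2, e2⟩ := mem_dbl.mp h
      exact mem_dbl.mpr ⟨_, mul_mem hB1 hb1, _, mul_mem hb2 (G.borel_hT d), by rw [e2]; group⟩
  by_cases hpos : IsPos D ((G.full.pw L).symm (G.full.simp' i)).val
  · obtain ⟨b', hb', e2⟩ := G.conj_inv_simple L hL i t hpos
    left
    exact mem_dbl.mpr ⟨1, one_mem _, b', hb', by rw [one_mul, mul_assoc, e2, mul_assoc]⟩
  rcases eq_or_ne t 0 with rfl | ht
  · left
    rw [G.full.x_zero, mul_one]
    exact mem_dbl.mpr ⟨1, one_mem _, 1, one_mem _, by group⟩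
  -- the remaining case
  have hp := G.full.simple_lt i.isLt
  have e2 : s * G.full.x (D.simple i) t = G.full.x (negR D (D.simple i)) (-t) * s := by
    refine mul_inv_eq_iff_eq_mul.mp ?_
    rw [G.full.ns_conj i.isLt hp, G.full.simple_reflect i.isLt,
      (G.full.node_spec i.isLt).2.2.2.1]
    simp
  have hu' : (-t : F) ≠ 0 := neg_ne_zero.mpr ht
  rw [e2, G.x_neg_decomp (D.simple i) hu', G.full.nr_simple_eq i.isLt]
  obtain ⟨d1, hd1⟩ := G.hr_simple_mem i (neg_ne_zero.mpr (inv_ne_zero hu'))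
  obtain ⟨d2, hd2⟩ := G.hr_simple_mem i (neg_ne_zero.mpr (one_ne_zero (α := F)))
  rw [hd1]
  have hL2 : G.full.RootAct (s * n) (G.full.pw (i :: L)) := G.rootAct_mul (G.rootAct_ns i) hL
  have hpos2 : IsPos D ((G.full.pw (i :: L)).symm (G.full.simp' i)).val := by
    obtain ⟨c', hc'⟩ := hL
    have : (G.full.pw (i :: L)).symm (G.full.simp' i) =
        negF ((G.full.pw L).symm (G.full.simp' i)) := by
      rw [Equiv.symm_apply_eq, G.pw_cons, Equiv.Perm.mul_apply, (hc' _).1, Equiv.apply_symm_apply]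
      refine Fin.ext ?_
      exact (G.full.neg_simple_reflect i.isLt).symm
    rw [this, G.pos_negF]
    exact hpos
  obtain ⟨b', hb', e3⟩ := G.conj_inv_simple (i :: L) hL2 i (-t)⁻¹ hpos2
  right
  refine mem_dbl.mpr ⟨G.full.x (D.simple i) (-t)⁻¹ * T.hT F d1 * T.hT F d2,
    mul_mem (mul_mem (pos_le_borel G (G.x_mem_pos (G.pos_simp i) _)) (G.borel_hT _))
      (G.borel_hT _), b', hb', ?_⟩
  rw [mul_assoc _ s n, mul_assoc _ _ (s * n), e3, ← hd2, ← G.full.ns_sq i.isLt]
  simp only [mul_assoc, s]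

theorem conj_ne_simple (i : Fin D.rank) :
    ∃ b ∈ D.borelSubgroup F, G.full.ns F i * b * G.full.ns F i ∉ D.borelSubgroup F := by
  refine ⟨G.full.x (D.simple i) 1, pos_le_borel G (G.x_mem_pos (G.pos_simp i) 1), fun h => ?_⟩
  have hp := G.full.simple_lt i.isLt
  set s := G.full.ns F i
  have e : s * G.full.x (D.simple i) 1 * s =
      G.full.x (negR D (D.simple i)) (-1) * (s * s) := by
    have : s * G.full.x (D.simple i) 1 * s⁻¹ = G.full.x (negR D (D.simple i)) (-1) := by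
      rw [G.full.ns_conj i.isLt hp, G.full.simple_reflect i.isLt,
        (G.full.node_spec i.isLt).2.2.2.1]
      simp
    rw [← this]
    group
  rw [e] at h
  obtain ⟨d, hd⟩ := G.hr_simple_mem i (neg_ne_zero.mpr (one_ne_zero (α := F)))
  rw [G.full.ns_sq i.isLt, hd] at h
  have h' := mul_mem h (inv_mem (G.borel_hT d))
  rw [mul_inv_cancel_right] at h'
  obtain ⟨u, hu, c, hc⟩ := G.mem_borel.mp h'
  have hn : ¬ IsPos D (negR D (D.simple i)) := fun hh => (G.negR_pos (G.pos_simp i)) hh.2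
  have h1 := G.eq_one_of_borel_neg hu (G.x_mem_neg (Cert.negR_lt hp) hn (-1)) hc.symm
  have := G.x_eq_one (Cert.negR_lt hp) h1
  simp at this

theorem refl_injective {i j : Fin D.rank} (h : G.full.refl i = G.full.refl j) : i = j := by
  by_contra hne
  have h1 : ¬ IsPos D (G.full.refl j (G.full.simp' i)).val := by
    rw [← h, G.refl_simp, G.pos_negF, not_not]; exact G.pos_simp i
  refine h1 (G.refl_pos j (G.pos_simp i) fun e => ?_).1
  have h2 := congrArg (fun s : Fin D.nroots => T.cor s i) e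
  simp [G.cor_simple, hne] at h2

theorem ns_mem_group (i : Fin D.rank) : G.full.ns F i ∈ D.group F := G.nr_mem_group _ _

theorem mem_borel_subgroupOf {g : D.group F} :
    g ∈ (D.borelSubgroup F).subgroupOf (D.group F) ↔ (g : GL D.Idx F) ∈ D.borelSubgroup F :=
  Subgroup.mem_subgroupOf

/-- The representatives of the fundamental reflections. -/
def simpleSet (F : Type*) [Field F] : Set (D.group F) :=
  {n | ∃ i < D.rank, ((n : GL D.Idx F) : Matrix D.Idx D.Idx F) = D.nMat F (D.simple i) 1}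

theorem mem_simpleSet {n : D.group F} :
    n ∈ simpleSet (D := D) F ↔ ∃ i : Fin D.rank, (n : GL D.Idx F) = G.full.ns F i := by
  constructor
  · rintro ⟨i, hi, h⟩
    refine ⟨⟨i, hi⟩, Units.ext ?_⟩
    rw [h, Full.ns, G.full.coe_nr _ (G.full.simple_lt hi)]
  · rintro ⟨i, h⟩
    exact ⟨i, i.isLt, by rw [h, Full.ns, G.full.coe_nr _ (G.full.simple_lt i.isLt)]⟩

theorem mem_dbl_subgroupOf {x g : D.group F} (h : (x : GL D.Idx F) ∈ dbl (g : GL D.Idx F)) :
    x ∈ DoubleCoset.doubleCoset g ((D.borelSubgroup F).subgroupOf (D.group F) : Set (D.group F))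
      ((D.borelSubgroup F).subgroupOf (D.group F)) := by
  obtain ⟨b, hb, c, hc, e⟩ := mem_dbl.mp h
  exact DoubleCoset.mem_doubleCoset.mpr ⟨⟨b, G.borel_le_group hb⟩, hb, ⟨c, G.borel_le_group hc⟩,
    hc, Subtype.ext e⟩

/-- The (B, N)-pair. -/
def bnPair (F : Type*) [Field F] : Cfsg.BNPair (D.group F) where
  B := (D.borelSubgroup F).subgroupOf (D.group F)
  N := (D.monomialSubgroup F).subgroupOf (D.group F)
  S := simpleSet (D := D) F
  sup_eq_top := by
    rw [← Subgroup.subgroupOf_sup G.borel_le_group G.monomial_le_group, G.borel_sup_monomial,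
      Subgroup.subgroupOf_self]
  conj_mem n hn t ht := by
    simp only [Subgroup.mem_inf, Subgroup.mem_subgroupOf] at ht hn ⊢
    have h : (t : GL D.Idx F) ∈ D.borelSubgroup F ⊓ D.monomialSubgroup F := ht
    rw [G.borel_inf_monomial] at h
    have := G.diagonal_normal.conj_mem ⟨_, ht.2⟩ h ⟨_, hn⟩
    rw [Subgroup.mem_subgroupOf] at this
    exact Subgroup.mem_sup_right this
  subset n hn := by
    obtain ⟨i, h⟩ := G.mem_simpleSet.mp hn
    rw [SetLike.mem_coe, Subgroup.mem_subgroupOf, h]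
    exact G.ns_mem_monomial i
  sq_mem n hn := by
    obtain ⟨i, h⟩ := G.mem_simpleSet.mp hn
    obtain ⟨d, hd⟩ := G.hr_simple_mem (F := F) i (neg_ne_zero.mpr one_ne_zero)
    rw [Subgroup.mem_subgroupOf, Subgroup.coe_mul, h, G.full.ns_sq i.isLt, hd]
    exact G.borel_hT d
  inj s hs s' hs' h := by
    obtain ⟨i, hi⟩ := G.mem_simpleSet.mp hs
    obtain ⟨j, hj⟩ := G.mem_simpleSet.mp hs'
    rw [Subgroup.mem_subgroupOf, Subgroup.coe_mul, Subgroup.coe_inv, hi, hj] at h
    have hH : (G.full.ns F i)⁻¹ * G.full.ns F j ∈ D.diagonalSubgroup F := by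
      rw [← G.borel_inf_monomial]
      exact Subgroup.mem_inf.mpr ⟨h, mul_mem (inv_mem (G.ns_mem_monomial i)) (G.ns_mem_monomial j)⟩
    rw [G.full.diagonal_eq_range] at hH
    obtain ⟨c, hc⟩ := hH
    have hj' : G.full.RootAct (G.full.ns F j) (G.full.refl i) := by
      have := G.rootAct_mul (G.rootAct_ns (F := F) i) (G.rootAct_hT c)
      rwa [hc, mul_inv_cancel_left, mul_one] at this
    have := G.refl_injective (G.rootAct_unique hj' (G.rootAct_ns j))
    exact Subtype.ext (by rw [hi, hj, this])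
  closure_sup := by
    refine le_antisymm (sup_le ((Subgroup.closure_le _).mpr fun n hn => ?_) inf_le_right) ?_
    · obtain ⟨i, h⟩ := G.mem_simpleSet.mp hn
      rw [SetLike.mem_coe, Subgroup.mem_subgroupOf, h]
      exact G.ns_mem_monomial i
    · intro n hn
      rw [Subgroup.mem_subgroupOf] at hn
      obtain ⟨c, L, e⟩ := G.exists_word hn
      have hc : T.hT F c ∈ D.group F := G.monomial_le_group (G.hT_mem_monomial c)
      have e' : n = ⟨_, hc⟩ *
          (L.map fun i : Fin D.rank => (⟨G.full.ns F i, G.ns_mem_group i⟩ : D.group F)).prod := by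
        refine Subtype.ext ?_
        rw [e, Subgroup.coe_mul, Subgroup.val_list_prod, List.map_map]
        rfl
      rw [e']
      refine mul_mem (Subgroup.mem_sup_right ⟨G.borel_hT c, G.hT_mem_monomial c⟩)
        (Subgroup.mem_sup_left (list_prod_mem fun a ha => ?_))
      obtain ⟨i, -, rfl⟩ := List.mem_map.mp ha
      exact Subgroup.subset_closure (G.mem_simpleSet.mpr ⟨i, rfl⟩)
  mul_mem_union s hs n hn b hb := by
    obtain ⟨i, hi⟩ := G.mem_simpleSet.mp hs
    rw [Subgroup.mem_subgroupOf] at hn hb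
    have := G.mul_mem_union hn i hb
    rw [← hi] at this
    rcases this with h | h
    · exact Or.inl (G.mem_dbl_subgroupOf h)
    · exact Or.inr (G.mem_dbl_subgroupOf h)
  conj_ne s hs h := by
    obtain ⟨i, hi⟩ := G.mem_simpleSet.mp hs
    obtain ⟨b, hb, hb'⟩ := G.conj_ne_simple (F := F) i
    have hm : s * (⟨b, G.borel_le_group hb⟩ : D.group F) * s ∈
        ((D.borelSubgroup F).subgroupOf (D.group F) : Set (D.group F)) := by
      rw [← h]; exact ⟨_, hb, rfl⟩
    rw [SetLike.mem_coe, Subgroup.mem_subgroupOf] at hm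
    exact hb' (by rw [← hi]; exact hm)

end Good

end Tab

end CfsgLib.Chev
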