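import Cfsg.Agent.Chev.EllipticTorus
import Cfsg.Agent.BN.Parabolic

/-!
Elements of a Bruhat cell carrying torus elements into the torus.
-/

set_option autoImplicit false
set_option linter.style.haveILetI false

namespace CfsgLib.Chev

open Cfsg.Lie Matrix
open scoped MatrixGroups

namespace Tab.Good

variable {D : ChevalleyDatum} {T : Tab D} (G : T.Good) {F : Type*} [Field F]
include G

/-- An element of a Bruhat cell which carries a torus element into the torus acts on it as the Weyl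
element of the cell does. -/
theorem cell_torus {b n b' : GL D.Idx F} (hb : b ∈ D.borelSubgroup F)
    (hn : n ∈ D.monomialSubgroup F) (hb' : b' ∈ D.borelSubgroup F) {t t' : GL D.Idx F}
    (ht : t ∈ D.diagonalSubgroup F) (ht' : t' ∈ D.diagonalSubgroup F)
    (h : b * n * b' * t = t' * (b * n * b')) : n * t * n⁻¹ = t' := by
  have hy : b * n * b' ∈ D.group F :=
    mul_mem (mul_mem (G.borel_le_group hb) (G.monomial_le_group hn)) (G.borel_le_group hb')
  obtain ⟨v, hv, a, L, u, hu, e⟩ := G.normal_form hy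
  have hub : u ∈ D.borelSubgroup F := pos_le_borel G (G.flip_le_pos _ hu)
  rw [G.full.diagonal_eq_range] at ht ht'
  obtain ⟨c', rfl⟩ := ht
  obtain ⟨c, rfl⟩ := ht'
  have hd : ∀ d, T.hT F d ∈ D.diagonalSubgroup F := fun d => by
    rw [G.full.diagonal_eq_range]; exact ⟨d, rfl⟩
  -- the two representatives of the cell agree up to the torus
  have hcell : n⁻¹ * G.full.nw F L ∈ D.diagonalSubgroup F := by
    let P := G.bnPair F
    let N₁ : D.group F := ⟨n, G.monomial_le_group hn⟩
    let N₂ : D.group F := ⟨G.full.nw F L, G.monomial_le_group (G.nw_mem_monomial L)⟩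
    have hva : v * T.hT F a ∈ D.borelSubgroup F :=
      mul_mem (pos_le_borel G hv) (Subgroup.mem_sup_right (hd a))
    have hmem : (⟨b, G.borel_le_group hb⟩ * N₁ * ⟨b', G.borel_le_group hb'⟩ : D.group F) ∈
        CfsgLib.BN.cosetOf P N₂ :=
      (CfsgLib.BN.mem_cosetOf _).mpr ⟨⟨_, G.borel_le_group hva⟩, hva,
        ⟨u, G.borel_le_group hub⟩, hub, Subtype.ext e⟩
    have hmem₁ : (⟨b, G.borel_le_group hb⟩ * N₁ * ⟨b', G.borel_le_group hb'⟩ : D.group F) ∈
        CfsgLib.BN.cosetOf P N₁ :=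
      (CfsgLib.BN.mem_cosetOf _).mpr ⟨_, hb, _, hb', rfl⟩
    have heq : CfsgLib.BN.cosetOf P N₁ = CfsgLib.BN.cosetOf P N₂ := by
      rw [← CfsgLib.BN.cosetOf_eq_of_mem P hmem₁, CfsgLib.BN.cosetOf_eq_of_mem P hmem]
    have := (CfsgLib.BN.cosetOf_eq_iff P (show N₁ ∈ P.N from hn)
      (show N₂ ∈ P.N from G.nw_mem_monomial L)).mp heq
    rw [← G.borel_inf_monomial]
    exact Subgroup.mem_inf.mpr ⟨this, mul_mem (inv_mem hn) (G.nw_mem_monomial L)⟩
  -- the normal form of both sides
  obtain ⟨d, hd'⟩ := G.nw_hT (F := F) L c'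
  set v1 := T.hT F c * v * (T.hT F c)⁻¹
  set u1 := (T.hT F c')⁻¹ * u * T.hT F c'
  have hv1 : v1 ∈ D.posUnipotent F := by
    rw [G.posUnipotent_eq] at hv ⊢
    exact G.hT_conj_US _ (fun s hs => hs.1) c hv
  have hu1 : u1 ∈ G.US F (flipSet (G.full.pw L)) := by
    have := G.hT_conj_US _ (fun s hs => by obtain ⟨h, -⟩ := hs; exact h) c'⁻¹ hu
    simpa [map_inv] using this
  rw [e] at h
  have e1 : v1 * T.hT F (c * a) * G.full.nw F L * u =
      v * T.hT F (a * d) * G.full.nw F L * u1 := by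
    calc v1 * T.hT F (c * a) * G.full.nw F L * u
        = T.hT F c * (v * T.hT F a * G.full.nw F L * u) := by
          simp only [v1, map_mul]; group
      _ = v * T.hT F a * G.full.nw F L * u * T.hT F c' := h.symm
      _ = v * T.hT F a * (G.full.nw F L * T.hT F c') * u1 := by simp only [u1]; group
      _ = _ := by rw [hd', map_mul]; group
  obtain ⟨hbb, -⟩ := (G.canonical_unique
    (mul_mem (Subgroup.mem_sup_left hv1) (Subgroup.mem_sup_right (hd (c * a))))
    (mul_mem (Subgroup.mem_sup_left hv) (Subgroup.mem_sup_right (hd (a * d))))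
    (G.nw_mem_monomial L) (G.nw_mem_monomial L) (G.rootAct_nw L) (G.rootAct_nw L) hu hu1 e1).2 rfl
  have hm : v⁻¹ * v1 ∈ D.posUnipotent F ⊓ D.diagonalSubgroup F := by
    refine Subgroup.mem_inf.mpr ⟨mul_mem (inv_mem hv) hv1, ?_⟩
    have e' : v⁻¹ * v1 = T.hT F (a * d) * (T.hT F (c * a))⁻¹ := by
      rw [eq_mul_inv_iff_mul_eq, mul_assoc, hbb, inv_mul_cancel_left]
    rw [e']
    exact mul_mem (hd _) (inv_mem (hd _))
  rw [G.pos_inf_diagonal, Subgroup.mem_bot, inv_mul_eq_one] at hm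
  rw [← hm, mul_right_inj, map_mul, map_mul] at hbb
  have hdc : T.hT F d = T.hT F c := by
    have : T.hT F a * T.hT F d = T.hT F a * T.hT F c := by
      rw [← hbb, ← map_mul, ← map_mul, mul_comm]
    exact mul_left_cancel this
  rw [hdc] at hd'
  obtain ⟨x, hx⟩ : ∃ x, T.hT F x = n⁻¹ * G.full.nw F L := by
    rw [G.full.diagonal_eq_range] at hcell; exact hcell
  have hn' : n = G.full.nw F L * (T.hT F x)⁻¹ := by rw [hx]; group
  rw [hn', mul_assoc, mul_assoc, _root_.mul_inv_rev, inv_inv, ← mul_assoc (T.hT F c'),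
    ← mul_assoc (T.hT F x)⁻¹, ← map_inv, ← map_mul, ← map_mul,
    show x⁻¹ * (c' * x) = c' by rw [mul_comm c', inv_mul_cancel_left]]
  rw [← mul_assoc, hd', mul_inv_cancel_right]

end Tab.Good

end CfsgLib.Chev
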