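import Cfsg.Agent.Chev.CentRoots
import Cfsg.Agent.Chev.GoodAll

/-!
Centralisers of the two mixed involutions of `F₄(q)`, `q` even.
-/

set_option autoImplicit false
set_option linter.style.haveILetI false

namespace CfsgLib.Chev

open Cfsg.Lie Matrix
open scoped MatrixGroups

namespace Tab.Good

variable {D : ChevalleyDatum} {T : Tab D} (G : T.Good) {F : Type*} [Field F]
include G

/-- The cell of an element of `W_J` consists of products `u h k`. -/
theorem cell_form {J : List ℕ} {K : Subgroup (GL D.Idx F)}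
    (hn : ∀ j : Fin D.rank, j.val ∈ J → G.full.ns F j ∈ K)
    (hK : ∀ r, IsPos D r → (∀ j : Fin D.rank, j.val ∉ J → T.cor r j = 0) →
      ∀ t : F, G.full.x r t ∈ K) {b n u : GL D.Idx F}
    (hb : b ∈ D.borelSubgroup F) (hnm : n ∈ D.monomialSubgroup F) {L : List (Fin D.rank)}
    (hL : G.full.RootAct n (G.full.pw L)) (hu : u ∈ G.US F (flipSet (G.full.pw L)))
    (hJ : G.full.pw L ∈ G.full.WJ J) :
    ∃ u0 ∈ D.posUnipotent F, ∃ c, ∃ k ∈ K, b * n * u = u0 * T.hT F c * k := by
  obtain ⟨L', hL', e⟩ := G.exists_word_WJ hJ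
  have hd : n * (G.full.nw F L')⁻¹ ∈ D.diagonalSubgroup F := by
    have hinv := G.rootAct_inv (G.nw_mem_monomial (F := F) L') (G.rootAct_nw L')
    refine G.mem_diagonal_of_pos (mul_mem hnm (inv_mem (G.nw_mem_monomial L')))
      (G.rootAct_mul hL hinv) fun s hs => ?_
    rw [e, mul_inv_cancel]
    exact hs
  rw [G.full.diagonal_eq_range] at hd
  obtain ⟨d, hd⟩ := hd
  obtain ⟨u0, hu0, c, rfl⟩ := G.mem_borel.mp hb
  refine ⟨u0, hu0, c * d, G.full.nw F L' * u, mul_mem (list_prod_mem fun a ha => ?_) ?_, ?_⟩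
  · obtain ⟨i, hi, rfl⟩ := List.mem_map.mp ha
    exact hn i (hL' i hi)
  · refine (Subgroup.closure_le _).mpr ?_ hu
    rintro g ⟨r, ⟨hr, hp, hn'⟩, t, rfl⟩
    exact hK r hp (fun j hj => G.cor_eq_zero_of_flip hJ (s := ⟨r, hr⟩)
      (mem_inv.mpr ⟨hp, hn'⟩) hj) t
  · rw [map_mul, hd]
    group

theorem hr_mem_of_x {K : Subgroup (GL D.Idx F)} {r : ℕ} (h1 : ∀ t, G.full.x r t ∈ K)
    (h2 : ∀ t, G.full.x (negR D r) t ∈ K) (t : F) : G.full.hr r t ∈ K :=
  mul_mem (mul_mem (mul_mem (h1 _) (h2 _)) (h1 _)) (mul_mem (mul_mem (h1 _) (h2 _)) (h1 _))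

theorem hT_mem_of_support {J : List ℕ} {K : Subgroup (GL D.Idx F)}
    (hK : ∀ j : Fin D.rank, j.val ∈ J → ∀ t : F, G.full.hr (D.simple j) t ∈ K)
    {c : Fin D.rank → Fˣ} (hc : ∀ j : Fin D.rank, j.val ∉ J → c j = 1) : T.hT F c ∈ K := by
  classical
  rw [← Finset.univ_prod_mulSingle c]
  refine Finset.prod_induction _ (fun d => T.hT F d ∈ K)
    (fun a b ha hb => by rw [map_mul]; exact mul_mem ha hb) (by rw [map_one]; exact one_mem _)
    fun i _ => ?_
  by_cases hi : i.val ∈ J
  · rw [G.full.hT_single]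
    exact hK i hi _
  · rw [hc i hi, Pi.mulSingle_one, map_one]
    exact one_mem _

/-- A root element commuting with a product by a symbolic check. -/
theorem x_mem_cent {p fuel : ℕ} (hp : (p : F) = 0) {R : List ℕ} {s : ℕ}
    (h : T.chkWord p fuel ((R.map fun r => (r, (1 : ℤ), 0, 0)) ++ [(s, 1, 1, 0)])
      ((s, 1, 1, 0) :: R.map fun r => (r, (1 : ℤ), 0, 0)) = true) (t : F) :
    G.full.x s t ∈ Subgroup.centralizer {(R.map fun r => G.full.x r (1 : F)).prod} := by
  have e := G.word_eq hp h t 0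
  rw [G.evTerms_append, G.evTerms_cons, G.evTerms_cons] at e
  have hR : G.evTerms (R.map fun r => (r, (1 : ℤ), 0, 0)) t 0 =
      (R.map fun r => G.full.x r (1 : F)).prod := by
    simp only [evTerms, List.map_map]
    refine congrArg List.prod (List.map_congr_left fun r _ => ?_)
    simp
  rw [hR, show G.evTerms ([] : List (ℕ × ℤ × ℕ × ℕ)) t 0 = 1 from rfl] at e
  simp only [Int.cast_one, pow_one, pow_zero, mul_one, one_mul] at e
  rw [Subgroup.mem_centralizer_iff]
  intro g hg
  rw [Set.mem_singleton_iff.mp hg]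
  exact e

/-- In a factorisation `u h` of a centralising element, `h` is trivial on `R`. -/
theorem chi_eq_one {p : ℕ} {R S : List ℕ} (hp : (p : F) = 0) (h : T.chkCent p R S = true)
    {u : GL D.Idx F} (hu : u ∈ D.posUnipotent F) (c : Fin D.rank → Fˣ)
    (hc : u * T.hT F c ∈ Subgroup.centralizer {(R.map fun r => G.full.x r (1 : F)).prod}) :
    ∀ r ∈ R, T.chi (F := F) r c = 1 := by
  classical
  intro r hr
  set v := (R.map fun r => G.full.x r (1 : F)).prod with hv
  obtain ⟨f, hf, ef⟩ := G.cent_borel hp h (fun _ => (1 : F)) hu c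
  have hc' : v * (u * T.hT F c) = u * T.hT F c * v := Subgroup.mem_centralizer_iff.mp hc v rfl
  rw [show (R.map fun r => G.full.x r ((fun _ => (1 : F)) r)).prod = v from rfl,
    mul_assoc, hc', inv_mul_cancel_left] at ef
  have ev := G.prod_R hp h (fun _ => (1 : F))
  rw [show (R.map fun r => G.full.x r ((fun _ => (1 : F)) r)).prod = v from rfl, ef] at ev
  have e := G.cent_inj hp h ev r (List.mem_append_left S hr)
  rw [hf r hr, if_pos hr, mul_one, inv_eq_one] at e
  exact Units.ext e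

end Tab.Good

namespace F4Cent

open Tab

variable {F : Type*} [Field F]

/-- The roots of the radical part of the second centraliser. -/
def Cs : List ℕ := (List.range' 24 24).filter fun r => !([27, 25, 34, 26].contains r)

theorem chkW : F4Data.tab.chkCent 2 [47, 44] [] = true := by decide +kernel

theorem chkV : F4Data.tab.chkCent 2 [39, 45] [40, 44, 46, 47] = true := by decide +kernel

theorem wordW : ([20, 22] ++ List.range' 24 24).all (fun s => F4Data.tab.chkWord 2 50
    ((([47, 44] : List ℕ).map fun r => (r, (1 : ℤ), 0, 0)) ++ [(s, 1, 1, 0)])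
    ((s, 1, 1, 0) :: ([47, 44] : List ℕ).map fun r => (r, (1 : ℤ), 0, 0))) = true := by
  decide +kernel

theorem wordV : ([33, 14, 24, 23] ++ Cs).all (fun s => F4Data.tab.chkWord 2 50
    ((([39, 45] : List ℕ).map fun r => (r, (1 : ℤ), 0, 0)) ++ [(s, 1, 1, 0)])
    ((s, 1, 1, 0) :: ([39, 45] : List ℕ).map fun r => (r, (1 : ℤ), 0, 0))) = true := by
  decide +kernel

theorem wordMove : ([(27, 40), (34, 44), (25, 46), (26, 47)] : List (ℕ × ℕ)).all (fun p =>
    F4Data.tab.chkWord 2 50 [(p.1, 1, 1, 0), (39, 1, 0, 0), (45, 1, 0, 0)]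
      [(39, 1, 0, 0), (45, 1, 0, 0), (p.2, 1, 1, 0), (p.1, 1, 1, 0)]) = true := by
  decide +kernel

theorem wordComm : ([27, 34, 25, 26] : List ℕ).all (fun s => ([40, 44, 46, 47] : List ℕ).all fun k =>
    F4Data.tab.chkWord 2 50 [(s, 1, 1, 0), (k, 1, 0, 1)] [(k, 1, 0, 1), (s, 1, 1, 0)]) = true := by
  decide +kernel

theorem closedCs : Cs.all (fun r => decide (r < 48 ∧ 48 ≤ 2 * r) &&
    Cs.all fun s => (F4Data.tab.commT r s).all fun c => Cs.contains c.1) = true := by
  decide +kernel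

theorem pairs : ∀ a ∈ ([39, 45, 40, 44, 46, 47] : List ℕ), ∀ b ∈ ([39, 45, 40, 44, 46, 47] : List ℕ),
    F4Data.tab.pairT a b = 0 → a = 39 ∧ b = 45 ∨ a = 45 ∧ b = 39 := by decide +kernel

theorem long45 : ∀ s : Fin chevF4.nroots, F4Data.tab.pairT 45 s.val = 2 → s.val = 45 := by
  decide +kernel

theorem long47 : ∀ s : Fin chevF4.nroots, F4Data.tab.pairT 47 s.val = 2 → s.val = 47 := by
  decide +kernel

theorem short39 : F4Data.tab.pairT 39 46 = 2 ∧ F4Data.tab.pairT 39 45 = 0 := by decide +kernel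

theorem short44 : ∃ y : Fin chevF4.nroots, F4Data.tab.pairT 44 y.val = 2 ∧ y.val ≠ 44 := by
  decide +kernel

theorem domW : ∀ i : Fin chevF4.rank,
    0 ≤ (([(47, 1), (44, 1)] : List (ℕ × ℤ)).map fun q => q.2 * F4Data.tab.cart i q.1).sum ∧
    ((([(47, 1), (44, 1)] : List (ℕ × ℤ)).map fun q => q.2 * F4Data.tab.cart i q.1).sum = 0 →
      i.val ∈ [1, 2] ∧ ∀ q ∈ ([(47, 1), (44, 1)] : List (ℕ × ℤ)),
        F4Data.tab.reflT i q.1 = q.1) := by decide +kernel

theorem domV : ∀ i : Fin chevF4.rank,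
    0 ≤ (([(39, 3), (45, 2)] : List (ℕ × ℤ)).map fun q => q.2 * F4Data.tab.cart i q.1).sum ∧
    ((([(39, 3), (45, 2)] : List (ℕ × ℤ)).map fun q => q.2 * F4Data.tab.cart i q.1).sum = 0 →
      i.val ∈ [0, 3] ∧ ∀ q ∈ ([(39, 3), (45, 2)] : List (ℕ × ℤ)),
        F4Data.tab.reflT i q.1 = q.1) := by decide +kernel

theorem flipV : ∀ r : Fin chevF4.nroots, chevF4.nroots ≤ 2 * r.val →
    (∀ j : Fin chevF4.rank, j.val ∉ [0, 3] → F4Data.tab.cor r.val j = 0) →
      r.val ∈ [33, 24] := by decide +kernel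

theorem negs : (negR chevF4 33 = 14 ∧ negR chevF4 27 = 20 ∧ negR chevF4 25 = 22 ∧
    negR chevF4 24 = 23) ∧ (chevF4.simple 0 = 33 ∧ chevF4.simple 1 = 27 ∧ chevF4.simple 2 = 25 ∧
    chevF4.simple 3 = 24) := by decide +kernel

theorem carts : (F4Data.tab.cart 0 47 = 0 ∧ F4Data.tab.cart 1 47 = 0 ∧ F4Data.tab.cart 2 47 = 0 ∧
      F4Data.tab.cart 3 47 = 1) ∧
    (F4Data.tab.cart 0 44 = 1 ∧ F4Data.tab.cart 1 44 = 0 ∧ F4Data.tab.cart 2 44 = 0 ∧
      F4Data.tab.cart 3 44 = 0) ∧
    (F4Data.tab.cart 0 39 = 0 ∧ F4Data.tab.cart 1 39 = -1 ∧ F4Data.tab.cart 2 39 = 1 ∧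
      F4Data.tab.cart 3 39 = 0) ∧
    (F4Data.tab.cart 0 45 = 0 ∧ F4Data.tab.cart 1 45 = 2 ∧ F4Data.tab.cart 2 45 = -1 ∧
      F4Data.tab.cart 3 45 = 0) := by decide +kernel

theorem chi_eq (r : ℕ) (c : Fin chevF4.rank → Fˣ) :
    F4Data.tab.chi (F := F) r c = c (0 : Fin 4) ^ F4Data.tab.cart 0 r * c (1 : Fin 4) ^
      F4Data.tab.cart 1 r * c (2 : Fin 4) ^ F4Data.tab.cart 2 r *
      c (3 : Fin 4) ^ F4Data.tab.cart 3 r :=
  Fin.prod_univ_four (f := fun i : Fin 4 => c i ^ F4Data.tab.cart i r)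

theorem rootSubgroup_le {K : Subgroup (GL chevF4.Idx F)} {r : ℕ}
    (h : ∀ t : F, good_F4.full.x r t ∈ K) : chevF4.rootSubgroup F r ≤ K := by
  refine (Subgroup.closure_le _).mpr ?_
  rintro g ⟨t, hg⟩
  rw [good_F4.full.eq_x.mp hg]
  exact h t

theorem x_mem_rootSubgroup (r : ℕ) (t : F) : good_F4.full.x r t ∈ chevF4.rootSubgroup F r :=
  Subgroup.subset_closure ⟨t, good_F4.full.coe_x' r t⟩

theorem pos_range {r : ℕ} : IsPos chevF4 r ↔ r ∈ List.range' 24 24 := by
  rw [List.mem_range'_1]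
  show (r < 48 ∧ 48 ≤ 2 * r) ↔ _
  omega

theorem ns_mem {K : Subgroup (GL chevF4.Idx F)} {j : ℕ} {a b : ℕ} (ha : chevF4.simple j = a)
    (hb : negR chevF4 a = b) (h1 : ∀ t, good_F4.full.x a t ∈ K)
    (h2 : ∀ t, good_F4.full.x b t ∈ K) : good_F4.full.ns F j ∈ K := by
  show good_F4.full.nr (chevF4.simple j) 1 ∈ K
  rw [ha]
  exact mul_mem (mul_mem (h1 _) (hb.symm ▸ h2 _)) (h1 _)

variable [CharP F 2]

theorem two_zero : ((2 : ℕ) : F) = 0 := CharP.cast_eq_zero F 2

/-- The centraliser of `x₄₇(1) x₄₄(1)`. -/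
theorem cent_w :
    chevF4.group F ⊓
      Subgroup.centralizer {good_F4.full.x 47 (1 : F) * good_F4.full.x 44 1} =
    chevF4.posUnipotent F ⊔ chevF4.rootSubgroup F 20 ⊔ chevF4.rootSubgroup F 22 := by
  set K := chevF4.posUnipotent F ⊔ chevF4.rootSubgroup F 20 ⊔ chevF4.rootSubgroup F 22
  have hv : good_F4.full.x 47 (1 : F) * good_F4.full.x 44 1 =
      (([47, 44] : List ℕ).map fun r => good_F4.full.x r (1 : F)).prod := by simp
  have hpos : ∀ r, IsPos chevF4 r → ∀ t : F, good_F4.full.x r t ∈ K := fun r hr t =>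
    Subgroup.mem_sup_left (Subgroup.mem_sup_left (good_F4.x_mem_pos hr t))
  have h20 : ∀ t : F, good_F4.full.x 20 t ∈ K := fun t =>
    Subgroup.mem_sup_left (Subgroup.mem_sup_right (x_mem_rootSubgroup 20 t))
  have h22 : ∀ t : F, good_F4.full.x 22 t ∈ K := fun t =>
    Subgroup.mem_sup_right (x_mem_rootSubgroup 22 t)
  have hKC : K ≤ chevF4.group F ⊓
      Subgroup.centralizer {good_F4.full.x 47 (1 : F) * good_F4.full.x 44 1} := by
    have hx : ∀ s ∈ [20, 22] ++ List.range' 24 24, ∀ t : F, good_F4.full.x s t ∈ chevF4.group F ⊓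
        Subgroup.centralizer {good_F4.full.x 47 (1 : F) * good_F4.full.x 44 1} := fun s hs t =>
      Subgroup.mem_inf.mpr ⟨good_F4.x_mem_group s t, hv ▸
        good_F4.x_mem_cent two_zero (List.all_eq_true.mp wordW s hs) t⟩
    refine sup_le (sup_le ?_ (rootSubgroup_le (hx 20 (by simp)))) (rootSubgroup_le (hx 22 (by simp)))
    rw [good_F4.posUnipotent_eq]
    refine (Subgroup.closure_le _).mpr ?_
    rintro g ⟨r, hr, t, rfl⟩
    exact hx r (List.mem_append_right _ (pos_range.mp hr)) t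
  refine le_antisymm ?_ hKC
  intro g hg
  obtain ⟨hgG, hgC⟩ := Subgroup.mem_inf.mp hg
  rw [hv] at hgC
  have hcg := (Subgroup.mem_centralizer_iff.mp hgC _ rfl).symm
  obtain ⟨b, hb, n, hn, L, hL, u, hu, rfl, f1, f2, hR, hfwd, -⟩ :=
    good_F4.cent_main two_zero chkW hgG hcg
  have hsupp : ∀ (r : ℕ) (hr : r < 48), r ∈ [47, 44] →
      (good_F4.full.pw L ⟨r, hr⟩).val ∈ [47, 44] := fun r hr h => by
    have := (hfwd ⟨r, hr⟩ (List.mem_append_left [] h) (hR r h).1).1
    simpa using this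
  have h47 : (good_F4.full.pw L ⟨47, by decide⟩).val = 47 := by
    rcases List.mem_pair.mp (hsupp 47 (by decide) (by simp)) with e | e
    · exact e
    exfalso
    obtain ⟨y, hy, hne⟩ := short44
    have h1 := good_F4.pairT_pw L ⟨47, by decide⟩ ((good_F4.full.pw L).symm y)
    rw [Equiv.apply_symm_apply, e, hy] at h1
    have h2 : (good_F4.full.pw L).symm y = (⟨47, by decide⟩ : Fin chevF4.nroots) :=
      Fin.ext (long47 _ h1.symm)
    rw [Equiv.symm_apply_eq] at h2
    exact hne (by rw [h2]; exact e)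
  have h44 : (good_F4.full.pw L ⟨44, by decide⟩).val = 44 := by
    rcases List.mem_pair.mp (hsupp 44 (by decide) (by simp)) with e | e
    · have := (good_F4.full.pw L).injective (a₁ := ⟨44, by decide⟩) (a₂ := ⟨47, by decide⟩)
        (Fin.ext (e.trans h47.symm))
      exact absurd (congrArg Fin.val this) (by decide)
    · exact e
  have hW := good_F4.fix_mem_WJ (R := [(47, 1), (44, 1)]) (J := [1, 2]) (by decide)
    (fun i => (domW i).1) (fun i => (domW i).2) L (fun q hq hlt => by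
      simp only [List.mem_cons, List.not_mem_nil, or_false] at hq
      rcases hq with rfl | rfl
      exacts [h47, h44])
  have hns : ∀ j : Fin chevF4.rank, j.val ∈ [1, 2] → good_F4.full.ns F j ∈ K := by
    intro j hj
    obtain ⟨⟨-, n27, n25, -⟩, -, s1, s2, -⟩ := negs
    rcases List.mem_pair.mp hj with e | e <;> rw [e]
    · exact ns_mem s1 n27 (hpos 27 (pos_range.mpr (by simp))) h20
    · exact ns_mem s2 n25 (hpos 25 (pos_range.mpr (by simp))) h22
  obtain ⟨u0, hu0, c, k, hk, e⟩ := good_F4.cell_form hns (fun r hr _ => hpos r hr) hb hn hL hu hW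
  rw [e] at hg ⊢
  have hK0 : u0 ∈ K := Subgroup.mem_sup_left (Subgroup.mem_sup_left hu0)
  have hc : u0 * F4Data.tab.hT F c ∈
      Subgroup.centralizer {(([47, 44] : List ℕ).map fun r => good_F4.full.x r (1 : F)).prod} := by
    rw [← hv]
    have := (Subgroup.mem_inf.mp (mul_mem hg (inv_mem (hKC hk)))).2
    rwa [mul_inv_cancel_right] at this
  have hchi := good_F4.chi_eq_one two_zero chkW hu0 c hc
  refine mul_mem (mul_mem hK0 (good_F4.hT_mem_of_support (J := [1, 2]) ?_ fun j hj => ?_)) hk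
  · intro j hj t
    obtain ⟨⟨-, n27, n25, -⟩, -, s1, s2, -⟩ := negs
    rcases List.mem_pair.mp hj with e | e <;> rw [e]
    · rw [s1]; exact good_F4.hr_mem_of_x (hpos 27 (pos_range.mpr (by simp))) (n27.symm ▸ h20) t
    · rw [s2]; exact good_F4.hr_mem_of_x (hpos 25 (pos_range.mpr (by simp))) (n25.symm ▸ h22) t
  · obtain ⟨⟨a0, a1, a2, a3⟩, ⟨b0, b1, b2, b3⟩, -⟩ := carts
    have e47 := hchi 47 (by simp)
    have e44 := hchi 44 (by simp)
    rw [chi_eq, a0, a1, a2, a3] at e47
    rw [chi_eq, b0, b1, b2, b3] at e44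
    simp only [zpow_zero, zpow_one, one_mul, mul_one] at e47 e44
    revert hj
    revert j
    refine fun j : Fin 4 => ?_
    fin_cases j
    · exact fun _ => e44
    · exact fun h => absurd (by simp) h
    · exact fun h => absurd (by simp) h
    · exact fun _ => e47

omit [CharP F 2] in
theorem x39_x45 : good_F4.full.x 39 (1 : F) * good_F4.full.x 45 1 =
    (([39, 45] : List ℕ).map fun r => good_F4.full.x r (1 : F)).prod := by simp

/-- The product of the four moving root elements. -/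
noncomputable def Q (a : F × F × F × F) : GL chevF4.Idx F :=
  good_F4.full.x 27 a.1 * good_F4.full.x 34 a.2.1 * good_F4.full.x 25 a.2.2.1 *
    good_F4.full.x 26 a.2.2.2

omit [CharP F 2] in
theorem Q_pos (a : F × F × F × F) : Q a ∈ chevF4.posUnipotent F :=
  mul_mem (mul_mem (mul_mem (good_F4.x_mem_pos (pos_range.mpr (by simp)) _)
    (good_F4.x_mem_pos (pos_range.mpr (by simp)) _))
    (good_F4.x_mem_pos (pos_range.mpr (by simp)) _)) (good_F4.x_mem_pos (pos_range.mpr (by simp)) _)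

theorem move {s k : ℕ} (h : (s, k) ∈ [(27, 40), (34, 44), (25, 46), (26, 47)]) (t : F) :
    good_F4.full.x s t * (good_F4.full.x 39 1 * good_F4.full.x 45 1) =
      good_F4.full.x 39 1 * good_F4.full.x 45 1 * good_F4.full.x k t * good_F4.full.x s t := by
  have e := good_F4.word_eq (p := 2) two_zero (List.all_eq_true.mp wordMove (s, k) h) t 0
  simpa [Tab.Good.evTerms, mul_assoc] using e

theorem move_comm {s k : ℕ} (hs : s ∈ [27, 34, 25, 26]) (hk : k ∈ [40, 44, 46, 47]) (t u : F) :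
    Commute (good_F4.full.x s t) (good_F4.full.x k u) := by
  have e := good_F4.word_eq (p := 2) two_zero
    (List.all_eq_true.mp (List.all_eq_true.mp wordComm s hs) k hk) t u
  simpa [Tab.Good.evTerms, Commute, SemiconjBy] using e

theorem Q_conj (a : F × F × F × F) :
    Q a * (good_F4.full.x 39 1 * good_F4.full.x 45 1) =
      good_F4.full.x 39 1 * good_F4.full.x 45 1 *
        (good_F4.full.x 40 a.1 * good_F4.full.x 44 a.2.1 * good_F4.full.x 46 a.2.2.1 *
          good_F4.full.x 47 a.2.2.2) * Q a := by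
  obtain ⟨a1, a2, a3, a4⟩ := a
  set v := good_F4.full.x 39 (1 : F) * good_F4.full.x 45 1
  have m1 : good_F4.full.x 27 a1 * v = v * good_F4.full.x 40 a1 * good_F4.full.x 27 a1 :=
    move (by simp) a1
  have m2 : good_F4.full.x 34 a2 * v = v * good_F4.full.x 44 a2 * good_F4.full.x 34 a2 :=
    move (by simp) a2
  have m3 : good_F4.full.x 25 a3 * v = v * good_F4.full.x 46 a3 * good_F4.full.x 25 a3 :=
    move (by simp) a3
  have m4 : good_F4.full.x 26 a4 * v = v * good_F4.full.x 47 a4 * good_F4.full.x 26 a4 :=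
    move (by simp) a4
  have c : ∀ s ∈ [27, 34, 25, 26], ∀ k ∈ [40, 44, 46, 47], ∀ t u : F,
      good_F4.full.x s t * good_F4.full.x k u = good_F4.full.x k u * good_F4.full.x s t :=
    fun s hs k hk t u => move_comm hs hk t u
  simp only [Q]
  set p := good_F4.full.x 27 a1
  set q := good_F4.full.x 34 a2
  set r := good_F4.full.x 25 a3
  set s := good_F4.full.x 26 a4
  set A := good_F4.full.x 40 a1
  set B := good_F4.full.x 44 a2
  set E := good_F4.full.x 46 a3
  set H := good_F4.full.x 47 a4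
  calc p * q * r * s * v = p * q * (r * v) * H * s := by
        rw [mul_assoc _ s v, m4]; group
    _ = p * (q * v) * E * (r * H) * s := by rw [m3]; group
    _ = p * (q * v) * E * (H * r) * s := by rw [show r * H = H * r from c 25 (by simp) 47 (by simp) a3 a4]
    _ = p * v * B * (q * E) * H * r * s := by rw [m2]; group
    _ = p * v * B * E * (q * H) * r * s := by rw [show q * E = E * q from c 34 (by simp) 46 (by simp) a2 a3]; group
    _ = (p * v) * B * E * H * q * r * s := by rw [show q * H = H * q from c 34 (by simp) 47 (by simp) a2 a4]; group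
    _ = v * A * (p * B) * E * H * q * r * s := by rw [m1]; group
    _ = v * A * B * (p * E) * H * q * r * s := by rw [show p * B = B * p from c 27 (by simp) 44 (by simp) a1 a2]; group
    _ = v * A * B * E * (p * H) * q * r * s := by rw [show p * E = E * p from c 27 (by simp) 46 (by simp) a1 a3]; group
    _ = v * (A * B * E * H) * (p * q * r * s) := by rw [show p * H = H * p from c 27 (by simp) 47 (by simp) a1 a4]; group

variable [Finite F]

/-- The centraliser of `x₃₉(1) x₄₅(1)` in `U` is given by the roots of `Cs`. -/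
theorem cent_v_pos :
    chevF4.posUnipotent F ⊓
        Subgroup.centralizer {good_F4.full.x 39 (1 : F) * good_F4.full.x 45 1} =
      good_F4.US F {r | r ∈ Cs} := by
  set v := good_F4.full.x 39 (1 : F) * good_F4.full.x 45 1
  set C := chevF4.posUnipotent F ⊓ Subgroup.centralizer {v}
  have hcl := List.all_eq_true.mp closedCs
  simp only [Bool.and_eq_true, decide_eq_true_eq, List.all_eq_true, List.contains_iff_mem] at hcl
  have hclosed : F4Data.tab.Closed {r | r ∈ Cs} :=
    ⟨fun r hr => (hcl r hr).1, fun r hr s hs c hc => (hcl r hr).2 s hs c hc⟩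
  have hle : good_F4.US F {r | r ∈ Cs} ≤ C := by
    refine (Subgroup.closure_le _).mpr ?_
    rintro g ⟨r, hr, t, rfl⟩
    refine Subgroup.mem_inf.mpr ⟨good_F4.x_mem_pos (hclosed.1 r hr) t, ?_⟩
    show _ ∈ Subgroup.centralizer {v}
    rw [show v = _ from x39_x45]
    exact good_F4.x_mem_cent two_zero
      (List.all_eq_true.mp wordV r (List.mem_append_right _ hr)) t
  classical
  have hcard : Nat.card (good_F4.US F {r | r ∈ Cs}) = Nat.card F ^ 20 := by
    rw [good_F4.card_US hclosed]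
    congr 1
    rw [Nat.card_congr (Equiv.subtypeEquivRight (q := fun r => r ∈ Cs.toFinset)
      fun r => by simp), Nat.card_eq_finsetCard]
    decide +kernel
  have hU : Nat.card (chevF4.posUnipotent F) = Nat.card F ^ 24 := by
    rw [good_F4.posUnipotent_eq, good_F4.card_US good_F4.closed_pos]
    congr 1
    rw [Nat.card_congr (Equiv.subtypeEquivRight (q := fun r => r ∈ (List.range' 24 24).toFinset)
      fun r => by
        simp only [List.mem_toFinset]
        exact pos_range), Nat.card_eq_finsetCard]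
    decide +kernel
  let φ : (F × F × F × F) × C → chevF4.posUnipotent F := fun p =>
    ⟨Q p.1 * p.2.1, mul_mem (Q_pos p.1) (Subgroup.mem_inf.mp p.2.2).1⟩
  have hinj : Function.Injective φ := by
    rintro ⟨a, x⟩ ⟨a', x'⟩ e
    have e' : Q a * (x : GL chevF4.Idx F) = Q a' * x' := congrArg Subtype.val e
    have hx : ∀ y : C, (y : GL chevF4.Idx F) * v = v * y := fun y =>
      (Subgroup.mem_centralizer_iff.mp (Subgroup.mem_inf.mp y.2).2 v rfl).symm
    let w : F × F × F × F → GL chevF4.Idx F := fun a => good_F4.full.x 40 a.1 *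
      good_F4.full.x 44 a.2.1 * good_F4.full.x 46 a.2.2.1 * good_F4.full.x 47 a.2.2.2
    have key : ∀ (a : F × F × F × F) (y : C), Q a * y * v * (Q a * y)⁻¹ = v * w a := fun a y => by
      rw [mul_assoc (Q a) (y : GL chevF4.Idx F) v, hx y, ← mul_assoc, Q_conj]
      simp only [v, w]
      group
    have ew : v * w a = v * w a' := by rw [← key a x, ← key a' x', e']
    have ew' : w a = w a' := mul_left_cancel ew
    let X : Set ℕ := {r | r ∈ [39, 45] ++ [40, 44, 46, 47]}
    let δ : ℕ → F → ℕ → F := fun k t r => if r = k then t else 0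
    have hs : ∀ k, k ∈ ([39, 45] ++ [40, 44, 46, 47] : List ℕ) → ∀ t : F,
        good_F4.full.x k t = good_F4.segProd X (δ k t) 0 chevF4.nroots := fun k hk t => by
      rw [good_F4.segProd_single X hk, if_pos]
      exact ⟨Nat.zero_le _, by rw [zero_add]; exact ((Tab.Good.cent_spec chkV).1 k hk).1.1⟩
    have hA : ∀ a : F × F × F × F, w a = good_F4.segProd X
        (fun r => δ 40 a.1 r + δ 44 a.2.1 r + δ 46 a.2.2.1 r + δ 47 a.2.2.2 r) 0 chevF4.nroots := by
      intro a
      simp only [w]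
      rw [hs 40 (by simp), hs 44 (by simp), hs 46 (by simp), hs 47 (by simp)]
      simp only [good_F4.segProd_add X (good_F4.cent_commute two_zero chkV)]
    rw [hA, hA] at ew'
    have hi := good_F4.cent_inj two_zero chkV ew'
    have h40 := hi 40 (by simp)
    have h44 := hi 44 (by simp)
    have h46 := hi 46 (by simp)
    have h47 := hi 47 (by simp)
    simp [δ] at h40 h44 h46 h47
    obtain rfl : a = a' := Prod.ext h40 (Prod.ext h44 (Prod.ext h46 h47))
    exact Prod.ext rfl (Subtype.ext (mul_left_cancel e'))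
  haveI : Fintype F := Fintype.ofFinite F
  have h1 : Nat.card ((F × F × F × F) × C) ≤ Nat.card (chevF4.posUnipotent F) :=
    Nat.card_le_card_of_injective φ hinj
  rw [hU, Nat.card_prod, Nat.card_prod, Nat.card_prod, Nat.card_prod] at h1
  have hq : 0 < Nat.card F := Nat.card_pos
  have h2 : Nat.card C ≤ Nat.card F ^ 20 := by
    refine Nat.le_of_mul_le_mul_left ?_ (pow_pos hq 4)
    calc Nat.card F ^ 4 * Nat.card C =
        Nat.card F * (Nat.card F * (Nat.card F * Nat.card F)) * Nat.card C := by ring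
      _ ≤ Nat.card F ^ 24 := h1
      _ = _ := by ring
  exact (Subgroup.eq_of_le_of_card_ge hle (by rw [hcard]; exact h2)).symm

/-- The centraliser of `x₃₉(1) x₄₅(1)`. -/
theorem cent_v :
    chevF4.group F ⊓
      Subgroup.centralizer {good_F4.full.x 39 (1 : F) * good_F4.full.x 45 1} =
    chevF4.rootSubgroup F 33 ⊔ chevF4.rootSubgroup F 14 ⊔ chevF4.rootSubgroup F 24 ⊔
      chevF4.rootSubgroup F 23 ⊔
      Subgroup.closure {g : GL chevF4.Idx F | ∃ (r : ℕ) (c : F), chevF4.IsPosRoot r ∧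
        r ∉ [27, 25, 34, 26] ∧ (g : Matrix chevF4.Idx chevF4.Idx F) = chevF4.x F r c} := by
  set K := chevF4.rootSubgroup F 33 ⊔ chevF4.rootSubgroup F 14 ⊔ chevF4.rootSubgroup F 24 ⊔
    chevF4.rootSubgroup F 23 ⊔
    Subgroup.closure {g : GL chevF4.Idx F | ∃ (r : ℕ) (c : F), chevF4.IsPosRoot r ∧
      r ∉ [27, 25, 34, 26] ∧ (g : Matrix chevF4.Idx chevF4.Idx F) = chevF4.x F r c}
  have hCs : ∀ r, r ∈ Cs ↔ IsPos chevF4 r ∧ r ∉ [27, 25, 34, 26] := fun r => by
    simp only [Cs, List.mem_filter, pos_range, Bool.not_eq_true', ← Bool.not_eq_true,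
      List.contains_iff_mem]
  have h33 : ∀ t : F, good_F4.full.x 33 t ∈ K := fun t => Subgroup.mem_sup_left
    (Subgroup.mem_sup_left (Subgroup.mem_sup_left (Subgroup.mem_sup_left (x_mem_rootSubgroup 33 t))))
  have h14 : ∀ t : F, good_F4.full.x 14 t ∈ K := fun t => Subgroup.mem_sup_left
    (Subgroup.mem_sup_left (Subgroup.mem_sup_left (Subgroup.mem_sup_right (x_mem_rootSubgroup 14 t))))
  have h24 : ∀ t : F, good_F4.full.x 24 t ∈ K := fun t => Subgroup.mem_sup_left
    (Subgroup.mem_sup_left (Subgroup.mem_sup_right (x_mem_rootSubgroup 24 t)))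
  have h23 : ∀ t : F, good_F4.full.x 23 t ∈ K := fun t => Subgroup.mem_sup_left
    (Subgroup.mem_sup_right (x_mem_rootSubgroup 23 t))
  have hKs : good_F4.US F {r | r ∈ Cs} ≤ K := by
    refine (Subgroup.closure_le _).mpr ?_
    rintro g ⟨r, hr, t, rfl⟩
    exact Subgroup.mem_sup_right (Subgroup.subset_closure
      ⟨r, t, good_F4.isPosRoot_iff.mpr ((hCs r).mp hr).1, ((hCs r).mp hr).2,
        good_F4.full.coe_x' r t⟩)
  have hKC : K ≤ chevF4.group F ⊓
      Subgroup.centralizer {good_F4.full.x 39 (1 : F) * good_F4.full.x 45 1} := by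
    have hx : ∀ s ∈ [33, 14, 24, 23] ++ Cs, ∀ t : F, good_F4.full.x s t ∈ chevF4.group F ⊓
        Subgroup.centralizer {good_F4.full.x 39 (1 : F) * good_F4.full.x 45 1} := fun s hs t =>
      Subgroup.mem_inf.mpr ⟨good_F4.x_mem_group s t, x39_x45 (F := F) ▸
        good_F4.x_mem_cent two_zero (List.all_eq_true.mp wordV s hs) t⟩
    refine sup_le (sup_le (sup_le (sup_le (rootSubgroup_le (hx 33 (by simp)))
      (rootSubgroup_le (hx 14 (by simp)))) (rootSubgroup_le (hx 24 (by simp))))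
      (rootSubgroup_le (hx 23 (by simp)))) ((Subgroup.closure_le _).mpr ?_)
    rintro g ⟨r, t, hr, hr', hg⟩
    rw [good_F4.full.eq_x.mp hg]
    exact hx r (List.mem_append_right _ ((hCs r).mpr ⟨good_F4.isPosRoot_iff.mp hr, hr'⟩)) t
  refine le_antisymm ?_ hKC
  intro g hg
  obtain ⟨hgG, hgC⟩ := Subgroup.mem_inf.mp hg
  rw [x39_x45] at hgC
  have hcg := (Subgroup.mem_centralizer_iff.mp hgC _ rfl).symm
  obtain ⟨b, hb, n, hn, L, hL, u, hu, rfl, f1, f2, hR, hfwd, -⟩ :=
    good_F4.cent_main two_zero chkV hgG hcg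
  set σ := good_F4.full.pw L
  have hA := (hfwd ⟨39, by decide⟩ (by simp) (hR 39 (by simp)).1).1
  have hB := (hfwd ⟨45, by decide⟩ (by simp) (hR 45 (by simp)).1).1
  have hp := good_F4.pairT_pw L ⟨39, by decide⟩ ⟨45, by decide⟩
  rw [short39.2] at hp
  have h39 : (σ ⟨39, by decide⟩).val = 39 ∧ (σ ⟨45, by decide⟩).val = 45 := by
    rcases pairs _ (by simpa using hA) _ (by simpa using hB) hp with h | ⟨h1, h2⟩
    · exact h
    exfalso
    have h3 := good_F4.pairT_pw L ⟨39, by decide⟩ ⟨46, by decide⟩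
    rw [short39.1, h1] at h3
    have h4 := long45 _ h3
    exact absurd (congrArg Fin.val (σ.injective (a₁ := ⟨46, by decide⟩) (a₂ := ⟨39, by decide⟩)
      (Fin.ext (h4.trans h1.symm)))) (by decide)
  have hW := good_F4.fix_mem_WJ (R := [(39, 3), (45, 2)]) (J := [0, 3]) (by decide)
    (fun i => (domV i).1) (fun i => (domV i).2) L (fun q hq hlt => by
      simp only [List.mem_cons, List.not_mem_nil, or_false] at hq
      rcases hq with rfl | rfl
      exacts [h39.1, h39.2])
  have hns : ∀ j : Fin chevF4.rank, j.val ∈ [0, 3] → good_F4.full.ns F j ∈ K := by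
    intro j hj
    obtain ⟨⟨n33, -, -, n24⟩, s0, -, -, s3⟩ := negs
    rcases List.mem_pair.mp hj with e | e <;> rw [e]
    · exact ns_mem s0 n33 h33 h14
    · exact ns_mem s3 n24 h24 h23
  obtain ⟨u0, hu0, c, k, hk, e⟩ := good_F4.cell_form hns (fun r hr hcor t => by
    rcases List.mem_pair.mp (flipV ⟨r, hr.1⟩ hr.2 hcor) with e | e <;> rw [show r = _ from e]
    exacts [h33 t, h24 t]) hb hn hL hu hW
  rw [e] at hg ⊢
  have hc : u0 * F4Data.tab.hT F c ∈
      Subgroup.centralizer {(([39, 45] : List ℕ).map fun r => good_F4.full.x r (1 : F)).prod} := by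
    rw [← x39_x45]
    have := (Subgroup.mem_inf.mp (mul_mem hg (inv_mem (hKC hk)))).2
    rwa [mul_inv_cancel_right] at this
  have hchi := good_F4.chi_eq_one two_zero chkV hu0 c hc
  have hh : F4Data.tab.hT F c ∈ K := by
    refine good_F4.hT_mem_of_support (J := [0, 3]) ?_ fun j hj => ?_
    · intro j hj t
      obtain ⟨⟨n33, -, -, n24⟩, s0, -, -, s3⟩ := negs
      rcases List.mem_pair.mp hj with e | e <;> rw [e]
      · rw [s0]; exact good_F4.hr_mem_of_x h33 (n33.symm ▸ h14) t
      · rw [s3]; exact good_F4.hr_mem_of_x h24 (n24.symm ▸ h23) t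
    · obtain ⟨-, -, ⟨a0, a1, a2, a3⟩, ⟨b0, b1, b2, b3⟩⟩ := carts
      have e39 := hchi 39 (by simp)
      have e45 := hchi 45 (by simp)
      rw [chi_eq, a0, a1, a2, a3] at e39
      rw [chi_eq, b0, b1, b2, b3] at e45
      simp only [zpow_zero, zpow_one, _root_.zpow_two, _root_.zpow_neg, one_mul, mul_one] at e39 e45
      have e21 : c (2 : Fin 4) = c (1 : Fin 4) := (inv_mul_eq_one.mp e39).symm
      have e1 : c (1 : Fin 4) = 1 := by rwa [e21, mul_inv_cancel_right] at e45
      revert hj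
      revert j
      refine fun j : Fin 4 => ?_
      fin_cases j
      · exact fun h => absurd (by simp) h
      · exact fun _ => e1
      · exact fun _ => e21.trans e1
      · exact fun h => absurd (by simp) h
  have hu0C : u0 ∈ Subgroup.centralizer {good_F4.full.x 39 (1 : F) * good_F4.full.x 45 1} := by
    have := mul_mem (x39_x45 (F := F) ▸ hc) (inv_mem (Subgroup.mem_inf.mp (hKC hh)).2)
    rwa [mul_inv_cancel_right] at this
  have hu0K : u0 ∈ K := hKs (by rw [← cent_v_pos]; exact Subgroup.mem_inf.mpr ⟨hu0, hu0C⟩)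
  exact mul_mem (mul_mem hu0K hh) hk

end F4Cent

end CfsgLib.Chev
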