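import Cfsg.Agent.Chev.CentF4

/-!
Centralisers of the root involutions of `G₂(q)`, `q` even.
-/

set_option autoImplicit false
set_option linter.style.haveILetI false

namespace CfsgLib.Chev.G2Two

open Cfsg.Lie Matrix Tab
open scoped MatrixGroups

theorem chkZ : G2Data.tab.chkCent 2 [11] [] = true := by decide +kernel

theorem chkT : G2Data.tab.chkCent 2 [9] [10, 11] = true := by decide +kernel

theorem wordZ : ([4] ++ List.range' 6 6).all (fun s => G2Data.tab.chkWord 2 50
    ((([11] : List ℕ).map fun r => (r, (1 : ℤ), 0, 0)) ++ [(s, 1, 1, 0)])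
    ((s, 1, 1, 0) :: ([11] : List ℕ).map fun r => (r, (1 : ℤ), 0, 0))) = true := by
  decide +kernel

theorem wordT : ([5, 6, 9, 10, 11] : List ℕ).all (fun s => G2Data.tab.chkWord 2 50
    ((([9] : List ℕ).map fun r => (r, (1 : ℤ), 0, 0)) ++ [(s, 1, 1, 0)])
    ((s, 1, 1, 0) :: ([9] : List ℕ).map fun r => (r, (1 : ℤ), 0, 0))) = true := by
  decide +kernel

theorem wordMove : ([(7, 10), (8, 11)] : List (ℕ × ℕ)).all (fun p =>
    G2Data.tab.chkWord 2 50 [(p.1, 1, 1, 0), (9, 1, 0, 0)]
      [(9, 1, 0, 0), (p.2, 1, 1, 0), (p.1, 1, 1, 0)]) = true := by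
  decide +kernel

theorem wordComm : G2Data.tab.chkWord 2 50 [(7, 1, 1, 0), (11, 1, 0, 1)]
    [(11, 1, 0, 1), (7, 1, 1, 0)] = true := by
  decide +kernel

theorem long10 : ∀ a ∈ ([10, 11] : List ℕ), ∀ s : Fin chevG2.nroots,
    G2Data.tab.pairT a s.val ≠ 3 := by decide +kernel

theorem short9 : G2Data.tab.pairT 9 10 = 3 := by decide +kernel

theorem domZ : ∀ i : Fin chevG2.rank,
    0 ≤ (([(11, 1)] : List (ℕ × ℤ)).map fun q => q.2 * G2Data.tab.cart i q.1).sum ∧
    ((([(11, 1)] : List (ℕ × ℤ)).map fun q => q.2 * G2Data.tab.cart i q.1).sum = 0 →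
      i.val ∈ [0] ∧ ∀ q ∈ ([(11, 1)] : List (ℕ × ℤ)), G2Data.tab.reflT i q.1 = q.1) := by
  decide +kernel

theorem domT : ∀ i : Fin chevG2.rank,
    0 ≤ (([(9, 1)] : List (ℕ × ℤ)).map fun q => q.2 * G2Data.tab.cart i q.1).sum ∧
    ((([(9, 1)] : List (ℕ × ℤ)).map fun q => q.2 * G2Data.tab.cart i q.1).sum = 0 →
      i.val ∈ [1] ∧ ∀ q ∈ ([(9, 1)] : List (ℕ × ℤ)), G2Data.tab.reflT i q.1 = q.1) := by
  decide +kernel

theorem flipT : ∀ r : Fin chevG2.nroots, chevG2.nroots ≤ 2 * r.val →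
    (∀ j : Fin chevG2.rank, j.val ∉ [1] → G2Data.tab.cor r.val j = 0) → r.val = 6 := by
  decide +kernel

theorem negs : (negR chevG2 7 = 4 ∧ negR chevG2 6 = 5) ∧
    chevG2.simple 0 = 7 ∧ chevG2.simple 1 = 6 := by decide +kernel

theorem carts : (G2Data.tab.cart 0 11 = 0 ∧ G2Data.tab.cart 1 11 = 1) ∧
    (G2Data.tab.cart 0 9 = 1 ∧ G2Data.tab.cart 1 9 = 0) := by decide +kernel

variable {F : Type*} [Field F]

theorem chi_eq (r : ℕ) (c : Fin chevG2.rank → Fˣ) :
    G2Data.tab.chi (F := F) r c =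
      c (0 : Fin 2) ^ G2Data.tab.cart 0 r * c (1 : Fin 2) ^ G2Data.tab.cart 1 r :=
  Fin.prod_univ_two (f := fun i : Fin 2 => c i ^ G2Data.tab.cart i r)

theorem rootSubgroup_le {K : Subgroup (GL chevG2.Idx F)} {r : ℕ}
    (h : ∀ t : F, good_G2.full.x r t ∈ K) : chevG2.rootSubgroup F r ≤ K := by
  refine (Subgroup.closure_le _).mpr ?_
  rintro g ⟨t, hg⟩
  rw [good_G2.full.eq_x.mp hg]
  exact h t

theorem x_mem_rootSubgroup (r : ℕ) (t : F) : good_G2.full.x r t ∈ chevG2.rootSubgroup F r :=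
  Subgroup.subset_closure ⟨t, good_G2.full.coe_x' r t⟩

theorem pos_range {r : ℕ} : IsPos chevG2 r ↔ r ∈ List.range' 6 6 := by
  rw [List.mem_range'_1]
  show (r < 12 ∧ 12 ≤ 2 * r) ↔ _
  omega

theorem ns_mem {K : Subgroup (GL chevG2.Idx F)} {j : ℕ} {a b : ℕ} (ha : chevG2.simple j = a)
    (hb : negR chevG2 a = b) (h1 : ∀ t, good_G2.full.x a t ∈ K)
    (h2 : ∀ t, good_G2.full.x b t ∈ K) : good_G2.full.ns F j ∈ K := by
  show good_G2.full.nr (chevG2.simple j) 1 ∈ K
  rw [ha]
  exact mul_mem (mul_mem (h1 _) (hb.symm ▸ h2 _)) (h1 _)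

omit [Field F] in
theorem fin_two_cases {P : Fin chevG2.rank → Prop} (h0 : P (0 : Fin 2)) (h1 : P (1 : Fin 2))
    (j : Fin chevG2.rank) : P j := by
  revert j
  refine fun j : Fin 2 => ?_
  fin_cases j
  · exact h0
  · exact h1

variable [CharP F 2]

theorem two_zero : ((2 : ℕ) : F) = 0 := CharP.cast_eq_zero F 2

omit [CharP F 2] in
theorem prod_one (r : ℕ) : good_G2.full.x r (1 : F) =
    (([r] : List ℕ).map fun r => good_G2.full.x r (1 : F)).prod := by simp

/-- The centraliser of a long root involution. -/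
theorem cent_z :
    chevG2.group F ⊓ Subgroup.centralizer {good_G2.full.x 11 (1 : F)} =
      chevG2.posUnipotent F ⊔ chevG2.rootSubgroup F 4 := by
  set K := chevG2.posUnipotent F ⊔ chevG2.rootSubgroup F 4
  have hpos : ∀ r, IsPos chevG2 r → ∀ t : F, good_G2.full.x r t ∈ K := fun r hr t =>
    Subgroup.mem_sup_left (good_G2.x_mem_pos hr t)
  have h4 : ∀ t : F, good_G2.full.x 4 t ∈ K := fun t =>
    Subgroup.mem_sup_right (x_mem_rootSubgroup 4 t)
  have hKC : K ≤ chevG2.group F ⊓ Subgroup.centralizer {good_G2.full.x 11 (1 : F)} := by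
    have hx : ∀ s ∈ [4] ++ List.range' 6 6, ∀ t : F, good_G2.full.x s t ∈ chevG2.group F ⊓
        Subgroup.centralizer {good_G2.full.x 11 (1 : F)} := fun s hs t =>
      Subgroup.mem_inf.mpr ⟨good_G2.x_mem_group s t, prod_one (F := F) 11 ▸
        good_G2.x_mem_cent two_zero (List.all_eq_true.mp wordZ s hs) t⟩
    refine sup_le ?_ (rootSubgroup_le (hx 4 (by simp)))
    rw [good_G2.posUnipotent_eq]
    refine (Subgroup.closure_le _).mpr ?_
    rintro g ⟨r, hr, t, rfl⟩
    exact hx r (List.mem_append_right _ (pos_range.mp hr)) t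
  refine le_antisymm ?_ hKC
  intro g hg
  obtain ⟨hgG, hgC⟩ := Subgroup.mem_inf.mp hg
  rw [prod_one (F := F) 11] at hgC
  have hcg := (Subgroup.mem_centralizer_iff.mp hgC _ rfl).symm
  obtain ⟨b, hb, n, hn, L, hL, u, hu, rfl, f1, f2, hR, hfwd, -⟩ :=
    good_G2.cent_main two_zero chkZ hgG hcg
  have h11 : (good_G2.full.pw L ⟨11, by decide⟩).val = 11 := by
    have := (hfwd ⟨11, by decide⟩ (by simp) (hR 11 (by simp)).1).1
    simpa using this
  have hW := good_G2.fix_mem_WJ (R := [(11, 1)]) (J := [0]) (by decide)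
    (fun i => (domZ i).1) (fun i => (domZ i).2) L (fun q hq hlt => by
      simp only [List.mem_cons, List.not_mem_nil, or_false] at hq
      subst hq
      exact h11)
  obtain ⟨⟨n7, -⟩, s0, -⟩ := negs
  have hns : ∀ j : Fin chevG2.rank, j.val ∈ [0] → good_G2.full.ns F j ∈ K := by
    intro j hj
    rw [List.mem_singleton.mp hj]
    exact ns_mem s0 n7 (hpos 7 (pos_range.mpr (by simp))) h4
  obtain ⟨u0, hu0, c, k, hk, e⟩ := good_G2.cell_form hns (fun r hr _ => hpos r hr) hb hn hL hu hW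
  rw [e] at hg ⊢
  have hc : u0 * G2Data.tab.hT F c ∈
      Subgroup.centralizer {(([11] : List ℕ).map fun r => good_G2.full.x r (1 : F)).prod} := by
    rw [← prod_one]
    have := (Subgroup.mem_inf.mp (mul_mem hg (inv_mem (hKC hk)))).2
    rwa [mul_inv_cancel_right] at this
  have hchi := good_G2.chi_eq_one two_zero chkZ hu0 c hc 11 (by simp)
  refine mul_mem (mul_mem (Subgroup.mem_sup_left hu0)
    (good_G2.hT_mem_of_support (J := [0]) ?_ ?_)) hk
  · intro j hj t
    rw [List.mem_singleton.mp hj, s0]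
    exact good_G2.hr_mem_of_x (hpos 7 (pos_range.mpr (by simp))) (n7.symm ▸ h4) t
  · obtain ⟨⟨a0, a1⟩, -⟩ := carts
    rw [chi_eq, a0, a1, zpow_zero, zpow_one, one_mul] at hchi
    exact fin_two_cases (P := fun j => j.val ∉ [0] → c j = 1) (fun h => absurd (by simp) h)
      fun _ => hchi

/-- The product of the two moving root elements. -/
noncomputable def Q (a : F × F) : GL chevG2.Idx F :=
  good_G2.full.x 7 a.1 * good_G2.full.x 8 a.2

theorem Q_conj (a : F × F) :
    Q a * good_G2.full.x 9 1 =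
      good_G2.full.x 9 1 * (good_G2.full.x 10 a.1 * good_G2.full.x 11 a.2) * Q a := by
  have m : ∀ p ∈ ([(7, 10), (8, 11)] : List (ℕ × ℕ)), ∀ t : F,
      good_G2.full.x p.1 t * good_G2.full.x 9 1 =
        good_G2.full.x 9 1 * good_G2.full.x p.2 t * good_G2.full.x p.1 t := by
    intro p hp t
    have e := good_G2.word_eq (p := 2) two_zero (List.all_eq_true.mp wordMove p hp) t 0
    simpa [Tab.Good.evTerms, mul_assoc] using e
  have c : good_G2.full.x 7 a.1 * good_G2.full.x 11 a.2 =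
      good_G2.full.x 11 a.2 * good_G2.full.x 7 a.1 := by
    have e := good_G2.word_eq (p := 2) two_zero wordComm a.1 a.2
    simpa [Tab.Good.evTerms] using e
  have m1 := m (7, 10) (by simp) a.1
  have m2 := m (8, 11) (by simp) a.2
  simp only [Q]
  set p := good_G2.full.x 7 a.1
  set q := good_G2.full.x 8 a.2
  set A := good_G2.full.x 10 a.1
  set B := good_G2.full.x 11 a.2
  set v := good_G2.full.x 9 (1 : F)
  calc p * q * v = (p * v) * B * q := by rw [mul_assoc p q v, m2]; group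
    _ = v * A * (p * B) * q := by rw [m1]; group
    _ = v * (A * B) * (p * q) := by rw [c]; group

variable [Finite F]

/-- The centraliser of the short root involution in `U`. -/
theorem cent_t_pos :
    chevG2.posUnipotent F ⊓ Subgroup.centralizer {good_G2.full.x 9 (1 : F)} =
      good_G2.US F {r | r ∈ [6, 9, 10, 11]} := by
  set v := good_G2.full.x 9 (1 : F)
  set C := chevG2.posUnipotent F ⊓ Subgroup.centralizer {v}
  have hcl : ∀ r ∈ ([6, 9, 10, 11] : List ℕ), (r < 12 ∧ 12 ≤ 2 * r) ∧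
      ∀ s ∈ ([6, 9, 10, 11] : List ℕ), ∀ c ∈ G2Data.tab.commT r s,
        c.1 ∈ ([6, 9, 10, 11] : List ℕ) := by decide +kernel
  have hclosed : G2Data.tab.Closed {r | r ∈ [6, 9, 10, 11]} :=
    ⟨fun r hr => (hcl r hr).1, fun r hr s hs c hc => (hcl r hr).2 s hs c hc⟩
  have hle : good_G2.US F {r | r ∈ [6, 9, 10, 11]} ≤ C := by
    refine (Subgroup.closure_le _).mpr ?_
    rintro g ⟨r, hr, t, rfl⟩
    refine Subgroup.mem_inf.mpr ⟨good_G2.x_mem_pos (hclosed.1 r hr) t, ?_⟩
    show _ ∈ Subgroup.centralizer {v}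
    rw [show v = _ from prod_one 9]
    exact good_G2.x_mem_cent two_zero (List.all_eq_true.mp wordT r (List.mem_cons_of_mem _ hr)) t
  classical
  have hcard : Nat.card (good_G2.US F {r | r ∈ [6, 9, 10, 11]}) = Nat.card F ^ 4 := by
    rw [good_G2.card_US hclosed]
    congr 1
    rw [Nat.card_congr (Equiv.subtypeEquivRight (q := fun r => r ∈ ([6, 9, 10, 11] : List ℕ).toFinset)
      fun r => by simp), Nat.card_eq_finsetCard]
    decide +kernel
  have hU : Nat.card (chevG2.posUnipotent F) = Nat.card F ^ 6 := by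
    rw [good_G2.posUnipotent_eq, good_G2.card_US good_G2.closed_pos]
    congr 1
    rw [Nat.card_congr (Equiv.subtypeEquivRight (q := fun r => r ∈ (List.range' 6 6).toFinset)
      fun r => by
        simp only [List.mem_toFinset]
        exact pos_range), Nat.card_eq_finsetCard]
    decide +kernel
  let φ : (F × F) × C → chevG2.posUnipotent F := fun p =>
    ⟨Q p.1 * p.2.1, mul_mem (mul_mem (good_G2.x_mem_pos (pos_range.mpr (by simp)) _)
      (good_G2.x_mem_pos (pos_range.mpr (by simp)) _)) (Subgroup.mem_inf.mp p.2.2).1⟩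
  have hinj : Function.Injective φ := by
    rintro ⟨a, x⟩ ⟨a', x'⟩ e
    have e' : Q a * (x : GL chevG2.Idx F) = Q a' * x' := congrArg Subtype.val e
    have hx : ∀ y : C, (y : GL chevG2.Idx F) * v = v * y := fun y =>
      (Subgroup.mem_centralizer_iff.mp (Subgroup.mem_inf.mp y.2).2 v rfl).symm
    let w : F × F → GL chevG2.Idx F := fun a =>
      good_G2.full.x 10 a.1 * good_G2.full.x 11 a.2
    have key : ∀ (a : F × F) (y : C), Q a * y * v * (Q a * y)⁻¹ = v * w a := fun a y => by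
      rw [mul_assoc (Q a) (y : GL chevG2.Idx F) v, hx y, ← mul_assoc, Q_conj]
      simp only [v, w]
      group
    have ew : w a = w a' := mul_left_cancel (a := v) (by rw [← key a x, ← key a' x', e'])
    let X : Set ℕ := {r | r ∈ [9] ++ [10, 11]}
    let δ : ℕ → F → ℕ → F := fun k t r => if r = k then t else 0
    have hs : ∀ k, k ∈ ([9] ++ [10, 11] : List ℕ) → ∀ t : F,
        good_G2.full.x k t = good_G2.segProd X (δ k t) 0 chevG2.nroots := fun k hk t => by
      rw [good_G2.segProd_single X hk, if_pos]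
      exact ⟨Nat.zero_le _, by rw [zero_add]; exact ((Tab.Good.cent_spec chkT).1 k hk).1.1⟩
    have hA : ∀ a : F × F, w a = good_G2.segProd X (fun r => δ 10 a.1 r + δ 11 a.2 r) 0
        chevG2.nroots := by
      intro a
      simp only [w]
      rw [hs 10 (by simp), hs 11 (by simp)]
      simp only [good_G2.segProd_add X (good_G2.cent_commute two_zero chkT)]
    rw [hA, hA] at ew
    have hi := good_G2.cent_inj two_zero chkT ew
    have h10 := hi 10 (by simp)
    have h11 := hi 11 (by simp)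
    simp [δ] at h10 h11
    obtain rfl : a = a' := Prod.ext h10 h11
    exact Prod.ext rfl (Subtype.ext (mul_left_cancel e'))
  have h1 : Nat.card ((F × F) × C) ≤ Nat.card (chevG2.posUnipotent F) :=
    Nat.card_le_card_of_injective φ hinj
  rw [hU, Nat.card_prod, Nat.card_prod] at h1
  have hq : 0 < Nat.card F := Nat.card_pos
  have h2 : Nat.card C ≤ Nat.card F ^ 4 := by
    refine Nat.le_of_mul_le_mul_left ?_ (pow_pos hq 2)
    calc Nat.card F ^ 2 * Nat.card C = Nat.card F * Nat.card F * Nat.card C := by ring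
      _ ≤ Nat.card F ^ 6 := h1
      _ = _ := by ring
  exact (Subgroup.eq_of_le_of_card_ge hle (by rw [hcard]; exact h2)).symm

/-- The centraliser of a short root involution. -/
theorem cent_t :
    chevG2.group F ⊓ Subgroup.centralizer {good_G2.full.x 9 (1 : F)} =
      chevG2.rootSubgroup F 9 ⊔ chevG2.rootSubgroup F 10 ⊔ chevG2.rootSubgroup F 11 ⊔
        chevG2.rootSubgroup F 6 ⊔ chevG2.rootSubgroup F 5 := by
  set K := chevG2.rootSubgroup F 9 ⊔ chevG2.rootSubgroup F 10 ⊔ chevG2.rootSubgroup F 11 ⊔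
    chevG2.rootSubgroup F 6 ⊔ chevG2.rootSubgroup F 5
  have hK : ∀ r ∈ ([5, 6, 9, 10, 11] : List ℕ), ∀ t : F, good_G2.full.x r t ∈ K := by
    have e : ∀ r ∈ ([5, 6, 9, 10, 11] : List ℕ), chevG2.rootSubgroup F r ≤ K := by
      intro r hr
      simp only [List.mem_cons, List.not_mem_nil, or_false] at hr
      rcases hr with rfl | rfl | rfl | rfl | rfl
      · exact le_sup_right
      · exact le_sup_of_le_left le_sup_right
      · exact le_sup_of_le_left (le_sup_of_le_left (le_sup_of_le_left le_sup_left))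
      · exact le_sup_of_le_left (le_sup_of_le_left (le_sup_of_le_left le_sup_right))
      · exact le_sup_of_le_left (le_sup_of_le_left le_sup_right)
    exact fun r hr t => e r hr (x_mem_rootSubgroup r t)
  have hKC : K ≤ chevG2.group F ⊓ Subgroup.centralizer {good_G2.full.x 9 (1 : F)} := by
    have hx : ∀ s ∈ ([5, 6, 9, 10, 11] : List ℕ), ∀ t : F, good_G2.full.x s t ∈ chevG2.group F ⊓
        Subgroup.centralizer {good_G2.full.x 9 (1 : F)} := fun s hs t =>
      Subgroup.mem_inf.mpr ⟨good_G2.x_mem_group s t, prod_one (F := F) 9 ▸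
        good_G2.x_mem_cent two_zero (List.all_eq_true.mp wordT s hs) t⟩
    exact sup_le (sup_le (sup_le (sup_le (rootSubgroup_le (hx 9 (by simp)))
      (rootSubgroup_le (hx 10 (by simp)))) (rootSubgroup_le (hx 11 (by simp))))
      (rootSubgroup_le (hx 6 (by simp)))) (rootSubgroup_le (hx 5 (by simp)))
  refine le_antisymm ?_ hKC
  intro g hg
  obtain ⟨hgG, hgC⟩ := Subgroup.mem_inf.mp hg
  rw [prod_one (F := F) 9] at hgC
  have hcg := (Subgroup.mem_centralizer_iff.mp hgC _ rfl).symm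
  obtain ⟨b, hb, n, hn, L, hL, u, hu, rfl, f1, f2, hR, hfwd, -⟩ :=
    good_G2.cent_main two_zero chkT hgG hcg
  set σ := good_G2.full.pw L
  have hA := (hfwd ⟨9, by decide⟩ (by simp) (hR 9 (by simp)).1).1
  have h9 : (σ ⟨9, by decide⟩).val = 9 := by
    rcases List.mem_cons.mp (show (σ ⟨9, by decide⟩).val ∈ [9, 10, 11] by simpa using hA) with h | h
    · exact h
    exfalso
    have h3 := good_G2.pairT_pw L ⟨9, by decide⟩ ⟨10, by decide⟩
    rw [short9] at h3
    exact long10 _ h _ h3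
  have hW := good_G2.fix_mem_WJ (R := [(9, 1)]) (J := [1]) (by decide)
    (fun i => (domT i).1) (fun i => (domT i).2) L (fun q hq hlt => by
      simp only [List.mem_cons, List.not_mem_nil, or_false] at hq
      subst hq
      exact h9)
  obtain ⟨⟨-, n6⟩, -, s1⟩ := negs
  have hns : ∀ j : Fin chevG2.rank, j.val ∈ [1] → good_G2.full.ns F j ∈ K := by
    intro j hj
    rw [List.mem_singleton.mp hj]
    exact ns_mem s1 n6 (hK 6 (by simp)) (hK 5 (by simp))
  obtain ⟨u0, hu0, c, k, hk, e⟩ := good_G2.cell_form hns (fun r hr hcor t => by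
    rw [show r = 6 from flipT ⟨r, hr.1⟩ hr.2 hcor]
    exact hK 6 (by simp) t) hb hn hL hu hW
  rw [e] at hg ⊢
  have hc : u0 * G2Data.tab.hT F c ∈
      Subgroup.centralizer {(([9] : List ℕ).map fun r => good_G2.full.x r (1 : F)).prod} := by
    rw [← prod_one]
    have := (Subgroup.mem_inf.mp (mul_mem hg (inv_mem (hKC hk)))).2
    rwa [mul_inv_cancel_right] at this
  have hchi := good_G2.chi_eq_one two_zero chkT hu0 c hc 9 (by simp)
  have hh : G2Data.tab.hT F c ∈ K := by
    refine good_G2.hT_mem_of_support (J := [1]) ?_ ?_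
    · intro j hj t
      rw [List.mem_singleton.mp hj, s1]
      exact good_G2.hr_mem_of_x (hK 6 (by simp)) (n6.symm ▸ hK 5 (by simp)) t
    · obtain ⟨-, a0, a1⟩ := carts
      rw [chi_eq, a0, a1, zpow_zero, zpow_one, mul_one] at hchi
      exact fin_two_cases (P := fun j => j.val ∉ [1] → c j = 1) (fun _ => hchi)
        fun h => absurd (by simp) h
  have hu0C : u0 ∈ Subgroup.centralizer {good_G2.full.x 9 (1 : F)} := by
    have := mul_mem (prod_one (F := F) 9 ▸ hc) (inv_mem (Subgroup.mem_inf.mp (hKC hh)).2)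
    rwa [mul_inv_cancel_right] at this
  have hu0K : u0 ∈ K := by
    have : u0 ∈ good_G2.US F {r | r ∈ [6, 9, 10, 11]} := by
      rw [← cent_t_pos]; exact Subgroup.mem_inf.mpr ⟨hu0, hu0C⟩
    refine (Subgroup.closure_le _).mpr ?_ this
    rintro g ⟨r, hr, t, rfl⟩
    exact hK r (List.mem_cons_of_mem _ hr) t
  exact mul_mem (mul_mem hu0K hh) hk

end CfsgLib.Chev.G2Two
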