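import Cfsg.Agent.Chev.CentF4

/-!
Centralisers of root elements whose root is orthogonal to all fundamental roots but one.
-/

set_option autoImplicit false

namespace CfsgLib.Chev

open Cfsg.Lie Matrix
open scoped MatrixGroups

namespace Tab

variable {D : ChevalleyDatum}

/-- The certificate for a root `r` orthogonal to all fundamental roots but the `k`th, with the list
of the negatives of those fundamental roots. -/
def chkTop (T : Tab D) (p r k : ℕ) (l : List ℕ) : Bool :=
  Nat.blt r D.nroots && Nat.blt k D.rank &&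
    allBelow (fun i => decide (T.cart i r = if i = k then 1 else 0) &&
      (Nat.beq i k || (Nat.beq (T.reflT i r) r && l.contains (negR D (D.simple i))))) D.rank &&
    allBelow (fun s => Nat.blt (Nat.mul 2 s) D.nroots || T.chkCommute p s r) D.nroots &&
    l.all (fun s => T.chkCommute p s r)

namespace Good

variable {T : Tab D} (G : T.Good) {F : Type*} [Field F]
include G

/-- The centraliser of such a root element. -/
theorem cent_top {p : ℕ} (hp : (p : F) = 0) {r k : ℕ} {l : List ℕ}
    (hC : T.chkCent p [r] [] = true) (h : T.chkTop p r k l = true) {t : GL D.Idx F}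
    (ht : (t : Matrix D.Idx D.Idx F) = D.x F r 1) :
    D.group F ⊓ Subgroup.centralizer {t} = D.posUnipotent F ⊔ Subgroup.closure
      {g : GL D.Idx F | ∃ s ∈ l, ∃ c : F, (g : Matrix D.Idx D.Idx F) = D.x F s c} := by
  obtain rfl : t = G.full.x r (1 : F) := G.full.eq_x.mp ht
  simp only [chkTop, allBelow_iff, Bool.and_eq_true, Bool.or_eq_true, Nat.blt_eq, Nat.beq_eq,
    List.all_eq_true, decide_eq_true_eq, List.contains_iff_mem] at h
  obtain ⟨⟨⟨⟨hr, hk⟩, hnode⟩, hposc⟩, hlc⟩ := h
  set K := D.posUnipotent F ⊔ Subgroup.closure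
    {g : GL D.Idx F | ∃ s ∈ l, ∃ c : F, (g : Matrix D.Idx D.Idx F) = D.x F s c}
  have hpos : ∀ s, IsPos D s → ∀ u : F, G.full.x s u ∈ K := fun s hs u =>
    Subgroup.mem_sup_left (G.x_mem_pos hs u)
  have hl : ∀ s ∈ l, ∀ u : F, G.full.x s u ∈ K := fun s hs u =>
    Subgroup.mem_sup_right (Subgroup.subset_closure ⟨s, hs, u, G.full.coe_x' s u⟩)
  have hv : G.full.x r (1 : F) = (([r] : List ℕ).map fun r => G.full.x r (1 : F)).prod := by simp
  have hKC : K ≤ D.group F ⊓ Subgroup.centralizer {G.full.x r (1 : F)} := by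
    have hx : ∀ s, T.chkCommute p s r = true → ∀ u : F, G.full.x s u ∈
        D.group F ⊓ Subgroup.centralizer {G.full.x r (1 : F)} := fun s hs u => by
      refine Subgroup.mem_inf.mpr ⟨G.x_mem_group s u, Subgroup.mem_centralizer_iff.mpr ?_⟩
      rintro g (rfl : g = _)
      exact (G.x_commute hp hs u 1).eq.symm
    refine sup_le ?_ ((Subgroup.closure_le _).mpr ?_)
    · rw [G.posUnipotent_eq]
      refine (Subgroup.closure_le _).mpr ?_
      rintro g ⟨s, hs, u, rfl⟩
      exact hx s ((hposc s hs.1).resolve_left (Nat.not_lt.mpr hs.2)) u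
    · rintro g ⟨s, hs, u, hg⟩
      rw [G.full.eq_x.mp hg]
      exact hx s (hlc s hs) u
  refine le_antisymm ?_ hKC
  intro g hg
  obtain ⟨hgG, hgC⟩ := Subgroup.mem_inf.mp hg
  rw [hv] at hgC
  have hcg := (Subgroup.mem_centralizer_iff.mp hgC _ rfl).symm
  obtain ⟨b, hb, n, hn, L, hL, u, hu, rfl, f1, f2, hR, hfwd, -⟩ := G.cent_main hp hC hgG hcg
  have hfix : (G.full.pw L ⟨r, hr⟩).val = r := by
    have := (hfwd ⟨r, hr⟩ (by simp) (hR r (by simp)).1).1
    simpa using this
  set J : List ℕ := (List.range D.rank).filter fun i => !(Nat.beq i k) with hJdef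
  have hJmem : ∀ i : ℕ, i ∈ J ↔ i < D.rank ∧ i ≠ k := fun i => by
    simp only [hJdef, List.mem_filter, List.mem_range, Bool.not_eq_true']
    refine and_congr_right fun _ => ⟨fun e e' => ?_, fun e => beq_false e⟩
    rw [e'] at e
    simp at e
  have hW := G.fix_mem_WJ (R := [(r, 1)]) (J := J) (by simpa using hr)
    (fun i => by
      simp only [List.map_cons, List.map_nil, List.sum_cons, List.sum_nil, add_zero, one_mul,
        (hnode i i.isLt).1]
      split_ifs <;> norm_num)
    (fun i hi => by
      simp only [List.map_cons, List.map_nil, List.sum_cons, List.sum_nil, add_zero, one_mul,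
        (hnode i i.isLt).1] at hi
      have hne : i.val ≠ k := fun e => by rw [if_pos e] at hi; exact one_ne_zero hi
      refine ⟨(hJmem _).mpr ⟨i.isLt, hne⟩, fun q hq => ?_⟩
      rw [List.mem_singleton.mp hq]
      exact ((hnode i i.isLt).2.resolve_left hne).1) L
    (fun q hq hlt => by
      obtain rfl := List.mem_singleton.mp hq
      exact hfix)
  have hneg : ∀ j : Fin D.rank, j.val ∈ J → ∀ u : F,
      G.full.x (negR D (D.simple j)) u ∈ K := fun j hj =>
    hl _ ((hnode j j.isLt).2.resolve_left ((hJmem _).mp hj).2).2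
  have hns : ∀ j : Fin D.rank, j.val ∈ J → G.full.ns F j ∈ K := fun j hj =>
    mul_mem (mul_mem (hpos _ (G.pos_simp j) _) (hneg j hj _)) (hpos _ (G.pos_simp j) _)
  obtain ⟨u0, hu0, c, m, hm, e⟩ := G.cell_form hns (fun s hs _ => hpos s hs) hb hn hL hu hW
  rw [e] at hg ⊢
  have hc : u0 * T.hT F c ∈
      Subgroup.centralizer {(([r] : List ℕ).map fun r => G.full.x r (1 : F)).prod} := by
    rw [← hv]
    have := (Subgroup.mem_inf.mp (mul_mem hg (inv_mem (hKC hm)))).2
    rwa [mul_inv_cancel_right] at this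
  have hchi := G.chi_eq_one hp hC hu0 c hc r (by simp)
  refine mul_mem (mul_mem (Subgroup.mem_sup_left hu0)
    (G.hT_mem_of_support (J := J)
      (fun j hj => G.hr_mem_of_x (hpos _ (G.pos_simp j)) (hneg j hj)) fun j hj => ?_)) hm
  have hjk : j.val = k := by
    by_contra hne
    exact hj ((hJmem _).mpr ⟨j.isLt, hne⟩)
  have e2 : T.chi (F := F) r c = c j := by
    show ∏ i, c i ^ T.cart i r = c j
    rw [Finset.prod_eq_single j (fun i _ hi => by
      rw [(hnode i i.isLt).1, if_neg (fun e => hi (Fin.ext (e.trans hjk.symm))), zpow_zero])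
      (fun h => absurd (Finset.mem_univ _) h), (hnode j j.isLt).1, if_pos hjk, zpow_one]
  exact e2.symm.trans hchi

end Good

end Tab

end CfsgLib.Chev
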