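import Cfsg.Agent.Chev.InvolCent

/-!
Orders of the centralisers of torus elements, and the classes of involutions.
-/

set_option autoImplicit false
set_option linter.style.haveILetI false

namespace CfsgLib.Chev

open Cfsg.Lie Matrix
open scoped MatrixGroups

/-- Natural-number polynomials with small coefficients are determined by one value. -/
theorem poly_eq_of_eval {B : ℕ} : ∀ (n : ℕ) (p r : Polynomial ℕ), p.natDegree ≤ n → r.natDegree ≤ n →
    (∀ i, p.coeff i < B) → (∀ i, r.coeff i < B) → p.eval B = r.eval B → p = r := by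
  have hsplit : ∀ p : Polynomial ℕ, p.eval B = p.divX.eval B * B + p.coeff 0 := fun p => by
    conv_lhs => rw [← p.divX_mul_X_add]
    simp
  intro n
  induction n with
  | zero =>
    intro p r hp hr _ _ h
    rw [Polynomial.eq_C_of_natDegree_eq_zero (Nat.le_zero.mp hp),
      Polynomial.eq_C_of_natDegree_eq_zero (Nat.le_zero.mp hr)] at h ⊢
    simpa using h
  | succ n ih =>
    intro p r hp hr hpc hrc h
    rw [hsplit p, hsplit r] at h
    have h0 : p.coeff 0 = r.coeff 0 := by
      have := congrArg (fun x => x % B) h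
      simpa [Nat.add_mod, Nat.mod_eq_of_lt (hpc 0), Nat.mod_eq_of_lt (hrc 0)] using this
    have hB : 0 < B := lt_of_le_of_lt (Nat.zero_le _) (hpc 0)
    have h1 : p.divX.eval B = r.divX.eval B := by
      rw [h0] at h
      exact Nat.eq_of_mul_eq_mul_right hB (Nat.add_right_cancel h)
    have hd : ∀ s : Polynomial ℕ, s.natDegree ≤ n + 1 → s.divX.natDegree ≤ n := fun s hs => by
      rw [Polynomial.natDegree_divX_eq_natDegree_tsub_one]; omega
    have := ih p.divX r.divX (hd p hp) (hd r hr) (fun i => by rw [Polynomial.coeff_divX]; exact hpc _)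
      (fun i => by rw [Polynomial.coeff_divX]; exact hrc _) h1
    rw [← p.divX_mul_X_add, ← r.divX_mul_X_add, this, h0]

theorem coeff_le_eval_one (p : Polynomial ℕ) (i : ℕ) : p.coeff i ≤ p.eval 1 := by
  rw [Polynomial.eval_eq_sum, Polynomial.sum]
  simp only [one_pow, mul_one]
  by_cases h : i ∈ p.support
  · exact Finset.single_le_sum (f := fun j => p.coeff j) (fun _ _ => Nat.zero_le _) h
  · rw [Polynomial.notMem_support_iff.mp h]
    exact Nat.zero_le _

/-- The product of geometric sums. -/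
def gprod {R : Type*} [CommSemiring R] (q : R) (ds : List ℕ) : R :=
  (ds.map fun d => ((List.range d).map fun i => q ^ i).sum).prod

theorem gprod_eval (q : ℕ) (ds : List ℕ) :
    (gprod (Polynomial.X : Polynomial ℕ) ds).eval q = gprod q ds := by
  rw [gprod, ← Polynomial.coe_evalRingHom, map_list_prod, List.map_map, gprod]
  refine congrArg List.prod (List.map_congr_left fun d _ => ?_)
  show ((List.range d).map fun i => (Polynomial.X : Polynomial ℕ) ^ i).sum.eval q = _
  rw [← Polynomial.coe_evalRingHom, map_list_sum, List.map_map]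
  simp [Function.comp_def]

theorem gprod_mul (q : ℕ) (hq : 1 ≤ q) : ∀ ds : List ℕ,
    (q - 1) ^ ds.length * gprod q ds = (ds.map fun d => q ^ d - 1).prod
  | [] => by simp [gprod]
  | d :: ds => by
    have h := gprod_mul q hq ds
    have hd : (q - 1) * ((List.range d).map fun i => q ^ i).sum = q ^ d - 1 := by
      rw [Tab.list_sum_range (fun i => q ^ i) d, Fin.sum_univ_eq_sum_range (fun i => q ^ i) d]
      obtain ⟨x, rfl⟩ := Nat.exists_eq_add_of_le' hq
      have := geom_sum_mul_add x d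
      rw [Nat.add_sub_cancel, ← this, Nat.add_sub_cancel, mul_comm]
    rw [List.map_cons, List.prod_cons, List.length_cons, pow_succ, ← h, ← hd, gprod, gprod,
      List.map_cons, List.prod_cons]
    ring

namespace Tab

variable {D : ChevalleyDatum}

/-- The exponents of the count. -/
def chkCount (D : ChevalleyDatum) (ms : List ℕ) (b : ℕ) (ds : List ℕ)
    (ls : List (ℕ × List (ℕ × ℕ) × List ℕ)) : Bool :=
  Nat.blt (gprod 1 ds) 4294967296 && Nat.blt ((ls.map fun x => x.2.2.length).prod) 4294967296 &&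
    Nat.blt b (Nat.pow 2 D.rank) && Nat.beq ds.length D.rank &&
    Nat.beq ((countAll 4294967296 D.rank ms b ls).get b) (gprod 4294967296 ds)

/-- The number of positive roots trivial on an involution of the torus. -/
def chkNum (T : Tab D) (b N : ℕ) : Bool :=
  Nat.beq ((List.range D.nroots).countP fun s => Nat.ble D.nroots (Nat.mul 2 s) &&
    decide (((List.range D.rank).map fun i =>
      cond (Nat.testBit b i) (T.cart i s) 0).sum % 2 = 0)) N

namespace Good

variable {T : Tab D} (G : T.Good) {F : Type*} [Field F]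
include G

theorem chi_cbit_eq_one_iff (h2 : (2 : F) ≠ 0) (b s : ℕ) :
    T.chi (F := F) s (cbit D F b) = 1 ↔
      ((List.range D.rank).map fun i => cond (Nat.testBit b i) (T.cart i s) 0).sum % 2 = 0 := by
  have e : T.chi (F := F) s (cbit D F b) = (-1) ^
      (∑ i : Fin D.rank, cond (Nat.testBit b i) (T.cart i s) 0) := by
    rw [zpow_sum_eq_prod]
    show ∏ i : Fin D.rank, cbit D F b i ^ T.cart i s = _
    refine Finset.prod_congr rfl fun i _ => ?_
    simp only [cbit]
    cases Nat.testBit b i <;> simp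
  rw [e, list_sum_range]
  set n := ∑ i : Fin D.rank, cond (Nat.testBit b i.val) (T.cart i s) 0
  rcases Int.even_or_odd n with hn | hn
  · simp [hn.neg_one_zpow, Int.even_iff.mp hn]
  · simp only [hn.neg_one_zpow, Int.odd_iff.mp hn, one_ne_zero, iff_false]
    intro h
    have := congrArg Units.val h
    simp only [Units.val_neg, Units.val_one] at this
    exact h2 (by linear_combination -this)

theorem segProd_conj {S : Set ℕ} (hS : ∀ s ∈ S, s < D.nroots) (c : Fin D.rank → Fˣ)
    (f : ℕ → F) : ∀ m k, T.hT F c * G.segProd S f k m * (T.hT F c)⁻¹ =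
      G.segProd S (fun r => (T.chi (F := F) r c : F) * f r) k m := by
  intro m
  induction m with
  | zero => intro k; simp [segProd]
  | succ m ih =>
    intro k
    rw [segProd, segProd, show ∀ a b : GL D.Idx F, T.hT F c * (a * b) * (T.hT F c)⁻¹ =
      (T.hT F c * a * (T.hT F c)⁻¹) * (T.hT F c * b * (T.hT F c)⁻¹) from fun a b => by group, ih]
    congr 1
    by_cases hk : k ∈ S
    · rw [if_pos hk, if_pos hk, G.full.hT_conj (hS k hk)]
    · rw [if_neg hk, if_neg hk]; simp

theorem segProd_subset {S S' : Set ℕ} {f : ℕ → F}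
    (hf : ∀ r ∈ S, r ∉ S' → f r = 0) : ∀ m k, G.segProd S f k m ∈ G.US F S' := by
  intro m
  induction m with
  | zero => intro k; simp [segProd]
  | succ m ih =>
    intro k
    refine mul_mem ?_ (ih _)
    by_cases hk : k ∈ S
    · rw [if_pos hk]
      by_cases hk' : k ∈ S'
      · exact G.x_mem_US hk' _
      · rw [hf k hk hk', G.full.x_zero]; exact one_mem _
    · rw [if_neg hk]; exact one_mem _

/-- The elements of a unipotent group fixed by a torus element. -/
theorem fixed_US {S : Set ℕ} (hS : T.Closed S) (c : Fin D.rank → Fˣ) {u : GL D.Idx F}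
    (hu : u ∈ G.US F S) : T.hT F c * u * (T.hT F c)⁻¹ = u ↔
      u ∈ G.US F {s | s ∈ S ∧ T.chi (F := F) s c = 1} := by
  have hlt : ∀ s ∈ S, s < D.nroots := fun s hs => (hS.1 s hs).1
  constructor
  · intro h
    rw [← SetLike.mem_coe, G.US_eq_range hS] at hu
    obtain ⟨f, rfl⟩ := hu
    rw [G.segProd_conj hlt] at h
    refine G.segProd_subset (fun r hr hr' => ?_) _ _
    have e := G.segProd_injective hS D.nroots 0 _ _ (zero_add _) h r hr (Nat.zero_le _)
    by_contra hne
    refine hr' ⟨hr, Units.ext ?_⟩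
    exact mul_right_cancel₀ hne (by rw [e, Units.val_one, one_mul])
  · intro h
    clear hu
    induction h using Subgroup.closure_induction with
    | mem u hu =>
      obtain ⟨r, hr, t, rfl⟩ := hu
      rw [G.full.hT_conj (hlt r hr.1), hr.2, Units.val_one, one_mul]
    | one => simp
    | mul a b _ _ ha hb =>
      rw [show T.hT F c * (a * b) * (T.hT F c)⁻¹ =
        (T.hT F c * a * (T.hT F c)⁻¹) * (T.hT F c * b * (T.hT F c)⁻¹) by group, ha, hb]
    | inv a _ ha =>
      rw [show T.hT F c * a⁻¹ * (T.hT F c)⁻¹ = (T.hT F c * a * (T.hT F c)⁻¹)⁻¹ by group, ha]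

theorem closed_chi {S : Set ℕ} (hS : T.Closed S) (c : Fin D.rank → Fˣ) :
    T.Closed {s | s ∈ S ∧ T.chi (F := F) s c = 1} := by
  refine ⟨fun r hr => hS.1 r hr.1, fun r hr s hs x hx => ⟨hS.2 r hr.1 s hs.1 x hx, ?_⟩⟩
  obtain ⟨i, j, -, -, hw⟩ := G.comm_add (hS.1 r hr.1).1 (hS.1 s hs.1).1 hx
  have hlt := (hS.1 x.1 (hS.2 r hr.1 s hs.1 x hx)).1
  have ew : ∀ k : Fin D.rank, T.cart k x.1 = i * T.cart k r + j * T.cart k s := fun k => by
    have := hw _ (G.full.cert.isAdd_wt k.isLt)
    rwa [T.wt_root hlt, T.wt_root (hS.1 r hr.1).1, T.wt_root (hS.1 s hs.1).1] at this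
  have h1 : T.chi (F := F) x.1 c = T.chi (F := F) r c ^ i * T.chi (F := F) s c ^ j := by
    simp only [chi, MonoidHom.coe_mk, OneHom.coe_mk, ← Finset.prod_zpow, ← _root_.zpow_mul,
      ← Finset.prod_mul_distrib, ← _root_.zpow_add]
    exact Finset.prod_congr rfl fun k _ => by rw [ew k]; ring_nf
  rw [h1, hr.2, hs.2, _root_.one_zpow, _root_.one_zpow, one_mul]

/-- The order of the centraliser of a torus element. -/
theorem card_cent [Fintype F] {M : List (List ℤ)} (hM : T.chkSC M = true)
    (c : Fin D.rank → Fˣ) :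
    Nat.card ↥(D.group F ⊓ Subgroup.centralizer {T.hT F c}) =
      Fintype.card F ^ Nat.card {s | IsPos D s ∧ T.chi (F := F) s c = 1} *
        (Fintype.card F - 1) ^ D.rank *
        G.full.cpoly (List.range D.rank) c c (Fintype.card F) := by
  classical
  set t := T.hT F c
  have hcz : ∀ {g : GL D.Idx F}, g ∈ Subgroup.centralizer {t} ↔ g * t = t * g := fun {g} => by
    rw [Subgroup.mem_centralizer_iff]
    exact ⟨fun h => (h t rfl).symm, fun h x hx => by rw [hx, h]⟩
  let W : Finset (Equiv.Perm (Fin D.nroots)) := Finset.univ.filter fun σ =>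
    σ ∈ G.full.WJ (List.range D.rank) ∧
      ∀ s : Fin D.nroots, T.chi (F := F) (σ s).val c = T.chi s.val c
  have hword : ∀ σ : W, ∃ L, G.full.pw L = σ.1 := fun σ => by
    obtain ⟨L, -, hL⟩ := G.exists_word_WJ (Finset.mem_filter.mp σ.2).2.1
    exact ⟨L, hL⟩
  choose L hL using hword
  let n : W → GL D.Idx F := fun σ => G.full.nw F (L σ)
  have hn : ∀ σ : W, G.full.RootAct (n σ) σ.1 := fun σ => by
    have := G.rootAct_nw (F := F) (L σ)
    rwa [hL σ] at this
  -- monomial elements fixing `t`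
  have hfix : ∀ (m : GL D.Idx F) (σ : Equiv.Perm (Fin D.nroots)), m ∈ D.monomialSubgroup F →
      G.full.RootAct m σ →
      (m * t = t * m ↔ ∀ s : Fin D.nroots, T.chi (F := F) (σ s).val c = T.chi s.val c) := by
    intro m σ hm hσ
    have hd : m * t * m⁻¹ ∈ D.diagonalSubgroup F :=
      (G.diagonal_normal (F := F)).conj_mem ⟨t, G.hT_mem_monomial c⟩
        (by rw [Subgroup.mem_subgroupOf, G.full.diagonal_eq_range]; exact ⟨c, rfl⟩) ⟨m, hm⟩
    rw [G.full.diagonal_eq_range] at hd
    obtain ⟨e, he⟩ := hd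
    obtain ⟨k, hk⟩ := hσ
    have key : ∀ s : Fin D.nroots, T.chi (F := F) (σ s).val e = T.chi s.val c := by
      intro s
      have h1 : m * (t * G.full.x s.val 1 * t⁻¹) * m⁻¹ =
          T.hT F e * (m * G.full.x s.val 1 * m⁻¹) * (T.hT F e)⁻¹ := by rw [he]; group
      rw [G.full.hT_conj s.isLt, (hk s).2.2.2, (hk s).2.2.2, G.full.hT_conj (Fin.isLt _)] at h1
      have h3 : G.full.x (σ s).val ((k s : F) * ((T.chi (F := F) s.val c : F) * 1) -
          (T.chi (F := F) (σ s).val e : F) * ((k s : F) * 1)) = 1 := by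
        rw [sub_eq_add_neg, ← G.full.x_add, ← G.full.x_inv, mul_inv_eq_one]
        exact h1
      have h4 := G.x_eq_one (Fin.isLt _) h3
      exact Units.ext (mul_right_cancel₀ (Units.ne_zero (k s)) (by linear_combination -h4))
    constructor
    · intro h s
      have : e = c := by
        have h5 : T.hT F (e * c⁻¹) = 1 := by
          rw [map_mul, map_inv, he, h, mul_inv_cancel_right, mul_inv_cancel]
        exact mul_inv_eq_one.mp (G.sc_hT_inj hM h5)
      rw [← key s, this]
    · intro h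
      have h5 : T.hT F (e * c⁻¹) = 1 := (G.full.hT_eq_one_iff _).mpr fun j hj => by
        have h6 := key (σ.symm ⟨D.simple j, G.full.simple_lt hj⟩)
        rw [← h (σ.symm _), Equiv.apply_symm_apply] at h6
        rw [map_mul, map_inv, mul_inv_eq_one]
        exact h6
      rw [map_mul, map_inv, he, mul_inv_eq_one] at h5
      exact mul_inv_eq_iff_eq_mul.mp h5
  have hclflip : ∀ σ : W, T.Closed (flipSet σ.1) := fun σ => hL σ ▸ G.closed_flip (L σ)
  set P : Set ℕ := {s | IsPos D s ∧ T.chi (F := F) s c = 1}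
  let Fl : W → Set ℕ := fun σ => {s | s ∈ flipSet σ.1 ∧ T.chi (F := F) s c = 1}
  have hP : T.Closed P := G.closed_chi G.closed_pos c
  have hUcz : ∀ {S : Set ℕ}, T.Closed S → ∀ {u : GL D.Idx F}, u ∈ G.US F S →
      (u * t = t * u ↔ u ∈ G.US F {s | s ∈ S ∧ T.chi (F := F) s c = 1}) := fun hS u hu => by
    rw [← G.fixed_US hS c hu, eq_comm, mul_inv_eq_iff_eq_mul]
  have hdcomm : ∀ a ∈ D.diagonalSubgroup F, a * t = t * a := fun a ha =>
    G.full.diagonal_isMulCommutative a t ha (by rw [G.full.diagonal_eq_range]; exact ⟨c, rfl⟩)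
  let Φ : (Σ σ : W, (G.US F P × D.diagonalSubgroup F) × G.US F (Fl σ)) →
      ↥(D.group F ⊓ Subgroup.centralizer {t}) := fun p =>
    ⟨p.2.1.1.1 * p.2.1.2.1 * n p.1 * p.2.2.1, Subgroup.mem_inf.mpr
      ⟨mul_mem (mul_mem (mul_mem (G.US_le_group _ p.2.1.1.2) (G.diagonal_le_group p.2.1.2.2))
        (G.monomial_le_group (G.nw_mem_monomial _))) (G.US_le_group _ p.2.2.2),
      mul_mem (mul_mem (mul_mem
        (hcz.mpr ((hUcz G.closed_pos (G.US_mono (fun s hs => hs.1) p.2.1.1.2)).mpr p.2.1.1.2))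
        (hcz.mpr (hdcomm _ p.2.1.2.2)))
        (hcz.mpr ((hfix _ _ (G.nw_mem_monomial _) (hn p.1)).mpr
          (Finset.mem_filter.mp p.1.2).2.2)))
        (hcz.mpr ((hUcz (hclflip p.1) (G.US_mono (fun s hs => hs.1) p.2.2.2)).mpr p.2.2.2))⟩⟩
  have hbij : Function.Bijective Φ := by
    constructor
    · rintro ⟨σ, ⟨v, a⟩, u⟩ ⟨σ', ⟨v', a'⟩, u'⟩ e
      have e' : (v : GL D.Idx F) * a * n σ * u = v' * a' * n σ' * u' := congrArg Subtype.val e
      have hv : ∀ w : G.US F P, (w : GL D.Idx F) ∈ D.posUnipotent F := fun w => by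
        rw [G.posUnipotent_eq]; exact G.US_mono (fun s hs => hs.1) w.2
      have hb : ∀ (w : G.US F P) (b : D.diagonalSubgroup F),
          (w : GL D.Idx F) * b ∈ D.borelSubgroup F := fun w b =>
        mul_mem (pos_le_borel G (hv w)) (Subgroup.mem_sup_right b.2)
      obtain ⟨h1, h2⟩ := G.canonical_unique (hb v a) (hb v' a') (G.nw_mem_monomial _)
        (G.nw_mem_monomial _) (hn σ) (hn σ') (G.US_mono (fun s hs => hs.1) u.2)
        (G.US_mono (fun s hs => hs.1) u'.2) e'
      rw [G.full.diagonal_eq_range] at h1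
      obtain ⟨d, hd⟩ := h1
      have hact : G.full.RootAct (n σ') σ.1 := by
        have h := G.rootAct_mul (hn σ) (G.rootAct_hT d)
        rwa [hd, mul_inv_cancel_left, mul_one] at h
      have hσ : σ = σ' := Subtype.ext (G.rootAct_unique hact (hn σ'))
      subst hσ
      obtain ⟨hb', hu⟩ := h2 rfl
      have hm : (v' : GL D.Idx F)⁻¹ * v ∈ D.posUnipotent F ⊓ D.diagonalSubgroup F := by
        refine Subgroup.mem_inf.mpr ⟨mul_mem (inv_mem (hv v')) (hv v), ?_⟩
        have : (v' : GL D.Idx F)⁻¹ * v = a' * (a : GL D.Idx F)⁻¹ := by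
          rw [eq_mul_inv_iff_mul_eq, mul_assoc, hb', inv_mul_cancel_left]
        rw [this]
        exact mul_mem a'.2 (inv_mem a.2)
      rw [G.pos_inf_diagonal, Subgroup.mem_bot, inv_mul_eq_one] at hm
      have hvv : v = v' := Subtype.ext hm.symm
      subst hvv
      rw [Subtype.ext hu, Subtype.ext (mul_left_cancel hb')]
    · rintro ⟨g, hg⟩
      obtain ⟨hgG, hgC⟩ := Subgroup.mem_inf.mp hg
      obtain ⟨b, hb, m, hm, L', hL', u, hu, rfl⟩ := G.canonical_exists hgG
      obtain ⟨v, hv, d, rfl⟩ := G.mem_borel.mp hb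
      have htT : t ∈ D.diagonalSubgroup F := by rw [G.full.diagonal_eq_range]; exact ⟨c, rfl⟩
      have hvU : v ∈ G.US F {r | IsPos D r} := by rwa [← G.posUnipotent_eq]
      set v1 := t * v * t⁻¹
      set u1 := t * u * t⁻¹
      have hv1 : v1 ∈ D.posUnipotent F := by
        rw [G.posUnipotent_eq]
        exact G.hT_conj_US _ (fun s hs => hs.1) c hvU
      have hu1 : u1 ∈ G.US F (flipSet (G.full.pw L')) :=
        G.hT_conj_US _ (fun s hs => by obtain ⟨h, -⟩ := hs; exact h) c hu
      have hd0 : T.hT F d ∈ D.diagonalSubgroup F := by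
        rw [G.full.diagonal_eq_range]; exact ⟨d, rfl⟩
      have hmd : t * m * t⁻¹ * m⁻¹ ∈ D.diagonalSubgroup F := by
        rw [show t * m * t⁻¹ * m⁻¹ = t * (m * t⁻¹ * m⁻¹) by group]
        exact mul_mem htT ((G.diagonal_normal (F := F)).conj_mem
          ⟨t⁻¹, inv_mem (G.hT_mem_monomial c)⟩ (inv_mem htT) ⟨m, hm⟩)
      have e : v * T.hT F d * m * u = v1 * (T.hT F d * (t * m * t⁻¹ * m⁻¹)) * m * u1 := by
        have h := hcz.mp hgC
        calc v * T.hT F d * m * u = t * (v * T.hT F d * m * u) * t⁻¹ := by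
              rw [← h, mul_inv_cancel_right]
          _ = v1 * (t * T.hT F d * t⁻¹) * (t * m * t⁻¹) * u1 := by simp only [v1, u1]; group
          _ = _ := by
            rw [← hdcomm _ hd0, mul_inv_cancel_right]
            group
      obtain ⟨-, huniq⟩ := G.canonical_unique (mul_mem (pos_le_borel G hv) (Subgroup.mem_sup_right hd0))
        (mul_mem (pos_le_borel G hv1) (Subgroup.mem_sup_right (mul_mem hd0 hmd))) hm hm hL' hL'
        hu hu1 e
      obtain ⟨e1, e2⟩ := huniq rfl
      have hvv : v1⁻¹ * v ∈ D.posUnipotent F ⊓ D.diagonalSubgroup F := by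
        refine Subgroup.mem_inf.mpr ⟨mul_mem (inv_mem hv1) hv, ?_⟩
        have : v1⁻¹ * v = (T.hT F d * (t * m * t⁻¹ * m⁻¹)) * (T.hT F d)⁻¹ := by
          rw [eq_mul_inv_iff_mul_eq, mul_assoc, e1, inv_mul_cancel_left]
        rw [this]
        exact mul_mem (mul_mem hd0 hmd) (inv_mem hd0)
      rw [G.pos_inf_diagonal, Subgroup.mem_bot, inv_mul_eq_one] at hvv
      rw [hvv, mul_right_inj, left_eq_mul, mul_inv_eq_one,
        mul_inv_eq_iff_eq_mul] at e1
      have hmem : G.full.pw L' ∈ W := Finset.mem_filter.mpr ⟨Finset.mem_univ _, G.pw_mem_full L',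
        (hfix m _ hm hL').mp e1.symm⟩
      set σ : W := ⟨G.full.pw L', hmem⟩
      have hd1 : T.hT F d * (m * (n σ)⁻¹) ∈ D.diagonalSubgroup F := by
        refine mul_mem hd0 (G.mem_diagonal_of_pos (mul_mem hm (inv_mem (G.nw_mem_monomial _)))
          (G.rootAct_mul hL' (G.rootAct_inv (G.nw_mem_monomial _) (hn σ))) fun s hs => ?_)
        rw [mul_inv_cancel]
        exact hs
      have hvP : v ∈ G.US F P :=
        (hUcz G.closed_pos hvU).mp (mul_inv_eq_iff_eq_mul.mp hvv).symm
      refine ⟨⟨σ, (⟨v, hvP⟩, ⟨_, hd1⟩), ⟨u, (hUcz (hclflip σ) hu).mp ?_⟩⟩, Subtype.ext ?_⟩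
      · exact (mul_inv_eq_iff_eq_mul.mp e2.symm).symm
      · show v * (T.hT F d * (m * (n σ)⁻¹)) * n σ * u = v * T.hT F d * m * u
        group
  rw [← Nat.card_congr (Equiv.ofBijective Φ hbij), Nat.card_sigma, Full.cpoly, Finset.mul_sum,
    ← Finset.sum_coe_sort W]
  refine Finset.sum_congr rfl fun σ _ => ?_
  have hdiag : Nat.card (D.diagonalSubgroup F) = (Fintype.card F - 1) ^ D.rank := by
    have hinj : Function.Injective (T.hT F) := (injective_iff_map_eq_one _).mpr fun x hx =>
      G.sc_hT_inj hM hx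
    rw [G.full.diagonal_eq_range, Nat.card_congr (MonoidHom.ofInjective hinj).toEquiv.symm,
      Nat.card_pi, Finset.prod_const, Finset.card_univ, Fintype.card_fin,
      Nat.card_eq_fintype_card, Fintype.card_units]
  have hcard : Nat.card (Fl σ) =
      ((invSet σ.1).filter fun s => T.chi (F := F) s.val c = 1).card := by
    rw [← Nat.card_eq_finsetCard]
    refine Nat.card_congr
      { toFun := fun s => ⟨⟨s.1, s.2.1.1⟩,
          Finset.mem_filter.mpr ⟨mem_inv.mpr ⟨s.2.1.2.1, s.2.1.2.2⟩, s.2.2⟩⟩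
        invFun := fun s => ⟨s.1.val, ⟨s.1.isLt, (mem_inv.mp (Finset.mem_filter.mp s.2).1).1,
          (mem_inv.mp (Finset.mem_filter.mp s.2).1).2⟩, (Finset.mem_filter.mp s.2).2⟩
        left_inv := fun s => rfl
        right_inv := fun s => rfl }
  rw [Nat.card_prod, Nat.card_prod, hdiag, G.card_US hP, G.card_US (G.closed_chi (hclflip σ) c),
    hcard, Nat.card_eq_fintype_card (α := F)]

/-- The order of the centraliser of an involution of the torus, from the count. -/
theorem card_cent_bit [Fintype F] (h2 : (2 : F) ≠ 0) {M : List (List ℤ)} (hM : T.chkSC M = true)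
    {ms : List ℕ} (hms : T.chkMask ms = true) {ls : List (ℕ × List (ℕ × ℕ) × List ℕ)}
    (hls : T.chkChainF (List.range D.rank) ls = true) {b N : ℕ} {ds : List ℕ}
    (hcount : chkCount D ms b ds ls = true) (hnum : T.chkNum b N = true) :
    Nat.card ↥(D.group F ⊓ Subgroup.centralizer {T.hT F (cbit D F b)}) =
      Fintype.card F ^ N * (ds.map fun d => Fintype.card F ^ d - 1).prod := by
  classical
  simp only [chkCount, Bool.and_eq_true, Nat.blt_eq, Nat.beq_eq] at hcount
  obtain ⟨⟨⟨⟨hds, hWlt⟩, hb⟩, hlen⟩, hcnt⟩ := hcount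
  have hb' : b < 2 ^ D.rank := hb
  have hN : Nat.card {s | IsPos D s ∧ T.chi (F := F) s (cbit D F b) = 1} = N := by
    simp only [chkNum, Nat.beq_eq] at hnum
    rw [← hnum, List.countP_eq_length_filter, ← List.toFinset_card_of_nodup
      (List.Nodup.filter _ List.nodup_range), ← Nat.card_eq_finsetCard]
    refine Nat.card_congr (Equiv.subtypeEquivRight fun s => ?_)
    simp only [List.mem_toFinset, List.mem_filter, List.mem_range, Bool.and_eq_true, Nat.ble_eq,
      decide_eq_true_eq, G.chi_cbit_eq_one_iff h2, Set.mem_ofPred_eq]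
    exact ⟨fun h => ⟨h.1.1, h.1.2, h.2⟩, fun h => ⟨⟨h.1, h.2.1⟩, h.2.2⟩⟩
  rw [G.card_cent hM, hN, ← gprod_mul _ Fintype.card_pos, mul_assoc]
  congr 1
  rw [show ds.length = D.rank from hlen]
  congr 1
  -- the count, as a polynomial
  set c := cbit D F b
  let P : Polynomial ℕ := G.full.cpoly (List.range D.rank) c c Polynomial.X
  have hP : ∀ x : ℕ, P.eval x = G.full.cpoly (List.range D.rank) c c x := fun x => by
    simp [P, Full.cpoly, Polynomial.eval_finsetSum]
  have hW : G.full.poly (List.range D.rank) (1 : ℕ) = (ls.map fun l => l.2.2.length).prod := by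
    rw [G.poly_chain 1 ls _ (G.chkChain_of_fast _ _ hls)]
    refine congrArg List.prod (List.map_congr_left fun l _ => ?_)
    simp
  have hP1 : P.eval 1 < 4294967296 := by
    refine lt_of_le_of_lt ?_ hWlt
    rw [hP, ← hW]
    simp only [Full.cpoly, Full.poly, one_pow]
    exact Finset.sum_le_sum_of_subset fun σ hσ => Finset.mem_filter.mpr
      ⟨Finset.mem_univ _, (Finset.mem_filter.mp hσ).2.1⟩
  have hQ1 : (gprod (Polynomial.X : Polynomial ℕ) ds).eval 1 < 4294967296 := by
    rw [gprod_eval]; exact hds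
  have e : P = gprod (Polynomial.X : Polynomial ℕ) ds := by
    refine poly_eq_of_eval (max P.natDegree (gprod (Polynomial.X : Polynomial ℕ) ds).natDegree)
      _ _ (le_max_left _ _) (le_max_right _ _)
      (fun i => lt_of_le_of_lt (coeff_le_eval_one _ i) hP1)
      (fun i => lt_of_le_of_lt (coeff_le_eval_one _ i) hQ1) ?_
    rw [hP, gprod_eval, ← hcnt]
    exact ((G.countAll_spec h2 hM hms hb' _ ls _ hls).2 b hb').symm
  rw [← hP, e, gprod_eval]

/-- The bit vectors in an orbit are conjugate to its first member. -/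
theorem orbB_conj {ms : List ℕ} (hms : T.chkMask ms = true) (r : ℕ) {par : List (ℕ × ℕ)}
    (hpar : ∀ p ∈ par, p.1 < D.rank) : ∀ x ∈ orbB D.rank ms r par,
      ∃ h ∈ D.group F, h * T.hT F (cbit D F r) * h⁻¹ = T.hT F (cbit D F x) := by
  suffices ∀ (ps : List (ℕ × ℕ)) (O : List ℕ), (∀ p ∈ ps, p.1 < D.rank) →
      (∀ x ∈ O, ∃ h ∈ D.group F, h * T.hT F (cbit D F r) * h⁻¹ = T.hT F (cbit D F x)) →
      ∀ x ∈ ps.foldl (fun O p => O ++ [stp D.rank ms p.1 (O.getD p.2 r)]) O,
        ∃ h ∈ D.group F, h * T.hT F (cbit D F r) * h⁻¹ = T.hT F (cbit D F x) from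
    this par [r] hpar fun x hx => ⟨1, one_mem _, by rw [List.mem_singleton.mp hx]; simp⟩
  intro ps
  induction ps with
  | nil => intro O _ hO; exact hO
  | cons p ps ih =>
    intro O hp hO
    refine ih _ (fun q hq => hp q (List.mem_cons_of_mem _ hq)) fun x hx => ?_
    rcases List.mem_append.mp hx with h | h
    · exact hO x h
    · rw [List.mem_singleton.mp h]
      set y := O.getD p.2 r
      obtain ⟨k, hk, e⟩ : ∃ h ∈ D.group F,
          h * T.hT F (cbit D F r) * h⁻¹ = T.hT F (cbit D F y) := by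
        by_cases hlt : p.2 < O.length
        · refine hO _ ?_
          simp [y, List.getD_eq_getElem?_getD, List.getElem?_eq_getElem hlt]
        · exact ⟨1, one_mem _, by simp [y, List.getD_eq_getElem?_getD,
            List.getElem?_eq_none (not_lt.mp hlt)]⟩
      have hj := hp p (List.mem_cons_self ..)
      refine ⟨G.full.ns F p.1 * k, mul_mem (G.ns_mem_group ⟨p.1, hj⟩) hk, ?_⟩
      have e2 := G.ns_hT_eq (F := F) ⟨p.1, hj⟩ (cbit D F y)
      rw [← cbit_stp hms ⟨p.1, hj⟩ y] at e2
      rw [show T.hT F (cbit D F (stp D.rank ms p.1 y)) =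
        G.full.ns F p.1 * T.hT F (cbit D F y) * (G.full.ns F p.1)⁻¹ by
          rw [eq_mul_inv_iff_mul_eq]; exact e2.symm, ← e]
      group

/-- The involutions fall into at most two classes. -/
theorem classes [Finite F] (h2 : (2 : F) ≠ 0) {M : List (List ℤ)} (hM : T.chkSC M = true)
    {ms : List ℕ} {r r' : ℕ} {par par' : List (ℕ × ℕ)}
    (hcov : T.chkCover ms r r' par par' = true) {g : GL D.Idx F} (hg : g ∈ D.group F)
    (hg2 : g * g = 1) (hg1 : g ≠ 1) :
    (∃ h ∈ D.group F, h * g * h⁻¹ = T.hT F (cbit D F r)) ∨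
      ∃ h ∈ D.group F, h * g * h⁻¹ = T.hT F (cbit D F r') := by
  classical
  obtain ⟨h, hh, c, e⟩ := G.to_torus h2 hM hg hg2
  have hc2 : c * c = 1 := G.sc_hT_inj hM (by
    rw [map_mul, ← e, show h * g * h⁻¹ * (h * g * h⁻¹) = h * (g * g) * h⁻¹ by group, hg2, mul_one,
      mul_inv_cancel])
  set f : Fin D.rank → Bool := fun i => decide (c i ≠ 1)
  have hb : Nat.ofBits f < 2 ^ D.rank := Nat.ofBits_lt_two_pow _
  have hcb : c = cbit D F (Nat.ofBits f) := by
    funext i
    rw [cbit, Nat.testBit_ofBits_lt f i i.isLt]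
    by_cases h1 : c i = 1
    · simp [f, h1]
    · have h3 : (c i : F) * c i = 1 := by rw [← Units.val_mul, ← Pi.mul_apply, hc2]; rfl
      rcases mul_self_eq_one_iff.mp h3 with h4 | h4
      · exact absurd (Units.ext h4) h1
      · simp only [f, ne_eq, h1, not_false_iff, decide_true, if_true]
        exact Units.ext (by simpa using h4)
  simp only [chkCover, Bool.and_eq_true, List.all_eq_true, allBelow_iff, Bool.or_eq_true,
    Nat.beq_eq, List.contains_iff_mem, Nat.blt_eq] at hcov
  obtain ⟨⟨hms, hp⟩, hall⟩ := hcov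
  have fin : ∀ (ρ : ℕ) (ps : List (ℕ × ℕ)), (∀ p ∈ ps, p.1 < D.rank) →
      Nat.ofBits f ∈ orbB D.rank ms ρ ps →
      ∃ k ∈ D.group F, k * g * k⁻¹ = T.hT F (cbit D F ρ) := by
    intro ρ ps hps hmem
    obtain ⟨k, hk, ek⟩ := G.orbB_conj (F := F) hms ρ hps _ hmem
    refine ⟨k⁻¹ * h, mul_mem (inv_mem hk) hh, ?_⟩
    rw [show k⁻¹ * h * g * (k⁻¹ * h)⁻¹ = k⁻¹ * (h * g * h⁻¹) * k by group, e, hcb, ← ek]
    group
  rcases hall _ hb with (h0 | h0) | h0
  · exfalso
    refine hg1 ?_
    rw [hcb, h0, cbit_zero, map_one, conj_eq_one_iff] at e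
    exact e
  · exact Or.inl (fin r par (fun p hp' => hp p (List.mem_append_left _ hp')) h0)
  · exact Or.inr (fin r' par' (fun p hp' => hp p (List.mem_append_right _ hp')) h0)

end Good

end Tab

end CfsgLib.Chev
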