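import Cfsg.Agent.Chev.DataE7

/-! Kernel checks of the packed tables of type E7. -/

set_option autoImplicit false

namespace CfsgLib.Chev.E7Data

theorem agree_0 : allBlock tab.chkAgree 0 24 = true := by decide +kernel

theorem agree_1 : allBlock tab.chkAgree 24 24 = true := by decide +kernel

theorem agree_2 : allBlock tab.chkAgree 48 24 = true := by decide +kernel

theorem agree_3 : allBlock tab.chkAgree 72 24 = true := by decide +kernel

theorem agree_4 : allBlock tab.chkAgree 96 24 = true := by decide +kernel

theorem agree_5 : allBlock tab.chkAgree 120 6 = true := by decide +kernel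

theorem agree_all : ∀ b < 126, tab.chkAgree b = true := by
  intro b hb
  rcases Nat.lt_or_ge b 24 with h0 | h0
  · exact allBlock_apply agree_0 b (by omega) h0
  rcases Nat.lt_or_ge b 48 with h1 | h1
  · exact allBlock_apply agree_1 b (by omega) h1
  rcases Nat.lt_or_ge b 72 with h2 | h2
  · exact allBlock_apply agree_2 b (by omega) h2
  rcases Nat.lt_or_ge b 96 with h3 | h3
  · exact allBlock_apply agree_3 b (by omega) h3
  rcases Nat.lt_or_ge b 120 with h4 | h4
  · exact allBlock_apply agree_4 b (by omega) h4
  exact allBlock_apply agree_5 b (by omega) hb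

theorem root_0 : allBlock tab.chkRoot 0 24 = true := by decide +kernel

theorem root_1 : allBlock tab.chkRoot 24 24 = true := by decide +kernel

theorem root_2 : allBlock tab.chkRoot 48 24 = true := by decide +kernel

theorem root_3 : allBlock tab.chkRoot 72 24 = true := by decide +kernel

theorem root_4 : allBlock tab.chkRoot 96 24 = true := by decide +kernel

theorem root_5 : allBlock tab.chkRoot 120 6 = true := by decide +kernel

theorem root_all : ∀ b < 126, tab.chkRoot b = true := by
  intro b hb
  rcases Nat.lt_or_ge b 24 with h0 | h0
  · exact allBlock_apply root_0 b (by omega) h0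
  rcases Nat.lt_or_ge b 48 with h1 | h1
  · exact allBlock_apply root_1 b (by omega) h1
  rcases Nat.lt_or_ge b 72 with h2 | h2
  · exact allBlock_apply root_2 b (by omega) h2
  rcases Nat.lt_or_ge b 96 with h3 | h3
  · exact allBlock_apply root_3 b (by omega) h3
  rcases Nat.lt_or_ge b 120 with h4 | h4
  · exact allBlock_apply root_4 b (by omega) h4
  exact allBlock_apply root_5 b (by omega) hb

theorem reach_0 : allBlock tab.chkReach 0 24 = true := by decide +kernel

theorem reach_1 : allBlock tab.chkReach 24 24 = true := by decide +kernel

theorem reach_2 : allBlock tab.chkReach 48 24 = true := by decide +kernel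

theorem reach_3 : allBlock tab.chkReach 72 24 = true := by decide +kernel

theorem reach_4 : allBlock tab.chkReach 96 24 = true := by decide +kernel

theorem reach_5 : allBlock tab.chkReach 120 13 = true := by decide +kernel

theorem reach_all : ∀ b < 133, tab.chkReach b = true := by
  intro b hb
  rcases Nat.lt_or_ge b 24 with h0 | h0
  · exact allBlock_apply reach_0 b (by omega) h0
  rcases Nat.lt_or_ge b 48 with h1 | h1
  · exact allBlock_apply reach_1 b (by omega) h1
  rcases Nat.lt_or_ge b 72 with h2 | h2
  · exact allBlock_apply reach_2 b (by omega) h2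
  rcases Nat.lt_or_ge b 96 with h3 | h3
  · exact allBlock_apply reach_3 b (by omega) h3
  rcases Nat.lt_or_ge b 120 with h4 | h4
  · exact allBlock_apply reach_4 b (by omega) h4
  exact allBlock_apply reach_5 b (by omega) hb

end CfsgLib.Chev.E7Data
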