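import Cfsg.Agent.Chev.DataE8

/-! Kernel checks of the packed tables of type E8. -/

set_option autoImplicit false

namespace CfsgLib.Chev.E8Data

theorem agree_0 : allBlock tab.chkAgree 0 24 = true := by decide +kernel

theorem agree_1 : allBlock tab.chkAgree 24 24 = true := by decide +kernel

theorem agree_2 : allBlock tab.chkAgree 48 24 = true := by decide +kernel

theorem agree_3 : allBlock tab.chkAgree 72 24 = true := by decide +kernel

theorem agree_4 : allBlock tab.chkAgree 96 24 = true := by decide +kernel

theorem agree_5 : allBlock tab.chkAgree 120 24 = true := by decide +kernel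

theorem agree_6 : allBlock tab.chkAgree 144 24 = true := by decide +kernel

theorem agree_7 : allBlock tab.chkAgree 168 24 = true := by decide +kernel

theorem agree_8 : allBlock tab.chkAgree 192 24 = true := by decide +kernel

theorem agree_9 : allBlock tab.chkAgree 216 24 = true := by decide +kernel

theorem agree_all : ∀ b < 240, tab.chkAgree b = true := by
  intro b hb
  rcases Nat.lt_or_ge b 24 with h0 | h0
  · exact allBlock_apply agree_0 b (by omega) h0
  rcases Nat.lt_or_ge b 48 with h1 | h1
  · exact allBlock_apply agree_1 b (by omega) h1
  rcases Nat.lt_or_ge b 72 with h2 | h2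
  · exact allBlock_apply agree_2 b (by omega) h2
  rcases Nat.lt_or_ge b 96 with h3 | h3
  · exact allBlock_apply agree_3 b (by omega) h3
  rcases Nat.lt_or_ge b 120 with h4 | h4
  · exact allBlock_apply agree_4 b (by omega) h4
  rcases Nat.lt_or_ge b 144 with h5 | h5
  · exact allBlock_apply agree_5 b (by omega) h5
  rcases Nat.lt_or_ge b 168 with h6 | h6
  · exact allBlock_apply agree_6 b (by omega) h6
  rcases Nat.lt_or_ge b 192 with h7 | h7
  · exact allBlock_apply agree_7 b (by omega) h7
  rcases Nat.lt_or_ge b 216 with h8 | h8
  · exact allBlock_apply agree_8 b (by omega) h8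
  exact allBlock_apply agree_9 b (by omega) hb

theorem root_0 : allBlock tab.chkRoot 0 24 = true := by decide +kernel

theorem root_1 : allBlock tab.chkRoot 24 24 = true := by decide +kernel

theorem root_2 : allBlock tab.chkRoot 48 24 = true := by decide +kernel

theorem root_3 : allBlock tab.chkRoot 72 24 = true := by decide +kernel

theorem root_4 : allBlock tab.chkRoot 96 24 = true := by decide +kernel

theorem root_5 : allBlock tab.chkRoot 120 24 = true := by decide +kernel

theorem root_6 : allBlock tab.chkRoot 144 24 = true := by decide +kernel

theorem root_7 : allBlock tab.chkRoot 168 24 = true := by decide +kernel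

theorem root_8 : allBlock tab.chkRoot 192 24 = true := by decide +kernel

theorem root_9 : allBlock tab.chkRoot 216 24 = true := by decide +kernel

theorem root_all : ∀ b < 240, tab.chkRoot b = true := by
  intro b hb
  rcases Nat.lt_or_ge b 24 with h0 | h0
  · exact allBlock_apply root_0 b (by omega) h0
  rcases Nat.lt_or_ge b 48 with h1 | h1
  · exact allBlock_apply root_1 b (by omega) h1
  rcases Nat.lt_or_ge b 72 with h2 | h2
  · exact allBlock_apply root_2 b (by omega) h2
  rcases Nat.lt_or_ge b 96 with h3 | h3
  · exact allBlock_apply root_3 b (by omega) h3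
  rcases Nat.lt_or_ge b 120 with h4 | h4
  · exact allBlock_apply root_4 b (by omega) h4
  rcases Nat.lt_or_ge b 144 with h5 | h5
  · exact allBlock_apply root_5 b (by omega) h5
  rcases Nat.lt_or_ge b 168 with h6 | h6
  · exact allBlock_apply root_6 b (by omega) h6
  rcases Nat.lt_or_ge b 192 with h7 | h7
  · exact allBlock_apply root_7 b (by omega) h7
  rcases Nat.lt_or_ge b 216 with h8 | h8
  · exact allBlock_apply root_8 b (by omega) h8
  exact allBlock_apply root_9 b (by omega) hb

theorem reach_0 : allBlock tab.chkReach 0 24 = true := by decide +kernel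

theorem reach_1 : allBlock tab.chkReach 24 24 = true := by decide +kernel

theorem reach_2 : allBlock tab.chkReach 48 24 = true := by decide +kernel

theorem reach_3 : allBlock tab.chkReach 72 24 = true := by decide +kernel

theorem reach_4 : allBlock tab.chkReach 96 24 = true := by decide +kernel

theorem reach_5 : allBlock tab.chkReach 120 24 = true := by decide +kernel

theorem reach_6 : allBlock tab.chkReach 144 24 = true := by decide +kernel

theorem reach_7 : allBlock tab.chkReach 168 24 = true := by decide +kernel

theorem reach_8 : allBlock tab.chkReach 192 24 = true := by decide +kernel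

theorem reach_9 : allBlock tab.chkReach 216 24 = true := by decide +kernel

theorem reach_10 : allBlock tab.chkReach 240 8 = true := by decide +kernel

theorem reach_all : ∀ b < 248, tab.chkReach b = true := by
  intro b hb
  rcases Nat.lt_or_ge b 24 with h0 | h0
  · exact allBlock_apply reach_0 b (by omega) h0
  rcases Nat.lt_or_ge b 48 with h1 | h1
  · exact allBlock_apply reach_1 b (by omega) h1
  rcases Nat.lt_or_ge b 72 with h2 | h2
  · exact allBlock_apply reach_2 b (by omega) h2
  rcases Nat.lt_or_ge b 96 with h3 | h3
  · exact allBlock_apply reach_3 b (by omega) h3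
  rcases Nat.lt_or_ge b 120 with h4 | h4
  · exact allBlock_apply reach_4 b (by omega) h4
  rcases Nat.lt_or_ge b 144 with h5 | h5
  · exact allBlock_apply reach_5 b (by omega) h5
  rcases Nat.lt_or_ge b 168 with h6 | h6
  · exact allBlock_apply reach_6 b (by omega) h6
  rcases Nat.lt_or_ge b 192 with h7 | h7
  · exact allBlock_apply reach_7 b (by omega) h7
  rcases Nat.lt_or_ge b 216 with h8 | h8
  · exact allBlock_apply reach_8 b (by omega) h8
  rcases Nat.lt_or_ge b 240 with h9 | h9
  · exact allBlock_apply reach_9 b (by omega) h9
  exact allBlock_apply reach_10 b (by omega) hb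

end CfsgLib.Chev.E8Data
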