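import Cfsg.Agent.Chev.DataG2

/-! Kernel checks of the packed tables of type G2. -/

set_option autoImplicit false

namespace CfsgLib.Chev.G2Data

theorem agree_0 : allBlock tab.chkAgree 0 12 = true := by decide +kernel

theorem agree_all : ∀ b < 12, tab.chkAgree b = true := by
  intro b hb
  exact allBlock_apply agree_0 b (by omega) hb

theorem root_0 : allBlock tab.chkRoot 0 12 = true := by decide +kernel

theorem root_all : ∀ b < 12, tab.chkRoot b = true := by
  intro b hb
  exact allBlock_apply root_0 b (by omega) hb

theorem pow_0 : allBlock tab.chkPow 0 12 = true := by decide +kernel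

theorem pow_all : ∀ b < 12, tab.chkPow b = true := by
  intro b hb
  exact allBlock_apply pow_0 b (by omega) hb

theorem base_0 : allBlock tab.chkBase 0 12 = true := by decide +kernel

theorem base_all : ∀ b < 12, tab.chkBase b = true := by
  intro b hb
  exact allBlock_apply base_0 b (by omega) hb

theorem dec_0 : allBlock tab.chkDec 0 12 = true := by decide +kernel

theorem dec_all : ∀ b < 12, tab.chkDec b = true := by
  intro b hb
  exact allBlock_apply dec_0 b (by omega) hb

theorem reach_0 : allBlock tab.chkReach 0 14 = true := by decide +kernel

theorem reach_all : ∀ b < 14, tab.chkReach b = true := by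
  intro b hb
  exact allBlock_apply reach_0 b (by omega) hb

/-- The tables are correct. -/
theorem cert : tab.Cert :=
  ⟨by decide +kernel, agree_all, root_all, pow_all, base_all, dec_all, reach_all⟩

end CfsgLib.Chev.G2Data
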