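import Cfsg.Agent.Chev.GoodAll
import Cfsg.Agent.Chev.Unipotent
import Cfsg.Agent.Chev.BNP

/-!
Collection into an arbitrary order of the positive roots over a field of characteristic two, the
coefficients being monomials in a list of parameters (lists of exponents).
-/

set_option autoImplicit false

namespace CfsgLib.Chev.CharTwo

open Cfsg.Lie Tab Matrix
open scoped MatrixGroups

/-- Exponents of a product of powers of two monomials. -/
def comb (i j : ℕ) : List ℕ → List ℕ → List ℕ
  | [], f => f.map (j * ·)
  | a :: e, [] => (a :: e).map (i * ·)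
  | a :: e, b :: f => (i * a + j * b) :: comb i j e f

/-- The value of a monomial. -/
def mval {F : Type*} [Field F] : List F → List ℕ → F
  | _, [] => 1
  | [], _ :: _ => 1
  | x :: xs, n :: ns => x ^ n * mval xs ns

theorem mval_map {F : Type*} [Field F] (i : ℕ) : ∀ (env : List F) (e : List ℕ),
    mval env (e.map (i * ·)) = mval env e ^ i
  | env, [] => by cases env <;> simp [mval]
  | [], _ :: _ => by simp [mval]
  | x :: xs, n :: ns => by
    simp only [List.map_cons, mval, mval_map i xs ns, mul_pow, ← pow_mul, mul_comm i n]

theorem mval_comb {F : Type*} [Field F] (i j : ℕ) : ∀ (env : List F) (e f : List ℕ),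
    mval env (comb i j e f) = mval env e ^ i * mval env f ^ j
  | env, [], f => by cases env <;> simp [comb, mval, mval_map]
  | env, a :: e, [] => by cases env <;> simp [comb, mval, mval_map, mul_pow, pow_mul, mul_comm i a]
  | [], a :: e, b :: f => by simp [comb, mval]
  | x :: xs, a :: e, b :: f => by
    simp only [comb, mval, mval_comb i j xs e f, mul_pow, pow_add, ← pow_mul, mul_comm i a,
      mul_comm j b]
    ring

/-- The lexicographic order on exponent lists. -/
def ltL : List ℕ → List ℕ → Bool
  | [], [] => false
  | [], _ :: _ => true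
  | _ :: _, [] => false
  | a :: e, b :: f => Nat.blt a b || (Nat.beq a b && ltL e f)

/-- The odd terms of a commutator. -/
def terms (l : List (ℕ × ℤ × ℕ × ℕ)) (e f : List ℕ) : List (ℕ × List ℕ) :=
  (l.filter fun c => decide (c.2.1 % 2 ≠ 0)).map fun c => (c.1, comb c.2.2.1 c.2.2.2 e f)

variable {D : ChevalleyDatum}

/-- Insert the letters in front of the sorted stack (largest first), sorting by the position in
`ord` and then by the exponents; equal letters cancel. -/
def coll (T : Tab D) (ord : List ℕ) : ℕ → List (ℕ × List ℕ) → List (ℕ × List ℕ) →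
    List (ℕ × List ℕ) × List (ℕ × List ℕ)
  | 0, st, todo => (st, todo)
  | _ + 1, st, [] => (st, [])
  | k + 1, [], x :: todo => coll T ord k [x] todo
  | k + 1, (a, e) :: st, (b, f) :: todo =>
    if Nat.blt (ord.idxOf a) (ord.idxOf b) then coll T ord k ((b, f) :: (a, e) :: st) todo
    else if Nat.beq a b then
      if e == f then coll T ord k st todo
      else if ltL e f then coll T ord k ((b, f) :: (a, e) :: st) todo
      else coll T ord k st ((b, f) :: (a, e) :: todo)
    else if Nat.blt a D.nroots && Nat.blt b D.nroots && !(Nat.beq a (Tab.negR D b)) then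
      coll T ord k st ((b, f) :: (a, e) :: (terms (T.commT b a) f e ++ todo))
    else ((a, e) :: st, (b, f) :: todo)

/-- The sum of the monomials attached to a root. -/
def pv {F : Type*} [Field F] (env : List F) (L : List (ℕ × List ℕ)) (r : ℕ) : F :=
  ((L.filter fun x => Nat.beq x.1 r).map fun x => mval env x.2).sum

/-- The collected form of a word, if collection into `ord` succeeds. -/
def norm (T : Tab D) (ord : List ℕ) (n : ℕ) (w : List (ℕ × List ℕ)) :
    Option (List (ℕ × List ℕ)) :=
  let r := coll T ord n [] w
  let L := r.1.reverse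
  if r.2.isEmpty && decide (L = ord.flatMap fun s => L.filter fun x => Nat.beq x.1 s) then some L
  else none

variable {T : Tab D} (G : T.Good) {F : Type*} [Field F]

/-- The value of a word. -/
noncomputable def wv (env : List F) (l : List (ℕ × List ℕ)) : GL D.Idx F :=
  (l.map fun x => G.full.x x.1 (mval env x.2)).prod

theorem wv_cons (env : List F) (x : ℕ × List ℕ) (l : List (ℕ × List ℕ)) :
    wv G env (x :: l) = G.full.x x.1 (mval env x.2) * wv G env l := by simp [wv]

theorem wv_append (env : List F) (l l' : List (ℕ × List ℕ)) :
    wv G env (l ++ l') = wv G env l * wv G env l' := by simp [wv]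

theorem neg_self (h2 : (2 : F) = 0) (x : F) : -x = x :=
  neg_eq_of_add_eq_zero_left (by rw [← two_mul, h2, zero_mul])

theorem intCast_two (h2 : (2 : F) = 0) (c : ℤ) : (c : F) = if c % 2 = 0 then 0 else 1 := by
  conv_lhs => rw [← Int.emod_add_mul_ediv c 2]
  rw [Int.cast_add, Int.cast_mul]
  rw [Int.cast_ofNat, h2, zero_mul, add_zero]
  rcases Int.emod_two_eq c with h | h <;> simp [h]

theorem wv_terms (h2 : (2 : F) = 0) (env : List F) (l : List (ℕ × ℤ × ℕ × ℕ)) (e f : List ℕ) :
    wv G env (terms l e f) =
      ((rhsWord l (mval env e) (mval env f)).map fun z => G.full.x z.1 z.2).prod := by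
  induction l with
  | nil => rfl
  | cons c l ih =>
    simp only [terms, rhsWord, List.map_cons, List.prod_cons, neg_self h2] at ih ⊢
    rw [intCast_two h2, ← ih]
    rcases Int.emod_two_eq c.2.1 with h | h
    · rw [List.filter_cons_of_neg (by simp [h]), if_pos h, zero_mul, zero_mul, G.full.x_zero, one_mul]
    · rw [List.filter_cons_of_pos (by simp [h]), List.map_cons, wv_cons, if_neg (by omega), one_mul,
        mval_comb]

theorem coll_sound (h2 : (2 : F) = 0) (ord : List ℕ) (env : List F) :
    ∀ (k : ℕ) (st todo : List (ℕ × List ℕ)),
    wv G env ((coll T ord k st todo).1.reverse ++ (coll T ord k st todo).2) =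
      wv G env (st.reverse ++ todo)
  | 0, st, todo => rfl
  | _ + 1, [], [] => rfl
  | _ + 1, _ :: _, [] => rfl
  | k + 1, [], x :: todo => by
    rw [show coll T ord (k + 1) [] (x :: todo) = coll T ord k [x] todo from rfl,
      coll_sound h2 ord env k]
    rfl
  | k + 1, (a, e) :: st, (b, f) :: todo => by
    rw [coll]
    split_ifs with h1 h3 h4 h5 h6
    · rw [coll_sound h2 ord env k, List.reverse_cons, List.append_assoc]; rfl
    · obtain rfl := Nat.eq_of_beq_eq_true h3
      obtain rfl : e = f := by simpa using h4
      rw [coll_sound h2 ord env k]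
      simp only [List.reverse_cons, List.append_assoc, wv_append, List.singleton_append, wv_cons]
      rw [← mul_assoc (G.full.x a _), G.full.x_add, ← two_mul, h2, zero_mul, G.full.x_zero, one_mul]
    · rw [coll_sound h2 ord env k, List.reverse_cons, List.append_assoc]; rfl
    · obtain rfl := Nat.eq_of_beq_eq_true h3
      rw [coll_sound h2 ord env k]
      simp only [List.reverse_cons, List.append_assoc, wv_append, List.singleton_append, wv_cons]
      rw [← mul_assoc (G.full.x a _), G.full.x_add, add_comm, ← G.full.x_add, mul_assoc]
    · rw [coll_sound h2 ord env k]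
      simp only [Bool.and_eq_true, Nat.blt_eq, Bool.not_eq_true'] at h6
      obtain ⟨⟨ha, hb⟩, hne⟩ := h6
      have hne' : a ≠ Tab.negR D b := fun e => by rw [e] at hne; simp at hne
      have hab : a ≠ b := fun e => h3 (by simp [e])
      simp only [List.reverse_cons, List.append_assoc, wv_append, List.singleton_append, wv_cons,
        wv_terms G h2]
      congr 1
      conv_rhs => rw [← mul_assoc (G.full.x a _), G.full.x_comm hb ha hab hne',
        G.full.cert.commWord_eq hb ha]
      simp only [mul_assoc]
    · rfl

theorem prod_same (env : List F) : ∀ (r : ℕ) (L : List (ℕ × List ℕ)),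
    wv G env (L.filter fun x => Nat.beq x.1 r) = G.full.x r (pv env L r)
  | r, [] => by simp [wv, pv, G.full.x_zero]
  | r, x :: L => by
    have ih := prod_same env r L
    by_cases h : Nat.beq x.1 r
    · obtain rfl := Nat.eq_of_beq_eq_true h
      rw [pv, List.filter_cons_of_pos (by simp), wv_cons, ih, G.full.x_add]
      simp [pv]
    · rw [pv, List.filter_cons_of_neg (by simpa using h), ih]
      simp [pv]

theorem norm_sound (h2 : (2 : F) = 0) {ord : List ℕ} {n : ℕ} {w L : List (ℕ × List ℕ)}
    (h : norm T ord n w = some L) (env : List F) :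
    wv G env w = (ord.map fun r => G.full.x r (pv env L r)).prod := by
  simp only [norm] at h
  split_ifs at h with hc
  simp only [Bool.and_eq_true, List.isEmpty_iff, decide_eq_true_eq] at hc
  obtain ⟨hc1, hc2⟩ := hc
  cases h
  have hs := coll_sound G h2 ord env n [] w
  rw [hc1, List.append_nil, List.reverse_nil, List.nil_append] at hs
  rw [← hs]
  generalize (coll T ord n [] w).1.reverse = L at hc2
  calc wv G env L = wv G env (ord.flatMap fun s => L.filter fun x => Nat.beq x.1 s) := by rw [← hc2]
    _ = _ := by
      clear hc2 hs hc1
      induction ord with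
      | nil => rfl
      | cons s ord ih =>
        rw [List.flatMap_cons, wv_append, List.map_cons, List.prod_cons, prod_same, ih]

/-- Coordinates along an order with closed tails are unique. -/
theorem prod_inj : ∀ (ord : List ℕ), (∀ i < ord.length, T.Closed {r | r ∈ ord.drop i}) →
    (∀ r ∈ ord, T.Closed {s | s = r}) → ord.Nodup → ∀ f g : ℕ → F,
    (ord.map fun r => G.full.x r (f r)).prod = (ord.map fun r => G.full.x r (g r)).prod →
      ∀ r ∈ ord, f r = g r
  | [], _, _, _, _, _, _ => by simp
  | s :: ord, hcl, hone, hnd, f, g, h => by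
    rw [List.map_cons, List.prod_cons, List.map_cons, List.prod_cons] at h
    have hs0 : T.Closed {r | r ∈ s :: ord} := hcl 0 (by simp)
    have hS : T.Closed {r | r ∈ ord} := by
      rcases ord with _ | ⟨t, ord⟩
      · exact ⟨fun r hr => absurd hr List.not_mem_nil, fun r hr => absurd hr List.not_mem_nil⟩
      · exact hcl 1 (by simp)
    have hmem : ∀ f : ℕ → F, (ord.map fun r => G.full.x r (f r)).prod ∈ G.US F {r | r ∈ ord} :=
      fun f => Subgroup.list_prod_mem _ fun x hx => by
        obtain ⟨r, hr, rfl⟩ := List.mem_map.1 hx
        exact G.x_mem_US (show r ∈ {r | r ∈ ord} from hr) _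
    have e : G.full.x s (-(g s) + f s) ∈ G.US F {r | r ∈ ord} := by
      have : G.full.x s (-(g s) + f s) = (ord.map fun r => G.full.x r (g r)).prod *
          ((ord.map fun r => G.full.x r (f r)).prod)⁻¹ := by
        rw [← G.full.x_add, ← G.full.x_inv, eq_mul_inv_iff_mul_eq, mul_assoc, h,
          inv_mul_cancel_left]
      rw [this]
      exact mul_mem (hmem g) (inv_mem (hmem f))
    have hns : s ∉ ord := (List.nodup_cons.1 hnd).1
    have hz : -(g s) + f s = 0 := by
      classical
      set c := -(g s) + f s
      have hsing := hone s (List.mem_cons_self ..)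
      obtain ⟨a, ha⟩ : G.full.x s c ∈ Set.range fun a => G.segProd {r | r = s} a 0 D.nroots := by
        rw [← G.US_eq_range hsing]; exact G.x_mem_US (show s ∈ {r | r = s} from rfl) c
      obtain ⟨b, hb⟩ : G.full.x s c ∈ Set.range fun a => G.segProd {r | r ∈ ord} a 0 D.nroots := by
        rw [← G.US_eq_range hS]; exact e
      have key : ∀ (S : Set ℕ), S ⊆ {r | r ∈ s :: ord} → ∀ (a : ℕ → F) (m k : ℕ),
          G.segProd S a k m = G.segProd {r | r ∈ s :: ord} (fun r => if r ∈ S then a r else 0) k m := by
        intro S hS' a m
        induction m with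
        | zero => intro k; rfl
        | succ m ih =>
          intro k
          simp only [Tab.Good.segProd, ← ih (k + 1)]
          congr 1
          by_cases hk : k ∈ S
          · rw [if_pos hk, if_pos (hS' hk), if_pos hk]
          · rw [if_neg hk]
            split_ifs <;> simp [G.full.x_zero]
      have h1 : G.segProd {r | r = s} a 0 D.nroots = G.segProd {r | r ∈ ord} b 0 D.nroots :=
        ha.trans hb.symm
      rw [key {r | r = s} (fun r (hr : r = s) => hr ▸ List.mem_cons_self ..) a,
        key {r | r ∈ ord} (fun r hr => List.mem_cons_of_mem _ hr) b] at h1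
      have h2 := G.segProd_injective hs0 _ 0 _ _ (zero_add _) h1 s (List.mem_cons_self ..) (Nat.zero_le _)
      simp only [Set.mem_ofPred_eq, if_true, hns, if_false] at h2
      have h3 : G.segProd {r | r = s} a 0 D.nroots = 1 := by
        have : ∀ m k, G.segProd {r | r = s} a k m = 1 := by
          intro m
          induction m with
          | zero => intro k; rfl
          | succ m ih =>
            intro k
            simp only [Tab.Good.segProd, ih (k + 1), mul_one, Set.mem_ofPred_eq]
            split_ifs with hk
            · rw [hk, h2, G.full.x_zero]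
            · rfl
        exact this _ _
      exact G.x_eq_one (hs0.1 s (List.mem_cons_self ..)).1 (ha.symm.trans h3)
    have hfg : f s = g s := by linear_combination hz
    intro r hr
    rcases List.mem_cons.1 hr with rfl | hr
    · exact hfg
    · rw [hfg, mul_right_inj] at h
      exact prod_inj ord (fun i hi => by simpa using hcl (i + 1) (by simpa using hi))
        (fun t ht => hone t (List.mem_cons_of_mem _ ht)) (List.nodup_cons.1 hnd).2 f g h r hr

end CfsgLib.Chev.CharTwo
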