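import Cfsg.Agent.Chev.CharTwoCollect

/-!
Collection modulo the subgroup of a closed tail of the order of the roots: the letters in the tail
are discarded, so that only the first coefficients are computed.
-/

set_option autoImplicit false
set_option linter.unusedSectionVars false

namespace CfsgLib.Chev.CharTwo

open Cfsg.Lie Tab Matrix
open scoped MatrixGroups

variable {D : ChevalleyDatum}

/-- Collection which discards the letters not in `keep`. -/
def collU (T : Tab D) (ord keep : List ℕ) : ℕ → List (ℕ × List ℕ) → List (ℕ × List ℕ) →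
    List (ℕ × List ℕ) × List (ℕ × List ℕ)
  | 0, st, todo => (st, todo)
  | _ + 1, st, [] => (st, [])
  | k + 1, [], x :: todo => collU T ord keep k [x] todo
  | k + 1, (a, e) :: st, (b, f) :: todo =>
    if Nat.blt (keep.idxOf a) (keep.idxOf b) then collU T ord keep k ((b, f) :: (a, e) :: st) todo
    else if Nat.beq a b then
      if e == f then collU T ord keep k st todo
      else if ltL e f then collU T ord keep k ((b, f) :: (a, e) :: st) todo
      else collU T ord keep k st ((b, f) :: (a, e) :: todo)
    else if ord.contains a && ord.contains b && !(Nat.beq a (Tab.negR D b)) then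
      collU T ord keep k st ((b, f) :: (a, e) ::
        (((terms (T.commT b a) f e).filter fun x => keep.contains x.1) ++ todo))
    else ((a, e) :: st, (b, f) :: todo)

/-- The first `m` coefficients of a word. -/
def normU (T : Tab D) (ord : List ℕ) (m n : ℕ) (w : List (ℕ × List ℕ)) :
    Option (List (ℕ × List ℕ)) :=
  let keep := ord.take m
  let r := collU T ord keep n [] (w.filter fun x => keep.contains x.1)
  let L := r.1.reverse
  if w.all (fun x => ord.contains x.1) && r.2.isEmpty &&
      decide (L = keep.flatMap fun s => L.filter fun x => Nat.beq x.1 s) then some L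
  else none

variable {T : Tab D} (G : T.Good) {F : Type*} [Field F]

/-- A set of positive roots is normal in the positive roots. -/
def NormalIn (_G : T.Good) (ord S : List ℕ) : Prop :=
  ∀ a ∈ ord, ∀ s ∈ S, ∀ c ∈ T.commT a s, c.1 ∈ S

theorem x_conj_mem {ord S : List ℕ} (hS : ∀ r ∈ ord, IsPos D r) (hsub : ∀ s ∈ S, s ∈ ord)
    (hn : NormalIn G ord S) {a : ℕ} (ha : a ∈ ord) (t : F) {u : GL D.Idx F}
    (hu : u ∈ G.US F {r | r ∈ S}) :
    (G.full.x a t)⁻¹ * u * G.full.x a t ∈ G.US F {r | r ∈ S} := by
  induction hu using Subgroup.closure_induction with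
  | mem u hu =>
    obtain ⟨s, hs, c, rfl⟩ := hu
    have hsp := hS s (hsub s hs)
    have hap := hS a ha
    by_cases e : s = a
    · subst e
      rw [G.full.x_inv, G.full.x_add, G.full.x_add]
      exact G.x_mem_US (S := {r | r ∈ S}) hs _
    · rw [mul_assoc, G.full.x_comm hap.1 hsp.1 e ((G.ord_spec hap).2 s hsp), ← mul_assoc,
        ← mul_assoc, inv_mul_cancel, one_mul, G.full.cert.commWord_eq hap.1 hsp.1]
      refine mul_mem (G.x_mem_US hs _) (list_prod_mem fun z hz => ?_)
      simp only [rhsWord, List.map_map, List.mem_map, Function.comp_apply] at hz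
      obtain ⟨d, hd, rfl⟩ := hz
      exact G.x_mem_US (S := {r | r ∈ S}) (hn a ha s hs d hd) _
  | one => simp
  | mul u v _ _ h1 h2 =>
    have := mul_mem h1 h2
    rwa [show (G.full.x a t)⁻¹ * u * G.full.x a t * ((G.full.x a t)⁻¹ * v * G.full.x a t) =
      (G.full.x a t)⁻¹ * (u * v) * G.full.x a t by group] at this
  | inv u _ h1 =>
    have := inv_mem h1
    rwa [show ((G.full.x a t)⁻¹ * u * G.full.x a t)⁻¹ =
      (G.full.x a t)⁻¹ * u⁻¹ * G.full.x a t by group] at this

/-- Equality modulo the root groups of `S`. -/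
def EqMod (S : List ℕ) (g h : GL D.Idx F) : Prop := g⁻¹ * h ∈ G.US F {r | r ∈ S}

theorem eqMod_refl (S : List ℕ) (g : GL D.Idx F) : EqMod G S g g := by simp [EqMod]

theorem eqMod_trans {S : List ℕ} {g h k : GL D.Idx F} (h1 : EqMod G S g h) (h2 : EqMod G S h k) :
    EqMod G S g k := by
  have := mul_mem h1 h2
  rwa [show g⁻¹ * h * (h⁻¹ * k) = g⁻¹ * k by group] at this

theorem eqMod_mul_left {S : List ℕ} {g h : GL D.Idx F} (c : GL D.Idx F) (h1 : EqMod G S g h) :
    EqMod G S (c * g) (c * h) := by
  rw [EqMod, show (c * g)⁻¹ * (c * h) = g⁻¹ * h by group]; exact h1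

variable {ord S : List ℕ} (hord : ∀ r ∈ ord, IsPos D r) (hsub : ∀ s ∈ S, s ∈ ord)
  (hn : NormalIn G ord S)
include hord hsub hn

theorem eqMod_wv (env : List F) {g h : GL D.Idx F} (h1 : EqMod G S g h) :
    ∀ l : List (ℕ × List ℕ), (∀ x ∈ l, x.1 ∈ ord) →
      EqMod G S (g * wv G env l) (h * wv G env l)
  | [], _ => by simpa [wv] using h1
  | x :: l, hl => by
    rw [wv_cons, ← mul_assoc, ← mul_assoc]
    refine eqMod_wv env ?_ l fun z hz => hl z (List.mem_cons_of_mem _ hz)
    rw [EqMod, show (g * G.full.x x.1 (mval env x.2))⁻¹ * (h * G.full.x x.1 (mval env x.2)) =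
      (G.full.x x.1 (mval env x.2))⁻¹ * (g⁻¹ * h) * G.full.x x.1 (mval env x.2) by group]
    exact x_conj_mem G hord hsub hn (hl x (List.mem_cons_self ..)) _ h1

theorem filter_eqMod (env : List F) (keep : List ℕ) (hk : ∀ r ∈ ord, r ∉ keep → r ∈ S) :
    ∀ l : List (ℕ × List ℕ), (∀ x ∈ l, x.1 ∈ ord) →
      EqMod G S (wv G env (l.filter fun x => keep.contains x.1)) (wv G env l)
  | [], _ => eqMod_refl G S _
  | x :: l, hl => by
    have hl' : ∀ z ∈ l, z.1 ∈ ord := fun z hz => hl z (List.mem_cons_of_mem _ hz)
    have ih := filter_eqMod env keep hk l hl'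
    by_cases hx : keep.contains x.1
    · rw [List.filter_cons_of_pos (by simpa using hx), wv_cons, wv_cons]
      exact eqMod_mul_left G _ ih
    · rw [List.filter_cons_of_neg (by simpa using hx), wv_cons]
      refine eqMod_trans G ih ?_
      have h0 : EqMod G S (1 : GL D.Idx F) (G.full.x x.1 (mval env x.2)) := by
        simp only [EqMod, inv_one, one_mul]
        exact G.x_mem_US (S := {r | r ∈ S})
          (hk _ (hl x (List.mem_cons_self ..)) (by simpa using hx)) _
      simpa using eqMod_wv G hord hsub hn env h0 l hl'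

theorem collU_sound (h2 : (2 : F) = 0) (keep : List ℕ) (hk : ∀ r ∈ ord, r ∉ keep → r ∈ S)
    (hcl : ∀ a ∈ ord, ∀ b ∈ ord, ∀ c ∈ T.commT a b, c.1 ∈ ord) (env : List F) :
    ∀ (k : ℕ) (st todo : List (ℕ × List ℕ)), (∀ x ∈ todo, x.1 ∈ ord) → (∀ x ∈ st, x.1 ∈ ord) →
    EqMod G S (wv G env ((collU T ord keep k st todo).1.reverse ++ (collU T ord keep k st todo).2))
      (wv G env (st.reverse ++ todo))
  | 0, st, todo, _, _ => eqMod_refl G S _
  | _ + 1, [], [], _, _ => eqMod_refl G S _
  | _ + 1, _ :: _, [], _, _ => eqMod_refl G S _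
  | k + 1, [], x :: todo, ht, _ => by
    rw [show collU T ord keep (k + 1) [] (x :: todo) = collU T ord keep k [x] todo from rfl]
    refine eqMod_trans G (collU_sound h2 keep hk hcl env k [x] todo
      (fun z hz => ht z (List.mem_cons_of_mem _ hz))
      (fun z hz => ht z (by rw [List.mem_singleton.mp hz]; exact List.mem_cons_self ..))) ?_
    exact eqMod_refl G S _
  | k + 1, (a, e) :: st, (b, f) :: todo, ht, hs => by
    have hto : ∀ x ∈ todo, x.1 ∈ ord := fun z hz => ht z (List.mem_cons_of_mem _ hz)
    have hst : ∀ x ∈ st, x.1 ∈ ord := fun z hz => hs z (List.mem_cons_of_mem _ hz)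
    have ha : a ∈ ord := hs (a, e) (List.mem_cons_self ..)
    have hb : b ∈ ord := ht (b, f) (List.mem_cons_self ..)
    have hpush : ∀ z ∈ (b, f) :: (a, e) :: st, z.1 ∈ ord :=
      List.forall_mem_cons.mpr ⟨hb, hs⟩
    rw [collU]
    split_ifs with h1 h3 h4 h5 h6
    · refine eqMod_trans G (collU_sound h2 keep hk hcl env k _ _ hto hpush) ?_
      rw [List.reverse_cons, List.append_assoc]; exact eqMod_refl G S _
    · obtain rfl := Nat.eq_of_beq_eq_true h3
      obtain rfl : e = f := by simpa using h4
      refine eqMod_trans G (collU_sound h2 keep hk hcl env k _ _ hto hst) ?_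
      simp only [List.reverse_cons, List.append_assoc, wv_append, List.singleton_append, wv_cons]
      rw [← mul_assoc (G.full.x a _), G.full.x_add, ← two_mul, h2, zero_mul, G.full.x_zero, one_mul]
      exact eqMod_refl G S _
    · refine eqMod_trans G (collU_sound h2 keep hk hcl env k _ _ hto hpush) ?_
      rw [List.reverse_cons, List.append_assoc]; exact eqMod_refl G S _
    · obtain rfl := Nat.eq_of_beq_eq_true h3
      refine eqMod_trans G (collU_sound h2 keep hk hcl env k _ _
        (List.forall_mem_cons.mpr ⟨hb, List.forall_mem_cons.mpr ⟨ha, hto⟩⟩) hst) ?_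
      simp only [List.reverse_cons, List.append_assoc, wv_append, List.singleton_append, wv_cons]
      rw [← mul_assoc (G.full.x a _), G.full.x_add, add_comm, ← G.full.x_add, mul_assoc]
      exact eqMod_refl G S _
    · simp only [Bool.and_eq_true, List.contains_iff_mem, Bool.not_eq_true'] at h6
      have hne' : a ≠ Tab.negR D b := fun e => by rw [e] at h6; simp at h6
      have hab : a ≠ b := fun e => h3 (by simp [e])
      have hterms : ∀ z ∈ terms (T.commT b a) f e, z.1 ∈ ord := fun z hz => by
        simp only [terms, List.mem_map] at hz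
        obtain ⟨c, hc, rfl⟩ := hz
        exact hcl b hb a ha c (List.mem_of_mem_filter hc)
      refine eqMod_trans G (collU_sound h2 keep hk hcl env k _ _
        (List.forall_mem_cons.mpr ⟨hb, List.forall_mem_cons.mpr ⟨ha, fun z hz => ?_⟩⟩) hst) ?_
      · rcases List.mem_append.mp hz with hz | hz
        exacts [hterms z (List.mem_of_mem_filter hz), hto z hz]
      have key : wv G env ((a, e) :: (b, f) :: todo) =
          wv G env ((b, f) :: (a, e) :: (terms (T.commT b a) f e ++ todo)) := by
        simp only [wv_append, wv_cons, wv_terms G h2]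
        rw [← mul_assoc (G.full.x a _), G.full.x_comm (hord b hb).1 (hord a ha).1 hab hne',
          G.full.cert.commWord_eq (hord b hb).1 (hord a ha).1]
        simp only [mul_assoc]
      rw [List.reverse_cons, List.append_assoc, List.singleton_append, wv_append, wv_append, key]
      refine eqMod_mul_left G _ ?_
      rw [wv_cons, wv_cons, wv_cons, wv_cons, wv_append, wv_append]
      exact eqMod_mul_left G _ (eqMod_mul_left G _ (eqMod_wv G hord hsub hn env
        (filter_eqMod G hord hsub hn env keep hk _ hterms) todo hto))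
    · exact eqMod_refl G S _

omit hsub hn in
/-- A root element in the root groups of a closed set not containing its root is trivial. -/
theorem x_US_zero {s : ℕ} (hs : T.Closed {r | r = s}) (hs0 : T.Closed {r | r ∈ s :: S})
    (hS : T.Closed {r | r ∈ S}) (hns : s ∉ S) {c : F}
    (h : G.full.x s c ∈ G.US F {r | r ∈ S}) : c = 0 := by
  classical
  obtain ⟨a, ha⟩ : G.full.x s c ∈ Set.range fun a => G.segProd {r | r = s} a 0 D.nroots := by
    rw [← G.US_eq_range hs]; exact G.x_mem_US (show s ∈ {r | r = s} from rfl) c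
  obtain ⟨b, hb⟩ : G.full.x s c ∈ Set.range fun a => G.segProd {r | r ∈ S} a 0 D.nroots := by
    rw [← G.US_eq_range hS]; exact h
  have key : ∀ (S' : Set ℕ), S' ⊆ {r | r ∈ s :: S} → ∀ (a : ℕ → F) (m k : ℕ),
      G.segProd S' a k m =
        G.segProd {r | r ∈ s :: S} (fun r => if r ∈ S' then a r else 0) k m := by
    intro S' hS' a m
    induction m with
    | zero => intro k; rfl
    | succ m ih =>
      intro k
      simp only [Tab.Good.segProd, ← ih (k + 1)]
      congr 1
      by_cases hk : k ∈ S'
      · rw [if_pos hk, if_pos (hS' hk), if_pos hk]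
      · rw [if_neg hk]
        split_ifs <;> simp [G.full.x_zero]
  have h1 : G.segProd {r | r = s} a 0 D.nroots = G.segProd {r | r ∈ S} b 0 D.nroots :=
    ha.trans hb.symm
  rw [key {r | r = s} (fun r (hr : r = s) => hr ▸ List.mem_cons_self ..) a,
    key {r | r ∈ S} (fun r hr => List.mem_cons_of_mem _ hr) b] at h1
  have h2 := G.segProd_injective hs0 _ 0 _ _ (zero_add _) h1 s (List.mem_cons_self ..) (Nat.zero_le _)
  simp only [Set.mem_ofPred_eq, if_true, hns, if_false] at h2
  have h3 : ∀ m k, G.segProd {r | r = s} a k m = 1 := by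
    intro m
    induction m with
    | zero => intro k; rfl
    | succ m ih =>
      intro k
      simp only [Tab.Good.segProd, ih (k + 1), mul_one, Set.mem_ofPred_eq]
      split_ifs with hk
      · rw [hk, h2, G.full.x_zero]
      · rfl
  exact G.x_eq_one (hs0.1 s (List.mem_cons_self ..)).1 (ha.symm.trans (h3 _ _))

omit hord hsub hn S ord in
theorem take_zero : ∀ (ord : List ℕ), (∀ i < ord.length, T.Closed {r | r ∈ ord.drop i}) →
    (∀ r ∈ ord, T.Closed {s | s = r}) → ord.Nodup → ∀ (m : ℕ) (f : ℕ → F),
    ((ord.take m).map fun r => G.full.x r (f r)).prod ∈ G.US F {r | r ∈ ord.drop m} →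
      ∀ r ∈ ord.take m, f r = 0
  | [], _, _, _, m, _, _ => by simp
  | _ :: _, _, _, _, 0, _, _ => by simp
  | s :: ord, hcl, hone, hnd, m + 1, f, h => by
    simp only [List.take_succ_cons, List.drop_succ_cons, List.map_cons, List.prod_cons] at h ⊢
    have hcl' : ∀ i < ord.length, T.Closed {r | r ∈ ord.drop i} := fun i hi => by
      simpa using hcl (i + 1) (by simpa using hi)
    have hS : T.Closed {r | r ∈ ord} := by
      rcases ord with _ | ⟨t, ord⟩
      · exact ⟨fun r hr => absurd hr List.not_mem_nil, fun r hr => absurd hr List.not_mem_nil⟩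
      · exact hcl' 0 (by simp)
    have hrest : ((ord.take m).map fun r => G.full.x r (f r)).prod ∈ G.US F {r | r ∈ ord} :=
      Subgroup.list_prod_mem _ fun x hx => by
        obtain ⟨r, hr, rfl⟩ := List.mem_map.1 hx
        exact G.x_mem_US (show r ∈ {r | r ∈ ord} from List.mem_of_mem_take hr) _
    have hx : G.full.x s (f s) ∈ G.US F {r | r ∈ ord} := by
      have := mul_mem (G.US_mono (S' := {r | r ∈ ord}) (fun r hr => List.mem_of_mem_drop hr) h)
        (inv_mem hrest)
      rwa [mul_inv_cancel_right] at this
    have hfs : f s = 0 := x_US_zero G (ord := ord)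
      (fun r hr => hS.1 r hr) (hone s (List.mem_cons_self ..))
      (hcl 0 (by simp)) hS (List.nodup_cons.1 hnd).1 hx
    rw [hfs, G.full.x_zero, one_mul] at h
    intro r hr
    rcases List.mem_cons.1 hr with rfl | hr
    · exact hfs
    · exact take_zero ord hcl' (fun t ht => hone t (List.mem_cons_of_mem _ ht))
        (List.nodup_cons.1 hnd).2 m f h r hr

omit hord hsub hn S ord in
/-- The first coefficients of a word with value `1` vanish. -/
theorem normU_zero (h2 : (2 : F) = 0) {ord : List ℕ} (hord : ∀ r ∈ ord, IsPos D r)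
    (hnd : ord.Nodup) (hcl : ∀ i < ord.length, T.Closed {r | r ∈ ord.drop i})
    (hone : ∀ r ∈ ord, T.Closed {s | s = r}) {m n : ℕ}
    (hn : NormalIn G ord (ord.drop m)) {w L : List (ℕ × List ℕ)}
    (h : normU T ord m n w = some L) (env : List F) (h1 : wv G env w = 1) :
    ∀ r ∈ ord.take m, pv env L r = 0 := by
  simp only [normU] at h
  split_ifs at h with hc
  simp only [Bool.and_eq_true, List.isEmpty_iff, decide_eq_true_eq, List.all_eq_true,
    List.contains_iff_mem] at hc
  obtain ⟨⟨hw, hemp⟩, hflat⟩ := hc
  cases h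
  have hsub : ∀ s ∈ ord.drop m, s ∈ ord := fun s hs => List.mem_of_mem_drop hs
  have hk : ∀ r ∈ ord, r ∉ ord.take m → r ∈ ord.drop m := fun r hr hnot => by
    rw [← List.take_append_drop m ord, List.mem_append] at hr
    exact hr.resolve_left hnot
  have hall : ∀ a ∈ ord, ∀ b ∈ ord, ∀ c ∈ T.commT a b, c.1 ∈ ord := fun a ha b hb c hc => by
    have := (hcl 0 (List.length_pos_of_mem ha)).2 a (by simpa using ha) b (by simpa using hb) c hc
    simpa using this
  have e1 := collU_sound G hord hsub hn h2 (ord.take m) hk hall env n []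
    (w.filter fun x => (ord.take m).contains x.1) (fun x hx => hw x (List.mem_of_mem_filter hx))
    (fun x hx => absurd hx List.not_mem_nil)
  rw [hemp, List.append_nil, List.reverse_nil, List.nil_append] at e1
  have e2 := eqMod_trans G e1 (filter_eqMod G hord hsub hn env (ord.take m) hk w hw)
  rw [h1, EqMod, mul_one] at e2
  refine take_zero G ord hcl hone hnd m _ ?_
  have e3 := inv_mem e2
  rw [inv_inv, hflat] at e3
  convert e3 using 1
  generalize (collU T ord (ord.take m) n [] _).1.reverse = L
  clear hflat e1 e2 e3 hemp hk hsub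
  induction ord.take m with
  | nil => rfl
  | cons s l ih => rw [List.flatMap_cons, wv_append, List.map_cons, List.prod_cons, prod_same, ih]

end CfsgLib.Chev.CharTwo
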