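import Cfsg.Agent.Chev.GoodAll
import Cfsg.Agent.Chev.Unipotent
import Mathlib.Data.ZMod.Basic

/-!
Collection in the unipotent group over the field with two elements, with coefficients that are
polynomials in Boolean variables (lists of monomials, each a bit mask).
-/

set_option autoImplicit false

namespace CfsgLib.Chev.Collect

open Cfsg.Lie Matrix
open scoped MatrixGroups

/-- The value of a polynomial at an assignment. -/
def ev (a : ℕ) : List ℕ → Bool
  | [] => false
  | m :: p => xor (Nat.beq (Nat.land m a) m) (ev a p)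

/-- Add a monomial. -/
def toggle (q : List ℕ) (m : ℕ) : List ℕ := if q.contains m then q.erase m else m :: q

/-- Sum. -/
def padd (p q : List ℕ) : List ℕ := p.foldl toggle q

/-- Product. -/
def pmul (p q : List ℕ) : List ℕ :=
  (p.flatMap fun m => q.map fun n => Nat.lor m n).foldl toggle []

theorem ev_erase (a m : ℕ) : ∀ q : List ℕ, m ∈ q →
    ev a (q.erase m) = xor (Nat.beq (Nat.land m a) m) (ev a q)
  | [], h => absurd h List.not_mem_nil
  | n :: q, h => by
    by_cases e : n = m
    · subst e
      rw [List.erase_cons_head, ev]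
      cases Nat.beq (Nat.land n a) n <;> simp
    · rw [List.erase_cons_tail (by simpa using e), ev, ev,
        ev_erase a m q ((List.mem_cons.mp h).resolve_left (Ne.symm e))]
      cases Nat.beq (Nat.land m a) m <;> cases Nat.beq (Nat.land n a) n <;> simp

theorem ev_toggle (a : ℕ) (q : List ℕ) (m : ℕ) :
    ev a (toggle q m) = xor (Nat.beq (Nat.land m a) m) (ev a q) := by
  by_cases h : m ∈ q
  · rw [toggle, if_pos (List.contains_iff_mem.mpr h), ev_erase a m q h]
  · rw [toggle, if_neg (by simpa using h), ev]

theorem ev_padd (a : ℕ) : ∀ p q : List ℕ, ev a (padd p q) = xor (ev a p) (ev a q)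
  | [], q => by simp [padd, ev]
  | m :: p, q => by
    show ev a (padd p (toggle q m)) = _
    rw [ev_padd a p, ev_toggle, ev, ← Bool.xor_assoc, Bool.xor_comm (ev a p)]

theorem beq_land_lor (a m n : ℕ) :
    Nat.beq (Nat.land (Nat.lor m n) a) (Nat.lor m n) =
      (Nat.beq (Nat.land m a) m && Nat.beq (Nat.land n a) n) := by
  rw [Bool.eq_iff_iff, Bool.and_eq_true, Nat.beq_eq, Nat.beq_eq, Nat.beq_eq]
  show (m ||| n) &&& a = m ||| n ↔ m &&& a = m ∧ n &&& a = n
  constructor
  · intro h
    constructor <;>
    · refine Nat.eq_of_testBit_eq fun i => ?_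
      have := congrArg (Nat.testBit · i) h
      simp only [Nat.testBit_and, Nat.testBit_or] at this ⊢
      revert this
      cases m.testBit i <;> cases n.testBit i <;> cases a.testBit i <;> simp
  · rintro ⟨h1, h2⟩
    rw [Nat.and_or_distrib_right, h1, h2]

theorem ev_append (a : ℕ) : ∀ p q : List ℕ, ev a (p ++ q) = xor (ev a p) (ev a q)
  | [], q => by simp [ev]
  | m :: p, q => by simp [ev, ev_append a p q]

theorem ev_pmul (a : ℕ) (p q : List ℕ) : ev a (pmul p q) = (ev a p && ev a q) := by
  rw [show pmul p q = padd (p.flatMap fun m => q.map fun n => Nat.lor m n) [] from rfl, ev_padd]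
  have hm : ∀ (m : ℕ) (q : List ℕ),
      ev a (q.map fun n => Nat.lor m n) = (Nat.beq (Nat.land m a) m && ev a q) := by
    intro m q
    induction q with
    | nil => simp [ev]
    | cons n q ih =>
      simp only [List.map_cons, ev, ih, beq_land_lor]
      cases Nat.beq (Nat.land m a) m <;> simp
  induction p with
  | nil => simp [ev]
  | cons m p ih =>
    simp only [ev, Bool.xor_false, List.flatMap_cons, ev_append, hm] at ih ⊢
    rw [ih]
    cases Nat.beq (Nat.land m a) m <;> cases ev a p <;> cases ev a q <;> simp

/-- The element of the field. -/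
def fval (b : Bool) : ZMod 2 := if b then 1 else 0

theorem fval_xor (b c : Bool) : fval (xor b c) = fval b + fval c := by revert b c; decide

theorem fval_and (b c : Bool) : fval (b && c) = fval b * fval c := by revert b c; decide

variable {D : ChevalleyDatum}

/-- The roots with odd coefficient in the commutator of a pair, each with the coefficient. -/
def oddTerms (l : List (ℕ × ℤ × ℕ × ℕ)) (pq : List ℕ) : List (ℕ × List ℕ) :=
  (l.filter fun c => decide (c.2.1 % 2 ≠ 0)).map fun c => (c.1, pq)

/-- Insert the letters in front of the sorted stack (largest first). -/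
def collect (T : Tab D) : ℕ → List (ℕ × List ℕ) → List (ℕ × List ℕ) →
    List (ℕ × List ℕ) × List (ℕ × List ℕ)
  | 0, st, todo => (st, todo)
  | _ + 1, st, [] => (st, [])
  | k + 1, [], e :: todo => collect T k [e] todo
  | k + 1, (a, p) :: st, (b, q) :: todo =>
    if Nat.blt a b then collect T k ((b, q) :: (a, p) :: st) todo
    else if Nat.beq a b then collect T k ((a, padd q p) :: st) todo
    else if q.isEmpty || p.isEmpty then collect T k st ((b, q) :: (a, p) :: todo)
    else if Nat.blt a D.nroots && !(Nat.beq a (Tab.negR D b)) &&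
        (T.commT b a).all (fun c => decide (1 ≤ c.2.2.1 ∧ 1 ≤ c.2.2.2)) then
      collect T k st ((b, q) :: (a, p) :: (oddTerms (T.commT b a) (pmul q p) ++ todo))
    else ((a, p) :: st, (b, q) :: todo)

variable {T : Tab D} (G : T.Good)

/-- The value of a word at an assignment. -/
noncomputable def val (a : ℕ) (l : List (ℕ × List ℕ)) : GL D.Idx (ZMod 2) :=
  (l.map fun e => G.full.x e.1 (fval (ev a e.2))).prod

theorem val_cons (a : ℕ) (e : ℕ × List ℕ) (l : List (ℕ × List ℕ)) :
    val G a (e :: l) = G.full.x e.1 (fval (ev a e.2)) * val G a l := by simp [val]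

theorem val_append (a : ℕ) (l l' : List (ℕ × List ℕ)) :
    val G a (l ++ l') = val G a l * val G a l' := by simp [val]

theorem x_fval_false (r : ℕ) : G.full.x r (fval false) = (1 : GL D.Idx (ZMod 2)) := G.full.x_zero r

theorem val_oddTerms (a : ℕ) (l : List (ℕ × ℤ × ℕ × ℕ))
    (hl : ∀ c ∈ l, 1 ≤ c.2.2.1 ∧ 1 ≤ c.2.2.2) (p q : List ℕ) :
    val G a (oddTerms l (pmul q p)) =
      ((rhsWord l (fval (ev a q)) (fval (ev a p))).map fun z => G.full.x z.1 z.2).prod := by
  induction l with
  | nil => rfl
  | cons c l ih =>
    have ih' := ih fun d hd => hl d (List.mem_cons_of_mem _ hd)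
    obtain ⟨hi, hj⟩ := hl c (List.mem_cons_self ..)
    have hpow : ∀ (x : ZMod 2) (n : ℕ), 1 ≤ n → (-x) ^ n = x ∧ x ^ n = x := by
      intro x n hn
      have : ∀ z : ZMod 2, z ^ 2 = z ∧ -z = z := by decide
      obtain ⟨k, rfl⟩ := Nat.exists_eq_add_of_le hn
      rw [(this x).2]
      refine ⟨?_, ?_⟩ <;>
      · induction k with
        | zero => simp
        | succ k ih => rw [← add_assoc, pow_succ, ih (by omega), ← pow_two, (this x).1]
    have hval : ∀ b : Bool, (decide (c.2.1 % 2 ≠ 0) = b) →
        (c.2.1 : ZMod 2) * (-fval (ev a q)) ^ c.2.2.1 * fval (ev a p) ^ c.2.2.2 =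
          fval (b && ev a (pmul q p)) := by
      intro b hb
      rw [(hpow _ _ hi).1, (hpow _ _ hj).2, fval_and, ev_pmul, fval_and, ← mul_assoc]
      congr 2
      rw [← hb]
      rcases Int.emod_two_eq c.2.1 with h | h
      · rw [(ZMod.intCast_zmod_eq_zero_iff_dvd c.2.1 2).mpr (Int.dvd_of_emod_eq_zero h)]
        simp [h, fval]
      · have : (c.2.1 : ZMod 2) = ((1 : ℤ) : ZMod 2) :=
          (ZMod.intCast_eq_intCast_iff' _ _ 2).mpr (by simpa using h)
        rw [this]
        simp [h, fval]
    simp only [oddTerms, rhsWord, List.map_cons, List.prod_cons] at ih' ⊢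
    rcases hb : decide (c.2.1 % 2 ≠ 0) with _ | _
    · rw [List.filter_cons_of_neg (p := fun d : ℕ × ℤ × ℕ × ℕ => decide (d.2.1 % 2 ≠ 0)) (a := c)
        (by rw [hb]; decide), hval false hb, Bool.false_and, x_fval_false G, one_mul]
      exact ih'
    · rw [List.filter_cons_of_pos (p := fun d : ℕ × ℤ × ℕ × ℕ => decide (d.2.1 % 2 ≠ 0)) (a := c)
        hb, List.map_cons, val_cons, hval true hb, Bool.true_and]
      exact congrArg _ ih'

/-- Collection does not change the value. -/
theorem collect_sound (a : ℕ) : ∀ (k : ℕ) (st todo : List (ℕ × List ℕ)),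
    val G a ((collect T k st todo).1.reverse ++ (collect T k st todo).2) =
      val G a (st.reverse ++ todo)
  | 0, st, todo => rfl
  | _ + 1, [], [] => rfl
  | _ + 1, _ :: _, [] => rfl
  | k + 1, [], e :: todo => by
    rw [show collect T (k + 1) [] (e :: todo) = collect T k [e] todo from rfl,
      collect_sound a k]
    rfl
  | k + 1, (x, p) :: st, (y, q) :: todo => by
    rw [collect]
    split_ifs with h1 h2 h3 h5
    · rw [collect_sound a k, List.reverse_cons, List.append_assoc]; rfl
    · obtain rfl := Nat.eq_of_beq_eq_true h2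
      rw [collect_sound a k]
      simp only [List.reverse_cons, List.append_assoc, val_append, List.singleton_append, val_cons,
        ev_padd, fval_xor]
      rw [← mul_assoc (G.full.x x _), G.full.x_add, add_comm (fval (ev a q))]
    · rw [collect_sound a k]
      simp only [List.reverse_cons, List.append_assoc, val_append, List.singleton_append, val_cons]
      congr 1
      rw [Bool.or_eq_true] at h3
      rcases h3 with h | h <;> simp [List.isEmpty_iff.mp h, ev, x_fval_false G]
    · rw [collect_sound a k]
      simp only [Bool.and_eq_true, Nat.blt_eq, Bool.not_eq_true', List.all_eq_true,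
        decide_eq_true_eq] at h5
      obtain ⟨⟨hx, hne⟩, hterms⟩ := h5
      have hne' : x ≠ Tab.negR D y := fun e => by rw [e] at hne; simp at hne
      have hyx : y < x := by
        have : ¬ x < y := fun h => h1 (Nat.blt_eq.mpr h)
        have : x ≠ y := fun h => h2 (by simp [h])
        omega
      simp only [List.reverse_cons, List.append_assoc, val_append, List.singleton_append, val_cons,
        val_oddTerms G a _ hterms]
      congr 1
      conv_rhs => rw [← mul_assoc (G.full.x x _), G.full.x_comm (hyx.trans hx) hx hyx.ne' hne',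
        G.full.cert.commWord_eq (hyx.trans hx) hx]
      simp only [mul_assoc]
    · rfl

/-- A word given by consecutive indices is a `segProd`. -/
theorem val_segProd (a : ℕ) (S : Set ℕ) : ∀ (l : List (ℕ × List ℕ)) (k : ℕ),
    l.map Prod.fst = List.range' k l.length → (∀ r ∈ l.map Prod.fst, r ∈ S) →
      val G a l = G.segProd S (fun r => fval (ev a (((l.find? fun e => Nat.beq e.1 r).map
        Prod.snd).getD []))) k l.length := by
  suffices h : ∀ (l : List (ℕ × List ℕ)) (k : ℕ) (f : ℕ → ZMod 2),
      l.map Prod.fst = List.range' k l.length → (∀ e ∈ l, e.1 ∈ S ∧ f e.1 = fval (ev a e.2)) →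
      val G a l = G.segProd S f k l.length by
    intro l k hl hS
    refine h l k _ hl fun e he => ⟨hS _ (List.mem_map_of_mem he), ?_⟩
    have hnd : (l.map Prod.fst).Nodup := hl ▸ List.nodup_range'
    have : l.find? (fun z => Nat.beq z.1 e.1) = some e := by
      rcases hf : l.find? (fun z => Nat.beq z.1 e.1) with _ | z
      · simpa using List.find?_eq_none.mp hf e he
      · have h1 := Nat.eq_of_beq_eq_true (List.find?_some (p := fun z : ℕ × List ℕ => Nat.beq z.1 e.1) hf)
        exact hf.trans (congrArg some (List.inj_on_of_nodup_map hnd (List.mem_of_find?_eq_some hf) he h1))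
    simp [this]
  intro l
  induction l with
  | nil => intro k f _ _; rfl
  | cons e l ih =>
    intro k f hl hS
    simp only [List.map_cons, List.length_cons, List.range'_succ, List.cons.injEq] at hl
    obtain ⟨he, hl⟩ := hl
    obtain ⟨hmem, hf⟩ := hS e (List.mem_cons_self ..)
    rw [val_cons, List.length_cons, Tab.Good.segProd, ← he, if_pos hmem, hf, he,
      ih (k + 1) f hl fun z hz => hS z (List.mem_cons_of_mem _ hz)]

end CfsgLib.Chev.Collect
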