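import Cfsg.Agent.Chev.Tab

/-!
Kernel checks for Chevalley's commutator formula: either the relevant chain commutes, or the
formula is verified by expanding both sides as polynomials in two variables.
-/

set_option autoImplicit false

namespace CfsgLib.Chev

open Cfsg.Lie

/-- Sparse vectors with coefficients `c t^i u^j`: entries `((index, i, j), c)`. -/
abbrev PVec := List ((ℕ × ℕ × ℕ) × ℤ)

/-- Merge one term into a list. -/
def pins (p : (ℕ × ℕ × ℕ) × ℤ) : PVec → PVec
  | [] => [p]
  | q :: rest =>
    cond (Nat.beq q.1.1 p.1.1 && Nat.beq q.1.2.1 p.1.2.1 && Nat.beq q.1.2.2 p.1.2.2)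
      ((q.1, q.2 + p.2) :: rest) (q :: pins p rest)

/-- Merge equal monomials. -/
def pnorm (v : PVec) : PVec := v.foldr pins []

/-- All coefficients vanish after merging. -/
def pisZero (v : PVec) : Bool := (pnorm v).all fun q => decide (q.2 = 0)

namespace Tab

variable {D : ChevalleyDatum} (T : Tab D)

/-- Column `b` of the `m`-th divided power, `m = 0` included. -/
def colP (m r b : ℕ) : Vec := cond (Nat.beq m 0) [(b, 1)] (T.colA m r b)

/-- Apply `x_k(c t^i u^j)` to a polynomial vector. -/
def papply (f : ℕ × ℤ × ℕ × ℕ) (v : PVec) : PVec :=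
  v.flatMap fun p => (List.range 4).flatMap fun m =>
    (T.colP m f.1 p.1.1).map fun q =>
      ((q.1, Nat.add p.1.2.1 (Nat.mul m f.2.2.1), Nat.add p.1.2.2 (Nat.mul m f.2.2.2)),
        f.2.1 ^ m * q.2 * p.2)

/-- A product of monomial root elements applied to a basis vector. -/
def pcol (fs : List (ℕ × ℤ × ℕ × ℕ)) (b : ℕ) : PVec :=
  fs.foldr (fun f v => pnorm (T.papply f v)) [((b, 0, 0), 1)]

/-- The root `i·r + s` of the chain. -/
def rootT (r s i : ℕ) : Option ℕ := ((T.ent r s)[i - 1]?).map Prod.fst

/-- The integer `M_{r,s,i}`. -/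
def mT (r s i : ℕ) : ℤ := (((T.ent r s)[i - 1]?).map Prod.snd).getD 0

/-- The terms of the commutator formula, read off the fast table. -/
def commT (r s : ℕ) : List (ℕ × ℤ × ℕ × ℕ) :=
  let rs := T.rootT r s 1
  let cands : List (Option ℕ × ℤ × ℕ × ℕ) :=
    [ (T.rootT r s 1, T.mT r s 1, 1, 1),
      (T.rootT r s 2, T.mT r s 2, 2, 1),
      (T.rootT s r 2, T.mT s r 2, 1, 2),
      (T.rootT r s 3, T.mT r s 3, 3, 1),
      (T.rootT s r 3, - T.mT s r 3, 1, 3),
      ((T.rootT r s 3).bind fun k => T.rootT k s 1, (rs.map fun k => T.mT k r 2 / 3).getD 0, 3, 2),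
      ((T.rootT s r 3).bind fun k => T.rootT k r 1,
        (rs.map fun k => -2 * T.mT k s 2 / 3).getD 0, 2, 3) ]
  cands.filterMap fun c => c.1.map fun k => (k, c.2)

/-- The root vectors with these indices commute. -/
def commuteQ (a b : ℕ) : Bool := (T.ent a b).isEmpty && !(Nat.beq b (negR D a))

/-- The elements of a list commute pairwise. -/
def commuteList : List ℕ → Bool
  | [] => true
  | a :: rest => rest.all (fun b => T.commuteQ a b) && commuteList rest

/-- Terms along the chain of `r` through `s`, numbered from `i`. -/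
def chainTerms : Vec → ℕ → List (ℕ × ℤ × ℕ × ℕ)
  | [], _ => []
  | p :: rest, i => (p.1, p.2, i, 1) :: chainTerms rest (i + 1)

/-- Terms along the chain of `s` through `r`, numbered from `j`. -/
def chainTerms' : Vec → ℕ → List (ℕ × ℤ × ℕ × ℕ)
  | [], _ => []
  | p :: rest, j => (p.1, (-1 : ℤ) ^ j * p.2, 1, j) :: chainTerms' rest (j + 1)

/-- The chain of `r` through `s` commutes and gives all the terms. -/
def goodLeft (r s : ℕ) : Bool :=
  T.commuteList (s :: (T.ent r s).map Prod.fst) &&
    decide (T.commT r s = chainTerms (T.ent r s) 1)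

/-- The chain of `s` through `r` commutes and gives all the terms. -/
def goodRight (r s : ℕ) : Bool :=
  T.commuteList (r :: (T.ent s r).map Prod.fst) &&
    decide (T.commT r s = chainTerms' (T.ent s r) 1)

/-- The two sides of the formula agree on every basis vector. -/
def brute (r s : ℕ) : Bool :=
  (T.commT r s).all (fun c => Nat.blt c.1 D.nroots) &&
  allBelow (fun b =>
    pisZero (T.pcol [(s, 1, 0, 1), (r, 1, 1, 0)] b ++
      (T.pcol ((r, 1, 1, 0) :: (s, 1, 0, 1) ::
        (T.commT r s).map (fun c => (c.1, c.2.1 * (-1) ^ c.2.2.1, c.2.2.1, c.2.2.2))) b).map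
        fun q => (q.1, -q.2))) (dim D)

/-- The commutator formula for the pair, as a check. -/
def chkComm (r : ℕ) : Bool :=
  allBelow (fun s => Nat.beq s r || Nat.beq s (negR D r) ||
    T.goodLeft r s || T.goodRight r s || T.brute r s) D.nroots

end Tab

end CfsgLib.Chev
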