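import Cfsg.Agent.Chev.Auto
import Cfsg.Agent.Chev.CommCheck
import Mathlib.Algebra.MvPolynomial.CommRing
import Mathlib.Algebra.Algebra.Rat
import Mathlib.RingTheory.MvPolynomial.Basic

/-!
Chevalley's commutator formula for a certified table, over an arbitrary commutative ring.
-/

set_option autoImplicit false

namespace CfsgLib.Chev

open Cfsg.Lie Matrix

/-- The vector denoted by a polynomial vector at `(t, u)`. -/
def peval {D : ChevalleyDatum} {R : Type*} [CommRing R] (t u : R) (v : PVec) : D.Idx → R :=
  fun x => (v.map fun p => if p.1.1 = code x then (p.2 : R) * t ^ p.1.2.1 * u ^ p.1.2.2 else 0).sum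

theorem peval_append {D : ChevalleyDatum} {R : Type*} [CommRing R] (t u : R) (v w : PVec) :
    (peval t u (v ++ w) : D.Idx → R) = peval t u v + peval t u w := by
  funext x; simp [peval]

theorem peval_pins {D : ChevalleyDatum} {R : Type*} [CommRing R] (t u : R)
    (p : (ℕ × ℕ × ℕ) × ℤ) (v : PVec) :
    (peval t u (pins p v) : D.Idx → R) = peval t u (p :: v) := by
  induction v with
  | nil => rfl
  | cons q v ih =>
    funext x
    have ihx := congrFun ih x
    simp only [peval, List.map_cons, List.sum_cons] at ihx ⊢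
    unfold pins
    rcases hb : (Nat.beq q.1.1 p.1.1 && Nat.beq q.1.2.1 p.1.2.1 && Nat.beq q.1.2.2 p.1.2.2)
    · simp only [cond_false, List.map_cons, List.sum_cons, ihx]
      ring
    · simp only [Bool.and_eq_true, Nat.beq_eq] at hb
      have h1 : p.1.1 = q.1.1 := hb.1.1.symm
      have h2 : p.1.2.1 = q.1.2.1 := hb.1.2.symm
      have h3 : p.1.2.2 = q.1.2.2 := hb.2.symm
      simp only [cond_true, List.map_cons, List.sum_cons, h1, h2, h3]
      split_ifs <;> push_cast <;> ring

theorem peval_pnorm {D : ChevalleyDatum} {R : Type*} [CommRing R] (t u : R) (v : PVec) :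
    (peval t u (pnorm v) : D.Idx → R) = peval t u v := by
  induction v with
  | nil => rfl
  | cons p v ih =>
    rw [show pnorm (p :: v) = pins p (pnorm v) from rfl, peval_pins]
    funext x
    have := congrFun ih x
    simp only [peval, List.map_cons, List.sum_cons] at this ⊢
    rw [this]

theorem pins_mem {P : ℕ → Prop} {p : (ℕ × ℕ × ℕ) × ℤ} {v : PVec} (hp : P p.1.1)
    (hv : ∀ q ∈ v, P q.1.1) : ∀ q ∈ pins p v, P q.1.1 := by
  induction v with
  | nil => simpa [pins] using hp
  | cons a v ih =>
    intro q hq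
    unfold pins at hq
    rcases hb : (Nat.beq a.1.1 p.1.1 && Nat.beq a.1.2.1 p.1.2.1 && Nat.beq a.1.2.2 p.1.2.2)
    · simp only [hb, cond_false, List.mem_cons] at hq
      rcases hq with rfl | hq
      · exact hv _ (by simp)
      · exact ih (fun x hx => hv x (by simp [hx])) q hq
    · simp only [hb, cond_true, List.mem_cons] at hq
      rcases hq with rfl | hq
      · exact hv a (by simp)
      · exact hv q (by simp [hq])

theorem pnorm_mem {P : ℕ → Prop} {v : PVec} (hv : ∀ q ∈ v, P q.1.1) :
    ∀ q ∈ pnorm v, P q.1.1 := by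
  induction v with
  | nil => simp [pnorm]
  | cons p v ih =>
    exact pins_mem (hv p (by simp)) (ih fun x hx => hv x (by simp [hx]))

/-- The product of the root elements of a word. -/
def wordX {D : ChevalleyDatum} (T : Tab D) {R : Type*} [CommRing R] (w : List (ℕ × R)) :
    Matrix D.Idx D.Idx R :=
  (w.map fun p => T.X R p.1 p.2).prod

theorem wordX_map {D : ChevalleyDatum} (T : Tab D) {R S : Type*} [CommRing R] [CommRing S]
    (φ : R →+* S) (w : List (ℕ × R)) :
    φ.mapMatrix (wordX T w) = wordX T (w.map fun p => (p.1, φ p.2)) := by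
  simp only [wordX, map_list_prod, List.map_map]
  congr 1
  exact List.map_congr_left fun p _ => Tab.Cert.X_map φ p.1 p.2

/-- The value of a monomial factor. -/
def fval {R : Type*} [CommRing R] (t u : R) (f : ℕ × ℤ × ℕ × ℕ) : ℕ × R :=
  (f.1, (f.2.1 : R) * t ^ f.2.2.1 * u ^ f.2.2.2)

/-- The right-hand side word of the commutator formula. -/
def rhsWord {R : Type*} [CommRing R] (terms : List (ℕ × ℤ × ℕ × ℕ)) (t u : R) : List (ℕ × R) :=
  terms.map fun c => (c.1, (c.2.1 : R) * (-t) ^ c.2.2.1 * u ^ c.2.2.2)

namespace Tab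

variable {D : ChevalleyDatum} (T : Tab D)

theorem colP_eq (m r : ℕ) (hm : m < 4) (x y : D.Idx) :
    coeff (T.colP m r (code y)) (code x) = T.P m r x y := by
  rcases Nat.eq_zero_or_pos m with h | h
  · subst h
    simp only [colP, Nat.beq_refl, cond_true, coeff_cons, coeff_nil, add_zero, P_zero,
      Matrix.one_apply]
    exact if_congr ⟨fun e => (code_injective e).symm, fun e => e ▸ rfl⟩ rfl rfl
  · simp [colP, beq_false (show m ≠ 0 by omega), P, show m ≠ 0 by omega, show m ≤ 3 by omega, A,
      matOf_apply]

namespace Cert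

variable {T} (C : T.Cert)
include C

theorem rootT_lt {r s i k : ℕ} (hr : r < D.nroots) (hs : s < D.nroots)
    (h : T.rootT r s i = some k) : k < D.nroots := by
  simp only [rootT, Option.map_eq_some_iff] at h
  obtain ⟨p, hp, rfl⟩ := h
  exact (C.ent_spec hr hs hp).1

theorem chainRoot_eq {r s : ℕ} (hr : r < D.nroots) (hs : s < D.nroots) (i : ℕ) :
    D.chainRoot r s i = T.rootT r s i := by
  rw [ChevalleyDatum.chainRoot, C.chainEntry_eq hr hs]; rfl

theorem chainM_eq {r s : ℕ} (hr : r < D.nroots) (hs : s < D.nroots) (i : ℕ) :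
    D.chainM r s i = T.mT r s i := by
  rw [ChevalleyDatum.chainM, C.chainEntry_eq hr hs]; rfl

theorem commTerms_eq {r s : ℕ} (hr : r < D.nroots) (hs : s < D.nroots) :
    D.commTerms r s = T.commT r s := by
  have hb : ∀ {a b : ℕ} (ha : a < D.nroots) (hb : b < D.nroots) (i j c : ℕ), c < D.nroots →
      ((D.chainRoot a b i).bind fun k => D.chainRoot k c j) =
        (T.rootT a b i).bind fun k => T.rootT k c j := by
    intro a b ha hb i j c hc
    rw [C.chainRoot_eq ha hb]
    rcases h : T.rootT a b i with _ | k
    · rfl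
    · simp only [Option.bind_some]
      exact C.chainRoot_eq (C.rootT_lt ha hb h) hc j
  have hm : ∀ (c : ℕ) (f : ℤ → ℤ), c < D.nroots →
      ((D.chainRoot r s 1).map fun k => f (D.chainM k c 2)) =
        (T.rootT r s 1).map fun k => f (T.mT k c 2) := by
    intro c f hc
    rw [C.chainRoot_eq hr hs]
    rcases h : T.rootT r s 1 with _ | k
    · rfl
    · simp only [Option.map_some]
      rw [C.chainM_eq (C.rootT_lt hr hs h) hc]
  simp only [ChevalleyDatum.commTerms, commT, hb hr hs 3 1 s hs, hb hs hr 3 1 r hr,
    hm r (fun x => x / 3) hr, hm s (fun x => -2 * x / 3) hs]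
  simp only [C.chainRoot_eq hr hs, C.chainRoot_eq hs hr, C.chainM_eq hr hs, C.chainM_eq hs hr]

theorem colP_mem {m r b : ℕ} (hr : r < D.nroots) (hb : b < dim D) :
    ∀ q ∈ T.colP m r b, q.1 < dim D := by
  intro q hq
  rcases Nat.eq_zero_or_pos m with h | h
  · subst h
    simp only [colP, Nat.beq_refl, cond_true, List.mem_singleton] at hq
    exact hq ▸ hb
  · simp only [colP, beq_false (show m ≠ 0 by omega), cond_false] at hq
    exact (C.colA_mem h hr hb hq).1

theorem papply_mem {f : ℕ × ℤ × ℕ × ℕ} (hf : f.1 < D.nroots) {v : PVec}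
    (hv : ∀ p ∈ v, p.1.1 < dim D) : ∀ p ∈ T.papply f v, p.1.1 < dim D := by
  intro p hp
  simp only [papply, List.mem_flatMap, List.mem_map] at hp
  obtain ⟨a, ha, m, -, q, hq, rfl⟩ := hp
  exact C.colP_mem hf (hv a ha) q hq

theorem peval_papply {R : Type*} [CommRing R] (t u : R) {f : ℕ × ℤ × ℕ × ℕ}
    (hf : f.1 < D.nroots) {v : PVec} (hv : ∀ p ∈ v, p.1.1 < dim D) :
    (peval t u (T.papply f v) : D.Idx → R) =
      T.X R f.1 ((f.2.1 : R) * t ^ f.2.2.1 * u ^ f.2.2.2) *ᵥ peval t u v := by
  induction v with
  | nil => funext x; simp [papply, peval, Matrix.mulVec, dotProduct]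
  | cons p v ih =>
    have e : T.papply f (p :: v) = T.papply f [p] ++ T.papply f v := by simp [papply]
    rw [e, peval_append, ih (fun q hq => hv q (by simp [hq])),
      show p :: v = [p] ++ v from rfl, peval_append, Matrix.mulVec_add]
    congr 1
    obtain ⟨y, hy⟩ := exists_code (hv p (by simp))
    funext x
    have hsum : ∀ (L : Vec) (c : R),
        (L.map fun q => if q.1 = code x then (q.2 : R) * c else 0).sum =
          (coeff L (code x) : R) * c := by
      intro L c
      induction L with
      | nil => simp [coeff]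
      | cons q L ih =>
        simp only [List.map_cons, List.sum_cons, ih, coeff_cons]
        push_cast
        split_ifs <;> ring
    have hL : peval t u (T.papply f [p]) x = ∑ m ∈ Finset.range 4,
        (coeff (T.colP m f.1 p.1.1) (code x) : R) *
          ((f.2.1 : R) ^ m * (p.2 : R) * t ^ (p.1.2.1 + m * f.2.2.1) *
            u ^ (p.1.2.2 + m * f.2.2.2)) := by
      have e : T.papply f [p] = (List.range 4).flatMap fun m => (T.colP m f.1 p.1.1).map fun q =>
          ((q.1, Nat.add p.1.2.1 (Nat.mul m f.2.2.1), Nat.add p.1.2.2 (Nat.mul m f.2.2.2)),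
            f.2.1 ^ m * q.2 * p.2) := by simp [papply]
      have gen : ∀ (n : ℕ) (g : ℕ → PVec), peval t u ((List.range n).flatMap g) x =
          ∑ m ∈ Finset.range n, peval t u (g m) x := by
        intro n g
        induction n with
        | zero => simp [peval]
        | succ n ihn =>
          rw [List.range_succ, List.flatMap_append, peval_append, Pi.add_apply, ihn,
            Finset.sum_range_succ]
          simp
      rw [e, gen]
      refine Finset.sum_congr rfl fun m _ => ?_
      rw [← hsum]
      simp only [peval, List.map_map, Function.comp_def, Nat.add_eq, Nat.mul_eq]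
      refine congrArg List.sum (List.map_congr_left fun q _ => ?_)
      split_ifs
      · push_cast; ring
      · rfl
    rw [hL, Matrix.mulVec, dotProduct]
    rw [Finset.sum_eq_single y]
    · simp only [X, Matrix.sum_apply, Matrix.smul_apply, Matrix.map_apply, smul_eq_mul, peval,
        List.map_cons, List.map_nil, List.sum_cons, List.sum_nil, add_zero, hy, if_true,
        Finset.sum_mul]
      refine Finset.sum_congr rfl fun m hm => ?_
      rw [← hy, T.colP_eq m f.1 (Finset.mem_range.mp hm) x y, pow_add, pow_add, pow_mul, pow_mul,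
        mul_pow, mul_pow, ← pow_mul, ← pow_mul, mul_comm m f.2.2.1, mul_comm m f.2.2.2]
      ring
    · intro z _ hz
      have : p.1.1 ≠ code z := fun e => hz (code_injective (e.symm.trans hy.symm))
      simp [peval, this]
    · intro h; exact absurd (Finset.mem_univ y) h

theorem pcol_spec {R : Type*} [CommRing R] (t u : R) (fs : List (ℕ × ℤ × ℕ × ℕ))
    (hfs : ∀ f ∈ fs, f.1 < D.nroots) (b : D.Idx) :
    (∀ p ∈ T.pcol fs (code b), p.1.1 < dim D) ∧
      (peval t u (T.pcol fs (code b)) : D.Idx → R) =
        wordX T (fs.map (fval t u)) *ᵥ Pi.single b 1 := by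
  induction fs with
  | nil =>
    refine ⟨fun p hp => ?_, ?_⟩
    · simp only [pcol, List.foldr_nil, List.mem_singleton] at hp
      exact hp ▸ code_lt b
    · funext x
      simp only [pcol, List.foldr_nil, peval, List.map_cons, List.map_nil, List.sum_cons,
        List.sum_nil, wordX, List.prod_nil, Matrix.one_mulVec, Pi.single_apply, pow_zero, mul_one,
        Int.cast_one, add_zero]
      exact if_congr ⟨fun e => (code_injective e).symm, fun e => e ▸ rfl⟩ rfl rfl
  | cons f fs ih =>
    obtain ⟨h1, h2⟩ := ih fun g hg => hfs g (by simp [hg])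
    have hf := hfs f (by simp)
    refine ⟨pnorm_mem (P := fun k => k < dim D) (C.papply_mem hf h1), ?_⟩
    rw [show T.pcol (f :: fs) (code b) = pnorm (T.papply f (T.pcol fs (code b))) from rfl,
      peval_pnorm, C.peval_papply t u hf h1, h2]
    simp only [wordX, List.map_cons, List.prod_cons, fval]
    rw [Matrix.mulVec_mulVec]

theorem brute_sound {R : Type*} [CommRing R] {r s : ℕ} (hr : r < D.nroots) (hs : s < D.nroots)
    (h : T.brute r s = true) (t u : R) :
    T.X R s u * T.X R r t = T.X R r t * T.X R s u * wordX T (rhsWord (T.commT r s) t u) := by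
  simp only [brute, Bool.and_eq_true, List.all_eq_true, Nat.blt_eq, allBelow_iff] at h
  obtain ⟨hk, h⟩ := h
  set fL : List (ℕ × ℤ × ℕ × ℕ) := [(s, 1, 0, 1), (r, 1, 1, 0)] with hfL
  set fR : List (ℕ × ℤ × ℕ × ℕ) := (r, 1, 1, 0) :: (s, 1, 0, 1) ::
    (T.commT r s).map (fun c => (c.1, c.2.1 * (-1) ^ c.2.2.1, c.2.2.1, c.2.2.2)) with hfR
  suffices hw : wordX T (fL.map (fval t u)) = wordX T (fR.map (fval t u)) by
    simp only [hfL, hfR, wordX, fval, List.map_cons, List.map_nil, List.prod_cons, List.prod_nil,
      mul_one, Int.cast_one, one_mul, pow_zero, pow_one, List.map_map, Function.comp_def] at hw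
    rw [hw, ← mul_assoc]
    simp only [wordX, rhsWord, List.map_map, Function.comp_def]
    congr 2
    refine List.map_congr_left fun c _ => ?_
    rw [neg_pow t]
    push_cast
    ring_nf
  have hfs1 : ∀ f ∈ fL, f.1 < D.nroots := by
    intro f hf
    simp only [hfL, List.mem_cons, List.not_mem_nil, or_false] at hf
    rcases hf with rfl | rfl <;> assumption
  have hfs2 : ∀ f ∈ fR, f.1 < D.nroots := by
    intro f hf
    simp only [hfR, List.mem_cons, List.mem_map] at hf
    rcases hf with rfl | rfl | ⟨c, hc, rfl⟩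
    · exact hr
    · exact hs
    · exact hk c hc
  apply Matrix.ext
  intro x y
  have h0 := h (code y) (code_lt y)
  simp only [pisZero, List.all_eq_true, decide_eq_true_eq] at h0
  have e := congrFun (peval_pnorm (D := D) t u (T.pcol fL (code y) ++
    (T.pcol fR (code y)).map fun q => (q.1, -q.2))) x
  have z : (peval t u (pnorm (T.pcol fL (code y) ++
      (T.pcol fR (code y)).map fun q => (q.1, -q.2))) : D.Idx → R) x = 0 := by
    refine List.sum_eq_zero fun a ha => ?_
    simp only [List.mem_map] at ha
    obtain ⟨p, hp, rfl⟩ := ha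
    simp [h0 p hp]
  rw [z, peval_append, Pi.add_apply] at e
  have hn : (peval t u ((T.pcol fR (code y)).map fun q => (q.1, -q.2)) : D.Idx → R) x =
      - peval t u (T.pcol fR (code y)) x := by
    simp only [peval, List.map_map, Function.comp_def]
    induction T.pcol fR (code y) with
    | nil => simp
    | cons a L ih => simp only [List.map_cons, List.sum_cons, ih]; split_ifs <;> push_cast <;> ring
  rw [hn, (C.pcol_spec t u fL hfs1 y).2, (C.pcol_spec t u fR hfs2 y).2, Matrix.mulVec_single_one,
    Matrix.mulVec_single_one] at e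
  exact eq_of_sub_eq_zero ((sub_eq_add_neg _ _).trans e.symm)

/-! ### Commuting chains, over rings containing the rationals -/

omit C in
theorem commuteList_spec : ∀ L : List ℕ, T.commuteList L = true →
    L.Pairwise (fun a b => T.commuteQ a b = true) := by
  intro L
  induction L with
  | nil => simp
  | cons a L ih =>
    intro h
    simp only [commuteList, Bool.and_eq_true, List.all_eq_true] at h
    exact List.pairwise_cons.mpr ⟨h.1, ih h.2⟩

theorem commute_adR {R : Type*} [CommRing R] (a b : Fin D.nroots)
    (h : T.commuteQ a b = true) :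
    Commute (T.adR R (Sum.inr a)) (T.adR R (Sum.inr b)) := by
  simp only [commuteQ, Bool.and_eq_true, List.isEmpty_iff, Bool.not_eq_true'] at h
  have hne : b.val ≠ negR D a.val := by
    intro e; have := h.2; rw [beq_true e] at this; exact Bool.noConfusion this
  have hcol : T.colA 1 a b = [] := by
    rcases eq_or_ne b.val a.val with e | e
    · rw [e, T.colA_self 1 _ a.isLt]
    · rw [T.colA_chain 1 a b b.isLt e hne, h.1]; rfl
  have hj := C.jacobi (Sum.inr a) (Sum.inr b)
  have z : (fun x => T.adM (Sum.inr a) x (Sum.inr b)) = 0 := by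
    funext x; rw [T.adM_inr, A, matOf_apply, code_inr, hcol, coeff_nil]; rfl
  rw [z, adLin_zero, cm, sub_eq_zero] at hj
  exact (Commute.map (show Commute (T.adM (Sum.inr a)) (T.adM (Sum.inr b)) from hj)
    (Int.castRingHom R).mapMatrix)

/-- The sum of multiples of `ad e_k` over a list. -/
noncomputable def sumAd (R : Type*) [CommRing R] (L : List (Fin D.nroots × R)) :
    Matrix D.Idx D.Idx R :=
  (L.map fun p => p.2 • T.adR R (Sum.inr p.1)).sum

theorem exp_sumAd {R : Type*} [CommRing R] [Algebra ℚ R] (L : List (Fin D.nroots × R))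
    (hL : (L.map fun p => (p.1 : ℕ)).Pairwise (fun a b => T.commuteQ a b = true)) :
    IsNilpotent (sumAd (T := T) R L) ∧
      IsNilpotent.exp (sumAd (T := T) R L) = wordX T (L.map fun p => ((p.1 : ℕ), p.2)) := by
  induction L with
  | nil => exact ⟨by simp [sumAd], by simp [sumAd, wordX]⟩
  | cons p L ih =>
    rw [List.map_cons, List.pairwise_cons] at hL
    obtain ⟨hn, he⟩ := ih hL.2
    have h1 : IsNilpotent (p.2 • T.adR R (Sum.inr p.1)) := by
      refine ⟨4, ?_⟩
      rw [smul_pow, C.adR_pow_four p.1.isLt, smul_zero]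
    have hc : Commute (p.2 • T.adR R (Sum.inr p.1)) (sumAd (T := T) R L) := by
      refine Commute.smul_left ?_ p.2
      refine Commute.list_sum_right _ _ fun y hy => ?_
      obtain ⟨q, hq, rfl⟩ := List.mem_map.mp hy
      exact Commute.smul_right (C.commute_adR p.1 q.1 (hL.1 _ (List.mem_map.mpr ⟨q, hq, rfl⟩))) q.2
    have e : sumAd (T := T) R (p :: L) = p.2 • T.adR R (Sum.inr p.1) + sumAd (T := T) R L := by
      simp [sumAd]
    refine ⟨e ▸ hc.isNilpotent_add h1 hn, ?_⟩
    rw [e, IsNilpotent.exp_add_of_commute hc h1 hn, he, ← C.X_eq_exp p.1.isLt]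
    rfl

/-- The multiples of chain vectors in the image of `e_s` under `x_r(a)`. -/
def chainVec {R : Type*} [CommRing R] (a : R) : Vec → ℕ → List (ℕ × R)
  | [], _ => []
  | p :: rest, i => (p.1, (p.2 : R) * a ^ i) :: chainVec a rest (i + 1)

omit C in
theorem chainVec_fst {R : Type*} [CommRing R] (a : R) :
    ∀ (L : Vec) (i : ℕ), (chainVec a L i).map Prod.fst = L.map Prod.fst := by
  intro L
  induction L with
  | nil => intro i; rfl
  | cons p L ih => intro i; simp [chainVec, ih]

theorem exists_fin_list {R : Type*} (L : List (ℕ × R)) (hL : ∀ p ∈ L, p.1 < D.nroots) :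
    ∃ L' : List (Fin D.nroots × R), L'.map (fun p => ((p.1 : ℕ), p.2)) = L := by
  induction L with
  | nil => exact ⟨[], rfl⟩
  | cons p L ih =>
    obtain ⟨L', hL'⟩ := ih fun q hq => hL q (by simp [hq])
    exact ⟨(⟨p.1, hL p (by simp)⟩, p.2) :: L', by simp [hL']⟩

/-- Conjugating a root element along a commuting chain. -/
theorem conj_chain {R : Type*} [CommRing R] [Algebra ℚ R] {r s : ℕ} (hr : r < D.nroots)
    (hs : s < D.nroots) (hsr : s ≠ r) (hsn : s ≠ negR D r)
    (hL : T.commuteList (s :: (T.ent r s).map Prod.fst) = true) (a u : R) :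
    T.X R r a * T.X R s u * T.X R r (-a) =
      T.X R s u * wordX T ((chainVec a (T.ent r s) 1).map fun p => (p.1, p.2 * u)) := by
  obtain ⟨L, hL'⟩ := C.exists_fin_list ((s, (1 : R)) :: chainVec a (T.ent r s) 1) (by
    intro p hp
    rcases List.mem_cons.mp hp with rfl | hp
    · exact hs
    · have := List.mem_map_of_mem (f := Prod.fst) hp
      rw [chainVec_fst] at this
      obtain ⟨q, hq, hq'⟩ := List.mem_map.mp this
      obtain ⟨j, hj⟩ := List.getElem?_of_mem hq
      exact hq' ▸ (C.ent_spec hr hs hj).1)
  have hkeys : L.map (fun p => (p.1 : ℕ)) = s :: (T.ent r s).map Prod.fst := by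
    have := congrArg (List.map Prod.fst) hL'
    rwa [List.map_map, List.map_cons, chainVec_fst] at this
  have hcol : T.X R r a * T.adR R (Sum.inr ⟨s, hs⟩) =
      sumAd (T := T) R L * T.X R r a := by
    rw [C.X_mul_adR hr a]
    congr 1
    have hsingle : ∀ (L : List (Fin D.nroots × R)),
        sumAd (T := T) R L =
          T.ADR (fun x => (L.map fun p => if (p.1 : ℕ) = code x then p.2 else 0).sum) := by
      intro L
      induction L with
      | nil => simp [sumAd, ADR]
      | cons p L ih =>
        have e : (fun x : D.Idx =>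
            ((p :: L).map fun p => if (p.1 : ℕ) = code x then p.2 else 0).sum) =
            Pi.single (Sum.inr p.1) p.2 +
              fun x => (L.map fun p => if (p.1 : ℕ) = code x then p.2 else 0).sum := by
          funext x
          simp only [List.map_cons, List.sum_cons, Pi.add_apply, Pi.single_apply]
          congr 1
          exact if_congr ⟨fun e => code_injective (e.symm.trans (code_inr p.1).symm),
            fun e => by rw [e, code_inr]⟩ rfl rfl
        rw [e, T.ADR_add, T.ADR_single, ← ih]
        simp [sumAd]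
    rw [hsingle L]
    congr 1
    funext x
    have hLx : (L.map fun p => if (p.1 : ℕ) = code x then p.2 else 0) =
        ((s, (1 : R)) :: chainVec a (T.ent r s) 1).map fun p => if p.1 = code x then p.2 else 0 := by
      rw [← hL', List.map_map]; rfl
    rw [hLx]
    have hP : ∀ m, 1 ≤ m → m ≤ 3 → T.P m r x (Sum.inr ⟨s, hs⟩) =
        coeff (((T.ent r s).drop (m - 1)).take 1) (code x) := by
      intro m h1 h3
      simp only [P, show m ≠ 0 by omega, h3, if_false, if_true, A, matOf_apply, code_inr,
        T.colA_chain m r s hs hsr hsn]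
    have h0 : ((T.P 0 r x (Sum.inr ⟨s, hs⟩) : ℤ) : R) = if s = code x then (1 : R) else 0 := by
      rw [T.P_zero, Matrix.one_apply]
      split_ifs with h1 h2 h2 <;> first | simp | skip
      · exact absurd (by rw [h1, code_inr]) h2
      · exact absurd (code_injective ((code_inr _).trans h2)).symm h1
    simp only [X, Finset.sum_range_succ, Finset.sum_range_zero, zero_add, Matrix.add_apply,
      Matrix.smul_apply, Matrix.map_apply, smul_eq_mul, hP 1 le_rfl (by omega),
      hP 2 (by omega) (by omega), hP 3 (by omega) le_rfl, h0]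
    have hlen := C.ent_length hr hs
    rcases hent : T.ent r s with _ | ⟨p, _ | ⟨q, _ | ⟨w, _ | ⟨z, rest⟩⟩⟩⟩
    · simp [chainVec, coeff_nil]
    · simp [chainVec, coeff_cons, coeff_nil, mul_comm]
    · simp [chainVec, coeff_cons, coeff_nil, mul_comm]; ring
    · simp [chainVec, coeff_cons, coeff_nil, mul_comm]; ring
    · rw [hent] at hlen; simp only [List.length_cons] at hlen; omega
  set Lu : List (Fin D.nroots × R) := L.map fun p => (p.1, p.2 * u) with hLu
  have hLuK : (Lu.map fun p => (p.1 : ℕ)) = s :: (T.ent r s).map Prod.fst := by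
    rw [hLu, List.map_map]; exact hkeys
  have hexp := C.exp_sumAd (R := R) Lu (hLuK ▸ commuteList_spec _ hL)
  have hsum : sumAd (T := T) R Lu = u • sumAd (T := T) R L := by
    simp only [sumAd, hLu, List.map_map, List.smul_sum, Function.comp_def, smul_smul, mul_comm]
  have hword : wordX T (Lu.map fun p => ((p.1 : ℕ), p.2)) =
      T.X R s u * wordX T ((chainVec a (T.ent r s) 1).map fun p => (p.1, p.2 * u)) := by
    have : (Lu.map fun p => ((p.1 : ℕ), p.2)) =
        ((s, (1 : R)) :: chainVec a (T.ent r s) 1).map fun p => (p.1, p.2 * u) := by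
      rw [← hL', hLu, List.map_map, List.map_map]; rfl
    rw [this]
    simp [wordX]
  rw [← hword, ← hexp.2, hsum, C.X_eq_exp hs]
  set B := u • T.adR R (Sum.inr ⟨s, hs⟩) with hB
  have hU : T.X R r a * T.X R r (-a) = 1 := C.X_mul_neg hr a
  have hU' : T.X R r (-a) * T.X R r a = 1 := C.X_neg_mul hr a
  have hB4 : B ^ 4 = 0 := by rw [hB, smul_pow, C.adR_pow_four hs, smul_zero]
  have hconjB : u • sumAd (T := T) R L = T.X R r a * B * T.X R r (-a) := by
    rw [hB, Matrix.mul_smul, Matrix.smul_mul, hcol, mul_assoc, hU, mul_one]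
  have hpow : ∀ j, (T.X R r a * B * T.X R r (-a)) ^ j = T.X R r a * B ^ j * T.X R r (-a) := by
    intro j
    induction j with
    | zero => simp [hU]
    | succ j ih =>
      rw [pow_succ, ih, pow_succ]
      simp only [mul_assoc]
      rw [← mul_assoc (T.X R r (-a)) (T.X R r a), hU', one_mul]
  have h4' : (T.X R r a * B * T.X R r (-a)) ^ 4 = 0 := by rw [hpow, hB4, mul_zero, zero_mul]
  rw [hconjB, IsNilpotent.exp_eq_sum h4', IsNilpotent.exp_eq_sum hB4, Matrix.mul_sum,
    Matrix.sum_mul]
  exact Finset.sum_congr rfl fun j _ => by rw [hpow, Matrix.mul_smul, Matrix.smul_mul]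

theorem goodLeft_sound {R : Type*} [CommRing R] [Algebra ℚ R] {r s : ℕ} (hr : r < D.nroots)
    (hs : s < D.nroots) (hsr : s ≠ r) (hsn : s ≠ negR D r) (h : T.goodLeft r s = true) (t u : R) :
    T.X R s u * T.X R r t = T.X R r t * T.X R s u * wordX T (rhsWord (T.commT r s) t u) := by
  simp only [goodLeft, Bool.and_eq_true, decide_eq_true_eq] at h
  have hc := C.conj_chain hr hs hsr hsn h.1 (-t) u
  have hw : ∀ (L : Vec) (i : ℕ), rhsWord (chainTerms L i) t u =
      (chainVec (-t) L i).map fun p => (p.1, p.2 * u) := by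
    intro L
    induction L with
    | nil => intro i; rfl
    | cons p L ih =>
      intro i
      have := ih (i + 1)
      simp only [rhsWord] at this
      simp only [rhsWord, chainTerms, chainVec, List.map_cons, this, pow_one]
  rw [h.2, hw, mul_assoc, ← hc, neg_neg, ← mul_assoc, ← mul_assoc, C.X_mul_neg hr, one_mul]

theorem goodRight_sound {R : Type*} [CommRing R] [Algebra ℚ R] {r s : ℕ} (hr : r < D.nroots)
    (hs : s < D.nroots) (hsr : s ≠ r) (hsn : s ≠ negR D r) (h : T.goodRight r s = true) (t u : R) :
    T.X R s u * T.X R r t = T.X R r t * T.X R s u * wordX T (rhsWord (T.commT r s) t u) := by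
  simp only [goodRight, Bool.and_eq_true, decide_eq_true_eq] at h
  have hrn : r ≠ negR D s := fun e => hsn (by rw [e, negR_negR hs])
  have hc := C.conj_chain hs hr (Ne.symm hsr) hrn h.1 (-u) (-t)
  rw [neg_neg] at hc
  have hw : ∀ (L : Vec) (j : ℕ), rhsWord (chainTerms' L j) t u =
      (chainVec (-u) L j).map fun p => (p.1, p.2 * (-t)) := by
    intro L
    induction L with
    | nil => intro j; rfl
    | cons p L ih =>
      intro j
      have := ih (j + 1)
      simp only [rhsWord] at this
      simp only [rhsWord, chainTerms', chainVec, List.map_cons, this, pow_one]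
      rw [neg_pow u]
      push_cast
      ring_nf
  rw [h.2, hw]
  set W := wordX T ((chainVec (-u) (T.ent s r) 1).map fun p => (p.1, p.2 * -t)) with hW
  have hW' : W = T.X R r t * (T.X R r (-t) * W) := by rw [← mul_assoc, C.X_mul_neg hr, one_mul]
  have hcomm : W * T.X R r t = T.X R r t * W := by
    refine Commute.eq (Commute.list_prod_left _ _ fun M hM => ?_)
    simp only [List.map_map, List.mem_map, Function.comp_apply] at hM
    obtain ⟨p, hp, rfl⟩ := hM
    have hk : p.1 ∈ (T.ent s r).map Prod.fst := by
      rw [← chainVec_fst (-u) (T.ent s r) 1]; exact List.mem_map_of_mem hp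
    have hpw := commuteList_spec _ h.1
    rw [List.pairwise_cons] at hpw
    obtain ⟨q, hq, hq'⟩ := List.mem_map.mp hk
    obtain ⟨j, hj⟩ := List.getElem?_of_mem hq
    have hlt : p.1 < D.nroots := hq' ▸ (C.ent_spec hs hr hj).1
    have hc1 := C.commute_adR (R := R) ⟨r, hr⟩ ⟨p.1, hlt⟩ (hpw.1 _ hk)
    simp only [X]
    refine (Commute.sum_right _ _ _ fun i _ => Commute.sum_left _ _ _ fun j _ => ?_)
    refine Commute.smul_left (Commute.smul_right ?_ _) _
    have hP : ∀ {k : ℕ} (hk : k < D.nroots) (i : ℕ),
        (i.factorial : R) • (T.P i k).map (Int.cast : ℤ → R) = T.adR R (Sum.inr ⟨k, hk⟩) ^ i := by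
      intro k hk i
      have e : T.adR R (Sum.inr ⟨k, hk⟩) = (Int.castRingHom R).mapMatrix (T.P 1 k) := by
        rw [adR, T.adM_inr]; rfl
      rw [e, ← map_pow, ← C.factorial_P hk i, map_zsmul]
      ext x y
      simp
    have hu : ∀ i : ℕ, IsUnit (i.factorial : R) := by
      intro i
      rw [← map_natCast (algebraMap ℚ R)]
      exact (IsUnit.mk0 _ (by exact_mod_cast i.factorial_ne_zero)).map _
    have := (hc1.pow_pow i j).symm
    rw [← hP hr i, ← hP hlt j] at this
    have h3 := this.eq
    rw [Matrix.smul_mul, Matrix.mul_smul, Matrix.smul_mul, Matrix.mul_smul, smul_comm,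
      smul_smul, smul_smul] at h3
    exact ((hu i).mul (hu j)).smul_left_cancel.mp h3
  -- `x_s(-u) x_r(-t) x_s(u) x_r(t) = W`
  calc T.X R s u * T.X R r t
      = T.X R r t * T.X R s u *
          (T.X R s (-u) * T.X R r (-t) * T.X R s u * T.X R r t) := by
        simp only [← mul_assoc]
        rw [mul_assoc (T.X R r t) (T.X R s u), C.X_mul_neg hs, mul_one, C.X_mul_neg hr, one_mul]
    _ = T.X R r t * T.X R s u * W := by
        rw [hc, mul_assoc (T.X R r (-t)), hcomm, ← mul_assoc (T.X R r (-t)), C.X_neg_mul hr, one_mul]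

theorem comm {R : Type*} [CommRing R] (H : ∀ r < D.nroots, T.chkComm r = true) {r s : ℕ}
    (hr : r < D.nroots) (hs : s < D.nroots) (hsr : s ≠ r) (hsn : s ≠ negR D r) (t u : R) :
    T.X R s u * T.X R r t = T.X R r t * T.X R s u * wordX T (rhsWord (T.commT r s) t u) := by
  have h0 := H r hr
  simp only [chkComm, allBelow_iff, Bool.or_eq_true, Nat.beq_eq] at h0
  rcases h0 s hs with (((h | h) | h) | h) | h
  · exact absurd h hsr
  · exact absurd h hsn
  on_goal 3 => exact C.brute_sound hr hs h t u
  all_goals
    let φ : MvPolynomial Bool ℤ →+* R :=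
      MvPolynomial.eval₂Hom (Int.castRingHom R) fun b => if b then t else u
    let ψ : MvPolynomial Bool ℤ →+* MvPolynomial Bool ℚ := MvPolynomial.map (Int.castRingHom ℚ)
    have hψ : Function.Injective ψ := MvPolynomial.map_injective _ Int.cast_injective
    let t0 : MvPolynomial Bool ℤ := MvPolynomial.X true
    let u0 : MvPolynomial Bool ℤ := MvPolynomial.X false
    have key : T.X _ s u0 * T.X _ r t0 =
        T.X _ r t0 * T.X _ s u0 * wordX T (rhsWord (T.commT r s) t0 u0) := by
      refine Matrix.ext fun x y => hψ ?_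
      have h1 : ψ.mapMatrix (T.X _ s u0 * T.X _ r t0) =
          ψ.mapMatrix (T.X _ r t0 * T.X _ s u0 * wordX T (rhsWord (T.commT r s) t0 u0)) := by
        simp only [map_mul, X_map, wordX_map]
        have e : (rhsWord (T.commT r s) t0 u0).map (fun p => (p.1, ψ p.2)) =
            rhsWord (T.commT r s) (ψ t0) (ψ u0) := by
          simp [rhsWord, List.map_map, Function.comp_def]
        rw [e]
        first
          | exact C.goodLeft_sound hr hs hsr hsn h _ _
          | exact C.goodRight_sound hr hs hsr hsn h _ _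
      exact congrFun (congrFun h1 x) y
    have h2 := congrArg φ.mapMatrix key
    simp only [map_mul, X_map, wordX_map] at h2
    have et : φ t0 = t := by simp [φ, t0]
    have eu : φ u0 = u := by simp [φ, u0]
    have e : (rhsWord (T.commT r s) t0 u0).map (fun p => (p.1, φ p.2)) =
        rhsWord (T.commT r s) t u := by
      simp [rhsWord, List.map_map, Function.comp_def, et, eu]
    rw [et, eu, e] at h2
    exact h2

theorem commWord_eq {F : Type*} [Field F] {r s : ℕ} (hr : r < D.nroots) (hs : s < D.nroots)
    (t u : F) : D.commWord F r s t u = rhsWord (T.commT r s) t u := by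
  rw [ChevalleyDatum.commWord, C.commTerms_eq hr hs]; rfl

end Cert

end Tab

end CfsgLib.Chev
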