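import Cfsg.Agent.Chev.TorusLattice
import Cfsg.Agent.Chev.FieldFix
import Cfsg.Agent.Chev.Card
import Mathlib.FieldTheory.Finite.Extension
import Mathlib.LinearAlgebra.Eigenspace.Zero
import Mathlib.LinearAlgebra.FreeModule.Finite.CardQuotient
import Mathlib.GroupTheory.Sylow

/-!
Cyclic self-centralising tori attached to an elliptic element of the Weyl group, found through
the Sylow subgroups for a primitive prime divisor.
-/

set_option autoImplicit false
set_option linter.style.haveILetI false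

namespace CfsgLib.Chev

open Matrix Polynomial Cfsg.Lie

/-- A finite commutative group with at most `ℓ` elements killed by each prime `ℓ` is cyclic. -/
theorem cyclic_of_prime_torsion {A : Type*} [CommGroup A] [Finite A]
    (h : ∀ ℓ : ℕ, ℓ.Prime → Nat.card (powMonoidHom ℓ : A →* A).ker ≤ ℓ) : IsCyclic A := by
  classical
  letI := Fintype.ofFinite A
  have key : ∀ n, 0 < n → Nat.card (powMonoidHom n : A →* A).ker ≤ n := by
    intro n
    induction n using Nat.strong_induction_on with
    | _ n ih =>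
      intro hn
      rcases eq_or_ne n 1 with rfl | h1
      · refine le_of_eq (Nat.card_eq_one_iff_unique.mpr ⟨⟨fun a b => Subtype.ext ?_⟩, inferInstance⟩)
        have ha := a.2
        have hb := b.2
        rw [MonoidHom.mem_ker, powMonoidHom_apply, pow_one] at ha hb
        rw [ha, hb]
      · obtain ⟨ℓ, hℓ, m, rfl⟩ := Nat.exists_prime_and_dvd h1
        have hm : 0 < m := Nat.pos_of_mul_pos_left hn
        let φ : (powMonoidHom (ℓ * m) : A →* A).ker →* (powMonoidHom m : A →* A).ker :=
          ((powMonoidHom ℓ).comp (Subgroup.subtype _)).codRestrict _ fun a => by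
            rw [MonoidHom.mem_ker, powMonoidHom_apply]
            show ((a : A) ^ ℓ) ^ m = 1
            rw [← pow_mul]
            exact a.2
        have hk : Nat.card φ.ker ≤ ℓ := le_trans
          (Nat.card_le_card_of_injective
            (fun a : φ.ker => (⟨((a : _) : A), congrArg Subtype.val a.2⟩ :
              (powMonoidHom ℓ : A →* A).ker))
            fun a b e => (Subtype.val_injective.comp Subtype.val_injective)
              (congrArg (fun x : (powMonoidHom ℓ : A →* A).ker => (x : A)) e))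
          (h ℓ hℓ)
        rw [← φ.ker.card_mul_index, Subgroup.index_ker]
        exact Nat.mul_le_mul hk (le_trans (Subgroup.card_le_card_group _)
          (ih m (lt_mul_of_one_lt_left hm hℓ.one_lt) hm))
  refine isCyclic_of_card_pow_eq_one_le fun n hn => le_of_eq_of_le ?_ (key n hn)
  rw [← Nat.card_eq_finsetCard]
  exact Nat.card_congr (Equiv.subtypeEquivRight fun a => by simp)

namespace Tab.Good

variable {D : ChevalleyDatum} {T : Tab D} (G : T.Good)
include G

section Regular

variable {M : List (List ℤ)} (hM : T.chkSC M = true) {r d : ℕ} [Fact r.Prime]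
  (hrW : ¬ r ∣ Nat.card (G.full.WJ (List.range D.rank))) (hd : d.totient = D.rank) (hd0 : 0 < d)
  {L0 : List (Fin D.rank)} {ζ : ZMod r} (hζ : orderOf ζ = d) {v : Fin D.rank → ZMod r}
  (hv : v ≠ 0) (hev : (T.vM L0).map (Int.castRingHom (ZMod r)) *ᵥ v = ζ • v)

include hM hrW hd hd0 hζ hv hev in
theorem charpoly_vM : (T.vM L0).charpoly = cyclotomic d ℤ :=
  charpoly_eq_cyclotomic Nat.card_pos hrW _ (G.vM_pow_card hM L0) hd0 hd hζ hv hev

include hM hrW hd hd0 hζ hv hev in
theorem no_root (s : Fin D.nroots) :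
    (fun k => ((T.wrow s.val k : ℤ) : ZMod r)) ⬝ᵥ v ≠ 0 := by
  intro h0
  obtain ⟨P, j, hP⟩ := G.exists_word_simple s.isLt
  have hPP : T.vM P * T.vM P.reverse = 1 := by
    rw [← T.vM_append]
    refine G.vM_eq_one hM ?_
    clear hP
    induction P with
    | nil => simp [Full.pw]
    | cons i P ih =>
      have h2 : G.full.refl i * G.full.refl i = 1 :=
        Equiv.ext fun s => Fin.ext (G.full.reflT_spec i.isLt s.isLt).2.1
      rw [List.reverse_cons, List.cons_append, ← List.append_assoc, G.pw_cons, G.pw_append, ih,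
        one_mul, show G.full.pw [i] = G.full.refl i by simp [Full.pw], h2]
  set c := Int.castRingHom (ZMod r)
  have hrow : T.wrow s.val ᵥ* T.vM P = T.wrow (D.simple j) := by
    have := G.wrow_pw P (G.full.simp' j)
    rwa [hP] at this
  set v' := (T.vM P.reverse).map c *ᵥ v
  have hPv : (T.vM P).map c *ᵥ v' = v := by
    rw [mulVec_mulVec, ← Matrix.map_mul, hPP, Matrix.map_one c c.map_zero c.map_one, one_mulVec]
  have hj0 : (fun k => c (T.wrow (D.simple j) k)) ⬝ᵥ v' = 0 := by
    rw [← hrow]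
    have e : (fun k => c ((T.wrow s.val ᵥ* T.vM P) k)) =
        (fun k => c (T.wrow s.val k)) ᵥ* (T.vM P).map c := by
      funext k
      exact RingHom.map_vecMul c _ _ k
    rw [e, ← dotProduct_mulVec, hPv]
    exact h0
  have hSv : (T.sM j).map c *ᵥ v' = v' := by
    funext a
    simp only [mulVec, dotProduct, Matrix.map_apply, sM_apply, map_sub, sub_mul,
      Finset.sum_sub_distrib]
    have h1 : ∀ k, c ((1 : Matrix (Fin D.rank) (Fin D.rank) ℤ) a k) * v' k =
        if k = a then v' k else 0 := fun k => by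
      rw [Matrix.one_apply]
      by_cases h : a = k
      · simp [h]
      · simp [h, Ne.symm h]
    simp only [h1, Finset.sum_ite_eq', Finset.mem_univ, if_true]
    by_cases ha : a = j
    · simp only [ha, if_true]
      rw [show (∑ x : Fin D.rank, c (T.cart x (D.simple j)) * v' x) = 0 from hj0, sub_zero]
    · simp [ha]
  set R := P ++ [j] ++ P.reverse
  have hR : (T.vM R).map c *ᵥ v = v := by
    rw [T.vM_append, T.vM_append, show T.vM [j] = T.sM j by simp [vM], Matrix.map_mul,
      Matrix.map_mul, ← mulVec_mulVec, ← mulVec_mulVec, hSv, hPv]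
  have hev' : (T.vM (R ++ L0)).map c *ᵥ v = ζ • v := by
    rw [T.vM_append, Matrix.map_mul, ← mulVec_mulVec, hev, mulVec_smul, hR]
  have hc := G.charpoly_vM hM hrW hd hd0 hζ hv hev'
  have hc0 := G.charpoly_vM hM hrW hd hd0 hζ hv hev
  have hdet : (T.vM (R ++ L0)).det = (T.vM L0).det := by
    rw [det_eq_sign_charpoly_coeff, det_eq_sign_charpoly_coeff (T.vM L0), hc, hc0]
  have hne : (T.vM L0).det ≠ 0 := by
    intro h
    have := congrArg Matrix.det (G.vM_pow_card hM L0)
    rw [det_pow, h, det_one, zero_pow Nat.card_pos.ne'] at this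
    exact zero_ne_one this
  have e1 : (T.vM R).det = -1 := by
    have := congrArg Matrix.det hPP
    rw [det_mul, det_one] at this
    rw [T.vM_append, T.vM_append, det_mul, det_mul, show T.vM [j] = T.sM j by simp [vM], G.det_sM]
    linear_combination -this
  rw [T.vM_append, det_mul, e1] at hdet
  omega

include hM hrW hd hd0 hζ hv hev in
theorem stab_trivial (L : List (Fin D.rank))
    (hL : (T.vM L).map (Int.castRingHom (ZMod r)) *ᵥ v = v) : G.full.pw L = 1 := by
  classical
  set c := Int.castRingHom (ZMod r)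
  set k := Nat.card (G.full.WJ (List.range D.rank))
  let w : Fin D.rank → ℤ := fun i => ((v i).val : ℤ)
  have hw : c ∘ w = v := funext fun i => by simp [w, c]
  set S := ∑ i ∈ Finset.range k, T.vM L ^ i
  have hXS : T.vM L * S = S := by
    have := mul_geom_sum (T.vM L) k
    rw [G.vM_pow_card hM L, sub_self, sub_mul, one_mul, sub_eq_zero] at this
    exact this
  refine G.pw_eq_one_of_fixed L (S *ᵥ w) (fun s h0 => ?_) (by rw [mulVec_mulVec, hXS])
  have hcast : c ∘ (S *ᵥ w) = (k : ZMod r) • v := by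
    funext i
    rw [Function.comp_apply, RingHom.map_mulVec, hw]
    have hS : S.map c = ∑ i ∈ Finset.range k, (T.vM L).map c ^ i := by
      show c.mapMatrix S = _
      simp only [S, map_sum, map_pow]
      rfl
    have hp : ∀ i : ℕ, (T.vM L).map c ^ i *ᵥ v = v := fun i => by
      induction i with
      | zero => simp
      | succ i ih => rw [pow_succ, ← mulVec_mulVec, hL, ih]
    rw [hS, Matrix.sum_mulVec]
    simp [hp]
  refine G.no_root hM hrW hd hd0 hζ hv hev s ?_
  have h1 := congrArg c h0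
  rw [RingHom.map_dotProduct, hcast, map_zero, dotProduct_smul, smul_eq_mul] at h1
  exact (mul_eq_zero.mp h1).resolve_left fun h => hrW ((CharP.cast_eq_zero_iff (ZMod r) r _).mp h)

end Regular

section Group

variable {F K : Type*} [Field F] [Fintype F] [Field K] [Fintype K] {g : Kˣ}

/-- The powers of a generator. -/
def expo (g : Kˣ) (v : Fin D.rank → ℤ) : Fin D.rank → Kˣ := fun k => g ^ v k

omit G [Fintype K] in
theorem expo_add (v w : Fin D.rank → ℤ) : expo g (v + w) = expo g v * expo g w :=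
  funext fun k => _root_.zpow_add g (v k) (w k)

omit G [Fintype K] in
theorem expo_eq_iff (v w : Fin D.rank → ℤ) :
    expo g v = expo g w ↔ ∀ k, (orderOf g : ℤ) ∣ v k - w k := by
  simp only [funext_iff, expo]
  exact forall_congr' fun k => by
    rw [orderOf_dvd_iff_zpow_eq_one, _root_.zpow_sub, mul_inv_eq_one]

omit G [Fintype K] in
theorem chi_expo (s : ℕ) (v : Fin D.rank → ℤ) :
    T.chi (F := K) s (expo g v) = g ^ (T.wrow s ⬝ᵥ v) := by
  show ∏ i, expo g v i ^ T.cart i s = _
  rw [dotProduct, zpow_sum_eq_prod]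
  exact Finset.prod_congr rfl fun i _ => by rw [expo, wrow, ← _root_.zpow_mul, mul_comm]

omit [Fintype K] in
theorem nw_expo : ∀ (L : List (Fin D.rank)) (v : Fin D.rank → ℤ),
    G.full.nw K L * T.hT K (expo g v) = T.hT K (expo g (T.vM L *ᵥ v)) * G.full.nw K L := by
  intro L
  induction L with
  | nil => intro v; simp [Full.nw, vM]
  | cons i L ih =>
    intro v
    have hcons : G.full.nw K (i :: L) = G.full.ns K i * G.full.nw K L := by simp [Full.nw]
    rw [hcons, mul_assoc, ih, ← mul_assoc, G.ns_hT_eq, ← mul_assoc,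
      show T.vM (i :: L) = T.sM i * T.vM L from rfl, ← mulVec_mulVec]
    congr 3
    funext a
    rw [Pi.mul_apply, chi_expo]
    set w := T.vM L *ᵥ v
    have e : (T.sM i *ᵥ w) a = w a - if a = i then T.wrow (D.simple i) ⬝ᵥ w else 0 := by
      simp only [mulVec, dotProduct, sM_apply, sub_mul, Finset.sum_sub_distrib, Matrix.one_apply,
        ite_mul, one_mul, zero_mul, Finset.sum_ite_eq, Finset.mem_univ, if_true]
      by_cases ha : a = i <;> simp [ha, wrow]
    show g ^ w a * _ = g ^ ((T.sM i *ᵥ w) a)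
    rw [e]
    by_cases ha : a = i
    · subst ha
      simp [expo, _root_.zpow_sub]
    · simp [expo, ha, Pi.mulSingle_eq_of_ne ha]

theorem torus_not_dvd (r : ℕ) [Fact r.Prime] (hQ : (Fintype.card K : ZMod r) = 1)
    (hrW : ¬ r ∣ Nat.card (G.full.WJ (List.range D.rank))) :
    ¬ r ∣ ((D.diagonalSubgroup K).subgroupOf (D.group K)).index := by
  classical
  have hdiag : Nat.card ((D.diagonalSubgroup K).subgroupOf (D.group K)) =
      Nat.card (D.diagonalSubgroup K) :=
    Nat.card_congr (Subgroup.subgroupOfEquivOfLe G.diagonal_le_group).toEquiv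
  have h := ((D.diagonalSubgroup K).subgroupOf (D.group K)).card_mul_index
  rw [hdiag, G.card_group, G.card_borel, G.posUnipotent_eq, G.card_US G.closed_pos, G.card_pos,
    Nat.card_eq_fintype_card (α := K), mul_comm (Fintype.card K ^ _), mul_assoc] at h
  rw [Nat.eq_of_mul_eq_mul_left Nat.card_pos h, ← CharP.cast_eq_zero_iff (ZMod r) r, Nat.cast_mul,
    Nat.cast_pow, hQ, one_pow, one_mul, Full.poly, Nat.cast_sum]
  simp only [Nat.cast_pow, hQ, one_pow, Finset.sum_const, nsmul_eq_mul, mul_one]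
  rw [CharP.cast_eq_zero_iff (ZMod r) r, ← Fintype.card_subtype, ← Nat.card_eq_fintype_card]
  exact hrW

theorem conj_torus (r : ℕ) [Fact r.Prime] (hQ : (Fintype.card K : ZMod r) = 1)
    (hrW : ¬ r ∣ Nat.card (G.full.WJ (List.range D.rank))) {x : GL D.Idx K} (hx : x ∈ D.group K)
    (hxr : orderOf x = r) :
    ∃ h ∈ D.group K, ∃ c, x = h * T.hT K c * h⁻¹ := by
  classical
  set Tsub := (D.diagonalSubgroup K).subgroupOf (D.group K) with hTsub
  have hidx := G.torus_not_dvd r hQ hrW
  obtain ⟨P0⟩ : Nonempty (Sylow r Tsub) := inferInstance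
  have hP : Nat.card (P0.1.map Tsub.subtype) = r ^ (Nat.card (D.group K)).factorization r := by
    rw [Subgroup.card_map_of_injective Tsub.subtype_injective, P0.card_eq_multiplicity,
      ← Tsub.card_mul_index, Nat.factorization_mul Nat.card_pos.ne' Subgroup.index_ne_zero_of_finite,
      Finsupp.add_apply, Nat.factorization_eq_zero_of_not_dvd hidx, add_zero]
  let P : Sylow r (D.group K) := Sylow.ofCard _ hP
  let xg : D.group K := ⟨x, hx⟩
  have hxg : orderOf xg = r := by rw [← hxr, ← Subgroup.orderOf_coe]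
  have hpg : IsPGroup r (Subgroup.zpowers xg) := IsPGroup.of_card (n := 1) (by
    rw [Nat.card_zpowers, hxg, pow_one])
  obtain ⟨Q, hQle⟩ := hpg.exists_le_sylow
  obtain ⟨a, ha⟩ := MulAction.exists_smul_eq (D.group K) P Q
  have hxQ : xg ∈ ((a • P : Sylow r (D.group K)) : Subgroup (D.group K)) := by
    rw [ha]; exact hQle (Subgroup.mem_zpowers _)
  rw [Sylow.coe_subgroup_smul, Subgroup.mem_smul_pointwise_iff_exists] at hxQ
  obtain ⟨y, hy, hxy⟩ := hxQ
  obtain ⟨z, -, rfl⟩ : ∃ z ∈ P0.1, Tsub.subtype z = y := hy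
  have hz : ((z : D.group K) : GL D.Idx K) ∈ D.diagonalSubgroup K := z.2
  rw [G.full.diagonal_eq_range] at hz
  obtain ⟨c, hc⟩ := hz
  refine ⟨a, a.2, c, ?_⟩
  have := congrArg Subtype.val hxy
  rw [MulAut.smul_def, MulAut.conj_apply] at this
  exact (by rw [hc]; exact this.symm)

omit [Fintype K] in
/-- An element of the group carrying a torus element to a torus element, in normal form. -/
theorem fusion {c c' : Fin D.rank → Kˣ} {y : GL D.Idx K} (hy : y ∈ D.group K)
    (h : y * T.hT K c' = T.hT K c * y) :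
    ∃ v ∈ D.posUnipotent K, ∃ a L, ∃ u ∈ D.posUnipotent K,
      y = v * T.hT K a * G.full.nw K L * u ∧ Commute (T.hT K c) v ∧ Commute (T.hT K c') u ∧
      G.full.nw K L * T.hT K c' = T.hT K c * G.full.nw K L := by
  obtain ⟨v, hv, a, L, u, hu, rfl⟩ := G.normal_form hy
  obtain ⟨e, he⟩ := G.nw_hT (F := K) L c'
  have hd : ∀ b, T.hT K b ∈ D.diagonalSubgroup K := fun b => by
    rw [G.full.diagonal_eq_range]; exact ⟨b, rfl⟩
  have hup : u ∈ D.posUnipotent K := by
    rw [G.posUnipotent_eq]; exact G.US_mono (fun s hs => by obtain ⟨-, h, -⟩ := hs; exact h) hu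
  set v1 := T.hT K c * v * (T.hT K c)⁻¹
  set u1 := (T.hT K c')⁻¹ * u * T.hT K c'
  have hv1 : v1 ∈ D.posUnipotent K := by
    rw [G.posUnipotent_eq] at hv ⊢
    exact G.hT_conj_US _ (fun s hs => hs.1) c hv
  have hu1 : u1 ∈ G.US K (flipSet (G.full.pw L)) := by
    have := G.hT_conj_US _ (fun s hs => by obtain ⟨h, -⟩ := hs; exact h) c'⁻¹ hu
    simpa [map_inv] using this
  have e1 : v1 * T.hT K (c * a) * G.full.nw K L * u =
      v * T.hT K (a * e) * G.full.nw K L * u1 := by
    calc v1 * T.hT K (c * a) * G.full.nw K L * u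
        = T.hT K c * (v * T.hT K a * G.full.nw K L * u) := by
          simp only [v1, map_mul]; group
      _ = v * T.hT K a * G.full.nw K L * u * T.hT K c' := h.symm
      _ = v * T.hT K a * (G.full.nw K L * T.hT K c') * u1 := by simp only [u1]; group
      _ = _ := by rw [he, map_mul]; group
  obtain ⟨hb, hu'⟩ := (G.canonical_unique
    (mul_mem (Subgroup.mem_sup_left hv1) (Subgroup.mem_sup_right (hd (c * a))))
    (mul_mem (Subgroup.mem_sup_left hv) (Subgroup.mem_sup_right (hd (a * e))))
    (G.nw_mem_monomial L) (G.nw_mem_monomial L) (G.rootAct_nw L) (G.rootAct_nw L) hu hu1 e1).2 rfl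
  have hm : v⁻¹ * v1 ∈ D.posUnipotent K ⊓ D.diagonalSubgroup K := by
    refine Subgroup.mem_inf.mpr ⟨mul_mem (inv_mem hv) hv1, ?_⟩
    have e' : v⁻¹ * v1 = T.hT K (a * e) * (T.hT K (c * a))⁻¹ := by
      rw [eq_mul_inv_iff_mul_eq, mul_assoc, hb, inv_mul_cancel_left]
    rw [e']
    exact mul_mem (hd _) (inv_mem (hd _))
  rw [G.pos_inf_diagonal, Subgroup.mem_bot, inv_mul_eq_one] at hm
  refine ⟨v, hv, a, L, u, hup, rfl, ?_, ?_, ?_⟩
  · exact mul_inv_eq_iff_eq_mul.mp hm.symm
  · exact (eq_inv_mul_iff_mul_eq.mp (by rw [← mul_assoc]; exact hu') : T.hT K c' * u = u * T.hT K c')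
  · rw [← hm, mul_right_inj, map_mul, map_mul, ← map_mul, ← map_mul] at hb
    have hec : T.hT K e = T.hT K c := by
      have : T.hT K a * T.hT K e = T.hT K a * T.hT K c := by
        rw [← map_mul, ← map_mul, ← hb, mul_comm]
      exact mul_left_cancel this
    rw [he, hec]

theorem torus_of_elem {M : List (List ℤ)} (hM : T.chkSC M = true) (f : F →+* K) {d r : ℕ}
    [Fact r.Prime] (hd0 : 0 < d) (hd : d.totient = D.rank)
    (hK : Fintype.card K = Fintype.card F ^ d)
    (hζ : orderOf (Fintype.card F : ZMod r) = d)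
    (hrW : ¬ r ∣ Nat.card (G.full.WJ (List.range D.rank)))
    (hsq : ∀ ℓ : ℕ, ℓ.Prime → ℓ ∣ d →
      ¬ ℓ ^ 2 ∣ ((cyclotomic d ℤ).eval (Fintype.card F : ℤ)).natAbs)
    (x : ↥(D.group F)) (hx : orderOf x = r) :
    (IsCyclic ↥(Subgroup.centralizer ({x} : Set ↥(D.group F))) ∧
      Nat.card ↥(Subgroup.centralizer ({x} : Set ↥(D.group F))) =
        ((cyclotomic d ℤ).eval (Fintype.card F : ℤ)).natAbs) ∧
      ∀ (y : ↥(D.group F)) (k : ℕ), y * x * y⁻¹ = x ^ k →
        (k : ZMod r) ^ Nat.card (G.full.WJ (List.range D.rank)) = 1 := by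
  classical
  set q := Fintype.card F with hq
  -- the Frobenius map of `K` over `F`
  letI := f.toAlgebra
  let σ : K →+* K := (FiniteField.frobeniusAlgHom F K).toRingHom
  have hσ : ∀ a : K, σ a = a ^ q := fun a => FiniteField.frobeniusAlgHom_apply F K a
  have hσf : ∀ a, σ (f a) = f a := fun a => by rw [hσ, ← map_pow, FiniteField.pow_card]
  have hfix : ∀ t, σ t = t → ∃ e, f e = t := by
    intro t ht
    rw [hσ] at ht
    have hq1 : 1 < q := Fintype.one_lt_card
    have hne : ((Polynomial.X : K[X]) ^ q - Polynomial.X) ≠ 0 := FiniteField.X_pow_card_sub_X_ne_zero K hq1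
    have hsub : Finset.univ.image f ⊆ ((Polynomial.X : K[X]) ^ q - Polynomial.X).roots.toFinset := by
      intro b hb
      obtain ⟨a, -, rfl⟩ := Finset.mem_image.mp hb
      rw [Multiset.mem_toFinset, mem_roots hne]
      simp [← map_pow, hq, FiniteField.pow_card]
    have hcard : ((Polynomial.X : K[X]) ^ q - Polynomial.X).roots.toFinset.card ≤ (Finset.univ.image f).card := by
      rw [Finset.card_image_of_injective _ f.injective, Finset.card_univ]
      refine le_trans (Multiset.toFinset_card_le _) (le_trans (card_roots' _) (le_of_eq ?_))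
      exact FiniteField.X_pow_card_sub_X_natDegree_eq K hq1
    have hmem : t ∈ ((Polynomial.X : K[X]) ^ q - Polynomial.X).roots.toFinset := by
      rw [Multiset.mem_toFinset, mem_roots hne]
      simp [ht]
    rw [← Finset.eq_of_subset_of_card_le hsub hcard] at hmem
    obtain ⟨a, -, e⟩ := Finset.mem_image.mp hmem
    exact ⟨a, e⟩
  obtain ⟨g, hg⟩ := IsCyclic.exists_generator (α := Kˣ)
  set N := orderOf g with hN
  have hNK : (N : ℤ) = (q : ℤ) ^ d - 1 := by
    rw [hN, orderOf_eq_card_of_forall_mem_zpowers hg, Nat.card_eq_fintype_card,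
      Fintype.card_units, hK, Nat.cast_sub (Nat.one_le_pow _ _ Fintype.card_pos)]
    push_cast
    rfl
  have hN0 : (N : ℤ) ≠ 0 := Nat.cast_ne_zero.mpr (orderOf_pos g).ne'
  have hsurj : ∀ c : Fin D.rank → Kˣ, ∃ v, expo g v = c := fun c => by
    choose v hv using fun k => Subgroup.mem_zpowers_iff.mp (hg (c k))
    exact ⟨v, funext hv⟩
  have hinj : Function.Injective (T.hT K) := (injective_iff_map_eq_one _).mpr fun a ha =>
    G.sc_hT_inj hM ha
  have hq1' : (q : ZMod r) ^ d = 1 := hζ ▸ pow_orderOf_eq_one _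
  have hQ : (Fintype.card K : ZMod r) = 1 := by rw [hK, Nat.cast_pow, hq1']
  -- the place of `x` in the torus over `K`
  let φ : ↥(D.group F) →* GL D.Idx K := (glMap D f).comp (D.group F).subtype
  have hφinj : Function.Injective φ :=
    (glMap_injective f).comp (Subgroup.subtype_injective _)
  have hφgrp : ∀ y, φ y ∈ D.group K := fun y => G.glMap_group f y.2
  have hφσ : ∀ y, glMap D σ (φ y) = φ y := fun y => by
    show glMap D σ (glMap D f (y : GL D.Idx F)) = glMap D f y
    rw [glMap_comp, show σ.comp f = f from RingHom.ext hσf]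
  have hxr : orderOf (φ x) = r := by rw [orderOf_injective φ hφinj, hx]
  obtain ⟨h, hh, c, hc⟩ := G.conj_torus r hQ hrW (hφgrp x) hxr
  obtain ⟨v, rfl⟩ := hsurj c
  set t := T.hT K (expo g v)
  set y := h⁻¹ * glMap D σ h
  have hy : y ∈ D.group K := mul_mem (inv_mem hh) (G.glMap_group σ hh)
  have hσT : ∀ w, glMap D σ (T.hT K (expo g w)) = T.hT K (expo g ((q : ℤ) • w)) := fun w => by
    rw [G.glMap_hT]
    refine congrArg (T.hT K) (funext fun k => Units.ext ?_)
    show σ ((g ^ w k : Kˣ) : K) = ((g ^ ((q : ℤ) • w) k : Kˣ) : K)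
    rw [hσ, ← Units.val_pow_eq_pow_val, Pi.smul_apply, smul_eq_mul, mul_comm (q : ℤ),
      _root_.zpow_mul, _root_.zpow_natCast]
  have hyt : y * T.hT K (expo g ((q : ℤ) • v)) = t * y := by
    have e := hφσ x
    rw [hc, map_mul, map_mul, map_inv, hσT] at e
    calc y * T.hT K (expo g ((q : ℤ) • v))
        = h⁻¹ * (glMap D σ h * T.hT K (expo g ((q : ℤ) • v)) * (glMap D σ h)⁻¹) *
            glMap D σ h := by simp only [y]; group
      _ = t * y := by rw [e]; simp only [y, t]; group
  obtain ⟨v0, hv0, a, L, u0, hu0, hyeq, hcv, hcu, hnw⟩ := G.fusion hy hyt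
  rw [G.nw_expo] at hnw
  have hLv := (expo_eq_iff _ _).mp (hinj (mul_right_cancel hnw))
  -- reduction modulo `r`
  have htr : t ^ r = 1 := by
    have : φ x ^ r = 1 := by rw [← hxr, pow_orderOf_eq_one]
    rwa [hc, conj_pow, conj_eq_one_iff] at this
  have ht1 : t ≠ 1 := fun e => (Fact.out : r.Prime).one_lt.ne' (by
    rw [← hxr, hc, e, mul_one, mul_inv_cancel, orderOf_one])
  have hrN : (r : ℤ) ∣ N := by
    rw [← ZMod.intCast_zmod_eq_zero_iff_dvd, hNK]
    push_cast
    rw [hq1', sub_self]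
  obtain ⟨m, hm⟩ := hrN
  have hr0 : (r : ℤ) ≠ 0 := Nat.cast_ne_zero.mpr (Fact.out : r.Prime).ne_zero
  have hm0 : m ≠ 0 := fun e => hN0 (by rw [hm, e, mul_zero])
  have hv' : ∀ k, m ∣ v k := fun k => by
    have h1 : expo g ((r : ℤ) • v) = expo g 0 := hinj (by
      have e1 : expo g ((r : ℤ) • v) = expo g v ^ r := funext fun j => by
        rw [Pi.pow_apply, expo, expo, Pi.smul_apply, smul_eq_mul, mul_comm, _root_.zpow_mul,
          _root_.zpow_natCast]
      rw [e1, map_pow, show expo g (0 : Fin D.rank → ℤ) = 1 from funext fun j => _root_.zpow_zero g,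
        map_one]
      exact htr)
    have h2 := (expo_eq_iff _ _).mp h1 k
    simp only [Pi.smul_apply, smul_eq_mul, Pi.zero_apply, sub_zero, ← hN, hm] at h2
    exact (mul_dvd_mul_iff_left hr0).mp h2
  choose u hu using hv'
  have hvu : v = m • u := funext fun k => hu k
  set cr := Int.castRingHom (ZMod r)
  have hmod : ∀ z z' : Fin D.rank → ℤ, (∀ k, (N : ℤ) ∣ (m • z) k - (m • z') k) →
      cr ∘ z = cr ∘ z' := fun z z' hz => funext fun k => by
    have h2 := hz k
    simp only [Pi.smul_apply, smul_eq_mul, ← mul_sub, hm, mul_comm (r : ℤ) m] at h2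
    show (z k : ZMod r) = (z' k : ZMod r)
    exact (ZMod.intCast_eq_intCast_iff_dvd_sub _ _ _).mpr
      (dvd_sub_comm.mp ((mul_dvd_mul_iff_left hm0).mp h2))
  have hub : cr ∘ u ≠ 0 := by
    intro e
    refine ht1 ?_
    have : expo g v = expo g 0 := (expo_eq_iff _ _).mpr fun k => by
      rw [Pi.zero_apply, sub_zero, ← hN, hm, hu k, mul_comm (r : ℤ)]
      exact mul_dvd_mul_left m ((ZMod.intCast_zmod_eq_zero_iff_dvd _ _).mp (congrFun e k))
    show T.hT K (expo g v) = 1
    rw [this, show expo g (0 : Fin D.rank → ℤ) = 1 from funext fun j => _root_.zpow_zero g,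
      map_one]
  -- the twisting element of the Weyl group
  set U := T.vM L.reverse
  have hUL : U * T.vM L = 1 := by
    rw [← T.vM_append]
    refine G.vM_eq_one hM ?_
    clear hyeq hnw hLv
    induction L with
    | nil => simp [Full.pw]
    | cons i L ih =>
      have h2 : G.full.refl i * G.full.refl i = 1 :=
        Equiv.ext fun s => Fin.ext (G.full.reflT_spec i.isLt s.isLt).2.1
      rw [List.reverse_cons, List.append_assoc, G.pw_append, List.singleton_append, G.pw_cons,
        G.pw_cons, ← mul_assoc (G.full.refl i), h2, one_mul, ← G.pw_append, ih]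
  have hev : U.map cr *ᵥ (cr ∘ u) = (q : ZMod r) • (cr ∘ u) := by
    have e0 : cr ∘ (T.vM L *ᵥ ((q : ℤ) • u)) = cr ∘ u := hmod _ _ fun k => by
      rw [← mulVec_smul, smul_comm, ← hvu]
      exact hLv k
    have e1 : cr ∘ (U *ᵥ (T.vM L *ᵥ ((q : ℤ) • u))) = U.map cr *ᵥ (cr ∘ u) := by
      rw [← e0]; funext k; exact RingHom.map_mulVec cr _ _ k
    rw [← e1, mulVec_mulVec, hUL, one_mulVec]
    funext k
    simp [cr]
  have hcp := G.charpoly_vM hM hrW hd hd0 hζ hub hev
  -- regularity
  have hstab : ∀ L', cr ∘ (T.vM L' *ᵥ u) = cr ∘ u → G.full.pw L' = 1 := fun L' e =>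
    G.stab_trivial hM hrW hd hd0 hζ hub hev L' ((funext fun k => (RingHom.map_mulVec cr (T.vM L') u k).symm).trans e)
  have hroot : ∀ s : Fin D.nroots, T.chi (F := K) s.val (expo g v) ≠ 1 := fun s e => by
    rw [chi_expo, ← orderOf_dvd_iff_zpow_eq_one, ← hN, hm, hvu, dotProduct_smul, smul_eq_mul,
      mul_comm (r : ℤ)] at e
    refine G.no_root hM hrW hd hd0 hζ hub hev s ?_
    have h2 := (ZMod.intCast_zmod_eq_zero_iff_dvd _ _).mpr ((mul_dvd_mul_iff_left hm0).mp e)
    rw [← h2]
    exact (RingHom.map_dotProduct cr _ _).symm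
  have hcent : D.group K ⊓ Subgroup.centralizer {t} = D.diagonalSubgroup K := by
    refine (Subgroup.eq_of_le_of_card_ge ?_ ?_).symm
    · refine le_inf G.diagonal_le_group fun b hb => ?_
      refine Subgroup.mem_centralizer_iff.mpr fun z hz => ?_
      rw [Set.mem_singleton_iff.mp hz]
      exact G.full.diagonal_isMulCommutative t b (by rw [G.full.diagonal_eq_range]; exact ⟨_, rfl⟩) hb
    · have hP : {s | IsPos D s ∧ T.chi (F := K) s (expo g v) = 1} = (∅ : Set ℕ) := by
        ext s
        simp only [Set.mem_setOf_eq, Set.mem_empty_iff_false, iff_false, not_and]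
        exact fun hs => hroot ⟨s, hs.1⟩
      have hW : G.full.cpoly (List.range D.rank) (expo g v) (expo g v) (Fintype.card K) = 1 := by
        have hset : Finset.univ.filter (fun π => π ∈ G.full.WJ (List.range D.rank) ∧
            ∀ s : Fin D.nroots, T.chi (F := K) (π s).val (expo g v) = T.chi s.val (expo g v)) =
            {1} := by
          ext π
          simp only [Finset.mem_filter, Finset.mem_univ, true_and, Finset.mem_singleton]
          constructor
          · rintro ⟨hπ, hs⟩
            obtain ⟨L', -, rfl⟩ := G.exists_word_WJ hπ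
            refine hstab L' (hmod _ _ ?_)
            rw [← mulVec_smul, ← hvu]
            refine (expo_eq_iff _ _).mp (mul_inv_eq_one.mp (G.sc_hT_inj hM
              ((G.full.hT_eq_one_iff _).mpr fun j hj => ?_)))
            rw [map_mul, map_inv, mul_inv_eq_one]
            have e1 := hs ((G.full.pw L').symm ⟨D.simple j, G.full.simple_lt hj⟩)
            rw [Equiv.apply_symm_apply] at e1
            rw [e1, chi_expo, chi_expo, dotProduct_mulVec]
            have e2 := G.wrow_pw L' ((G.full.pw L').symm ⟨D.simple j, G.full.simple_lt hj⟩)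
            rw [Equiv.apply_symm_apply] at e2
            rw [e2]
          · rintro rfl
            exact ⟨one_mem _, fun s => rfl⟩
        rw [Full.cpoly, hset, Finset.sum_singleton]
        have : invSet (1 : Equiv.Perm (Fin D.nroots)) = ∅ := by ext s; simp [mem_inv]
        rw [this]; simp
      rw [G.card_cent hM, hP, hW, mul_one, Nat.card_coe_set_eq, Set.ncard_empty, pow_zero, one_mul,
        G.full.diagonal_eq_range, Nat.card_congr (MonoidHom.ofInjective hinj).toEquiv.symm,
        Nat.card_pi, Finset.prod_const, Finset.card_univ, Fintype.card_fin,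
        Nat.card_eq_fintype_card, Fintype.card_units]
  have hcentral : ∀ b ∈ D.group K, Commute t b → b ∈ D.diagonalSubgroup K := fun b hb hbt => by
    rw [← hcent]
    exact Subgroup.mem_inf.mpr ⟨hb, Subgroup.mem_centralizer_iff.mpr fun z hz => by
      rw [Set.mem_singleton_iff.mp hz]; exact hbt.eq⟩
  have hpd : ∀ b ∈ D.posUnipotent K, b ∈ D.diagonalSubgroup K → b = 1 := fun b h1 h2 => by
    have : b ∈ D.posUnipotent K ⊓ D.diagonalSubgroup K := ⟨h1, h2⟩
    rwa [G.pos_inf_diagonal, Subgroup.mem_bot] at this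
  have hposG : D.posUnipotent K ≤ D.group K :=
    le_trans (pos_le_borel G) G.borel_le_group
  have hv01 : v0 = 1 := hpd _ hv0 (hcentral _ (hposG hv0) hcv)
  have hu01 : u0 = 1 := by
    refine hpd _ hu0 (hcentral _ (hposG hu0) ?_)
    -- `t` is a power of `t ^ q`
    have hco : Nat.Coprime q r := Nat.Coprime.symm ((Fact.out : r.Prime).coprime_iff_not_dvd.mpr
      fun hdv => by
        rw [(CharP.cast_eq_zero_iff (ZMod r) r _).mpr hdv, zero_pow hd0.ne'] at hq1'
        exact zero_ne_one hq1')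
    obtain ⟨k, -, hk⟩ := Nat.exists_mul_mod_eq_one_of_coprime hco (Fact.out : r.Prime).one_lt
    have e : T.hT K (expo g ((q : ℤ) • v)) = t ^ q := by
      rw [← map_pow]
      refine congrArg (T.hT K) (funext fun j => ?_)
      rw [Pi.pow_apply, expo, expo, Pi.smul_apply, smul_eq_mul, mul_comm, _root_.zpow_mul,
        _root_.zpow_natCast]
    rw [e] at hcu
    have := hcu.pow_left k
    rwa [← pow_mul, pow_eq_pow_mod _ htr, hk, pow_one] at this
  have hyeq' : y = T.hT K a * G.full.nw K L := by rw [hyeq, hv01, hu01, one_mul, mul_one]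
  -- the fixed points of the twisted torus
  let ψ : Multiplicative (Fin D.rank → ℤ) →* GL D.Idx K :=
    ((MulAut.conj h).toMonoidHom.comp (T.hT K)).comp
      (MonoidHom.mk' (fun z => expo g z.toAdd) fun z w => expo_add _ _)
  have hψ : ∀ z, ψ (Multiplicative.ofAdd z) = h * T.hT K (expo g z) * h⁻¹ := fun z => rfl
  set Mq : Matrix (Fin D.rank) (Fin D.rank) ℤ := (q : ℤ) • 1 - U with hMq
  have hfixed : ∀ z, glMap D σ (ψ (Multiplicative.ofAdd z)) = ψ (Multiplicative.ofAdd z) ↔
      ∀ k, (N : ℤ) ∣ (Mq *ᵥ z) k := by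
    intro z
    rw [hψ, map_mul, map_mul, map_inv, hσT, show glMap D σ h = h * y by simp [y]]
    have hconj : y * T.hT K (expo g ((q : ℤ) • z)) * y⁻¹ =
        T.hT K (expo g (T.vM L *ᵥ ((q : ℤ) • z))) := by
      rw [hyeq', mul_assoc (T.hT K a), G.nw_expo, ← mul_assoc, ← map_mul, mul_comm a, map_mul]
      group
    rw [show h * y * T.hT K (expo g ((q : ℤ) • z)) * (h * y)⁻¹ =
      h * (y * T.hT K (expo g ((q : ℤ) • z)) * y⁻¹) * h⁻¹ by group, hconj, mul_left_inj,
      mul_right_inj, hinj.eq_iff, expo_eq_iff]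
    have key : U *ᵥ (T.vM L *ᵥ ((q : ℤ) • z) - z) = Mq *ᵥ z := by
      rw [mulVec_sub, mulVec_mulVec, hUL, one_mulVec, hMq, sub_mulVec, smul_mulVec, one_mulVec]
    have key2 : T.vM L *ᵥ (Mq *ᵥ z) = T.vM L *ᵥ ((q : ℤ) • z) - z := by
      rw [← key, mulVec_mulVec, mul_eq_one_comm.mp hUL, one_mulVec]
    constructor
    · intro hz k
      rw [← key]
      show _ ∣ ∑ j, U k j * (T.vM L *ᵥ ((q : ℤ) • z) - z) j
      exact Finset.dvd_sum fun j _ => Dvd.dvd.mul_left (hz j) _
    · intro hz k
      show (N : ℤ) ∣ (T.vM L *ᵥ ((q : ℤ) • z) - z) k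
      rw [← key2]
      show _ ∣ ∑ j, T.vM L k j * (Mq *ᵥ z) j
      exact Finset.dvd_sum fun j _ => Dvd.dvd.mul_left (hz j) _
  have hUd : U ^ d = 1 := by
    have h1 := Matrix.aeval_self_charpoly U
    rw [show U.charpoly = cyclotomic d ℤ from hcp] at h1
    obtain ⟨R, hR⟩ := cyclotomic.dvd_X_pow_sub_one d ℤ
    have h2 : aeval U ((Polynomial.X : ℤ[X]) ^ d - 1) = 0 := by rw [hR, map_mul, h1, zero_mul]
    rw [map_sub, map_pow, aeval_X, map_one, sub_eq_zero] at h2
    exact h2
  set Mg : Matrix (Fin D.rank) (Fin D.rank) ℤ :=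
    ∑ i ∈ Finset.range d, ((q : ℤ) • 1) ^ i * U ^ (d - 1 - i) with hMg
  have hcomm : Commute ((q : ℤ) • (1 : Matrix (Fin D.rank) (Fin D.rank) ℤ)) U :=
    (Commute.one_left U).smul_left _
  have hMM : Mq * Mg = (N : ℤ) • 1 := by
    rw [hMq, hMg, hcomm.mul_geom_sum₂ d, hUd, _root_.smul_pow, one_pow, hNK, sub_smul, one_smul]
  have hdet : Mq.det ≠ 0 := by
    intro e
    have := congrArg Matrix.det hMM
    rw [det_mul, e, zero_mul, det_smul, det_one, mul_one] at this
    exact pow_ne_zero _ hN0 this.symm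
  have hmulinj : Function.Injective Mq.mulVec := fun z w e => sub_eq_zero.mp
    (eq_zero_of_mulVec_eq_zero hdet (by rw [mulVec_sub]; exact sub_eq_zero.mpr e))
  let gM : Multiplicative (Fin D.rank → ℤ) →* Multiplicative (Fin D.rank → ℤ) :=
    AddMonoidHom.toMultiplicative Mg.mulVecLin.toAddMonoidHom
  let Ψ : Multiplicative (Fin D.rank → ℤ) →* GL D.Idx K := ψ.comp gM
  have hΨ : ∀ z, Ψ (Multiplicative.ofAdd z) = ψ (Multiplicative.ofAdd (Mg *ᵥ z)) := fun z => rfl
  have hgrpK : ∀ z, ψ (Multiplicative.ofAdd z) ∈ D.group K := fun z => by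
    rw [hψ]
    exact mul_mem (mul_mem hh (G.diagonal_le_group
      (by rw [G.full.diagonal_eq_range]; exact ⟨_, rfl⟩))) (inv_mem hh)
  have hψker : ∀ z, ψ (Multiplicative.ofAdd z) = 1 ↔ ∀ k, (N : ℤ) ∣ z k := fun z => by
    rw [hψ, conj_eq_one_iff, map_eq_one_iff _ hinj]
    rw [show (1 : Fin D.rank → Kˣ) = expo g 0 from funext fun j => (_root_.zpow_zero g).symm,
      expo_eq_iff]
    simp
    rfl
  have hrange : ∀ b, b ∈ Ψ.range ↔ b ∈ ψ.range ∧ glMap D σ b = b := by
    intro b
    constructor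
    · rintro ⟨z, rfl⟩
      refine ⟨⟨_, rfl⟩, (hfixed _).mpr fun k => ?_⟩
      show (N : ℤ) ∣ (Mq *ᵥ (Mg *ᵥ z.toAdd)) k
      rw [mulVec_mulVec, hMM, smul_mulVec, one_mulVec]
      exact dvd_mul_right _ _
    · rintro ⟨⟨z, rfl⟩, hb⟩
      have hz := (hfixed z.toAdd).mp hb
      choose w hw using hz
      refine ⟨Multiplicative.ofAdd w, ?_⟩
      have e : z.toAdd = Mg *ᵥ w := hmulinj (by
        show Mq *ᵥ z.toAdd = Mq *ᵥ (Mg *ᵥ w)
        rw [mulVec_mulVec, hMM, smul_mulVec, one_mulVec]
        exact funext hw)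
      rw [hΨ, ← e]
      rfl
  have hker : ∀ z, z ∈ Ψ.ker ↔ z.toAdd ∈ LinearMap.range Mq.mulVecLin := by
    intro z
    rw [MonoidHom.mem_ker, show Ψ z = ψ (Multiplicative.ofAdd (Mg *ᵥ z.toAdd)) from rfl, hψker]
    constructor
    · intro hz
      choose w hw using hz
      refine ⟨w, ?_⟩
      show Mq *ᵥ w = z.toAdd
      have e : Mq *ᵥ (Mg *ᵥ z.toAdd) = (N : ℤ) • (Mq *ᵥ w) := by
        rw [← mulVec_smul, show Mg *ᵥ z.toAdd = (N : ℤ) • w from funext fun k => by
          rw [Pi.smul_apply, smul_eq_mul, hw k]]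
      rw [mulVec_mulVec, hMM, smul_mulVec, one_mulVec] at e
      exact funext fun k => mul_left_cancel₀ hN0 (congrFun e.symm k)
    · rintro ⟨w, hw⟩ k
      change Mq *ᵥ w = z.toAdd at hw
      rw [← hw, mulVec_mulVec]
      have e : Mg * Mq = (N : ℤ) • 1 := by
        have h' : Commute Mq Mg := by
          refine Commute.sum_right _ _ _ fun i _ => ?_
          refine (Commute.pow_right ?_ _).mul_right (Commute.pow_right ?_ _)
          · exact ((Commute.one_right Mq).smul_right _)
          · exact hcomm.sub_left (Commute.refl U)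
        rw [← h'.eq, hMM]
      rw [e, smul_mulVec, one_mulVec]
      exact dvd_mul_right _ _
  have hcardΨ : Nat.card Ψ.range = ((cyclotomic d ℤ).eval (q : ℤ)).natAbs := by
    rw [← Subgroup.index_ker, Subgroup.index_eq_card]
    have hinj' : Function.Injective Mq.mulVecLin := hmulinj
    rw [show Nat.card (Multiplicative (Fin D.rank → ℤ) ⧸ Ψ.ker) =
      Nat.card ((Fin D.rank → ℤ) ⧸ LinearMap.range Mq.mulVecLin) from
      Nat.card_congr (Quotient.congr Multiplicative.toAdd fun z w => by
        rw [QuotientGroup.leftRel_apply, Submodule.quotientRel_def, hker, toAdd_mul, toAdd_inv,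
          ← Submodule.neg_mem_iff, neg_add, neg_neg, sub_eq_add_neg]),
      ← Submodule.natAbs_det_equiv _ (LinearEquiv.ofInjective Mq.mulVecLin hinj'),
      ← hcp, Matrix.eval_charpoly]
    congr 1
    rw [show (LinearMap.range Mq.mulVecLin).subtype ∘ₗ AddMonoidHom.toIntLinearMap
      ((LinearEquiv.ofInjective Mq.mulVecLin hinj' : _) : (Fin D.rank → ℤ) →+ _) =
      Matrix.toLin' Mq from LinearMap.ext fun z => rfl, LinearMap.det_toLin', hMq, scalar_apply,
      smul_one_eq_diagonal]
  -- the subgroup of `G`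
  have hxH : x ∈ ψ.range.comap φ := ⟨Multiplicative.ofAdd v, hc.symm⟩
  refine ⟨?_, fun y' k hk => ?_⟩
  swap
  · -- the automizer lies in the Weyl group
    set y1 := h⁻¹ * φ y' * h
    have hy1 : y1 ∈ D.group K := mul_mem (mul_mem (inv_mem hh) (hφgrp y')) hh
    have hek : T.hT K (expo g ((k : ℤ) • v)) = t ^ k := by
      rw [← map_pow]
      refine congrArg (T.hT K) (funext fun j => ?_)
      rw [Pi.pow_apply, expo, expo, Pi.smul_apply, smul_eq_mul, mul_comm, _root_.zpow_mul,
        _root_.zpow_natCast]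
    have he : y1 * T.hT K (expo g v) = T.hT K (expo g ((k : ℤ) • v)) * y1 := by
      have e := congrArg φ hk
      rw [map_mul, map_mul, map_inv, map_pow, hc, conj_pow] at e
      calc y1 * T.hT K (expo g v)
          = h⁻¹ * (φ y' * (h * T.hT K (expo g v) * h⁻¹) * (φ y')⁻¹) * φ y' * h := by
            simp only [y1]; group
        _ = h⁻¹ * (h * t ^ k * h⁻¹) * φ y' * h := by rw [e]
        _ = _ := by rw [hek]; simp only [y1]; group
    obtain ⟨v1, -, a1, L1, u1, -, -, -, -, hnw1⟩ := G.fusion hy1 he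
    rw [G.nw_expo] at hnw1
    have hL1 := (expo_eq_iff _ _).mp (hinj (mul_right_cancel hnw1))
    have e0 : cr ∘ (T.vM L1 *ᵥ u) = (k : ZMod r) • (cr ∘ u) := by
      have h1 : cr ∘ (T.vM L1 *ᵥ u) = cr ∘ ((k : ℤ) • u) := hmod _ _ fun j => by
        rw [← mulVec_smul, smul_comm, ← hvu]
        exact hL1 j
      rw [h1]
      funext j
      simp [cr]
    have e1 : ∀ i : ℕ, cr ∘ (T.vM L1 ^ i *ᵥ u) = (k : ZMod r) ^ i • (cr ∘ u) := by
      intro i
      induction i with
      | zero => simp
      | succ i ih =>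
        rw [pow_succ, ← mulVec_mulVec]
        funext j
        rw [Function.comp_apply, RingHom.map_mulVec, e0, mulVec_smul, Pi.smul_apply, ← RingHom.map_mulVec,
          ← Function.comp_apply (f := cr), ih, pow_succ', mul_smul]
        rfl
    have e2 := e1 (Nat.card (G.full.WJ (List.range D.rank)))
    rw [G.vM_pow_card hM L1, one_mulVec] at e2
    by_contra hne
    refine hub (funext fun j => ?_)
    have := congrFun e2 j
    simp only [Pi.smul_apply, smul_eq_mul] at this
    exact (mul_eq_zero.mp (show ((k : ZMod r) ^ Nat.card (G.full.WJ (List.range D.rank)) - 1) *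
      (cr ∘ u) j = 0 by linear_combination -this)).resolve_left (sub_ne_zero.mpr hne)
  suffices hmain : IsCyclic ↥(ψ.range.comap φ) ∧
      Nat.card ↥(ψ.range.comap φ) = ((cyclotomic d ℤ).eval (Fintype.card F : ℤ)).natAbs ∧
      Subgroup.centralizer ({x} : Set ↥(D.group F)) = ψ.range.comap φ by
    obtain ⟨h1, h2, h3⟩ := hmain
    rw [h3]; exact ⟨h1, h2⟩
  have himg : (ψ.range.comap φ).map φ = Ψ.range := by
    ext b
    rw [Subgroup.mem_map, hrange]
    constructor
    · rintro ⟨z, hz, rfl⟩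
      exact ⟨hz, hφσ z⟩
    · rintro ⟨hb, hbσ⟩
      obtain ⟨z, rfl⟩ := hb
      obtain ⟨z0, hz0, e⟩ := G.exists_glMap_of_fixed f hinj σ hσf hfix (hgrpK z.toAdd) hbσ
      exact ⟨⟨z0, hz0⟩, by
        show glMap D f z0 ∈ ψ.range
        rw [e]; exact ⟨z, rfl⟩, e⟩
  have hequiv := (Subgroup.equivMapOfInjective (ψ.range.comap φ) φ hφinj).trans
    (MulEquiv.subgroupCongr himg)
  refine ⟨?_, by rw [Nat.card_congr hequiv.toEquiv, hcardΨ], ?_⟩
  · -- at most `ℓ` elements are killed by each prime `ℓ`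
    rw [hequiv.isCyclic]
    haveI : Finite Ψ.range := Subtype.finite
    letI : CommGroup Ψ.range :=
      { (inferInstance : Group Ψ.range) with
        mul_comm := by
          rintro ⟨_, z, rfl⟩ ⟨_, w, rfl⟩
          refine Subtype.ext ?_
          show Ψ z * Ψ w = Ψ w * Ψ z
          rw [← map_mul, ← map_mul, mul_comm] }
    refine cyclic_of_prime_torsion fun ℓ hℓ => ?_
    haveI := Fact.mk hℓ
    by_cases hld : ℓ ∣ d
    · set J := (powMonoidHom ℓ : Ψ.range →* Ψ.range).ker
      obtain ⟨j, hj⟩ := IsPGroup.iff_card.mp (show IsPGroup ℓ J from fun a => ⟨1, by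
        rw [pow_one]; exact Subtype.ext a.2⟩)
      have hdvd : ℓ ^ j ∣ ((cyclotomic d ℤ).eval (q : ℤ)).natAbs := by
        rw [← hcardΨ, ← hj]; exact Subgroup.card_subgroup_dvd_card J
      rw [hj]
      by_contra hlt
      have hj2 : 2 ≤ j := by
        by_contra h2
        exact hlt (le_trans (Nat.pow_le_pow_right hℓ.pos (show j ≤ 1 by omega)) (pow_one ℓ).le)
      exact hsq ℓ hℓ hld ((pow_dvd_pow ℓ hj2).trans hdvd)
    · have htors : ∀ a : (powMonoidHom ℓ : Ψ.range →* Ψ.range).ker, ∃ z : Fin D.rank → ℤ,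
          ((a : Ψ.range) : GL D.Idx K) = ψ (Multiplicative.ofAdd z) ∧
          (∀ k, (N : ℤ) ∣ (ℓ : ℤ) * z k) ∧ ∀ k, (N : ℤ) ∣ (Mq *ᵥ z) k := by
        intro a
        obtain ⟨hb, hbσ⟩ := (hrange _).mp (a : Ψ.range).2
        obtain ⟨z, hz⟩ := hb
        refine ⟨z.toAdd, hz.symm, fun k => ?_, (hfixed _).mp (by
          rw [ofAdd_toAdd, hz]; exact hbσ)⟩
        have h1 : ψ (Multiplicative.ofAdd ((ℓ : ℤ) • z.toAdd)) = 1 := by
          rw [ofAdd_zsmul, ofAdd_toAdd, _root_.zpow_natCast, map_pow, hz]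
          exact congrArg Subtype.val (a.2 : (a : Ψ.range) ^ ℓ = 1)
        exact (hψker _).mp h1 k
      by_cases hlN : (ℓ : ℤ) ∣ N
      · obtain ⟨n, hn⟩ := hlN
        have hn0 : n ≠ 0 := fun e => hN0 (by rw [hn, e, mul_zero])
        have hl0 : (ℓ : ℤ) ≠ 0 := Nat.cast_ne_zero.mpr hℓ.ne_zero
        choose z hz hzl hzM using htors
        have hdiv : ∀ a k, n ∣ z a k := fun a k => by
          have := hzl a k
          rw [hn] at this
          exact (mul_dvd_mul_iff_left hl0).mp this
        choose w hw using hdiv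
        have hzw : ∀ a, z a = n • w a := fun a => funext (hw a)
        set cl := Int.castRingHom (ZMod ℓ)
        let φU : Module.End (ZMod ℓ) (Fin D.rank → ZMod ℓ) := (U.map cl).mulVecLin
        have hmem : ∀ a, cl ∘ w a ∈ φU.eigenspace (q : ZMod ℓ) := fun a => by
          rw [Module.End.mem_eigenspace_iff]
          funext k
          have h1 := hzM a k
          rw [hn, hzw a, mulVec_smul, Pi.smul_apply, smul_eq_mul, mul_comm (ℓ : ℤ)] at h1
          have h2 := (ZMod.intCast_zmod_eq_zero_iff_dvd _ _).mpr ((mul_dvd_mul_iff_left hn0).mp h1)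
          rw [hMq, sub_mulVec, smul_mulVec, one_mulVec, Pi.sub_apply, Pi.smul_apply, smul_eq_mul,
            Int.cast_sub, Int.cast_mul, Int.cast_natCast, sub_eq_zero] at h2
          show (U.map cl *ᵥ (cl ∘ w a)) k = ((q : ZMod ℓ) • (cl ∘ w a)) k
          rw [← RingHom.map_mulVec]
          exact h2.symm
        let Φ : (powMonoidHom ℓ : Ψ.range →* Ψ.range).ker → φU.eigenspace (q : ZMod ℓ) :=
          fun a => ⟨cl ∘ w a, hmem a⟩
        have hΦ : Function.Injective Φ := fun a b e => by
          refine (Subtype.val_injective.comp Subtype.val_injective)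
            (show ((a : Ψ.range) : GL D.Idx K) = ((b : Ψ.range) : GL D.Idx K) from ?_)
          rw [hz, hz, hψ, hψ]
          have e1 : expo g (z a) = expo g (z b) := (expo_eq_iff _ _).mpr fun k => by
            rw [← hN, hn, hw a k, hw b k, ← mul_sub, mul_comm (ℓ : ℤ)]
            refine mul_dvd_mul_left n ?_
            rw [← ZMod.intCast_zmod_eq_zero_iff_dvd, Int.cast_sub, sub_eq_zero]
            exact congrFun (congrArg Subtype.val e) k
          rw [e1]
        refine le_trans (Nat.card_le_card_of_injective Φ hΦ) ?_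
        have hsep : (cyclotomic d (ZMod ℓ)).Separable := by
          refine Polynomial.Separable.of_dvd ?_ (cyclotomic.dvd_X_pow_sub_one d (ZMod ℓ))
          simpa using Polynomial.separable_X_pow_sub_C (1 : ZMod ℓ)
            (fun e => hld ((CharP.cast_eq_zero_iff (ZMod ℓ) ℓ _).mp e)) one_ne_zero
        have hle : Module.finrank (ZMod ℓ) (φU.eigenspace (q : ZMod ℓ)) ≤ 1 := by
          refine le_trans (LinearMap.finrank_eigenspace_le φU _) ?_
          rw [Matrix.charpoly_mulVecLin, Matrix.charpoly_map, hcp, map_cyclotomic]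
          exact rootMultiplicity_le_one_of_separable hsep _
        rw [Module.natCard_eq_pow_finrank (K := ZMod ℓ), Nat.card_zmod]
        exact le_trans (Nat.pow_le_pow_right hℓ.pos hle) (pow_one ℓ).le
      · refine le_trans (le_of_eq (Nat.card_eq_one_iff_unique.mpr ⟨⟨fun a b => ?_⟩, inferInstance⟩))
          hℓ.one_le
        have hone : ∀ a : (powMonoidHom ℓ : Ψ.range →* Ψ.range).ker,
            ((a : Ψ.range) : GL D.Idx K) = 1 := fun a => by
          obtain ⟨z, hz, hzl, -⟩ := htors a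
          rw [hz, hψker]
          intro k
          exact (((Nat.prime_iff_prime_int.mp hℓ).coprime_iff_not_dvd.mpr hlN).symm).dvd_of_dvd_mul_left
            (hzl k)
        exact (Subtype.val_injective.comp Subtype.val_injective) ((hone a).trans (hone b).symm)
  · -- the centraliser
    refine le_antisymm (fun b hb => ?_) (fun b hb => Subgroup.mem_centralizer_singleton_iff.mpr ?_)
    · have e := congrArg φ (Subgroup.mem_centralizer_singleton_iff.mp hb).symm
      rw [map_mul, map_mul, hc] at e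
      have hb' : h⁻¹ * φ b * h ∈ D.diagonalSubgroup K := by
        refine hcentral _ (mul_mem (mul_mem (inv_mem hh) (hφgrp b)) hh) ?_
        show t * (h⁻¹ * φ b * h) = h⁻¹ * φ b * h * t
        calc t * (h⁻¹ * φ b * h) = h⁻¹ * (h * T.hT K (expo g v) * h⁻¹ * φ b) * h := by
              simp only [t]; group
          _ = h⁻¹ * φ b * h * t := by rw [e]; simp only [t]; group
      rw [G.full.diagonal_eq_range] at hb'
      obtain ⟨c, hc'⟩ := hb'
      obtain ⟨z, rfl⟩ := hsurj c
      refine ⟨Multiplicative.ofAdd z, ?_⟩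
      rw [hψ, hc']
      group
    · obtain ⟨z, hz⟩ := hxH
      obtain ⟨w, hw⟩ := hb
      refine hφinj ?_
      rw [map_mul, map_mul, ← hz, ← hw, ← map_mul, ← map_mul, mul_comm]

theorem torus_of_map {M : List (List ℤ)} (hM : T.chkSC M = true) (f : F →+* K) {d r : ℕ}
    [Fact r.Prime] (hd0 : 0 < d) (hd : d.totient = D.rank)
    (hK : Fintype.card K = Fintype.card F ^ d)
    (hζ : orderOf (Fintype.card F : ZMod r) = d)
    (hrW : ¬ r ∣ Nat.card (G.full.WJ (List.range D.rank)))
    (hrG : r ∣ Nat.card (D.group F))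
    (hsq : ∀ ℓ : ℕ, ℓ.Prime → ℓ ∣ d →
      ¬ ℓ ^ 2 ∣ ((cyclotomic d ℤ).eval (Fintype.card F : ℤ)).natAbs) :
    ∃ H : Subgroup ↥(D.group F), IsCyclic ↥H ∧
      Nat.card ↥H = ((cyclotomic d ℤ).eval (Fintype.card F : ℤ)).natAbs ∧
      Subgroup.centralizer (H : Set ↥(D.group F)) = H := by
  obtain ⟨x, hx⟩ := exists_prime_orderOf_dvd_card' r hrG
  obtain ⟨⟨h1, h2⟩, -⟩ := G.torus_of_elem hM f hd0 hd hK hζ hrW hsq x hx
  refine ⟨_, h1, h2, le_antisymm (Subgroup.centralizer_le (fun z hz => ?_)) fun b hb => ?_⟩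
  · rw [Set.mem_singleton_iff.mp hz]
    exact Subgroup.mem_centralizer_singleton_iff.mpr rfl
  · haveI := h1
    exact Subgroup.mem_centralizer_iff.mpr fun a ha => congrArg Subtype.val
      (IsCyclic.commGroup.mul_comm (⟨a, ha⟩ : Subgroup.centralizer ({x} : Set ↥(D.group F))) ⟨b, hb⟩)

/-- The centraliser of an element of order a primitive prime divisor of `qᵈ - 1`, `d` elliptic. -/
theorem centralizer_elliptic {M : List (List ℤ)} (hM : T.chkSC M = true) {d r : ℕ}
    [Fact r.Prime] (hd0 : 0 < d) (hd : d.totient = D.rank)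
    (hζ : orderOf (Fintype.card F : ZMod r) = d)
    (hrW : ¬ r ∣ Nat.card (G.full.WJ (List.range D.rank)))
    (hsq : ∀ ℓ : ℕ, ℓ.Prime → ℓ ∣ d →
      ¬ ℓ ^ 2 ∣ ((cyclotomic d ℤ).eval (Fintype.card F : ℤ)).natAbs)
    (x : ↥(D.group F)) (hx : orderOf x = r) :
    (IsCyclic ↥(Subgroup.centralizer ({x} : Set ↥(D.group F))) ∧
      Nat.card ↥(Subgroup.centralizer ({x} : Set ↥(D.group F))) =
        ((cyclotomic d ℤ).eval (Fintype.card F : ℤ)).natAbs) ∧
      ∀ (y : ↥(D.group F)) (k : ℕ), y * x * y⁻¹ = x ^ k →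
        (k : ZMod r) ^ Nat.card (G.full.WJ (List.range D.rank)) = 1 := by
  obtain ⟨p, hp⟩ := CharP.exists F
  haveI := Fact.mk (CharP.char_is_prime F p)
  haveI : NeZero d := ⟨hd0.ne'⟩
  letI := Fintype.ofFinite (FiniteField.Extension F p d)
  refine G.torus_of_elem hM (algebraMap F (FiniteField.Extension F p d)) hd0 hd ?_ hζ hrW hsq x hx
  rw [← Nat.card_eq_fintype_card, FiniteField.natCard_extension, Nat.card_eq_fintype_card]

/-- A cyclic self-centralising torus of order `Φ_d(q)`. -/
theorem exists_elliptic_torus {M : List (List ℤ)} (hM : T.chkSC M = true) {d r : ℕ}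
    [Fact r.Prime] (hd0 : 0 < d) (hd : d.totient = D.rank)
    (hζ : orderOf (Fintype.card F : ZMod r) = d)
    (hrW : ¬ r ∣ Nat.card (G.full.WJ (List.range D.rank)))
    (hrG : r ∣ Nat.card (D.group F))
    (hsq : ∀ ℓ : ℕ, ℓ.Prime → ℓ ∣ d →
      ¬ ℓ ^ 2 ∣ ((cyclotomic d ℤ).eval (Fintype.card F : ℤ)).natAbs) :
    ∃ H : Subgroup ↥(D.group F), IsCyclic ↥H ∧
      Nat.card ↥H = ((cyclotomic d ℤ).eval (Fintype.card F : ℤ)).natAbs ∧
      Subgroup.centralizer (H : Set ↥(D.group F)) = H := by
  obtain ⟨p, hp⟩ := CharP.exists F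
  haveI := Fact.mk (CharP.char_is_prime F p)
  haveI : NeZero d := ⟨hd0.ne'⟩
  letI := Fintype.ofFinite (FiniteField.Extension F p d)
  refine G.torus_of_map hM (algebraMap F (FiniteField.Extension F p d)) hd0 hd ?_ hζ hrW hrG hsq
  rw [← Nat.card_eq_fintype_card, FiniteField.natCard_extension, Nat.card_eq_fintype_card]

end Group

end Tab.Good

end CfsgLib.Chev
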