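import Cfsg.Agent.Chev.CentTorus
import Mathlib.LinearAlgebra.Matrix.Charpoly.Coeff
import Mathlib.LinearAlgebra.Matrix.Charpoly.Minpoly
import Mathlib.LinearAlgebra.Matrix.SchurComplement
import Mathlib.RingTheory.Polynomial.Cyclotomic.Roots
import Mathlib.RingTheory.Polynomial.Cyclotomic.Basic

/-!
The action of the Weyl group on the cocharacter lattice of a simply connected torus, and the
regularity of eigenvectors modulo a prime of elliptic elements.
-/

set_option autoImplicit false
set_option linter.style.haveILetI false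

namespace CfsgLib.Chev

open Matrix Polynomial Cfsg.Lie

/-- An integer matrix of finite order with an eigenvalue of order `d` modulo a prime, of size
`φ(d)`, has the cyclotomic characteristic polynomial. -/
theorem charpoly_eq_cyclotomic {n r d k : ℕ} [Fact r.Prime] (hk : 0 < k) (hrk : ¬ r ∣ k)
    (U : Matrix (Fin n) (Fin n) ℤ) (hU : U ^ k = 1) (hd : 0 < d) (hn : d.totient = n)
    {ζ : ZMod r} (hζ : orderOf ζ = d) {v : Fin n → ZMod r} (hv : v ≠ 0)
    (hev : U.map (Int.castRingHom (ZMod r)) *ᵥ v = ζ • v) :
    U.charpoly = cyclotomic d ℤ := by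
  classical
  set Ub := U.map (Int.castRingHom (ZMod r)) with hUb
  have hpow : ∀ j : ℕ, (Ub ^ j) *ᵥ v = ζ ^ j • v := by
    intro j
    induction j with
    | zero => simp
    | succ j ih =>
      rw [pow_succ', ← mulVec_mulVec, ih, mulVec_smul, hev, smul_smul, ← pow_succ]
  have hUbk : Ub ^ k = 1 := by
    have := congrArg (fun M => (Int.castRingHom (ZMod r)).mapMatrix M) hU
    simpa [map_pow, hUb] using this
  have hdk : d ∣ k := by
    have h := hpow k
    rw [hUbk, one_mulVec] at h
    rw [← hζ, orderOf_dvd_iff_pow_eq_one]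
    by_contra hne
    refine hv (funext fun i => ?_)
    have := congrFun h i
    simp only [Pi.smul_apply, smul_eq_mul] at this
    exact (mul_eq_zero.mp (show (ζ ^ k - 1) * v i = 0 by linear_combination -this)).resolve_left
      (sub_ne_zero.mpr hne)
  set R : ℤ[X] := ∏ i ∈ k.divisors.erase d, cyclotomic i ℤ with hRdef
  have hR : cyclotomic d ℤ * R = X ^ k - 1 := by
    rw [hRdef, Finset.mul_prod_erase _ (fun i => cyclotomic i ℤ)
      (Nat.mem_divisors.mpr ⟨hdk, hk.ne'⟩), prod_cyclotomic_eq_X_pow_sub_one hk]
  haveI : NeZero (d : ZMod r) := ⟨fun h => hrk (dvd_trans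
    ((CharP.cast_eq_zero_iff (ZMod r) r _).mp h) hdk)⟩
  haveI : NeZero (k : ZMod r) := ⟨fun h => hrk ((CharP.cast_eq_zero_iff (ZMod r) r _).mp h)⟩
  have hroot : (cyclotomic d (ZMod r)).IsRoot ζ :=
    isRoot_cyclotomic_iff.mpr (hζ ▸ IsPrimitiveRoot.orderOf ζ)
  set Q := U.map (Int.castRingHom ℚ) with hQ
  have hQk : aeval Q ((X : ℚ[X]) ^ k - 1) = 0 := by
    have := congrArg (fun M => (Int.castRingHom ℚ).mapMatrix M) hU
    simp only [map_pow, map_one] at this
    simp [hQ, ← this]
  have hdvd : minpoly ℚ Q ∣ (cyclotomic d ℚ * R.map (Int.castRingHom ℚ)) := by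
    rw [← map_cyclotomic d (Int.castRingHom ℚ), ← Polynomial.map_mul, hR]
    simpa using minpoly.dvd ℚ Q hQk
  have hΦ : cyclotomic d ℚ ∣ minpoly ℚ Q := by
    by_contra hcon
    have hm : minpoly ℚ Q ∣ R.map (Int.castRingHom ℚ) :=
      (((cyclotomic.irreducible_rat hd).coprime_iff_not_dvd.mpr hcon).symm).dvd_of_dvd_mul_left
        hdvd
    have hRQ : aeval Q (R.map (Int.castRingHom ℚ)) = 0 := by
      obtain ⟨c, hc⟩ := hm
      rw [hc, map_mul, minpoly.aeval, zero_mul]
    have hRU : aeval U R = 0 := by
      have e : (Int.castRingHom ℚ).mapMatrix (aeval U R) = aeval Q (R.map (Int.castRingHom ℚ)) := by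
        rw [aeval_def, aeval_def, hom_eval₂, eval₂_map]
        congr 1
        exact RingHom.ext_int _ _
      have hinj : Function.Injective (fun M : Matrix (Fin n) (Fin n) ℤ =>
          (Int.castRingHom ℚ).mapMatrix M) := fun a b h => Matrix.map_injective Int.cast_injective h
      exact hinj (by simpa [hRQ] using e)
    have hRb : aeval Ub (R.map (Int.castRingHom (ZMod r))) = 0 := by
      have e : (Int.castRingHom (ZMod r)).mapMatrix (aeval U R) =
          aeval Ub (R.map (Int.castRingHom (ZMod r))) := by
        rw [aeval_def, aeval_def, hom_eval₂, eval₂_map]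
        congr 1
        exact RingHom.ext_int _ _
      rw [← e, hRU, map_zero]
    have hev2 : ∀ p : (ZMod r)[X], (aeval Ub p) *ᵥ v = p.eval ζ • v := by
      intro p
      induction p using Polynomial.induction_on' with
      | add p q hp hq => rw [map_add, add_mulVec, hp, hq, eval_add, add_smul]
      | monomial j a =>
        rw [aeval_monomial, eval_monomial, ← Algebra.smul_def, smul_mulVec, hpow, smul_smul]
    have hR0 : (R.map (Int.castRingHom (ZMod r))).eval ζ = 0 := by
      have := hev2 (R.map (Int.castRingHom (ZMod r)))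
      rw [hRb, zero_mulVec] at this
      rcases smul_eq_zero.mp this.symm with h | h
      · exact h
      · exact absurd h hv
    have hsep : (X ^ k - 1 : (ZMod r)[X]).Separable :=
      Polynomial.separable_X_pow_sub_C (1 : ZMod r) (NeZero.ne _) one_ne_zero |> fun h => by
        simpa using h
    have hmul : (X ^ k - 1 : (ZMod r)[X]) =
        cyclotomic d (ZMod r) * R.map (Int.castRingHom (ZMod r)) := by
      rw [← map_cyclotomic d (Int.castRingHom (ZMod r)), ← Polynomial.map_mul, hR]
      simp
    rw [hmul] at hsep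
    obtain ⟨a, b, hab⟩ := hsep.isCoprime
    have := congrArg (eval ζ) hab
    simp [hroot.eq_zero, hR0] at this
  have hcp : Q.charpoly = cyclotomic d ℚ :=
    (eq_of_monic_of_dvd_of_natDegree_le (cyclotomic.monic d ℚ) (charpoly_monic Q)
      (hΦ.trans (Matrix.minpoly_dvd_charpoly Q))
      (by rw [Matrix.charpoly_natDegree_eq_dim, natDegree_cyclotomic, hn, Fintype.card_fin]))
  refine Polynomial.map_injective (Int.castRingHom ℚ) Int.cast_injective ?_
  rw [← Matrix.charpoly_map, map_cyclotomic]
  exact hcp

namespace Tab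

variable {D : ChevalleyDatum}

/-- The Cartan integers of a root as a row. -/
def wrow (T : Tab D) (s : ℕ) : Fin D.rank → ℤ := fun k => T.cart k s

/-- A fundamental reflection on the cocharacters. -/
def sM (T : Tab D) (i : Fin D.rank) : Matrix (Fin D.rank) (Fin D.rank) ℤ :=
  1 + replicateCol Unit (Pi.single i (1 : ℤ)) * replicateRow Unit (-T.wrow (D.simple i))

theorem sM_apply (T : Tab D) (i a k : Fin D.rank) :
    T.sM i a k = (1 : Matrix (Fin D.rank) (Fin D.rank) ℤ) a k -
      if a = i then T.cart k (D.simple i) else 0 := by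
  simp [sM, wrow, Matrix.mul_apply, Pi.single_apply, sub_eq_add_neg]

/-- The matrix of a word. -/
def vM (T : Tab D) (L : List (Fin D.rank)) : Matrix (Fin D.rank) (Fin D.rank) ℤ :=
  (L.map T.sM).prod

theorem vM_append (T : Tab D) (L L' : List (Fin D.rank)) :
    T.vM (L ++ L') = T.vM L * T.vM L' := by simp [vM]

namespace Good

variable {T : Tab D} (G : T.Good)
include G

theorem det_sM (i : Fin D.rank) : (T.sM i).det = -1 := by
  rw [sM, det_one_add_replicateCol_mul_replicateRow]
  simp [wrow, dotProduct, Pi.single_apply, (G.full.node_spec i.isLt).2.2.1]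

theorem wrow_reflT (i : Fin D.rank) (s : Fin D.nroots) :
    T.wrow (T.reflT i s) = T.wrow s ᵥ* T.sM i := by
  funext k
  rw [wrow, ((G.full.reflT_spec i.isLt s.isLt).2.2.2.2.1 k k.isLt).1]
  simp only [Matrix.vecMul, dotProduct, sM_apply, wrow, mul_sub, Finset.sum_sub_distrib,
    Matrix.one_apply, mul_ite, mul_one, mul_zero, Finset.sum_ite_eq', Finset.mem_univ, if_true]

theorem wrow_refl (i : Fin D.rank) (s : Fin D.nroots) :
    T.wrow (G.full.refl i s).val ᵥ* T.sM i = T.wrow s.val := by
  rw [show T.wrow s.val = T.wrow (T.reflT i (G.full.refl i s).val) from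
    congrArg T.wrow (G.full.reflT_spec i.isLt s.isLt).2.1.symm]
  exact (G.wrow_reflT i _).symm

theorem wrow_pw : ∀ (L : List (Fin D.rank)) (s : Fin D.nroots),
    T.wrow (G.full.pw L s).val ᵥ* T.vM L = T.wrow s.val := by
  intro L
  induction L with
  | nil => intro s; simp [vM, Full.pw]
  | cons i L ih =>
    intro s
    rw [G.pw_cons, Equiv.Perm.mul_apply, show T.vM (i :: L) = T.sM i * T.vM L from rfl,
      ← Matrix.vecMul_vecMul, G.wrow_refl, ih]

theorem sM_sq (i : Fin D.rank) : T.sM i * T.sM i = 1 := by
  have e : (replicateRow Unit (-T.wrow (D.simple i))) * replicateCol Unit (Pi.single i (1 : ℤ)) =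
      (-2 : ℤ) • (1 : Matrix Unit Unit ℤ) := by
    ext a b
    simp [Matrix.mul_apply, wrow, Pi.single_apply, (G.full.node_spec i.isLt).2.2.1]
  set u := replicateCol Unit (Pi.single i (1 : ℤ))
  set w := replicateRow Unit (-T.wrow (D.simple i))
  show (1 + u * w) * (1 + u * w) = 1
  have e2 : u * w * (u * w) = (-2 : ℤ) • (u * w) := by
    rw [Matrix.mul_assoc, ← Matrix.mul_assoc w, e, Matrix.smul_mul, Matrix.one_mul,
      Matrix.mul_smul]
  rw [add_mul, one_mul, mul_add, mul_one, e2]
  module

/-- Rows of fundamental roots determine a matrix. -/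
theorem mat_ext {M : List (List ℤ)} (hM : T.chkSC M = true)
    {X Y : Matrix (Fin D.rank) (Fin D.rank) ℤ}
    (h : ∀ j : Fin D.rank, T.wrow (D.simple j) ᵥ* X = T.wrow (D.simple j) ᵥ* Y) : X = Y := by
  simp only [chkSC, Bool.and_eq_true, allBelow_iff, decide_eq_true_eq] at hM
  let A : Matrix (Fin D.rank) (Fin D.rank) ℤ := fun j => T.wrow (D.simple j)
  let B : Matrix (Fin D.rank) (Fin D.rank) ℤ := fun k j => (M.getD k.val []).getD j.val 0
  have hBA : B * A = 1 := by
    ext k i
    have := hM.1 k k.isLt i i.isLt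
    rw [list_sum_range] at this
    rw [Matrix.mul_apply, Matrix.one_apply]
    simp only [A, B, wrow]
    rw [this]
    simp [Fin.val_eq_val, eq_comm]
  have hA : A * X = A * Y := by
    ext j k
    exact congrFun (h j) k
  calc X = B * A * X := by rw [hBA, one_mul]
    _ = B * (A * Y) := by rw [mul_assoc, hA]
    _ = Y := by rw [← mul_assoc, hBA, one_mul]

theorem vM_congr {M : List (List ℤ)} (hM : T.chkSC M = true) {L L' : List (Fin D.rank)}
    (h : G.full.pw L = G.full.pw L') : T.vM L = T.vM L' := by
  refine G.mat_ext hM fun j => ?_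
  set s := (G.full.pw L).symm (G.full.simp' j)
  have h1 := G.wrow_pw L s
  have h2 := G.wrow_pw L' s
  rw [← h] at h2
  rw [show G.full.pw L s = G.full.simp' j from Equiv.apply_symm_apply _ _] at h1 h2
  exact h1.trans h2.symm

theorem vM_eq_one {M : List (List ℤ)} (hM : T.chkSC M = true) {L : List (Fin D.rank)}
    (h : G.full.pw L = 1) : T.vM L = 1 := by
  rw [G.vM_congr hM (L' := []) (h.trans (by simp [Full.pw]))]
  simp [vM]

/-- The matrices of the Weyl group have order dividing the order of the Weyl group. -/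
theorem vM_pow_card {M : List (List ℤ)} (hM : T.chkSC M = true) (L : List (Fin D.rank)) :
    T.vM L ^ Nat.card (G.full.WJ (List.range D.rank)) = 1 := by
  set k := Nat.card (G.full.WJ (List.range D.rank))
  have e : ∀ j : ℕ, T.vM (List.replicate j L).flatten = T.vM L ^ j ∧
      G.full.pw (List.replicate j L).flatten = G.full.pw L ^ j := by
    intro j
    induction j with
    | zero => simp [vM, Full.pw]
    | succ j ih =>
      rw [List.replicate_succ, List.flatten_cons, T.vM_append, G.pw_append, ih.1, ih.2,
        ← pow_succ', ← pow_succ']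
      exact ⟨rfl, rfl⟩
  rw [← (e k).1]
  refine G.vM_eq_one hM ?_
  rw [(e k).2]
  exact congrArg Subtype.val
    (pow_card_eq_one' (x := (⟨G.full.pw L, G.pw_mem_full L⟩ : G.full.WJ (List.range D.rank))))

/-- A vector positive on the fundamental roots is positive on the positive roots. -/
theorem pos_of_simple (l : Fin D.rank → ℤ)
    (h : ∀ j : Fin D.rank, 0 < T.wrow (D.simple j) ⬝ᵥ l) :
    ∀ s : Fin D.nroots, IsPos D s.val → 0 < T.wrow s.val ⬝ᵥ l := by
  suffices ∀ n, ∀ s : Fin D.nroots, (T.ht s).natAbs = n → IsPos D s.val →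
      0 < T.wrow s.val ⬝ᵥ l from fun s => this _ s rfl
  intro n
  induction n using Nat.strong_induction_on with
  | _ n ih =>
    intro s hn hpos
    subst hn
    have hht : 0 < T.ht s := (G.pos_iff_ht s.isLt).mp hpos
    have hway := G.full.way s s.isLt
    simp only [chkWay] at hway
    by_cases h1 : (T.ht s).natAbs = 1
    · simp only [h1, decide_true, cond_true, List.any_eq_true, List.mem_range, Bool.or_eq_true,
        Nat.beq_eq] at hway
      obtain ⟨j, hj, e | e⟩ := hway
      · rw [e]; exact h ⟨j, hj⟩
      · exact absurd (e ▸ hpos.2) (G.negR_pos (G.pos_simp ⟨j, hj⟩))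
    · simp only [h1, decide_false, cond_false, List.any_eq_true, List.mem_range,
        decide_eq_true_eq] at hway
      obtain ⟨k, hk, hlt⟩ := hway
      obtain ⟨hk', -, -, hh, -⟩ := G.full.reflT_spec hk s.isLt
      have hne : s ≠ G.full.simp' ⟨k, hk⟩ := fun e => h1 (by
        rw [e]; show (T.ht (D.simple k)).natAbs = 1
        rw [(G.full.node_spec hk).2.1]; rfl)
      obtain ⟨hp', -⟩ := G.refl_pos ⟨k, hk⟩ hpos hne
      have hht' : 0 < T.ht (T.reflT k s) := (G.pos_iff_ht hk').mp hp'
      have hcart : 0 ≤ T.cart k s := by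
        rw [hh] at hht'
        omega
      have hrec := ih _ (by rw [← hh] at hlt; exact hlt) ⟨T.reflT k s, hk'⟩ rfl hp'
      have e : T.wrow s.val = T.wrow (T.reflT k s) + T.cart k s • T.wrow (D.simple k) := by
        funext a
        simp only [Pi.add_apply, Pi.smul_apply, smul_eq_mul, wrow,
          ((G.full.reflT_spec hk s.isLt).2.2.2.2.1 a a.isLt).1]
        ring
      rw [e, add_dotProduct, smul_dotProduct, smul_eq_mul]
      have := h ⟨k, hk⟩
      positivity

/-- A Weyl element fixing a vector off all root hyperplanes is trivial. -/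
theorem pw_eq_one_of_fixed (L : List (Fin D.rank)) (l : Fin D.rank → ℤ)
    (hl : ∀ s : Fin D.nroots, T.wrow s.val ⬝ᵥ l ≠ 0) (hfix : T.vM L *ᵥ l = l) :
    G.full.pw L = 1 := by
  classical
  suffices ∀ n, ∀ (L : List (Fin D.rank)) (l : Fin D.rank → ℤ),
      (Finset.univ.filter fun s : Fin D.nroots =>
        IsPos D s.val ∧ T.wrow s.val ⬝ᵥ l < 0).card = n →
      (∀ s : Fin D.nroots, T.wrow s.val ⬝ᵥ l ≠ 0) → T.vM L *ᵥ l = l → G.full.pw L = 1 from
    this _ L l rfl hl hfix
  intro n
  induction n using Nat.strong_induction_on with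
  | _ n ih =>
    intro L l hn hl hfix
    by_cases hsimple : ∀ j : Fin D.rank, 0 < T.wrow (D.simple j) ⬝ᵥ l
    · have hall := G.pos_of_simple l hsimple
      have hpres : ∀ s, IsPos D s.val → IsPos D (G.full.pw L s).val := by
        intro s hs
        have e : T.wrow (G.full.pw L s).val ⬝ᵥ l = T.wrow s.val ⬝ᵥ l := by
          rw [← G.wrow_pw L s, ← dotProduct_mulVec, hfix]
        by_contra hneg
        have h' := hall (negF (G.full.pw L s)) (G.pos_negF.mpr hneg)
        have e2 : T.wrow (negF (G.full.pw L s)).val = -T.wrow (G.full.pw L s).val := by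
          funext a
          exact ((G.full.cert.root_spec (G.full.pw L s).isLt).2.2.2.1 a a.isLt).1
        rw [e2, neg_dotProduct, e] at h'
        have := hall s hs
        omega
      obtain ⟨c, hc⟩ := G.nw_mem_torus (F := ℚ) _ L rfl hpres
      exact G.pw_eq_of_nw (F := ℚ) (L' := []) (c := c) (by rw [hc]; simp [Full.nw])
    · push Not at hsimple
      obtain ⟨j, hj⟩ := hsimple
      have hjne : T.wrow (D.simple j) ⬝ᵥ l < 0 := lt_of_le_of_ne hj (hl (G.full.simp' j))
      set l' := T.sM j *ᵥ l
      have hw : ∀ s : Fin D.nroots, T.wrow s.val ⬝ᵥ l' = T.wrow (G.full.refl j s).val ⬝ᵥ l :=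
        fun s => by
          rw [dotProduct_mulVec, ← G.wrow_reflT]
          rfl
      have hlt : (Finset.univ.filter fun s : Fin D.nroots =>
          IsPos D s.val ∧ T.wrow s.val ⬝ᵥ l' < 0).card < n := by
        rw [← hn, ← Finset.card_image_of_injective (f := G.full.refl j) _ (Equiv.injective _)]
        refine Finset.card_lt_card (Finset.ssubset_iff_of_subset ?_ |>.mpr
          ⟨G.full.simp' j, Finset.mem_filter.mpr ⟨Finset.mem_univ _, G.pos_simp j, hjne⟩, ?_⟩)
        · intro x hx
          simp only [Finset.mem_image, Finset.mem_filter, Finset.mem_univ, true_and] at hx ⊢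
          obtain ⟨s, ⟨hs, hsl⟩, rfl⟩ := hx
          rw [hw] at hsl
          refine ⟨(G.refl_pos j hs fun e => ?_).1, hsl⟩
          rw [e, G.refl_simp] at hsl
          have e2 : T.wrow (negF (G.full.simp' j)).val = -T.wrow (D.simple j) := by
            funext a
            exact ((G.full.cert.root_spec (G.full.simp' j).isLt).2.2.2.1 a a.isLt).1
          rw [e2, neg_dotProduct] at hsl
          omega
        · simp only [Finset.mem_image, Finset.mem_filter, Finset.mem_univ, true_and, not_exists]
          rintro s ⟨⟨hs, -⟩, e⟩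
          by_cases he : s = G.full.simp' j
          · rw [he, G.refl_simp] at e
            have h2 : IsPos D (negF (G.full.simp' j)).val := e.symm ▸ G.pos_simp j
            exact G.negR_pos (G.pos_simp j) h2.2
          · exact (G.refl_pos j hs he).2 e
      have hS := G.sM_sq j
      have h := ih _ hlt (j :: L ++ [j]) l' rfl
        (fun s => by rw [hw]; exact hl _) (by
          rw [T.vM_append, show T.vM (j :: L) = T.sM j * T.vM L from rfl,
            show T.vM [j] = T.sM j by simp [vM], ← mulVec_mulVec, mulVec_mulVec l (T.sM j), hS,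
            one_mulVec, ← mulVec_mulVec, hfix])
      rw [G.pw_append, G.pw_cons, show G.full.pw [j] = G.full.refl j by simp [Full.pw]] at h
      have h2 : G.full.refl j * G.full.refl j = 1 :=
        Equiv.ext fun s => Fin.ext (G.full.reflT_spec j.isLt s.isLt).2.1
      calc G.full.pw L = G.full.refl j * (G.full.refl j * G.full.pw L * G.full.refl j) *
            G.full.refl j := by
            simp only [← mul_assoc, h2, one_mul]
            rw [mul_assoc, h2, mul_one]
        _ = 1 := by rw [h, mul_one, h2]

end Good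

end Tab

end CfsgLib.Chev
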