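import Cfsg.Agent.Chev.OrderCheck
import Cfsg.Agent.Chev.TorusLattice
import Cfsg.Agent.Chev.CentTorus
import Cfsg.Agent.Chev.EllipticTorus
import Cfsg.Agent.Chev.FieldFix
import Cfsg.Agent.Chev.SteinbergFinite
import Cfsg.Agent.ChevMult.Center

/-!
Centralisers of regular semisimple elements whose torus is twisted by a Weyl element, for types
with a non-trivial centre: computed in the cover, where the torus is free.
-/

set_option autoImplicit false
set_option linter.style.haveILetI false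

namespace CfsgLib.Chev

open Cfsg.Lie Matrix
open scoped MatrixGroups

namespace Tab.Good

variable {D : ChevalleyDatum} {T : Tab D} (G : T.Good) {K : Type*} [Field K]
include G

/-- The cover with its map to matrices. -/
noncomputable def coverData (K : Type*) [Field K] : G.StData K (D.SteinbergCover K) :=
  G.scData (G.scθ K) (fun _ t hr => G.coe_scθ hr t)

/-- An injective map from the free torus to the cover. -/
structure CoverTorus (K : Type*) [Field K] where
  /-- the map -/
  H : (Fin D.rank → Kˣ) →* D.SteinbergCover K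
  inj : Function.Injective H
  hH : ∀ (j : Fin D.rank) (t : Kˣ), H (Pi.mulSingle j t) = (G.coverData K).hb j (t : K)

theorem exists_coverTorus [Finite K] {D' : ChevalleyDatum} {T' : Tab D'} (G' : T'.Good)
    {io : List ℕ} (hio : ChevMult.chkEmb T T' io = true) (hW : T.HasWit)
    {C : ChevMult.KerCert} (hC : ChevMult.chkKer T T' C = true) : Nonempty (G.CoverTorus K) := by
  obtain ⟨ψ, hψ⟩ := ChevMult.exists_emb (F := K) G G' hio
  simp only [ChevMult.chkEmb, Bool.and_eq_true, allBelow_iff, Nat.blt_eq, Nat.beq_eq,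
    Nat.ble_eq] at hio
  obtain ⟨⟨hroot, hsimp⟩, hrank⟩ := hio
  simp only [ChevMult.chkKer, Bool.and_eq_true, allBelow_iff, decide_eq_true_eq] at hC
  obtain ⟨-, hM'⟩ := hC
  set S := G.coverData K with hS
  let φ : Fin D.rank → Kˣ →* D.SteinbergCover K := fun j =>
    MonoidHom.mk' (fun t => S.hb j (t : K)) (fun t u => (S.hb_mul hW j t u).symm)
  let H : (Fin D.rank → Kˣ) →* D.SteinbergCover K :=
    MonoidHom.noncommPiCoprod φ fun i j _ t u => S.hb_commute hW (S.hb_mul hW) i j t u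
  have hH : ∀ j t, H (Pi.mulSingle j t) = S.hb j (t : K) := fun j t =>
    MonoidHom.noncommPiCoprod_mulSingle _ _ _
  let ext : (Fin D.rank → Kˣ) →* (Fin D'.rank → Kˣ) :=
    { toFun := fun c k => if h : k.val < D.rank then c ⟨k.val, h⟩ else 1
      map_one' := by funext k; by_cases h : k.val < D.rank <;> simp [h]
      map_mul' := fun a b => by funext k; by_cases h : k.val < D.rank <;> simp [h] }
  have hext : ∀ (i : Fin D.rank) (u : Kˣ), ext (Pi.mulSingle i u) =
      Pi.mulSingle ⟨i.val, i.isLt.trans_le hrank⟩ u := fun i u => by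
    funext k
    simp only [ext, MonoidHom.coe_mk, OneHom.coe_mk]
    by_cases h : k.val < D.rank
    · rw [dif_pos h]
      simp [Pi.mulSingle_apply, Fin.ext_iff]
    · rw [dif_neg h, Pi.mulSingle_eq_of_ne]
      intro e
      rw [e] at h
      exact h i.isLt
  have hψH : ∀ c, ψ (H c) = T'.hT K (ext c) := fun c => by
    induction c using G.full.hT_induction with
    | h1 => simp
    | hm a b ha hb => simp only [map_mul, ha, hb]
    | hs i u =>
      have hs := G.full.simple_lt i.isLt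
      have hn := Cert.negR_lt (D := D) hs
      rw [hH, hext, G'.full.hT_single]
      simp only [StData.hb, StData.nb, hS, coverData, scData, map_mul, hψ _ hs,
        hψ _ hn, hsimp i i.isLt, (hroot _ hs).1.2, Full.hr, Full.nr]
  refine ⟨⟨H, ?_, hH⟩⟩
  rw [injective_iff_map_eq_one]
  intro c hc
  have h1 : T'.hT K (ext c) = 1 := by rw [← hψH, hc, map_one]
  rw [G'.full.hT_eq_one_iff] at h1
  funext i
  have e1 := ChevMult.prod_chi T' (C.M'.getD i []) (ext c)
  rw [Finset.prod_eq_one fun j _ => by rw [h1 j j.isLt, _root_.one_zpow],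
    Finset.prod_eq_single (⟨i.val, i.isLt.trans_le hrank⟩ : Fin D'.rank)] at e1
  · rw [hM' i i.isLt i i.isLt, if_pos rfl, _root_.zpow_one] at e1
    simpa [ext] using e1.symm
  · intro k _ hk
    by_cases h : k.val < D.rank
    · rw [hM' i i.isLt k h, if_neg fun e => hk (Fin.ext e.symm), _root_.zpow_zero]
    · simp [ext, h]
  · simp

theorem mulAct_sM (i : Fin D.rank) (c : Fin D.rank → Kˣ) :
    mulAct (T.sM i) c = c * Pi.mulSingle i (T.chi (D.simple i) c)⁻¹ := by
  funext a
  simp only [mulAct, MonoidHom.coe_mk, OneHom.coe_mk, Pi.mul_apply, sM_apply, _root_.zpow_sub,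
    Finset.prod_mul_distrib, Finset.prod_inv_distrib]
  rw [Finset.prod_eq_single a (fun b _ hb => by simp [Matrix.one_apply, Ne.symm hb]) (by simp),
    Matrix.one_apply_eq, _root_.zpow_one]
  by_cases ha : a = i
  · subst ha
    simp [chi]
  · simp [ha, Pi.mulSingle_eq_of_ne ha]

theorem mulAct_pow (M : Matrix (Fin D.rank) (Fin D.rank) ℤ) (q : ℕ) (c : Fin D.rank → Kˣ) :
    mulAct M (c ^ q) = mulAct ((q : ℤ) • M) c := by
  funext a
  simp only [mulAct, MonoidHom.coe_mk, OneHom.coe_mk, Pi.pow_apply, Matrix.smul_apply, smul_eq_mul,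
    _root_.zpow_mul, _root_.zpow_natCast]

section Map

variable {L M : Type*} [Field L] [Field M]

/-- The map of covers induced by a map of fields. -/
theorem exists_coverMap (σ : K →+* L) :
    ∃ μ : D.SteinbergCover K →* D.SteinbergCover L,
      ∀ r t, μ (D.scGen K r t) = D.scGen L r (σ t) := by
  let f : Fin D.nroots × K → D.SteinbergCover L := fun p => D.scGen L p.1.val (σ p.2)
  have hX : ∀ r t, FreeGroup.lift f (D.stX r t) = D.scGen L r (σ t) := fun r t => by
    by_cases hr : r < D.nroots <;> simp [ChevalleyDatum.stX, ChevalleyDatum.scGen, hr, f]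
  have hrels : ∀ g ∈ D.steinbergRelsAB K, FreeGroup.lift f g = 1 := by
    set S := G.coverData L
    rintro g (⟨r, t, u, hr, rfl⟩ | ⟨r, s, t, u, hr, hs, hne, hne', rfl⟩)
    · rw [map_mul, map_mul, map_inv, hX, hX, hX, map_add, mul_inv_eq_one]
      exact S.add r hr _ _
    · rw [G.full.cert.neg_eq hr] at hne'
      rw [map_mul, map_mul, map_mul, map_mul, map_inv, map_inv, map_inv, hX, hX, mul_inv_eq_one,
        ChevalleyDatum.stWord, map_list_prod, G.full.cert.commWord_eq hr hs, List.map_map]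
      refine (S.comm r hr s hs hne hne' (σ t) (σ u)).trans ?_
      simp only [rhsWord, List.map_map]
      refine congrArg List.prod (List.map_congr_left fun c _ => ?_)
      simp only [Function.comp_apply, hX, map_mul, map_pow, map_neg, map_intCast]
      rfl
  exact ⟨PresentedGroup.toGroup hrels, fun r t => hX r t⟩

/-- The map of covers induced by a map of fields. -/
noncomputable def coverMap (σ : K →+* L) : D.SteinbergCover K →* D.SteinbergCover L :=
  (G.exists_coverMap σ).choose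

theorem coverMap_x (σ : K →+* L) (r : ℕ) (t : K) :
    G.coverMap σ ((G.coverData K).xb r t) = (G.coverData L).xb r (σ t) :=
  (G.exists_coverMap σ).choose_spec r t

theorem cover_ext {E : Type*} [Monoid E] {a b : D.SteinbergCover K →* E}
    (h : ∀ r t, a ((G.coverData K).xb r t) = b ((G.coverData K).xb r t)) : a = b :=
  MonoidHom.eq_of_eqOn_dense (G.coverData K).gen (by rintro _ ⟨r, -, t, rfl⟩; exact h r t)

theorem coverMap_comp (σ : K →+* L) (τ : L →+* M) (e : D.SteinbergCover K) :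
    G.coverMap τ (G.coverMap σ e) = G.coverMap (τ.comp σ) e :=
  DFunLike.congr_fun (G.cover_ext (a := (G.coverMap τ).comp (G.coverMap σ)) fun r t => by
    simp [coverMap_x]) e

theorem θ_coverMap (σ : K →+* L) (e : D.SteinbergCover K) :
    (G.coverData L).θ (G.coverMap σ e) = glMap D σ ((G.coverData K).θ e) :=
  DFunLike.congr_fun (G.cover_ext (a := (G.coverData L).θ.comp (G.coverMap σ))
    (b := (glMap D σ).comp (G.coverData K).θ) fun r t => by
    simp [coverMap_x, StData.θ_x, G.glMap_x]) e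

theorem coverMap_nbw (σ : K →+* L) (w : List (Fin D.rank)) :
    G.coverMap σ ((G.coverData K).nbw w) = (G.coverData L).nbw w := by
  rw [StData.nbw, map_list_prod, List.map_map, StData.nbw]
  refine congrArg List.prod (List.map_congr_left fun i _ => ?_)
  simp [StData.nb, coverMap_x]

end Map

namespace CoverTorus

variable {G} [Finite K] (C : G.CoverTorus K) (hW : T.HasWit)
include C

theorem θ_H (c : Fin D.rank → Kˣ) : (G.coverData K).θ (C.H c) = T.hT K c := by
  induction c using G.full.hT_induction with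
  | h1 => simp
  | hm a b ha hb => simp [ha, hb]
  | hs i u => rw [C.hH, StData.θ_hb, G.full.hT_single]

theorem H_mem (c : Fin D.rank → Kˣ) : C.H c ∈ (G.coverData K).HB := by
  induction c using G.full.hT_induction with
  | h1 => rw [map_one]; exact one_mem _
  | hm a b ha hb => rw [map_mul]; exact mul_mem ha hb
  | hs i u => rw [C.hH]; exact (G.coverData K).hb_mem i u.ne_zero

include hW in
theorem mem_range {e : D.SteinbergCover K} {c : Fin D.rank → Kˣ}
    (he : (G.coverData K).θ e = T.hT K c) : e ∈ C.H.range := by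
  have hle : (G.coverData K).HB ≤ C.H.range := by
    rw [StData.HB, Subgroup.closure_le]
    rintro _ ⟨j, t, rfl⟩
    exact ⟨_, C.hH j t⟩
  have hk : e * (C.H c)⁻¹ ∈ (G.coverData K).θ.ker := by
    rw [MonoidHom.mem_ker, map_mul, map_inv, C.θ_H, he, mul_inv_cancel]
  have h := mul_mem (hle ((G.coverData K).ker_le_HB hW hk)) (show C.H c ∈ C.H.range from ⟨c, rfl⟩)
  rwa [inv_mul_cancel_right] at h

include hW in
theorem conj_x (c : Fin D.rank → Kˣ) {s : ℕ} (hs : s < D.nroots) (u : K) :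
    C.H c * (G.coverData K).xb s u * (C.H c)⁻¹ = (G.coverData K).xb s ((T.chi s c : K) * u) := by
  obtain ⟨c', -, hc'⟩ := (G.coverData K).exists_HB hW (C.H_mem c)
  have h := hc' s hs u
  have e := congrArg (G.coverData K).θ h
  rw [map_mul, map_mul, map_inv, C.θ_H, StData.θ_x, StData.θ_x, G.full.hT_conj hs] at e
  rw [h, ← G.x_inj hs e]

include hW in
theorem nb_conj_H (i : Fin D.rank) (c : Fin D.rank → Kˣ) :
    (G.coverData K).nb i 1 * C.H c * ((G.coverData K).nb i 1)⁻¹ =
      C.H (mulAct (T.sM i) c) := by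
  set S := G.coverData K
  have h := S.HB_nb hW (h := C.H c⁻¹) (c := c⁻¹) (fun s hs u => C.conj_x hW c⁻¹ hs u) i 1
  rw [mul_one, map_inv, map_inv, inv_inv] at h
  rw [G.mulAct_sM, map_mul, C.hH]
  rw [show S.hb i ((T.chi (D.simple i) c)⁻¹ : Kˣ) =
    S.nb i ((T.chi (D.simple i) c)⁻¹ : Kˣ) * S.nb i (-1) from rfl, ← h, ← S.nb_inv i 1]
  group

include hW in
theorem nbw_conj_H : ∀ (w : List (Fin D.rank)) (c : Fin D.rank → Kˣ),
    (G.coverData K).nbw w * C.H c * ((G.coverData K).nbw w)⁻¹ =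
      C.H (mulAct (T.vM w) c) := by
  intro w
  induction w with
  | nil => intro c; simp [StData.nbw, vM, mulAct_one]
  | cons i w ih =>
    intro c
    rw [StData.nbw_cons, show T.vM (i :: w) = T.sM i * T.vM w from rfl, mulAct_mul, ← C.nb_conj_H hW,
      ← ih]
    group

theorem coverMap_H (σ : K →+* K) (c : Fin D.rank → Kˣ) :
    G.coverMap σ (C.H c) = C.H fun i => Units.map σ.toMonoidHom (c i) := by
  induction c using G.full.hT_induction with
  | h1 => simp only [map_one, Pi.one_apply]; exact (map_one C.H).symm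
  | hm a b ha hb =>
    rw [map_mul, map_mul, ha, hb, ← map_mul]
    exact congrArg C.H (funext fun i => by simp)
  | hs i u =>
    rw [C.hH, show (fun k => Units.map σ.toMonoidHom ((Pi.mulSingle i u : Fin D.rank → Kˣ) k)) =
      Pi.mulSingle i (Units.map σ.toMonoidHom u) from funext fun k => by
        rcases eq_or_ne k i with rfl | hk <;> simp [*], C.hH]
    simp [StData.hb, StData.nb, coverMap_x]

end CoverTorus

variable {F : Type*} [Field F] (f : F →+* K)

theorem exists_glMap_US (σ : K →+* K) (hfix : ∀ t, σ t = t → ∃ e, f e = t) {S : Set ℕ}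
    (hS : T.Closed S) {w : GL D.Idx K} (hw : w ∈ G.US K S) (hσw : glMap D σ w = w) :
    ∃ w₀ ∈ G.US F S, glMap D f w₀ = w := by
  classical
  have hw' : w ∈ (G.US K S : Set (GL D.Idx K)) := hw
  rw [G.US_eq_range hS] at hw'
  obtain ⟨a, rfl⟩ := hw'
  rw [G.glMap_segProd] at hσw
  have hr : ∀ r ∈ S, ∃ e, f e = a r := fun r hr =>
    hfix _ (G.segProd_injective hS D.nroots 0 _ _ (zero_add _) hσw r hr (Nat.zero_le r))
  let a₀ : ℕ → F := fun r => if h : r ∈ S then (hr r h).choose else 0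
  refine ⟨G.segProd S a₀ 0 D.nroots, ?_, ?_⟩
  · rw [← SetLike.mem_coe, G.US_eq_range hS]; exact ⟨a₀, rfl⟩
  · rw [G.glMap_segProd]
    refine G.segProd_congr S _ _ fun r h _ => ?_
    simp only [Function.comp_apply, a₀, dif_pos h]
    exact (hr r h).choose_spec

/-- A fixed point in the cover lies over the group of the fixed field. -/
theorem cover_fixed_descends [Finite K] (C : G.CoverTorus K) (hW : T.HasWit) (σ : K →+* K)
    (hσf : σ.comp f = f) (hfix : ∀ t, σ t = t → ∃ e, f e = t) {e : D.SteinbergCover K}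
    (he : G.coverMap σ e = e) : ∃ b ∈ D.group F, glMap D f b = (G.coverData K).θ e := by
  classical
  set S := G.coverData K with hS
  set S₀ := G.coverData F with hS₀
  have hg : S.θ e ∈ D.group K := by rw [← S.θ_range]; exact ⟨e, rfl⟩
  obtain ⟨v, hv, c, L, u, hu, hvu⟩ := G.normal_form hg
  have hσg : glMap D σ (S.θ e) = S.θ e := by rw [hS, ← G.θ_coverMap, he]
  rw [hvu] at hσg
  simp only [map_mul, G.glMap_nw, G.glMap_hT] at hσg
  set c' : Fin D.rank → Kˣ := fun i => Units.map σ.toMonoidHom (c i)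
  have hσv : glMap D σ v ∈ D.posUnipotent K := by
    rw [G.posUnipotent_eq] at hv ⊢; exact G.glMap_US σ hv
  have hh : ∀ d : Fin D.rank → Kˣ, T.hT K d ∈ D.diagonalSubgroup K := fun d => by
    rw [G.full.diagonal_eq_range]; exact ⟨d, rfl⟩
  have hn := G.nw_mem_monomial (F := K) L
  obtain ⟨hb, hu'⟩ := (G.canonical_unique (mul_mem (Subgroup.mem_sup_left hσv)
    (Subgroup.mem_sup_right (hh c'))) (mul_mem (Subgroup.mem_sup_left hv)
    (Subgroup.mem_sup_right (hh c))) hn hn (G.rootAct_nw L) (G.rootAct_nw L) (G.glMap_US σ hu) hu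
    hσg).2 rfl
  have hm : v⁻¹ * glMap D σ v ∈ D.posUnipotent K ⊓ D.diagonalSubgroup K := by
    refine Subgroup.mem_inf.mpr ⟨mul_mem (inv_mem hv) hσv, ?_⟩
    have e1 : v⁻¹ * glMap D σ v = T.hT K c * (T.hT K c')⁻¹ := by
      rw [eq_mul_inv_iff_mul_eq, mul_assoc, hb, inv_mul_cancel_left]
    rw [e1]
    exact mul_mem (hh c) (inv_mem (hh c'))
  rw [G.pos_inf_diagonal, Subgroup.mem_bot, inv_mul_eq_one] at hm
  obtain ⟨v₀, hv₀, rfl⟩ := G.exists_glMap_US f σ hfix G.closed_pos
    (by rw [← G.posUnipotent_eq]; exact hv) hm.symm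
  obtain ⟨u₀, hu₀, rfl⟩ := G.exists_glMap_US f σ hfix (G.closed_flip L) hu hu'
  obtain ⟨ev, -, hev⟩ := S₀.exists_lift hv₀
  obtain ⟨eu, -, heu⟩ := S₀.exists_lift hu₀
  have hfixed : ∀ a, G.coverMap σ (G.coverMap f a) = G.coverMap f a := fun a => by
    rw [coverMap_comp, hσf]
  set e' := (G.coverMap f ev)⁻¹ * e * (G.coverMap f eu)⁻¹ * (S.nbw L)⁻¹ with he'def
  have hθe' : S.θ e' = T.hT K c := by
    rw [he'def]
    simp only [map_mul, map_inv, hS, G.θ_coverMap, ← hS₀, hev, heu, StData.θ_nbw]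
    rw [← hS, hvu]
    group
  obtain ⟨a, ha⟩ := C.mem_range hW hθe'
  have he' : G.coverMap σ e' = e' := by
    simp only [he'def, map_mul, map_inv, he, hfixed, hS, coverMap_nbw]
  rw [← ha, C.coverMap_H] at he'
  have ha' := C.inj he'
  have haF : ∀ i, ∃ b : Fˣ, Units.map f.toMonoidHom b = a i := fun i => by
    obtain ⟨b, hb⟩ := hfix (a i : K) (congrArg Units.val (congrFun ha' i))
    exact ⟨Units.mk0 b (fun h0 => (a i).ne_zero (by rw [← hb, h0, map_zero])), Units.ext hb⟩
  choose b hb using haF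
  refine ⟨v₀ * T.hT F b * G.full.nw F L * u₀, ?_, ?_⟩
  · refine mul_mem (mul_mem (mul_mem (G.US_le_group _ hv₀) (G.diagonal_le_group ?_))
      (G.monomial_le_group (G.nw_mem_monomial L))) (G.US_le_group _ hu₀)
    rw [G.full.diagonal_eq_range]; exact ⟨b, rfl⟩
  · have hac : T.hT K a = T.hT K c := by rw [← C.θ_H, ha, hθe']
    rw [hvu]
    simp only [map_mul, G.glMap_nw, G.glMap_hT, hb]
    rw [show (fun i => a i) = a from rfl, hac]

/-- The twisted torus. -/
def twFix (T : Tab D) (K : Type*) [Field K] (q : ℕ) (L : List (Fin D.rank)) :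
    Subgroup (Fin D.rank → Kˣ) :=
  (mulAct ((q : ℤ) • T.vM L) : (Fin D.rank → Kˣ) →* (Fin D.rank → Kˣ)).eqLocus (MonoidHom.id _)

theorem nw_hT_mulAct [Finite K] (C : G.CoverTorus K) (hW : T.HasWit) (w : List (Fin D.rank))
    (c : Fin D.rank → Kˣ) :
    G.full.nw K w * T.hT K c * (G.full.nw K w)⁻¹ = T.hT K (mulAct (T.vM w) c) := by
  rw [← C.θ_H (mulAct (T.vM w) c), ← C.nbw_conj_H hW, map_mul, map_mul, map_inv, C.θ_H,
    StData.θ_nbw]

/-- A regular element of the torus is centralised only by the torus. -/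
theorem regular_central [Fintype K] (C : G.CoverTorus K) (hW : T.HasWit) {c0 : Fin D.rank → Kˣ}
    (hroot : ∀ s : Fin D.nroots, T.chi (F := K) s.val c0 ≠ 1)
    (hstab : ∀ L', T.hT K (mulAct (T.vM L') c0) = T.hT K c0 → G.full.pw L' = 1)
    {b : GL D.Idx K} (hb : b ∈ D.group K) (hbt : b * T.hT K c0 = T.hT K c0 * b) :
    b ∈ D.diagonalSubgroup K := by
  have hempty : ∀ {A : Set ℕ} (_ : T.Closed A) {u : GL D.Idx K}, u ∈ G.US K A →
      Commute (T.hT K c0) u → u = 1 := by
    intro A hA u hu hc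
    have h1 := (G.fixed_US hA c0 hu).mp (mul_inv_eq_iff_eq_mul.mpr hc.eq)
    have : {s | s ∈ A ∧ T.chi (F := K) s c0 = 1} = (∅ : Set ℕ) :=
      Set.eq_empty_iff_forall_notMem.mpr fun s hs => hroot ⟨s, (hA.1 s hs.1).1⟩ hs.2
    rw [this] at h1
    simpa [Good.US] using h1
  obtain ⟨v, hv, a, L', u, hu, rfl, hcv, hcu, hn⟩ := G.fusion hb hbt
  rw [hempty G.closed_pos (by rw [← G.posUnipotent_eq]; exact hv) hcv,
    hempty G.closed_pos (by rw [← G.posUnipotent_eq]; exact hu) hcu, one_mul, mul_one]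
  have hpw := hstab L' (by rw [← G.nw_hT_mulAct C hW]; exact mul_inv_eq_iff_eq_mul.mpr hn)
  refine mul_mem (by rw [G.full.diagonal_eq_range]; exact ⟨a, rfl⟩)
    (G.mem_diagonal_of_pos (G.nw_mem_monomial L') (G.rootAct_nw L') fun s hs => ?_)
  rw [hpw]
  exact hs

/-- The lift of a regular element fixed by the Frobenius map twists the torus by a Weyl element. -/
theorem regular_twist [Fintype K] (C : G.CoverTorus K) (hW : T.HasWit) (σ : K →+* K) {q : ℕ}
    (hσ : ∀ a, σ a = a ^ q) {x h : GL D.Idx K} (hσx : glMap D σ x = x) (hh : h ∈ D.group K)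
    {c0 : Fin D.rank → Kˣ} (hx : x = h * T.hT K c0 * h⁻¹)
    (hroot : ∀ s : Fin D.nroots, T.chi (F := K) s.val c0 ≠ 1)
    (hstab : ∀ L', T.hT K (mulAct (T.vM L') c0) = T.hT K c0 → G.full.pw L' = 1)
    {L : List (Fin D.rank)} (hL : T.hT K (mulAct ((q : ℤ) • T.vM L) c0) = T.hT K c0) :
    ∃ e a, (G.coverData K).θ e = h ∧
      e⁻¹ * G.coverMap σ e = C.H a * (G.coverData K).nbw L := by
  set S := G.coverData K with hS
  set t := T.hT K c0 with ht
  have hσc : ∀ c : Fin D.rank → Kˣ, (fun i => Units.map σ.toMonoidHom (c i)) = c ^ q := fun c =>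
    funext fun i => Units.ext (hσ _)
  set y := h⁻¹ * glMap D σ h with hy
  have htw : G.full.nw K L * T.hT K (c0 ^ q) = t * G.full.nw K L := by
    rw [← mul_inv_eq_iff_eq_mul, G.nw_hT_mulAct C hW, G.mulAct_pow, hL]
  have hyt : y * T.hT K (c0 ^ q) = t * y := by
    have e := hσx
    rw [hx, map_mul, map_mul, map_inv, G.glMap_hT, hσc] at e
    calc y * T.hT K (c0 ^ q) = h⁻¹ * (glMap D σ h * T.hT K (c0 ^ q) * (glMap D σ h)⁻¹) *
          glMap D σ h := by rw [hy]; group
      _ = t * y := by rw [e, hy, ht]; group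
  obtain ⟨a, ha⟩ : ∃ a, T.hT K a = y * (G.full.nw K L)⁻¹ := by
    have := G.regular_central C hW hroot hstab (mul_mem (mul_mem (inv_mem hh) (G.glMap_group σ hh))
      (inv_mem (G.monomial_le_group (G.nw_mem_monomial L)))) (by
      have e : (G.full.nw K L)⁻¹ * t = T.hT K (c0 ^ q) * (G.full.nw K L)⁻¹ := by
        rw [eq_mul_inv_iff_mul_eq, mul_assoc, ← htw, inv_mul_cancel_left]
      rw [← ht, mul_assoc, e, ← mul_assoc, hyt, mul_assoc])
    rw [G.full.diagonal_eq_range] at this
    exact this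
  obtain ⟨e₁, he₁⟩ : ∃ e₁, S.θ e₁ = h := by
    rw [← S.θ_range] at hh; exact hh
  obtain ⟨a', ha'⟩ := C.mem_range hW (e := e₁⁻¹ * G.coverMap σ e₁ * (S.nbw L)⁻¹) (c := a) (by
    rw [map_mul, map_mul, map_inv, map_inv, hS, G.θ_coverMap, ← hS, he₁, hS,
      StData.θ_nbw, ha])
  exact ⟨e₁, a', he₁, by rw [ha']; group⟩

/-- The torus fixed by the twist. -/
theorem twist_fixed [Finite K] (C : G.CoverTorus K) (hW : T.HasWit) (σ : K →+* K) {q : ℕ}
    (hσ : ∀ a, σ a = a ^ q) {L : List (Fin D.rank)} {e : D.SteinbergCover K}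
    {a : Fin D.rank → Kˣ} (he : e⁻¹ * G.coverMap σ e = C.H a * (G.coverData K).nbw L)
    (c : Fin D.rank → Kˣ) :
    G.coverMap σ (e * C.H c * e⁻¹) = e * C.H c * e⁻¹ ↔ c ∈ Tab.Good.twFix T K q L := by
  set S := G.coverData K with hS
  have hσc : (fun i => Units.map σ.toMonoidHom (c i)) = c ^ q :=
    funext fun i => Units.ext (hσ _)
  have hkey : G.coverMap σ (e * C.H c * e⁻¹) =
      e * C.H (mulAct ((q : ℤ) • T.vM L) c) * e⁻¹ := by
    rw [map_mul, map_mul, map_inv, C.coverMap_H, hσc,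
      show G.coverMap σ e = e * (C.H a * S.nbw L) by rw [← he]; group]
    have := C.nbw_conj_H hW L (c ^ q)
    rw [G.mulAct_pow, ← hS] at this
    rw [show e * (C.H a * S.nbw L) * C.H (c ^ q) * (e * (C.H a * S.nbw L))⁻¹ =
      e * (C.H a * (S.nbw L * C.H (c ^ q) * (S.nbw L)⁻¹) * (C.H a)⁻¹) * e⁻¹ by group, this,
      ← map_mul, mul_comm a, map_mul, mul_inv_cancel_right]
  rw [hkey, mul_left_inj, mul_right_inj, C.inj.eq_iff]
  rfl

/-- The centraliser of a regular element of the torus twisted by a Weyl element. -/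
theorem regular_centralizer [Fintype K] (C : G.CoverTorus K) (hW : T.HasWit) (σ : K →+* K) {q : ℕ}
    (hσ : ∀ a, σ a = a ^ q) (hσf : σ.comp f = f) (hfix : ∀ t, σ t = t → ∃ e, f e = t)
    {x : D.group F} {h : GL D.Idx K} (hh : h ∈ D.group K) {c0 : Fin D.rank → Kˣ}
    (hx : glMap D f x = h * T.hT K c0 * h⁻¹)
    (hroot : ∀ s : Fin D.nroots, T.chi (F := K) s.val c0 ≠ 1)
    (hstab : ∀ L', T.hT K (mulAct (T.vM L') c0) = T.hT K c0 → G.full.pw L' = 1)
    {L : List (Fin D.rank)} (hL : T.hT K (mulAct ((q : ℤ) • T.vM L) c0) = T.hT K c0) :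
    ∃ Θ : Tab.Good.twFix T K q L →* ↥(Subgroup.centralizer ({x} : Set (D.group F))),
      Function.Surjective Θ ∧ ∀ c, Θ c = 1 ↔ T.hT K (c : Fin D.rank → Kˣ) = 1 := by
  classical
  set S := G.coverData K with hS
  set t := T.hT K c0 with ht
  obtain ⟨e₁, a, he₁, hey⟩ := G.regular_twist C hW σ hσ (x := glMap D f x)
    (by rw [glMap_comp, hσf]) hh hx hroot hstab hL
  have hfixed := G.twist_fixed C hW σ hσ hey
  have hcentral : ∀ b ∈ D.group K, b * t = t * b → b ∈ D.diagonalSubgroup K := fun b hb hbt =>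
    G.regular_central C hW hroot hstab hb hbt
  let φ : D.group F →* GL D.Idx K := (glMap D f).comp (D.group F).subtype
  have hφinj : Function.Injective φ := (glMap_injective f).comp (Subgroup.subtype_injective _)
  let Θ₀ : Tab.Good.twFix T K q L →* GL D.Idx K :=
    ((MulAut.conj h).toMonoidHom.comp (T.hT K)).comp (Tab.Good.twFix T K q L).subtype
  have hΘ₀ : ∀ c : Tab.Good.twFix T K q L, Θ₀ c = h * T.hT K (c : Fin D.rank → Kˣ) * h⁻¹ :=
    fun c => rfl
  have hmem : ∀ c, ∃ b : ↥(Subgroup.centralizer ({x} : Set (D.group F))),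
      φ (b : D.group F) = Θ₀ c := by
    intro c
    obtain ⟨b, hb, hb'⟩ := G.cover_fixed_descends f C hW σ hσf hfix ((hfixed _).mpr c.2)
    have hφb : φ ⟨b, hb⟩ = Θ₀ c := by
      show glMap D f b = _
      rw [hb', ← hS, map_mul, map_mul, map_inv, he₁, hS, C.θ_H, hΘ₀]
    refine ⟨⟨⟨b, hb⟩, Subgroup.mem_centralizer_singleton_iff.mpr (hφinj ?_)⟩, hφb⟩
    rw [map_mul, map_mul, hφb, show φ x = h * t * h⁻¹ from hx, hΘ₀]
    calc h * T.hT K (c : Fin D.rank → Kˣ) * h⁻¹ * (h * t * h⁻¹)
        = h * (T.hT K (c : Fin D.rank → Kˣ) * t) * h⁻¹ := by group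
      _ = _ := by rw [ht, ← map_mul, mul_comm, map_mul]; group
  choose Θ hΘ using hmem
  refine ⟨MonoidHom.mk' Θ fun c d => Subtype.ext (hφinj ?_), fun b => ?_, fun c => ?_⟩
  · rw [hΘ, map_mul, Subgroup.coe_mul, map_mul, hΘ, hΘ]
  · have hb := congrArg φ (Subgroup.mem_centralizer_singleton_iff.mp b.2)
    rw [map_mul, map_mul, show φ x = h * t * h⁻¹ from hx] at hb
    have hd := hcentral (h⁻¹ * φ b * h)
      (mul_mem (mul_mem (inv_mem hh) (G.glMap_group f b.1.2)) hh) (by
        calc h⁻¹ * φ b * h * t = h⁻¹ * (φ b * (h * t * h⁻¹)) * h := by group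
          _ = t * (h⁻¹ * φ b * h) := by rw [hb]; group)
    rw [G.full.diagonal_eq_range] at hd
    obtain ⟨c1, hc1⟩ := hd
    obtain ⟨eb, heb⟩ : ((b : D.group F) : GL D.Idx F) ∈ (G.coverData F).θ.range := by
      rw [(G.coverData F).θ_range]; exact b.1.2
    have hθb : S.θ (G.coverMap f eb) = φ b := by
      rw [hS, G.θ_coverMap, heb]; rfl
    obtain ⟨c2, hc2⟩ := C.mem_range hW (e := e₁⁻¹ * G.coverMap f eb * e₁) (c := c1) (by
      rw [← hS, map_mul, map_mul, map_inv, hθb, he₁, hc1])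
    have hc2F : c2 ∈ Tab.Good.twFix T K q L := (hfixed c2).mp (by
      rw [hc2, show e₁ * (e₁⁻¹ * G.coverMap f eb * e₁) * e₁⁻¹ = G.coverMap f eb by group,
        coverMap_comp, hσf])
    refine ⟨⟨c2, hc2F⟩, Subtype.ext (hφinj ?_)⟩
    show φ (Θ _ : D.group F) = φ b
    rw [hΘ, hΘ₀, ← C.θ_H, hc2, ← hS, map_mul, map_mul, map_inv, hθb, he₁]
    group
  · show Θ c = 1 ↔ _
    rw [← conj_eq_one_iff (a := h), ← hΘ₀, ← hΘ]
    exact ⟨fun e => by rw [e]; exact map_one φ,
      fun e => Subtype.ext (hφinj (e.trans (map_one φ).symm))⟩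

end Tab.Good

end CfsgLib.Chev
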