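import Cfsg.Agent.Chev.CoxeterFun
import Cfsg.Agent.Chev.DataE7

/-! Coxeter data. -/

set_option autoImplicit false

namespace CfsgLib.Chev

open Cfsg.Lie

theorem cox_E7 : E7Data.tab.chkCoxeter (coxFun CoxeterMatrix.E₇) = true := by decide +kernel

theorem coxElt_E7 : E7Data.tab.chkOrder (List.range 7) 18 = true := by decide +kernel

end CfsgLib.Chev
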