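import Cfsg.Agent.Chev.CoxeterW
import Cfsg.Prelude.Def_LieChev

/-! Coxeter matrices as functions of natural numbers. -/

set_option autoImplicit false

namespace CfsgLib.Chev

open Cfsg.Lie

/-- A Coxeter matrix as a function of natural numbers. -/
def coxFun {l : ℕ} (M : CoxeterMatrix (Fin l)) (i j : ℕ) : ℕ :=
  if h : i < l ∧ j < l then M ⟨i, h.1⟩ ⟨j, h.2⟩ else 0

end CfsgLib.Chev
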