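import Cfsg.Agent.Chev.OrderCheck
import Cfsg.Agent.Chev.PoincareFast
import Cfsg.Agent.Chev.GoodAll
import Cfsg.Agent.Chev.DataE7

/-! Orbit and Smith-form certificates for type E7 (generated). -/

set_option autoImplicit false

namespace CfsgLib.Chev.E7Data

/-- The orbit data. -/
def levels : List (ℕ × List (ℕ × ℕ) × List ℕ) :=
  [(6, [(6, 0), (5, 1), (4, 2), (3, 3), (1, 4), (2, 4), (2, 5), (0, 6), (0, 7), (3, 7), (3, 9), (4, 10), (2, 11), (4, 11), (5, 12), (4, 13), (5, 14), (6, 15), (3, 16), (5, 16), (6, 17), (1, 19), (5, 19), (6, 20), (5, 22), (4, 23), (6, 23), (4, 25), (6, 25), (6, 26), (3, 28), (6, 28), (5, 30), (2, 31), (6, 31), (5, 32), (0, 34), (6, 34), (5, 35), (6, 37), (5, 38), (4, 39), (5, 40), (4, 41), (4, 43), (3, 44), (3, 45), (1, 46), (1, 47), (2, 47), (2, 49), (3, 51), (4, 52), (5, 53), (6, 54)],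
    [0, 1, 2, 3, 4, 5, 5, 6, 6, 7, 7, 8, 8, 9, 9, 9, 10, 10, 10, 11, 11, 11, 12, 12, 12, 13, 13, 13, 14, 14, 14, 15, 15, 15, 16, 16, 16, 17, 17, 17, 18, 18, 18, 19, 19, 20, 20, 21, 21, 22, 22, 23, 24, 25, 26, 27]),
   (5, [(5, 0), (4, 1), (3, 2), (1, 3), (2, 3), (2, 4), (0, 5), (0, 6), (3, 6), (3, 8), (4, 9), (2, 10), (4, 10), (5, 11), (4, 12), (5, 13), (3, 15), (5, 15), (1, 17), (5, 17), (5, 19), (4, 20), (4, 21), (3, 23), (2, 24), (0, 25)],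
    [0, 1, 2, 3, 4, 4, 5, 5, 6, 6, 7, 7, 8, 8, 8, 9, 9, 10, 10, 11, 11, 12, 12, 13, 14, 15, 16]),
   (0, [(0, 0), (2, 1), (3, 2), (1, 3), (4, 3), (4, 4), (3, 6), (2, 7), (0, 8)],
    [0, 1, 2, 3, 4, 4, 5, 6, 7, 8]),
   (4, [(4, 0), (3, 1), (1, 2), (2, 2), (2, 3), (3, 5), (4, 6)],
    [0, 1, 2, 3, 3, 4, 5, 6]),
   (2, [(2, 0), (3, 1), (1, 2)],
    [0, 1, 2, 3]),
   (3, [(3, 0), (1, 1)],
    [0, 1, 2]),
   (1, [(1, 0)],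
    [0, 1])]

/-- The Smith form. -/
def smith : SmithData :=
  ⟨[[-1, 0, 0, 0, 0, 0, 0], [0, -1, 0, 0, 0, 0, 0], [2, -1, 0, 0, 0, -1, 0], [-1, 2, -1, 0, 0, 0, 0], [0, -1, 2, -1, 0, 0, 0], [0, 0, -1, 2, -1, 0, 0], [0, 0, 0, -1, 2, 4, -1]],
   [[-1, 0, 0, 0, 0, 0, 0], [0, -1, 0, 0, 0, 0, 0], [1, -2, 0, -1, 0, 0, 0], [2, -3, 0, -2, -1, 0, 0], [3, -4, 0, -3, -2, -1, 0], [-2, 1, -1, 0, 0, 0, 0], [-4, -1, -4, -4, -3, -2, -1]],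
   [1, 1, 1, 1, 1, 1, 2],
   [[-2, 0, 1, 0, 0, 0, 0], [0, -2, 0, 1, 0, 0, 0], [2, -3, 0, 0, 1, 0, 0], [4, -4, 0, 0, 0, 1, 0], [6, -5, 0, 0, 0, 0, 1], [-3, 2, 0, 0, 0, 0, 0], [-2, 1, 0, 0, 0, 0, 0]],
   [[0, 0, 0, 0, 0, 1, -2], [0, 0, 0, 0, 0, 2, -3], [1, 0, 0, 0, 0, 2, -4], [0, 1, 0, 0, 0, 4, -6], [0, 0, 1, 0, 0, 4, -5], [0, 0, 0, 1, 0, 4, -4], [0, 0, 0, 0, 1, 4, -3]]⟩

set_option linter.style.maxHeartbeats false in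
theorem levels_fast : tab.chkChainF (List.range 7) levels = true := by decide +kernel

theorem levels_ok : tab.chkChain (List.range 7) levels = true :=
  good_E7.chkChain_of_fast _ _ levels_fast

theorem smith_ok : tab.chkSmith smith = true := by decide +kernel

end CfsgLib.Chev.E7Data
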