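import Cfsg.Agent.Chev.OrderCheck
import Cfsg.Agent.Chev.PoincareFast
import Cfsg.Agent.Chev.GoodAll
import Cfsg.Agent.Chev.DataE8

/-! Orbit and Smith-form certificates for type E8 (generated). -/

set_option autoImplicit false

namespace CfsgLib.Chev.E8Data

/-- The orbit data. -/
def levels : List (ℕ × List (ℕ × ℕ) × List ℕ) :=
  [(7, [(7, 0), (6, 1), (5, 2), (4, 3), (3, 4), (1, 5), (2, 5), (2, 6), (0, 7), (0, 8), (3, 8), (3, 10), (4, 11), (2, 12), (4, 12), (5, 13), (4, 14), (5, 15), (6, 16), (3, 17), (5, 17), (6, 18), (7, 19), (1, 20), (5, 20), (6, 21), (7, 22), (5, 24), (4, 25), (6, 25), (7, 26), (4, 28), (6, 28), (6, 29), (7, 30), (3, 32), (6, 32), (7, 33), (5, 34), (7, 34), (2, 36), (6, 36), (5, 37), (7, 37), (7, 39), (0, 41), (6, 41), (5, 42), (7, 42), (7, 43), (6, 45), (6, 46), (5, 47), (7, 47), (4, 48), (7, 48), (6, 50), (5, 52), (7, 52),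 (4, 53), (7, 53), (7, 55), (6, 56), (4, 58), (7, 58), (3, 60), (7, 60), (6, 61), (6, 62), (3, 64), (7, 64), (6, 65), (1, 66), (7, 66), (6, 67), (5, 69), (1, 70), (2, 70), (7, 70), (6, 71), (7, 73), (6, 74), (5, 75), (2, 77), (7, 77), (7, 78), (6, 79), (5, 80), (6, 81), (5, 82), (3, 84), (7, 84), (6, 85), (6, 86), (5, 87), (5, 89), (4, 90), (4, 91), (7, 91), (6, 92), (5, 93), (5, 94), (4, 95), (4, 96), (5, 98), (7, 98), (6, 99), (5, 100), (4, 101), (4, 102), (3, 104), (6, 105), (7, 105), (6, 106), (5, 107), (4, 108), (3, 109), (3, 110), (2, 111), (7, 112), (6, 113), (5, 114), (4, 115), (3, 116), (2, 117), (1, 118), (0, 119), (6, 120), (5, 121), (4, 122), (3, 123), (1, 124), (2, 124), (0, 125), (5, 128), (4, 129), (3, 130), (1, 131), (2, 131), (2, 132), (0, 133), (4, 135), (3, 136), (1, 137), (2, 137), (2, 138), (0, 139), (0, 140), (3, 142), (1, 143),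 (2, 143), (2, 144), (0, 145), (0, 146), (3, 146), (1, 149), (2, 149), (2, 150), (0, 151), (0, 152), (3, 152), (3, 154), (2, 156), (0, 157), (0, 158), (3, 158), (3, 160), (4, 161), (2, 162), (0, 163), (3, 163), (3, 165), (4, 166), (2, 167), (4, 167), (3, 170), (4, 171), (2, 172), (4, 172), (5, 173), (4, 174), (2, 176), (4, 176), (5, 177), (4, 178), (5, 179), (3, 181), (4, 182), (5, 183), (6, 184), (3, 185), (5, 185), (1, 187), (3, 188), (5, 188), (6, 189), (1, 191), (5, 191), (1, 194), (5, 194), (6, 195), (5, 197), (4, 198), (5, 199), (4, 200), (6, 200), (4, 202), (4, 204), (6, 204), (6, 205), (3, 207), (3, 208), (6, 208), (5, 210), (2, 211), (2, 212), (6, 212), (5, 213), (0, 215), (0, 216), (6, 216), (5, 217), (6, 220), (5, 221), (4, 222), (5, 223), (4, 224), (4, 226), (3, 227), (3, 228), (1, 229), (1, 230), (2, 230), (2, 232), (3, 234), (4, 235),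 (5, 236), (6, 237), (7, 238)],
    [0, 1, 2, 3, 4, 5, 6, 6, 7, 7, 8, 8, 9, 9, 10, 10, 10, 11, 11, 11, 12, 12, 12, 12, 13, 13, 13, 13, 14, 14, 14, 14, 15, 15, 15, 15, 16, 16, 16, 16, 16, 17, 17, 17, 17, 17, 18, 18, 18, 18, 18, 18, 19, 19, 19, 19, 19, 19, 20, 20, 20, 20, 20, 20, 21, 21, 21, 21, 21, 21, 22, 22, 22, 22, 22, 22, 22, 23, 23, 23, 23, 23, 23, 23, 24, 24, 24, 24, 24, 24, 24, 25, 25, 25, 25, 25, 25, 25, 26, 26, 26, 26, 26, 26, 26, 27, 27, 27, 27, 27, 27, 27, 28, 28, 28, 28, 28, 28, 28, 28, 29, 29, 29, 29, 29, 29, 29, 29, 30, 30, 30, 30, 30, 30, 30, 31, 31, 31, 31, 31, 31, 31, 32, 32, 32, 32, 32, 32, 32, 33, 33, 33, 33, 33, 33, 33, 34, 34, 34, 34, 34, 34, 34, 35, 35, 35, 35, 35, 35, 35, 36, 36, 36, 36, 36, 36, 37, 37, 37, 37, 37, 37, 38, 38, 38, 38, 38, 38, 39, 39, 39, 39, 39, 39, 40, 40, 40, 40, 40, 41, 41, 41, 41, 41, 42, 42, 42, 42, 43, 43,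 43, 43, 44, 44, 44, 44, 45, 45, 45, 45, 46, 46, 46, 47, 47, 47, 48, 48, 49, 49, 50, 50, 51, 51, 52, 53, 54, 55, 56, 57]),
   (6, [(6, 0), (5, 1), (4, 2), (3, 3), (1, 4), (2, 4), (2, 5), (0, 6), (0, 7), (3, 7), (3, 9), (4, 10), (2, 11), (4, 11), (5, 12), (4, 13), (5, 14), (6, 15), (3, 16), (5, 16), (6, 17), (1, 19), (5, 19), (6, 20), (5, 22), (4, 23), (6, 23), (4, 25), (6, 25), (6, 26), (3, 28), (6, 28), (5, 30), (2, 31), (6, 31), (5, 32), (0, 34), (6, 34), (5, 35), (6, 37), (5, 38), (4, 39), (5, 40), (4, 41), (4, 43), (3, 44), (3, 45), (1, 46), (1, 47), (2, 47), (2, 49), (3, 51), (4, 52), (5, 53), (6, 54)],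
    [0, 1, 2, 3, 4, 5, 5, 6, 6, 7, 7, 8, 8, 9, 9, 9, 10, 10, 10, 11, 11, 11, 12, 12, 12, 13, 13, 13, 14, 14, 14, 15, 15, 15, 16, 16, 16, 17, 17, 17, 18, 18, 18, 19, 19, 20, 20, 21, 21, 22, 22, 23, 24, 25, 26, 27]),
   (5, [(5, 0), (4, 1), (3, 2), (1, 3), (2, 3), (2, 4), (0, 5), (0, 6), (3, 6), (3, 8), (4, 9), (2, 10), (4, 10), (5, 11), (4, 12), (5, 13), (3, 15), (5, 15), (1, 17), (5, 17), (5, 19), (4, 20), (4, 21), (3, 23), (2, 24), (0, 25)],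
    [0, 1, 2, 3, 4, 4, 5, 5, 6, 6, 7, 7, 8, 8, 8, 9, 9, 10, 10, 11, 11, 12, 12, 13, 14, 15, 16]),
   (0, [(0, 0), (2, 1), (3, 2), (1, 3), (4, 3), (4, 4), (3, 6), (2, 7), (0, 8)],
    [0, 1, 2, 3, 4, 4, 5, 6, 7, 8]),
   (4, [(4, 0), (3, 1), (1, 2), (2, 2), (2, 3), (3, 5), (4, 6)],
    [0, 1, 2, 3, 3, 4, 5, 6]),
   (2, [(2, 0), (3, 1), (1, 2)],
    [0, 1, 2, 3]),
   (3, [(3, 0), (1, 1)],
    [0, 1, 2]),
   (1, [(1, 0)],
    [0, 1])]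

/-- The Smith form. -/
def smith : SmithData :=
  ⟨[[-1, 0, 0, 0, 0, 0, 0, 0], [0, -1, 0, 0, 0, 0, 0, 0], [2, -1, 0, 0, 0, 0, -1, 0], [-1, 2, -1, 0, 0, 0, 0, 0], [0, -1, 2, -1, 0, 0, 0, 0], [0, 0, -1, 2, -1, 0, 0, 0], [0, 0, 0, -1, 2, -1, 0, 0], [0, 0, 0, 0, -1, 2, 4, -1]],
   [[-1, 0, 0, 0, 0, 0, 0, 0], [0, -1, 0, 0, 0, 0, 0, 0], [1, -2, 0, -1, 0, 0, 0, 0], [2, -3, 0, -2, -1, 0, 0, 0], [3, -4, 0, -3, -2, -1, 0, 0], [4, -5, 0, -4, -3, -2, -1, 0], [-2, 1, -1, 0, 0, 0, 0, 0], [-3, -2, -4, -5, -4, -3, -2, -1]],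
   [1, 1, 1, 1, 1, 1, 1, 1],
   [[-2, 0, 1, 0, 0, 0, 0, 0], [0, -2, 0, 1, 0, 0, 0, 0], [2, -3, 0, 0, 1, 0, 0, 0], [4, -4, 0, 0, 0, 1, 0, 0], [6, -5, 0, 0, 0, 0, 1, 0], [8, -6, 0, 0, 0, 0, 0, 1], [-3, 2, 0, 0, 0, 0, 0, 0], [-2, 1, 0, 0, 0, 0, 0, 0]],
   [[0, 0, 0, 0, 0, 0, 1, -2], [0, 0, 0, 0, 0, 0, 2, -3], [1, 0, 0, 0, 0, 0, 2, -4], [0, 1, 0, 0, 0, 0, 4, -6], [0, 0, 1, 0, 0, 0, 4, -5], [0, 0, 0, 1, 0, 0, 4, -4], [0, 0, 0, 0, 1, 0, 4, -3], [0, 0, 0, 0, 0, 1, 4, -2]]⟩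

set_option linter.style.maxHeartbeats false in
theorem levels_fast : tab.chkChainF (List.range 8) levels = true := by decide +kernel

theorem levels_ok : tab.chkChain (List.range 8) levels = true :=
  good_E8.chkChain_of_fast _ _ levels_fast

theorem smith_ok : tab.chkSmith smith = true := by decide +kernel

end CfsgLib.Chev.E8Data
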