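import Cfsg.Agent.Chev.OrderCheck
import Cfsg.Agent.Chev.DataG2

/-! Orbit and Smith-form certificates for type G2 (generated). -/

set_option autoImplicit false

namespace CfsgLib.Chev.G2Data

/-- The orbit data. -/
def levels : List (ℕ × List (ℕ × ℕ) × List ℕ) :=
  [(1, [(1, 0), (0, 1), (1, 2), (0, 3), (1, 4)],
    [0, 1, 2, 3, 4, 5]),
   (0, [(0, 0)],
    [0, 1])]

/-- The Smith form. -/
def smith : SmithData :=
  ⟨[[-1, 0], [2, 1]],
   [[-1, 0], [2, 1]],
   [1, 1],
   [[-2, 1], [1, 0]],
   [[0, 1], [1, 2]]⟩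

set_option linter.style.maxHeartbeats false in
theorem levels_ok : tab.chkChain (List.range 2) levels = true := by decide +kernel

theorem smith_ok : tab.chkSmith smith = true := by decide +kernel

end CfsgLib.Chev.G2Data
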