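import Cfsg.Agent.Chev.GoodAll
import Cfsg.Agent.Chev.CoxeterFun
import Cfsg.Agent.Chev.CoxeterE7
import Cfsg.Agent.Chev.CoxeterE8
import Cfsg.Prelude.Def_LieChev
import Cfsg.Agent.Chev.OrdG2
import Cfsg.Agent.Chev.OrdB2
import Cfsg.Agent.Chev.OrdD4
import Cfsg.Agent.Chev.OrdF4
import Cfsg.Agent.Chev.OrdE6
import Cfsg.Agent.Chev.OrdE7
import Cfsg.Agent.Chev.OrdE8

/-! The Coxeter matrices of the tabulated types. -/

set_option autoImplicit false

namespace CfsgLib.Chev

open Cfsg.Lie

theorem cox_G2 : G2Data.tab.chkCoxeter (coxFun CoxeterMatrix.G₂) = true := by decide +kernel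

theorem coxElt_G2 : G2Data.tab.chkOrder (List.range 2) 6 = true := by decide +kernel

theorem weylCard_G2 : (G2Data.levels.map fun l => l.2.2.length).prod = 12 := by decide +kernel

theorem cox_B2 : B2Data.tab.chkCoxeter (coxFun (CoxeterMatrix.B 2)) = true := by decide +kernel

theorem coxElt_B2 : B2Data.tab.chkOrder (List.range 2) 4 = true := by decide +kernel

theorem weylCard_B2 : (B2Data.levels.map fun l => l.2.2.length).prod = 8 := by decide +kernel

theorem cox_D4 : D4Data.tab.chkCoxeter (coxFun coxeterD4) = true := by decide +kernel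

theorem coxElt_D4 : D4Data.tab.chkOrder (List.range 4) 6 = true := by decide +kernel

theorem weylCard_D4 : (D4Data.levels.map fun l => l.2.2.length).prod = 192 := by decide +kernel

theorem cox_F4 : F4Data.tab.chkCoxeter (coxFun CoxeterMatrix.F₄) = true := by decide +kernel

theorem coxElt_F4 : F4Data.tab.chkOrder (List.range 4) 12 = true := by decide +kernel

theorem weylCard_F4 : (F4Data.levels.map fun l => l.2.2.length).prod = 1152 := by decide +kernel

theorem cox_E6 : E6Data.tab.chkCoxeter (coxFun CoxeterMatrix.E₆) = true := by decide +kernel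

theorem coxElt_E6 : E6Data.tab.chkOrder (List.range 6) 12 = true := by decide +kernel

theorem weylCard_E6 : (E6Data.levels.map fun l => l.2.2.length).prod = 51840 := by decide +kernel

theorem weylCard_E7 : (E7Data.levels.map fun l => l.2.2.length).prod = 2903040 := by decide +kernel

theorem weylCard_E8 : (E8Data.levels.map fun l => l.2.2.length).prod = 696729600 := by decide +kernel

end CfsgLib.Chev
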