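import Cfsg.Agent.Chev.CoxeterW

/-!
Orders of words of reflections, checked with packed reflection tables.
-/

set_option autoImplicit false

namespace CfsgLib.Chev

open Cfsg.Lie

/-- One byte of a packed table. -/
def stepTbl (tbl : List ℕ) (i s : ℕ) : ℕ :=
  Nat.mod (Nat.div (tbl.getD i 0) (Nat.pow 256 s)) 256

/-- A word acting through packed tables. -/
def wordTbl (tbl : List ℕ) : List ℕ → ℕ → ℕ
  | [], s => s
  | i :: L, s => stepTbl tbl i (wordTbl tbl L s)

/-- A power of a word acting through packed tables. -/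
def iterTbl (tbl : List ℕ) (L : List ℕ) : ℕ → ℕ → ℕ
  | 0, s => s
  | m + 1, s => wordTbl tbl L (iterTbl tbl L m s)

namespace Tab

variable {D : ChevalleyDatum}

/-- The packed tables are the reflections. -/
def chkTbl (T : Tab D) (tbl : List ℕ) : Bool :=
  allBelow (fun i => allBelow (fun s =>
    Nat.beq (stepTbl tbl i s) (T.reflT i s) && Nat.blt (T.reflT i s) D.nroots) D.nroots) D.rank

/-- The order of a word, through packed tables. -/
def chkOrderTbl (D : ChevalleyDatum) (tbl : List ℕ) (L : List ℕ) (m : ℕ) : Bool :=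
  L.all (fun i => Nat.blt i D.rank) && Nat.blt 0 m &&
    allBelow (fun s => Nat.beq (iterTbl tbl L m s) s) D.nroots &&
    allBelow (fun k => Nat.beq k 0 ||
      (List.range D.nroots).any fun s => !(Nat.beq (iterTbl tbl L k s) s)) m

/-- A Coxeter matrix, through packed tables. -/
def chkCoxTbl (D : ChevalleyDatum) (tbl : List ℕ) (M : ℕ → ℕ → ℕ) : Bool :=
  allBelow (fun i => allBelow (fun j => chkOrderTbl D tbl [i, j] (M i j)) D.rank) D.rank

theorem iterTbl_eq {T : Tab D} {tbl : List ℕ} (h : T.chkTbl tbl = true) {L : List ℕ}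
    (hL : ∀ i ∈ L, i < D.rank) : ∀ (m s : ℕ), s < D.nroots →
      iterTbl tbl L m s = T.iterT L m s ∧ T.iterT L m s < D.nroots := by
  simp only [chkTbl, allBelow_iff, Bool.and_eq_true, Nat.beq_eq, Nat.blt_eq] at h
  have hw : ∀ (M : List ℕ), (∀ i ∈ M, i < D.rank) → ∀ s < D.nroots,
      wordTbl tbl M s = T.wordT M s ∧ T.wordT M s < D.nroots := by
    intro M
    induction M with
    | nil => exact fun _ s hs => ⟨rfl, hs⟩
    | cons i M ih =>
      intro hM s hs
      obtain ⟨e, hlt⟩ := ih (fun a ha => hM a (List.mem_cons_of_mem _ ha)) s hs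
      have := h i (hM i (List.mem_cons_self ..)) _ hlt
      refine ⟨?_, this.2⟩
      show stepTbl tbl i (wordTbl tbl M s) = T.reflT i (T.wordT M s)
      rw [e]
      exact this.1
  intro m
  induction m with
  | zero => exact fun s hs => ⟨rfl, hs⟩
  | succ m ih =>
    intro s hs
    obtain ⟨e, hlt⟩ := ih s hs
    obtain ⟨e', hlt'⟩ := hw L hL _ hlt
    refine ⟨?_, hlt'⟩
    show wordTbl tbl L (iterTbl tbl L m s) = T.wordT L (T.iterT L m s)
    rw [e]
    exact e'

theorem chkOrder_of_tbl {T : Tab D} {tbl : List ℕ} (h : T.chkTbl tbl = true) {L : List ℕ} {m : ℕ}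
    (hm : chkOrderTbl D tbl L m = true) : T.chkOrder L m = true := by
  simp only [chkOrderTbl, Bool.and_eq_true, List.all_eq_true, Nat.blt_eq, allBelow_iff,
    Bool.or_eq_true, List.any_eq_true, List.mem_range, Bool.not_eq_true'] at hm
  obtain ⟨⟨⟨hL, h0⟩, h1⟩, h2⟩ := hm
  simp only [chkOrder, Bool.and_eq_true, Nat.blt_eq, allBelow_iff, Bool.or_eq_true,
    List.any_eq_true, List.mem_range, Bool.not_eq_true']
  refine ⟨⟨h0, fun s hs => ?_⟩, fun k hk => ?_⟩
  · rw [← (iterTbl_eq h hL m s hs).1]; exact h1 s hs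
  · rcases h2 k hk with h3 | ⟨s, hs, h3⟩
    · exact Or.inl h3
    · exact Or.inr ⟨s, hs, by rw [← (iterTbl_eq h hL k s hs).1]; exact h3⟩

theorem chkCoxeter_of_tbl {T : Tab D} {tbl : List ℕ} (h : T.chkTbl tbl = true) {M : ℕ → ℕ → ℕ}
    (hM : chkCoxTbl D tbl M = true) : T.chkCoxeter M = true := by
  simp only [chkCoxTbl, allBelow_iff] at hM
  simp only [chkCoxeter, allBelow_iff]
  exact fun i hi j hj => chkOrder_of_tbl h (hM i hi j hj)

end Tab

end CfsgLib.Chev
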