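import Cfsg.Agent.Chev.D4TwU

/-!
The coordinates `(a, b, c, d, e, f)` of the unipotent subgroup of `³D₄(q)`.
-/

set_option autoImplicit false
set_option linter.style.haveILetI false

namespace CfsgLib.Chev.D4Tw

open Cfsg.Lie Tab
open scoped MatrixGroups

variable {K : Type*} [Field K]

/-- The root elements. -/
local notation "X" => good_D4.full.x (F := K)

theorem P12_zero : P12 (0 : Fin 12 → K) = 1 := by simp [P12, good_D4.full.x_zero]

theorem P12_mem (v : Fin 12 → K) : P12 v ∈ good_D4.US K {r | IsPos chevD4 r} := by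
  have h : ∀ r ∈ [14, 18, 13, 12, 19, 16, 15, 20, 21, 17, 22, 23], ∀ t : K,
      X r t ∈ good_D4.US K {r | IsPos chevD4 r} := fun r hr t => good_D4.x_mem_US (by
    have : r < 24 ∧ 24 ≤ 2 * r := by revert r; decide
    exact this) t
  simp only [P12]
  repeat' first
    | refine mul_mem (h _ (by simp) _) ?_
    | exact h _ (by simp) _

theorem P12_surj {g : GL chevD4.Idx K} (hg : g ∈ good_D4.US K {r | IsPos chevD4 r}) :
    ∃ v, g = P12 v := by
  have hgen : ∀ r, IsPos chevD4 r → ∀ t : K, ∃ v, X r t = P12 v := by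
    intro r hr t
    have hr' : r < 24 ∧ 24 ≤ 2 * r := hr
    obtain ⟨h1, h2⟩ := hr'
    have : r = 14 ∨ r = 18 ∨ r = 13 ∨ r = 12 ∨ r = 19 ∨ r = 16 ∨ r = 15 ∨ r = 20 ∨ r = 21 ∨
        r = 17 ∨ r = 22 ∨ r = 23 := by omega
    rcases this with rfl | rfl | rfl | rfl | rfl | rfl | rfl | rfl | rfl | rfl | rfl | rfl
    exacts [⟨![t, 0, 0, 0, 0, 0, 0, 0, 0, 0, 0, 0], by simp [P12, good_D4.full.x_zero]⟩,
      ⟨![0, t, 0, 0, 0, 0, 0, 0, 0, 0, 0, 0], by simp [P12, good_D4.full.x_zero]⟩,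
      ⟨![0, 0, t, 0, 0, 0, 0, 0, 0, 0, 0, 0], by simp [P12, good_D4.full.x_zero]⟩,
      ⟨![0, 0, 0, t, 0, 0, 0, 0, 0, 0, 0, 0], by simp [P12, good_D4.full.x_zero]⟩,
      ⟨![0, 0, 0, 0, t, 0, 0, 0, 0, 0, 0, 0], by simp [P12, good_D4.full.x_zero]⟩,
      ⟨![0, 0, 0, 0, 0, t, 0, 0, 0, 0, 0, 0], by simp [P12, good_D4.full.x_zero]⟩,
      ⟨![0, 0, 0, 0, 0, 0, t, 0, 0, 0, 0, 0], by simp [P12, good_D4.full.x_zero]⟩,
      ⟨![0, 0, 0, 0, 0, 0, 0, t, 0, 0, 0, 0], by simp [P12, good_D4.full.x_zero]⟩,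
      ⟨![0, 0, 0, 0, 0, 0, 0, 0, t, 0, 0, 0], by simp [P12, good_D4.full.x_zero]⟩,
      ⟨![0, 0, 0, 0, 0, 0, 0, 0, 0, t, 0, 0], by simp [P12, good_D4.full.x_zero]⟩,
      ⟨![0, 0, 0, 0, 0, 0, 0, 0, 0, 0, t, 0], by simp [P12, good_D4.full.x_zero]⟩,
      ⟨![0, 0, 0, 0, 0, 0, 0, 0, 0, 0, 0, t], by simp [P12, good_D4.full.x_zero]⟩]
  induction hg using Subgroup.closure_induction_right with
  | one => exact ⟨0, P12_zero.symm⟩
  | mul_right x _ y hy ih =>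
    obtain ⟨v, rfl⟩ := ih
    obtain ⟨r, hr, t, rfl⟩ := hy
    obtain ⟨w, hw⟩ := hgen r hr t
    exact ⟨_, (congrArg (P12 v * ·) hw).trans (P12_mul v w)⟩
  | mul_inv_cancel x _ y hy ih =>
    obtain ⟨v, rfl⟩ := ih
    obtain ⟨r, hr, t, rfl⟩ := hy
    obtain ⟨w, hw⟩ := hgen r hr (-t)
    refine ⟨p12Mul v w, ?_⟩
    rw [good_D4.full.x_inv, hw, P12_mul]

theorem P12_inj [Finite K] {v w : Fin 12 → K} (h : P12 v = P12 w) : v = w := by
  haveI := Fintype.ofFinite K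
  let f : (Fin 12 → K) → good_D4.US K {r | IsPos chevD4 r} := fun v => ⟨_, P12_mem v⟩
  have hs : Function.Surjective f := fun ⟨g, hg⟩ => by
    obtain ⟨v, e⟩ := P12_surj hg
    exact ⟨v, Subtype.ext e.symm⟩
  have hc : Nat.card (Fin 12 → K) = Nat.card (good_D4.US K {r | IsPos chevD4 r}) := by
    rw [good_D4.card_US good_D4.closed_pos, good_D4.card_pos,
      show chevD4.nroots / 2 = 12 from rfl, Nat.card_fun, Nat.card_eq_fintype_card (α := Fin 12),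
      Fintype.card_fin]
  exact ((Nat.bijective_iff_surjective_and_card f).mpr ⟨hs, hc⟩).1 (Subtype.ext h)

namespace Ctx

variable [Fintype K] {q : ℕ} (C : Ctx K q)
include C

theorem A_root' {r b : ℕ} {s : ℤ} (hr : r < 24) (h : mapAt graphMapD4a r = (b, s, 1)) (y : K) :
    C.Φ.A (X r y) = X b ((s : K) * C.φ y) := by
  rw [show r = (⟨r, hr⟩ : Fin chevD4.nroots).val from rfl, C.Φ.A_x, C.hπ, C.hf, h, pow_one, map_mul,
    map_intCast]

omit [Fintype K] C in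
theorem graphMap_vals : mapAt graphMapD4a 14 = (14, 1, 1) ∧ mapAt graphMapD4a 18 = (13, 1, 1) ∧
    mapAt graphMapD4a 13 = (12, 1, 1) ∧ mapAt graphMapD4a 12 = (18, 1, 1) ∧
    mapAt graphMapD4a 19 = (16, -1, 1) ∧ mapAt graphMapD4a 16 = (15, 1, 1) ∧
    mapAt graphMapD4a 15 = (19, -1, 1) ∧ mapAt graphMapD4a 20 = (21, 1, 1) ∧
    mapAt graphMapD4a 21 = (17, -1, 1) ∧ mapAt graphMapD4a 17 = (20, -1, 1) ∧
    mapAt graphMapD4a 22 = (22, 1, 1) ∧ mapAt graphMapD4a 23 = (23, 1, 1) := by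
  decide +kernel

theorem A_P12 (v : Fin 12 → K) : C.Φ.A (P12 v) = P12 ![C.φ (v 0), C.φ (v 3), C.φ (v 1), C.φ (v 2),
    -C.φ (v 6), -C.φ (v 4), C.φ (v 5), -C.φ (v 9), C.φ (v 7), -C.φ (v 8), C.φ (v 10),
    C.φ (v 11)] := by
  have g : ∀ r (t : K), X r t ∈ chevD4.group K := fun r t => good_D4.x_mem_group r t
  obtain ⟨m1, m2, m3, m4, m5, m6, m7, m8, m9, m10, m11, m12⟩ := graphMap_vals
  simp only [P12]
  simp (discharger := repeat' first | exact g _ _ | refine mul_mem (g _ _) ?_) only [C.Φ.A_mul]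
  rw [C.A_root' (by decide) m1, C.A_root' (by decide) m2, C.A_root' (by decide) m3,
    C.A_root' (by decide) m4, C.A_root' (by decide) m5, C.A_root' (by decide) m6,
    C.A_root' (by decide) m7, C.A_root' (by decide) m8, C.A_root' (by decide) m9,
    C.A_root' (by decide) m10, C.A_root' (by decide) m11, C.A_root' (by decide) m12]
  refine mul_right_cancel (b := 1) ?_
  simp only [mul_assoc, merge, m_18_14, m_13_14, m_12_14, m_22_14, m_16_18, m_15_18, m_17_18, m_19_13, m_15_13, m_20_13, m_19_12, m_16_12, m_21_12, m_17_19, m_20_16, m_21_15, s_19_14, s_16_14, s_15_14, s_20_14, s_21_14, s_17_14, s_23_14, s_13_18, s_12_18, s_19_18, s_20_18, s_21_18, s_22_18, s_23_18, s_12_13, s_16_13, s_21_13, s_17_13, s_22_13, s_23_13, s_15_12, s_20_12, s_17_12, s_22_12, s_23_12, s_16_19, s_15_19, s_20_19, s_21_19, s_22_19, s_23_19, s_15_16, s_21_16, s_17_16, s_22_16, s_23_16, s_20_15, s_17_15, s_22_15, s_23_15,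 s_21_20, s_17_20, s_22_20, s_23_20, s_17_21, s_22_21, s_23_21, s_22_17, s_23_17, s_23_22]
  simp

/-- The coordinates of the unipotent subgroup. -/
def UC (C : Ctx K q) (a b c d e f : K) : GL chevD4.Idx K :=
  P12 ![a, b, C.φ b, C.φ (C.φ b), c, -C.φ c, -C.φ (C.φ c), d, C.φ d, -C.φ (C.φ d), e, f]

theorem φ_cube (x : K) : C.φ (C.φ (C.φ x)) = x := by simp only [C.hφ, C.pow_qqq]

theorem UC_mem_fix {a e f : K} (ha : C.φ a = a) (he : C.φ e = e) (hf : C.φ f = f) (b c d : K) :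
    C.UC a b c d e f ∈ C.Φ.Fix ⊓ good_D4.US K {r | IsPos chevD4 r} := by
  refine Subgroup.mem_inf.mpr ⟨⟨good_D4.US_le_group _ (P12_mem _), ?_⟩, P12_mem _⟩
  rw [UC, C.A_P12]
  congr 1
  funext i
  fin_cases i <;> simp [ha, he, hf, C.φ_cube]

theorem mem_U1 {g : GL chevD4.Idx K} : g ∈ C.Z.U1 ↔
    ∃ a b c d e f, C.φ a = a ∧ C.φ e = e ∧ C.φ f = f ∧ g = C.UC a b c d e f := by
  rw [Good.Twisted.U1, good_D4.posUnipotent_eq]
  constructor
  · intro h
    obtain ⟨hfix, hpos⟩ := Subgroup.mem_inf.mp h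
    obtain ⟨v, rfl⟩ := P12_surj hpos
    have e := P12_inj ((C.A_P12 v).symm.trans hfix.2)
    have e0 : C.φ (v 0) = v 0 := congrFun e 0
    have e2 : C.φ (v 1) = v 2 := congrFun e 2
    have e3 : C.φ (v 2) = v 3 := congrFun e 3
    have e5 : -C.φ (v 4) = v 5 := congrFun e 5
    have e6 : C.φ (v 5) = v 6 := congrFun e 6
    have e8 : C.φ (v 7) = v 8 := congrFun e 8
    have e9 : -C.φ (v 8) = v 9 := congrFun e 9
    have e10 : C.φ (v 10) = v 10 := congrFun e 10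
    have e11 : C.φ (v 11) = v 11 := congrFun e 11
    refine ⟨v 0, v 1, v 4, v 7, v 10, v 11, e0, e10, e11, congrArg P12 (funext fun i => ?_)⟩
    fin_cases i <;> simp [e2, e3, ← e5, ← e6, e8, ← e9, map_neg]
  · rintro ⟨a, b, c, d, e, f, ha, he, hf, rfl⟩
    exact C.UC_mem_fix ha he hf b c d

theorem UC_inj {a b c d e f a' b' c' d' e' f' : K}
    (h : C.UC a b c d e f = C.UC a' b' c' d' e' f') :
    a = a' ∧ b = b' ∧ c = c' ∧ d = d' ∧ e = e' ∧ f = f' := by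
  have e := P12_inj h
  exact ⟨congrFun e 0, congrFun e 1, congrFun e 4, congrFun e 7, congrFun e 10, congrFun e 11⟩

theorem UC_zero : C.UC 0 0 0 0 0 0 = 1 := by
  rw [← P12_zero, UC]
  congr 1
  funext i
  fin_cases i <;> simp

/-- The third coordinate of a product. -/
def mulD (C : Ctx K q) (b c d a' b' d' : K) : K :=
  d + d' + a' * b * (C.φ (C.φ (b + b'))) + a' * b' * C.φ (C.φ b) - C.φ (C.φ b') * c -
    b' * C.φ (C.φ c)

/-- The fifth coordinate of a product. -/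
def mulE (C : Ctx K q) (b c d e a' b' e' : K) : K :=
  e + e' - a' * (b * C.φ (b + b') * C.φ (C.φ (b + b')) + b' * C.φ b * C.φ (C.φ (b + b')) +
      b' * C.φ b' * C.φ (C.φ b)) +
    (c * C.φ b' * C.φ (C.φ b') + b' * C.φ c * C.φ (C.φ b') + b' * C.φ b' * C.φ (C.φ c)) -
    (C.φ b' * d + C.φ (C.φ b') * C.φ d + b' * C.φ (C.φ d))

/-- The last coordinate of a product. -/
def mulF (C : Ctx K q) (b c d e f a' b' c' f' : K) : K :=
  (a' * C.φ b + (-C.φ c + -C.φ c')) * (C.φ (C.φ (b + b')) * (a' * b)) +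
    (a' * C.φ (C.φ b) + (-C.φ (C.φ c) + -C.φ (C.φ c'))) * (C.φ (b + b') * (a' * b)) -
    (c + c') * (C.φ (C.φ (b + b')) * (a' * C.φ b)) +
    (a' * C.φ (C.φ b) + (-C.φ (C.φ c) + -C.φ (C.φ c'))) * (b' * (a' * C.φ b)) -
    (c + c') * (C.φ b' * (a' * C.φ (C.φ b))) +
    (-C.φ c + -C.φ c') * (b' * (a' * C.φ (C.φ b))) -
    (-C.φ c + -C.φ c') * (C.φ (C.φ b') * c) -
    (-C.φ (C.φ c) + -C.φ (C.φ c')) * (C.φ b' * c) - c' * (C.φ (C.φ b') * -C.φ c) +
    (-C.φ (C.φ c) + -C.φ (C.φ c')) * (b' * -C.φ c) - c' * (C.φ b' * -C.φ (C.φ c)) +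
    -C.φ c' * (b' * -C.φ (C.φ c)) + -C.φ c' * d + -C.φ (C.φ c') * C.φ d +
    c' * -C.φ (C.φ d) - a' * e + f + f'

/-- The multiplication of the unipotent coordinates. -/
theorem UC_mul {a' : K} (ha' : C.φ a' = a') (a b c d e f b' c' d' e' f' : K) :
    C.UC a b c d e f * C.UC a' b' c' d' e' f' =
      C.UC (a + a') (b + b') (c + c' - a' * b) (C.mulD b c d a' b' d') (C.mulE b c d e a' b' e')
        (C.mulF b c d e f a' b' c' f') := by
  rw [UC, UC, P12_mul, UC]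
  congr 1
  funext i
  fin_cases i <;> simp [p12Mul, mulD, mulE, mulF, ha', C.φ_cube] <;> ring

end Ctx

end CfsgLib.Chev.D4Tw
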