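import Cfsg.Agent.Chev.D4TwInvol
import Mathlib.RingTheory.IntegralDomain
import Mathlib.RingTheory.LittleWedderburn

/-!
Facts on a generator of the multiplicative group of the field of `q ^ 3` elements.
-/

set_option autoImplicit false

namespace CfsgLib.Chev.D4Tw

variable {K : Type*} [Field K] [Fintype K]

/-- An endomorphism of a finite field is a power of the Frobenius map. -/
theorem exists_endo_pow (p f : ℕ) [Fact p.Prime] [CharP K p] (hf : Fintype.card K = p ^ f)
    (σ : K →+* K) : ∃ j < f, ∀ x, σ x = x ^ p ^ j := by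
  letI := ZMod.algebra K p
  let A : K →ₐ[ZMod p] K :=
    { σ with
      commutes' := fun r => congrFun
        (congrArg DFunLike.coe (Subsingleton.elim (σ.comp (algebraMap (ZMod p) K))
          (algebraMap (ZMod p) K))) r }
  obtain ⟨⟨j, hj⟩, e⟩ := (FiniteField.bijective_frobeniusAlgHom_pow (ZMod p) K).2 A
  have hrank : Module.finrank (ZMod p) K = f := by
    have h := Module.card_eq_pow_finrank (K := ZMod p) (V := K)
    rw [hf, ZMod.card] at h
    exact (Nat.pow_right_injective (Fact.out : p.Prime).two_le h).symm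
  refine ⟨j, hrank ▸ hj, fun x => ?_⟩
  have := AlgHom.congr_fun e x
  simp only [AlgHom.coe_pow, FiniteField.coe_frobeniusAlgHom, pow_iterate, ZMod.card] at this
  exact this.symm

variable {t : Kˣ} (ht : ∀ x : Kˣ, x ∈ Subgroup.zpowers t) {q : ℕ} (hq : IsPrimePow q)
  (hK : Fintype.card K = q ^ 3)
include ht hq hK

theorem orderOf_gen : orderOf t = q ^ 3 - 1 := by
  rw [orderOf_eq_card_of_forall_mem_zpowers ht, units_card hK]

theorem gen_pow_ne_one {n : ℕ} (h0 : n ≠ 0) (h : n < q ^ 3 - 1) : (t : K) ^ n ≠ 1 := by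
  intro e
  rw [← Units.val_pow_eq_pow_val, Units.val_eq_one, ← orderOf_dvd_iff_pow_eq_one,
    orderOf_gen ht hq hK] at e
  exact absurd (Nat.le_of_dvd (Nat.pos_of_ne_zero h0) e) (not_le.mpr h)

omit ht in
theorem four_le_cube : 8 ≤ q ^ 3 :=
  (Nat.pow_le_pow_left hq.two_le 3)

/-- The square of a generator generates the field. -/
theorem closure_sq {R : Subring K} (h : (t : K) ^ 2 ∈ R) : R = ⊤ := by
  classical
  by_contra hR
  letI : Fintype R := Fintype.ofFinite R
  letI : Field R := Fintype.fieldOfDomain R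
  set r := Fintype.card R
  have h2 : 2 ≤ r := Fintype.one_lt_card
  have hlt : 2 * r ≤ q ^ 3 := by
    have hd : r ∣ q ^ 3 := by
      rw [← hK, ← Nat.card_eq_fintype_card, show r = Nat.card R.toAddSubgroup from
        Nat.card_eq_fintype_card.symm]
      exact AddSubgroup.card_addSubgroup_dvd_card R.toAddSubgroup
    obtain ⟨k, hk⟩ := hd
    have hk1 : k ≠ 1 := by
      rintro rfl
      refine hR (eq_top_iff.mpr fun x _ => ?_)
      have hb : Function.Bijective (Subtype.val : R → K) :=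
        (Fintype.bijective_iff_injective_and_card _).mpr
          ⟨Subtype.val_injective, by rw [hK, hk, mul_one]⟩
      obtain ⟨⟨y, hy⟩, rfl⟩ := hb.2 x
      exact hy
    have hk0 : k ≠ 0 := by
      rintro rfl
      simp [hq.ne_zero] at hk
    rw [hk, mul_comm 2 r]
    exact Nat.mul_le_mul_left r (by omega)
  have e : (⟨_, h⟩ : R) ^ r = ⟨_, h⟩ := FiniteField.pow_card _
  have e' : ((t : K) ^ 2) ^ r = (t : K) ^ 2 := congrArg (fun x : R => (x : K)) e
  refine gen_pow_ne_one ht hq hK (n := 2 * (r - 1)) (by omega) (by omega) ?_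
  refine mul_left_cancel₀ (pow_ne_zero 2 (Units.ne_zero t)) ?_
  rw [mul_one, ← pow_add, show 2 + 2 * (r - 1) = 2 * r by omega, pow_mul]
  exact e'

omit ht hq hK in
/-- A subring of a finite field contains the inverses. -/
theorem inv_mem_subring (R : Subring K) {x : K} (h : x⁻¹ ∈ R) : x ∈ R := by
  by_cases hx : x = 0
  · rw [hx]; exact R.zero_mem
  have : x = x⁻¹ ^ (Fintype.card K - 2) := by
    have h2 : 2 ≤ Fintype.card K := Fintype.one_lt_card
    have e := FiniteField.pow_card_sub_one_eq_one x⁻¹ (inv_ne_zero hx)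
    rw [show Fintype.card K - 1 = Fintype.card K - 2 + 1 by omega, pow_succ,
      mul_inv_eq_one₀ hx] at e
    exact e.symm
  rw [this]
  exact pow_mem h _

/-- The fixed field is generated by the norm of a generator. -/
theorem fixed_mem_closure {R : Subring K} {φ : K →+* K} (hφ : ∀ x, φ x = x ^ q)
    (h : (t : K) * φ t * φ (φ t) ∈ R) {x : K} (hx : φ x = x) : x ∈ R := by
  by_cases h0 : x = 0
  · rw [h0]; exact R.zero_mem
  obtain ⟨i, hi : t ^ i = Units.mk0 x h0⟩ := mem_powers_iff_mem_zpowers.mpr (ht (Units.mk0 x h0))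
  have ex : x = (t : K) ^ i := by
    have := congrArg (fun u : Kˣ => (u : K)) hi
    simpa using this.symm
  obtain ⟨r, rfl⟩ : ∃ r, q = r + 1 := ⟨q - 1, by have := hq.pos; omega⟩
  have h1 : ((t : K) ^ i) ^ r = 1 := by
    refine mul_right_cancel₀ (pow_ne_zero i (Units.ne_zero t)) ?_
    rw [one_mul, ← pow_succ, ← ex, ← hφ, hx]
  rw [← pow_mul, ← Units.val_pow_eq_pow_val, Units.val_eq_one, ← orderOf_dvd_iff_pow_eq_one,
    orderOf_gen ht hq hK] at h1
  have hr : (r + 1) ^ 3 - 1 = r * (1 + (r + 1) + (r + 1) * (r + 1)) := by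
    have : (r + 1) ^ 3 = r * (1 + (r + 1) + (r + 1) * (r + 1)) + 1 := by ring
    omega
  have hr0 : 0 < r := by have := hq.two_le; omega
  rw [hr, mul_comm i r] at h1
  obtain ⟨k, rfl⟩ := Nat.dvd_of_mul_dvd_mul_left hr0 h1
  rw [ex, pow_mul]
  refine pow_mem ?_ k
  rw [hφ, hφ, ← pow_mul] at h
  rwa [pow_add, pow_add, pow_one]

/-- No endomorphism inverts the square of a generator. -/
theorem endo_sq_ne_inv (σ : K →+* K) : σ ((t : K) ^ 2) ≠ ((t : K) ^ 2)⁻¹ := by
  obtain ⟨p, f, hp, hf, hpq⟩ := hq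
  haveI : Fact p.Prime := ⟨hp.nat_prime⟩
  have hK' : Fintype.card K = p ^ (f * 3) := by rw [hK, ← hpq, pow_mul]
  haveI : CharP K p := by
    obtain ⟨p', hc⟩ := CharP.exists K
    obtain ⟨n, hp', hn⟩ := FiniteField.card K p'
    have : p = p' := (Nat.prime_dvd_prime_iff_eq hp.nat_prime hp').mp
      (hp.nat_prime.dvd_of_dvd_pow (show p ∣ p' ^ (n : ℕ) by
        rw [← hn, hK']; exact dvd_pow_self p (by omega)))
    exact this ▸ hc
  obtain ⟨j, hj, e⟩ := exists_endo_pow p (f * 3) hK' σ
  intro h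
  rw [e] at h
  have h1 : (t : K) ^ (2 * (p ^ j + 1)) = 1 := by
    rw [pow_mul, pow_add, pow_one, h]
    exact inv_mul_cancel₀ (pow_ne_zero 2 (Units.ne_zero t))
  rw [← Units.val_pow_eq_pow_val, Units.val_eq_one, ← orderOf_dvd_iff_pow_eq_one,
    orderOf_gen ht ⟨p, f, hp, hf, hpq⟩ hK] at h1
  have hle : p * p ^ j ≤ q ^ 3 := by
    rw [← pow_succ', ← hpq, ← pow_mul]
    exact Nat.pow_le_pow_right hp.nat_prime.pos hj
  have h8 : 8 ≤ q ^ 3 := four_le_cube ⟨p, f, hp, hf, hpq⟩ hK
  rcases hp.nat_prime.eq_two_or_odd' with rfl | hodd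
  · have hcop : Nat.Coprime (q ^ 3 - 1) 2 := by
      refine (Nat.coprime_two_right).mpr ?_
      have : 2 ∣ q ^ 3 := dvd_pow (hpq ▸ dvd_pow_self 2 hf.ne') three_ne_zero
      exact Nat.odd_iff.mpr (by omega)
    have := Nat.le_of_dvd (by positivity) (hcop.dvd_of_dvd_mul_left h1)
    omega
  · have h3 : 3 ≤ p := by
      have := hp.nat_prime.two_le
      obtain ⟨k, rfl⟩ := hodd
      omega
    have hq3 : 27 ≤ q ^ 3 := by
      have : 3 ≤ q := by
        rw [← hpq]; exact h3.trans (Nat.le_self_pow hf.ne' p)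
      exact le_trans (by norm_num) (Nat.pow_le_pow_left this 3)
    have := Nat.le_of_dvd (by positivity) h1
    have := Nat.mul_le_mul_right (p ^ j) h3
    omega

omit ht hq hK in
/-- An additive subgroup stable under a scalar, containing a non-zero fixed element. -/
theorem smul_closure_mem {M : AddSubgroup K} {α : K} (hM : ∀ v ∈ M, α * v ∈ M) {v : K}
    (hv : v ∈ M) {r : K} (hr : r ∈ Subring.closure {α}) : r * v ∈ M := by
  revert v
  induction hr using Subring.closure_induction with
  | mem x hx => intro v hv; rw [Set.mem_singleton_iff.mp hx]; exact hM v hv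
  | zero => intro v _; rw [zero_mul]; exact M.zero_mem
  | one => intro v hv; rwa [one_mul]
  | add x y _ _ h1 h2 => intro v hv; rw [add_mul]; exact M.add_mem (h1 hv) (h2 hv)
  | neg x _ h1 => intro v hv; rw [neg_mul]; exact M.neg_mem (h1 hv)
  | mul x y _ _ h1 h2 => intro v hv; rw [mul_assoc]; exact h1 (h2 hv)

omit ht hq hK in
/-- An additive subgroup of `K × K` stable under two unrelated scalars. -/
theorem pair_eq_top {M : AddSubgroup (K × K)} {α β : K}
    (hM : ∀ v ∈ M, (α * v.1, β * v.2) ∈ M) (hα : Subring.closure {α} = ⊤)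
    (hβ : Subring.closure {β} = ⊤) (hne : ∀ σ : K →+* K, σ α ≠ β) {y z : K} (hy : y ≠ 0)
    (hz : z ≠ 0) (hyz : (y, z) ∈ M) : M = ⊤ := by
  set R := Subring.closure ({(α, β)} : Set (K × K))
  have hR : ∀ r ∈ R, ∀ v ∈ M, r * v ∈ M := by
    intro r hr
    induction hr using Subring.closure_induction with
    | mem x hx => intro v hv; rw [Set.mem_singleton_iff.mp hx]; exact hM v hv
    | zero => intro v _; rw [zero_mul]; exact M.zero_mem
    | one => intro v hv; rwa [one_mul]
    | add x y _ _ h1 h2 => intro v hv; rw [add_mul]; exact M.add_mem (h1 v hv) (h2 v hv)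
    | neg x _ h1 => intro v hv; rw [neg_mul]; exact M.neg_mem (h1 v hv)
    | mul x y _ _ h1 h2 => intro v hv; rw [mul_assoc]; exact h1 _ (h2 v hv)
  have hproj : ∀ (f : K × K →+* K) (c : K), f (α, β) = c → Subring.closure {c} = ⊤ →
      ∀ x, ∃ r ∈ R, f r = x := by
    intro f c e hc x
    have : R.map f = ⊤ := by rw [RingHom.map_closure, Set.image_singleton, e, hc]
    exact Subring.mem_map.mp (this ▸ Subring.mem_top x)
  have h1 := hproj (RingHom.fst K K) α rfl hα
  have h2 := hproj (RingHom.snd K K) β rfl hβ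
  obtain ⟨w, hw, hw0⟩ : ∃ w, (0, w) ∈ R ∧ w ≠ 0 := by
    by_contra hcon
    simp only [not_exists, not_and, not_not] at hcon
    let g : R →+* K := (RingHom.fst K K).comp R.subtype
    have hg : Function.Bijective g := by
      refine ⟨(injective_iff_map_eq_zero g).mpr ?_, fun x => ?_⟩
      · rintro ⟨⟨a, b⟩, hab⟩ (e : a = 0)
        subst e
        exact Subtype.ext (Prod.ext rfl (hcon b hab))
      · obtain ⟨r, hr, e⟩ := h1 x
        exact ⟨⟨r, hr⟩, e⟩
    let e := RingEquiv.ofBijective g hg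
    refine hne (((RingHom.snd K K).comp R.subtype).comp e.symm.toRingHom) ?_
    have : e.symm α = ⟨(α, β), Subring.subset_closure rfl⟩ := by
      rw [RingEquiv.symm_apply_eq]; rfl
    show (RingHom.snd K K) ((e.symm α : R) : K × K) = β
    rw [this]; rfl
  have hzero : ∀ x : K, (0, x) ∈ M := by
    intro x
    obtain ⟨r, hr, e⟩ := h2 (x / (w * z))
    have h : (0, w * z) ∈ M := by simpa using hR _ hw _ hyz
    have := hR r hr _ h
    rw [RingHom.coe_snd] at e
    simpa [Prod.mul_def, e, div_mul_cancel₀ x (mul_ne_zero hw0 hz)] using this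
  refine eq_top_iff.mpr fun v _ => ?_
  obtain ⟨r, hr, e⟩ := h1 (v.1 / y)
  have hmem := hR r hr _ hyz
  have := M.add_mem hmem (hzero (v.2 - r.2 * z))
  rw [RingHom.coe_fst] at e
  simpa [Prod.mul_def, e, div_mul_cancel₀ v.1 hy] using this

end CfsgLib.Chev.D4Tw
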