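import Cfsg.Agent.Chev.D4TwField

/-!
`³D₄(q)` is generated by two elements.
-/

set_option autoImplicit false
set_option linter.style.haveILetI false
set_option linter.unusedSectionVars false

namespace CfsgLib.Chev.D4Tw

open Cfsg.Lie Tab
open scoped MatrixGroups

variable {K : Type*} [Field K] [Fintype K]

/-- The root elements. -/
local notation "X" => good_D4.full.x (F := K)

theorem chiTab : ∀ i : Fin 4,
    D4Data.tab.cart i 14 = (![-1, 2, -1, -1] : Fin 4 → ℤ) i ∧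
    D4Data.tab.cart i 9 = (![1, -2, 1, 1] : Fin 4 → ℤ) i ∧
    D4Data.tab.cart i 22 = (![1, -1, 1, 1] : Fin 4 → ℤ) i ∧
    D4Data.tab.cart i 1 = (![-1, 1, -1, -1] : Fin 4 → ℤ) i ∧
    D4Data.tab.cart i 23 = (![0, 1, 0, 0] : Fin 4 → ℤ) i ∧
    D4Data.tab.cart i 19 = (![1, 1, -1, -1] : Fin 4 → ℤ) i ∧
    D4Data.tab.cart i 20 = (![1, 0, -1, 1] : Fin 4 → ℤ) i := by
  decide +kernel

theorem pwTab' : D4Data.tab.wordT [1] 9 = 14 ∧ D4Data.tab.wordT [1] 14 = 9 ∧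
    D4Data.tab.wordT [1] 1 = 0 ∧ D4Data.tab.wordT [0, 2, 3] 9 = 1 ∧
    D4Data.tab.wordT [0, 2, 3] 0 = 0 ∧ D4Data.tab.wordT [0, 2, 3] 18 = 5 ∧
    D4Data.tab.wordT [0, 2, 3] 13 = 10 ∧ D4Data.tab.wordT [0, 2, 3] 12 = 11 ∧
    D4Data.tab.wordT [0, 2, 3] 5 = 18 ∧ D4Data.tab.wordT [0, 2, 3] 10 = 13 ∧
    D4Data.tab.wordT [0, 2, 3] 11 = 12 := by
  decide +kernel

theorem commTab : (∀ a ∈ [18, 13, 12], ∀ b ∈ [9, 0],
      b ≠ a ∧ b ≠ negR chevD4 a ∧ D4Data.tab.commT a b = []) ∧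
    ((14 : ℕ) ≠ 0 ∧ 14 ≠ negR chevD4 0 ∧ D4Data.tab.commT 0 14 = [(1, 1, 1, 1)]) ∧
    mapAt graphMapD4a 14 = (14, 1, 1) ∧ mapAt graphMapD4a 22 = (22, 1, 1) ∧
    mapAt graphMapD4a 9 = (9, 1, 1) ∧ mapAt graphMapD4a 0 = (0, 1, 1) := by
  decide +kernel

namespace Ctx

variable {q : ℕ} (C : Ctx K q)
include C

/-- The scalar by which a Weyl element acts on a root group. -/
theorem conj_X (J : Fin C.Z.nJ) {r r' : ℕ} (hr : r < 24)
    (h : D4Data.tab.wordT (orbs.getD J []) r = r') :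
    ∃ k : K, k ≠ 0 ∧ ∀ v : K, C.Z.n J * X r v * (C.Z.n J)⁻¹ = X r' (k * v) := by
  obtain ⟨c, hc⟩ := C.Z.n_act J
  refine ⟨(c ⟨r, hr⟩ : K), Units.ne_zero _, fun v => ?_⟩
  refine ((hc ⟨r, hr⟩).2.2.2 v).trans ?_
  congr 1
  rw [good_D4.pw_apply, ← h]
  congr 1
  exact C.A.spec.map_word J

/-- The representative of the Coxeter element. -/
noncomputable def nW (C : Ctx K q) : GL chevD4.Idx K := C.Z.n C.J1 * C.Z.n C.J0

theorem nW_conj {r r₁ r' : ℕ} (hr : r < 24) (hr₁ : r₁ < 24)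
    (h₀ : D4Data.tab.wordT [1] r = r₁) (h₁ : D4Data.tab.wordT [0, 2, 3] r₁ = r') :
    ∃ k : K, k ≠ 0 ∧ ∀ v : K, C.nW * X r v * C.nW⁻¹ = X r' (k * v) := by
  obtain ⟨k, hk, e⟩ := C.conj_X C.J0 hr (show D4Data.tab.wordT (orbs.getD (C.J0 : ℕ) []) r = r₁ by
    rw [C.getD_J0, h₀])
  obtain ⟨l, hl, e'⟩ := C.conj_X C.J1 hr₁
    (show D4Data.tab.wordT (orbs.getD (C.J1 : ℕ) []) r₁ = r' by rw [C.getD_J1, h₁])
  refine ⟨l * k, mul_ne_zero hl hk, fun v => ?_⟩
  rw [mul_assoc l k v, ← e', ← e, nW]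
  group

theorem nW_back {r r₁ r' : ℕ} (hr : r < 24) (hr₁ : r₁ < 24)
    (h₀ : D4Data.tab.wordT [1] r = r₁) (h₁ : D4Data.tab.wordT [0, 2, 3] r₁ = r') :
    ∃ k : K, k ≠ 0 ∧ ∀ v : K, C.nW⁻¹ * X r' v * C.nW = X r (k * v) := by
  obtain ⟨k, hk, e⟩ := C.nW_conj hr hr₁ h₀ h₁
  refine ⟨k⁻¹, inv_ne_zero hk, fun v => ?_⟩
  have := e (k⁻¹ * v)
  rw [← mul_assoc k, mul_inv_cancel₀ hk, one_mul] at this
  rw [← this]
  group

/-- The second generator. -/
noncomputable def genB (C : Ctx K q) : GL chevD4.Idx K := C.nW * C.UC 0 1 0 0 0 0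

/-- The parameter of the torus element. -/
def genC (C : Ctx K q) (t : Kˣ) : Fin chevD4.rank → Kˣ :=
  (![t, 1, t ^ q, (t ^ q) ^ q] : Fin 4 → Kˣ)

/-- The first generator. -/
noncomputable def genA (C : Ctx K q) (t : Kˣ) : GL chevD4.Idx K :=
  D4Data.tab.hT K (C.genC t) * X 23 1

theorem genC_mem (t : Kˣ) : C.genC t ∈ C.A.Cσ := C.mem_Cσ.mpr fun i => by
  fin_cases i
  · rfl
  · exact (one_pow q).symm
  · rfl
  · exact (C.units_pow_qqq t).symm

theorem chi_genC (t : Kˣ) :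
    ((D4Data.tab.chi (F := K) 14 (C.genC t) : Kˣ) : K) = ((t : K) * C.φ t * C.φ (C.φ t))⁻¹ ∧
    ((D4Data.tab.chi (F := K) 9 (C.genC t) : Kˣ) : K) = (t : K) * C.φ t * C.φ (C.φ t) ∧
    ((D4Data.tab.chi (F := K) 22 (C.genC t) : Kˣ) : K) = (t : K) * C.φ t * C.φ (C.φ t) ∧
    ((D4Data.tab.chi (F := K) 1 (C.genC t) : Kˣ) : K) = ((t : K) * C.φ t * C.φ (C.φ t))⁻¹ ∧
    ((D4Data.tab.chi (F := K) 23 (C.genC t) : Kˣ) : K) = 1 ∧
    ((D4Data.tab.chi (F := K) 19 (C.genC t) : Kˣ) : K) = (t : K) / (C.φ t * C.φ (C.φ t)) ∧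
    ((D4Data.tab.chi (F := K) 20 (C.genC t) : Kˣ) : K) = (t : K) / C.φ t * C.φ (C.φ t) := by
  have e : ∀ r, D4Data.tab.chi (F := K) r (C.genC t) =
      ∏ i : Fin 4, C.genC t i ^ D4Data.tab.cart i r := fun r => rfl
  simp only [e, Fin.prod_univ_four, (chiTab _).1, (chiTab _).2.1, (chiTab _).2.2.1,
    (chiTab _).2.2.2.1, (chiTab _).2.2.2.2.1, (chiTab _).2.2.2.2.2.1, (chiTab _).2.2.2.2.2.2]
  simp [genC, C.hφ, div_eq_mul_inv, mul_comm, mul_assoc, mul_left_comm]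

theorem hT_X (t : Kˣ) {r : ℕ} (hr : r < 24) (v : K) :
    D4Data.tab.hT K (C.genC t) * X r v * (D4Data.tab.hT K (C.genC t))⁻¹ =
      X r ((D4Data.tab.chi (F := K) r (C.genC t) : Kˣ) * v) := good_D4.full.hT_conj hr _ v

theorem genA_mem (t : Kˣ) : C.genA t ∈ C.Z.G1 := by
  refine mul_mem (C.Z.H0_le (C.A.hT_mem_torus (C.genC_mem t))) ?_
  have : X 23 (1 : K) = C.UC 0 0 0 0 0 1 := by simp [UC, P12, good_D4.full.x_zero]
  rw [this]
  exact C.UC_mem (map_zero _) (map_zero _) (map_one _) _ _ _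

theorem genB_mem : C.genB ∈ C.Z.G1 :=
  mul_mem (mul_mem (C.Z.n_mem _) (C.Z.n_mem _)) (C.UC_mem (map_zero _) (map_zero _) (map_zero _) _ _ _)

theorem UC_single :
    (∀ v, C.UC v 0 0 0 0 0 = X 14 v) ∧ (∀ v, C.UC 0 0 0 0 v 0 = X 22 v) ∧
    (∀ v, C.UC 0 0 0 0 0 v = X 23 v) := by
  refine ⟨fun v => ?_, fun v => ?_, fun v => ?_⟩ <;> simp [UC, P12, good_D4.full.x_zero]

/-- The coordinate of a fixed root element is fixed. -/
theorem fixed_coord {r : ℕ} (hr : r < 24) (hm : mapAt graphMapD4a r = (r, 1, 1)) {v : K}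
    (h : X r v ∈ C.Z.G1) : C.φ v = v := by
  have e := (C.Z.le_fix h).2
  rw [C.A_root' hr hm, Int.cast_one, one_mul] at e
  exact good_D4.x_inj hr e

section Gen

variable {t : Kˣ} (ht : ∀ x : Kˣ, x ∈ Subgroup.zpowers t) {S : Subgroup (GL chevD4.Idx K)}
  (hS : S ≤ C.Z.G1) (ha : C.genA t ∈ S) (hb : C.genB ∈ S)
include ht hS ha hb

theorem xf_h_mem : X 23 (1 : K) ∈ S ∧ D4Data.tab.hT K (C.genC t) ∈ S := by
  have hc : Commute (D4Data.tab.hT K (C.genC t)) (X 23 (1 : K)) := by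
    have := C.hT_X t (r := 23) (by norm_num) 1
    rw [(C.chi_genC t).2.2.2.2.1, one_mul] at this
    exact mul_inv_eq_iff_eq_mul.mp this
  have h1 : D4Data.tab.hT K (C.genC t) ^ (q ^ 3 - 1) = 1 := by
    rw [← map_pow]
    convert map_one (D4Data.tab.hT K) using 2
    funext i
    rw [Pi.pow_apply, Pi.one_apply, ← units_card C.hK]
    exact pow_card_eq_one'
  have hp : ∀ n : ℕ, X 23 (1 : K) ^ n = X 23 (n : K) := by
    intro n
    induction n with
    | zero => simp [good_D4.full.x_zero]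
    | succ n ih => rw [pow_succ, ih, good_D4.full.x_add, Nat.cast_succ]
  have h0 : ((q ^ 3 - 1 : ℕ) : K) = -1 := by
    rw [Nat.cast_sub (Nat.one_le_pow _ _ C.hq.pos), Nat.cast_one, ← C.hK, FiniteField.cast_card_eq_zero,
      zero_sub]
  have hx : X 23 (1 : K) ∈ S := by
    have := pow_mem ha (q ^ 3 - 1)
    rw [genA, hc.mul_pow, h1, one_mul, hp, h0, ← good_D4.full.x_inv] at this
    exact inv_mem_iff.mp this
  refine ⟨hx, ?_⟩
  have := mul_mem ha (inv_mem hx)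
  rwa [genA, mul_inv_cancel_right] at this

/-- A long root group is contained in `S` as soon as one of its elements is. -/
theorem long_full {r : ℕ} (hr : r < 24)
    (hchi : ((D4Data.tab.chi (F := K) r (C.genC t) : Kˣ) : K) = (t : K) * C.φ t * C.φ (C.φ t) ∨
      ((D4Data.tab.chi (F := K) r (C.genC t) : Kˣ) : K) = ((t : K) * C.φ t * C.φ (C.φ t))⁻¹)
    (hm : mapAt graphMapD4a r = (r, 1, 1)) {v₀ : K} (h0 : v₀ ≠ 0) (hv₀ : X r v₀ ∈ S) {v : K}
    (hv : C.φ v = v) : X r v ∈ S := by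
  let M : AddSubgroup K :=
    { carrier := {v | X r v ∈ S}
      zero_mem' := by
        show X r 0 ∈ S
        rw [good_D4.full.x_zero]; exact one_mem S
      add_mem' := fun {a b} ha hb => by
        show X r (a + b) ∈ S
        rw [← good_D4.full.x_add]; exact mul_mem ha hb
      neg_mem' := fun {a} ha => by
        show X r (-a) ∈ S
        rw [← good_D4.full.x_inv]; exact inv_mem ha }
  have hh := (C.xf_h_mem ht hS ha hb).2
  have hM : ∀ w ∈ M, ((D4Data.tab.chi (F := K) r (C.genC t) : Kˣ) : K) * w ∈ M := fun w hw => by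
    show X r _ ∈ S
    rw [← C.hT_X t hr]
    exact mul_mem (mul_mem hh hw) (inv_mem hh)
  have hfix : C.φ v₀ = v₀ := C.fixed_coord hr hm (hS hv₀)
  have hN : (t : K) * C.φ t * C.φ (C.φ t) ∈
      Subring.closure {((D4Data.tab.chi (F := K) r (C.genC t) : Kˣ) : K)} := by
    rcases hchi with e | e
    · rw [e]; exact Subring.subset_closure rfl
    · exact inv_mem_subring _ (by rw [e]; exact Subring.subset_closure rfl)
  have hmem : v / v₀ ∈ Subring.closure {((D4Data.tab.chi (F := K) r (C.genC t) : Kˣ) : K)} :=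
    fixed_mem_closure ht C.hq C.hK C.hφ hN (by rw [map_div₀, hv, hfix])
  have := smul_closure_mem hM hv₀ hmem
  rwa [div_mul_cancel₀ v h0] at this

theorem long_mem {v : K} (hv : C.φ v = v) :
    X 14 v ∈ S ∧ X 22 v ∈ S ∧ X 23 v ∈ S ∧ X 9 v ∈ S ∧ X 0 v ∈ S ∧ X 1 v ∈ S := by
  obtain ⟨hcomm, hc14, m14, m22, m9, m0⟩ := commTab
  obtain ⟨p9, p14, p1, r9, r0, -⟩ := pwTab'
  obtain ⟨-, -, -, -, -, -, -, -, -, -, t22, t23, u14, -, -, -, -, -, -, u22, u23⟩ := pwTab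
  obtain ⟨c14, c9, c22, c1, -⟩ := C.chi_genC t
  obtain ⟨s14, s22, s23⟩ := C.UC_single
  set u := C.UC 0 1 0 0 0 0 with hu
  have hx := (C.xf_h_mem ht hS ha hb).1
  have cu : ∀ {a e f : K}, C.φ a = a → a = 0 →
      C.UC a 0 0 0 e f * u = u * C.UC a 0 0 0 e f := by
    rintro a e f ha rfl
    rw [hu, C.UC_mul (map_zero _), C.UC_mul (map_zero _)]
    simp only [mulD, mulE, mulF, map_zero, map_one, zero_mul, mul_zero, add_zero, zero_add,
      sub_zero, zero_sub, neg_zero]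
  have cu22 : ∀ v : K, X 22 v * u = u * X 22 v := fun v => by
    rw [← s22]; exact cu (map_zero _) rfl
  have cu23 : ∀ v : K, X 23 v * u = u * X 23 v := fun v => by
    rw [← s23]; exact cu (map_zero _) rfl
  have cuneg : ∀ r ∈ [9, 0], ∀ v : K, X r v * u = u * X r v := by
    intro r hr v
    have hc : ∀ s ∈ [18, 13, 12], ∀ w : K, X r v * X s w = X s w * X r v := by
      intro s hs w
      obtain ⟨h1, h2, h3⟩ := hcomm s hs r hr
      have hr' : r < 24 := by simp only [List.mem_cons, List.not_mem_nil, or_false] at hr; omega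
      have hs' : s < 24 := by simp only [List.mem_cons, List.not_mem_nil, or_false] at hs; omega
      have e := good_D4.full.x_comm (F := K) hs' hr' h1 h2 w v
      rw [good_D4.full.cert.commWord_eq hs' hr', h3] at e
      simpa [rhsWord] using e
    have hu' : u = X 18 1 * (X 13 1 * X 12 1) := by simp [hu, UC, P12, good_D4.full.x_zero]
    rw [hu']
    exact Commute.mul_right (hc 18 (by simp) 1) (Commute.mul_right (hc 13 (by simp) 1)
      (hc 12 (by simp) 1))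
  -- the forward and backward images
  have fwd : ∀ g, g * u = u * g → g ∈ S → C.nW * g * C.nW⁻¹ ∈ S := fun g hg hgS => by
    have := mul_mem (mul_mem hb hgS) (inv_mem hb)
    rwa [genB, ← hu, _root_.mul_inv_rev, show C.nW * u * g * (u⁻¹ * C.nW⁻¹) =
      C.nW * (u * g * u⁻¹) * C.nW⁻¹ by group, ← hg, mul_inv_cancel_right] at this
  have bwd : ∀ g, g ∈ S → (C.nW⁻¹ * g * C.nW) * u = u * (C.nW⁻¹ * g * C.nW) →
      C.nW⁻¹ * g * C.nW ∈ S := fun g hgS hg => by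
    have := mul_mem (mul_mem (inv_mem hb) hgS) hb
    rwa [genB, ← hu, _root_.mul_inv_rev, show u⁻¹ * C.nW⁻¹ * g * (C.nW * u) =
      u⁻¹ * ((C.nW⁻¹ * g * C.nW) * u) by group, hg, inv_mul_cancel_left] at this
  have F14 : ∀ v, C.φ v = v → X 14 v ∈ S := by
    obtain ⟨k, hk, e⟩ := C.nW_conj (r := 23) (by norm_num) (by norm_num) t23 u22
    have h := fwd _ (cu23 1) hx
    rw [e, mul_one] at h
    exact fun v hv => C.long_full ht hS ha hb (by norm_num) (Or.inr c14) m14 hk h hv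
  have F22 : ∀ v, C.φ v = v → X 22 v ∈ S := by
    obtain ⟨k, hk, e⟩ := C.nW_back (r := 22) (by norm_num) (by norm_num) t22 u23
    have h := bwd _ hx (by rw [e]; exact cu22 _)
    rw [e, mul_one] at h
    exact fun v hv => C.long_full ht hS ha hb (by norm_num) (Or.inl c22) m22 hk h hv
  have F23 : ∀ v, C.φ v = v → X 23 v ∈ S := by
    intro v hv
    have e : C.UC 0 0 0 0 0 v = (C.UC 1 0 0 0 0 0 * C.UC 0 0 0 0 v 0) *
        (C.UC 0 0 0 0 v 0 * C.UC 1 0 0 0 0 0)⁻¹ := by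
      rw [eq_mul_inv_iff_mul_eq, C.UC_mul (map_one _), C.UC_mul (map_zero _),
        C.UC_mul (by simp : C.φ (0 + 1) = 0 + 1)]
      simp [mulD, mulE, mulF]
    rw [← s23, e, s14, s22]
    exact mul_mem (mul_mem (F14 1 (map_one _)) (F22 v hv))
      (inv_mem (mul_mem (F22 v hv) (F14 1 (map_one _))))
  have F9 : ∀ v, C.φ v = v → X 9 v ∈ S := by
    obtain ⟨k, hk, e⟩ := C.nW_back (r := 9) (by norm_num) (by norm_num) p9 u14
    have h := bwd _ (F22 1 (map_one _)) (by rw [e]; exact cuneg 9 (by simp) _)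
    rw [e, mul_one] at h
    exact fun v hv => C.long_full ht hS ha hb (by norm_num) (Or.inl c9) m9 hk h hv
  have F0 : ∀ v, C.φ v = v → X 0 v ∈ S := by
    intro v hv
    obtain ⟨k, hk, e⟩ := C.nW_conj (r := 0) (r₁ := 1) (r' := 9) (by norm_num) (by norm_num)
      (by decide +kernel) (by decide +kernel)
    have he : C.nW⁻¹ * X 9 (k * v) * C.nW = X 0 v := by rw [← e]; group
    have hfix : X 0 v ∈ C.Z.G1 := by
      obtain ⟨l, hl, e'⟩ := C.nW_back (r := 0) (r₁ := 1) (r' := 9) (by norm_num) (by norm_num)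
        (by decide +kernel) (by decide +kernel)
      have h1 := bwd _ (F9 1 (map_one _)) (by rw [e']; exact cuneg 0 (by simp) _)
      rw [e', mul_one] at h1
      have hlf := C.fixed_coord (by norm_num) m0 (hS h1)
      have h2 : X 0 v = C.nW⁻¹ * X 9 (v / l) * C.nW := by rw [e', mul_div_cancel₀ v hl]
      rw [h2]
      exact mul_mem (mul_mem (inv_mem (mul_mem (C.Z.n_mem _) (C.Z.n_mem _)))
        (hS (F9 _ (by rw [map_div₀, hv, hlf])))) (mul_mem (C.Z.n_mem _) (C.Z.n_mem _))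
    have hkv : C.φ (k * v) = k * v := C.fixed_coord (by norm_num) m9 (by
      rw [← e]
      exact mul_mem (mul_mem (mul_mem (C.Z.n_mem _) (C.Z.n_mem _)) hfix)
        (inv_mem (mul_mem (C.Z.n_mem _) (C.Z.n_mem _))))
    rw [← he]
    exact bwd _ (F9 _ hkv) (by rw [he]; exact cuneg 0 (by simp) v)
  refine ⟨F14 v hv, F22 v hv, F23 v hv, F9 v hv, F0 v hv, ?_⟩
  -- the commutator of `14` and `0`
  have e := good_D4.full.x_comm (F := K) (r := 0) (s := 14) (by decide) (by decide) hc14.1 hc14.2.1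
    (-v) 1
  rw [good_D4.full.cert.commWord_eq (by decide) (by decide), hc14.2.2] at e
  simp [rhsWord] at e
  have hfix : C.φ (-v) = -v := by rw [map_neg, hv]
  have h1 := mul_mem (inv_mem (mul_mem (F0 _ hfix) (F14 1 (map_one _))))
    (mul_mem (F14 1 (map_one _)) (F0 _ hfix))
  rwa [e, inv_mul_cancel_left] at h1

theorem cd_mem : ∀ c d e f : K, C.φ e = e → C.φ f = f → C.UC 0 0 c d e f ∈ S := by
  have hlong := fun (v : K) hv => C.long_mem ht hS ha hb (v := v) hv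
  obtain ⟨s14, s22, s23⟩ := C.UC_single
  have hef : ∀ e f : K, C.φ e = e → C.φ f = f → C.UC 0 0 0 0 e f ∈ S := by
    intro e f he hf
    have : C.UC 0 0 0 0 e f = C.UC 0 0 0 0 e 0 * C.UC 0 0 0 0 0 f := by
      rw [C.UC_mul (map_zero _)]; simp [mulD, mulE, mulF]
    rw [this, s22, s23]
    exact mul_mem (hlong e he).2.1 (hlong f hf).2.2.1
  let M : AddSubgroup (K × K) :=
    { carrier := {v | ∃ e f, C.φ e = e ∧ C.φ f = f ∧ C.UC 0 0 v.1 v.2 e f ∈ S}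
      zero_mem' := ⟨0, 0, map_zero _, map_zero _, by
        show C.UC 0 0 0 0 0 0 ∈ S
        rw [C.UC_zero]; exact one_mem S⟩
      add_mem' := by
        rintro ⟨c, d⟩ ⟨c', d'⟩ ⟨e, f, he, hf, h⟩ ⟨e', f', he', hf', h'⟩
        have hm := mul_mem h h'
        rw [C.UC_mul (map_zero _)] at hm
        obtain ⟨a₁, b₁, c₁, d₁, e₁, f₁, ha₁, he₁, hf₁, e1⟩ :=
          C.mem_U1.mp (mul_mem (C.mem_U1.mpr ⟨_, _, _, _, _, _, map_zero _, he, hf, rfl⟩)
            (C.mem_U1.mpr ⟨_, _, _, _, _, _, map_zero _, he', hf', rfl⟩) :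
              C.UC 0 0 c d e f * C.UC 0 0 c' d' e' f' ∈ C.Z.U1)
        rw [C.UC_mul (map_zero _)] at e1
        obtain ⟨-, -, -, -, ee, ef⟩ := C.UC_inj e1
        refine ⟨_, _, ?_, ?_, by
          simpa [mulD] using hm⟩
        · simpa [ee] using he₁
        · simpa [ef] using hf₁
      neg_mem' := by
        rintro ⟨c, d⟩ ⟨e, f, he, hf, h⟩
        obtain ⟨a₁, b₁, c₁, d₁, e₁, f₁, ha₁, he₁, hf₁, e1⟩ :=
          C.mem_U1.mp (inv_mem (C.mem_U1.mpr ⟨_, _, _, _, _, _, map_zero _, he, hf, rfl⟩) :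
            (C.UC 0 0 c d e f)⁻¹ ∈ C.Z.U1)
        refine ⟨e₁, f₁, he₁, hf₁, ?_⟩
        have e2 := eq_inv_iff_mul_eq_one.mp e1.symm
        rw [C.UC_mul (map_zero _), ← C.UC_zero] at e2
        obtain ⟨q1, q2, q3, q4, -, -⟩ := C.UC_inj e2
        simp only [add_zero] at q1 q2
        subst q1 q2
        simp only [mulD, map_zero, zero_mul, mul_zero, add_zero, sub_zero] at q3 q4
        have hc : c₁ = -c := eq_neg_of_add_eq_zero_left q3
        have hd : d₁ = -d := eq_neg_of_add_eq_zero_left q4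
        subst hc hd
        show C.UC 0 0 (-c) (-d) e₁ f₁ ∈ S
        rw [← e1]
        exact inv_mem h }
  obtain ⟨c14, -, -, c1, -, c19, c20⟩ := C.chi_genC t
  set α := ((D4Data.tab.chi (F := K) 19 (C.genC t) : Kˣ) : K) with hα
  set β := ((D4Data.tab.chi (F := K) 20 (C.genC t) : Kˣ) : K) with hβ
  have hh := (C.xf_h_mem ht hS ha hb).2
  have hM : ∀ v ∈ M, (α * v.1, β * v.2) ∈ M := by
    rintro ⟨c, d⟩ ⟨e, f, he, hf, h⟩
    set H := D4Data.tab.hT K (C.genC t)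
    have key : ∀ r, r < 24 → ∀ w : K, H * X r w * H⁻¹ =
        X r ((D4Data.tab.chi (F := K) r (C.genC t) : Kˣ) * w) := fun r hr w => C.hT_X t hr w
    have hconj : H * C.UC 0 0 c d e f * H⁻¹ = P12 (fun i => ((D4Data.tab.chi (F := K)
        (([14, 18, 13, 12, 19, 16, 15, 20, 21, 17, 22, 23] : List ℕ).getD i 0) (C.genC t) : Kˣ) : K) *
        (![0, 0, C.φ 0, C.φ (C.φ 0), c, -C.φ c, -C.φ (C.φ c), d, C.φ d, -C.φ (C.φ d), e, f] :
          Fin 12 → K) i) := by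
      simp only [UC, P12]
      simp only [← MulAut.conj_apply, map_mul]
      simp only [MulAut.conj_apply]
      simp only [key 14 (by norm_num), key 18 (by norm_num), key 13 (by norm_num),
        key 12 (by norm_num), key 19 (by norm_num), key 16 (by norm_num), key 15 (by norm_num),
        key 20 (by norm_num), key 21 (by norm_num), key 17 (by norm_num), key 22 (by norm_num),
        key 23 (by norm_num)]
      rfl
    have hs := mul_mem (mul_mem hh h) (inv_mem hh)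
    have hU : H * C.UC 0 0 c d e f * H⁻¹ ∈ C.Z.U1 := by
      refine Subgroup.mem_inf.mpr ⟨C.Z.le_fix (hS hs), ?_⟩
      rw [hconj, good_D4.posUnipotent_eq]
      exact P12_mem _
    obtain ⟨a₁, b₁, c₁, d₁, e₁, f₁, ha₁, he₁, hf₁, e1⟩ := C.mem_U1.mp hU
    have e2 := P12_inj (hconj.symm.trans e1)
    have z0 : a₁ = 0 := (congrFun e2 0).symm.trans (mul_zero _)
    have z1 : b₁ = 0 := (congrFun e2 1).symm.trans (mul_zero _)
    have z4 : c₁ = α * c := (congrFun e2 4).symm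
    have z7 : d₁ = β * d := (congrFun e2 7).symm
    refine ⟨e₁, f₁, he₁, hf₁, ?_⟩
    show C.UC 0 0 (α * c) (β * d) e₁ f₁ ∈ S
    have h' : C.UC a₁ b₁ c₁ d₁ e₁ f₁ ∈ S := e1 ▸ hs
    rwa [z0, z1, z4, z7] at h'
  have hgen : ∀ x : K, x ≠ 0 → x * C.φ x = (t : K) ^ 2 ∨
      x * C.φ x = (C.φ (C.φ ((t : K) ^ 2)))⁻¹ → Subring.closure {x} = ⊤ := by
    intro x hx hcase
    have hxm : x ∈ Subring.closure {x} := Subring.subset_closure rfl
    have hmem : x * C.φ x ∈ Subring.closure {x} :=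
      mul_mem hxm (by rw [C.hφ]; exact pow_mem hxm q)
    rcases hcase with e | e <;> rw [e] at hmem
    · exact closure_sq ht C.hq C.hK hmem
    · refine closure_sq ht C.hq C.hK ?_
      have := inv_mem_subring _ hmem
      have h3 : C.φ (C.φ (C.φ ((t : K) ^ 2))) ∈ Subring.closure {x} := by
        rw [C.hφ]; exact pow_mem this q
      rwa [C.φ_cube] at h3
  have ht0 : (t : K) ≠ 0 := Units.ne_zero t
  have ht1 : C.φ (t : K) ≠ 0 := (map_ne_zero C.φ).mpr ht0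
  have ht2 : C.φ (C.φ (t : K)) ≠ 0 := (map_ne_zero C.φ).mpr ht1
  have eα : α * C.φ α = (C.φ (C.φ ((t : K) ^ 2)))⁻¹ := by
    rw [c19, map_div₀, map_mul, C.φ_cube, map_pow, map_pow]
    field_simp
  have eβ : β * C.φ β = (t : K) ^ 2 := by
    rw [c20, map_mul, map_div₀, C.φ_cube]
    field_simp
  have hne : ∀ σ : K →+* K, σ α ≠ β := by
    intro σ hσ
    refine endo_sq_ne_inv ht C.hq C.hK ((C.φ.comp C.φ).comp σ) ?_
    have hcomm : ∀ x, σ (C.φ x) = C.φ (σ x) := fun x => by rw [C.hφ, C.hφ, map_pow]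
    have h : σ (C.φ (C.φ ((t : K) ^ 2)))⁻¹ = (t : K) ^ 2 := by
      rw [← eα, map_mul, hcomm, hσ, eβ]
    rw [map_inv₀, hcomm, hcomm, inv_eq_iff_eq_inv] at h
    exact h
  have hseed : ∃ y z : K, y ≠ 0 ∧ z ≠ 0 ∧ (y, z) ∈ M := by
    obtain ⟨p9, p14, p1, r9, -⟩ := pwTab'
    obtain ⟨k, hk, e⟩ := C.nW_back (r := 14) (by norm_num) (by norm_num) p14 r9
    have hg : C.genB⁻¹ * X 1 1 * C.genB ∈ S :=
      mul_mem (mul_mem (inv_mem hb) (hlong 1 (map_one _)).2.2.2.2.2) hb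
    set u := C.UC 0 1 0 0 0 0 with hu
    have he : C.genB⁻¹ * X 1 1 * C.genB = u⁻¹ * X 14 k * u := by
      rw [show X 14 k = X 14 (k * 1) by rw [mul_one], ← e, genB, ← hu]
      group
    rw [he] at hg
    have hk' : C.φ k = k := by
      refine C.fixed_coord (r := 14) (by norm_num) commTab.2.2.1 ?_
      have := mul_mem (mul_mem (C.UC_mem (map_zero _) (map_zero _) (map_zero _) 1 0 0) (hS hg))
        (inv_mem (C.UC_mem (map_zero _) (map_zero _) (map_zero _) 1 0 0))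
      rwa [show u * (u⁻¹ * X 14 k * u) * u⁻¹ = X 14 k by group] at this
    rw [← s14] at hg
    obtain ⟨a₁, b₁, c₁, d₁, e₁, f₁, ha₁, he₁, hf₁, e1⟩ :=
      C.mem_U1.mp (mul_mem (mul_mem (inv_mem (C.mem_U1.mpr
        ⟨0, 1, 0, 0, 0, 0, map_zero _, map_zero _, map_zero _, rfl⟩))
        (C.mem_U1.mpr ⟨k, 0, 0, 0, 0, 0, hk', map_zero _, map_zero _, rfl⟩))
        (C.mem_U1.mpr ⟨0, 1, 0, 0, 0, 0, map_zero _, map_zero _, map_zero _, rfl⟩) :
          u⁻¹ * C.UC k 0 0 0 0 0 * u ∈ C.Z.U1)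
    rw [e1] at hg
    have e2 : u * C.UC a₁ b₁ c₁ d₁ e₁ f₁ = C.UC k 0 0 0 0 0 * u := by rw [← e1]; group
    rw [hu, C.UC_mul ha₁, C.UC_mul (map_zero _)] at e2
    obtain ⟨q1, q2, q3, q4, -, -⟩ := C.UC_inj e2
    have za : a₁ = k := by linear_combination q1
    have zb : b₁ = 0 := by linear_combination q2
    subst za zb
    simp [mulD] at q3 q4
    have h2 := mul_mem (inv_mem (hlong a₁ hk').1) hg
    rw [good_D4.full.x_inv, ← s14] at h2
    obtain ⟨a₂, b₂, c₂, d₂, e₂, f₂, -, he₂, hf₂, e3⟩ := C.mem_U1.mp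
      (mul_mem (C.mem_U1.mpr ⟨-a₁, 0, 0, 0, 0, 0, by rw [map_neg, hk'], map_zero _, map_zero _, rfl⟩)
        (C.mem_U1.mpr ⟨_, _, _, _, _, _, ha₁, he₁, hf₁, rfl⟩) :
        C.UC (-a₁) 0 0 0 0 0 * C.UC a₁ 0 c₁ d₁ e₁ f₁ ∈ C.Z.U1)
    rw [e3] at h2
    rw [C.UC_mul ha₁] at e3
    obtain ⟨w1, w2, w3, w4, -, -⟩ := C.UC_inj e3
    simp [mulD] at w1 w2 w3 w4
    refine ⟨c₁, d₁, ?_, ?_, e₂, f₂, he₂, hf₂, ?_⟩
    · intro h0
      exact hk (by linear_combination q3.symm + h0)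
    · intro h0
      exact hk (by linear_combination -(q4.symm + h0))
    · show C.UC 0 0 c₁ d₁ e₂ f₂ ∈ S
      rwa [← w1, ← w2, ← w3, ← w4] at h2
  obtain ⟨y, z, hy, hz, hyz⟩ := hseed
  have hα0 : α ≠ 0 := Units.ne_zero _
  have hβ0 : β ≠ 0 := Units.ne_zero _
  have top := pair_eq_top hM (hgen α hα0 (Or.inr eα)) (hgen β hβ0 (Or.inl eβ)) hne hy hz hyz
  intro c d e f he hf
  obtain ⟨e', f', he', hf', h⟩ : (c, d) ∈ M := top ▸ AddSubgroup.mem_top _
  have e1 : C.UC 0 0 c d e f = C.UC 0 0 c d e' f' * C.UC 0 0 0 0 (e - e') (f - f') := by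
    rw [C.UC_mul (map_zero _)]
    simp [mulD, mulE, mulF]
  rw [e1]
  exact mul_mem h (hef _ _ (by rw [map_sub, he, he']) (by rw [map_sub, hf, hf']))

theorem all_mem : C.Z.G1 ≤ S := by
  obtain ⟨s14, s22, s23⟩ := C.UC_single
  have hlong := fun (v : K) hv => C.long_mem ht hS ha hb (v := v) hv
  have hcd := C.cd_mem ht hS ha hb
  set u := C.UC 0 1 0 0 0 0 with hu
  have huU : u ∈ C.Z.U1 :=
    C.mem_U1.mpr ⟨0, 1, 0, 0, 0, 0, map_zero _, map_zero _, map_zero _, rfl⟩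
  -- elements of `U` without `a` and `b`
  have hlow : ∀ g ∈ C.Z.U1, ∀ w : Fin 12 → K, g = P12 w → w 0 = 0 → w 1 = 0 → g ∈ S := by
    intro g hg w e h0 h1
    obtain ⟨a, b, c, d, e', f, -, he, hf, e2⟩ := C.mem_U1.mp hg
    have e3 := P12_inj (e2.symm.trans e)
    have za : a = 0 := (congrFun e3 0).trans h0
    have zb : b = 0 := (congrFun e3 1).trans h1
    rw [e2, za, zb]
    exact hcd c d e' f he hf
  -- conjugation by `u` keeps the first two coordinates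
  have hconju : ∀ (g : GL chevD4.Idx K) (b c d e f : K), C.φ e = e → C.φ f = f →
      g = C.UC 0 b c d e f →
      ∃ c' d' e' f', C.φ e' = e' ∧ C.φ f' = f' ∧ u⁻¹ * g * u = C.UC 0 b c' d' e' f' := by
    rintro g b c d e f he hf rfl
    obtain ⟨a₁, b₁, c₁, d₁, e₁, f₁, ha₁, he₁, hf₁, e1⟩ :=
      C.mem_U1.mp (mul_mem (mul_mem (inv_mem huU)
        (C.mem_U1.mpr ⟨_, _, _, _, _, _, map_zero _, he, hf, rfl⟩ :
          C.UC 0 b c d e f ∈ C.Z.U1)) huU)
    have e2 : u * C.UC a₁ b₁ c₁ d₁ e₁ f₁ = C.UC 0 b c d e f * u := by rw [← e1]; group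
    rw [hu, C.UC_mul ha₁, C.UC_mul (map_zero _)] at e2
    obtain ⟨q1, q2, -, -, -, -⟩ := C.UC_inj e2
    have za : a₁ = 0 := by linear_combination q1
    have zb : b₁ = b := by linear_combination q2
    exact ⟨c₁, d₁, e₁, f₁, he₁, hf₁, by rw [e1, za, zb]⟩
  obtain ⟨-, t19, t16, t15, t18, t13, t12, t20, t21, t17, t22, t23,
    u14, u19, u16, u15, u20, u21, u17, u22, u23⟩ := pwTab
  obtain ⟨-, -, -, -, -, r18, r13, r12, r5, r10, r11⟩ := pwTab'
  obtain ⟨k, hk0, hk⟩ := C.conj_P12 C.J0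
  obtain ⟨l, hl0, hl⟩ := C.conj_P12 C.J1
  rw [C.getD_J0] at hk
  rw [C.getD_J1] at hl
  have hn : ∀ J, C.Z.n J ∈ C.Z.G1 := C.Z.n_mem
  have hpos : ∀ g ∈ C.Z.G1, ∀ w : Fin 12 → K, g = P12 w → g ∈ C.Z.U1 := by
    intro g hg w e
    refine Subgroup.mem_inf.mpr ⟨C.Z.le_fix hg, ?_⟩
    rw [e, good_D4.posUnipotent_eq]; exact P12_mem w
  -- the positive short root group
  have Fb : ∀ v : K, C.UC 0 v 0 0 0 0 ∈ S := by
    intro v
    set g₀ := C.Z.n C.J0 * C.UC 0 v 0 0 0 0 * (C.Z.n C.J0)⁻¹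
    have hg₀ : g₀ ∈ C.Z.G1 :=
      mul_mem (mul_mem (hn _) (C.UC_mem (map_zero _) (map_zero _) (map_zero _) _ _ _))
        (inv_mem (hn _))
    have e₀ : g₀ = P12 ![0, 0, 0, 0, k 18 * v, k 13 * C.φ v, k 12 * C.φ (C.φ v), 0, 0, 0, 0, 0] := by
      show C.Z.n C.J0 * _ * _ = _
      rw [UC, hk]
      simp [P12, t18, t13, t12, good_D4.full.x_zero]
    obtain ⟨a₁, b₁, c₁, d₁, e₁, f₁, ha₁, he₁, hf₁, e1⟩ := C.mem_U1.mp (hpos _ hg₀ _ e₀)
    have e1' := P12_inj (e1.symm.trans e₀)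
    have za : a₁ = 0 := congrFun e1' 0
    have zb : b₁ = 0 := congrFun e1' 1
    have zd : d₁ = 0 := congrFun e1' 7
    have ze : e₁ = 0 := congrFun e1' 10
    have zf : f₁ = 0 := congrFun e1' 11
    rw [za, zb, zd, ze, zf] at e1
    set g₁ := C.Z.n C.J1 * g₀ * (C.Z.n C.J1)⁻¹
    have e₁' : g₁ = P12 ![0, 0, 0, 0, 0, 0, 0, l 16 * -C.φ c₁, l 15 * -C.φ (C.φ c₁), l 19 * c₁, 0, 0] := by
      show C.Z.n C.J1 * g₀ * _ = _
      rw [e1, UC, hl]
      refine mul_right_cancel (b := 1) ?_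
      simp only [P12, mul_assoc, Matrix.cons_val_zero, Matrix.cons_val_one, Matrix.cons_val,
        u19, u16, u15, map_zero, neg_zero, mul_zero, good_D4.full.x_zero, one_mul, mul_one]
      rw [← mul_one (X 21 _)]
      simp only [mul_assoc, s_17_20, s_17_21]
      simp
    have hg₁ : g₁ ∈ S := hlow _ (hpos _ (mul_mem (mul_mem (hn _) hg₀) (inv_mem (hn _))) _ e₁') _
      e₁' rfl rfl
    have h := mul_mem (mul_mem (inv_mem hb) hg₁) hb
    rw [show C.genB⁻¹ * g₁ * C.genB = u⁻¹ * C.UC 0 v 0 0 0 0 * u by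
      show C.genB⁻¹ * (C.Z.n C.J1 * (C.Z.n C.J0 * _ * _) * _) * C.genB = _
      rw [genB, nW, ← hu]; group] at h
    obtain ⟨c', d', e', f', he', hf', e''⟩ :=
      hconju _ v 0 0 0 0 (map_zero _) (map_zero _) rfl
    rw [e''] at h
    have hU : C.UC 0 v 0 0 0 0 * (C.UC 0 v c' d' e' f')⁻¹ ∈ C.Z.U1 :=
      mul_mem (C.mem_U1.mpr ⟨_, _, _, _, _, _, map_zero _, map_zero _, map_zero _, rfl⟩)
        (inv_mem (C.mem_U1.mpr ⟨_, _, _, _, _, _, map_zero _, he', hf', rfl⟩))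
    obtain ⟨a₂, b₂, c₂, d₂, e₂, f₂, -, he₂, hf₂, e2⟩ := C.mem_U1.mp hU
    have e3 := mul_inv_eq_iff_eq_mul.mp e2
    rw [C.UC_mul (map_zero _)] at e3
    obtain ⟨q1, q2, -, -, -, -⟩ := C.UC_inj e3
    have za₂ : a₂ = 0 := by linear_combination -q1
    have zb₂ : b₂ = 0 := by linear_combination -q2
    rw [za₂, zb₂] at e2
    rw [mul_inv_eq_iff_eq_mul.mp e2]
    exact mul_mem (hcd _ _ _ _ he₂ hf₂) h
  -- the negative short root group
  have Fnb : ∀ w : K, X 5 w * (X 10 (w ^ q) * X 11 ((w ^ q) ^ q)) ∈ S := by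
    intro w
    set T := X 5 w * (X 10 (w ^ q) * X 11 ((w ^ q) ^ q)) with hT
    have hTG : T ∈ C.Z.G1 := by
      rw [C.grp_eq]
      refine Subgroup.subset_closure
        ⟨_, Or.inr ⟨w, (5, 10, 11), by decide, rfl⟩, ?_⟩
      rw [← good_D4.full.coe_word]
      simp [hT, pow_two, pow_mul]
    set G₂ := C.Z.n C.J1 * T * (C.Z.n C.J1)⁻¹
    obtain ⟨l5, h5, el5⟩ := C.conj_X C.J1 (r := 5) (by norm_num)
      (show D4Data.tab.wordT (orbs.getD (C.J1 : ℕ) []) 5 = 18 by rw [C.getD_J1, r5])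
    obtain ⟨l10, -, el10⟩ := C.conj_X C.J1 (r := 10) (by norm_num)
      (show D4Data.tab.wordT (orbs.getD (C.J1 : ℕ) []) 10 = 13 by rw [C.getD_J1, r10])
    obtain ⟨l11, -, el11⟩ := C.conj_X C.J1 (r := 11) (by norm_num)
      (show D4Data.tab.wordT (orbs.getD (C.J1 : ℕ) []) 11 = 12 by rw [C.getD_J1, r11])
    have hG₂ : ∀ x y z : K, C.Z.n C.J1 * (X 5 x * (X 10 y * X 11 z)) * (C.Z.n C.J1)⁻¹ =
        P12 ![0, l5 * x, l10 * y, l11 * z, 0, 0, 0, 0, 0, 0, 0, 0] := by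
      intro x y z
      simp only [← MulAut.conj_apply, map_mul]
      simp only [MulAut.conj_apply]
      rw [el5, el10, el11]
      simp [P12, good_D4.full.x_zero]
    -- the element of `S`
    set c : K := (k 19)⁻¹ * ((l 18)⁻¹ * w)
    set g₀ := C.Z.n C.J0 * C.UC 0 0 c 0 0 0 * (C.Z.n C.J0)⁻¹
    have hg₀ : g₀ ∈ C.Z.G1 :=
      mul_mem (mul_mem (hn _) (C.UC_mem (map_zero _) (map_zero _) (map_zero _) _ _ _))
        (inv_mem (hn _))
    have e₀ : g₀ = P12 ![0, k 19 * c, k 16 * -C.φ c, k 15 * -C.φ (C.φ c), 0, 0, 0, 0, 0, 0, 0, 0] := by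
      show C.Z.n C.J0 * _ * _ = _
      rw [UC, hk]
      simp [P12, t19, t16, t15, good_D4.full.x_zero]
    have e₁ : C.Z.n C.J1 * g₀ * (C.Z.n C.J1)⁻¹ = X 5 (l 18 * (k 19 * c)) *
        (X 10 (l 13 * (k 16 * -C.φ c)) * X 11 (l 12 * (k 15 * -C.φ (C.φ c)))) := by
      rw [e₀, hl]
      simp [r18, r13, r12, good_D4.full.x_zero]
    have hS' : C.Z.n C.J1 * g₀ * (C.Z.n C.J1)⁻¹ ∈ S := by
      obtain ⟨c', d', e', f', he', hf', e''⟩ :=
        hconju _ 0 c 0 0 0 (map_zero _) (map_zero _) rfl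
      have h := mul_mem (mul_mem hb (hcd c' d' e' f' he' hf')) (inv_mem hb)
      rwa [← e'', show C.genB * (u⁻¹ * C.UC 0 0 c 0 0 0 * u) * C.genB⁻¹ =
        C.Z.n C.J1 * g₀ * (C.Z.n C.J1)⁻¹ by
          show _ = C.Z.n C.J1 * (C.Z.n C.J0 * _ * _) * _
          rw [genB, nW, ← hu]; group] at h
    have hw : l 18 * (k 19 * c) = w := by
      simp only [c]
      rw [← mul_assoc (k 19), mul_inv_cancel₀ (hk0 19 (by norm_num)), one_mul,
        mul_inv_cancel_left₀ (hl0 18 (by norm_num))]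
    rw [hw] at e₁
    rw [e₁] at hS'
    obtain ⟨a₁, b₁, c₁, d₁, e₁', f₁, -, -, -, E1⟩ := C.mem_U1.mp
      (hpos _ (mul_mem (mul_mem (hn C.J1) hTG) (inv_mem (hn _))) _ (hG₂ _ _ _))
    obtain ⟨a₂, b₂, c₂, d₂, e₂', f₂, -, -, -, E2⟩ := C.mem_U1.mp
      (hpos _ (mul_mem (mul_mem (hn C.J1) (hS hS')) (inv_mem (hn _))) _ (hG₂ _ _ _))
    have p1 := P12_inj ((hG₂ _ _ _).symm.trans E1)
    have p2 := P12_inj ((hG₂ _ _ _).symm.trans E2)
    have key : C.Z.n C.J1 * T * (C.Z.n C.J1)⁻¹ = C.Z.n C.J1 * (X 5 w *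
        (X 10 (l 13 * (k 16 * -C.φ c)) * X 11 (l 12 * (k 15 * -C.φ (C.φ c))))) *
          (C.Z.n C.J1)⁻¹ := by
      rw [hT, hG₂, hG₂]
      have b12 : b₁ = b₂ := (congrFun p1 1).symm.trans (congrFun p2 1)
      have y2 := (congrFun p1 2).trans ((congrArg C.φ b12).trans (congrFun p2 2).symm)
      have y3 := (congrFun p1 3).trans
        ((congrArg (fun z => C.φ (C.φ z)) b12).trans (congrFun p2 3).symm)
      simp only [Matrix.cons_val] at y2 y3
      rw [y2, y3]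
    rw [mul_left_cancel (mul_right_cancel key)]
    exact hS'
  rw [C.grp_eq]
  refine (Subgroup.closure_le _).mpr ?_
  rintro g ⟨w, hw, hg⟩
  have hgw : g = (w.map fun p => good_D4.full.x p.1 p.2).prod :=
    Units.ext (hg.trans (good_D4.full.coe_word w).symm)
  rw [hgw]
  rcases hw with ⟨v, hv, r, hr, rfl⟩ | ⟨v, ⟨r, r', r''⟩, hr, rfl⟩
  · have hv' : C.φ v = v := by rw [C.hφ, hv]
    simp only [List.mem_cons, List.not_mem_nil, or_false] at hr
    rcases hr with rfl | rfl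
    · simpa [d4p2] using (hlong v hv').1
    · simpa [d4m2] using (hlong v hv').2.2.2.1
  · simp only [List.mem_cons, List.not_mem_nil, or_false, Prod.mk.injEq] at hr
    have e : v ^ q ^ 2 = (v ^ q) ^ q := by rw [pow_two, pow_mul]
    rcases hr with ⟨rfl, rfl, rfl⟩ | ⟨rfl, rfl, rfl⟩
    · have := Fb v
      simp [UC, P12, good_D4.full.x_zero, C.hφ, zero_pow C.hq.ne_zero] at this
      simpa [e, d4p1, d4p3, d4p4] using this
    · simpa [e, d4m1, d4m3, d4m4] using Fnb v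

end Gen

/-- The twisted group is generated by two elements. -/
theorem two_generated : ∃ a b : twistedD4 K q, Subgroup.closure ({a, b} : Set (twistedD4 K q)) = ⊤ := by
  obtain ⟨t, ht⟩ := IsCyclic.exists_generator (α := Kˣ)
  rw [← C.grp_eq]
  refine ⟨⟨_, C.genA_mem t⟩, ⟨_, C.genB_mem⟩, ?_⟩
  apply Subgroup.map_injective C.Z.G1.subtype_injective
  rw [MonoidHom.map_closure, ← MonoidHom.range_eq_map, Subgroup.range_subtype, Set.image_pair]
  have hsub : Subgroup.closure ({C.genA t, C.genB} : Set (GL chevD4.Idx K)) ≤ C.Z.G1 := by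
    rw [Subgroup.closure_le, Set.insert_subset_iff, Set.singleton_subset_iff]
    exact ⟨C.genA_mem t, C.genB_mem⟩
  refine le_antisymm hsub (C.all_mem ht hsub (Subgroup.subset_closure (Or.inl rfl))
    (Subgroup.subset_closure (Or.inr rfl)))

end Ctx

end CfsgLib.Chev.D4Tw
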