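import Cfsg.Agent.Chev.D4TwQ
import Cfsg.Agent.MinDeg.WeightTools
import Cfsg.Agent.Char.Central

/-!
The smallest degree of a non-trivial irreducible representation of `³D₄(q)`.
-/

set_option autoImplicit false
set_option linter.style.haveILetI false
set_option linter.unusedSectionVars false

namespace CfsgLib.Chev.D4Tw

open Cfsg.Lie CfsgLib.MinDeg Module

/-- The number just below the bound does not divide the order of the group. -/
theorem not_dvd_order {q : ℕ} (hq : 2 ≤ q) :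
    ¬ q ^ 5 - q ^ 3 + (q - 1) ∣ q ^ 12 * (q ^ 2 - 1) * (q ^ 6 - 1) * (q ^ 8 + q ^ 4 + 1) := by
  intro h
  set m := q ^ 4 + q ^ 3 + 1 with hm
  have hfac : q ^ 5 - q ^ 3 + (q - 1) = (q - 1) * m := by
    have h35 : q ^ 3 ≤ q ^ 5 := Nat.pow_le_pow_right (by omega) (by norm_num)
    rw [hm]
    zify [h35, show 1 ≤ q by omega]
    ring
  have hmd : m ∣ q ^ 12 * ((q ^ 2 - 1) * (q ^ 6 - 1) * (q ^ 8 + q ^ 4 + 1)) := by
    rw [← mul_assoc, ← mul_assoc]
    exact (Dvd.intro_left _ hfac.symm).trans h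
  have hcop : Nat.Coprime m (q ^ 12) := by
    refine Nat.Coprime.pow_right 12 ?_
    rw [hm, show q ^ 4 + q ^ 3 + 1 = 1 + (q ^ 3 + q ^ 2) * q by ring, Nat.Coprime,
      Nat.gcd_comm, Nat.gcd_add_mul_right_right, Nat.gcd_one_right]
  have h' := hcop.dvd_of_dvd_mul_left hmd
  have hZ : (m : ℤ) ∣ ((q : ℤ) ^ 2 - 1) * ((q : ℤ) ^ 6 - 1) * ((q : ℤ) ^ 8 + (q : ℤ) ^ 4 + 1) := by
    have := Int.natCast_dvd_natCast.mpr h'
    push_cast [Nat.cast_sub (Nat.one_le_pow 2 q (by omega)),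
      Nat.cast_sub (Nat.one_le_pow 6 q (by omega))] at this
    exact this
  have hR : (m : ℤ) ∣ 6 * (q : ℤ) ^ 3 + 2 * (q : ℤ) ^ 2 - 4 * q + 5 := by
    have e : 6 * (q : ℤ) ^ 3 + 2 * (q : ℤ) ^ 2 - 4 * q + 5 =
        ((q : ℤ) ^ 12 - (q : ℤ) ^ 11 + (q : ℤ) ^ 7 - 3 * (q : ℤ) ^ 6 + 3 * (q : ℤ) ^ 5 -
          (q : ℤ) ^ 4 + (q : ℤ) ^ 2 - 4 * q + 6) * (m : ℤ) -
        ((q : ℤ) ^ 2 - 1) * ((q : ℤ) ^ 6 - 1) * ((q : ℤ) ^ 8 + (q : ℤ) ^ 4 + 1) := by
      rw [hm]; push_cast; ring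
    rw [e]
    exact dvd_sub (dvd_mul_left _ _) hZ
  have hnat : m ∣ 6 * q ^ 3 + 2 * q ^ 2 + 5 - 4 * q := by
    have h4 : 4 * q ≤ 6 * q ^ 3 + 2 * q ^ 2 + 5 := by nlinarith
    have : (6 * (q : ℤ) ^ 3 + 2 * (q : ℤ) ^ 2 - 4 * q + 5) =
        ((6 * q ^ 3 + 2 * q ^ 2 + 5 - 4 * q : ℕ) : ℤ) := by
      rw [Nat.cast_sub h4]; push_cast; ring
    rw [this] at hR
    exact Int.natCast_dvd_natCast.mp hR
  have hpos : 0 < 6 * q ^ 3 + 2 * q ^ 2 + 5 - 4 * q := by
    have : 4 * q < 6 * q ^ 3 + 2 * q ^ 2 + 5 := by nlinarith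
    omega
  rcases Nat.lt_or_ge q 6 with h6 | h6
  · rw [hm] at hnat
    interval_cases q <;> omega
  · have hle := Nat.le_of_dvd hpos hnat
    have h3 : 6 * q ^ 3 ≤ q ^ 4 := by
      rw [pow_succ q 3, mul_comm 6]
      exact Nat.mul_le_mul_left _ h6
    have h2 : 2 * q ^ 2 + 5 < q ^ 3 + 1 + 4 * q := by nlinarith
    omega

namespace Ctx

variable {K : Type*} [Field K] [Fintype K] {q : ℕ} (C : Ctx K q)
include C

set_option maxHeartbeats 1000000 in
theorem degree_bound {V : Type*} [AddCommGroup V] [Module ℂ V] [FiniteDimensional ℂ V]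
    (ρ : Representation ℂ C.Z.G1 V) (hρ : ρ.IsIrreducible) (hk : 2 ≤ finrank ℂ V) :
    q * (q ^ 4 - q ^ 2 + 1) ≤ finrank ℂ V := by
  classical
  haveI : IsSimpleGroup C.Z.G1 := C.isSimple.1
  letI : Fintype C.kF := Fintype.ofFinite _
  have hcF : Fintype.card C.kF = q := by rw [← Nat.card_eq_fintype_card]; exact C.card_kF
  have hq := C.hq.two_le
  obtain ⟨ψ, hψ⟩ := exists_primitive C.kF
  let ψK : AddChar K ℂ := ψ.compAddMonoidHom C.Tk
  have hψK : ψK.IsPrimitive := by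
    refine AddChar.IsPrimitive.of_ne_one fun h => ?_
    refine hψ (a := 1) one_ne_zero ?_
    ext y
    obtain ⟨x, rfl⟩ := C.Tk_surjective y
    rw [AddChar.mulShift_apply, one_mul]
    exact (show ψK x = 1 by rw [h]; rfl).trans rfl
  let chEF : C.kF × C.kF → AddChar (C.kF × C.kF) ℂ := fun p =>
    prodChar (ψ.mulShift p.1) (ψ.mulShift p.2)
  let chDEF : K → C.kF × C.kF → AddChar (K × C.kF × C.kF) ℂ := fun δ p =>
    prodChar (ψK.mulShift δ) (chEF p)
  let N : C.kF × C.kF → ℕ := fun p => finrank ℂ (weight ρ C.eEF (chEF p))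
  let M : K → C.kF × C.kF → ℕ := fun δ p => finrank ℂ (weight ρ C.eDEF (chDEF δ p))
  have efval : ∀ (l m e f : C.kF), chEF (l, m) (e, f) = ψ (l * e + m * f) := fun l m e f => by
    show ψ (l * e) * ψ (m * f) = _
    rw [AddChar.map_add_eq_mul]
  have defval : ∀ (δ d : K) (l m e f : C.kF),
      chDEF δ (l, m) (d, e, f) = ψ (C.Tk (δ * d) + (l * e + m * f)) := fun δ d l m e f => by
    show ψ (C.Tk (δ * d)) * chEF (l, m) (e, f) = _
    rw [efval, ← AddChar.map_add_eq_mul]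
  -- the characters of the three groups
  have hbij : Function.Bijective chEF := by
    refine (Fintype.bijective_iff_injective_and_card _).mpr ⟨?_, AddChar.card_eq.symm⟩
    intro p p' h
    refine Prod.ext (AddChar.to_mulShift_inj_of_isPrimitive hψ ?_)
      (AddChar.to_mulShift_inj_of_isPrimitive hψ ?_)
    · ext x
      have := DFunLike.congr_fun h (x, 0)
      simpa [chEF, prodChar_apply] using this
    · ext x
      have := DFunLike.congr_fun h (0, x)
      simpa [chEF, prodChar_apply] using this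
  have hbijK : Function.Bijective (AddChar.mulShift ψK) :=
    (Fintype.bijective_iff_injective_and_card _).mpr
      ⟨AddChar.to_mulShift_inj_of_isPrimitive hψK, AddChar.card_eq.symm⟩
  have hfib : ∀ p, N p = ∑ δ : K, M δ p := fun p => by
    show _ = ∑ δ : K, finrank ℂ (weight ρ C.eDEF (prodChar (ψK.mulShift δ) (chEF p)))
    rw [hbijK.sum_comp (g := fun α => finrank ℂ (weight ρ C.eDEF (prodChar α (chEF p))))]
    exact (sum_finrank_fibre ρ C.eDEF C.eEF (fun _ => rfl) (chEF p)).symm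
  have hsum : ∑ p, N p = finrank ℂ V := by
    show ∑ p, finrank ℂ (weight ρ C.eEF (chEF p)) = _
    rw [hbij.sum_comp (g := fun χ => finrank ℂ (weight ρ C.eEF χ))]
    exact sum_finrank_weight ρ C.eEF
  -- all the non-trivial characters on the last two coordinates are equally frequent
  have shift : ∀ l m : C.kF, m ≠ 0 → N (l, m) = N (0, m) := fun l m hm => by
    let a : C.kF := -(l / m)
    let φ : C.kF × C.kF ≃ C.kF × C.kF :=
      { toFun := fun x => (x.1, x.2 - a * x.1)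
        invFun := fun x => (x.1, x.2 + a * x.1)
        left_inv := fun x => Prod.ext rfl (sub_add_cancel _ _)
        right_inv := fun x => Prod.ext rfl (add_sub_cancel_right _ _) }
    refine finrank_weight_equiv ρ C.eEF (C.uQ a 0 0 0 0) φ (fun x => ?_) fun x => ?_
    · obtain ⟨e, f⟩ := x
      show C.uQ 0 0 0 e f * _ = _ * C.uQ 0 0 0 e (f - a * e)
      rw [C.conj_AC a 0 0 e f]
      simp
    · obtain ⟨e, f⟩ := x
      show _ = chEF (0, m) (e, f - a * e)
      rw [efval, efval]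
      congr 1
      simp only [a]
      field_simp
      ring
  have scale : ∀ s : C.kF, s ≠ 0 → N (0, s) = N (0, 1) := fun s hs => by
    obtain ⟨c, hc⟩ := C.exists_scale_f hs
    have h22 : (⟨C.cv 22 c, (C.cv_fixed c).2.1⟩ : C.kF) ≠ 0 := fun h =>
      Units.ne_zero _ (congrArg Subtype.val h)
    refine finrank_weight_equiv ρ C.eEF (C.tH c)⁻¹
      (Equiv.prodCongr (Equiv.mulLeft₀ _ h22) (Equiv.mulLeft₀ s hs)) (fun x => ?_) fun x => ?_
    · obtain ⟨e, f⟩ := x
      show C.uQ 0 0 0 e f * _ = _ * C.uQ 0 0 0 (⟨C.cv 22 c, (C.cv_fixed c).2.1⟩ * e) (s * f)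
      rw [eq_inv_mul_iff_mul_eq, ← mul_assoc, C.tH_conj]
      congr 1
      · simp
      · simp
      · simp
      · exact congrArg (· * f) (Subtype.ext hc)
    · obtain ⟨e, f⟩ := x
      show _ = chEF (0, 1) (_ * e, s * f)
      rw [efval, efval]
      simp
  have hN : ∀ p : C.kF × C.kF, p ≠ 0 → N p = N (0, 1) := by
    rintro ⟨l, m⟩ hp
    by_cases hm : m = 0
    · subst hm
      have hl : l ≠ 0 := fun h => hp (by rw [h]; rfl)
      obtain ⟨k, l₀, hk, hl₀, hn⟩ := C.n0_conj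
      rw [← scale (l / l₀) (div_ne_zero hl hl₀)]
      let φ : C.kF × C.kF ≃ C.kF × C.kF :=
        (Equiv.prodComm _ _).trans (Equiv.prodCongr (Equiv.mulLeft₀ k hk) (Equiv.mulLeft₀ l₀ hl₀))
      refine finrank_weight_equiv ρ C.eEF (C.Z.nG C.J0) φ (fun x => ?_) fun x => ?_
      · exact hn x.1 x.2
      · obtain ⟨e, f⟩ := x
        show _ = chEF (0, l / l₀) (k * f, l₀ * e)
        rw [efval, efval, zero_mul, zero_mul, zero_add, add_zero, ← mul_assoc,
          div_mul_cancel₀ _ hl₀]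
    · rw [shift l m hm, scale m hm]
  have hpos : 0 < N (0, 1) := by
    have hz : ρ (C.uQ 0 0 0 0 1) ≠ 1 := by
      intro h
      rcases (MonoidHom.normal_ker ρ).eq_bot_or_eq_top with e | e
      · have : C.uQ 0 0 0 0 1 ∈ ρ.ker := h
        rw [e, Subgroup.mem_bot, ← C.uQ_zero] at this
        exact one_ne_zero (C.uQ_inj_f this)
      · have := rho_trivial_degree ρ hρ fun g =>
          MonoidHom.mem_ker.mp (e ▸ Subgroup.mem_top g : g ∈ ρ.ker)
        omega
    obtain ⟨χ, hχ, hw⟩ := exists_weight ρ C.eEF (x₀ := ((0 : C.kF), (1 : C.kF))) hz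
    obtain ⟨p, rfl⟩ := hbij.2 χ
    have hp : p ≠ 0 := by
      rintro rfl
      refine hχ ?_
      show chEF (0, 0) (0, 1) = 1
      rw [efval]
      simp
    rw [← hN p hp, Nat.pos_iff_ne_zero, Ne, Submodule.finrank_eq_zero]
    exact hw
  set P := N (0, 1) with hP
  have hdim : (q ^ 2 - 1) * P + N 0 = finrank ℂ V := by
    rw [← hsum, ← Finset.sum_erase_add _ _ (Finset.mem_univ (0 : C.kF × C.kF)),
      Finset.sum_congr rfl fun p hp => hN p (Finset.ne_of_mem_erase hp), Finset.sum_const,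
      Finset.card_erase_of_mem (Finset.mem_univ _), Finset.card_univ, Fintype.card_prod, hcF,
      smul_eq_mul, pow_two]
  -- the characters on the third to last coordinate
  have moveM : ∀ δ : K, M δ (0, 1) = M 0 (0, 1) ∧ M δ (1, 0) = M 0 (1, 0) := fun δ => by
    have hφ2 : C.φ (C.φ (C.φ (-δ))) = -δ := C.φ_cube _
    constructor
    · let φ : K × C.kF × C.kF ≃ K × C.kF × C.kF :=
        { toFun := fun x => (x.1, x.2.1, x.2.2 - C.Tk (-δ * x.1))
          invFun := fun x => (x.1, x.2.1, x.2.2 + C.Tk (-δ * x.1))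
          left_inv := fun x => Prod.ext rfl (Prod.ext rfl (sub_add_cancel _ _))
          right_inv := fun x => Prod.ext rfl (Prod.ext rfl (add_sub_cancel_right _ _)) }
      refine finrank_weight_equiv ρ C.eDEF (C.uQ 0 (C.φ (C.φ (-δ))) 0 0 0) φ (fun x => ?_)
        fun x => ?_
      · obtain ⟨d, e, f⟩ := x
        show C.uQ 0 0 d e f * _ = _ * C.uQ 0 0 d e (f - C.Tk (-δ * d))
        rw [C.conj_AC, hφ2]
        simp
      · obtain ⟨d, e, f⟩ := x
        show _ = chDEF 0 (0, 1) (d, e, f - C.Tk (-δ * d))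
        rw [defval, defval]
        congr 1
        rw [neg_mul, map_neg, zero_mul, zero_mul, map_zero]
        ring
    · let φ : K × C.kF × C.kF ≃ K × C.kF × C.kF :=
        { toFun := fun x => (x.1, x.2.1 - C.Tk (-δ * x.1), x.2.2)
          invFun := fun x => (x.1, x.2.1 + C.Tk (-δ * x.1), x.2.2)
          left_inv := fun x => Prod.ext rfl (Prod.ext (sub_add_cancel _ _) rfl)
          right_inv := fun x => Prod.ext rfl (Prod.ext (add_sub_cancel_right _ _) rfl) }
      refine finrank_weight_equiv ρ C.eDEF (C.uB (C.φ (C.φ (-δ)))) φ (fun x => ?_) fun x => ?_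
      · obtain ⟨d, e, f⟩ := x
        show C.uQ 0 0 d e f * _ = _ * C.uQ 0 0 d (e - C.Tk (-δ * d)) f
        rw [C.conj_B, hφ2]
      · obtain ⟨d, e, f⟩ := x
        show _ = chDEF 0 (1, 0) (d, e - C.Tk (-δ * d), f)
        rw [defval, defval]
        congr 1
        rw [neg_mul, map_neg, zero_mul, zero_mul, map_zero]
        ring
  have hK3 : Fintype.card K = q ^ 3 := C.hK
  have hPM : P = q ^ 3 * M 0 (0, 1) := by
    rw [hP, hfib, Finset.sum_congr rfl fun δ _ => (moveM δ).1, Finset.sum_const, Finset.card_univ,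
      hK3, smul_eq_mul]
  have hPM' : P = q ^ 3 * M 0 (1, 0) := by
    rw [← hN (1, 0) (fun h => one_ne_zero (congrArg Prod.fst h)), hfib,
      Finset.sum_congr rfl fun δ _ => (moveM δ).2, Finset.sum_const, Finset.card_univ, hK3,
      smul_eq_mul]
  -- the target
  have hq2 : 1 ≤ q ^ 2 := Nat.one_le_pow _ _ C.hq.pos
  have hq35 : q ^ 3 ≤ q ^ 5 := Nat.pow_le_pow_right C.hq.pos (by norm_num)
  have htarget : q * (q ^ 4 - q ^ 2 + 1) = q ^ 5 - q ^ 3 + q := by
    have h24 : q ^ 2 ≤ q ^ 4 := Nat.pow_le_pow_right C.hq.pos (by norm_num)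
    zify [h24, hq35]
    ring
  have h53 : (q ^ 2 - 1) * q ^ 3 = q ^ 5 - q ^ 3 := by
    zify [hq2, hq35]
    ring
  rw [htarget]
  rcases Nat.lt_or_ge (M 0 (0, 1)) 2 with hM | hM
  swap
  · have h1 : (q ^ 2 - 1) * (q ^ 3 * 2) ≤ (q ^ 2 - 1) * P := by
      rw [hPM]
      exact Nat.mul_le_mul_left _ (Nat.mul_le_mul_left _ hM)
    rw [← mul_assoc, h53] at h1
    have : q ^ 3 + q ≤ q ^ 5 := by
      calc q ^ 3 + q ≤ q ^ 3 + q ^ 3 :=
            Nat.add_le_add_left (Nat.le_self_pow (by norm_num) q) _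
        _ = 2 * q ^ 3 := (two_mul _).symm
        _ ≤ q ^ 2 * q ^ 3 := Nat.mul_le_mul_right _ (hq.trans (Nat.le_self_pow (by norm_num) q))
        _ = q ^ 5 := by ring
    omega
  have hPq : P = q ^ 3 := by
    have : M 0 (0, 1) ≠ 0 := fun h => by rw [h, mul_zero] at hPM; omega
    rw [hPM, show M 0 (0, 1) = 1 by omega, mul_one]
  have hM1 : M 0 (1, 0) = 1 := by
    rw [hPq] at hPM'
    exact (Nat.mul_eq_left (pow_ne_zero _ C.hq.ne_zero)).mp hPM'.symm
  -- a line
  obtain ⟨w, hwL, hw0⟩ := Submodule.exists_mem_ne_zero_of_ne_bot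
    (p := weight ρ C.eDEF (chDEF 0 (1, 0))) (fun h => by
      have : M 0 (1, 0) = 0 := by
        show finrank ℂ (weight ρ C.eDEF (chDEF 0 (1, 0))) = 0
        rw [h, finrank_bot]
      omega)
  have hwv : ∀ (d : K) (e f : C.kF), ρ (C.uQ 0 0 d e f) w = ψ e • w := fun d e f => by
    refine (hwL (d, e, f)).trans ?_
    rw [defval]
    simp
  have line : ∀ g : C.Z.G1, (∀ (d : K) (e f : C.kF), ∃ (d' : K) (f' : C.kF),
      C.uQ 0 0 d e f * g = g * C.uQ 0 0 d' e f') → ∃ c : ℂ, ρ g w = c • w := by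
    intro g hg
    refine exists_smul_of_line ρ C.eDEF hM1 hwL hw0 fun x => ?_
    obtain ⟨d, e, f⟩ := x
    obtain ⟨d', f', h⟩ := hg d e f
    show ρ (C.uQ 0 0 d e f) (ρ g w) = _
    rw [eigen_translate ρ h (hwv d' e f'), defval]
    simp
  choose γ₀ hγ₀ using fun x : C.kF × K => line (C.uQ x.1 x.2 0 0 0) fun d e f =>
    ⟨d, _, C.conj_AC x.1 x.2 d e f⟩
  have hinjw : Function.Injective fun c : ℂ => c • w := smul_left_injective ℂ hw0
  let γ : AddChar (C.kF × K) ℂ :=
    { toFun := γ₀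
      map_zero_eq_one' := hinjw (by
        show γ₀ 0 • w = (1 : ℂ) • w
        rw [one_smul, ← hγ₀, Prod.fst_zero, Prod.snd_zero, C.uQ_zero, map_one,
          Module.End.one_apply])
      map_add_eq_mul' := fun x y => hinjw (by
        show γ₀ (x + y) • w = (γ₀ x * γ₀ y) • w
        rw [← hγ₀, ← C.eAC_apply, Prod.mk.eta, ofAdd_add, map_mul, map_mul,
          Module.End.mul_apply]
        show ρ (C.uQ x.1 x.2 0 0 0) (ρ (C.uQ y.1 y.2 0 0 0) w) = _
        rw [hγ₀ y, map_smul, hγ₀ x, smul_smul, mul_comm]) }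
  have hγ : ∀ a c, ρ (C.uQ a c 0 0 0) w = γ (a, c) • w := fun a c => hγ₀ (a, c)
  -- the third coordinate acts trivially on the line
  obtain ⟨cc, hc22, hc23, hc19⟩ := C.exists_scale_c
  have hc20 : C.cv 20 cc ≠ 0 := Units.ne_zero _
  have h22' : (⟨C.cv 22 cc, (C.cv_fixed cc).2.1⟩ : C.kF) = 1 := Subtype.ext hc22
  have h23' : (⟨C.cv 23 cc, (C.cv_fixed cc).2.2⟩ : C.kF) = 1 := Subtype.ext hc23
  obtain ⟨κ, hκ⟩ := line (C.tH cc) fun d e f => ⟨d / C.cv 20 cc, f, by
    have e' := mul_inv_eq_iff_eq_mul.mp (C.tH_conj cc 0 0 (d / C.cv 20 cc) e f)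
    rw [mul_zero, mul_zero, mul_div_cancel₀ _ hc20, h22', h23', one_mul, one_mul] at e'
    exact e'.symm⟩
  have hκ0 : κ ≠ 0 := fun h => rho_inj ρ hw0 (hκ.trans (by rw [h, zero_smul]))
  have hγc : ∀ v : K, γ (0, v) = 1 := by
    intro v
    set s := C.cv 19 cc
    set u := v / (s - 1)
    have h1 : γ (0, s * u) = γ (0, u) := by
      have e : C.uQ 0 (s * u) 0 0 0 * C.tH cc = C.tH cc * C.uQ 0 u 0 0 0 := by
        have e' := mul_inv_eq_iff_eq_mul.mp (C.tH_conj cc 0 u 0 0 0)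
        simp only [mul_zero] at e'
        exact e'.symm
      have h := eigen_translate ρ e (hγ 0 u)
      rw [hκ, map_smul, hγ, smul_smul, smul_smul, mul_comm] at h
      exact mul_right_cancel₀ hκ0 (hinjw h)
    have h2 : ((0 : C.kF), s * u) = ((0 : C.kF), v) + (0, u) := by
      rw [Prod.mk_add_mk, add_zero]
      congr 1
      have : s - 1 ≠ 0 := sub_ne_zero.mpr hc19
      simp only [u]
      field_simp
      ring
    rw [h2, AddChar.map_add_eq_mul] at h1
    have hne : γ ((0 : C.kF), u) ≠ 0 := fun h => by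
      have := AddChar.map_add_eq_mul γ ((0 : C.kF), u) (-((0 : C.kF), u))
      rw [add_neg_cancel, AddChar.map_zero_eq_one, h, zero_mul] at this
      exact one_ne_zero this
    exact (mul_eq_right₀ hne).mp h1
  obtain ⟨a₀, ha₀, -⟩ := exists_mulShift hψ (γ.compAddMonoidHom (AddMonoidHom.inl C.kF K))
  obtain ⟨t, ht⟩ := C.exists_neg_norm a₀
  -- a translate fixed by the first coordinate
  set w₁ := ρ (C.uB t) w
  have hw1a : ∀ a, ρ (C.uQ a 0 0 0 0) w₁ = w₁ := fun a => by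
    obtain ⟨F, hF⟩ := C.conj_B_a t a
    have hy : ρ (C.uQ a ((a : K) * t) (-((a : K) * t * C.φ (C.φ t))) (a * C.Nk t) F) w =
        (1 : ℂ) • w := by
      have e : C.uQ a ((a : K) * t) (-((a : K) * t * C.φ (C.φ t))) (a * C.Nk t) F =
          C.uQ a ((a : K) * t) 0 0 0 *
            C.uQ 0 0 (-((a : K) * t * C.φ (C.φ t))) (a * C.Nk t) F := by
        rw [C.uQ_mul]; simp
      rw [e, map_mul, Module.End.mul_apply, hwv, map_smul, hγ, smul_smul]
      congr 1
      have hsplit : γ (a, (a : K) * t) = γ (a, 0) * γ (0, (a : K) * t) := by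
        rw [← AddChar.map_add_eq_mul, Prod.mk_add_mk, add_zero, zero_add]
      rw [hsplit, hγc, mul_one]
      have := ha₀ a
      rw [AddChar.compAddMonoidHom_apply, AddMonoidHom.inl_apply] at this
      rw [this, ← AddChar.map_add_eq_mul, ← mul_add, add_comm, ht, mul_zero,
        AddChar.map_zero_eq_one]
    have := eigen_translate ρ hF hy
    rwa [one_smul] at this
  have hw1e : ∀ e, ρ (C.uQ 0 0 0 e 0) w₁ = ψ e • w₁ := fun e => by
    refine eigen_translate ρ (C.conj_B t 0 e 0) ?_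
    rw [mul_zero, map_zero, sub_zero]
    exact hwv 0 e 0
  have hw1f : ∀ f, ρ (C.uQ 0 0 0 0 f) w₁ = w₁ := fun f => by
    have h := eigen_translate ρ (v := w) (c := 1) (C.conj_B t 0 0 f) (by
      rw [mul_zero, map_zero, sub_zero, hwv, AddChar.map_zero_eq_one])
    rwa [one_smul] at h
  -- its image under the Weyl element
  obtain ⟨k, l, m, hk0, -, -, na, ne', nf⟩ := C.n1_conj
  set w₂ := ρ (C.Z.nG C.J1) w₁
  have hw2 : ∀ e f, ρ (C.uQ 0 0 0 e f) w₂ = w₂ := fun e f => by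
    rw [show C.uQ 0 0 0 e f = C.uQ 0 0 0 e 0 * C.uQ 0 0 0 0 f by rw [C.uQ_mul]; simp, map_mul,
      Module.End.mul_apply]
    have h1 := eigen_translate ρ (v := w₁) (c := 1) (nf f) (by rw [one_smul]; exact hw1f _)
    have h2 := eigen_translate ρ (v := w₁) (c := 1) (ne' e) (by rw [one_smul]; exact hw1a _)
    rw [one_smul] at h1 h2
    rw [h1, h2]
  have hw2a : ∀ a, ρ (C.uQ a 0 0 0 0) w₂ = ψ (k * a) • w₂ := fun a =>
    eigen_translate ρ (na a) (hw1e (k * a))
  set W := weight ρ C.eEF (chEF 0)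
  have hWmem : ∀ v : V, v ∈ W ↔ ∀ e f, ρ (C.uQ 0 0 0 e f) v = v := fun v => by
    have h0 : ∀ x, chEF 0 x = 1 := fun x => by
      obtain ⟨e, f⟩ := x
      show chEF (0, 0) (e, f) = 1
      rw [efval]; simp
    constructor
    · intro h e f
      have := h (e, f)
      rwa [h0, one_smul] at this
    · intro h x
      rw [h0, one_smul]
      exact h x.1 x.2
  have hD0 : q - 1 ≤ N 0 := by
    have hinv : ∀ a : C.kF, ∀ v ∈ W, ρ (C.eA (Multiplicative.ofAdd a)) v ∈ W := fun a v hv => by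
      rw [hWmem] at hv ⊢
      intro e f
      rw [C.eA_apply]
      have h := eigen_translate ρ (v := v) (c := 1) (C.conj_AC a 0 0 e f)
        (by rw [one_smul]; exact hv _ _)
      rwa [one_smul] at h
    have hchar : Function.Injective fun s : C.kFˣ => ψ.mulShift (k * ((s⁻¹ : C.kFˣ) : C.kF)) :=
      fun s s' h => inv_injective (Units.ext
        (mul_left_cancel₀ hk0 (AddChar.to_mulShift_inj_of_isPrimitive hψ h)))
    refine le_trans (le_of_eq ?_) (card_le_finrank_of_eigen ρ C.eA W hinv _ hchar fun s => ?_)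
    · rw [Fintype.card_units, hcF]
    · obtain ⟨c, hc⟩ := C.exists_scale_a (Units.ne_zero s)
      have hsc : (⟨C.cv 14 c, (C.cv_fixed c).1⟩ : C.kF) = (s : C.kF) := Subtype.ext hc
      refine ⟨ρ (C.tH c) w₂, (hWmem _).mpr fun e f => ?_,
        rho_inj ρ (rho_inj ρ (rho_inj ρ hw0)), fun a => ?_⟩
      · have h22 : (⟨C.cv 22 c, (C.cv_fixed c).2.1⟩ : C.kF) ≠ 0 := fun h =>
          Units.ne_zero _ (congrArg Subtype.val h)
        have h23 : (⟨C.cv 23 c, (C.cv_fixed c).2.2⟩ : C.kF) ≠ 0 := fun h =>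
          Units.ne_zero _ (congrArg Subtype.val h)
        have e' := mul_inv_eq_iff_eq_mul.mp (C.tH_conj c 0 0 0
          (e / ⟨C.cv 22 c, (C.cv_fixed c).2.1⟩) (f / ⟨C.cv 23 c, (C.cv_fixed c).2.2⟩))
        rw [mul_zero, mul_zero, mul_zero, mul_div_cancel₀ _ h22, mul_div_cancel₀ _ h23] at e'
        have h := eigen_translate ρ (v := w₂) (c := 1) e'.symm (by rw [one_smul]; exact hw2 _ _)
        rwa [one_smul] at h
      · rw [C.eA_apply, AddChar.mulShift_apply]
        have e' := mul_inv_eq_iff_eq_mul.mp (C.tH_conj c (((s⁻¹ : C.kFˣ) : C.kF) * a) 0 0 0 0)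
        rw [hsc, mul_zero, mul_zero, mul_zero, mul_zero, Units.mul_inv_cancel_left] at e'
        rw [mul_assoc]
        exact eigen_translate ρ e'.symm (hw2a _)
  rw [hPq, h53] at hdim
  by_contra hlt
  have hfinal : finrank ℂ V = q ^ 5 - q ^ 3 + (q - 1) := by omega
  haveI := hρ
  have hdvd := CfsgLib.Char.finrank_dvd_card ρ
  rw [C.card_group, hfinal] at hdvd
  exact not_dvd_order hq hdvd

end Ctx

end CfsgLib.Chev.D4Tw
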