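import Cfsg.Agent.Chev.TwistedCells

/-!
Automorphisms of a twisted group which fix the two opposite unipotent subgroups.
-/

set_option autoImplicit false

namespace CfsgLib.Chev

open Cfsg.Lie Matrix
open scoped MatrixGroups

namespace Tab

variable {D : ChevalleyDatum}

namespace Good.Twisted

variable {T : Tab D} {G : T.Good} {F : Type*} [Field F] {Φ : G.Graph F} (Z : Twisted Φ)

/-- The representative of an orbit, in the group. -/
def nG (J : Fin Z.nJ) : Z.G1 := ⟨Z.n J, Z.n_mem J⟩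

/-- The representative of a word, in the group. -/
def nTG (L : List (Fin Z.nJ)) : Z.G1 := ⟨Z.nT L, Z.nT_mem L⟩

/-- An automorphism fixing `U¹` and its opposite. -/
structure FixBoth (L₀ : List (Fin Z.nJ)) (α : MulAut Z.G1) : Prop where
  pos : ∀ g : Z.G1, (α g : GL D.Idx F) ∈ Z.U1 ↔ (g : GL D.Idx F) ∈ Z.U1
  neg : ∀ g : Z.G1, (α g : GL D.Idx F) ∈ Z.V1 L₀ ↔ (g : GL D.Idx F) ∈ Z.V1 L₀

include Z

theorem nT_single (J : Fin Z.nJ) : Z.nT [J] = Z.n J := by simp [nT]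

theorem cell_single_coset {J : Fin Z.nJ} {g : GL D.Idx F} (hg : Z.Cell [J] g) :
    ∃ x ∈ Z.XJ J, ∃ b, Z.InB b ∧ g = x * Z.n J * b := by
  obtain ⟨u, hu, h, hh, v, hv, rfl⟩ := hg
  have hu2 : u⁻¹ ∈ G.US F {r | IsPos D r} := by rw [← G.posUnipotent_eq]; exact inv_mem hu.2
  obtain ⟨a, ha, b, hb, e⟩ :=
    Z.split_fix J G.closed_pos (inv_mem hu).1 hu2 fun s ⟨_, h, _⟩ => h
  obtain rfl : u = b⁻¹ * a⁻¹ := by rw [← inv_inv u, e, _root_.mul_inv_rev]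
  set k := a⁻¹
  have hk : (Z.n J)⁻¹ * k * Z.n J ∈ Z.U1 := by
    refine Subgroup.mem_inf.mpr ⟨?_, ?_⟩
    · simpa using Z.fix_conj (inv_mem (Z.n_fix J)) (inv_mem (Subgroup.mem_inf.mp ha).1)
    · have := G.conj_x_act (G.rootAct_inv (Z.n_mono J) (Z.n_act J)) (S' := {r | IsPos D r})
        (fun s hs => by
          obtain ⟨-, hlt, -, h3⟩ := hs
          refine ⟨hlt, ?_⟩
          rw [show (G.full.pw (Z.word J))⁻¹ = G.full.pw (Z.word J) from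
            inv_eq_of_mul_eq_one_right (Z.invol J)]
          exact h3) (inv_mem (Subgroup.mem_inf.mp ha).2)
      rw [inv_inv] at this
      rw [G.posUnipotent_eq]
      exact this
  have hh' : (Z.n J)⁻¹ * h * Z.n J ∈ Z.H0 := by
    have := mul_mem (mul_mem (inv_mem (Z.n_sq J)) (Z.n_conj J h hh)) (Z.n_sq J)
    convert this using 1
    group
  refine ⟨b⁻¹, inv_mem hb, _, Z.inB_mul (Z.inB_U1 hk) (Z.inB_mul ⟨1, one_mem _, _, hh', rfl⟩
    (Z.inB_U1 hv)), ?_⟩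
  rw [Z.nT_single]
  group

variable {L₀ : List (Fin Z.nJ)} (h₀ : Z.IsMinusOne L₀)
include h₀

theorem cell_of_XN {J : Fin Z.nJ} {y : GL D.Idx F} (hy : y ∈ Z.XN J) (hne : y ≠ 1) :
    Z.Cell [J] y := by
  have hx := Z.mem_XN.mp hy
  have hx1 : (Z.n J)⁻¹ * y * Z.n J ≠ 1 := fun e => hne (by
    rw [show y = Z.n J * ((Z.n J)⁻¹ * y * Z.n J) * (Z.n J)⁻¹ by group, e]
    group)
  obtain ⟨a, ha, h, hh, b, hb, e⟩ := Z.rank_one J _ hx hx1
  refine ⟨a, ha, h, hh, b, Z.XJ_le_U1 J hb, ?_⟩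
  rw [Z.nT_single, ← e]
  group

variable [Finite F]

/-- Every coset off the base one meets the negative root group. -/
theorem exists_XN_coset {J : Fin Z.nJ} {x : GL D.Idx F} (hx : x ∈ Z.XJ J) (hne : x ≠ 1) :
    ∃ y ∈ Z.XN J, ∃ b, Z.InB b ∧ y = x * Z.n J * b := by
  classical
  have step : ∀ y : {y : Z.XN J // y ≠ 1}, ∃ x' : {x : Z.XJ J // x ≠ 1}, ∃ b, Z.InB b ∧
      (y.1 : GL D.Idx F) = (x'.1 : GL D.Idx F) * Z.n J * b := by
    rintro ⟨⟨y, hy⟩, hy1⟩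
    have hy1' : y ≠ 1 := fun e => hy1 (Subtype.ext e)
    obtain ⟨a, ha, b, hb, e⟩ := Z.cell_single_coset (Z.cell_of_XN h₀ hy hy1')
    refine ⟨⟨⟨a, ha⟩, fun h => ?_⟩, b, hb, e⟩
    have ha1 : a = 1 := congrArg Subtype.val h
    rw [ha1, one_mul] at e
    exact Z.n_not_inB_mul h₀ (Z.XN_le_V1 h₀ J hy) hb e
  choose f b hb hf using step
  have hinj : Function.Injective f := fun y y' e => by
    have h1 : (y'.1 : GL D.Idx F)⁻¹ * y.1 = (b y')⁻¹ * b y := by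
      rw [hf y, hf y', e]
      group
    have h2 := Z.inB_inf_V1 h₀ (h1 ▸ Z.inB_mul (Z.inB_inv (hb y')) (hb y))
      (mul_mem (inv_mem (Z.XN_le_V1 h₀ J y'.1.2)) (Z.XN_le_V1 h₀ J y.1.2))
    exact Subtype.ext (Subtype.ext (inv_mul_eq_one.mp h2).symm)
  let e : {x : Z.XJ J // x ≠ 1} → {y : Z.XN J // y ≠ 1} := fun x =>
    ⟨⟨Z.n J * x.1 * (Z.n J)⁻¹, Z.mem_XN.mpr (by
      rw [show (Z.n J)⁻¹ * (Z.n J * (x.1 : GL D.Idx F) * (Z.n J)⁻¹) * Z.n J = x.1 by group]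
      exact x.1.2)⟩, fun h => x.2 (Subtype.ext (conj_eq_one_iff.mp (congrArg Subtype.val h)))⟩
  have einj : Function.Injective e := fun a a' h => Subtype.ext (Subtype.ext
    (mul_left_cancel (mul_right_cancel
      (congrArg (fun z : {y : Z.XN J // y ≠ 1} => (z.1 : GL D.Idx F)) h))))
  obtain ⟨y, hy⟩ := (Finite.injective_iff_surjective.mp (hinj.comp einj)) ⟨⟨x, hx⟩, fun h =>
    hne (congrArg Subtype.val h)⟩
  refine ⟨_, (e y).1.2, b (e y), hb _, ?_⟩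
  rw [hf (e y), show f (e y) = _ from hy]

theorem mem_XN_iff {J : Fin Z.nJ} {g : GL D.Idx F} :
    g ∈ Z.XN J ↔ g ∈ Z.V1 L₀ ∧ (g = 1 ∨ Z.Cell [J] g) := by
  refine ⟨fun h => ⟨Z.XN_le_V1 h₀ J h, (em (g = 1)).imp id (Z.cell_of_XN h₀ h)⟩, ?_⟩
  rintro ⟨hV, rfl | hc⟩
  · exact one_mem _
  obtain ⟨x, hx, b, hb, rfl⟩ := Z.cell_single_coset hc
  by_cases hx1 : x = 1
  · subst hx1
    rw [one_mul] at hV ⊢
    exact absurd rfl (Z.n_not_inB_mul h₀ hV hb)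
  obtain ⟨y, hy, b', hb', rfl⟩ := Z.exists_XN_coset h₀ hx hx1
  have h1 := Z.inB_inf_V1 h₀ (g := (x * Z.n J * b')⁻¹ * (x * Z.n J * b))
    (by rw [show (x * Z.n J * b')⁻¹ * (x * Z.n J * b) = b'⁻¹ * b by group]
        exact Z.inB_mul (Z.inB_inv hb') hb)
    (mul_mem (inv_mem (Z.XN_le_V1 h₀ J hy)) hV)
  rw [inv_mul_eq_one] at h1
  rwa [← h1]

theorem mem_nB_iff {J : Fin Z.nJ} {g : GL D.Idx F} :
    (∃ b, Z.InB b ∧ g = Z.n J * b) ↔ Z.Cell [J] g ∧ ¬ ∃ v ∈ Z.V1 L₀, Z.InB (v⁻¹ * g) := by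
  constructor
  · rintro ⟨b, hb, rfl⟩
    refine ⟨?_, ?_⟩
    · refine Z.cell_mul_right hb ?_
      rw [← Z.nT_single]
      exact Z.cell_nT _
    · rintro ⟨v, hv, hc⟩
      refine Z.n_not_inB_mul h₀ (J := J) hv (Z.inB_mul hb (Z.inB_inv hc)) ?_
      group
  · rintro ⟨hc, hno⟩
    obtain ⟨x, hx, b, hb, rfl⟩ := Z.cell_single_coset hc
    by_cases hx1 : x = 1
    · exact ⟨b, hb, by rw [hx1, one_mul]⟩
    obtain ⟨y, hy, b', hb', rfl⟩ := Z.exists_XN_coset h₀ hx hx1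
    refine absurd ⟨_, Z.XN_le_V1 h₀ J hy, ?_⟩ hno
    rw [show (x * Z.n J * b')⁻¹ * (x * Z.n J * b) = b'⁻¹ * b by group]
    exact Z.inB_mul (Z.inB_inv hb') hb

omit [Finite F] h₀

variable {α : MulAut Z.G1} (hα : Z.FixBoth L₀ α)
include hα

theorem fixBoth_symm : Z.FixBoth L₀ α.symm where
  pos g := by
    have := hα.pos (α.symm g)
    rwa [MulEquiv.apply_symm_apply, Iff.comm] at this
  neg g := by
    have := hα.neg (α.symm g)
    rwa [MulEquiv.apply_symm_apply, Iff.comm] at this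

variable (hX : Z.XNontrivial)
include hX

theorem aut_inB {g : Z.G1} : Z.InB (α g : GL D.Idx F) ↔ Z.InB (g : GL D.Idx F) := by
  have one : ∀ {β : MulAut Z.G1}, Z.FixBoth L₀ β → ∀ {g : Z.G1},
      Z.InB (g : GL D.Idx F) → Z.InB (β g : GL D.Idx F) := by
    intro β hβ g hg
    refine Z.inB_of_normalizes hX (β g).2 fun u hu => ?_
    set w := β.symm ⟨u, Z.U1_le hu⟩ with hw
    have hwU : (w : GL D.Idx F) ∈ Z.U1 := ((Z.fixBoth_symm hβ).pos _).mpr hu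
    have h1 := (hβ.pos (g * w * g⁻¹)).mpr (Z.inB_normalizes hg hwU)
    rw [map_mul, map_mul, map_inv, hw, MulEquiv.apply_symm_apply] at h1
    exact h1
  refine ⟨fun h => ?_, one hα⟩
  have := one (Z.fixBoth_symm hα) h
  rwa [MulEquiv.symm_apply_apply] at this

/-- Double cosets go to double cosets. -/
theorem aut_cell (L : List (Fin Z.nJ)) : ∃ L', Z.Red L' ∧ ∀ z : Z.G1,
    Z.Cell L' (α z : GL D.Idx F) ↔ Z.Cell L (z : GL D.Idx F) := by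
  have one : ∀ {β : MulAut Z.G1}, Z.FixBoth L₀ β → ∀ {M M' : List (Fin Z.nJ)} {g z : Z.G1},
      Z.Cell M (g : GL D.Idx F) → Z.Cell M' (β g : GL D.Idx F) → Z.Cell M (z : GL D.Idx F) →
      Z.Cell M' (β z : GL D.Idx F) := by
    intro β hβ M M' g z hg hg' hz
    obtain ⟨u, hu, h, hh, v, hv, e⟩ := hg
    obtain ⟨u', hu', h', hh', v', hv', e'⟩ := hz
    let b : Z.G1 := ⟨u' * h' * (u * h)⁻¹, mul_mem (mul_mem (Z.U1_le hu') (Z.H0_le hh'))
      (inv_mem (mul_mem (Z.U1_le hu) (Z.H0_le hh)))⟩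
    let c : Z.G1 := ⟨v⁻¹ * v', mul_mem (inv_mem (Z.U1_le hv)) (Z.U1_le hv')⟩
    have ez : z = b * g * c := Subtype.ext (by
      simp only [Subgroup.coe_mul, b, c, e, e']
      group)
    rw [ez, map_mul, map_mul, Subgroup.coe_mul, Subgroup.coe_mul]
    refine Z.cell_mul_right ((aut_inB Z hβ hX).mpr ?_)
      (Z.cell_mul_left ((aut_inB Z hβ hX).mpr ?_) hg')
    · exact Z.inB_U1 (mul_mem (inv_mem hv) hv')
    · exact Z.inB_mul ⟨u', hu', h', hh', rfl⟩ (Z.inB_inv ⟨u, hu, h, hh, rfl⟩)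
  obtain ⟨L', hL', hc⟩ := Z.exists_cell (α (Z.nTG L)).2
  refine ⟨L', hL', fun z => ⟨fun h => ?_, fun h => one hα (Z.cell_nT L) hc h⟩⟩
  have := one (Z.fixBoth_symm hα) (z := α z) hc
    (by rw [MulEquiv.symm_apply_apply]; exact Z.cell_nT L) h
  rwa [MulEquiv.symm_apply_apply] at this

/-- The double coset of an orbit is fixed if no other one has the same size. -/
theorem aut_cell_single [Finite F] {J : Fin Z.nJ}
    (huniq : ∀ L, Z.Red L → Nat.card (Z.UT L) = Nat.card (Z.UT [J]) → Z.pwT L = Z.pwT [J])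
    (z : Z.G1) : Z.Cell [J] (α z : GL D.Idx F) ↔ Z.Cell [J] (z : GL D.Idx F) := by
  obtain ⟨L, hL, hc⟩ := Z.aut_cell hα hX [J]
  have hcard : Nat.card {g : Z.G1 // Z.Cell [J] g} = Nat.card {g : Z.G1 // Z.Cell L g} :=
    Nat.card_congr (α.toEquiv.subtypeEquiv fun g => (hc g).symm)
  rw [Z.card_cell, Z.card_cell] at hcard
  have e := huniq L hL (Nat.eq_of_mul_eq_mul_left
    (Nat.mul_pos Nat.card_pos Nat.card_pos) hcard).symm
  rw [← hc z]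
  exact ⟨Z.cell_congr e.symm, Z.cell_congr e⟩

include h₀

theorem aut_H0 {g : Z.G1} : (α g : GL D.Idx F) ∈ Z.H0 ↔ (g : GL D.Idx F) ∈ Z.H0 := by
  have one : ∀ {β : MulAut Z.G1}, Z.FixBoth L₀ β → ∀ {g : Z.G1},
      (g : GL D.Idx F) ∈ Z.H0 → (β g : GL D.Idx F) ∈ Z.H0 := by
    intro β hβ g hg
    have hs := Z.fixBoth_symm hβ
    refine Z.mem_H0_of_normalizes h₀ hX (β g).2
      (fun u hu => Z.inB_normalizes ((aut_inB Z hβ hX).mpr ⟨1, one_mem _, _, hg,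
        (one_mul _).symm⟩) hu) fun v hv => ?_
    have hvG : v ∈ Z.G1 := by
      have := mul_mem (mul_mem (Z.nT_mem L₀) (Z.U1_le (Z.mem_V1.mp hv))) (inv_mem (Z.nT_mem L₀))
      convert this using 1
      group
    set w := β.symm ⟨v, hvG⟩ with hw
    have hwV : (w : GL D.Idx F) ∈ Z.V1 L₀ := (hs.neg _).mpr hv
    have h1 := (hβ.neg (g * w * g⁻¹)).mpr (Z.H0_conj_V1 h₀ hg hwV)
    rw [map_mul, map_mul, map_inv, hw, MulEquiv.apply_symm_apply] at h1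
    exact h1
  refine ⟨fun h => ?_, one hα⟩
  have := one (Z.fixBoth_symm hα) h
  rwa [MulEquiv.symm_apply_apply] at this

theorem aut_nT : ∃ h ∈ Z.H0, (α (Z.nTG L₀) : GL D.Idx F) = Z.nT L₀ * h := by
  refine ⟨(Z.nT L₀)⁻¹ * (α (Z.nTG L₀) : GL D.Idx F), ?_, by group⟩
  refine Z.mem_H0_of_normalizes h₀ hX (mul_mem (inv_mem (Z.nT_mem L₀)) (α _).2) (fun u hu => ?_)
    fun v hv => ?_
  · set w := α.symm ⟨u, Z.U1_le hu⟩ with hw
    have hwU : (w : GL D.Idx F) ∈ Z.U1 := ((Z.fixBoth_symm hα).pos _).mpr hu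
    have h1 := (hα.neg (Z.nTG L₀ * w * (Z.nTG L₀)⁻¹)).mpr (by
      rw [Z.mem_V1, Subgroup.coe_mul, Subgroup.coe_mul, Subgroup.coe_inv,
        show ((Z.nTG L₀ : Z.G1) : GL D.Idx F) = Z.nT L₀ from rfl]
      convert hwU using 1
      group)
    rw [map_mul, map_mul, map_inv, hw, MulEquiv.apply_symm_apply, Z.mem_V1] at h1
    convert h1 using 1
    simp only [Subgroup.coe_mul, Subgroup.coe_inv]
    group
  · have hvG : v ∈ Z.G1 := by
      have := mul_mem (mul_mem (Z.nT_mem L₀) (Z.U1_le (Z.mem_V1.mp hv))) (inv_mem (Z.nT_mem L₀))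
      convert this using 1
      group
    set w := α.symm ⟨v, hvG⟩ with hw
    have hwV : (w : GL D.Idx F) ∈ Z.V1 L₀ := ((Z.fixBoth_symm hα).neg _).mpr hv
    have h1 := (hα.pos (Z.nTG L₀ * w * (Z.nTG L₀)⁻¹)).mpr ((Z.conj_V1 h₀).mpr hwV)
    rw [map_mul, map_mul, map_inv, hw, MulEquiv.apply_symm_apply] at h1
    rw [Z.mem_V1]
    have h2 := Z.H0_conj_U1 (inv_mem (Z.nT_sq h₀)) h1
    convert h2 using 1
    simp only [Subgroup.coe_mul, Subgroup.coe_inv]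
    group
    simp [pow_two, mul_assoc]

variable [Finite F] {J : Fin Z.nJ}
  (hJ : ∀ z : Z.G1, Z.Cell [J] (α z : GL D.Idx F) ↔ Z.Cell [J] (z : GL D.Idx F))
include hJ

theorem aut_XN {g : Z.G1} : (α g : GL D.Idx F) ∈ Z.XN J ↔ (g : GL D.Idx F) ∈ Z.XN J := by
  rw [Z.mem_XN_iff h₀, Z.mem_XN_iff h₀, hα.neg, hJ, OneMemClass.coe_eq_one,
    OneMemClass.coe_eq_one, EmbeddingLike.map_eq_one_iff]

theorem aut_n : ∃ h ∈ Z.H0, (α (Z.nG J) : GL D.Idx F) = Z.n J * h := by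
  obtain ⟨b, hb, eb⟩ : ∃ b, Z.InB b ∧ (α (Z.nG J) : GL D.Idx F) = Z.n J * b := by
    obtain ⟨h1, h2⟩ := (Z.mem_nB_iff h₀).mp
      ⟨1, Z.inB_U1 (one_mem _), (mul_one (Z.n J)).symm⟩
    refine (Z.mem_nB_iff h₀).mpr ⟨(hJ _).mpr h1, ?_⟩
    rintro ⟨v, hv, hc⟩
    have hvG : v ∈ Z.G1 := by
      have := mul_mem (mul_mem (Z.nT_mem L₀) (Z.U1_le (Z.mem_V1.mp hv))) (inv_mem (Z.nT_mem L₀))
      convert this using 1
      group
    refine h2 ⟨(α.symm ⟨v, hvG⟩ : GL D.Idx F), ((Z.fixBoth_symm hα).neg _).mpr hv, ?_⟩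
    have h3 := (aut_inB Z hα hX (g := (α.symm ⟨v, hvG⟩)⁻¹ * Z.nG J)).mp (by
      rw [map_mul, map_inv, MulEquiv.apply_symm_apply]
      exact hc)
    exact h3
  obtain ⟨h0, hh0, e0⟩ := Z.aut_nT h₀ hα hX
  have epw : Z.pwT (L₀ ++ [J]) = Z.pwT ([J] ++ L₀) := by
    rw [Z.pwT_append, Z.pwT_append, Z.pwT_single]
    exact h₀.central J
  obtain ⟨k, hk, ek⟩ := Z.nT_congr epw
  rw [Z.nT_append, Z.nT_append, Z.nT_single] at ek
  have ekG : Z.nTG L₀ * Z.nG J = ⟨k, Z.H0_le hk⟩ * Z.nG J * Z.nTG L₀ :=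
    Subtype.ext (by simp only [Subgroup.coe_mul, mul_assoc]; exact ek)
  have e := congrArg (fun z : Z.G1 => ((α z : Z.G1) : GL D.Idx F)) ekG
  simp only [map_mul, Subgroup.coe_mul, eb, e0] at e
  have hk' : (α ⟨k, Z.H0_le hk⟩ : GL D.Idx F) ∈ Z.H0 := (Z.aut_H0 h₀ hα hX).mpr hk
  generalize (α ⟨k, Z.H0_le hk⟩ : GL D.Idx F) = k'' at e hk'
  obtain ⟨u, hu, h, hh, rfl⟩ := hb
  suffices u = 1 by exact ⟨h, hh, by rw [eb, this, one_mul]⟩
  have h1 : Z.nT L₀ * u * (Z.nT L₀)⁻¹ = 1 := by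
    refine Z.inB_inf_V1 h₀ ?_ (Z.mem_V1.mpr (by
      convert hu using 1
      group))
    set n := Z.nT L₀
    set m := Z.n J
    have e2 : n * u * n⁻¹ = (n * (m⁻¹ * (n⁻¹ * (n * h0 * n⁻¹)⁻¹ * n) * m) * n⁻¹) *
        (m⁻¹ * (k⁻¹ * k'') * m * (u * h)) * (n * h0 * h⁻¹ * n⁻¹) := by
      calc n * u * n⁻¹ = n * (m⁻¹ * h0⁻¹ * m) * n⁻¹ * ((n * m⁻¹ * n⁻¹) *
            (n * h0 * (m * (u * h))) * h⁻¹ * n⁻¹) := by group
        _ = _ := by
            rw [e, show n * m⁻¹ * n⁻¹ = m⁻¹ * k⁻¹ by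
              rw [show n * m⁻¹ * n⁻¹ = (n * m * n⁻¹)⁻¹ by group, ek]; group]
            group
    rw [e2]
    have hm : ∀ z ∈ Z.H0, m⁻¹ * z * m ∈ Z.H0 := fun z hz => by
      have := mul_mem (mul_mem (inv_mem (Z.n_sq J)) (Z.n_conj J z hz)) (Z.n_sq J)
      convert this using 1
      simp only [m]
      group
    refine Z.inB_mul (Z.inB_mul ⟨1, one_mem _, _, Z.nT_H0 _ (hm _ ?_), (one_mul _).symm⟩
      (Z.inB_mul ⟨1, one_mem _, _, hm _ (mul_mem (inv_mem hk) hk'), (one_mul _).symm⟩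
        ⟨u, hu, h, hh, rfl⟩)) ⟨1, one_mem _, n * (h0 * h⁻¹) * n⁻¹,
          Z.nT_H0 _ (mul_mem hh0 (inv_mem hh)), by group⟩
    convert inv_mem hh0 using 1
    group
  exact conj_eq_one_iff.mp h1

theorem aut_XJ {g : Z.G1} : (α g : GL D.Idx F) ∈ Z.XJ J ↔ (g : GL D.Idx F) ∈ Z.XJ J := by
  obtain ⟨h, hh, e⟩ := Z.aut_n h₀ hα hX hJ
  have key : ∀ z : Z.G1, ((Z.nG J * z * (Z.nG J)⁻¹ : Z.G1) : GL D.Idx F) ∈ Z.XN J ↔
      (z : GL D.Idx F) ∈ Z.XJ J := fun z => by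
    simp only [Z.mem_XN, Subgroup.coe_mul, Subgroup.coe_inv,
      show ((Z.nG J : Z.G1) : GL D.Idx F) = Z.n J from rfl]
    constructor <;> intro hz <;> convert hz using 1 <;> group
  rw [← key g, ← Z.aut_XN h₀ hα hX hJ, map_mul,
    map_mul, map_inv]
  simp only [Subgroup.coe_mul, Subgroup.coe_inv, e, Z.mem_XN]
  rw [show (Z.n J)⁻¹ * (Z.n J * h * (α g : GL D.Idx F) * (Z.n J * h)⁻¹) * Z.n J =
    h * (α g : GL D.Idx F) * h⁻¹ by group]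
  refine ⟨fun hz => Z.H0_conj_US (S := flipSet (Z.w J)) (fun s ⟨hs, _⟩ => hs) hh hz, fun hz => ?_⟩
  have := Z.H0_conj_US (S := flipSet (Z.w J)) (fun s ⟨hs, _⟩ => hs) (inv_mem hh) hz
  rw [show h⁻¹ * (h * (α g : GL D.Idx F) * h⁻¹) * h⁻¹⁻¹ = (α g : GL D.Idx F) by group] at this
  exact this

/-- Fixing a root group pointwise forces fixing the opposite one pointwise. -/
theorem aut_rigid (hfix : ∀ z : Z.G1, (z : GL D.Idx F) ∈ Z.XJ J → α z = z) {y : Z.G1}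
    (hy : (y : GL D.Idx F) ∈ Z.XN J) : α y = y := by
  by_cases hy1 : y = 1
  · rw [hy1, map_one]
  obtain ⟨hV, hc⟩ := (Z.mem_XN_iff h₀).mp hy
  rcases hc with hc | hc
  · exact absurd (Subtype.ext hc) hy1
  obtain ⟨x, hx, b, hb, e⟩ := Z.cell_single_coset hc
  obtain ⟨h, hh, en⟩ := Z.aut_n h₀ hα hX hJ
  let x' : Z.G1 := ⟨x, Z.X_le J hx⟩
  let b' : Z.G1 := ⟨b, Z.inB_mem hb⟩
  have ey : y = x' * Z.nG J * b' := Subtype.ext e
  have e' : (α y : GL D.Idx F) = x * Z.n J * (h * (α b' : GL D.Idx F)) := by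
    rw [ey, map_mul, map_mul, hfix x' hx]
    simp only [Subgroup.coe_mul, en, x', mul_assoc]
  have hB : Z.InB ((y : GL D.Idx F)⁻¹ * (α y : GL D.Idx F)) := by
    rw [e', e, show (x * Z.n J * b)⁻¹ * (x * Z.n J * (h * (α b' : GL D.Idx F))) =
      b⁻¹ * (h * (α b' : GL D.Idx F)) by group]
    exact Z.inB_mul (Z.inB_inv hb) (Z.inB_mul ⟨1, one_mem _, h, hh, (one_mul h).symm⟩
      ((aut_inB Z hα hX).mpr hb))
  exact Subtype.ext (inv_mul_eq_one.mp (Z.inB_inf_V1 h₀ hB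
    (mul_mem (inv_mem hV) ((hα.neg y).mpr hV)))).symm

omit hα hJ

/-- An automorphism can be corrected by an inner one to fix `U¹` and its opposite. -/
theorem exists_fixBoth {p : ℕ} [Fact p.Prime] {P : Sylow p Z.G1}
    (hP : (P : Subgroup Z.G1) = Z.U1.subgroupOf Z.G1) (θ : MulAut Z.G1) :
    ∃ (g : Z.G1) (θ' : MulAut Z.G1), Z.FixBoth L₀ θ' ∧ ∀ z, θ z = g * θ' z * g⁻¹ := by
  have hU : ∀ g : Z.G1, g ∈ (P : Subgroup Z.G1) ↔ (g : GL D.Idx F) ∈ Z.U1 := fun g => by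
    rw [hP, Subgroup.mem_subgroupOf]
  set Q : Sylow p Z.G1 := Sylow.ofCard ((P : Subgroup Z.G1).map θ.toMonoidHom) (by
    rw [Subgroup.card_map_of_injective θ.injective, P.card_eq_multiplicity]) with hQ
  obtain ⟨x, hx⟩ := MulAction.exists_smul_eq Z.G1 P Q
  let θ₁ : MulAut Z.G1 := MulAut.conj x⁻¹ * θ
  have h1 : ∀ g : Z.G1, (θ₁ g : GL D.Idx F) ∈ Z.U1 ↔ (g : GL D.Idx F) ∈ Z.U1 := by
    intro g
    have h : θ g ∈ (Q : Subgroup Z.G1) ↔ g ∈ (P : Subgroup Z.G1) := by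
      show θ g ∈ (P : Subgroup Z.G1).map θ.toMonoidHom ↔ _
      exact Subgroup.mem_map_iff_mem θ.injective
    rw [← hU g, ← h, ← hx, Sylow.coe_subgroup_smul, Subgroup.mem_pointwise_smul_iff_inv_smul_mem,
      hU]
    simp [θ₁, MulAut.smul_def, mul_assoc]
  obtain ⟨u, hu, k, hk, v, hv, eg⟩ : Z.Cell L₀ (θ₁ (Z.nTG L₀) : GL D.Idx F) := by
    refine Z.cell_of_disjoint hX h₀ (θ₁ _).2 fun w hw hg => ?_
    set z := θ₁.symm ⟨w, Z.U1_le hw⟩ with hz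
    have hzU : (z : GL D.Idx F) ∈ Z.U1 := (h1 z).mp (by
      rw [hz, MulEquiv.apply_symm_apply]; exact hw)
    have h2 : ((Z.nTG L₀ * z * (Z.nTG L₀)⁻¹ : Z.G1) : GL D.Idx F) ∈ Z.U1 := (h1 _).mp (by
      rw [map_mul, map_mul, map_inv, hz, MulEquiv.apply_symm_apply]
      exact hg)
    have hV : (z : GL D.Idx F) ∈ Z.V1 L₀ := (Z.conj_V1 h₀).mp h2
    have h3 : z = 1 := Subtype.ext (Z.inB_inf_V1 h₀ (Z.inB_U1 hzU) hV)
    rw [hz, EmbeddingLike.map_eq_one_iff] at h3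
    exact congrArg Subtype.val h3
  let u' : Z.G1 := ⟨u, Z.U1_le hu⟩
  refine ⟨x * u', MulAut.conj u'⁻¹ * θ₁, ⟨fun g => ?_, fun g => ?_⟩, fun z => ?_⟩
  · rw [← h1 g]
    simp only [MulAut.mul_apply, MulAut.conj_apply, inv_inv, Subgroup.coe_mul, Subgroup.coe_inv,
      u']
    constructor <;> intro h
    · convert mul_mem (mul_mem hu h) (inv_mem hu) using 1
      group
    · exact mul_mem (mul_mem (inv_mem hu) h) hu
  · have hd : (((Z.nTG L₀)⁻¹ * g * Z.nTG L₀ : Z.G1) : GL D.Idx F) ∈ Z.U1 ↔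
        (g : GL D.Idx F) ∈ Z.V1 L₀ := by
      simp only [Z.mem_V1, Subgroup.coe_mul, Subgroup.coe_inv]
      rfl
    rw [← hd, ← h1, map_mul θ₁, map_mul θ₁, map_inv θ₁]
    simp only [MulAut.mul_apply, MulAut.conj_apply, inv_inv, Subgroup.coe_mul, Subgroup.coe_inv,
      u', Z.mem_V1, eg]
    set n := Z.nT L₀
    set y := n⁻¹ * (u⁻¹ * (θ₁ g : GL D.Idx F) * u) * n
    have hk0 : n⁻¹ * k * n ∈ Z.H0 := by
      have := mul_mem (mul_mem (inv_mem (Z.nT_sq h₀)) (Z.nT_H0 L₀ hk)) (Z.nT_sq h₀)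
      convert this using 1
      simp only [n]
      group
    rw [show (u * k * n * v)⁻¹ * (θ₁ g : GL D.Idx F) * (u * k * n * v) =
      v⁻¹ * ((n⁻¹ * k * n)⁻¹ * y * (n⁻¹ * k * n)) * v by simp only [y]; group]
    constructor <;> intro h
    · refine mul_mem (mul_mem (inv_mem hv) ?_) hv
      simpa using Z.H0_conj_U1 (inv_mem hk0) h
    · have h2 := Z.H0_conj_U1 hk0 (mul_mem (mul_mem hv h) (inv_mem hv))
      convert h2 using 1
      group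
  · simp only [MulAut.mul_apply, MulAut.conj_apply, θ₁, u']
    group

end Good.Twisted

end Tab

end CfsgLib.Chev
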