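import Cfsg.Agent.Chev.D4TwGen
import Cfsg.Agent.Chev.TwistedAut
import Mathlib.FieldTheory.Finite.Basic

/-!
The unipotent radical `Q` of the maximal parabolic of `³D₄(q)` with Levi complement on the short
root, with the action of that Levi complement on its coordinates.
-/

set_option autoImplicit false
set_option linter.style.haveILetI false
set_option linter.unusedSectionVars false

namespace CfsgLib.Chev.D4Tw

open Cfsg.Lie Tab
open scoped MatrixGroups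

variable {K : Type*} [Field K] [Fintype K]

/-- The root elements. -/
local notation "X" => good_D4.full.x (F := K)

theorem weylTab : D4Data.tab.wordT [1] 22 = 23 ∧ D4Data.tab.wordT [1] 23 = 22 ∧
    D4Data.tab.wordT [0, 2, 3] 22 = 14 ∧ D4Data.tab.wordT [0, 2, 3] 14 = 22 ∧
    D4Data.tab.wordT [0, 2, 3] 23 = 23 ∧
    mapAt graphMapD4a 14 = (14, 1, 1) ∧ mapAt graphMapD4a 22 = (22, 1, 1) ∧
    mapAt graphMapD4a 23 = (23, 1, 1) := by
  decide +kernel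

namespace Ctx

variable {q : ℕ} (C : Ctx K q)
include C

/-- The field with `q` elements. -/
def kF (C : Ctx K q) : Subfield K := RingHom.eqLocusField C.φ (RingHom.id K)

theorem mem_kF {x : K} : x ∈ C.kF ↔ C.φ x = x := Iff.rfl

theorem φ_kF (x : C.kF) : C.φ (x : K) = x := x.2

theorem card_kF : Nat.card C.kF = q :=
  (Nat.card_congr (Equiv.subtypeEquivRight fun x => by
    rw [C.mem_kF, C.hφ])).trans (card_fixed C.hq C.hK)

/-- The trace onto the field with `q` elements. -/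
noncomputable def Tk (C : Ctx K q) : K →+ C.kF where
  toFun x := ⟨x + C.φ x + C.φ (C.φ x), by
    rw [C.mem_kF, map_add, map_add, C.φ_cube]; ring⟩
  map_zero' := Subtype.ext (by simp)
  map_add' x y := Subtype.ext (by
    show x + y + C.φ (x + y) + C.φ (C.φ (x + y)) =
      (x + C.φ x + C.φ (C.φ x)) + (y + C.φ y + C.φ (C.φ y))
    rw [map_add, map_add]; ring)

/-- The norm onto the field with `q` elements. -/
noncomputable def Nk (C : Ctx K q) (x : K) : C.kF :=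
  ⟨x * C.φ x * C.φ (C.φ x), by rw [C.mem_kF, map_mul, map_mul, C.φ_cube]; ring⟩

theorem Tk_φ (x : K) : C.Tk (C.φ x) = C.Tk x := Subtype.ext (by
  show C.φ x + C.φ (C.φ x) + C.φ (C.φ (C.φ x)) = x + C.φ x + C.φ (C.φ x)
  rw [C.φ_cube]; ring)

theorem Tk_smul (a : C.kF) (x : K) : C.Tk ((a : K) * x) = a * C.Tk x := Subtype.ext (by
  show (a : K) * x + C.φ ((a : K) * x) + C.φ (C.φ ((a : K) * x)) =
    (a : K) * (x + C.φ x + C.φ (C.φ x))
  rw [map_mul, map_mul, C.φ_kF, C.φ_kF]; ring)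

theorem exists_Tk : ∃ x : K, C.Tk x ≠ 0 := by
  classical
  by_contra h
  push Not at h
  have hz : ∀ x : K, x + x ^ q + (x ^ q) ^ q = 0 := fun x => by
    have := congrArg Subtype.val (h x)
    rw [← C.hφ, ← C.hφ]
    exact this
  have h2 := C.hq.two_le
  let P : Polynomial K := Polynomial.X ^ (q ^ 2) + Polynomial.X ^ q + Polynomial.X
  have hP : P.natDegree = q ^ 2 := by
    have hlt : q < q ^ 2 := by nlinarith
    have h1 : 1 < q ^ 2 := by nlinarith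
    simp only [P]
    rw [Polynomial.natDegree_add_eq_left_of_natDegree_lt, Polynomial.natDegree_add_eq_left_of_natDegree_lt,
      Polynomial.natDegree_X_pow]
    · simpa using hlt
    · rw [Polynomial.natDegree_add_eq_left_of_natDegree_lt] <;> simp <;> omega
  have hne : P ≠ 0 := Polynomial.ne_zero_of_natDegree_gt (n := 0) (by rw [hP]; positivity)
  have hroots := Polynomial.card_le_degree_of_subset_roots (p := P) (Z := Finset.univ) fun x _ => by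
    rw [Polynomial.mem_roots hne, Polynomial.IsRoot.def]
    simp only [P, Polynomial.eval_add, Polynomial.eval_pow, Polynomial.eval_X]
    rw [pow_two q, pow_mul]
    linear_combination hz x
  rw [hP, Finset.card_univ, C.hK] at hroots
  have : q ^ 2 < q ^ 3 := Nat.pow_lt_pow_right (by omega) (by norm_num)
  omega

theorem Tk_surjective : Function.Surjective C.Tk := by
  intro y
  obtain ⟨x, hx⟩ := C.exists_Tk
  exact ⟨((y / C.Tk x : C.kF) : K) * x, by rw [C.Tk_smul, div_mul_cancel₀ _ hx]⟩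

theorem exists_norm {y : C.kF} (hy : y ≠ 0) : ∃ x : Kˣ, C.Nk x = y := by
  let f : Kˣ →* Kˣ := powMonoidHom (1 + q + q ^ 2)
  have hcard : Nat.card Kˣ = q ^ 3 - 1 := units_card C.hK
  have hd : 1 + q + q ^ 2 ∣ q ^ 3 - 1 := ⟨q - 1, by
    have := C.hq.two_le
    zify [Nat.one_le_pow 3 q (by omega), show 1 ≤ q by omega]
    ring⟩
  have hy0 : (y : K) ≠ 0 := fun h => hy (Subtype.ext h)
  obtain ⟨g, hg⟩ := IsCyclic.exists_generator (α := Kˣ)
  obtain ⟨k, hk⟩ := Subgroup.mem_zpowers_iff.mp (hg (Units.mk0 _ hy0))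
  have hord : orderOf g = q ^ 3 - 1 := by rw [orderOf_eq_card_of_forall_mem_zpowers hg, hcard]
  have hyq : Units.mk0 (y : K) hy0 ^ (q - 1) = 1 := by
    refine Units.ext ?_
    rw [Units.val_pow_eq_pow_val, Units.val_mk0, Units.val_one]
    have h1 : (y : K) ^ (q - 1) * y = y := by
      rw [← pow_succ, Nat.sub_add_cancel C.hq.pos, ← C.hφ, C.φ_kF]
    exact (mul_eq_right₀ hy0).mp h1
  obtain ⟨m, hm⟩ : ((1 + q + q ^ 2 : ℕ) : ℤ) ∣ k := by
    obtain ⟨c, hc⟩ := hd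
    have hq1 : 0 < q - 1 := by have := C.hq.two_le; omega
    have hc' : c = q - 1 := by
      refine Nat.eq_of_mul_eq_mul_left (show 0 < 1 + q + q ^ 2 by positivity) ?_
      have := C.hq.two_le
      rw [← hc]
      zify [Nat.one_le_pow 3 q (by omega), show 1 ≤ q by omega]
      ring
    rw [← hk, ← zpow_natCast, ← _root_.zpow_mul, ← orderOf_dvd_iff_zpow_eq_one, hord, hc,
      hc', Nat.cast_mul] at hyq
    exact Int.dvd_of_mul_dvd_mul_right (by exact_mod_cast hq1.ne') hyq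
  refine ⟨g ^ m, Subtype.ext ?_⟩
  show ((g ^ m : Kˣ) : K) * C.φ ((g ^ m : Kˣ) : K) * C.φ (C.φ ((g ^ m : Kˣ) : K)) = y
  rw [C.hφ, C.hφ, ← Units.val_pow_eq_pow_val, ← Units.val_pow_eq_pow_val, ← Units.val_mul,
    ← Units.val_mul, show g ^ m * (g ^ m) ^ q * ((g ^ m) ^ q) ^ q = (g ^ m) ^ (1 + q + q ^ 2) by
      rw [← pow_mul, ← pow_two, pow_add, pow_add, pow_one],
    ← zpow_natCast, ← _root_.zpow_mul, mul_comm, ← hm, hk, Units.val_mk0]

theorem exists_neg_norm (y : C.kF) : ∃ x : K, y + C.Nk x = 0 := by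
  by_cases hy : y = 0
  · exact ⟨0, by rw [hy, zero_add]; exact Subtype.ext (by simp [Nk])⟩
  obtain ⟨x, hx⟩ := C.exists_norm (neg_ne_zero.mpr hy)
  exact ⟨x, by rw [hx, add_neg_cancel]⟩

/-! ### The radical -/

/-- An element of the radical. -/
noncomputable def uQ (C : Ctx K q) (a : C.kF) (c d : K) (e f : C.kF) : C.Z.G1 :=
  ⟨C.UC a 0 c d e f, C.UC_mem a.2 e.2 f.2 _ _ _⟩

/-- A short fundamental root element. -/
noncomputable def uB (C : Ctx K q) (t : K) : C.Z.G1 :=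
  ⟨C.UC 0 t 0 0 0 0, C.UC_mem (map_zero _) (map_zero _) (map_zero _) _ _ _⟩

theorem uQ_mul (a : C.kF) (c d : K) (e f : C.kF) (a' : C.kF) (c' d' : K) (e' f' : C.kF) :
    C.uQ a c d e f * C.uQ a' c' d' e' f' =
      C.uQ (a + a') (c + c') (d + d') (e + e') (f + f' - a' * e - C.Tk (C.φ c' * d)) := by
  refine Subtype.ext ?_
  show C.UC a 0 c d e f * C.UC a' 0 c' d' e' f' = _
  rw [C.UC_mul a'.2]
  show C.UC _ _ _ _ _ _ = C.UC ((a + a' : C.kF) : K) 0 (c + c') (d + d') ((e + e' : C.kF) : K)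
    ((f + f' - a' * e - C.Tk (C.φ c' * d) : C.kF) : K)
  congr 1 <;>
    simp [mulD, mulE, mulF, Tk, C.φ_cube] <;> ring

theorem uQ_zero : C.uQ 0 0 0 0 0 = 1 :=
  Subtype.ext (by show C.UC 0 0 0 0 0 0 = 1; exact C.UC_zero)

theorem uQ_inj_f {f f' : C.kF} (h : C.uQ 0 0 0 0 f = C.uQ 0 0 0 0 f') : f = f' :=
  Subtype.ext (C.UC_inj (congrArg Subtype.val h)).2.2.2.2.2

/-- The abelian group on the last three coordinates. -/
noncomputable def eDEF (C : Ctx K q) : Multiplicative (K × C.kF × C.kF) →* C.Z.G1 :=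
  MonoidHom.mk' (fun x => C.uQ 0 0 x.toAdd.1 x.toAdd.2.1 x.toAdd.2.2) fun x y => by
    rw [C.uQ_mul]
    simp

/-- The abelian group on the last two coordinates. -/
noncomputable def eEF (C : Ctx K q) : Multiplicative (C.kF × C.kF) →* C.Z.G1 :=
  C.eDEF.comp (AddMonoidHom.toMultiplicative (AddMonoidHom.inr K (C.kF × C.kF)))

/-- The abelian group on the first and third coordinates. -/
noncomputable def eAC (C : Ctx K q) : Multiplicative (C.kF × K) →* C.Z.G1 :=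
  MonoidHom.mk' (fun x => C.uQ x.toAdd.1 x.toAdd.2 0 0 0) fun x y => by
    rw [C.uQ_mul]
    simp

/-- The group on the first coordinate. -/
noncomputable def eA (C : Ctx K q) : Multiplicative C.kF →* C.Z.G1 :=
  C.eAC.comp (AddMonoidHom.toMultiplicative (AddMonoidHom.inl C.kF K))

theorem eDEF_apply (d : K) (e f : C.kF) :
    C.eDEF (Multiplicative.ofAdd (d, e, f)) = C.uQ 0 0 d e f := rfl

theorem eEF_apply (e f : C.kF) : C.eEF (Multiplicative.ofAdd (e, f)) = C.uQ 0 0 0 e f := rfl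

theorem eAC_apply (a : C.kF) (c : K) : C.eAC (Multiplicative.ofAdd (a, c)) = C.uQ a c 0 0 0 := rfl

theorem eA_apply (a : C.kF) : C.eA (Multiplicative.ofAdd a) = C.uQ a 0 0 0 0 := rfl

theorem conj_AC (a : C.kF) (c d : K) (e f : C.kF) :
    C.uQ 0 0 d e f * C.uQ a c 0 0 0 =
      C.uQ a c 0 0 0 * C.uQ 0 0 d e (f - a * e - C.Tk (C.φ c * d)) := by
  rw [C.uQ_mul, C.uQ_mul]
  simp

theorem conj_B (t d : K) (e f : C.kF) :
    C.uQ 0 0 d e f * C.uB t = C.uB t * C.uQ 0 0 d (e - C.Tk (C.φ t * d)) f := by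
  refine Subtype.ext ?_
  show C.UC 0 0 0 d e f * C.UC 0 t 0 0 0 0 =
    C.UC 0 t 0 0 0 0 * C.UC 0 0 0 d ((e - C.Tk (C.φ t * d) : C.kF) : K) f
  rw [C.UC_mul (map_zero _), C.UC_mul (map_zero _)]
  congr 1 <;> simp [mulD, mulE, mulF, Tk, C.φ_cube] <;> ring

theorem conj_B_a (t : K) (a : C.kF) : ∃ F : C.kF, C.uQ a 0 0 0 0 * C.uB t =
    C.uB t * C.uQ a ((a : K) * t) (-((a : K) * t * C.φ (C.φ t))) (a * C.Nk t) F := by
  have hm : (C.uB t)⁻¹ * C.uQ a 0 0 0 0 * C.uB t ∈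
      C.Z.U1.subgroupOf C.Z.G1 := by
    have hU : ∀ a b c d e f : K, C.φ a = a → C.φ e = e → C.φ f = f →
        C.UC a b c d e f ∈ C.Z.U1 := fun a b c d e f ha he hf =>
      C.mem_U1.mpr ⟨_, _, _, _, _, _, ha, he, hf, rfl⟩
    refine Subgroup.mem_subgroupOf.mpr ?_
    exact mul_mem (mul_mem (inv_mem (hU _ _ _ _ _ _ (map_zero _) (map_zero _) (map_zero _)))
      (hU _ _ _ _ _ _ a.2 (map_zero _) (map_zero _)))
      (hU _ _ _ _ _ _ (map_zero _) (map_zero _) (map_zero _))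
  obtain ⟨a', b', c', d', e', f', ha, he, hf, e0⟩ := C.mem_U1.mp (Subgroup.mem_subgroupOf.mp hm)
  have e1 : C.UC a 0 0 0 0 0 * C.UC 0 t 0 0 0 0 =
      C.UC 0 t 0 0 0 0 * C.UC a' b' c' d' e' f' := by
    rw [← e0]
    show _ = C.UC 0 t 0 0 0 0 * ((C.UC 0 t 0 0 0 0)⁻¹ * C.UC a 0 0 0 0 0 * C.UC 0 t 0 0 0 0)
    group
  rw [C.UC_mul (map_zero _), C.UC_mul ha] at e1
  obtain ⟨h1, h2, h3, h4, h5, -⟩ := C.UC_inj e1
  have za : a' = a := by linear_combination -h1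
  have zb : b' = 0 := by linear_combination -h2
  subst za zb
  simp [mulD, mulE] at h3 h4 h5
  refine ⟨⟨f', hf⟩, ?_⟩
  rw [← inv_mul_eq_iff_eq_mul, ← mul_assoc]
  refine Subtype.ext (e0.trans ?_)
  show C.UC a 0 c' d' e' f' = C.UC a 0 ((a : K) * t) (-((a : K) * t * C.φ (C.φ t)))
    ((a * C.Nk t : C.kF) : K) f'
  have z3 : c' = (a : K) * t := by linear_combination -h3
  have z4 : d' = -((a : K) * t * C.φ (C.φ t)) := by linear_combination -h4
  have z5 : e' = ((a * C.Nk t : C.kF) : K) := by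
    show e' = (a : K) * (t * C.φ t * C.φ (C.φ t))
    linear_combination -h5
  rw [z3, z4, z5]

/-! ### Torus and Weyl elements -/

/-- An element of the torus. -/
noncomputable def tH (C : Ctx K q) (c : C.A.Cσ) : C.Z.G1 :=
  ⟨D4Data.tab.hT K c.1, C.Z.H0_le (C.A.hT_mem_torus c.2)⟩

/-- The value of a torus element at a root. -/
noncomputable def cv (C : Ctx K q) (r : ℕ) (c : C.A.Cσ) : K :=
  ((D4Data.tab.chi (F := K) r c.1 : Kˣ) : K)

theorem tH_UC (c : C.A.Cσ) {a b cc d e f : K} (ha : C.φ a = a) (he : C.φ e = e)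
    (hf : C.φ f = f) :
    D4Data.tab.hT K c.1 * C.UC a b cc d e f * (D4Data.tab.hT K c.1)⁻¹ =
      C.UC (C.cv 14 c * a) (C.cv 18 c * b) (C.cv 19 c * cc) (C.cv 20 c * d) (C.cv 22 c * e)
        (C.cv 23 c * f) := by
  have hconj : D4Data.tab.hT K c.1 * C.UC a b cc d e f * (D4Data.tab.hT K c.1)⁻¹ =
      P12 (fun i => C.cv (([14, 18, 13, 12, 19, 16, 15, 20, 21, 17, 22, 23] : List ℕ).getD i 0) c *
        (![a, b, C.φ b, C.φ (C.φ b), cc, -C.φ cc, -C.φ (C.φ cc), d, C.φ d, -C.φ (C.φ d), e, f] :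
          Fin 12 → K) i) := by
    have key : ∀ r, r < 24 → ∀ w : K,
        D4Data.tab.hT K c.1 * X r w * (D4Data.tab.hT K c.1)⁻¹ = X r (C.cv r c * w) :=
      fun r hr w => good_D4.full.hT_conj hr _ w
    simp only [UC, P12]
    simp only [← MulAut.conj_apply, map_mul]
    simp only [MulAut.conj_apply]
    simp only [key 14 (by norm_num), key 18 (by norm_num), key 13 (by norm_num),
      key 12 (by norm_num), key 19 (by norm_num), key 16 (by norm_num), key 15 (by norm_num),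
      key 20 (by norm_num), key 21 (by norm_num), key 17 (by norm_num), key 22 (by norm_num),
      key 23 (by norm_num)]
    rfl
  have hU : D4Data.tab.hT K c.1 * C.UC a b cc d e f * (D4Data.tab.hT K c.1)⁻¹ ∈ C.Z.U1 :=
    C.Z.H0_conj_U1 (C.A.hT_mem_torus c.2) (C.mem_U1.mpr ⟨_, _, _, _, _, _, ha, he, hf, rfl⟩)
  obtain ⟨a', b', c', d', e', f', -, -, -, e1⟩ := C.mem_U1.mp hU
  have e2 := P12_inj (hconj.symm.trans e1)
  rw [e1]
  congr 1
  exacts [(congrFun e2 0).symm, (congrFun e2 1).symm, (congrFun e2 4).symm, (congrFun e2 7).symm,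
    (congrFun e2 10).symm, (congrFun e2 11).symm]

theorem cv_fixed (c : C.A.Cσ) : C.φ (C.cv 14 c) = C.cv 14 c ∧ C.φ (C.cv 22 c) = C.cv 22 c ∧
    C.φ (C.cv 23 c) = C.cv 23 c := by
  have h : C.UC (C.cv 14 c * 1) (C.cv 18 c * 0) (C.cv 19 c * 0) (C.cv 20 c * 0) (C.cv 22 c * 1)
      (C.cv 23 c * 1) ∈ C.Z.U1 := by
    rw [← C.tH_UC c (map_one _) (map_one _) (map_one _)]
    exact C.Z.H0_conj_U1 (C.A.hT_mem_torus c.2)
      (C.mem_U1.mpr ⟨_, _, _, _, _, _, map_one _, map_one _, map_one _, rfl⟩)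
  obtain ⟨a', b', c', d', e', f', ha, he, hf, e1⟩ := C.mem_U1.mp h
  obtain ⟨h1, -, -, -, h5, h6⟩ := C.UC_inj e1
  rw [mul_one] at h1 h5 h6
  exact ⟨h1 ▸ ha, h5 ▸ he, h6 ▸ hf⟩

theorem tH_conj (c : C.A.Cσ) (a : C.kF) (cc d : K) (e f : C.kF) :
    C.tH c * C.uQ a cc d e f * (C.tH c)⁻¹ =
      C.uQ (⟨C.cv 14 c, (C.cv_fixed c).1⟩ * a) (C.cv 19 c * cc) (C.cv 20 c * d)
        (⟨C.cv 22 c, (C.cv_fixed c).2.1⟩ * e) (⟨C.cv 23 c, (C.cv_fixed c).2.2⟩ * f) := by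
  refine Subtype.ext ((C.tH_UC c a.2 e.2 f.2).trans ?_)
  rw [mul_zero]
  rfl

theorem exists_scale_f {s : C.kF} (hs : s ≠ 0) : ∃ c : C.A.Cσ, C.cv 23 c = s := by
  have hs0 : (s : K) ≠ 0 := fun h => hs (Subtype.ext h)
  have hfix : Units.mk0 (s : K) hs0 ^ q = Units.mk0 (s : K) hs0 := Units.ext (by
    rw [Units.val_pow_eq_pow_val, Units.val_mk0, ← C.hφ, C.φ_kF])
  let c : Fin chevD4.rank → Kˣ := (![1, Units.mk0 (s : K) hs0, 1, 1] : Fin 4 → Kˣ)
  have hc : c ∈ C.A.Cσ := C.mem_Cσ.mpr fun i => by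
    fin_cases i
    · exact (one_pow q).symm
    · exact hfix.symm
    · exact (one_pow q).symm
    · exact (one_pow q).symm
  refine ⟨⟨c, hc⟩, ?_⟩
  show ((D4Data.tab.chi (F := K) 23 c : Kˣ) : K) = s
  rw [(chi_vals c).2]
  rfl

theorem exists_scale_a {s : C.kF} (hs : s ≠ 0) : ∃ c : C.A.Cσ, C.cv 14 c = s := by
  obtain ⟨x, hx⟩ := C.exists_norm (inv_ne_zero hs)
  refine ⟨⟨C.genC x, C.genC_mem x⟩, ?_⟩
  show ((D4Data.tab.chi (F := K) 14 (C.genC x) : Kˣ) : K) = s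
  rw [(C.chi_genC x).1, show (x : K) * C.φ x * C.φ (C.φ x) = ((C.Nk x : C.kF) : K) from rfl, hx]
  show ((s : K)⁻¹)⁻¹ = s
  rw [inv_inv]

/-- A torus element fixing the long coordinates and moving the third one. -/
theorem exists_scale_c : ∃ c : C.A.Cσ, C.cv 22 c = 1 ∧ C.cv 23 c = 1 ∧ C.cv 19 c ≠ 1 := by
  obtain ⟨g, hg⟩ := IsCyclic.exists_generator (α := Kˣ)
  have hq := C.hq.two_le
  set x := g ^ (q - 1)
  have h1 : x ^ (1 + q + q ^ 2) = 1 := by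
    rw [← pow_mul, ← orderOf_dvd_iff_pow_eq_one, orderOf_gen hg C.hq C.hK]
    refine ⟨1, ?_⟩
    zify [Nat.one_le_pow 3 q (by omega), show 1 ≤ q by omega]
    ring
  have hN : (x : K) * C.φ x * C.φ (C.φ x) = 1 := by
    rw [C.hφ, C.hφ, ← Units.val_pow_eq_pow_val, ← Units.val_pow_eq_pow_val, ← Units.val_mul,
      ← Units.val_mul, Units.val_eq_one]
    rw [pow_add, pow_add, pow_one, pow_two q, pow_mul] at h1
    exact h1
  refine ⟨⟨C.genC x, C.genC_mem x⟩, ?_, ?_, ?_⟩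
  · exact ((C.chi_genC x).2.2.1).trans hN
  · exact (C.chi_genC x).2.2.2.2.1
  · show ((D4Data.tab.chi (F := K) 19 (C.genC x) : Kˣ) : K) ≠ 1
    rw [(C.chi_genC x).2.2.2.2.2.1]
    intro h
    have hne : C.φ (x : K) * C.φ (C.φ (x : K)) ≠ 0 :=
      mul_ne_zero ((map_ne_zero C.φ).mpr (Units.ne_zero x))
        ((map_ne_zero C.φ).mpr ((map_ne_zero C.φ).mpr (Units.ne_zero x)))
    have hsq : (x : K) * x = 1 := by
      rw [div_eq_one_iff_eq hne] at h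
      calc (x : K) * x = x * (C.φ (x : K) * C.φ (C.φ (x : K))) := by rw [← h]
        _ = 1 := by rw [← mul_assoc]; exact hN
    refine gen_pow_ne_one hg C.hq C.hK (n := (q - 1) * 2) (by omega) ?_ ?_
    · have h3 : q ^ 3 = q * q * q := by ring
      have : 4 ≤ q * q := Nat.mul_le_mul hq hq
      have : q * 4 ≤ q * q * q := by
        rw [mul_assoc]; exact Nat.mul_le_mul_left q this
      omega
    · rw [pow_mul, ← Units.val_pow_eq_pow_val, pow_two]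
      exact hsq

theorem conj_long {J : Fin C.Z.nJ} {r r' : ℕ} (hr : r < 24) (hr' : r' < 24)
    (h : D4Data.tab.wordT (orbs.getD J.val []) r = r')
    (hm' : mapAt graphMapD4a r' = (r', 1, 1)) (hmem : X r 1 ∈ C.Z.G1) :
    ∃ l : C.kF, l ≠ 0 ∧ ∀ v : K, C.Z.n J * X r v * (C.Z.n J)⁻¹ = X r' ((l : K) * v) := by
  obtain ⟨k, hk, e⟩ := C.conj_X J hr h
  refine ⟨⟨k, C.fixed_coord hr' hm' ?_⟩, fun h => hk (congrArg Subtype.val h), e⟩
  have h1 := e 1
  rw [mul_one] at h1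
  rw [← h1]
  exact mul_mem (mul_mem (C.Z.n_mem J) hmem) (inv_mem (C.Z.n_mem J))

theorem uQ_single (v : C.kF) :
    (C.uQ v 0 0 0 0 : GL chevD4.Idx K) = X 14 (v : K) ∧
    (C.uQ 0 0 0 v 0 : GL chevD4.Idx K) = X 22 (v : K) ∧
    (C.uQ 0 0 0 0 v : GL chevD4.Idx K) = X 23 (v : K) := by
  obtain ⟨h1, h2, h3⟩ := C.UC_single
  exact ⟨h1 v, h2 v, h3 v⟩

/-- The Weyl element of the middle node exchanges the two central coordinates. -/
theorem n0_conj : ∃ k l : C.kF, k ≠ 0 ∧ l ≠ 0 ∧ ∀ e f : C.kF,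
    C.uQ 0 0 0 e f * C.Z.nG C.J0 = C.Z.nG C.J0 * C.uQ 0 0 0 (k * f) (l * e) := by
  obtain ⟨t22, t23, -, -, -, -, m22, m23⟩ := weylTab
  obtain ⟨k, hk, ek⟩ := C.conj_long (J := C.J0) (r := 22) (r' := 23) (by norm_num) (by norm_num)
    (by rw [C.getD_J0]; exact t22) m23
    (by rw [show (1 : K) = ((1 : C.kF) : K) from rfl, ← (C.uQ_single 1).2.1]
        exact (C.uQ _ _ _ _ _).2)
  obtain ⟨l, hl, el⟩ := C.conj_long (J := C.J0) (r := 23) (r' := 22) (by norm_num) (by norm_num)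
    (by rw [C.getD_J0]; exact t23) m22
    (by rw [show (1 : K) = ((1 : C.kF) : K) from rfl, ← (C.uQ_single 1).2.2]
        exact (C.uQ _ _ _ _ _).2)
  refine ⟨k⁻¹, l⁻¹, inv_ne_zero hk, inv_ne_zero hl, fun e f => ?_⟩
  have h1 : ∀ x : C.kF, C.Z.nG C.J0 * C.uQ 0 0 0 x 0 * (C.Z.nG C.J0)⁻¹ = C.uQ 0 0 0 0 (k * x) :=
    fun x => Subtype.ext (by
      show C.Z.n C.J0 * (C.uQ 0 0 0 x 0 : GL chevD4.Idx K) * (C.Z.n C.J0)⁻¹ = _
      rw [(C.uQ_single x).2.1, ek, (C.uQ_single (k * x)).2.2]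
      rfl)
  have h2 : ∀ x : C.kF, C.Z.nG C.J0 * C.uQ 0 0 0 0 x * (C.Z.nG C.J0)⁻¹ = C.uQ 0 0 0 (l * x) 0 :=
    fun x => Subtype.ext (by
      show C.Z.n C.J0 * (C.uQ 0 0 0 0 x : GL chevD4.Idx K) * (C.Z.n C.J0)⁻¹ = _
      rw [(C.uQ_single x).2.2, el, (C.uQ_single (l * x)).2.1]
      rfl)
  have sp : ∀ x y : C.kF, C.uQ 0 0 0 x y = C.uQ 0 0 0 x 0 * C.uQ 0 0 0 0 y := fun x y => by
    rw [C.uQ_mul]; simp
  have sp' : ∀ x y : C.kF, C.uQ 0 0 0 x y = C.uQ 0 0 0 0 y * C.uQ 0 0 0 x 0 := fun x y => by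
    rw [C.uQ_mul]; simp
  rw [← eq_mul_inv_iff_mul_eq, sp (k⁻¹ * f),
    show C.Z.nG C.J0 * (C.uQ 0 0 0 (k⁻¹ * f) 0 * C.uQ 0 0 0 0 (l⁻¹ * e)) * (C.Z.nG C.J0)⁻¹ =
      C.Z.nG C.J0 * C.uQ 0 0 0 (k⁻¹ * f) 0 * (C.Z.nG C.J0)⁻¹ *
        (C.Z.nG C.J0 * C.uQ 0 0 0 0 (l⁻¹ * e) * (C.Z.nG C.J0)⁻¹) by group, h1, h2,
    mul_inv_cancel_left₀ hk, mul_inv_cancel_left₀ hl]
  exact sp' e f

/-- The Weyl element of the outer nodes exchanges the first and fifth coordinates. -/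
theorem n1_conj : ∃ k l m : C.kF, k ≠ 0 ∧ l ≠ 0 ∧ m ≠ 0 ∧
    (∀ a : C.kF, C.uQ a 0 0 0 0 * C.Z.nG C.J1 = C.Z.nG C.J1 * C.uQ 0 0 0 (k * a) 0) ∧
    (∀ e : C.kF, C.uQ 0 0 0 e 0 * C.Z.nG C.J1 = C.Z.nG C.J1 * C.uQ (l * e) 0 0 0 0) ∧
    (∀ f : C.kF, C.uQ 0 0 0 0 f * C.Z.nG C.J1 = C.Z.nG C.J1 * C.uQ 0 0 0 0 (m * f)) := by
  obtain ⟨-, -, t22, t14, t23, m14, m22, m23⟩ := weylTab
  obtain ⟨k, hk, ek⟩ := C.conj_long (J := C.J1) (r := 22) (r' := 14) (by norm_num) (by norm_num)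
    (by rw [C.getD_J1]; exact t22) m14
    (by rw [show (1 : K) = ((1 : C.kF) : K) from rfl, ← (C.uQ_single 1).2.1]
        exact (C.uQ _ _ _ _ _).2)
  obtain ⟨l, hl, el⟩ := C.conj_long (J := C.J1) (r := 14) (r' := 22) (by norm_num) (by norm_num)
    (by rw [C.getD_J1]; exact t14) m22
    (by rw [show (1 : K) = ((1 : C.kF) : K) from rfl, ← (C.uQ_single 1).1]
        exact (C.uQ _ _ _ _ _).2)
  obtain ⟨m, hm, em⟩ := C.conj_long (J := C.J1) (r := 23) (r' := 23) (by norm_num) (by norm_num)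
    (by rw [C.getD_J1]; exact t23) m23
    (by rw [show (1 : K) = ((1 : C.kF) : K) from rfl, ← (C.uQ_single 1).2.2]
        exact (C.uQ _ _ _ _ _).2)
  refine ⟨k⁻¹, l⁻¹, m⁻¹, inv_ne_zero hk, inv_ne_zero hl, inv_ne_zero hm,
    fun a => ?_, fun e => ?_, fun f => ?_⟩ <;> refine Subtype.ext ?_ <;>
    show _ * C.Z.n C.J1 = C.Z.n C.J1 * _ <;> rw [← eq_mul_inv_iff_mul_eq]
  · rw [(C.uQ_single a).1, (C.uQ_single (k⁻¹ * a)).2.1, ek]
    congr 1
    exact (congrArg Subtype.val (mul_inv_cancel_left₀ hk a)).symm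
  · rw [(C.uQ_single e).2.1, (C.uQ_single (l⁻¹ * e)).1, el]
    congr 1
    exact (congrArg Subtype.val (mul_inv_cancel_left₀ hl e)).symm
  · rw [(C.uQ_single f).2.2, (C.uQ_single (m⁻¹ * f)).2.2, em]
    congr 1
    exact (congrArg Subtype.val (mul_inv_cancel_left₀ hm f)).symm

end Ctx

end CfsgLib.Chev.D4Tw
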