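import Cfsg.Agent.Chev.ToralTwisted
import Cfsg.Agent.Chev.TwistedD4
import Cfsg.Agent.Invol.Dihedral
import Mathlib.GroupTheory.SpecificGroups.Dihedral

/-!
Alternating sections of `³D₄(q)`.
-/

set_option autoImplicit false
set_option linter.style.haveILetI false

namespace CfsgLib.Chev.D4Tw

open Cfsg.Lie Tab
open scoped MatrixGroups

/-- The rank is not zero. -/
local instance neZeroRankD4 : NeZero chevD4.rank := ⟨by decide⟩

theorem five_sub : ∀ x : ZMod 5, x = 1 →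
    x ^ 12 * (x + 1) * (x ^ 3 + 1) * (x ^ 8 + x ^ 4 + 1) ≠ 0 := by decide

theorem eight_sub : ∀ x : ZMod 8, x = 1 ∨ x = 5 →
    x ^ 12 * (x + 1) * (x ^ 3 + 1) * (x ^ 8 + x ^ 4 + 1) ≠ 0 := by decide

theorem five_gen : ((2 : ℕ) : ZMod 5) ^ 6 ≠ 1 := by decide

theorem five_cases : ∀ n : ℕ, ((5 : ZMod 8) ^ n = 1 ∨ (5 : ZMod 8) ^ n = 5) := by
  intro n
  induction n with
  | zero => exact Or.inl (pow_zero _)
  | succ n ih => rcases ih with h | h <;> rw [pow_succ, h] <;> decide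

namespace Ctx

variable {K : Type*} [Field K] [Fintype K] {q : ℕ} (C : Ctx K q)
include C

theorem weyl_six : ∀ σ ∈ Subgroup.closure (Set.range C.Z.w), σ ^ 6 = 1 := by
  classical
  set w0 := C.Z.w (0 : Fin 2)
  set w1 := C.Z.w (1 : Fin 2)
  have h2 : ∀ J : Fin 2, orderOf (C.Z.w J) = 2 := fun J => by
    refine orderOf_eq_prime (by rw [pow_two]; exact C.Z.invol J) fun e => ?_
    obtain ⟨s, hs⟩ := C.Z.invSet_w_nonempty J
    obtain ⟨h1, h2⟩ := mem_inv.mp hs
    rw [e] at h2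
    exact h2 h1
  have h6 : orderOf (w0 * w1) = 6 := (C.hM (0 : Fin 2) (1 : Fin 2)).trans (by decide +kernel)
  let d := CfsgLib.Invol.dihedralHom w0 (w0 * w1) (CfsgLib.Invol.mul_self_eq_one (h2 0))
    (CfsgLib.Invol.conj_mul_inv (h2 0) (h2 1))
  have hdr : d.range = Subgroup.closure {w0, w1} :=
    CfsgLib.Invol.dihedralHom_range (h2 0) (h2 1)
  have hr : Set.range C.Z.w = {w0, w1} := by
    ext σ
    constructor
    · rintro ⟨J, rfl⟩
      revert J
      refine fun J : Fin 2 => ?_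
      fin_cases J <;> simp [w0, w1]
    · rintro (rfl | rfl)
      exacts [⟨(0 : Fin 2), rfl⟩, ⟨(1 : Fin 2), rfl⟩]
  intro σ hσ
  rw [hr, ← hdr] at hσ
  obtain ⟨y, rfl⟩ := hσ
  have hy : y ^ Monoid.exponent (DihedralGroup (orderOf (w0 * w1))) = 1 :=
    Monoid.pow_exponent_eq_one y
  rw [DihedralGroup.exponent] at hy
  have hl : lcm (orderOf (w0 * w1)) 2 = 6 := by rw [h6]; decide
  rw [hl] at hy
  rw [← map_pow, hy, map_one]

theorem q_pos : 1 < q := C.hq.two_le

theorem card_split : ∃ R : ℕ, Nat.card C.Z.G1 = R * Nat.card C.Z.H0 ∧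
    R = q ^ 12 * (q + 1) * (q ^ 3 + 1) * (q ^ 8 + q ^ 4 + 1) := by
  refine ⟨_, ?_, rfl⟩
  rw [C.card_group, C.card_torus]
  obtain ⟨r, rfl⟩ : ∃ r, q = r + 1 := ⟨q - 1, by have := C.q_pos; omega⟩
  zify [Nat.one_le_pow 2 (r + 1) (by omega), Nat.one_le_pow 6 (r + 1) (by omega)]
  push_cast
  ring

theorem torus_ne_zero : Nat.card C.Z.H0 ≠ 0 := by
  rw [C.card_torus]
  have := C.q_pos
  exact mul_ne_zero (pow_ne_zero 2 (by omega)) (by positivity)

omit C in
/-- Sections pass to the group over the field extension of degree four. -/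
theorem exists_section_four {L : Type*} [Field L] [Fintype L] (f : K →+* L)
    (hK : Fintype.card K = q ^ 3) {A : Type*} [Group A] {H : Subgroup (twistedD4 K q)} {π : H →* A}
    (hπ : Function.Surjective π) :
    ∃ (H' : Subgroup (twistedD4 L (q ^ 4))) (π' : H' →* A), Function.Surjective π' := by
  have hle : (twistedD4 K q).map (glMap chevD4 f) ≤ twistedD4 L (q ^ 4) := by
    rw [Subgroup.map_le_iff_le_comap, twistedD4, ChevalleyDatum.genSubgroup, Subgroup.closure_le]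
    rintro g ⟨w, hw, hg⟩
    have hcube : ∀ t : K, t ^ q ^ 3 = t := fun t => by rw [← hK, FiniteField.pow_card]
    have h4 : ∀ t : K, f t ^ q ^ 4 = f (t ^ q) := fun t => by
      rw [← map_pow, show q ^ 4 = q ^ 3 * q by ring, pow_mul, hcube]
    have h8 : ∀ t : K, f t ^ (q ^ 4) ^ 2 = f (t ^ q ^ 2) := fun t => by
      rw [← map_pow, show (q ^ 4) ^ 2 = q ^ 3 * (q ^ 3 * q ^ 2) by ring, pow_mul, hcube, pow_mul,
        hcube]
    refine Subgroup.subset_closure ⟨w.map fun p => (p.1, f p.2), ?_, ?_⟩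
    · rcases hw with ⟨t, ht, r, hr, rfl⟩ | ⟨t, rs, hrs, rfl⟩
      · exact Or.inl ⟨f t, by rw [h4, ht], r, hr, rfl⟩
      · refine Or.inr ⟨f t, rs, hrs, ?_⟩
        simp [h4, h8]
    · have e : g = (w.map fun p => good_D4.full.x p.1 p.2).prod :=
        Units.ext (hg.trans (good_D4.full.coe_word w).symm)
      rw [e, map_list_prod, List.map_map]
      refine Eq.trans ?_ (good_D4.full.coe_word _)
      rw [List.map_map]
      refine congrArg (fun l : List (GL chevD4.Idx L) => ((l.prod : GL chevD4.Idx L) : Matrix chevD4.Idx chevD4.Idx L))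
        (List.map_congr_left fun p _ => ?_)
      exact good_D4.glMap_x f p.1 p.2
  let φ : twistedD4 K q →* twistedD4 L (q ^ 4) :=
    ((glMap chevD4 f).comp (twistedD4 K q).subtype).codRestrict _ fun x =>
      hle (Subgroup.mem_map_of_mem _ x.2)
  have hφ : Function.Injective φ := fun x y e =>
    Subtype.ext (glMap_injective f (congrArg Subtype.val e))
  exact ⟨H.map φ, π.comp (H.equivMapOfInjective φ hφ).symm.toMonoidHom,
    hπ.comp (MulEquiv.surjective _)⟩

theorem two_gen_torus (B : Subgroup C.Z.G1) (hB : B ≤ C.Z.H0.subgroupOf C.Z.G1) :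
    ∃ u v, B = Subgroup.closure {u, v} := by
  classical
  have hker : ∀ c : C.A.Cσ, (c : Fin chevD4.rank → Kˣ) (0 : Fin 4) = 1 →
      ∀ i : Fin 4, i ≠ 1 → (c : Fin chevD4.rank → Kˣ) i = 1 := by
    intro c h0 i hi
    have h := C.mem_Cσ.mp c.2
    have h2 : (c : Fin chevD4.rank → Kˣ) (2 : Fin 4) = 1 := (h 0).trans (by rw [h0, one_pow])
    have h3 : (c : Fin chevD4.rank → Kˣ) (3 : Fin 4) = 1 := (h 2).trans (by rw [h2, one_pow])
    fin_cases i
    exacts [h0, absurd rfl hi, h2, h3]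
  let f : C.A.Cσ →* Kˣ :=
    (Pi.evalMonoidHom (fun _ : Fin chevD4.rank => Kˣ) (0 : Fin 4)).comp C.A.Cσ.subtype
  haveI : IsCyclic f.ker := isCyclic_of_injective
    (((Pi.evalMonoidHom (fun _ : Fin chevD4.rank => Kˣ) (1 : Fin 4)).comp C.A.Cσ.subtype).comp
      f.ker.subtype)
    fun a b h => Subtype.ext (Subtype.ext (funext fun i : Fin 4 => by
      by_cases hi : i = 1
      · subst hi; exact h
      · exact (hker _ a.2 i hi).trans (hker _ b.2 i hi).symm))
  let θ : C.A.Cσ →* C.Z.G1 :=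
    ((D4Data.tab.hT K).comp C.A.Cσ.subtype).codRestrict _ fun c =>
      C.Z.H0_le (Good.A1Data.hT_mem_torus C.A c.2)
  obtain ⟨u, v, huv⟩ := CfsgLib.ToralSection.two_generated f (B.comap θ)
  refine ⟨θ u, θ v, ?_⟩
  have hBr : B ≤ θ.range := fun b hb => by
    obtain ⟨c, hc, e⟩ := Subgroup.mem_subgroupOf.mp (hB hb)
    exact ⟨⟨c, hc⟩, Subtype.ext e⟩
  rw [← Subgroup.map_comap_eq_self hBr, huv, MonoidHom.map_closure, Set.image_pair]

theorem alt_eight (h5 : q ∈ Set.range (fun n : ℕ => 5 ^ n)) {r : ℕ} {H : Subgroup C.Z.G1}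
    {π : H →* alternatingGroup (Fin r)} (hπ : Function.Surjective π) : r ≤ 7 := by
  obtain ⟨R, hR, hRe⟩ := C.card_split
  obtain ⟨n, rfl⟩ := h5
  refine Nat.lt_succ_iff.mp (CfsgLib.ToralSection.alt_lt_eight (C.Z.H0.subgroupOf C.Z.G1)
    (fun x hx y hy => Subtype.ext (good_D4.diag_commute (C.Z.H0_diag (Subgroup.mem_subgroupOf.mp hx))
      (C.Z.H0_diag (Subgroup.mem_subgroupOf.mp hy))).eq) C.two_gen_torus ?_ H π hπ)
  have h8 : ¬ 8 ∣ R := fun hd => by
    have e := (CharP.cast_eq_zero_iff (ZMod 8) 8 R).mpr hd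
    rw [hRe] at e
    push_cast at e
    exact eight_sub _ (five_cases n) e
  have hR0 : R ≠ 0 := fun h => h8 (by rw [h]; exact dvd_zero 8)
  rw [C.Z.card_torus_sub, hR, Nat.factorization_mul hR0 C.torus_ne_zero, Finsupp.add_apply,
    add_comm]
  refine Nat.add_le_add_left ?_ _
  by_contra hc
  exact h8 (show 2 ^ 3 ∣ R from
    (Nat.prime_two.pow_dvd_iff_le_factorization hR0).mpr (by omega))

theorem alt_seven (hq5 : (q : ZMod 5) = 1) {r : ℕ} {H : Subgroup C.Z.G1}
    {π : H →* alternatingGroup (Fin r)} (hπ : Function.Surjective π) : r ≤ 6 := by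
  haveI := Fact.mk (show Nat.Prime 5 by norm_num)
  obtain ⟨R, hR, hRe⟩ := C.card_split
  have hR5 : ¬ 5 ∣ R := fun hd => by
    have e := (CharP.cast_eq_zero_iff (ZMod 5) 5 R).mpr hd
    rw [hRe] at e
    push_cast at e
    exact five_sub _ hq5 e
  have hbound := C.Z.autBound (ℓ := 5) (e := 6) C.A.xNontrivial
    (le_of_eq (by rw [hR, factorization_mul_of_not_dvd hR5 C.torus_ne_zero])) C.weyl_six
  have hlt := CfsgLib.ToralSection.alt_lt_of_autBound hbound (n := 7) (k := 2)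
    (Equiv.swap 0 1 * Equiv.swap 1 2 * Equiv.swap 2 3 * Equiv.swap 3 4)
    (Equiv.swap 1 2 * Equiv.swap 2 4 * Equiv.swap 4 3 * Equiv.swap 5 6)
    (by decide +kernel) (by decide +kernel)
    (orderOf_eq_prime (by decide +kernel) (by decide +kernel)) (by decide +kernel)
    five_gen H π hπ
  omega

end Ctx

end CfsgLib.Chev.D4Tw
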