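import Cfsg.Agent.Chev.D4TwU
import Mathlib.Tactic

/-!
The exponents of the characters of the torus of order `(q³ - 1)(q + 1)` of `³D₄(q)`.
-/

set_option autoImplicit false

namespace CfsgLib.Chev.D4Tw

open Cfsg.Lie Tab

/-- The evaluation of a list of coefficients. -/
def evalL (q : ℤ) : List ℤ → ℤ
  | [] => 0
  | x :: l => x + q * evalL q l

theorem evalL_bound {q : ℤ} (hq : 17 ≤ q) : ∀ l : List ℤ, (∀ x ∈ l, -8 ≤ x ∧ x ≤ 8) →
    (-(q ^ l.length) < 2 * evalL q l ∧ 2 * evalL q l < q ^ l.length) ∧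
      (evalL q l = 0 → ∀ x ∈ l, x = 0)
  | [], _ => ⟨by simp [evalL], fun _ x hx => absurd hx List.not_mem_nil⟩
  | x :: l, h => by
    obtain ⟨⟨h1, h2⟩, h3⟩ := evalL_bound hq l fun y hy => h y (List.mem_cons_of_mem _ hy)
    obtain ⟨hx1, hx2⟩ := h x (List.mem_cons_self ..)
    have hp : (0 : ℤ) < q := by omega
    have e1 := mul_le_mul_of_nonneg_left (Int.add_one_le_of_lt h1) hp.le
    have e2 := mul_le_mul_of_nonneg_left (Int.le_sub_one_of_lt h2) hp.le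
    simp only [evalL, List.length_cons, pow_succ]
    refine ⟨⟨by linarith, by linarith⟩, fun e y hy => ?_⟩
    have he : evalL q l = 0 := by
      by_contra hne
      rcases lt_or_gt_of_ne hne with hl | hl
      · have := mul_le_mul_of_nonneg_left (Int.le_sub_one_of_lt hl) hp.le
        linarith
      · have := mul_le_mul_of_nonneg_left (Int.add_one_le_of_lt hl) hp.le
        linarith
    rcases List.mem_cons.mp hy with rfl | hy
    · rw [he, mul_zero, add_zero] at e; exact e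
    · exact h3 he y hy

/-- The coefficients of the exponent of a weight. -/
def coefs (d : Fin 4 → ℤ) : List ℤ := [d 0 + d 1, d 2, d 3 + d 1, d 0, d 2 + d 1, d 3]

/-- The exponent of a weight. -/
def expE (q : ℤ) (d : Fin 4 → ℤ) : ℤ := evalL q (coefs d)

theorem expE_eq (q : ℤ) (d : Fin 4 → ℤ) :
    expE q d = (q ^ 3 + 1) * (d 0 + q * d 2 + q * q * d 3) + (1 + q ^ 2 + q ^ 4) * d 1 := by
  simp only [expE, coefs, evalL]; ring

/-- The weight of a root. -/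
def rowR (r : ℕ) : Fin 4 → ℤ := fun i => D4Data.tab.cart i r

theorem coefsTab : (∀ r : Fin 24, coefs (rowR r) ≠ [0, 0, 0, 0, 0, 0] ∧
      ∀ x ∈ coefs (rowR r), -8 ≤ x ∧ x ≤ 8) ∧
    ∀ r ∈ ([18, 13, 12, 19] : List ℕ), ∀ s : Fin 24, s.val ≠ r →
      coefs (rowR r - rowR s) ≠ [0, 0, 0, 0, 0, 0] ∧
        ∀ x ∈ coefs (rowR r - rowR s), -8 ≤ x ∧ x ≤ 8 := by
  decide +kernel

theorem smallTab : ∀ q : Fin 15,
    (∀ r : Fin 24, ¬ ((q.val + 2 : ℤ) ^ 6 - 1) ∣ expE (q.val + 2) (rowR r)) ∧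
    ∀ r ∈ ([18, 13, 12, 19] : List ℕ), ∀ s : Fin 24, s.val ≠ r →
      ¬ ((q.val + 2 : ℤ) ^ 6 - 1) ∣ expE (q.val + 2) (rowR r - rowR s) := by
  decide +kernel

theorem not_dvd_expE {q : ℤ} (hq : 17 ≤ q) {d : Fin 4 → ℤ}
    (h0 : coefs d ≠ [0, 0, 0, 0, 0, 0]) (hb : ∀ x ∈ coefs d, -8 ≤ x ∧ x ≤ 8) :
    ¬ (q ^ 6 - 1) ∣ expE q d := by
  intro hdvd
  obtain ⟨⟨h1, h2⟩, h3⟩ := evalL_bound hq (coefs d) hb
  have hl : (coefs d).length = 6 := rfl
  rw [hl] at h1 h2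
  have h6 : (2 : ℤ) ≤ q ^ 6 :=
    le_trans (show (2 : ℤ) ≤ 17 ^ 6 by norm_num) (pow_le_pow_left₀ (by norm_num) hq 6)
  have hz : evalL q (coefs d) = 0 := by
    refine Int.eq_zero_of_dvd_of_natAbs_lt_natAbs hdvd ?_
    show (evalL q (coefs d)).natAbs < _
    zify
    rw [abs_of_nonneg (show (0 : ℤ) ≤ q ^ 6 - 1 by omega), abs_lt]
    constructor <;> omega
  refine h0 ?_
  have h4 := h3 hz
  simp only [coefs, List.mem_cons, List.not_mem_nil, or_false, forall_eq_or_imp, forall_eq] at h4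
  obtain ⟨a, b, c, d', e, f⟩ := h4
  simp only [coefs]
  rw [a, c, e, b, d', f]

/-- The characters are regular on a generator. -/
theorem expE_regular {q : ℕ} (hq : 2 ≤ q) :
    (∀ r < 24, ¬ ((q : ℤ) ^ 6 - 1) ∣ expE q (rowR r)) ∧
    ∀ r ∈ ([18, 13, 12, 19] : List ℕ), ∀ s < 24, s ≠ r →
      ¬ ((q : ℤ) ^ 6 - 1) ∣ expE q (rowR r - rowR s) := by
  by_cases h : q < 17
  · obtain ⟨h1, h2⟩ := smallTab ⟨q - 2, by omega⟩
    have e : ((q - 2 : ℕ) : ℤ) + 2 = (q : ℤ) := by omega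
    simp only [e] at h1 h2
    exact ⟨fun r hr => h1 ⟨r, hr⟩, fun r hr s hs hne => h2 r hr ⟨s, hs⟩ hne⟩
  · have hq' : (17 : ℤ) ≤ q := by omega
    exact ⟨fun r hr => not_dvd_expE hq' (coefsTab.1 ⟨r, hr⟩).1 (coefsTab.1 ⟨r, hr⟩).2,
      fun r hr s hs hne => not_dvd_expE hq' (coefsTab.2 r hr ⟨s, hs⟩ hne).1
        (coefsTab.2 r hr ⟨s, hs⟩ hne).2⟩

theorem rootTab : (∀ r s : Fin 24, (∀ j : Fin 4, D4Data.tab.cor r j = D4Data.tab.cor s j) → r = s) ∧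
    (∀ k : Fin 4, D4Data.tab.cor 19 k = (![1, 1, 0, 0] : Fin 4 → ℤ) k ∧
      D4Data.tab.cor 18 k = (![1, 0, 0, 0] : Fin 4 → ℤ) k) ∧
    (∀ r : Fin 24, ∀ j : Fin 4, D4Data.tab.cor r j =
      ∑ k : Fin 4, D4Data.tab.cor r k * D4Data.tab.cor (chevD4.simple k) j) ∧
    chevD4.simple 0 = 18 ∧ chevD4.simple 1 = 14 ∧ chevD4.simple 2 = 13 ∧ chevD4.simple 3 = 12 := by
  decide +kernel

end CfsgLib.Chev.D4Tw
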