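import Cfsg.Agent.Chev.D4TwInvol
import Cfsg.Agent.Chev.D4TwTorusData
import Cfsg.Agent.Chev.EllipticTorus

/-!
The cyclic self-centralising torus of order `(q³ - 1)(q + 1)` of `³D₄(q)`.
-/

set_option autoImplicit false
set_option linter.style.haveILetI false
set_option linter.unusedSectionVars false

namespace CfsgLib.Chev.D4Tw

open Cfsg.Lie Tab
open scoped MatrixGroups

section Generic

variable {F : Type*} [Field F]

/-- The root elements. -/
local notation "X" => good_D4.full.x (F := F)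

/-- The middle node. -/
def i1 : Fin chevD4.rank := (1 : Fin 4)

theorem simple_i1 : chevD4.simple i1 = 14 ∧ negR chevD4 (chevD4.simple i1) = 9 := by decide +kernel

/-- The `SL₂` of the middle node. -/
noncomputable def psi : SL(2, F) →* GL chevD4.Idx F := (good_D4.rankOne F i1).hom

theorem psi_eX (t : F) : psi (RankOne.eX t) = X 14 t := by
  have := (good_D4.rankOne F i1).phi_eX t
  rw [← simple_i1.1]
  exact this

theorem psi_lower (g : SL(2, F)) (t : F)
    (hg : (g : Matrix (Fin 2) (Fin 2) F) = !![1, 0; t, 1]) : psi g = X 9 t := by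
  rw [← simple_i1.2]
  exact good_D4.rankOne_hom_lower i1 g t hg

theorem psi_eH (a : Fˣ) : psi (RankOne.eH a) = D4Data.tab.hT F (Pi.mulSingle i1 a) := by
  rw [good_D4.full.hT_single]
  exact (good_D4.rankOne F i1).phi_eH a

theorem psi_eN : psi (RankOne.eN : SL(2, F)) = good_D4.full.ns F i1 :=
  (good_D4.rankOne F i1).phi_eN

theorem psi_mem_group (g : SL(2, F)) : psi g ∈ chevD4.group F := by
  rcases RankOne.eq_product g with ⟨a, b, rfl⟩ | ⟨p, a, r, rfl⟩ <;>
    simp only [map_mul, psi_eX, psi_eH, psi_eN]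
  · exact mul_mem (good_D4.diagonal_le_group
      (by rw [good_D4.full.diagonal_eq_range]; exact ⟨_, rfl⟩)) (good_D4.x_mem_group _ _)
  · exact mul_mem (mul_mem (mul_mem (good_D4.x_mem_group _ _) (good_D4.diagonal_le_group
      (by rw [good_D4.full.diagonal_eq_range]; exact ⟨_, rfl⟩))) (good_D4.ns_mem_group i1))
        (good_D4.x_mem_group _ _)

/-- A matrix of determinant one. -/
def mkSL (a b c d : F) (h : a * d - b * c = 1) : SL(2, F) :=
  ⟨!![a, b; c, d], by rw [Matrix.det_fin_two_of]; exact h⟩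

theorem coe_mkSL (a b c d : F) (h : a * d - b * c = 1) :
    (mkSL a b c d h : Matrix (Fin 2) (Fin 2) F) = !![a, b; c, d] := rfl

/-- Scaling of the off-diagonal entries. -/
def dconjMat (χ : Fˣ) (g : SL(2, F)) : SL(2, F) :=
  ⟨!![g 0 0, (χ : F) * g 0 1; (χ : F)⁻¹ * g 1 0, g 1 1], by
    have := RankOne.det_eq g
    have h0 : (χ : F) ≠ 0 := χ.ne_zero
    simp [Matrix.det_fin_two]
    field_simp
    linear_combination this⟩

theorem coe_dconjMat (χ : Fˣ) (g : SL(2, F)) : (dconjMat χ g : Matrix (Fin 2) (Fin 2) F) =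
    !![g 0 0, (χ : F) * g 0 1; (χ : F)⁻¹ * g 1 0, g 1 1] := rfl

/-- Scaling of the off-diagonal entries, as a homomorphism. -/
def dconj (χ : Fˣ) : SL(2, F) →* SL(2, F) where
  toFun g := dconjMat χ g
  map_one' := by
    ext i j
    fin_cases i <;> fin_cases j <;> simp [coe_dconjMat]
  map_mul' g k := by
    have h0 : (χ : F) ≠ 0 := χ.ne_zero
    ext i j
    fin_cases i <;> fin_cases j <;>
      simp [coe_dconjMat, Matrix.SpecialLinearGroup.coe_mul, Matrix.mul_apply, Fin.sum_univ_two] <;>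
      field_simp

theorem psi_conj (c : Fin chevD4.rank → Fˣ) (g : SL(2, F)) :
    D4Data.tab.hT F c * psi g * (D4Data.tab.hT F c)⁻¹ =
      psi (dconj (D4Data.tab.chi (F := F) 14 c) g) := by
  set χ := D4Data.tab.chi (F := F) 14 c with hχ
  set H := D4Data.tab.hT F c
  have hmul : ∀ a b, H * psi a * H⁻¹ = psi (dconj χ a) → H * psi b * H⁻¹ = psi (dconj χ b) →
      H * psi (a * b) * H⁻¹ = psi (dconj χ (a * b)) := fun a b ha hb => by
    rw [map_mul, map_mul, map_mul, ← ha, ← hb]; group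
  have hX : ∀ t, H * psi (RankOne.eX t) * H⁻¹ = psi (dconj χ (RankOne.eX t)) := fun t => by
    have e : dconj χ (RankOne.eX t) = RankOne.eX ((χ : F) * t) := by
      ext i j
      fin_cases i <;> fin_cases j <;> simp [dconj, coe_dconjMat, RankOne.coe_eX]
    rw [e, psi_eX, psi_eX]
    exact good_D4.full.hT_conj (by decide) c t
  have hH : ∀ a, H * psi (RankOne.eH a) * H⁻¹ = psi (dconj χ (RankOne.eH a)) := fun a => by
    have e : dconj χ (RankOne.eH a) = RankOne.eH a := by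
      ext i j
      fin_cases i <;> fin_cases j <;> simp [dconj, coe_dconjMat, RankOne.coe_eH]
    rw [e, psi_eH, ← map_inv, ← map_mul, ← map_mul, mul_comm c, mul_inv_cancel_right]
  have hN : H * psi RankOne.eN * H⁻¹ = psi (dconj χ RankOne.eN) := by
    have e : dconj χ RankOne.eN = RankOne.eH χ * (RankOne.eN : SL(2, F)) := by
      ext i j
      fin_cases i <;> fin_cases j <;> simp [dconj, coe_dconjMat, RankOne.coe_eN, RankOne.coe_eH,
        Matrix.SpecialLinearGroup.coe_mul]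
    rw [e, map_mul, psi_eN, psi_eH, good_D4.hT_conj_ns, good_D4.full.hT_single,
      show chevD4.simple i1 = 14 from simple_i1.1]
  rcases RankOne.eq_product g with ⟨a, b, rfl⟩ | ⟨p, a, r, rfl⟩
  · exact hmul _ _ (hH a) (hX b)
  · exact hmul _ _ (hmul _ _ (hmul _ _ (hX p) (hH a)) hN) (hX r)

theorem chi14 (c : Fin chevD4.rank → Fˣ) : D4Data.tab.chi (F := F) 14 c =
    c (1 : Fin 4) ^ 2 * (c (0 : Fin 4) * c (2 : Fin 4) * c (3 : Fin 4))⁻¹ := by
  have hc : ∀ i : Fin 4, D4Data.tab.cart i 14 = (![-1, 2, -1, -1] : Fin 4 → ℤ) i := by decide +kernel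
  show ∏ i : Fin 4, c i ^ D4Data.tab.cart i 14 = _
  simp only [Fin.prod_univ_four, hc]
  simp [mul_inv_rev]
  ac_rfl

theorem chi_simple (c : Fin chevD4.rank → Fˣ) :
    D4Data.tab.chi (F := F) 18 c = c (0 : Fin 4) ^ 2 * (c (1 : Fin 4))⁻¹ ∧
    D4Data.tab.chi (F := F) 13 c = c (2 : Fin 4) ^ 2 * (c (1 : Fin 4))⁻¹ ∧
    D4Data.tab.chi (F := F) 12 c = c (3 : Fin 4) ^ 2 * (c (1 : Fin 4))⁻¹ := by
  have hc : ∀ i : Fin 4, D4Data.tab.cart i 18 = (![2, -1, 0, 0] : Fin 4 → ℤ) i ∧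
      D4Data.tab.cart i 13 = (![0, -1, 2, 0] : Fin 4 → ℤ) i ∧
      D4Data.tab.cart i 12 = (![0, -1, 0, 2] : Fin 4 → ℤ) i := by decide +kernel
  refine ⟨?_, ?_, ?_⟩ <;> show ∏ i : Fin 4, c i ^ D4Data.tab.cart i _ = _ <;>
    simp only [Fin.prod_univ_four, (hc _).1, (hc _).2.1, (hc _).2.2] <;> simp [mul_comm]

theorem ext4 {α : Type*} {a b : Fin chevD4.rank → α} (h0 : a (0 : Fin 4) = b (0 : Fin 4))
    (h1 : a (1 : Fin 4) = b (1 : Fin 4)) (h2 : a (2 : Fin 4) = b (2 : Fin 4))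
    (h3 : a (3 : Fin 4) = b (3 : Fin 4)) : a = b := by
  funext i
  fin_cases i
  exacts [h0, h1, h2, h3]

theorem single_vals (z : Fˣ) :
    (Pi.mulSingle i1 z : Fin chevD4.rank → Fˣ) (0 : Fin 4) = 1 ∧
    (Pi.mulSingle i1 z : Fin chevD4.rank → Fˣ) (1 : Fin 4) = z ∧
    (Pi.mulSingle i1 z : Fin chevD4.rank → Fˣ) (2 : Fin 4) = 1 ∧
    (Pi.mulSingle i1 z : Fin chevD4.rank → Fˣ) (3 : Fin 4) = 1 :=
  ⟨Pi.mulSingle_eq_of_ne (M := fun _ : Fin chevD4.rank => Fˣ)
      (show ((0 : Fin 4)) ≠ (1 : Fin 4) by decide) z,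
    Pi.mulSingle_eq_same (M := fun _ : Fin chevD4.rank => Fˣ) i1 z,
    Pi.mulSingle_eq_of_ne (M := fun _ : Fin chevD4.rank => Fˣ)
      (show ((2 : Fin 4)) ≠ (1 : Fin 4) by decide) z,
    Pi.mulSingle_eq_of_ne (M := fun _ : Fin chevD4.rank => Fˣ)
      (show ((3 : Fin 4)) ≠ (1 : Fin 4) by decide) z⟩

/-- The action of the twisted Frobenius map on the parameters of the torus. -/
def tau (q : ℕ) : (Fin chevD4.rank → Fˣ) →* (Fin chevD4.rank → Fˣ) where
  toFun a := (![a (3 : Fin 4) ^ q, a (0 : Fin 4) ^ q * a (2 : Fin 4) ^ q * a (3 : Fin 4) ^ q *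
    (a (1 : Fin 4) ^ q)⁻¹, a (0 : Fin 4) ^ q, a (2 : Fin 4) ^ q] : Fin 4 → Fˣ)
  map_one' := ext4 (one_pow q)
    (by show (1 : Fˣ) ^ q * 1 ^ q * 1 ^ q * ((1 : Fˣ) ^ q)⁻¹ = 1; simp) (one_pow q) (one_pow q)
  map_mul' a b := ext4 (mul_pow ..)
    (by
      show (a (0 : Fin 4) * b (0 : Fin 4)) ^ q * (a (2 : Fin 4) * b (2 : Fin 4)) ^ q *
        (a (3 : Fin 4) * b (3 : Fin 4)) ^ q * ((a (1 : Fin 4) * b (1 : Fin 4)) ^ q)⁻¹ =
        (a (0 : Fin 4) ^ q * a (2 : Fin 4) ^ q * a (3 : Fin 4) ^ q * (a (1 : Fin 4) ^ q)⁻¹) *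
        (b (0 : Fin 4) ^ q * b (2 : Fin 4) ^ q * b (3 : Fin 4) ^ q * (b (1 : Fin 4) ^ q)⁻¹)
      simp only [mul_pow, mul_inv_rev]
      ac_rfl) (mul_pow ..) (mul_pow ..)

theorem ker_eqs {k : Fin chevD4.rank → Fˣ} (hk : D4Data.tab.hT F k = 1) :
    (∀ i : Fin 4, k i * k i = 1) ∧ k (1 : Fin 4) = 1 ∧
      k (0 : Fin 4) * k (2 : Fin 4) * k (3 : Fin 4) = 1 := by
  have sq : ∀ i : Fin 4, k i ^ 2 = 1 := fun i => congrFun (good_D4.ker_pow chkKer2 hk) i
  have h := (good_D4.full.hT_eq_one_iff (F := F) k).mp hk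
  have h1 : k (1 : Fin 4) = 1 := by
    have h18 : D4Data.tab.chi (F := F) 18 k = 1 := h (0 : Fin 4) (by decide)
    rwa [(chi_simple k).1, sq 0, one_mul, inv_eq_one] at h18
  have h14 : D4Data.tab.chi (F := F) 14 k = 1 := h (1 : Fin 4) (by decide)
  rw [chi14, h1, one_pow, one_mul, inv_eq_one] at h14
  exact ⟨fun i => by rw [← pow_two]; exact sq i, h1, h14⟩

theorem pm_pow {x : Fˣ} {q : ℕ} (hq : (-1 : F) ^ q = -1) (h : x * x = 1) : x ^ q = x := by
  refine Units.ext ?_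
  have h' := congrArg (fun u : Fˣ => (u : F)) h
  simp only [Units.val_mul, Units.val_one, mul_self_eq_one_iff] at h'
  rw [Units.val_pow_eq_pow_val]
  rcases h' with e | e <;> rw [e]
  · exact one_pow q
  · exact hq

/-- The kernel of the torus has no non-trivial fixed points. -/
theorem ker_fixed {q : ℕ} (hq : (-1 : F) ^ q = -1) {k : Fin chevD4.rank → Fˣ}
    (hk : D4Data.tab.hT F k = 1) (ht : tau q k = k) : k = 1 := by
  obtain ⟨hs, h1, h023⟩ := ker_eqs hk
  have e2 : k (2 : Fin 4) = k (0 : Fin 4) :=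
    (congrFun ht (2 : Fin 4)).symm.trans (pm_pow hq (hs 0))
  have e3 : k (3 : Fin 4) = k (0 : Fin 4) :=
    (congrFun ht (3 : Fin 4)).symm.trans ((pm_pow hq (hs 2)).trans e2)
  rw [e2, e3, hs 0, one_mul] at h023
  exact ext4 h023 h1 (e2.trans h023) (e3.trans h023)

theorem ker_tau {q : ℕ} (hq : (-1 : F) ^ q = -1) {k : Fin chevD4.rank → Fˣ}
    (hk : D4Data.tab.hT F k = 1) : D4Data.tab.hT F (tau q k) = 1 := by
  obtain ⟨hs, h1, h023⟩ := ker_eqs hk
  have p : ∀ i : Fin 4, k i ^ q = k i := fun i => pm_pow hq (hs i)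
  set b : Fin chevD4.rank → Fˣ := tau q k
  have b0 : b (0 : Fin 4) = k (3 : Fin 4) := p 3
  have b1 : b (1 : Fin 4) = 1 := by
    show k (0 : Fin 4) ^ q * k (2 : Fin 4) ^ q * k (3 : Fin 4) ^ q * (k (1 : Fin 4) ^ q)⁻¹ = 1
    rw [p 0, p 2, p 3, p 1, h1, inv_one, mul_one, h023]
  have b2 : b (2 : Fin 4) = k (0 : Fin 4) := p 0
  have b3 : b (3 : Fin 4) = k (2 : Fin 4) := p 2
  rw [good_D4.full.hT_eq_one_iff]
  have key : ∀ j : Fin 4, D4Data.tab.chi (F := F) (chevD4.simple j) b = 1 := by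
    intro j
    fin_cases j
    · show D4Data.tab.chi (F := F) 18 b = 1
      rw [(chi_simple b).1, b0, b1, pow_two, hs 3, inv_one, mul_one]
    · show D4Data.tab.chi (F := F) 14 b = 1
      rw [chi14, b0, b1, b2, b3, one_pow, one_mul, inv_eq_one, ← h023]
      ac_rfl
    · show D4Data.tab.chi (F := F) 13 b = 1
      rw [(chi_simple b).2.1, b2, b1, pow_two, hs 0, inv_one, mul_one]
    · show D4Data.tab.chi (F := F) 12 b = 1
      rw [(chi_simple b).2.2, b3, b1, pow_two, hs 2, inv_one, mul_one]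
  exact fun j hj => key ⟨j, hj⟩

/-- Every element of the kernel is `k (τ k)⁻¹`. -/
theorem ker_lang [Finite F] {q : ℕ} (hq : (-1 : F) ^ q = -1) {e : Fin chevD4.rank → Fˣ}
    (he : D4Data.tab.hT F e = 1) :
    ∃ k : Fin chevD4.rank → Fˣ, D4Data.tab.hT F k = 1 ∧ k / tau q k = e := by
  let N := (D4Data.tab.hT F).ker
  let g : N → N := fun k => ⟨(k : Fin chevD4.rank → Fˣ) / tau q (k : Fin chevD4.rank → Fˣ), by
    rw [MonoidHom.mem_ker, map_div, k.2, ker_tau hq k.2, div_one]⟩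
  have hg : Function.Injective g := by
    intro a b e
    have e' : (a : Fin chevD4.rank → Fˣ) / tau q (a : Fin chevD4.rank → Fˣ) =
        (b : Fin chevD4.rank → Fˣ) / tau q (b : Fin chevD4.rank → Fˣ) := congrArg Subtype.val e
    refine Subtype.ext (div_eq_one.mp (ker_fixed hq ?_ ?_))
    · rw [map_div, a.2, b.2, div_one]
    · rw [map_div]
      exact (div_eq_div_iff_div_eq_div.mp e').symm
  obtain ⟨k, hk⟩ := Finite.injective_iff_surjective.mp hg ⟨e, he⟩
  exact ⟨k, k.2, congrArg Subtype.val hk⟩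

end Generic

/-- An element fixed by the `|K|`th power map lies in the image of `K`. -/
theorem mem_range_of_pow {K E : Type*} [Field K] [Fintype K] [Field E] (f : K →+* E) {x : E}
    (hx : x ^ Fintype.card K = x) : ∃ a, f a = x := by
  classical
  by_contra hne
  simp only [not_exists] at hne
  let P : Polynomial E := Polynomial.X ^ Fintype.card K - Polynomial.X
  have h1 : 1 < Fintype.card K := Fintype.one_lt_card
  have hP : P ≠ 0 := FiniteField.X_pow_card_sub_X_ne_zero E h1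
  have hsub : insert x (Finset.univ.image f) ⊆ P.roots.toFinset := by
    intro y hy
    rw [Multiset.mem_toFinset, Polynomial.mem_roots hP]
    simp only [P, Polynomial.IsRoot, Polynomial.eval_sub, Polynomial.eval_pow, Polynomial.eval_X,
      sub_eq_zero]
    rcases Finset.mem_insert.mp hy with rfl | hy
    · exact hx
    · obtain ⟨a, -, rfl⟩ := Finset.mem_image.mp hy
      rw [← map_pow, FiniteField.pow_card]
  have h2 := (Finset.card_le_card hsub).trans (Multiset.toFinset_card_le _)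
  rw [Finset.card_insert_of_notMem (by
      simp only [Finset.mem_image, Finset.mem_univ, true_and, not_exists]; exact hne),
    Finset.card_image_of_injective _ f.injective, Finset.card_univ] at h2
  have h3 := (Polynomial.card_roots' P).trans_eq (FiniteField.X_pow_card_sub_X_natDegree_eq E h1)
  omega

namespace Ctx

variable {K : Type*} [Field K] [Fintype K] {q : ℕ} (C : Ctx K q)
include C

theorem exists_big (p : ℕ) [Fact p.Prime] [CharP K p] :
    ∃ (φ : FiniteField.Extension K p 2 →+* FiniteField.Extension K p 2)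
      (Φ : good_D4.Graph (FiniteField.Extension K p 2)),
      (∀ x, φ x = x ^ q) ∧ Nat.card (FiniteField.Extension K p 2) = q ^ 6 ∧
      (∀ r, (Φ.π r).val = (mapAt graphMapD4a r.val).1) ∧
      (∀ i, (Φ.ρ i).val = rho.getD i.val 0) ∧
      ∀ r t, Φ.f r t = φ (((mapAt graphMapD4a r.val).2.1 : FiniteField.Extension K p 2) *
        t ^ (mapAt graphMapD4a r.val).2.2) := by
  letI := Fintype.ofFinite (FiniteField.Extension K p 2)
  have hc : Nat.card (FiniteField.Extension K p 2) = q ^ 6 := by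
    rw [FiniteField.natCard_extension, Nat.card_eq_fintype_card, C.hK, ← pow_mul]
  obtain ⟨φ, hφ⟩ := exists_frob (K := FiniteField.Extension K p 2) (d := 6) C.hq
    (by rw [← Nat.card_eq_fintype_card, hc]) (by norm_num)
  obtain ⟨Φ, h1, h2, h3⟩ := good_D4.exists_graph (F := FiniteField.Extension K p 2) ⟨_, wits_D4⟩
    (p := 0) (by simp) (fun h => absurd h (lt_irrefl 0)) chkGraphD4a chkRho φ
  exact ⟨φ, Φ, hφ, hc, h1, h2, h3⟩

section Big

variable {E : Type*} [Field E] [Finite E] (hE : Nat.card E = q ^ 6) (f : K →+* E)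
  {φ : E →+* E} (hφ : ∀ x, φ x = x ^ q) (Φ : good_D4.Graph E)
  (hπ : ∀ r, (Φ.π r).val = (mapAt graphMapD4a r.val).1)
  (hρ : ∀ i, (Φ.ρ i).val = rho.getD i.val 0)
  (hf : ∀ r t, Φ.f r t = φ (((mapAt graphMapD4a r.val).2.1 : E) *
    t ^ (mapAt graphMapD4a r.val).2.2))
include hE hφ hπ hρ hf

theorem neg_one_pow_q : (-1 : E) ^ q = -1 := by rw [← hφ, map_neg, map_one]

theorem Ax (r : Fin chevD4.nroots) (t : E) :
    Φ.A (good_D4.full.x r.val t) = good_D4.full.x (Φ.π r).val (Φ.f r t) := Φ.A_x r t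

theorem A_X14 (t : E) : Φ.A (good_D4.full.x 14 t) = good_D4.full.x 14 (t ^ q) := by
  have h : mapAt graphMapD4a 14 = (14, 1, 1) := by decide +kernel
  rw [show (14 : ℕ) = (⟨14, by decide⟩ : Fin chevD4.nroots).val from rfl, Φ.A_x, hπ, hf, h]
  simp [hφ]

theorem A_X9 (t : E) : Φ.A (good_D4.full.x 9 t) = good_D4.full.x 9 (t ^ q) := by
  have h : mapAt graphMapD4a 9 = (9, 1, 1) := by decide +kernel
  rw [show (9 : ℕ) = (⟨9, by decide⟩ : Fin chevD4.nroots).val from rfl, Φ.A_x, hπ, hf, h]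
  simp [hφ]

theorem σc_big (c : Fin chevD4.rank → Eˣ) :
    Φ.σc c = ((![c (3 : Fin 4) ^ q, c (1 : Fin 4) ^ q, c (0 : Fin 4) ^ q, c (2 : Fin 4) ^ q] :
      Fin 4 → Eˣ) : Fin chevD4.rank → Eˣ) := by
  have hρ' : ∀ i : Fin chevD4.rank, Φ.ρ i = (![2, 1, 3, 0] : Fin 4 → Fin 4) i :=
    fun i => Fin.ext (by rw [hρ]; fin_cases i <;> rfl)
  have hs : ∀ i : Fin 4, (mapAt graphMapD4a (chevD4.simple i)).2 = (1, 1) := mapSimple
  have key : ∀ i : Fin chevD4.rank, Φ.σc c (Φ.ρ i) = c i ^ q := by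
    intro i
    show Φ.fU (Φ.ρ.symm (Φ.ρ i)) (c (Φ.ρ.symm (Φ.ρ i))) = _
    rw [Equiv.symm_apply_apply]
    refine Units.ext ?_
    show Φ.f (good_D4.full.simp' i) (c i) = _
    rw [hf, show (good_D4.full.simp' i : ℕ) = chevD4.simple i from rfl, hs i]
    simp [hφ]
  have h : ∀ i j : Fin 4, (![2, 1, 3, 0] : Fin 4 → Fin 4) i = j → Φ.σc c j = c i ^ q :=
    fun i j e => (congrArg (Φ.σc c) ((hρ' i).trans e)).symm.trans (key i)
  exact ext4 (h 3 0 rfl) (h 1 1 rfl) (h 0 2 rfl) (h 2 3 rfl)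

theorem A_psi (g : SL(2, E)) : Φ.A (psi g) = psi (Matrix.SpecialLinearGroup.map φ g) := by
  have hmul : ∀ a b, Φ.A (psi a) = psi (Matrix.SpecialLinearGroup.map φ a) →
      Φ.A (psi b) = psi (Matrix.SpecialLinearGroup.map φ b) →
      Φ.A (psi (a * b)) = psi (Matrix.SpecialLinearGroup.map φ (a * b)) := fun a b ha hb => by
    rw [map_mul, Φ.A_mul (psi_mem_group a) (psi_mem_group b), ha, hb, map_mul, map_mul]
  have hX : ∀ t, Φ.A (psi (RankOne.eX t)) =
      psi (Matrix.SpecialLinearGroup.map φ (RankOne.eX t)) := fun t => by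
    have e : Matrix.SpecialLinearGroup.map φ (RankOne.eX t) = RankOne.eX (φ t) := by
      ext i j
      fin_cases i <;> fin_cases j <;> simp [RankOne.coe_eX]
    rw [e, psi_eX, psi_eX, C.A_X14 hE hφ Φ hπ hρ hf, hφ]
  have hH : ∀ a, Φ.A (psi (RankOne.eH a)) =
      psi (Matrix.SpecialLinearGroup.map φ (RankOne.eH a)) := fun a => by
    have e : Matrix.SpecialLinearGroup.map φ (RankOne.eH a) = RankOne.eH (a ^ q) := by
      ext i j
      fin_cases i <;> fin_cases j <;> simp [RankOne.coe_eH, hφ, C.hq.ne_zero]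
    rw [e, psi_eH, psi_eH, Φ.A_hT, C.σc_big hE hφ Φ hπ hρ hf]
    obtain ⟨v0, v1, v2, v3⟩ := single_vals (F := E) a
    obtain ⟨w0, w1, w2, w3⟩ := single_vals (F := E) (a ^ q)
    exact congrArg _ (ext4 (((congrArg (· ^ q) v3).trans (one_pow q)).trans w0.symm)
      ((congrArg (· ^ q) v1).trans w1.symm) (((congrArg (· ^ q) v0).trans (one_pow q)).trans w2.symm)
      (((congrArg (· ^ q) v2).trans (one_pow q)).trans w3.symm))
  have hN : Φ.A (psi RankOne.eN) = psi (Matrix.SpecialLinearGroup.map φ RankOne.eN) := by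
    have e : Matrix.SpecialLinearGroup.map φ (RankOne.eN : SL(2, E)) = RankOne.eN := by
      ext i j
      fin_cases i <;> fin_cases j <;> simp [RankOne.coe_eN]
    have e1 : good_D4.full.ns E i1 =
        good_D4.full.x 14 1 * good_D4.full.x 9 (-1) * good_D4.full.x 14 1 := by
      rw [Full.ns, Full.nr, simple_i1.2, simple_i1.1, inv_one]
    rw [e, psi_eN, e1, Φ.A_mul (mul_mem (good_D4.x_mem_group _ _) (good_D4.x_mem_group _ _))
      (good_D4.x_mem_group _ _), Φ.A_mul (good_D4.x_mem_group _ _) (good_D4.x_mem_group _ _),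
      C.A_X14 hE hφ Φ hπ hρ hf, C.A_X9 hE hφ Φ hπ hρ hf, one_pow,
      C.neg_one_pow_q hE hφ Φ hπ hρ hf]
  rcases RankOne.eq_product g with ⟨a, b, rfl⟩ | ⟨p, a, r, rfl⟩
  · exact hmul _ _ (hH a) (hX b)
  · exact hmul _ _ (hmul _ _ (hmul _ _ (hX p) (hH a)) hN) (hX r)

include f in
theorem A_glMap {g : GL chevD4.Idx K} (hg : g ∈ chevD4.group K) :
    Φ.A (glMap chevD4 f g) = glMap chevD4 f (C.Φ.A g) := by
  let S : Subgroup (GL chevD4.Idx K) :=
    { carrier := {g | g ∈ chevD4.group K ∧ Φ.A (glMap chevD4 f g) = glMap chevD4 f (C.Φ.A g)}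
      one_mem' := ⟨one_mem _, by simp [Φ.A_one, C.Φ.A_one]⟩
      mul_mem' := fun {a b} ha hb => ⟨mul_mem ha.1 hb.1, by
        rw [map_mul, Φ.A_mul (good_D4.glMap_group f ha.1) (good_D4.glMap_group f hb.1), ha.2, hb.2,
          C.Φ.A_mul ha.1 hb.1, map_mul]⟩
      inv_mem' := fun {a} ha => ⟨inv_mem ha.1, by
        have h1 := Φ.A_mul (good_D4.glMap_group f ha.1)
          (good_D4.glMap_group f (inv_mem ha.1) )
        rw [← map_mul, mul_inv_cancel, map_one, Φ.A_one, ha.2] at h1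
        have h2 := C.Φ.A_mul ha.1 (inv_mem ha.1)
        rw [mul_inv_cancel, C.Φ.A_one] at h2
        rw [eq_inv_of_mul_eq_one_right h2.symm, map_inv]
        exact eq_inv_of_mul_eq_one_right h1.symm⟩ }
  refine ((good_D4.group_le_iff (K := S)).mpr (fun r hr t => ?_) hg).2
  refine ⟨good_D4.x_mem_group _ _, ?_⟩
  rw [show r = (⟨r, hr⟩ : Fin chevD4.nroots).val from rfl, good_D4.glMap_x, Φ.A_x, C.Φ.A_x,
    good_D4.glMap_x, hπ, C.hπ, hf, C.hf, hφ, C.hφ]
  congr 1
  simp

include f in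
/-- The torus. -/
theorem exists_torus : ∃ H : Subgroup C.Z.G1, IsCyclic H ∧
    Nat.card H = (q ^ 3 - 1) * (q + 1) ∧ Subgroup.centralizer (H : Set C.Z.G1) = H := by
  classical
  have hq2 : 2 ≤ q := C.hq.two_le
  obtain ⟨g, hg⟩ := IsCyclic.exists_generator (α := Eˣ)
  have hN : orderOf g = q ^ 6 - 1 := by
    rw [orderOf_eq_card_of_forall_mem_zpowers hg, Nat.card_units, hE]
  have hN1 : 1 ≤ q ^ 6 := Nat.one_le_pow _ _ (by omega)
  have hq3 : 1 ≤ q ^ 3 := Nat.one_le_pow _ _ (by omega)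
  set u : Eˣ := g ^ (q ^ 3 + 1) with hu
  set z : Eˣ := g ^ (1 + q ^ 2 + q ^ 4) with hz
  have hu3 : u ^ q ^ 3 = u := by
    rw [hu, ← pow_mul, pow_eq_pow_iff_modEq, hN]
    exact (Nat.modEq_iff_dvd' (Nat.le_mul_of_pos_right _ hq3)).mpr ⟨1, by
      rw [mul_one]
      have : (q ^ 3 + 1) * q ^ 3 = q ^ 6 + q ^ 3 := by ring
      omega⟩ |>.symm
  have hz2 : z ^ q ^ 2 = z := by
    rw [hz, ← pow_mul, pow_eq_pow_iff_modEq, hN]
    exact (Nat.modEq_iff_dvd' (Nat.le_mul_of_pos_right _ (pow_pos (by omega) 2))).mpr ⟨1, by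
      rw [mul_one]
      have : (1 + q ^ 2 + q ^ 4) * q ^ 2 = q ^ 2 + q ^ 4 + q ^ 6 := by ring
      omega⟩ |>.symm
  have hnorm : z ^ (q + 1) = u * u ^ q * (u ^ q) ^ q := by
    rw [hu, hz, ← pow_mul, ← pow_mul, ← pow_mul, ← pow_add, ← pow_add]
    congr 1
    ring
  -- the eigenvalues differ
  have hzne : z ^ q ≠ z := by
    intro e
    have h1 : (1 + q ^ 2 + q ^ 4) * (q - 1) % (q ^ 6 - 1) = 0 := by
      rw [← hN, ← Nat.dvd_iff_mod_eq_zero, orderOf_dvd_iff_pow_eq_one, pow_mul, ← hz]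
      refine mul_right_cancel (b := z) ?_
      rw [one_mul, ← pow_succ, Nat.sub_add_cancel (by omega : 1 ≤ q), e]
    have h2 : (1 + q ^ 2 + q ^ 4) * (q - 1) < q ^ 6 - 1 := by
      obtain ⟨r, rfl⟩ : ∃ r, q = r + 1 := ⟨q - 1, by omega⟩
      have : (r + 1) ^ 6 = (1 + (r + 1) ^ 2 + (r + 1) ^ 4) * r * (r + 2) + 1 := by ring
      rw [this, Nat.add_sub_cancel, Nat.add_sub_cancel]
      exact (lt_mul_iff_one_lt_right (by
        have : 0 < r := by omega
        positivity)).mpr (by omega)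
    rw [Nat.mod_eq_of_lt h2] at h1
    rcases mul_eq_zero.mp h1 with h | h
    · omega
    · omega
  -- the parameters over `K`
  have hKpow : ∀ x : E, x ^ q ^ 3 = x → ∃ a, f a = x := fun x hx =>
    mem_range_of_pow f (by rw [C.hK]; exact hx)
  obtain ⟨uK, huK⟩ := hKpow (u : E) (by rw [← Units.val_pow_eq_pow_val, hu3])
  have huK0 : uK ≠ 0 := fun h => u.ne_zero (by rw [← huK, h, map_zero])
  set m : E := (z : E) + (z : E) ^ q with hm
  have hmq : m ^ q = m := by
    have hz2' : ((z : E) ^ q) ^ q = z := by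
      rw [← pow_mul, ← pow_two, ← Units.val_pow_eq_pow_val, hz2]
    rw [← hφ, hm, map_add, hφ, hφ, hz2', add_comm]
  obtain ⟨mK, hmK⟩ := hKpow m (by
    rw [pow_succ, pow_two, pow_mul, pow_mul, hmq, hmq, hmq])
  have hmKq : mK ^ q = mK := f.injective (by rw [map_pow, hmK, hmq])
  set U : Kˣ := Units.mk0 uK huK0 with hU
  have hUu : Units.map f.toMonoidHom U = u := Units.ext huK
  let cK : Fin chevD4.rank → Kˣ := (![U, 1, U ^ q, (U ^ q) ^ q] : Fin 4 → Kˣ)
  have hcK : cK ∈ C.A.Cσ := C.mem_Cσ.mpr fun i => by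
    fin_cases i
    · rfl
    · exact (one_pow q).symm
    · rfl
    · exact (C.units_pow_qqq U).symm
  set b : GL chevD4.Idx K := D4Data.tab.hT K cK * (good_D4.full.x 14 (mK - 1) *
    good_D4.full.x 9 1 * good_D4.full.x 14 (-1)) with hb
  have hX : ∀ (r : ℕ), r = 14 ∨ r = 9 → ∀ t : K, t ^ q = t → good_D4.full.x r t ∈ C.Z.G1 := by
    intro r hr t ht
    rw [C.grp_eq]
    refine Subgroup.subset_closure ⟨[(r, t)],
      Or.inl ⟨t, ht, r, by rcases hr with rfl | rfl <;> decide, rfl⟩, ?_⟩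
    rw [← good_D4.full.coe_word]
    simp
  have hbG : b ∈ C.Z.G1 := by
    refine mul_mem (C.Z.H0_le (C.A.hT_mem_torus hcK)) (mul_mem (mul_mem ?_ ?_) ?_)
    · exact hX 14 (Or.inl rfl) _ (by rw [← C.hφ, map_sub, map_one, C.hφ, hmKq])
    · exact hX 9 (Or.inr rfl) _ (one_pow q)
    · exact hX 14 (Or.inl rfl) _ (by rw [← C.hφ, map_neg, map_one])
  -- over `E`
  let c' : Fin chevD4.rank → Eˣ := (![u, 1, u ^ q, (u ^ q) ^ q] : Fin 4 → Eˣ)
  let c : Fin chevD4.rank → Eˣ := (![u, z, u ^ q, (u ^ q) ^ q] : Fin 4 → Eˣ)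
  have hcc : c = c' * Pi.mulSingle i1 z := by
    obtain ⟨v0, v1, v2, v3⟩ := single_vals (F := E) z
    exact ext4 ((congrArg (u * ·) v0).trans (mul_one _)).symm
      ((congrArg ((1 : Eˣ) * ·) v1).trans (one_mul _)).symm
      ((congrArg ((u ^ q) * ·) v2).trans (mul_one _)).symm
      ((congrArg (((u ^ q) ^ q) * ·) v3).trans (mul_one _)).symm
  have hz0 : (z : E) ≠ 0 := z.ne_zero
  set l1 : E := ((z : E) ^ q)⁻¹ with hl1
  set l2 : E := (z : E)⁻¹ with hl2
  have hl : l1 - l2 ≠ 0 := by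
    rw [sub_ne_zero, hl1, hl2, Ne, inv_inj]
    exact fun e => hzne (Units.ext (by rw [Units.val_pow_eq_pow_val]; exact e))
  set s : E := (l1 - l2)⁻¹ with hs
  have hs0 : s ≠ 0 := inv_ne_zero hl
  let Y : SL(2, E) := mkSL (l1 * s) l2 s 1 (by linear_combination inv_mul_cancel₀ hl)
  let Mx : SL(2, E) := mkSL m (-1) 1 0 (by ring)
  let L1 : SL(2, E) := mkSL 1 0 1 1 (by ring)
  have hMx : Mx = RankOne.eX (m - 1) * L1 * RankOne.eX (-1) := by
    ext i j
    fin_cases i <;> fin_cases j <;>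
      simp [Mx, L1, coe_mkSL, RankOne.coe_eX, Matrix.SpecialLinearGroup.coe_mul, Matrix.mul_apply,
        Fin.sum_univ_two] <;> ring
  have hglb : glMap chevD4 f b = D4Data.tab.hT E c' * psi Mx := by
    rw [hb, map_mul, map_mul, map_mul, good_D4.glMap_hT, good_D4.glMap_x, good_D4.glMap_x,
      good_D4.glMap_x, hMx, map_mul, map_mul, psi_eX, psi_eX, psi_lower L1 1 rfl]
    congr 1
    · congr 1
      have hp : Units.map f.toMonoidHom (U ^ q) = u ^ q := by rw [map_pow, hUu]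
      refine ext4 hUu (map_one _) hp ?_
      show Units.map f.toMonoidHom ((U ^ q) ^ q) = (u ^ q) ^ q
      rw [map_pow, hp]
    · simp [hmK]
  have hχ : D4Data.tab.chi (F := E) 14 c' = (z ^ (q + 1))⁻¹ := by
    rw [chi14, hnorm]
    simp [c']
  set YY := psi Y with hYY
  have hmain : glMap chevD4 f b * YY = YY * D4Data.tab.hT E c := by
    have e1 : Mx * Y = dconj (D4Data.tab.chi (F := E) 14 c'⁻¹) Y * RankOne.eH z := by
      have hk : (z : E) ^ q ≠ 0 := pow_ne_zero _ hz0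
      rw [map_inv, hχ, inv_inv]
      ext i j
      fin_cases i <;> fin_cases j <;>
        simp [Mx, Y, coe_mkSL, dconj, coe_dconjMat, RankOne.coe_eH, Matrix.SpecialLinearGroup.coe_mul,
          Matrix.mul_apply, Fin.sum_univ_two, hl1, hl2, hm, pow_succ] <;>
        field_simp <;> ring
    rw [hglb, mul_assoc, hYY, ← map_mul, e1, map_mul, ← psi_conj, map_inv, inv_inv, psi_eH,
      hcc, map_mul]
    group
  have hcj : ∀ j : ℕ, glMap chevD4 f (b ^ j) * YY = YY * D4Data.tab.hT E (c ^ j) := by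
    intro j
    induction j with
    | zero => simp
    | succ j ih =>
      rw [pow_succ, map_mul, mul_assoc, hmain, ← mul_assoc, ih, mul_assoc, ← map_mul, pow_succ]
  -- the parameters fixed by `τ`
  have hnq : (-1 : E) ^ q = -1 := C.neg_one_pow_q hE hφ Φ hπ hρ hf
  have hcval : ∀ i : Fin 4, c i = g ^ ((![(q : ℤ) ^ 3 + 1, 1 + q ^ 2 + q ^ 4,
      ((q : ℤ) ^ 3 + 1) * q, ((q : ℤ) ^ 3 + 1) * q * q] : Fin 4 → ℤ) i) := by
    intro i
    fin_cases i
    · show u = g ^ ((q : ℤ) ^ 3 + 1)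
      rw [hu, ← zpow_natCast]; norm_cast
    · show z = g ^ (1 + (q : ℤ) ^ 2 + (q : ℤ) ^ 4)
      rw [hz, ← zpow_natCast]; norm_cast
    · show u ^ q = g ^ (((q : ℤ) ^ 3 + 1) * q)
      rw [hu, ← pow_mul, ← zpow_natCast]; norm_cast
    · show (u ^ q) ^ q = g ^ (((q : ℤ) ^ 3 + 1) * q * q)
      rw [hu, ← pow_mul, ← pow_mul, ← zpow_natCast]; push_cast; ring_nf
  have hchi : ∀ r, D4Data.tab.chi (F := E) r c = g ^ expE q (rowR r) := by
    intro r
    show ∏ i : Fin 4, c i ^ D4Data.tab.cart i r = _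
    simp only [Fin.prod_univ_four, hcval, ← zpow_mul, ← zpow_add]
    congr 1
    rw [expE_eq]
    simp only [rowR, Matrix.cons_val_zero, Matrix.cons_val_one, Matrix.cons_val]
    ring
  have hNz : ((orderOf g : ℕ) : ℤ) = (q : ℤ) ^ 6 - 1 := by
    rw [hN]; push_cast [Nat.cast_sub hN1]; ring
  obtain ⟨hreg, huniq⟩ := expE_regular hq2
  have hreg1 : ∀ r < 24, D4Data.tab.chi (F := E) r c ≠ 1 := fun r hr e => by
    rw [hchi, ← orderOf_dvd_iff_zpow_eq_one, hNz] at e
    exact hreg r hr e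
  have huniq1 : ∀ r ∈ ([18, 13, 12, 19] : List ℕ), ∀ t < 24,
      D4Data.tab.chi (F := E) r c = D4Data.tab.chi (F := E) t c → t = r := by
    intro r hr t ht e
    by_contra hne
    refine huniq r hr t ht hne ?_
    rw [← hNz, orderOf_dvd_iff_zpow_eq_one, expE_eq]
    have e' := mul_inv_eq_one.mpr e
    rw [hchi, hchi, ← zpow_neg, ← zpow_add, expE_eq, expE_eq] at e'
    rw [← e']
    congr 1
    simp only [Pi.sub_apply]
    ring
  have htau : tau q c = c := by
    have hz1 : u * u ^ q * (u ^ q) ^ q * (z ^ q)⁻¹ = z := by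
      rw [← hnorm, pow_succ, mul_comm (z ^ q), mul_inv_cancel_right]
    refine ext4 ?_ ?_ ?_ ?_
    · show ((u ^ q) ^ q) ^ q = u
      rw [← pow_mul, ← pow_mul, show q * (q * q) = q ^ 3 by ring, hu3]
    · show u ^ q * (u ^ q) ^ q * ((u ^ q) ^ q) ^ q * (z ^ q)⁻¹ = z
      rw [show ((u ^ q) ^ q) ^ q = u by
        rw [← pow_mul, ← pow_mul, show q * (q * q) = q ^ 3 by ring, hu3]]
      refine Eq.trans ?_ hz1
      ac_rfl
    · rfl
    · rfl
  have htau_pow : ∀ j : ℕ, tau q (c ^ j) = c ^ j := fun j => by rw [map_pow, htau]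
  -- the order
  set n := (q ^ 3 - 1) * (q + 1) with hn
  have hpow : ∀ j : ℕ, c ^ j = 1 ↔ n ∣ j := by
    intro j
    have e6 : q ^ 6 - 1 = (q ^ 3 + 1) * (q ^ 3 - 1) := by
      obtain ⟨r, hr⟩ : ∃ r, q ^ 3 = r + 1 := ⟨q ^ 3 - 1, by omega⟩
      rw [show q ^ 6 = q ^ 3 * q ^ 3 by ring, hr]
      have : (r + 1) * (r + 1) = (r + 1 + 1) * r + 1 := by ring
      rw [this, Nat.add_sub_cancel, Nat.add_sub_cancel]
    have e6' : q ^ 6 - 1 = (1 + q ^ 2 + q ^ 4) * (q ^ 2 - 1) := by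
      obtain ⟨r, hr⟩ : ∃ r, q ^ 2 = r + 1 := ⟨q ^ 2 - 1, by
        have := Nat.one_le_pow 2 q (by omega); omega⟩
      rw [show q ^ 6 = q ^ 2 * q ^ 2 * q ^ 2 by ring, show q ^ 4 = q ^ 2 * q ^ 2 by ring, hr]
      have : (r + 1) * (r + 1) * (r + 1) = (1 + (r + 1) + (r + 1) * (r + 1)) * r + 1 := by ring
      rw [this, Nat.add_sub_cancel, Nat.add_sub_cancel]
    constructor
    · intro e
      have a0 : u ^ j = 1 := congrFun e (0 : Fin 4)
      have a1 : z ^ j = 1 := congrFun e (1 : Fin 4)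
      rw [hu, ← pow_mul, ← orderOf_dvd_iff_pow_eq_one, hN, e6] at a0
      rw [hz, ← pow_mul, ← orderOf_dvd_iff_pow_eq_one, hN, e6'] at a1
      have d1 := Nat.dvd_of_mul_dvd_mul_left (by positivity) a0
      have d2 := Nat.dvd_of_mul_dvd_mul_left (by positivity) a1
      obtain ⟨k, rfl⟩ := d1
      obtain ⟨r, rfl⟩ : ∃ r, q = r + 1 := ⟨q - 1, by omega⟩
      have f2 : (r + 1) ^ 2 - 1 = r * (r + 2) := by
        have : (r + 1) ^ 2 = r * (r + 2) + 1 := by ring
        omega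
      have f3 : (r + 1) ^ 3 - 1 = r * (r * r + 3 * r + 3) := by
        have : (r + 1) ^ 3 = r * (r * r + 3 * r + 3) + 1 := by ring
        omega
      rw [f2, f3, mul_assoc] at d2
      have d3 := Nat.dvd_of_mul_dvd_mul_left (by omega) d2
      have hcop : Nat.Coprime (r + 2) (r * r + 3 * r + 3) := by
        rw [show r * r + 3 * r + 3 = 1 + (r + 1) * (r + 2) by ring,
          Nat.coprime_add_mul_right_right]
        exact Nat.coprime_one_right _
      obtain ⟨l, rfl⟩ := hcop.dvd_of_dvd_mul_left d3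
      refine ⟨l, ?_⟩
      rw [hn]; ring
    · rintro ⟨l, rfl⟩
      have hu1 : u ^ (q ^ 3 - 1) = 1 := by
        rw [hu, ← pow_mul, ← e6, ← hN, pow_orderOf_eq_one]
      have hz1 : z ^ (q ^ 2 - 1) = 1 := by
        rw [hz, ← pow_mul, ← e6', ← hN, pow_orderOf_eq_one]
      have hzd : (q ^ 2 - 1) ∣ n := by
        obtain ⟨r, rfl⟩ : ∃ r, q = r + 1 := ⟨q - 1, by omega⟩
        refine ⟨r * r + 3 * r + 3, ?_⟩
        rw [hn]
        have a : (r + 1) ^ 3 = r * (r * r + 3 * r + 3) + 1 := by ring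
        have b : (r + 1) ^ 2 = r * (r + 2) + 1 := by ring
        rw [a, b, Nat.add_sub_cancel, Nat.add_sub_cancel]
        ring
      have uu : u ^ (n * l) = 1 := by
        rw [hn, mul_assoc, pow_mul, hu1, one_pow]
      refine ext4 ?_ ?_ ?_ ?_
      · exact uu
      · show z ^ (n * l) = 1
        obtain ⟨d, hd⟩ := hzd
        rw [hd, mul_assoc, pow_mul, hz1, one_pow]
      · show (u ^ q) ^ (n * l) = 1
        rw [← pow_mul, mul_comm q, pow_mul, uu, one_pow]
      · show ((u ^ q) ^ q) ^ (n * l) = 1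
        rw [← pow_mul, ← pow_mul, show q * (q * (n * l)) = (n * l) * (q * q) by ring, pow_mul, uu,
          one_pow]
        
  have hbpow : ∀ j : ℕ, b ^ j = 1 ↔ n ∣ j := by
    intro j
    rw [← hpow]
    constructor
    · intro e
      have h := hcj j
      rw [e, map_one, one_mul] at h
      exact ker_fixed hnq (mul_eq_left.mp h.symm) (htau_pow j)
    · intro e
      refine glMap_injective f ?_
      have h := hcj j
      rw [e, map_one, mul_one] at h
      rw [map_one]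
      exact mul_eq_right.mp h
  have hord : orderOf b = n := by
    refine Nat.dvd_antisymm (orderOf_dvd_of_pow_eq_one ((hbpow n).mpr dvd_rfl)) ?_
    exact (hbpow _).mp (pow_orderOf_eq_one b)
  set bb : C.Z.G1 := ⟨b, hbG⟩
  refine ⟨Subgroup.zpowers bb, inferInstance, by
    rw [Nat.card_zpowers, ← Subgroup.orderOf_coe]; exact hord, ?_⟩
  refine le_antisymm (fun y hy => ?_) (fun y hy => ?_)
  swap
  · obtain ⟨j, rfl⟩ := Subgroup.mem_zpowers_iff.mp hy
    exact Subgroup.mem_centralizer_iff.mpr fun x hx => by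
      obtain ⟨i, rfl⟩ := Subgroup.mem_zpowers_iff.mp hx
      rw [← zpow_add, ← zpow_add, add_comm]
  have hcomm : (y : GL chevD4.Idx K) * b = b * y :=
    congrArg Subtype.val (Subgroup.mem_centralizer_iff.mp hy bb (Subgroup.mem_zpowers _)).symm
  have hyG : (y : GL chevD4.Idx K) ∈ chevD4.group K := (C.Z.le_fix y.2).1
  have hyA : C.Φ.A (y : GL chevD4.Idx K) = y := (C.Z.le_fix y.2).2
  set y' := YY⁻¹ * glMap chevD4 f (y : GL chevD4.Idx K) * YY with hy'
  have hy'G : y' ∈ chevD4.group E :=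
    mul_mem (mul_mem (inv_mem (psi_mem_group Y)) (good_D4.glMap_group f hyG)) (psi_mem_group Y)
  have hy'c : y' * D4Data.tab.hT E c = D4Data.tab.hT E c * y' := by
    have e : D4Data.tab.hT E c = YY⁻¹ * glMap chevD4 f b * YY := by
      rw [mul_assoc, hmain, inv_mul_cancel_left]
    have key : ∀ P a b : GL chevD4.Idx E, P⁻¹ * a * P * (P⁻¹ * b * P) = P⁻¹ * (a * b) * P := by
      intros; group
    rw [hy', e, key, key, ← map_mul, ← map_mul, hcomm]
  obtain ⟨v, hv, a₀, L, w, hw, hyeq, hvc, hwc, hnw⟩ := good_D4.fusion hy'G hy'c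
  have htriv : ∀ v ∈ chevD4.posUnipotent E, Commute (D4Data.tab.hT E c) v → v = 1 := by
    intro v hv hc
    rw [good_D4.posUnipotent_eq] at hv
    have := (good_D4.fixed_US good_D4.closed_pos c hv).mp (mul_inv_eq_iff_eq_mul.mpr hc)
    have hemp : {r | r ∈ {r : ℕ | IsPos chevD4 r} ∧ D4Data.tab.chi (F := E) r c = 1} =
        (∅ : Set ℕ) := Set.eq_empty_of_forall_notMem fun r hr => hreg1 r hr.1.1 hr.2
    rw [hemp] at this
    clear hc hv
    induction this using Subgroup.closure_induction with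
    | mem x hx => obtain ⟨r, hr, -⟩ := hx; exact absurd hr (Set.notMem_empty r)
    | one => rfl
    | mul a b _ _ ha hb => rw [ha, hb, one_mul]
    | inv a _ ha => rw [ha, inv_one]
  rw [htriv v hv hvc, htriv w hw hwc, one_mul, mul_one] at hyeq
  -- the Weyl element is trivial
  have hσ : good_D4.full.pw L = 1 := by
    obtain ⟨kk, hk⟩ := good_D4.rootAct_nw (F := E) L
    have hval : ∀ r : Fin chevD4.nroots, D4Data.tab.chi (F := E) r.val c =
        D4Data.tab.chi (F := E) (good_D4.full.pw L r).val c := by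
      intro r
      set σr := good_D4.full.pw L r
      have e1 := (hk r).2.2.2
      have e2 : good_D4.full.x σr.val ((kk r : E) * ((D4Data.tab.chi (F := E) r.val c : E) * 1)) =
          good_D4.full.x σr.val ((D4Data.tab.chi (F := E) σr.val c : E) * ((kk r : E) * 1)) := by
        rw [← e1, ← good_D4.full.hT_conj r.isLt, ← good_D4.full.hT_conj σr.isLt, ← e1]
        calc _ = (good_D4.full.nw E L * D4Data.tab.hT E c) * good_D4.full.x r.val 1 *
              (good_D4.full.nw E L * D4Data.tab.hT E c)⁻¹ := by group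
          _ = _ := by rw [hnw]; group
      have e3 := good_D4.x_inj σr.isLt e2
      refine Units.ext ?_
      refine mul_left_cancel₀ (kk r).ne_zero ?_
      rw [mul_one, mul_one, mul_comm (D4Data.tab.chi (F := E) σr.val c : E)] at e3
      exact e3
    obtain ⟨hinj, htab, hlin, s0, s1, s2, s3⟩ := rootTab
    have hfix : ∀ r ∈ ([18, 13, 12, 19] : List ℕ), ∀ hr : r < 24,
        (good_D4.full.pw L ⟨r, hr⟩).val = r := fun r hr hr' =>
      huniq1 r hr _ (Fin.isLt _) (hval ⟨r, hr'⟩)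
    have f0 : good_D4.full.pw L (good_D4.full.simp' (0 : Fin 4)) =
        good_D4.full.simp' (0 : Fin 4) := Fin.ext (hfix 18 (by decide) (by decide))
    have f2 : good_D4.full.pw L (good_D4.full.simp' (2 : Fin 4)) =
        good_D4.full.simp' (2 : Fin 4) := Fin.ext (hfix 13 (by decide) (by decide))
    have f3 : good_D4.full.pw L (good_D4.full.simp' (3 : Fin 4)) =
        good_D4.full.simp' (3 : Fin 4) := Fin.ext (hfix 12 (by decide) (by decide))
    have hlin' : ∀ (r : Fin chevD4.nroots) (j : Fin 4),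
        D4Data.tab.cor (good_D4.full.pw L r).val j = ∑ k : Fin 4, D4Data.tab.cor r.val k *
          D4Data.tab.cor (good_D4.full.pw L (good_D4.full.simp' k)).val j :=
      fun r j => (hk r).2.2.1 j
    have f1 : good_D4.full.pw L (good_D4.full.simp' (1 : Fin 4)) =
        good_D4.full.simp' (1 : Fin 4) := by
      refine hinj _ _ fun j => ?_
      have e := hlin' ⟨19, by decide⟩ j
      have e' := hlin ⟨19, by decide⟩ j
      rw [hfix 19 (by decide) (by decide)] at e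
      simp only [Fin.prod_univ_four, Fin.sum_univ_four, (htab _).1, f0, f2, f3] at e e'
      simp only [Matrix.cons_val_zero, Matrix.cons_val_one, Matrix.cons_val, one_mul, zero_mul,
        add_zero] at e e'
      have s1' : (good_D4.full.simp' (1 : Fin 4)).val = chevD4.simple (1 : Fin 4) := rfl
      have s0' : (good_D4.full.simp' (0 : Fin 4)).val = chevD4.simple (0 : Fin 4) := rfl
      rw [s0'] at e
      rw [s1']
      linear_combination e' - e
    refine Equiv.ext fun r => hinj _ _ fun j => ?_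
    rw [hlin' r j, Equiv.Perm.one_apply, hlin r j, Fin.sum_univ_four, Fin.sum_univ_four, f0, f1,
      f2, f3]
    rfl
  obtain ⟨e₀, he₀⟩ := good_D4.nw_mem_torus (F := E) _ L rfl (fun r hr => by rw [hσ]; exact hr)
  rw [he₀, ← map_mul] at hyeq
  set a := a₀ * e₀
  have hglM : glMap chevD4 f (y : GL chevD4.Idx K) = YY * D4Data.tab.hT E a * YY⁻¹ := by
    rw [← hyeq, hy']; group
  -- the torus element is fixed up to the kernel
  let W : SL(2, E) := RankOne.eH (Units.mk0 s⁻¹ (inv_ne_zero hs0)) * RankOne.eN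
  have hφY : Matrix.SpecialLinearGroup.map φ Y = Y * W := by
    have hzz : φ ((z : E) ^ q) = z := by
      rw [hφ, ← pow_mul, ← pow_two, ← Units.val_pow_eq_pow_val, hz2]
    have h1 : φ l1 = l2 := by rw [hl1, map_inv₀, hzz]
    have h2 : φ l2 = l1 := by rw [hl2, hl1, map_inv₀, hφ]
    have h3 : φ s = -s := by
      rw [hs, map_inv₀, map_sub, h1, h2, ← neg_sub, inv_neg]
    have h4 : (l1 - l2) * s = 1 := mul_inv_cancel₀ hl
    ext i j
    fin_cases i <;> fin_cases j <;>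
      simp [Y, W, coe_mkSL, RankOne.coe_eH, RankOne.coe_eN, Matrix.SpecialLinearGroup.coe_mul,
        Matrix.mul_apply, Fin.sum_univ_two, h1, h2, h3] <;>
      field_simp
  have hAYY : Φ.A YY = YY * psi W := by
    rw [hYY, C.A_psi hE hφ Φ hπ hρ hf, hφY, map_mul]
  have hhT : ∀ e : Fin chevD4.rank → Eˣ, D4Data.tab.hT E e ∈ chevD4.group E := fun e =>
    good_D4.diagonal_le_group (by rw [good_D4.full.diagonal_eq_range]; exact ⟨_, rfl⟩)
  have hAa : glMap chevD4 f (y : GL chevD4.Idx K) =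
      YY * psi W * D4Data.tab.hT E (Φ.σc a) * (YY * psi W)⁻¹ := by
    have e := C.A_glMap hE f hφ Φ hπ hρ hf hyG
    rw [hyA, hglM] at e
    have e2 : Φ.A (YY * D4Data.tab.hT E a * YY⁻¹) * Φ.A YY = Φ.A YY * Φ.A (D4Data.tab.hT E a) := by
      rw [← Φ.A_mul (mul_mem (mul_mem (psi_mem_group Y) (hhT a)) (inv_mem (psi_mem_group Y)))
        (psi_mem_group Y), ← Φ.A_mul (psi_mem_group Y) (hhT a), inv_mul_cancel_right]
    rw [e, ← hglM, Φ.A_hT, hAYY] at e2
    exact eq_mul_inv_of_mul_eq e2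
  have hker : D4Data.tab.hT E (a / tau q a) = 1 := by
    rw [hglM] at hAa
    have e1 : D4Data.tab.hT E a = psi W * D4Data.tab.hT E (Φ.σc a) * (psi W)⁻¹ := by
      have := congrArg (fun t => YY⁻¹ * t * YY) hAa
      calc D4Data.tab.hT E a = YY⁻¹ * (YY * D4Data.tab.hT E a * YY⁻¹) * YY := by group
        _ = _ := by rw [hAa]; group
    have e3 : D4Data.tab.hT E a = D4Data.tab.hT E (Φ.σc a *
        Pi.mulSingle i1 (D4Data.tab.chi (F := E) 14 (Φ.σc a))⁻¹) := by
      have h5 := good_D4.ns_hT_eq (F := E) i1 (Φ.σc a)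
      rw [simple_i1.1] at h5
      rw [e1]
      simp only [W, map_mul, psi_eH, psi_eN]
      rw [mul_assoc _ (good_D4.full.ns E i1), h5]
      rw [← mul_assoc, mul_inv_rev, ← mul_assoc, mul_inv_cancel_right, ← map_mul]
      rw [mul_inv_eq_iff_eq_mul, ← map_mul]
      exact (congrArg (D4Data.tab.hT E) (mul_comm _ _)).trans (map_mul _ _ _)
    have e4 : Φ.σc a * Pi.mulSingle i1 (D4Data.tab.chi (F := E) 14 (Φ.σc a))⁻¹ = tau q a := by
      rw [chi14, C.σc_big hE hφ Φ hπ hρ hf]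
      obtain ⟨v0, v1, v2, v3⟩ := single_vals (F := E) (((a (1 : Fin 4) ^ q) ^ 2 *
        (a (3 : Fin 4) ^ q * a (0 : Fin 4) ^ q * a (2 : Fin 4) ^ q)⁻¹)⁻¹)
      refine ext4 ((congrArg (_ * ·) v0).trans (mul_one _)) ?_ ((congrArg (_ * ·) v2).trans (mul_one _))
        ((congrArg (_ * ·) v3).trans (mul_one _))
      refine (congrArg ((a (1 : Fin 4) ^ q) * ·) v1).trans ?_
      show a (1 : Fin 4) ^ q * _ = a (0 : Fin 4) ^ q * a (2 : Fin 4) ^ q * a (3 : Fin 4) ^ q *
        (a (1 : Fin 4) ^ q)⁻¹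
      refine Units.ext ?_
      push_cast
      field_simp
    rw [map_div, ← e4, ← e3, div_self']
  obtain ⟨k, hk1, hk2⟩ := ker_lang hnq hker
  set a' : Fin chevD4.rank → Eˣ := a / k with ha'
  have hta : tau q a' = a' := by
    rw [ha', map_div]
    exact (div_eq_div_iff_div_eq_div.mp hk2.symm).symm
  have hhTa : D4Data.tab.hT E a = D4Data.tab.hT E a' := by
    rw [ha', map_div, hk1, div_one]
  -- so it is a power of `c`
  obtain ⟨j, hj⟩ : ∃ j : ℕ, c ^ j = a' := by
    let Sset : Set (Eˣ × Eˣ) :=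
      {p | p.1 ^ q ^ 3 = p.1 ∧ p.2 ^ (q + 1) = p.1 * p.1 ^ q * (p.1 ^ q) ^ q}
    have hmem : ∀ x : Fin chevD4.rank → Eˣ, tau q x = x →
        (x (0 : Fin 4), x (1 : Fin 4)) ∈ Sset ∧ x (2 : Fin 4) = x (0 : Fin 4) ^ q ∧
          x (3 : Fin 4) = (x (0 : Fin 4) ^ q) ^ q := by
      intro x hx
      have x2 : x (2 : Fin 4) = x (0 : Fin 4) ^ q := (congrFun hx (2 : Fin 4)).symm
      have x3 : x (3 : Fin 4) = (x (0 : Fin 4) ^ q) ^ q := by
        rw [← x2]; exact (congrFun hx (3 : Fin 4)).symm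
      have x0 : x (3 : Fin 4) ^ q = x (0 : Fin 4) := congrFun hx (0 : Fin 4)
      have x1 : x (0 : Fin 4) ^ q * x (2 : Fin 4) ^ q * x (3 : Fin 4) ^ q *
          (x (1 : Fin 4) ^ q)⁻¹ = x (1 : Fin 4) := congrFun hx (1 : Fin 4)
      refine ⟨⟨?_, ?_⟩, x2, x3⟩
      · show x (0 : Fin 4) ^ q ^ 3 = _
        conv_rhs => rw [← x0, x3]
        rw [← pow_mul, ← pow_mul]
        congr 1
        ring
      · show x (1 : Fin 4) ^ (q + 1) = _
        rw [x0, x2] at x1
        conv_lhs => rw [pow_succ]; arg 2; rw [← x1]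
        rw [mul_comm _ (x (1 : Fin 4) ^ q)⁻¹, ← mul_assoc, mul_inv_cancel, one_mul]
        ac_rfl
    have hcard : Nat.card Sset ≤ n := by
      let A0 := {p : Eˣ // p ^ (q ^ 3 - 1) = 1}
      have hfib : ∀ w : Eˣ, Nat.card {v : Eˣ // v ^ (q + 1) = w} ≤ q + 1 := by
        intro w
        rcases isEmpty_or_nonempty {v : Eˣ // v ^ (q + 1) = w} with h | ⟨⟨v0, hv0⟩⟩
        · simp
        refine le_trans (Nat.card_le_card_of_injective
          (fun v : {v : Eˣ // v ^ (q + 1) = w} => (⟨v.1 * v0⁻¹, by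
            rw [MonoidHom.mem_ker, powMonoidHom_apply, mul_pow, v.2, inv_pow, hv0,
              mul_inv_cancel]⟩ : (powMonoidHom (q + 1) : Eˣ →* Eˣ).ker))
          fun v v' e => Subtype.ext (mul_right_cancel (congrArg Subtype.val e))) ?_
        rw [IsCyclic.card_powMonoidHom_ker]
        exact Nat.gcd_le_right _ (by omega)
      have hA0 : Nat.card A0 ≤ q ^ 3 - 1 := by
        refine le_trans (le_of_eq (Nat.card_congr (Equiv.subtypeEquivRight (p := fun p : Eˣ =>
          p ^ (q ^ 3 - 1) = 1) (q := fun p => p ∈ (powMonoidHom (q ^ 3 - 1) : Eˣ →* Eˣ).ker)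
            fun p => Iff.rfl))) ?_
        rw [IsCyclic.card_powMonoidHom_ker]
        exact Nat.gcd_le_right _ (by
          have := Nat.pow_le_pow_left hq2 3
          omega)
      let Ψ : Sset → (w : A0) × {v : Eˣ // v ^ (q + 1) = w.1 * w.1 ^ q * (w.1 ^ q) ^ q} :=
        fun p => ⟨⟨p.1.1, mul_right_cancel (b := p.1.1)
          (by rw [one_mul, ← pow_succ, Nat.sub_add_cancel hq3]; exact p.2.1)⟩, ⟨p.1.2, p.2.2⟩⟩
      have hΨ : Function.Injective Ψ := fun p p' e => Subtype.ext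
        (congrArg (fun r : (w : A0) × {v : Eˣ // v ^ (q + 1) = w.1 * w.1 ^ q * (w.1 ^ q) ^ q} =>
          ((r.1 : Eˣ), (r.2 : Eˣ))) e)
      haveI : Fintype A0 := Fintype.ofFinite _
      refine le_trans (Nat.card_le_card_of_injective Ψ hΨ) ?_
      rw [Nat.card_sigma]
      refine le_trans (Finset.sum_le_sum fun w _ => hfib _) ?_
      rw [Finset.sum_const, smul_eq_mul, Finset.card_univ, ← Nat.card_eq_fintype_card, hn]
      exact Nat.mul_le_mul_right _ hA0
    let pj : Fin n → Sset := fun j => ⟨_, (hmem (c ^ j.val) (htau_pow j.val)).1⟩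
    have hpj : Function.Injective pj := by
      have key : ∀ i j : Fin n, i.val ≤ j.val → pj i = pj j → i = j := by
        intro i j hij e
        have e' := congrArg Subtype.val e
        simp only [pj, Prod.mk.injEq] at e'
        have hz' : c ^ (j.val - i.val) = 1 := by
          refine mul_right_cancel (b := c ^ i.val) ?_
          rw [one_mul, ← pow_add, Nat.sub_add_cancel hij]
          obtain ⟨-, i2, i3⟩ := hmem _ (htau_pow i.val)
          obtain ⟨-, j2, j3⟩ := hmem _ (htau_pow j.val)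
          exact ext4 e'.1.symm e'.2.symm (j2.trans ((congrArg (· ^ q) e'.1).symm.trans i2.symm))
            (j3.trans ((congrArg (fun t => (t ^ q) ^ q) e'.1).symm.trans i3.symm))
        have := Nat.eq_zero_of_dvd_of_lt ((hpow _).mp hz') (by omega)
        exact Fin.ext (by omega)
      intro i j e
      rcases le_total i.val j.val with h | h
      exacts [key i j h e, (key j i h e.symm).symm]
    have hbij : Function.Bijective pj := by
      refine Function.Injective.bijective_of_nat_card_le hpj ?_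
      rw [Nat.card_fin]; exact hcard
    obtain ⟨hS, ha2, ha3⟩ := hmem a' hta
    obtain ⟨i, hi⟩ := hbij.2 ⟨_, hS⟩
    obtain ⟨-, i2, i3⟩ := hmem _ (htau_pow i.val)
    have e' := congrArg Subtype.val hi
    simp only [pj, Prod.mk.injEq] at e'
    refine ⟨i.val, ?_⟩
    exact ext4 e'.1 e'.2 (i2.trans ((congrArg (· ^ q) e'.1).trans ha2.symm))
      (i3.trans ((congrArg (fun t => (t ^ q) ^ q) e'.1).trans ha3.symm))
  refine Subgroup.mem_zpowers_iff.mpr ⟨j, Subtype.ext (glMap_injective f ?_)⟩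
  rw [zpow_natCast, SubgroupClass.coe_pow, hglM, hhTa, ← hj, eq_mul_inv_iff_mul_eq]
  exact hcj j

end Big

/-- The torus of order `(q³ - 1)(q + 1)`. -/
theorem exists_cyclic_torus : ∃ H : Subgroup C.Z.G1, IsCyclic H ∧
    Nat.card H = (q ^ 3 - 1) * (q + 1) ∧ Subgroup.centralizer (H : Set C.Z.G1) = H := by
  obtain ⟨p, hp⟩ := CharP.exists K
  haveI := Fact.mk (CharP.char_is_prime K p)
  obtain ⟨φ, Φ, hφ, hc, hπ, hρ, hf⟩ := C.exists_big p
  exact C.exists_torus hc (algebraMap K (FiniteField.Extension K p 2)) hφ Φ hπ hρ hf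

end Ctx

end CfsgLib.Chev.D4Tw
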