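import Cfsg.Agent.Chev.TwistedD4
import Cfsg.Agent.Chev.CentRoots

/-!
The positive unipotent subgroup of `D₄` in the coordinates adapted to triality, and the induced
coordinates of the unipotent subgroup of `³D₄(q)`.
-/

set_option autoImplicit false
set_option linter.style.haveILetI false

namespace CfsgLib.Chev.D4Tw

open Cfsg.Lie Tab
open scoped MatrixGroups

variable {K : Type*} [Field K]

/-- The root elements. -/
local notation "X" => good_D4.full.x (F := K)

theorem chkCom : ([(14, 18, 19, 1), (14, 13, 16, -1), (14, 12, 15, -1), (14, 22, 23, 1), (18, 16, 21, -1), (18, 15, 20, -1), (18, 17, 22, -1), (13, 19, 21, 1), (13, 15, 17, 1), (13, 20, 22, 1), (12, 19, 20, 1), (12, 16, 17, 1), (12, 21, 22, 1), (19, 17, 23, -1), (16, 20, 23, -1), (15, 21, 23, -1)] : List (ℕ × ℕ × ℕ × ℤ)).all (fun p =>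
    decide (D4Data.tab.commT p.1 p.2.1 = [(p.2.2.1, p.2.2.2, 1, 1)])) = true := by
  decide +kernel

theorem chkTriv : ([(19, 14), (16, 14), (15, 14), (20, 14), (21, 14), (17, 14), (23, 14), (13, 18), (12, 18), (19, 18), (20, 18), (21, 18), (22, 18), (23, 18), (12, 13), (16, 13), (21, 13), (17, 13), (22, 13), (23, 13), (15, 12), (20, 12), (17, 12), (22, 12), (23, 12), (16, 19), (15, 19), (20, 19), (21, 19), (22, 19), (23, 19), (15, 16), (21, 16), (17, 16), (22, 16), (23, 16), (20, 15), (17, 15), (22, 15), (23, 15), (21, 20), (17, 20), (22, 20), (23, 20), (17, 21), (22, 21), (23, 21), (22, 17), (23, 17), (23, 22)] : List (ℕ × ℕ)).all (fun p =>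
    decide (D4Data.tab.commT p.2 p.1 = [])) = true := by
  decide +kernel

theorem move {r s k : ℕ} {c : ℤ} (hr : r < 24) (hs : s < 24) (h1 : s ≠ r) (h2 : s ≠ negR chevD4 r)
    (h : D4Data.tab.commT r s = [(k, c, 1, 1)]) (t u : K) (g : GL chevD4.Idx K) :
    X s u * (X r t * g) = X r t * (X s u * (X k (-((c : K) * t * u)) * g)) := by
  have e := good_D4.full.x_comm (F := K) (r := r) (s := s) hr hs h1 h2 t u
  rw [good_D4.full.cert.commWord_eq hr hs, h] at e
  simp only [rhsWord, List.map_cons, List.map_nil, List.prod_cons, List.prod_nil, mul_one,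
    pow_one] at e
  rw [← mul_assoc, e, show -((c : K) * t * u) = (c : K) * -t * u by ring]
  simp only [mul_assoc]

theorem swap {r s : ℕ} (hr : r < 24) (hs : s < 24) (h1 : s ≠ r) (h2 : s ≠ negR chevD4 r)
    (h : D4Data.tab.commT r s = []) (t u : K) (g : GL chevD4.Idx K) :
    X s u * (X r t * g) = X r t * (X s u * g) := by
  have e := good_D4.full.x_comm (F := K) (r := r) (s := s) hr hs h1 h2 t u
  rw [good_D4.full.cert.commWord_eq hr hs, h] at e
  simp only [rhsWord, List.map_nil, List.prod_nil, mul_one] at e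
  rw [← mul_assoc, e, mul_assoc]

theorem merge (r : ℕ) (t u : K) (g : GL chevD4.Idx K) : X r t * (X r u * g) = X r (t + u) * g := by
  rw [← mul_assoc, good_D4.full.x_add]

theorem m_18_14 (t u : K) (g : GL chevD4.Idx K) :
    X 18 u * (X 14 t * g) = X 14 t * (X 18 u * (X 19 (-(t * u)) * g)) := by
  rw [move (k := 19) (c := 1) (by decide) (by decide) (by decide) (by decide +kernel)
    (of_decide_eq_true (List.all_eq_true.mp chkCom (14, 18, 19, 1) (by simp)))]
  simp

theorem m_13_14 (t u : K) (g : GL chevD4.Idx K) :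
    X 13 u * (X 14 t * g) = X 14 t * (X 13 u * (X 16 (t * u) * g)) := by
  rw [move (k := 16) (c := -1) (by decide) (by decide) (by decide) (by decide +kernel)
    (of_decide_eq_true (List.all_eq_true.mp chkCom (14, 13, 16, -1) (by simp)))]
  simp

theorem m_12_14 (t u : K) (g : GL chevD4.Idx K) :
    X 12 u * (X 14 t * g) = X 14 t * (X 12 u * (X 15 (t * u) * g)) := by
  rw [move (k := 15) (c := -1) (by decide) (by decide) (by decide) (by decide +kernel)
    (of_decide_eq_true (List.all_eq_true.mp chkCom (14, 12, 15, -1) (by simp)))]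
  simp

theorem m_22_14 (t u : K) (g : GL chevD4.Idx K) :
    X 22 u * (X 14 t * g) = X 14 t * (X 22 u * (X 23 (-(t * u)) * g)) := by
  rw [move (k := 23) (c := 1) (by decide) (by decide) (by decide) (by decide +kernel)
    (of_decide_eq_true (List.all_eq_true.mp chkCom (14, 22, 23, 1) (by simp)))]
  simp

theorem m_16_18 (t u : K) (g : GL chevD4.Idx K) :
    X 16 u * (X 18 t * g) = X 18 t * (X 16 u * (X 21 (t * u) * g)) := by
  rw [move (k := 21) (c := -1) (by decide) (by decide) (by decide) (by decide +kernel)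
    (of_decide_eq_true (List.all_eq_true.mp chkCom (18, 16, 21, -1) (by simp)))]
  simp

theorem m_15_18 (t u : K) (g : GL chevD4.Idx K) :
    X 15 u * (X 18 t * g) = X 18 t * (X 15 u * (X 20 (t * u) * g)) := by
  rw [move (k := 20) (c := -1) (by decide) (by decide) (by decide) (by decide +kernel)
    (of_decide_eq_true (List.all_eq_true.mp chkCom (18, 15, 20, -1) (by simp)))]
  simp

theorem m_17_18 (t u : K) (g : GL chevD4.Idx K) :
    X 17 u * (X 18 t * g) = X 18 t * (X 17 u * (X 22 (t * u) * g)) := by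
  rw [move (k := 22) (c := -1) (by decide) (by decide) (by decide) (by decide +kernel)
    (of_decide_eq_true (List.all_eq_true.mp chkCom (18, 17, 22, -1) (by simp)))]
  simp

theorem m_19_13 (t u : K) (g : GL chevD4.Idx K) :
    X 19 u * (X 13 t * g) = X 13 t * (X 19 u * (X 21 (-(t * u)) * g)) := by
  rw [move (k := 21) (c := 1) (by decide) (by decide) (by decide) (by decide +kernel)
    (of_decide_eq_true (List.all_eq_true.mp chkCom (13, 19, 21, 1) (by simp)))]
  simp

theorem m_15_13 (t u : K) (g : GL chevD4.Idx K) :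
    X 15 u * (X 13 t * g) = X 13 t * (X 15 u * (X 17 (-(t * u)) * g)) := by
  rw [move (k := 17) (c := 1) (by decide) (by decide) (by decide) (by decide +kernel)
    (of_decide_eq_true (List.all_eq_true.mp chkCom (13, 15, 17, 1) (by simp)))]
  simp

theorem m_20_13 (t u : K) (g : GL chevD4.Idx K) :
    X 20 u * (X 13 t * g) = X 13 t * (X 20 u * (X 22 (-(t * u)) * g)) := by
  rw [move (k := 22) (c := 1) (by decide) (by decide) (by decide) (by decide +kernel)
    (of_decide_eq_true (List.all_eq_true.mp chkCom (13, 20, 22, 1) (by simp)))]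
  simp

theorem m_19_12 (t u : K) (g : GL chevD4.Idx K) :
    X 19 u * (X 12 t * g) = X 12 t * (X 19 u * (X 20 (-(t * u)) * g)) := by
  rw [move (k := 20) (c := 1) (by decide) (by decide) (by decide) (by decide +kernel)
    (of_decide_eq_true (List.all_eq_true.mp chkCom (12, 19, 20, 1) (by simp)))]
  simp

theorem m_16_12 (t u : K) (g : GL chevD4.Idx K) :
    X 16 u * (X 12 t * g) = X 12 t * (X 16 u * (X 17 (-(t * u)) * g)) := by
  rw [move (k := 17) (c := 1) (by decide) (by decide) (by decide) (by decide +kernel)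
    (of_decide_eq_true (List.all_eq_true.mp chkCom (12, 16, 17, 1) (by simp)))]
  simp

theorem m_21_12 (t u : K) (g : GL chevD4.Idx K) :
    X 21 u * (X 12 t * g) = X 12 t * (X 21 u * (X 22 (-(t * u)) * g)) := by
  rw [move (k := 22) (c := 1) (by decide) (by decide) (by decide) (by decide +kernel)
    (of_decide_eq_true (List.all_eq_true.mp chkCom (12, 21, 22, 1) (by simp)))]
  simp

theorem m_17_19 (t u : K) (g : GL chevD4.Idx K) :
    X 17 u * (X 19 t * g) = X 19 t * (X 17 u * (X 23 (t * u) * g)) := by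
  rw [move (k := 23) (c := -1) (by decide) (by decide) (by decide) (by decide +kernel)
    (of_decide_eq_true (List.all_eq_true.mp chkCom (19, 17, 23, -1) (by simp)))]
  simp

theorem m_20_16 (t u : K) (g : GL chevD4.Idx K) :
    X 20 u * (X 16 t * g) = X 16 t * (X 20 u * (X 23 (t * u) * g)) := by
  rw [move (k := 23) (c := -1) (by decide) (by decide) (by decide) (by decide +kernel)
    (of_decide_eq_true (List.all_eq_true.mp chkCom (16, 20, 23, -1) (by simp)))]
  simp

theorem m_21_15 (t u : K) (g : GL chevD4.Idx K) :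
    X 21 u * (X 15 t * g) = X 15 t * (X 21 u * (X 23 (t * u) * g)) := by
  rw [move (k := 23) (c := -1) (by decide) (by decide) (by decide) (by decide +kernel)
    (of_decide_eq_true (List.all_eq_true.mp chkCom (15, 21, 23, -1) (by simp)))]
  simp

theorem s_19_14 (t u : K) (g : GL chevD4.Idx K) : X 19 u * (X 14 t * g) = X 14 t * (X 19 u * g) :=
  swap (by decide) (by decide) (by decide) (by decide +kernel)
    (of_decide_eq_true (List.all_eq_true.mp chkTriv (19, 14) (by simp))) t u g

theorem s_16_14 (t u : K) (g : GL chevD4.Idx K) : X 16 u * (X 14 t * g) = X 14 t * (X 16 u * g) :=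
  swap (by decide) (by decide) (by decide) (by decide +kernel)
    (of_decide_eq_true (List.all_eq_true.mp chkTriv (16, 14) (by simp))) t u g

theorem s_15_14 (t u : K) (g : GL chevD4.Idx K) : X 15 u * (X 14 t * g) = X 14 t * (X 15 u * g) :=
  swap (by decide) (by decide) (by decide) (by decide +kernel)
    (of_decide_eq_true (List.all_eq_true.mp chkTriv (15, 14) (by simp))) t u g

theorem s_20_14 (t u : K) (g : GL chevD4.Idx K) : X 20 u * (X 14 t * g) = X 14 t * (X 20 u * g) :=
  swap (by decide) (by decide) (by decide) (by decide +kernel)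
    (of_decide_eq_true (List.all_eq_true.mp chkTriv (20, 14) (by simp))) t u g

theorem s_21_14 (t u : K) (g : GL chevD4.Idx K) : X 21 u * (X 14 t * g) = X 14 t * (X 21 u * g) :=
  swap (by decide) (by decide) (by decide) (by decide +kernel)
    (of_decide_eq_true (List.all_eq_true.mp chkTriv (21, 14) (by simp))) t u g

theorem s_17_14 (t u : K) (g : GL chevD4.Idx K) : X 17 u * (X 14 t * g) = X 14 t * (X 17 u * g) :=
  swap (by decide) (by decide) (by decide) (by decide +kernel)
    (of_decide_eq_true (List.all_eq_true.mp chkTriv (17, 14) (by simp))) t u g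

theorem s_23_14 (t u : K) (g : GL chevD4.Idx K) : X 23 u * (X 14 t * g) = X 14 t * (X 23 u * g) :=
  swap (by decide) (by decide) (by decide) (by decide +kernel)
    (of_decide_eq_true (List.all_eq_true.mp chkTriv (23, 14) (by simp))) t u g

theorem s_13_18 (t u : K) (g : GL chevD4.Idx K) : X 13 u * (X 18 t * g) = X 18 t * (X 13 u * g) :=
  swap (by decide) (by decide) (by decide) (by decide +kernel)
    (of_decide_eq_true (List.all_eq_true.mp chkTriv (13, 18) (by simp))) t u g

theorem s_12_18 (t u : K) (g : GL chevD4.Idx K) : X 12 u * (X 18 t * g) = X 18 t * (X 12 u * g) :=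
  swap (by decide) (by decide) (by decide) (by decide +kernel)
    (of_decide_eq_true (List.all_eq_true.mp chkTriv (12, 18) (by simp))) t u g

theorem s_19_18 (t u : K) (g : GL chevD4.Idx K) : X 19 u * (X 18 t * g) = X 18 t * (X 19 u * g) :=
  swap (by decide) (by decide) (by decide) (by decide +kernel)
    (of_decide_eq_true (List.all_eq_true.mp chkTriv (19, 18) (by simp))) t u g

theorem s_20_18 (t u : K) (g : GL chevD4.Idx K) : X 20 u * (X 18 t * g) = X 18 t * (X 20 u * g) :=
  swap (by decide) (by decide) (by decide) (by decide +kernel)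
    (of_decide_eq_true (List.all_eq_true.mp chkTriv (20, 18) (by simp))) t u g

theorem s_21_18 (t u : K) (g : GL chevD4.Idx K) : X 21 u * (X 18 t * g) = X 18 t * (X 21 u * g) :=
  swap (by decide) (by decide) (by decide) (by decide +kernel)
    (of_decide_eq_true (List.all_eq_true.mp chkTriv (21, 18) (by simp))) t u g

theorem s_22_18 (t u : K) (g : GL chevD4.Idx K) : X 22 u * (X 18 t * g) = X 18 t * (X 22 u * g) :=
  swap (by decide) (by decide) (by decide) (by decide +kernel)
    (of_decide_eq_true (List.all_eq_true.mp chkTriv (22, 18) (by simp))) t u g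

theorem s_23_18 (t u : K) (g : GL chevD4.Idx K) : X 23 u * (X 18 t * g) = X 18 t * (X 23 u * g) :=
  swap (by decide) (by decide) (by decide) (by decide +kernel)
    (of_decide_eq_true (List.all_eq_true.mp chkTriv (23, 18) (by simp))) t u g

theorem s_12_13 (t u : K) (g : GL chevD4.Idx K) : X 12 u * (X 13 t * g) = X 13 t * (X 12 u * g) :=
  swap (by decide) (by decide) (by decide) (by decide +kernel)
    (of_decide_eq_true (List.all_eq_true.mp chkTriv (12, 13) (by simp))) t u g

theorem s_16_13 (t u : K) (g : GL chevD4.Idx K) : X 16 u * (X 13 t * g) = X 13 t * (X 16 u * g) :=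
  swap (by decide) (by decide) (by decide) (by decide +kernel)
    (of_decide_eq_true (List.all_eq_true.mp chkTriv (16, 13) (by simp))) t u g

theorem s_21_13 (t u : K) (g : GL chevD4.Idx K) : X 21 u * (X 13 t * g) = X 13 t * (X 21 u * g) :=
  swap (by decide) (by decide) (by decide) (by decide +kernel)
    (of_decide_eq_true (List.all_eq_true.mp chkTriv (21, 13) (by simp))) t u g

theorem s_17_13 (t u : K) (g : GL chevD4.Idx K) : X 17 u * (X 13 t * g) = X 13 t * (X 17 u * g) :=
  swap (by decide) (by decide) (by decide) (by decide +kernel)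
    (of_decide_eq_true (List.all_eq_true.mp chkTriv (17, 13) (by simp))) t u g

theorem s_22_13 (t u : K) (g : GL chevD4.Idx K) : X 22 u * (X 13 t * g) = X 13 t * (X 22 u * g) :=
  swap (by decide) (by decide) (by decide) (by decide +kernel)
    (of_decide_eq_true (List.all_eq_true.mp chkTriv (22, 13) (by simp))) t u g

theorem s_23_13 (t u : K) (g : GL chevD4.Idx K) : X 23 u * (X 13 t * g) = X 13 t * (X 23 u * g) :=
  swap (by decide) (by decide) (by decide) (by decide +kernel)
    (of_decide_eq_true (List.all_eq_true.mp chkTriv (23, 13) (by simp))) t u g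

theorem s_15_12 (t u : K) (g : GL chevD4.Idx K) : X 15 u * (X 12 t * g) = X 12 t * (X 15 u * g) :=
  swap (by decide) (by decide) (by decide) (by decide +kernel)
    (of_decide_eq_true (List.all_eq_true.mp chkTriv (15, 12) (by simp))) t u g

theorem s_20_12 (t u : K) (g : GL chevD4.Idx K) : X 20 u * (X 12 t * g) = X 12 t * (X 20 u * g) :=
  swap (by decide) (by decide) (by decide) (by decide +kernel)
    (of_decide_eq_true (List.all_eq_true.mp chkTriv (20, 12) (by simp))) t u g

theorem s_17_12 (t u : K) (g : GL chevD4.Idx K) : X 17 u * (X 12 t * g) = X 12 t * (X 17 u * g) :=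
  swap (by decide) (by decide) (by decide) (by decide +kernel)
    (of_decide_eq_true (List.all_eq_true.mp chkTriv (17, 12) (by simp))) t u g

theorem s_22_12 (t u : K) (g : GL chevD4.Idx K) : X 22 u * (X 12 t * g) = X 12 t * (X 22 u * g) :=
  swap (by decide) (by decide) (by decide) (by decide +kernel)
    (of_decide_eq_true (List.all_eq_true.mp chkTriv (22, 12) (by simp))) t u g

theorem s_23_12 (t u : K) (g : GL chevD4.Idx K) : X 23 u * (X 12 t * g) = X 12 t * (X 23 u * g) :=
  swap (by decide) (by decide) (by decide) (by decide +kernel)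
    (of_decide_eq_true (List.all_eq_true.mp chkTriv (23, 12) (by simp))) t u g

theorem s_16_19 (t u : K) (g : GL chevD4.Idx K) : X 16 u * (X 19 t * g) = X 19 t * (X 16 u * g) :=
  swap (by decide) (by decide) (by decide) (by decide +kernel)
    (of_decide_eq_true (List.all_eq_true.mp chkTriv (16, 19) (by simp))) t u g

theorem s_15_19 (t u : K) (g : GL chevD4.Idx K) : X 15 u * (X 19 t * g) = X 19 t * (X 15 u * g) :=
  swap (by decide) (by decide) (by decide) (by decide +kernel)
    (of_decide_eq_true (List.all_eq_true.mp chkTriv (15, 19) (by simp))) t u g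

theorem s_20_19 (t u : K) (g : GL chevD4.Idx K) : X 20 u * (X 19 t * g) = X 19 t * (X 20 u * g) :=
  swap (by decide) (by decide) (by decide) (by decide +kernel)
    (of_decide_eq_true (List.all_eq_true.mp chkTriv (20, 19) (by simp))) t u g

theorem s_21_19 (t u : K) (g : GL chevD4.Idx K) : X 21 u * (X 19 t * g) = X 19 t * (X 21 u * g) :=
  swap (by decide) (by decide) (by decide) (by decide +kernel)
    (of_decide_eq_true (List.all_eq_true.mp chkTriv (21, 19) (by simp))) t u g

theorem s_22_19 (t u : K) (g : GL chevD4.Idx K) : X 22 u * (X 19 t * g) = X 19 t * (X 22 u * g) :=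
  swap (by decide) (by decide) (by decide) (by decide +kernel)
    (of_decide_eq_true (List.all_eq_true.mp chkTriv (22, 19) (by simp))) t u g

theorem s_23_19 (t u : K) (g : GL chevD4.Idx K) : X 23 u * (X 19 t * g) = X 19 t * (X 23 u * g) :=
  swap (by decide) (by decide) (by decide) (by decide +kernel)
    (of_decide_eq_true (List.all_eq_true.mp chkTriv (23, 19) (by simp))) t u g

theorem s_15_16 (t u : K) (g : GL chevD4.Idx K) : X 15 u * (X 16 t * g) = X 16 t * (X 15 u * g) :=
  swap (by decide) (by decide) (by decide) (by decide +kernel)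
    (of_decide_eq_true (List.all_eq_true.mp chkTriv (15, 16) (by simp))) t u g

theorem s_21_16 (t u : K) (g : GL chevD4.Idx K) : X 21 u * (X 16 t * g) = X 16 t * (X 21 u * g) :=
  swap (by decide) (by decide) (by decide) (by decide +kernel)
    (of_decide_eq_true (List.all_eq_true.mp chkTriv (21, 16) (by simp))) t u g

theorem s_17_16 (t u : K) (g : GL chevD4.Idx K) : X 17 u * (X 16 t * g) = X 16 t * (X 17 u * g) :=
  swap (by decide) (by decide) (by decide) (by decide +kernel)
    (of_decide_eq_true (List.all_eq_true.mp chkTriv (17, 16) (by simp))) t u g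

theorem s_22_16 (t u : K) (g : GL chevD4.Idx K) : X 22 u * (X 16 t * g) = X 16 t * (X 22 u * g) :=
  swap (by decide) (by decide) (by decide) (by decide +kernel)
    (of_decide_eq_true (List.all_eq_true.mp chkTriv (22, 16) (by simp))) t u g

theorem s_23_16 (t u : K) (g : GL chevD4.Idx K) : X 23 u * (X 16 t * g) = X 16 t * (X 23 u * g) :=
  swap (by decide) (by decide) (by decide) (by decide +kernel)
    (of_decide_eq_true (List.all_eq_true.mp chkTriv (23, 16) (by simp))) t u g

theorem s_20_15 (t u : K) (g : GL chevD4.Idx K) : X 20 u * (X 15 t * g) = X 15 t * (X 20 u * g) :=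
  swap (by decide) (by decide) (by decide) (by decide +kernel)
    (of_decide_eq_true (List.all_eq_true.mp chkTriv (20, 15) (by simp))) t u g

theorem s_17_15 (t u : K) (g : GL chevD4.Idx K) : X 17 u * (X 15 t * g) = X 15 t * (X 17 u * g) :=
  swap (by decide) (by decide) (by decide) (by decide +kernel)
    (of_decide_eq_true (List.all_eq_true.mp chkTriv (17, 15) (by simp))) t u g

theorem s_22_15 (t u : K) (g : GL chevD4.Idx K) : X 22 u * (X 15 t * g) = X 15 t * (X 22 u * g) :=
  swap (by decide) (by decide) (by decide) (by decide +kernel)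
    (of_decide_eq_true (List.all_eq_true.mp chkTriv (22, 15) (by simp))) t u g

theorem s_23_15 (t u : K) (g : GL chevD4.Idx K) : X 23 u * (X 15 t * g) = X 15 t * (X 23 u * g) :=
  swap (by decide) (by decide) (by decide) (by decide +kernel)
    (of_decide_eq_true (List.all_eq_true.mp chkTriv (23, 15) (by simp))) t u g

theorem s_21_20 (t u : K) (g : GL chevD4.Idx K) : X 21 u * (X 20 t * g) = X 20 t * (X 21 u * g) :=
  swap (by decide) (by decide) (by decide) (by decide +kernel)
    (of_decide_eq_true (List.all_eq_true.mp chkTriv (21, 20) (by simp))) t u g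

theorem s_17_20 (t u : K) (g : GL chevD4.Idx K) : X 17 u * (X 20 t * g) = X 20 t * (X 17 u * g) :=
  swap (by decide) (by decide) (by decide) (by decide +kernel)
    (of_decide_eq_true (List.all_eq_true.mp chkTriv (17, 20) (by simp))) t u g

theorem s_22_20 (t u : K) (g : GL chevD4.Idx K) : X 22 u * (X 20 t * g) = X 20 t * (X 22 u * g) :=
  swap (by decide) (by decide) (by decide) (by decide +kernel)
    (of_decide_eq_true (List.all_eq_true.mp chkTriv (22, 20) (by simp))) t u g

theorem s_23_20 (t u : K) (g : GL chevD4.Idx K) : X 23 u * (X 20 t * g) = X 20 t * (X 23 u * g) :=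
  swap (by decide) (by decide) (by decide) (by decide +kernel)
    (of_decide_eq_true (List.all_eq_true.mp chkTriv (23, 20) (by simp))) t u g

theorem s_17_21 (t u : K) (g : GL chevD4.Idx K) : X 17 u * (X 21 t * g) = X 21 t * (X 17 u * g) :=
  swap (by decide) (by decide) (by decide) (by decide +kernel)
    (of_decide_eq_true (List.all_eq_true.mp chkTriv (17, 21) (by simp))) t u g

theorem s_22_21 (t u : K) (g : GL chevD4.Idx K) : X 22 u * (X 21 t * g) = X 21 t * (X 22 u * g) :=
  swap (by decide) (by decide) (by decide) (by decide +kernel)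
    (of_decide_eq_true (List.all_eq_true.mp chkTriv (22, 21) (by simp))) t u g

theorem s_23_21 (t u : K) (g : GL chevD4.Idx K) : X 23 u * (X 21 t * g) = X 21 t * (X 23 u * g) :=
  swap (by decide) (by decide) (by decide) (by decide +kernel)
    (of_decide_eq_true (List.all_eq_true.mp chkTriv (23, 21) (by simp))) t u g

theorem s_22_17 (t u : K) (g : GL chevD4.Idx K) : X 22 u * (X 17 t * g) = X 17 t * (X 22 u * g) :=
  swap (by decide) (by decide) (by decide) (by decide +kernel)
    (of_decide_eq_true (List.all_eq_true.mp chkTriv (22, 17) (by simp))) t u g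

theorem s_23_17 (t u : K) (g : GL chevD4.Idx K) : X 23 u * (X 17 t * g) = X 17 t * (X 23 u * g) :=
  swap (by decide) (by decide) (by decide) (by decide +kernel)
    (of_decide_eq_true (List.all_eq_true.mp chkTriv (23, 17) (by simp))) t u g

theorem s_23_22 (t u : K) (g : GL chevD4.Idx K) : X 23 u * (X 22 t * g) = X 22 t * (X 23 u * g) :=
  swap (by decide) (by decide) (by decide) (by decide +kernel)
    (of_decide_eq_true (List.all_eq_true.mp chkTriv (23, 22) (by simp))) t u g

/-- A positive element in the coordinates ordered along the orbits. -/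
def P12 (v : Fin 12 → K) : GL chevD4.Idx K :=
  X 14 (v 0) * (X 18 (v 1) * (X 13 (v 2) * (X 12 (v 3) * (X 19 (v 4) * (X 16 (v 5) * (X 15 (v 6) * (X 20 (v 7) * (X 21 (v 8) * (X 17 (v 9) * (X 22 (v 10) * (X 23 (v 11))))))))))))

/-- The product in the coordinates. -/
def p12Mul (v w : Fin 12 → K) : Fin 12 → K :=
  ![v 0 + w 0, v 1 + w 1, v 2 + w 2, v 3 + w 3,
    -(w 0 * v 1) + (v 4 + w 4), w 0 * v 2 + (v 5 + w 5), w 0 * v 3 + (v 6 + w 6),
    (v 3 + w 3) * (w 0 * v 1) + w 1 * (w 0 * v 3) - w 3 * v 4 + w 1 * v 6 + (v 7 + w 7),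
    (v 2 + w 2) * (w 0 * v 1) + w 1 * (w 0 * v 2) - w 2 * v 4 + w 1 * v 5 + (v 8 + w 8),
    -((v 3 + w 3) * (w 0 * v 2)) - w 2 * (w 0 * v 3) - w 3 * v 5 - w 2 * v 6 + (v 9 + w 9),
    -((v 3 + w 3) * (v 2 + w 2) * (w 0 * v 1)) - (v 3 + w 3) * (w 1 * (w 0 * v 2)) -
      w 2 * (w 1 * (w 0 * v 3)) + w 3 * w 2 * v 4 - w 3 * (w 1 * v 5) - w 2 * (w 1 * v 6) -
      w 2 * v 7 - w 3 * v 8 + w 1 * v 9 + (v 10 + w 10),
    (w 0 * v 2 + (v 5 + w 5)) * ((v 3 + w 3) * (w 0 * v 1)) +
      (w 0 * v 3 + (v 6 + w 6)) * ((v 2 + w 2) * (w 0 * v 1)) -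
      (v 4 + w 4) * ((v 3 + w 3) * (w 0 * v 2)) +
      (w 0 * v 3 + (v 6 + w 6)) * (w 1 * (w 0 * v 2)) - (v 4 + w 4) * (w 2 * (w 0 * v 3)) +
      (v 5 + w 5) * (w 1 * (w 0 * v 3)) - (v 5 + w 5) * (w 3 * v 4) - (v 6 + w 6) * (w 2 * v 4) -
      w 4 * (w 3 * v 5) + (v 6 + w 6) * (w 1 * v 5) - w 4 * (w 2 * v 6) + w 5 * (w 1 * v 6) +
      w 5 * v 7 + w 6 * v 8 + w 4 * v 9 - w 0 * v 10 + v 11 + w 11]

theorem P12_mul (v w : Fin 12 → K) : P12 v * P12 w = P12 (p12Mul v w) := by
  refine mul_right_cancel (b := 1) ?_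
  simp only [P12, mul_assoc, merge, m_18_14, m_13_14, m_12_14, m_22_14, m_16_18, m_15_18, m_17_18, m_19_13, m_15_13, m_20_13, m_19_12, m_16_12, m_21_12, m_17_19, m_20_16, m_21_15, s_19_14, s_16_14, s_15_14, s_20_14, s_21_14, s_17_14, s_23_14, s_13_18, s_12_18, s_19_18, s_20_18, s_21_18, s_22_18, s_23_18, s_12_13, s_16_13, s_21_13, s_17_13, s_22_13, s_23_13, s_15_12, s_20_12, s_17_12, s_22_12, s_23_12, s_16_19, s_15_19, s_20_19, s_21_19, s_22_19, s_23_19, s_15_16, s_21_16, s_17_16, s_22_16, s_23_16, s_20_15, s_17_15, s_22_15, s_23_15, s_21_20, s_17_20, s_22_20, s_23_20, s_17_21, s_22_21, s_23_21, s_22_17, s_23_17, s_23_22]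
  simp only [p12Mul]
  repeat' first
    | refine congrArg₂ (· * ·) (congrArg _ (by simp; try ring)) ?_
    | rfl

end CfsgLib.Chev.D4Tw
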