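import Mathlib.Data.Matrix.Basic
import Mathlib.Data.Matrix.Mul
import Mathlib.Tactic

/-!
Derivation closure for a graded integral bracket given by structure matrices.

`ad b` is the matrix of `[e_b, ·]`. `Deriv ad X` says that `X` is a derivation of the bracket.
If the grading is compatible, the degree-zero elements are derivations, a few local identities hold
among the elements of degree `±1`, every element of higher degree is a bracket of an element of
degree one with a lower one, and lowering reaches everything from the top, then every `ad b` is a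
derivation (that is, the bracket satisfies the Jacobi identity).
-/

set_option autoImplicit false

namespace CfsgLib.Chev

open Matrix

variable {ι : Type*} [Fintype ι] [DecidableEq ι]

/-- The linear extension of `ad`. -/
def adLin (ad : ι → Matrix ι ι ℤ) (v : ι → ℤ) : Matrix ι ι ℤ := ∑ b, v b • ad b

theorem adLin_smul (ad : ι → Matrix ι ι ℤ) (c : ℤ) (v : ι → ℤ) :
    adLin ad (c • v) = c • adLin ad v := by
  simp only [adLin, Finset.smul_sum, smul_smul, Pi.smul_apply, smul_eq_mul]

theorem adLin_add (ad : ι → Matrix ι ι ℤ) (u v : ι → ℤ) :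
    adLin ad (u + v) = adLin ad u + adLin ad v := by
  simp [adLin, Finset.sum_add_distrib, add_smul]

theorem adLin_zero (ad : ι → Matrix ι ι ℤ) : adLin ad 0 = 0 := by simp [adLin]

theorem adLin_sub (ad : ι → Matrix ι ι ℤ) (u v : ι → ℤ) :
    adLin ad (u - v) = adLin ad u - adLin ad v := by
  simp [adLin, Finset.sum_sub_distrib, sub_smul]

theorem adLin_single (ad : ι → Matrix ι ι ℤ) (b : ι) (c : ℤ) :
    adLin ad (Pi.single b c) = c • ad b := by
  unfold adLin
  rw [Finset.sum_eq_single b]
  · simp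
  · intro x _ hx; simp [Pi.single_eq_of_ne hx]
  · intro h; exact absurd (Finset.mem_univ b) h

/-- The commutator of two matrices. -/
def cm (X Y : Matrix ι ι ℤ) : Matrix ι ι ℤ := X * Y - Y * X

theorem cm_smul_left (c : ℤ) (X Y : Matrix ι ι ℤ) : cm (c • X) Y = c • cm X Y := by
  simp only [cm, smul_sub, Matrix.smul_mul, Matrix.mul_smul]

theorem cm_smul_right (c : ℤ) (X Y : Matrix ι ι ℤ) : cm X (c • Y) = c • cm X Y := by
  simp only [cm, smul_sub, Matrix.smul_mul, Matrix.mul_smul]

theorem cm_neg_swap (X Y : Matrix ι ι ℤ) : cm X Y = - cm Y X := by simp [cm]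

theorem cm_jacobi (X Y Z : Matrix ι ι ℤ) : cm X (cm Y Z) = cm (cm X Y) Z + cm Y (cm X Z) := by
  unfold cm; noncomm_ring

theorem cm_adLin_right (ad : ι → Matrix ι ι ℤ) (X : Matrix ι ι ℤ) (v : ι → ℤ) :
    cm X (adLin ad v) = ∑ b, v b • cm X (ad b) := by
  simp only [cm, adLin, Matrix.mul_sum, Matrix.sum_mul, Matrix.smul_mul, Matrix.mul_smul, smul_sub,
    Finset.sum_sub_distrib]

theorem cm_adLin_left (ad : ι → Matrix ι ι ℤ) (X : Matrix ι ι ℤ) (v : ι → ℤ) :
    cm (adLin ad v) X = ∑ b, v b • cm (ad b) X := by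
  simp only [cm, adLin, Matrix.mul_sum, Matrix.sum_mul, Matrix.smul_mul, Matrix.mul_smul, smul_sub,
    Finset.sum_sub_distrib]

theorem mulVec_eq_sum_col (X : Matrix ι ι ℤ) (v : ι → ℤ) :
    X *ᵥ v = ∑ b, v b • (fun x => X x b) := by
  funext x
  simp [Matrix.mulVec, dotProduct, mul_comm]

theorem adLin_sum (ad : ι → Matrix ι ι ℤ) (v : ι → ℤ) (f : ι → ι → ℤ) :
    adLin ad (∑ b, v b • f b) = ∑ b, v b • adLin ad (f b) := by
  simp only [adLin, Finset.sum_apply, Pi.smul_apply, smul_eq_mul, Finset.sum_smul, Finset.smul_sum,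
    smul_smul]
  rw [Finset.sum_comm]

/-- `X` is a derivation of the bracket given by `ad`. -/
def Deriv (ad : ι → Matrix ι ι ℤ) (X : Matrix ι ι ℤ) : Prop :=
  ∀ b, cm X (ad b) = adLin ad (fun x => X x b)

theorem Deriv.apply {ad : ι → Matrix ι ι ℤ} {X : Matrix ι ι ℤ} (hX : Deriv ad X) (v : ι → ℤ) :
    cm X (adLin ad v) = adLin ad (X *ᵥ v) := by
  rw [cm_adLin_right, mulVec_eq_sum_col, adLin_sum]
  exact Finset.sum_congr rfl fun b _ => by rw [hX b]

theorem Deriv.commutator {ad : ι → Matrix ι ι ℤ} {X Y : Matrix ι ι ℤ} (hX : Deriv ad X)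
    (hY : Deriv ad Y) : Deriv ad (cm X Y) := by
  intro b
  have h := cm_jacobi X Y (ad b)
  rw [hY b, hX.apply, hX b, hY.apply] at h
  have e : cm (cm X Y) (ad b) =
      adLin ad (X *ᵥ fun x => Y x b) - adLin ad (Y *ᵥ fun x => X x b) := by
    rw [h]; abel
  rw [e, ← adLin_sub]
  congr 1

theorem Deriv.of_smul {ad : ι → Matrix ι ι ℤ} {X : Matrix ι ι ℤ} {c : ℤ} (hc : c ≠ 0)
    (hX : Deriv ad (c • X)) : Deriv ad X := by
  intro b
  have h := hX b
  rw [cm_smul_left] at h
  have e : (fun x => (c • X) x b) = c • (fun x => X x b) := rfl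
  rw [e, adLin_smul] at h
  exact smul_right_injective _ hc h

/-- The local hypotheses, for one side of the grading. -/
structure Side (ad : ι → Matrix ι ι ℤ) (gr : ι → ℤ) : Prop where
  hom : ∀ b x y, ad b x y ≠ 0 → gr x = gr b + gr y
  deg0 : ∀ b, gr b = 0 → Deriv ad (ad b)
  antisymm : ∀ b c x, ad b x c = - ad c x b
  base : ∀ p q, gr p = -1 → gr q = 1 → cm (ad p) (ad q) = adLin ad (fun x => ad p x q)
  dec : ∀ b, 2 ≤ gr b → ∃ q v : ι, ∃ c : ℤ, gr q = 1 ∧ gr v + 1 = gr b ∧ c ≠ 0 ∧
    c • ad b = cm (ad q) (ad v) ∧ (fun x => ad q x v) = Pi.single b c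
  reach : ∀ b, (∀ x, gr x ≤ gr b) ∨ ∃ p y : ι, ∃ c : ℤ, gr p = -1 ∧ gr b < gr y ∧ c ≠ 0 ∧
    (fun x => ad p x y) = Pi.single b c

namespace Side

variable {ad : ι → Matrix ι ι ℤ} {gr : ι → ℤ}

theorem comm_deg0 (S : Side ad gr) {x : ι} (hx : gr x = 0) (b : ι) :
    cm (ad b) (ad x) = adLin ad (fun z => ad b z x) := by
  rw [cm_neg_swap, S.deg0 x hx b]
  have e : (fun z => ad b z x) = (-1 : ℤ) • (fun z => ad x z b) := by
    funext z
    simp [S.antisymm b x z]
  rw [e, adLin_smul]
  simp

/-- `(ad b)` raises the degree of every vector by `gr b`. -/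
theorem sum_congr_deg (S : Side ad gr) (b c : ι) {d : ℤ} (hd : gr b + gr c = d)
    (F G : ι → Matrix ι ι ℤ) (h : ∀ x, gr x = d → F x = G x) :
    ∑ x, ad b x c • F x = ∑ x, ad b x c • G x := by
  refine Finset.sum_congr rfl fun x _ => ?_
  rcases eq_or_ne (ad b x c) 0 with h0 | h0
  · simp [h0]
  · rw [h x (by rw [S.hom b x c h0, hd])]

theorem neg_step (S : Side ad gr) {n : ℕ} (b : ι) (hb : gr b = n + 1) (hn : 1 ≤ n)
    (pos : ∀ q x, gr q = 1 → gr x = (n : ℤ) - 1 → cm (ad q) (ad x) = adLin ad (fun z => ad q z x))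
    (neg : ∀ p x, gr p = -1 → gr x = (n : ℤ) → cm (ad p) (ad x) = adLin ad (fun z => ad p z x))
    (p : ι) (hp : gr p = -1) : cm (ad p) (ad b) = adLin ad (fun z => ad p z b) := by
  obtain ⟨q, v, c, hq, hv, hc, hcb, hcol⟩ := S.dec b (by omega)
  have h1 : cm (cm (ad p) (ad q)) (ad v) = adLin ad (fun z => (cm (ad p) (ad q)) z v) := by
    rw [S.base p q hp hq, cm_adLin_left]
    have e : ∀ x, gr x = 0 → cm (ad x) (ad v) = adLin ad (fun z => ad x z v) := fun x hx =>
      S.deg0 x hx v
    rw [S.sum_congr_deg p q (d := 0) (by omega) _ _ e]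
    rw [← adLin_sum]
    congr 1
    funext z
    simp only [adLin, Finset.sum_apply, Matrix.sum_apply, Pi.smul_apply, Matrix.smul_apply]
  have h2 : cm (ad q) (cm (ad p) (ad v)) = adLin ad (ad q *ᵥ fun z => ad p z v) := by
    rw [neg p v hp (by omega), cm_adLin_right, mulVec_eq_sum_col, adLin_sum]
    exact S.sum_congr_deg p v (d := (n : ℤ) - 1) (by omega) _ _ (fun x hx => pos q x hq hx)
  apply smul_right_injective _ hc
  show c • cm (ad p) (ad b) = c • adLin ad (fun z => ad p z b)
  rw [← cm_smul_right, hcb, cm_jacobi, h1, h2, ← adLin_add, ← adLin_smul]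
  congr 1
  have hz : ∀ z, ∑ x, ad p z x * ad q x v = c * ad p z b := by
    intro z
    rw [Finset.sum_eq_single b]
    · have := congrFun hcol b
      simp at this
      rw [this, mul_comm]
    · intro x _ hx
      have := congrFun hcol x
      simp [Pi.single_eq_of_ne hx] at this
      simp [this]
    · intro h; exact absurd (Finset.mem_univ b) h
  funext z
  have hz' := hz z
  simp [cm, Matrix.mul_apply, Matrix.sub_apply, Matrix.mulVec, dotProduct]
  linarith

theorem pos_step (S : Side ad gr) {n : ℕ} (b : ι) (hb : gr b = n) (hn : 1 ≤ n)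
    (neg : ∀ p x, gr p = -1 → gr x = (n : ℤ) → cm (ad p) (ad x) = adLin ad (fun z => ad p z x))
    (neg' : ∀ p x, gr p = -1 → gr x = (n : ℤ) + 1 → cm (ad p) (ad x) = adLin ad (fun z => ad p z x))
    (pos : ∀ q x, gr q = 1 → gr x = (n : ℤ) - 1 → cm (ad q) (ad x) = adLin ad (fun z => ad q z x))
    (q : ι) (hq : gr q = 1) : cm (ad q) (ad b) = adLin ad (fun z => ad q z b) := by
  set X := cm (ad q) (ad b) - adLin ad (fun z => ad q z b) with hX
  have hcomm : ∀ p, gr p = -1 → cm (ad p) X = 0 := by
    intro p hp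
    have h1 : cm (cm (ad p) (ad q)) (ad b) = adLin ad (fun z => (cm (ad p) (ad q)) z b) := by
      rw [S.base p q hp hq, cm_adLin_left]
      have e : ∀ x, gr x = 0 → cm (ad x) (ad b) = adLin ad (fun z => ad x z b) := fun x hx =>
        S.deg0 x hx b
      rw [S.sum_congr_deg p q (d := 0) (by omega) _ _ e]
      rw [← adLin_sum]
      congr 1
      funext z
      simp only [adLin, Finset.sum_apply, Matrix.sum_apply, Pi.smul_apply, Matrix.smul_apply]
    have h2 : cm (ad q) (cm (ad p) (ad b)) = adLin ad (ad q *ᵥ fun z => ad p z b) := by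
      rw [neg p b hp hb, cm_adLin_right, mulVec_eq_sum_col, adLin_sum]
      exact S.sum_congr_deg p b (d := (n : ℤ) - 1) (by omega) _ _ (fun x hx => pos q x hq hx)
    have h3 : cm (ad p) (adLin ad (fun z => ad q z b)) = adLin ad (ad p *ᵥ fun z => ad q z b) := by
      rw [cm_adLin_right, mulVec_eq_sum_col, adLin_sum]
      exact S.sum_congr_deg q b (d := (n : ℤ) + 1) (by omega) _ _ (fun x hx => neg' p x hp hx)
    have e : cm (ad p) X =
        cm (ad p) (cm (ad q) (ad b)) - cm (ad p) (adLin ad (fun z => ad q z b)) := by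
      rw [hX]; unfold cm; noncomm_ring
    rw [e, cm_jacobi, h1, h2, h3, ← adLin_add, sub_eq_zero]
    congr 1
    funext z
    simp [cm, Matrix.sub_apply, Matrix.mul_apply, Matrix.mulVec, dotProduct]
  have hhom : ∀ x y, X x y ≠ 0 → gr x = gr y + (n + 1) := by
    intro x y hxy
    by_contra hne
    apply hxy
    have m1 : ∀ u v : ι, gr u + gr v = (n : ℤ) + 1 → (ad u * ad v) x y = 0 := by
      intro u v huv
      rw [Matrix.mul_apply]
      refine Finset.sum_eq_zero fun w _ => ?_
      by_contra h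
      obtain ⟨h1, h2⟩ := mul_ne_zero_iff.mp h
      have := S.hom _ _ _ h1
      have := S.hom _ _ _ h2
      omega
    have m2 : adLin ad (fun z => ad q z b) x y = 0 := by
      simp only [adLin, Matrix.sum_apply, Matrix.smul_apply, smul_eq_mul]
      refine Finset.sum_eq_zero fun w _ => ?_
      by_contra h
      obtain ⟨h1, h2⟩ := mul_ne_zero_iff.mp h
      have := S.hom _ _ _ h1
      have := S.hom _ _ _ h2
      omega
    simp [hX, cm, Matrix.sub_apply, m1 q b (by omega), m1 b q (by omega), m2]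
  suffices hcols : ∀ (k : ℕ) (y : ι), (Finset.univ.filter fun z => gr y < gr z).card ≤ k →
      ∀ x, X x y = 0 by
    have : X = 0 := Matrix.ext fun x y => hcols _ y le_rfl x
    exact sub_eq_zero.mp this
  intro k
  induction k with
  | zero =>
    intro y hy x
    by_contra h
    have := hhom x y h
    rw [Nat.le_zero, Finset.card_eq_zero, Finset.filter_eq_empty_iff] at hy
    exact hy (Finset.mem_univ x) (by omega)
  | succ k ih =>
    intro y hy x
    rcases S.reach y with hmax | ⟨p, w, c, hp, hw, hc, hcol⟩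
    · by_contra h
      have := hhom x y h
      have := hmax x
      omega
    · have hw0 : ∀ z, X z w = 0 := by
        apply ih w
        have : (Finset.univ.filter fun z => gr w < gr z) ⊂ Finset.univ.filter fun z => gr y < gr z := by
          refine Finset.ssubset_iff_of_subset ?_ |>.mpr ⟨w, ?_, ?_⟩
          · intro z hz; simp at hz ⊢; omega
          · simp [hw]
          · simp
        have := Finset.card_lt_card this
        omega
      have h := congrFun (congrFun (hcomm p hp) x) w
      simp only [cm, Matrix.sub_apply, Matrix.mul_apply, Matrix.zero_apply, hw0, mul_zero,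
        Finset.sum_const_zero, zero_sub, neg_eq_zero] at h
      rw [Finset.sum_eq_single y] at h
      · have hy' := congrFun hcol y
        simp at hy'
        rw [hy'] at h
        exact (mul_eq_zero.mp h).resolve_right hc
      · intro z _ hz
        have := congrFun hcol z
        simp [Pi.single_eq_of_ne hz] at this
        simp [this]
      · intro h; exact absurd (Finset.mem_univ y) h

theorem main (S : Side ad gr) : ∀ n : ℕ,
    (∀ p x, gr p = -1 → gr x = (n : ℤ) + 1 → cm (ad p) (ad x) = adLin ad (fun z => ad p z x)) ∧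
    (∀ q x, gr q = 1 → gr x = (n : ℤ) → cm (ad q) (ad x) = adLin ad (fun z => ad q z x)) := by
  intro n
  induction n with
  | zero =>
    refine ⟨fun p x hp hx => S.base p x hp (by omega), fun q x _ hx => ?_⟩
    exact S.comm_deg0 (by omega) q
  | succ n ih =>
    have hneg : ∀ p x, gr p = -1 → gr x = ((n + 1 : ℕ) : ℤ) + 1 →
        cm (ad p) (ad x) = adLin ad (fun z => ad p z x) := fun p x hp hx =>
      S.neg_step (n := n + 1) x hx (by omega)
        (fun q z hq hz => ih.2 q z hq (by omega))
        (fun p z hp hz => ih.1 p z hp (by omega)) p hp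
    refine ⟨hneg, fun q x hq hx => ?_⟩
    exact S.pos_step (n := n + 1) x hx (by omega)
      (fun p z hp hz => ih.1 p z hp (by omega)) hneg
      (fun q z hq hz => ih.2 q z hq (by omega)) q hq

theorem raise_pos (S : Side ad gr) (q x : ι) (hq : gr q = 1) (hx : 0 ≤ gr x) :
    cm (ad q) (ad x) = adLin ad (fun z => ad q z x) := by
  obtain ⟨n, hn⟩ := Int.eq_ofNat_of_zero_le hx
  exact (S.main n).2 q x hq hn

theorem lower_pos (S : Side ad gr) (p x : ι) (hp : gr p = -1) (hx : 0 ≤ gr x) :
    cm (ad p) (ad x) = adLin ad (fun z => ad p z x) := by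
  rcases eq_or_lt_of_le hx with h0 | h0
  · exact S.comm_deg0 h0.symm p
  · obtain ⟨n, hn⟩ := Int.eq_ofNat_of_zero_le (show 0 ≤ gr x - 1 by omega)
    exact (S.main n).1 p x hp (by omega)

end Side

/-- The Jacobi identity from the local hypotheses on both sides. -/
theorem deriv_ad {ad : ι → Matrix ι ι ℤ} {gr : ι → ℤ} (S : Side ad gr)
    (S' : Side ad (fun b => - gr b)) : ∀ b, Deriv ad (ad b) := by
  have hgen : ∀ q, gr q = 1 ∨ gr q = -1 → Deriv ad (ad q) := by
    intro q hq x
    rcases le_total 0 (gr x) with hx | hx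
    · rcases hq with hq | hq
      · exact S.raise_pos q x hq hx
      · exact S.lower_pos q x hq hx
    · rcases hq with hq | hq
      · exact S'.lower_pos q x (show -gr q = -1 by omega) (show 0 ≤ -gr x by omega)
      · exact S'.raise_pos q x (show -gr q = 1 by omega) (show 0 ≤ -gr x by omega)
  suffices h : ∀ n : ℕ, ∀ b, (gr b).natAbs ≤ n → Deriv ad (ad b) from fun b => h _ b le_rfl
  intro n
  induction n with
  | zero => exact fun b hb => S.deg0 b (by omega)
  | succ n ih =>
    intro b hb
    rcases Nat.lt_or_ge (gr b).natAbs (n + 1) with hlt | hge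
    · exact ih b (by omega)
    rcases n with _ | n
    · exact hgen b (by omega)
    rcases le_total 0 (gr b) with hx | hx
    · obtain ⟨q, v, c, hq, hv, hc, hcb, -⟩ := S.dec b (by omega)
      exact Deriv.of_smul hc (hcb ▸ (hgen q (Or.inl hq)).commutator (ih v (by omega)))
    · obtain ⟨q, v, c, hq, hv, hc, hcb, -⟩ := S'.dec b (show 2 ≤ -gr b by omega)
      exact Deriv.of_smul hc (hcb ▸ (hgen q (Or.inr (by omega))).commutator (ih v (by omega)))

end CfsgLib.Chev
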