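import Cfsg.Agent.Chev.RootMap

/-!
Automorphisms of a Chevalley group which permute the root subgroups and the fundamental roots, and
their fixed points.
-/

set_option autoImplicit false

namespace CfsgLib.Chev

open Cfsg.Lie Matrix
open scoped MatrixGroups

namespace Tab

variable {D : ChevalleyDatum}

/-- The root map preserves positivity and sends the fundamental roots to fundamental roots. -/
def chkGraphMap (D : ChevalleyDatum) (m : List (ℕ × ℤ × ℕ)) (rho : List ℕ) : Bool :=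
  allBelow (fun r => decide (D.nroots ≤ 2 * r ↔ D.nroots ≤ 2 * (mapAt m r).1)) D.nroots &&
    allBelow (fun i => Nat.blt (rho.getD i 0) D.rank &&
      Nat.beq (mapAt m (D.simple i)).1 (D.simple (rho.getD i 0)) &&
      decide ((mapAt m (D.simple i)).2.1 = 1) &&
      decide ((mapAt m (negR D (D.simple i))).2 = (mapAt m (D.simple i)).2) &&
      allBelow (fun i' => Nat.beq i' i || !(Nat.beq (rho.getD i' 0) (rho.getD i 0))) D.rank) D.rank

/-- An automorphism permuting root subgroups and fundamental roots. -/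
structure Good.Graph {T : Tab D} (G : T.Good) (F : Type*) [Field F] where
  /-- the automorphism -/
  act : D.group F →* D.group F
  bij : Function.Bijective act
  /-- the permutation of the roots -/
  π : Equiv.Perm (Fin D.nroots)
  /-- the permutation of the fundamental roots -/
  ρ : Equiv.Perm (Fin D.rank)
  /-- the maps on parameters -/
  f : Fin D.nroots → F → F
  f_bij : ∀ r, Function.Bijective (f r)
  f_zero : ∀ r, f r 0 = 0
  act_x : ∀ (r : Fin D.nroots) (t : F),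
    (act ⟨G.full.x r.val t, G.x_mem_group _ _⟩ : GL D.Idx F) = G.full.x (π r).val (f r t)
  pos : ∀ r : Fin D.nroots, IsPos D (π r).val ↔ IsPos D r.val
  neg : ∀ r, π (negF r) = negF (π r)
  simp : ∀ i, π (G.full.simp' i) = G.full.simp' (ρ i)
  f_one : ∀ i, f (G.full.simp' i) 1 = 1
  f_mul : ∀ i t u, f (G.full.simp' i) (t * u) = f (G.full.simp' i) t * f (G.full.simp' i) u
  f_negF : ∀ i t, f (negF (G.full.simp' i)) t = f (G.full.simp' i) t
  f_neg : ∀ r t, f r (-t) = -f r t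

namespace Good

variable {T : Tab D} {G : T.Good} {F : Type*} [Field F] (Φ : G.Graph F)
include Φ

open scoped Classical in
/-- The automorphism as a function on matrices. -/
noncomputable def Graph.A (g : GL D.Idx F) : GL D.Idx F :=
  if h : g ∈ D.group F then (Φ.act ⟨g, h⟩ : GL D.Idx F) else g

namespace Graph

theorem A_eq {g : GL D.Idx F} (h : g ∈ D.group F) : Φ.A g = (Φ.act ⟨g, h⟩ : GL D.Idx F) :=
  dif_pos h

theorem A_mem {g : GL D.Idx F} (h : g ∈ D.group F) : Φ.A g ∈ D.group F := by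
  rw [Φ.A_eq h]; exact SetLike.coe_mem _

theorem A_mul {g h : GL D.Idx F} (hg : g ∈ D.group F) (hh : h ∈ D.group F) :
    Φ.A (g * h) = Φ.A g * Φ.A h := by
  rw [Φ.A_eq hg, Φ.A_eq hh, Φ.A_eq (mul_mem hg hh), ← Subgroup.coe_mul, ← map_mul]
  rfl

theorem A_one : Φ.A 1 = 1 := by
  rw [Φ.A_eq (one_mem _), show (⟨1, one_mem _⟩ : D.group F) = 1 from rfl, map_one,
    OneMemClass.coe_one]

theorem A_inv {g : GL D.Idx F} (hg : g ∈ D.group F) : Φ.A g⁻¹ = (Φ.A g)⁻¹ := by
  rw [Φ.A_eq hg, Φ.A_eq (inv_mem hg), ← InvMemClass.coe_inv, ← map_inv]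
  rfl

theorem A_inj {g h : GL D.Idx F} (hg : g ∈ D.group F) (hh : h ∈ D.group F) (e : Φ.A g = Φ.A h) :
    g = h := by
  rw [Φ.A_eq hg, Φ.A_eq hh] at e
  exact congrArg Subtype.val (Φ.bij.1 (Subtype.ext e))

theorem A_x (r : Fin D.nroots) (t : F) :
    Φ.A (G.full.x r.val t) = G.full.x (Φ.π r).val (Φ.f r t) := by
  rw [Φ.A_eq (G.x_mem_group _ _)]; exact Φ.act_x r t

/-- The fixed points. -/
noncomputable def Fix : Subgroup (GL D.Idx F) where
  carrier := {g | g ∈ D.group F ∧ Φ.A g = g}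
  mul_mem' := fun ⟨ha, ha'⟩ ⟨hb, hb'⟩ => ⟨mul_mem ha hb, by rw [Φ.A_mul ha hb, ha', hb']⟩
  one_mem' := ⟨one_mem _, Φ.A_one⟩
  inv_mem' := fun ⟨ha, ha'⟩ => ⟨inv_mem ha, by rw [Φ.A_inv ha, ha']⟩

theorem mem_fix {g : GL D.Idx F} : g ∈ Φ.Fix ↔ g ∈ D.group F ∧ Φ.A g = g := Iff.rfl

theorem A_US {S S' : Set ℕ} (hS : ∀ s ∈ S, ∃ h : s < D.nroots, (Φ.π ⟨s, h⟩).val ∈ S')
    {u : GL D.Idx F} (hu : u ∈ G.US F S) : Φ.A u ∈ G.US F S' := by
  induction hu using Subgroup.closure_induction with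
  | mem u hu =>
    obtain ⟨r, hr, t, rfl⟩ := hu
    obtain ⟨h, h'⟩ := hS r hr
    rw [Φ.A_x ⟨r, h⟩]
    exact G.x_mem_US h' _
  | one => rw [Φ.A_one]; exact one_mem _
  | mul a b ha hb iha ihb =>
    rw [Φ.A_mul (G.US_le_group _ ha) (G.US_le_group _ hb)]
    exact mul_mem iha ihb
  | inv a ha iha =>
    rw [Φ.A_inv (G.US_le_group _ ha)]
    exact inv_mem iha

theorem A_pos {u : GL D.Idx F} (hu : u ∈ D.posUnipotent F) : Φ.A u ∈ D.posUnipotent F := by
  rw [G.posUnipotent_eq] at hu ⊢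
  exact Φ.A_US (fun s hs => ⟨hs.1, (Φ.pos ⟨s, hs.1⟩).mpr hs⟩) hu

theorem A_neg {u : GL D.Idx F} (hu : u ∈ D.negUnipotent F) : Φ.A u ∈ D.negUnipotent F := by
  rw [G.negUnipotent_eq] at hu ⊢
  refine Φ.A_US (S' := {r | r < D.nroots ∧ ¬ D.nroots ≤ 2 * r})
    (fun s hs => ⟨hs.1, Fin.isLt _, fun h => hs.2 ?_⟩) hu
  exact ((Φ.pos ⟨s, hs.1⟩).mp ⟨Fin.isLt _, h⟩).2

theorem f_ne_zero (r : Fin D.nroots) {t : F} (ht : t ≠ 0) : Φ.f r t ≠ 0 := fun h =>
  ht ((Φ.f_bij r).1 (h.trans (Φ.f_zero r).symm))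

theorem f_inv (i : Fin D.rank) {t : F} (ht : t ≠ 0) :
    Φ.f (G.full.simp' i) t⁻¹ = (Φ.f (G.full.simp' i) t)⁻¹ := by
  refine eq_inv_of_mul_eq_one_left ?_
  rw [← Φ.f_mul, inv_mul_cancel₀ ht, Φ.f_one]

theorem A_nr (i : Fin D.rank) {t : F} (ht : t ≠ 0) :
    Φ.A (G.full.nr (D.simple i) t) =
      G.full.nr (D.simple (Φ.ρ i)) (Φ.f (G.full.simp' i) t) := by
  have h1 : ∀ v, Φ.A (G.full.x (D.simple i) v) =
      G.full.x (D.simple (Φ.ρ i)) (Φ.f (G.full.simp' i) v) := fun v => by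
    rw [show D.simple i.val = (G.full.simp' i).val from rfl, Φ.A_x, Φ.simp]
    rfl
  have h2 : ∀ v, Φ.A (G.full.x (negR D (D.simple i)) v) =
      G.full.x (negR D (D.simple (Φ.ρ i))) (Φ.f (G.full.simp' i) v) := fun v => by
    rw [show negR D (D.simple i.val) = (negF (G.full.simp' i)).val from rfl, Φ.A_x, Φ.neg, Φ.simp,
      Φ.f_negF]
    rfl
  rw [Full.nr, Φ.A_mul (mul_mem (G.x_mem_group _ _) (G.x_mem_group _ _)) (G.x_mem_group _ _),
    Φ.A_mul (G.x_mem_group _ _) (G.x_mem_group _ _), h1, h2, Φ.f_neg, Φ.f_inv i ht, Full.nr]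

theorem A_ns (i : Fin D.rank) : Φ.A (G.full.ns F i) = G.full.ns F (Φ.ρ i) := by
  rw [Full.ns, Φ.A_nr i one_ne_zero, Φ.f_one, Full.ns]

theorem A_hr (i : Fin D.rank) {t : F} (ht : t ≠ 0) :
    Φ.A (G.full.hr (D.simple i) t) =
      G.full.hr (D.simple (Φ.ρ i)) (Φ.f (G.full.simp' i) t) := by
  rw [Full.hr, Φ.A_mul (G.nr_mem_group _ _) (G.nr_mem_group _ _), Φ.A_nr i ht,
    Φ.A_nr i (neg_ne_zero.mpr one_ne_zero), Φ.f_neg, Φ.f_one, Full.hr]

/-- The map on units of a fundamental root. -/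
noncomputable def fU (i : Fin D.rank) : Fˣ →* Fˣ :=
  Units.map
    { toFun := Φ.f (G.full.simp' i)
      map_one' := Φ.f_one i
      map_mul' := Φ.f_mul i }

/-- The action on parameters of the torus. -/
noncomputable def σc (c : Fin D.rank → Fˣ) : Fin D.rank → Fˣ :=
  fun j => Φ.fU (Φ.ρ.symm j) (c (Φ.ρ.symm j))

theorem hT_mem_group (c : Fin D.rank → Fˣ) : T.hT F c ∈ D.group F :=
  G.diagonal_le_group (by rw [G.full.diagonal_eq_range]; exact ⟨c, rfl⟩)

theorem A_hT (c : Fin D.rank → Fˣ) : Φ.A (T.hT F c) = T.hT F (Φ.σc c) := by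
  induction c using G.full.hT_induction with
  | h1 =>
    rw [map_one, Φ.A_one, show Φ.σc 1 = 1 from funext fun j => map_one _, map_one]
  | hm a b ha hb =>
    rw [map_mul, Φ.A_mul (Φ.hT_mem_group a) (Φ.hT_mem_group b), ha, hb, ← map_mul,
      show Φ.σc (a * b) = Φ.σc a * Φ.σc b from funext fun j => map_mul _ _ _]
  | hs i u =>
    have e : Φ.σc (Pi.mulSingle i u) = Pi.mulSingle (Φ.ρ i) (Φ.fU i u) := by
      funext j
      simp only [σc]
      rcases eq_or_ne j (Φ.ρ i) with rfl | hj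
      · simp
      · rw [Pi.mulSingle_eq_of_ne hj, Pi.mulSingle_eq_of_ne, map_one]
        intro e
        exact hj (by rw [← e, Equiv.apply_symm_apply])
    rw [e, G.full.hT_single, G.full.hT_single, Φ.A_hr i u.ne_zero]
    rfl

theorem A_diagonal {g : GL D.Idx F} (hg : g ∈ D.diagonalSubgroup F) :
    Φ.A g ∈ D.diagonalSubgroup F := by
  rw [G.full.diagonal_eq_range] at hg ⊢
  obtain ⟨c, rfl⟩ := hg
  exact ⟨_, (Φ.A_hT c).symm⟩

theorem A_nw : ∀ L : List (Fin D.rank), Φ.A (G.full.nw F L) = G.full.nw F (L.map Φ.ρ)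
  | [] => by simp [Full.nw, Φ.A_one]
  | i :: L => by
    rw [List.map_cons, G.nw_cons, G.nw_cons,
      Φ.A_mul (G.ns_mem_group i) (G.monomial_le_group (G.nw_mem_monomial L)), A_nw L, Φ.A_ns]

theorem A_monomial {g : GL D.Idx F} (hg : g ∈ D.monomialSubgroup F) :
    Φ.A g ∈ D.monomialSubgroup F := by
  obtain ⟨c, L, rfl⟩ := G.exists_word hg
  rw [Φ.A_mul (Φ.hT_mem_group c) (G.monomial_le_group (G.nw_mem_monomial L)), Φ.A_hT, Φ.A_nw]
  exact mul_mem (G.hT_mem_monomial _) (G.nw_mem_monomial _)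

theorem A_borel {g : GL D.Idx F} (hg : g ∈ D.borelSubgroup F) : Φ.A g ∈ D.borelSubgroup F := by
  obtain ⟨u, hu, c, rfl⟩ := G.mem_borel.mp hg
  rw [Φ.A_mul (G.borel_le_group (Subgroup.mem_sup_left hu)) (Φ.hT_mem_group c), Φ.A_hT]
  exact G.mem_borel.mpr ⟨_, Φ.A_pos hu, _, rfl⟩

/-- The image of an element acts as the conjugate permutation. -/
theorem rootAct_A {g : GL D.Idx F} (hg : g ∈ D.monomialSubgroup F)
    {σ : Equiv.Perm (Fin D.nroots)} (h : G.full.RootAct g σ) :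
    G.full.RootAct (Φ.A g) (Φ.π * σ * Φ.π⁻¹) := by
  obtain ⟨L, hL⟩ := G.exists_rootAct (Φ.A_monomial hg)
  convert hL using 1
  refine Equiv.ext fun s => ?_
  obtain ⟨c, hc⟩ := h
  obtain ⟨d, hd⟩ := hL
  set r := Φ.π⁻¹ s
  have hs : Φ.π r = s := Equiv.apply_symm_apply _ _
  obtain ⟨t, ht⟩ := (Φ.f_bij r).2 1
  have ht0 : t ≠ 0 := fun h0 => by simp [h0, Φ.f_zero] at ht
  have e := congrArg Φ.A ((hc r).2.2.2 t)
  have hgG := G.monomial_le_group hg
  rw [Φ.A_mul (mul_mem hgG (G.x_mem_group _ _)) (inv_mem hgG),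
    Φ.A_mul hgG (G.x_mem_group _ _), Φ.A_inv hgG, Φ.A_x, Φ.A_x, hs, ht, (hd s).2.2.2,
    mul_one] at e
  have := G.x_inj_root (Fin.isLt _) (Fin.isLt _) (d s).ne_zero e
  show Φ.π (σ r) = _
  exact (Fin.ext this).symm

/-- The permutation of a fixed element commutes with the permutation of the roots. -/
theorem commute_of_fixed {g : GL D.Idx F} (hg : g ∈ D.monomialSubgroup F) (hfix : Φ.A g = g)
    {σ : Equiv.Perm (Fin D.nroots)} (h : G.full.RootAct g σ) (s : Fin D.nroots) :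
    σ (Φ.π s) = Φ.π (σ s) := by
  have h' := Φ.rootAct_A hg h
  rw [hfix] at h'
  conv_lhs => rw [G.rootAct_unique h h']
  simp

theorem flip_iff_π {σ : Equiv.Perm (Fin D.nroots)} (hσ : ∀ s, σ (Φ.π s) = Φ.π (σ s))
    (s : Fin D.nroots) : (Φ.π s).val ∈ flipSet σ ↔ s.val ∈ flipSet σ := by
  constructor
  · rintro ⟨_, h1, h2⟩
    refine ⟨s.isLt, (Φ.pos s).mp h1, fun h => h2 ?_⟩
    rw [Fin.eta, hσ]
    exact (Φ.pos _).mpr h
  · rintro ⟨_, h1, h2⟩
    refine ⟨Fin.isLt _, (Φ.pos s).mpr h1, fun h => h2 ?_⟩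
    rw [Fin.eta, hσ] at h
    exact (Φ.pos _).mp h

theorem A_flip {σ : Equiv.Perm (Fin D.nroots)} (hσ : ∀ s, σ (Φ.π s) = Φ.π (σ s))
    {u : GL D.Idx F} (hu : u ∈ G.US F (flipSet σ)) : Φ.A u ∈ G.US F (flipSet σ) :=
  Φ.A_US (fun s hs => ⟨hs.1, (Φ.flip_iff_π hσ ⟨s, hs.1⟩).mpr hs⟩) hu

theorem A_keep {σ : Equiv.Perm (Fin D.nroots)} (hσ : ∀ s, σ (Φ.π s) = Φ.π (σ s))
    {u : GL D.Idx F} (hu : u ∈ G.US F (keepSet σ)) : Φ.A u ∈ G.US F (keepSet σ) := by
  refine Φ.A_US (fun s hs => ?_) hu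
  obtain ⟨h, h1, h2⟩ := hs
  refine ⟨h, Fin.isLt _, (Φ.pos ⟨s, h⟩).mpr h1, ?_⟩
  rw [Fin.eta, hσ]
  exact (Φ.pos _).mpr h2

end Graph

end Good

namespace Good

variable {T : Tab D} (G : T.Good) {F : Type*} [Field F]
include G

/-- The automorphism from a root map followed by a field endomorphism. -/
theorem exists_graph [Finite F] (hW : T.HasWit) {p : ℕ} (hp : (p : F) = 0)
    (hadd : 0 < p → ∀ t u : F, (t + u) ^ p = t ^ p + u ^ p)
    {m : List (ℕ × ℤ × ℕ)} (hm : T.chkMap p m = true) {rho : List ℕ}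
    (hr : chkGraphMap D m rho = true) (φ : F →+* F) :
    ∃ Φ : G.Graph F, (∀ r, (Φ.π r).val = (mapAt m r.val).1) ∧
      (∀ i, (Φ.ρ i).val = rho.getD i.val 0) ∧
      ∀ r t, Φ.f r t = φ (((mapAt m r.val).2.1 : F) * t ^ (mapAt m r.val).2.2) := by
  have hφ : Function.Bijective φ :=
    ⟨φ.injective, Finite.injective_iff_surjective.mp φ.injective⟩
  have hinjp : 0 < p → Function.Injective fun t : F => t ^ p := fun h0 t u e => by
    have e' : t ^ p = u ^ p := e
    have h2 := hadd h0 (t - u) u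
    rw [sub_add_cancel, e'] at h2
    exact sub_eq_zero.mp (eq_zero_of_pow_eq_zero (add_right_cancel
      (h2.symm.trans (zero_add _).symm)))
  have hperf : 0 < p → ∀ v : F, ∃ t, t ^ p = v := fun h0 =>
    Finite.injective_iff_surjective.mp (hinjp h0)
  obtain ⟨α, hα, hαx⟩ := G.exists_endo hW hp hadd hperf hm
  simp only [chkMap, chkMapRoot, allBelow_iff, Bool.and_eq_true, Bool.or_eq_true, Nat.blt_eq,
    decide_eq_true_eq, Nat.beq_eq, Bool.not_eq_true'] at hm
  simp only [chkGraphMap, allBelow_iff, Bool.and_eq_true, Bool.or_eq_true, Nat.blt_eq,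
    decide_eq_true_eq, Nat.beq_eq, Bool.not_eq_true'] at hr
  let π₀ : Fin D.nroots → Fin D.nroots := fun r => ⟨(mapAt m r).1, (hm r r.isLt).1.1.1.1.1⟩
  have hπ₀ : Function.Injective π₀ := fun a b e => by
    rcases (hm b b.isLt).1.2 a a.isLt with h | h
    · exact Fin.ext h
    · rw [show (mapAt m a).1 = (mapAt m b).1 from congrArg Fin.val e] at h; simp at h
  let π : Equiv.Perm (Fin D.nroots) := Equiv.ofBijective π₀ (Finite.injective_iff_bijective.mp hπ₀)
  let ρ₀ : Fin D.rank → Fin D.rank := fun i => ⟨rho.getD i 0, (hr.2 i i.isLt).1.1.1.1⟩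
  have hρ₀ : Function.Injective ρ₀ := fun a b e => by
    rcases (hr.2 b b.isLt).2 a a.isLt with h | h
    · exact Fin.ext h
    · rw [show rho.getD a.val 0 = rho.getD b.val 0 from congrArg Fin.val e] at h; simp at h
  let ρ : Equiv.Perm (Fin D.rank) := Equiv.ofBijective ρ₀ (Finite.injective_iff_bijective.mp hρ₀)
  let Ψ : GL D.Idx F →* GL D.Idx F := Units.map φ.mapMatrix.toMonoidHom
  have hΨx : ∀ r t, Ψ (G.full.x r t) = G.full.x r (φ t) := fun r t => by
    refine G.full.eq_x.mp ?_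
    by_cases h : r < D.nroots
    · show φ.mapMatrix ((G.full.x r t : GL D.Idx F) : Matrix D.Idx D.Idx F) = _
      rw [G.full.coe_x h, G.full.cert.x_eq h, Cert.X_map]
    · simp [Full.x, h, Cfsg.Lie.ChevalleyDatum.x]
  have hΨmem : ∀ g ∈ D.group F, Ψ g ∈ D.group F := by
    have hle : D.group F ≤ (D.group F).comap Ψ := G.group_le_iff.mpr fun r _ t => by
      rw [Subgroup.mem_comap, hΨx]; exact G.x_mem_group _ _
    exact fun g hg => hle hg
  let act : D.group F →* D.group F :=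
    MonoidHom.mk' (fun g => ⟨Ψ (α g : GL D.Idx F), hΨmem _ (α g).2⟩)
      fun a b => Subtype.ext (by simp)
  have hΨinj : Function.Injective Ψ := fun a b e => by
    refine Units.ext (Matrix.ext fun x y => φ.injective ?_)
    have e' : φ.mapMatrix (a : Matrix D.Idx D.Idx F) = φ.mapMatrix (b : Matrix D.Idx D.Idx F) :=
      congrArg (fun g : GL D.Idx F => (g : Matrix D.Idx D.Idx F)) e
    have e'' := Matrix.ext_iff.mpr e' x y
    simpa using e''
  have hbij : Function.Bijective act := by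
    have hinjα : Function.Injective α := Finite.injective_iff_surjective.mpr hα
    have hinj : Function.Injective act := fun a b e =>
      hinjα (Subtype.ext (hΨinj (congrArg Subtype.val e)))
    exact ⟨hinj, Finite.injective_iff_surjective.mp hinj⟩
  have hk : ∀ r : Fin D.nroots, (mapAt m r).2.2 = 1 ∨ 0 < p ∧ (mapAt m r).2.2 = p :=
    fun r => (hm r r.isLt).1.1.1.2
  have hfb : ∀ r : Fin D.nroots,
      Function.Bijective fun t : F => φ (((mapAt m r).2.1 : F) * t ^ (mapAt m r).2.2) := by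
    intro r
    have hε : ((mapAt m r).2.1 : F) ≠ 0 := fun h0 => by
      have := congrArg (fun z : ℤ => (z : F)) (hm r r.isLt).1.1.1.1.2
      simp [h0] at this
    have hinj : Function.Injective fun t : F =>
        φ (((mapAt m r).2.1 : F) * t ^ (mapAt m r).2.2) := fun t u e => by
      have e' := mul_left_cancel₀ hε (φ.injective e)
      rcases hk r with h | ⟨h0, h⟩
      · rwa [h, pow_one, pow_one] at e'
      · rw [h] at e'; exact hinjp h0 e'
    exact ⟨hinj, Finite.injective_iff_surjective.mp hinj⟩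
  let Φ : G.Graph F :=
    { act := act
      bij := hbij
      π := π
      ρ := ρ
      f := fun r t => φ (((mapAt m r).2.1 : F) * t ^ (mapAt m r).2.2)
      f_bij := hfb
      f_zero := fun r => by
        rcases hk r with h | ⟨h0, h⟩ <;> simp [h, Nat.pos_iff_ne_zero.mp, *]
      act_x := fun r t => by
        show Ψ (α _ : GL D.Idx F) = _
        rw [hαx _ r.val t r.isLt rfl, mapX, hΨx]
        rfl
      pos := fun r => by
        have := hr.1 r r.isLt
        exact ⟨fun h => ⟨r.isLt, this.mpr h.2⟩, fun h => ⟨Fin.isLt _, this.mp h.2⟩⟩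
      neg := fun r => Fin.ext (hm r r.isLt).1.1.2
      simp := fun i => Fin.ext (hr.2 i i.isLt).1.1.1.2
      f_one := fun i => by
        show φ ((((mapAt m (D.simple i)).2.1 : ℤ) : F) * 1 ^ _) = 1
        rw [(hr.2 i i.isLt).1.1.2, Int.cast_one, one_mul, one_pow, map_one]
      f_mul := fun i t u => by
        show φ ((((mapAt m (D.simple i)).2.1 : ℤ) : F) * (t * u) ^ _) =
          φ ((((mapAt m (D.simple i)).2.1 : ℤ) : F) * t ^ _) *
          φ ((((mapAt m (D.simple i)).2.1 : ℤ) : F) * u ^ _)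
        rw [(hr.2 i i.isLt).1.1.2, Int.cast_one, one_mul, one_mul, one_mul, mul_pow, map_mul]
      f_negF := fun i t => by
        show φ ((((mapAt m (negR D (D.simple i))).2.1 : ℤ) : F) *
            t ^ (mapAt m (negR D (D.simple i))).2.2) =
          φ ((((mapAt m (D.simple i)).2.1 : ℤ) : F) * t ^ (mapAt m (D.simple i)).2.2)
        rw [(hr.2 i i.isLt).1.2]
      f_neg := fun r t => by
        show φ (((mapAt m r).2.1 : F) * (-t) ^ (mapAt m r).2.2) =
          -φ (((mapAt m r).2.1 : F) * t ^ (mapAt m r).2.2)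
        rw [← map_neg]
        congr 1
        rcases hk r with h | ⟨h0, h⟩
        · rw [h]; ring
        · rw [h]
          have h2 := hadd h0 (-t) t
          rw [neg_add_cancel, zero_pow (by omega)] at h2
          rw [eq_neg_of_add_eq_zero_left h2.symm, mul_neg] }
  exact ⟨Φ, fun r => rfl, fun i => rfl, fun r t => rfl⟩

end Good

end Tab

end CfsgLib.Chev
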