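import Cfsg.Agent.Chev.BNP

/-! The root elements of the fundamental roots and their negatives generate. -/

set_option autoImplicit false

namespace CfsgLib.Chev

open Cfsg.Lie Matrix
open scoped MatrixGroups

namespace Tab

variable {D : ChevalleyDatum} {T : Tab D}

namespace Good

variable (G : T.Good) {F : Type*} [Field F]
include G

/-- A subgroup with the root elements of all `±` fundamental roots contains the group. -/
theorem group_le_of_simple {K : Subgroup (GL D.Idx F)}
    (h1 : ∀ i : Fin D.rank, ∀ t : F, G.full.x (D.simple i) t ∈ K)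
    (h2 : ∀ i : Fin D.rank, ∀ t : F, G.full.x (D.neg (D.simple i)) t ∈ K) :
    D.group F ≤ K := by
  have hns : ∀ i < D.rank, G.full.ns F i ∈ K := fun i hi => by
    show G.full.nr (D.simple i) 1 ∈ K
    have := G.full.cert.neg_eq (G.full.simple_lt hi)
    refine mul_mem (mul_mem (h1 ⟨i, hi⟩ _) ?_) (h1 ⟨i, hi⟩ _)
    rw [← this]
    exact h2 ⟨i, hi⟩ _
  refine G.group_le_iff.mpr fun r hr t => ?_
  obtain ⟨g, hg, j, hj, η, hη, hx, -⟩ := G.full.exists_conj (F := F) hr
  have hgK : g ∈ K := by
    refine (Subgroup.closure_le _).mpr ?_ hg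
    rintro a ⟨i, hi, rfl⟩
    exact hns i hi
  have e := hx (η * t)
  rw [← mul_assoc, hη, one_mul] at e
  rw [← e]
  exact mul_mem (mul_mem hgK (h1 ⟨j, hj⟩ _)) (inv_mem hgK)

/-- Homomorphisms out of the group agreeing on the `±` fundamental root elements are equal. -/
theorem hom_ext_simple {M : Type*} [Group M] {φ ψ : D.group F →* M}
    (h : ∀ (g : D.group F) (i : Fin D.rank) (t : F),
      ((g : GL D.Idx F) : Matrix D.Idx D.Idx F) = D.x F (D.simple i) t ∨
        ((g : GL D.Idx F) : Matrix D.Idx D.Idx F) = D.x F (D.neg (D.simple i)) t → φ g = ψ g) :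
    φ = ψ := by
  have hK : D.group F ≤ (φ.eqLocus ψ).map (D.group F).subtype := by
    refine G.group_le_of_simple ?_ ?_
    · exact fun i t => ⟨⟨_, G.x_mem_group _ t⟩, h _ i t (Or.inl (G.full.coe_x' _ t)), rfl⟩
    · exact fun i t => ⟨⟨_, G.x_mem_group _ t⟩, h _ i t (Or.inr (G.full.coe_x' _ t)), rfl⟩
  ext g
  obtain ⟨g', hg', e⟩ := hK g.2
  exact (Subtype.ext e : g' = g) ▸ hg'

end Good

end Tab

end CfsgLib.Chev
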