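import Cfsg.Agent.Chev.GoodAll
import Cfsg.Agent.Chev.SimpleGen
import Cfsg.Agent.Chev.RootAuto
import Cfsg.Agent.SL2Pres.Param
import Cfsg.Agent.SL3Pres.Derive

/-!
Two elements generating a Chevalley group: a torus element times a root element, and a Coxeter
representative (times a root element).  The closure of the roots reached is checked on the tables.
-/

set_option autoImplicit false
set_option linter.unusedSectionVars false
set_option linter.unusedSimpArgs false
set_option linter.style.haveILetI false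

namespace CfsgLib.Chev

open Cfsg.Lie
open scoped MatrixGroups

/-- A derivation step: `cm a b k` by the commutator formula, `wt g k` by the Coxeter element,
`ys g k` by the extra element `n_i x_i(1)` over the field of two elements. -/
inductive GenStep where
  | cm (a b k : ℕ)
  | wt (g k : ℕ)
  | ys (g k : ℕ)

namespace Tab

variable {D : ChevalleyDatum}

/-- The image of a root under a word. -/
def pwN (T : Tab D) (L : List ℕ) (s : ℕ) : ℕ := L.foldr (fun i s => T.reflT i s) s

/-- The first `n` roots of the orbit. -/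
def orbN (T : Tab D) (L : List ℕ) : ℕ → ℕ → List ℕ
  | 0, _ => []
  | n + 1, s => s :: orbN T L n (T.pwN L s)

/-- A term which is known: its root is known or its coefficient vanishes in the field. -/
def okTerm (p : ℕ) (S : List ℕ) (c : ℕ × ℤ × ℕ × ℕ) : Bool :=
  S.any (Nat.beq c.1) || (!(Nat.beq p 0) && Nat.beq (c.2.1.natAbs % p) 0)

/-- The check of one step. -/
def stepOK (T : Tab D) (L : List ℕ) (p i : ℕ) (S : List ℕ) : GenStep → Option ℕ
  | .cm a b k =>
    if S.any (Nat.beq a) && S.any (Nat.beq b) && !(Nat.beq b a) && !(Nat.beq b (negR D a)) then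
      match (T.commT a b).filter fun c => !(okTerm p S c) with
      | [c] => if Nat.beq c.1 k && Nat.beq c.2.1.natAbs 1 && (Nat.beq c.2.2.1 1 || Nat.beq c.2.2.2 1)
          then some k else none
      | _ => none
    else none
  | .wt g k => if S.any (Nat.beq g) && Nat.beq (T.pwN L g) k then some k else none
  | .ys g k =>
    let t := (g, (1 : ℤ), 1, 1) :: T.commT (D.simple i) g
    if Nat.beq p 2 && S.any (Nat.beq g) && !(Nat.beq g (D.simple i)) &&
        !(Nat.beq g (negR D (D.simple i))) then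
      match (t.map fun c => (T.reflT i c.1, c.2)).filter fun c => !(okTerm p S c) with
      | [c] => if Nat.beq c.1 k && Nat.beq c.2.1.natAbs 1 then some k else none
      | _ => none
    else none

/-- All roots are reached. -/
def closeOK (T : Tab D) (L : List ℕ) (p i : ℕ) : List GenStep → List ℕ → Bool
  | [], S => allBelow (fun j => S.any (Nat.beq (D.simple j)) && S.any (Nat.beq (negR D (D.simple j)))) D.rank
  | s :: rest, S => match stepOK T L p i S s with
    | some k => closeOK T L p i rest (k :: S)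
    | none => false

theorem prod_cancel {α : Type*} {G : Type*} [Group G] (K : Subgroup G) (f : α → G) (ok : α → Bool)
    (hok : ∀ a, ok a = true → f a ∈ K) : ∀ (L : List α) (c : α),
    (L.filter fun a => !(ok a)) = [c] → (L.map f).prod ∈ K → f c ∈ K := by
  intro L
  induction L with
  | nil => intro c h; simp at h
  | cons a L ih =>
    intro c h hprod
    rw [List.map_cons, List.prod_cons] at hprod
    by_cases ha : ok a = true
    · rw [List.filter_cons_of_neg (by simp [ha])] at h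
      exact ih c h ((mul_mem_cancel_left (hok a ha)).1 hprod)
    · rw [List.filter_cons_of_pos (by simpa using ha)] at h
      obtain ⟨rfl, h2⟩ := List.cons.inj h
      have hr : (L.map f).prod ∈ K := by
        refine list_prod_mem fun x hx => ?_
        obtain ⟨b, hb, rfl⟩ := List.mem_map.1 hx
        refine hok b ?_
        have := List.filter_eq_nil_iff.1 h2 b hb
        simpa using this
      exact (mul_mem_cancel_right hr).1 hprod

namespace Good

variable {T : Tab D} (G : T.Good) {F : Type*} [Field F]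
include G

theorem pwN_lt {L : List ℕ} (hL : ∀ i ∈ L, i < D.rank) {s : ℕ} (hs : s < D.nroots) :
    T.pwN L s < D.nroots := by
  induction L with
  | nil => exact hs
  | cons i L ih =>
    exact (G.full.reflT_spec (hL i (by simp)) (ih fun j hj => hL j (by simp [hj]))).1

theorem pw_val : ∀ (L : List (Fin D.rank)) (s : Fin D.nroots),
    (G.full.pw L s).val = T.pwN (L.map Fin.val) s.val := by
  intro L
  induction L with
  | nil => intro s; rfl
  | cons i L ih =>
    intro s
    rw [G.pw_cons, Equiv.Perm.mul_apply]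
    show T.reflT i.val (G.full.pw L s).val = _
    rw [ih]
    rfl

theorem commT_lt {r s : ℕ} (hr : r < D.nroots) (hs : s < D.nroots) (c : ℕ × ℤ × ℕ × ℕ)
    (hc : c ∈ T.commT r s) : c.1 < D.nroots := by
  simp only [commT, List.mem_filterMap, List.mem_cons, List.not_mem_nil, or_false] at hc
  obtain ⟨a, ha, hc⟩ := hc
  obtain ⟨k, hk, rfl⟩ := Option.map_eq_some_iff.mp hc
  rcases ha with rfl | rfl | rfl | rfl | rfl | rfl | rfl
  all_goals first
    | exact G.full.cert.rootT_lt hr hs hk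
    | exact G.full.cert.rootT_lt hs hr hk
    | (obtain ⟨k', hk', hk''⟩ := Option.bind_eq_some_iff.mp hk
       first
        | exact G.full.cert.rootT_lt (G.full.cert.rootT_lt hr hs hk') hs hk''
        | exact G.full.cert.rootT_lt (G.full.cert.rootT_lt hs hr hk') hr hk'')

/-- The root group of `r` is in `K`. -/
def FullIn (K : Subgroup (GL D.Idx F)) (r : ℕ) : Prop := ∀ t : F, G.full.x r t ∈ K

variable {K : Subgroup (GL D.Idx F)}

theorem nw_conj_exists (L : List (Fin D.rank)) {s : ℕ} (hs : s < D.nroots) :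
    ∃ c : Fˣ, ∀ t : F, G.full.nw F L * G.full.x s t * (G.full.nw F L)⁻¹ =
      G.full.x (T.pwN (L.map Fin.val) s) ((c : F) * t) := by
  obtain ⟨c, hc⟩ := G.rootAct_nw (F := F) L
  refine ⟨c ⟨s, hs⟩, fun t => ?_⟩
  have := (hc ⟨s, hs⟩).2.2.2 t
  rw [this, G.pw_val L ⟨s, hs⟩]

theorem full_nw (L : List (Fin D.rank)) (hn : G.full.nw F L ∈ K) {s : ℕ} (hs : s < D.nroots)
    (h : G.FullIn K s) : G.FullIn K (T.pwN (L.map Fin.val) s) := fun t => by
  obtain ⟨c, hc⟩ := G.nw_conj_exists (F := F) L hs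
  have := mul_mem (mul_mem hn (h (((c⁻¹ : Fˣ) : F) * t))) (inv_mem hn)
  rwa [hc, Units.mul_inv_cancel_left] at this

theorem full_orbN (L : List (Fin D.rank)) (hn : G.full.nw F L ∈ K) : ∀ (n s : ℕ), s < D.nroots →
    G.FullIn K s → ∀ r ∈ T.orbN (L.map Fin.val) n s, r < D.nroots ∧ G.FullIn K r := by
  intro n
  induction n with
  | zero => intro s _ _ r hr; simp [Tab.orbN] at hr
  | succ n ih =>
    intro s hs h r hr
    rcases List.mem_cons.1 hr with rfl | hr
    · exact ⟨hs, h⟩
    · exact ih _ (G.pwN_lt (by simp) hs) (G.full_nw L hn hs h) r hr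

theorem some_orbit (L : List (Fin D.rank)) (hn : G.full.nw F L ∈ K) : ∀ (n : ℕ) {s : ℕ},
    s < D.nroots → (∃ t : F, t ≠ 0 ∧ G.full.x s t ∈ K) →
    (T.pwN (L.map Fin.val))^[n] s < D.nroots ∧
      ∃ t : F, t ≠ 0 ∧ G.full.x ((T.pwN (L.map Fin.val))^[n] s) t ∈ K := by
  intro n
  induction n with
  | zero => exact fun hs h => ⟨hs, h⟩
  | succ n ih =>
    intro s hs h
    obtain ⟨t, ht, htK⟩ := h
    obtain ⟨c, hc⟩ := G.nw_conj_exists (F := F) L hs
    refine ih (G.pwN_lt (by simp) hs) ⟨(c : F) * t, mul_ne_zero c.ne_zero ht, ?_⟩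
    rw [← hc]
    exact mul_mem (mul_mem hn htK) (inv_mem hn)

theorem full_of_torus (p : ℕ) [Fact p.Prime] [Algebra (ZMod p) F] {c : Fin D.rank → Fˣ}
    (hh : T.hT F c ∈ K) {s : ℕ} (hs : s < D.nroots)
    (hgen : Algebra.adjoin (ZMod p) {(T.chi (F := F) s c : F)} = ⊤)
    (h : ∃ t : F, t ≠ 0 ∧ G.full.x s t ∈ K) : G.FullIn K s := by
  obtain ⟨t0, ht0, htK⟩ := h
  intro t
  have key := SL3Pres.all_of_stable hgen
    { carrier := {t | G.full.x s (t * t0) ∈ K}
      add_mem' := fun {a b} ha hb => by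
        show G.full.x s ((a + b) * t0) ∈ K
        rw [add_mul, ← G.full.x_add]
        exact mul_mem ha hb
      zero_mem' := by
        show G.full.x s (0 * t0) ∈ K
        rw [zero_mul, G.full.x_zero]
        exact one_mem K
      neg_mem' := fun {a} ha => by
        show G.full.x s (-a * t0) ∈ K
        rw [neg_mul, ← G.full.x_inv]
        exact inv_mem ha }
    (by show G.full.x s (1 * t0) ∈ K; rwa [one_mul]) (fun a ha => by
      show G.full.x s (_ * a * t0) ∈ K
      rw [mul_assoc, ← G.full.hT_conj hs]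
      exact mul_mem (mul_mem hh ha) (inv_mem hh)) (t / t0)
  change G.full.x s (t / t0 * t0) ∈ K at key
  rwa [div_mul_cancel₀ t ht0] at key

theorem okTerm_mem {p : ℕ} (hp : p ≠ 0 → (p : F) = 0) {S : List ℕ}
    (hS : ∀ r ∈ S, r < D.nroots ∧ G.FullIn K r) {c : ℕ × ℤ × ℕ × ℕ} (h : okTerm p S c = true)
    (v : F) : G.full.x c.1 ((c.2.1 : F) * v) ∈ K := by
  simp only [okTerm, Bool.or_eq_true, List.any_eq_true, Bool.and_eq_true, Bool.not_eq_true'] at h
  rcases h with ⟨r, hr, e⟩ | ⟨hp0, hd⟩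
  · rw [Nat.beq_eq] at e
    rw [e]
    exact (hS r hr).2 _
  · have hp0' : p ≠ 0 := fun e => by subst e; exact Bool.noConfusion hp0
    rw [Nat.beq_eq] at hd
    have : (c.2.1 : F) = 0 := by
      obtain ⟨z, hz⟩ := Nat.dvd_of_mod_eq_zero hd
      rcases Int.natAbs_eq c.2.1 with e | e <;> rw [e, hz] <;> simp [hp hp0']
    rw [this, zero_mul, G.full.x_zero]
    exact one_mem K

theorem cm_full {p : ℕ} (hp : p ≠ 0 → (p : F) = 0) {S : List ℕ}
    (hS : ∀ r ∈ S, r < D.nroots ∧ G.FullIn K r) {a b : ℕ} (ha : a ∈ S) (hb : b ∈ S) (hba : b ≠ a)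
    (hbn : b ≠ negR D a) {c : ℕ × ℤ × ℕ × ℕ}
    (hf : ((T.commT a b).filter fun c => !(okTerm p S c)) = [c]) (hc : c.2.1.natAbs = 1)
    (hij : c.2.2.1 = 1 ∨ c.2.2.2 = 1) : G.FullIn K c.1 := by
  intro v
  have hsq : (c.2.1 : F) * (c.2.1 : F) = 1 := by
    rcases Int.natAbs_eq c.2.1 with e | e <;> rw [hc] at e <;> rw [e] <;> simp
  obtain ⟨t, u, htu⟩ : ∃ t u : F, (c.2.1 : F) * ((-t) ^ c.2.2.1 * u ^ c.2.2.2) = v := by
    rcases hij with e | e
    · exact ⟨-((c.2.1 : F) * v), 1, by
        rw [e, pow_one, neg_neg, one_pow, mul_one, ← mul_assoc, hsq, one_mul]⟩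
    · exact ⟨-1, (c.2.1 : F) * v, by
        rw [e, neg_neg, one_pow, one_mul, pow_one, ← mul_assoc, hsq, one_mul]⟩
  obtain ⟨ha', hA⟩ := hS a ha
  obtain ⟨hb', hB⟩ := hS b hb
  have e := G.full.x_comm ha' hb' hba hbn t u
  rw [G.full.cert.commWord_eq ha' hb', rhsWord, List.map_map] at e
  have hW : ((T.commT a b).map fun d =>
      G.full.x d.1 ((d.2.1 : F) * ((-t) ^ d.2.2.1 * u ^ d.2.2.2))).prod ∈ K := by
    refine (mul_mem_cancel_left (mul_mem (hA t) (hB u))).1 ?_
    have h2 := mul_mem (hB u) (hA t)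
    rw [e] at h2
    simpa only [Function.comp_def, mul_assoc] using h2
  have := prod_cancel K _ (okTerm p S) (fun d hd => G.okTerm_mem hp hS hd _) _ c hf hW
  rwa [htu] at this

theorem close {p i : ℕ} (hp : p ≠ 0 → (p : F) = 0) (L : List (Fin D.rank))
    (hn : G.full.nw F L ∈ K)
    (hy : ∀ (S : List ℕ) (g k : ℕ), (∀ r ∈ S, r < D.nroots ∧ G.FullIn K r) →
      stepOK T (L.map Fin.val) p i S (.ys g k) = some k → k < D.nroots ∧ G.FullIn K k) :
    ∀ (st : List GenStep) (S : List ℕ), (∀ r ∈ S, r < D.nroots ∧ G.FullIn K r) →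
      closeOK T (L.map Fin.val) p i st S = true → D.group F ≤ K := by
  intro st
  induction st with
  | nil =>
    intro S hS h
    simp only [closeOK, allBelow_iff, Bool.and_eq_true, List.any_eq_true, Nat.beq_eq] at h
    refine G.group_le_of_simple (fun j t => ?_) (fun j t => ?_)
    · obtain ⟨⟨r, hr, rfl⟩, -⟩ := h j.val j.isLt
      exact (hS _ hr).2 t
    · obtain ⟨-, ⟨r, hr, e⟩⟩ := h j.val j.isLt
      rw [G.full.cert.neg_eq (G.full.simple_lt j.isLt), e]
      exact (hS _ hr).2 t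
  | cons s rest ih =>
    intro S hS h
    unfold closeOK at h
    rcases hk : stepOK T (L.map Fin.val) p i S s with _ | k
    · rw [hk] at h; exact Bool.noConfusion h
    rw [hk] at h
    refine ih (k :: S) (fun r hr => ?_) h
    rcases List.mem_cons.1 hr with rfl | hr
    swap
    · exact hS r hr
    rcases s with ⟨a, b, k⟩ | ⟨g, k⟩ | ⟨g, k⟩
    · simp only [stepOK] at hk
      split_ifs at hk with h1
      simp only [Bool.and_eq_true, List.any_eq_true, Nat.beq_eq, Bool.not_eq_true'] at h1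
      obtain ⟨⟨⟨⟨a', ha, rfl⟩, ⟨b', hb, rfl⟩⟩, hba⟩, hbn⟩ := h1
      split at hk
      next c hc =>
        split_ifs at hk with h2
        simp only [Bool.and_eq_true, Bool.or_eq_true, Nat.beq_eq] at h2
        obtain ⟨⟨rfl, h3⟩, h4⟩ := h2
        obtain rfl := Option.some.inj hk
        have hne : b ≠ a := fun e => by rw [Tab.beq_true e] at hba; exact Bool.noConfusion hba
        have hne' : b ≠ negR D a := fun e => by rw [Tab.beq_true e] at hbn; exact Bool.noConfusion hbn
        refine ⟨?_, G.cm_full hp hS ha hb hne hne' hc h3 h4⟩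
        exact (G.commT_lt (hS a ha).1 (hS b hb).1 c
          (List.mem_of_mem_filter (by rw [hc]; exact List.mem_singleton_self c)))
      next => cases hk
    · simp only [stepOK] at hk
      split_ifs at hk with h1
      simp only [Bool.and_eq_true, List.any_eq_true, Nat.beq_eq] at h1
      obtain ⟨⟨g', hg, rfl⟩, rfl⟩ := h1
      obtain rfl := Option.some.inj hk
      exact ⟨G.pwN_lt (by simp) (hS g hg).1, G.full_nw L hn (hS g hg).1 (hS g hg).2⟩
    · have hk' := hk
      simp only [stepOK] at hk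
      split_ifs at hk with h1
      split at hk
      next c hc =>
        split_ifs at hk with h2
        obtain rfl := Option.some.inj hk
        exact hy S g k hS hk'
      next => cases hk

/-- The exponent of a root on the torus element `i ↦ ζ ^ m i`. -/
def genExpo (T : Tab D) (m : List ℤ) (s : ℕ) : ℤ :=
  ((List.range D.rank).map fun i => m.getD i 0 * T.cart i s).sum

theorem chi_genExpo (m : List ℤ) (s : ℕ) (ζ : Fˣ) :
    T.chi (F := F) s (fun i : Fin D.rank => ζ ^ m.getD i 0) = ζ ^ genExpo T m s := by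
  rw [genExpo, list_sum_range, zpow_sum_eq_prod]
  show ∏ j : Fin D.rank, (ζ ^ m.getD j 0) ^ T.cart j s = _
  simp only [← _root_.zpow_mul]

theorem x_pow (r : ℕ) (N : ℕ) : G.full.x r (1 : F) ^ N = G.full.x r (N : F) := by
  induction N with
  | zero => rw [pow_zero, Nat.cast_zero, G.full.x_zero]
  | succ N ih => rw [pow_succ, ih, G.full.x_add, Nat.cast_succ]

omit G in
theorem adjoin_zpow [Fintype F] (p : ℕ) [Fact p.Prime] [Algebra (ZMod p) F] [CharP F p] (ζ : Fˣ)
    (hζ : orderOf ζ = Fintype.card F - 1) (e : ℤ) (he : e.natAbs = 1 ∨ e.natAbs = 2) :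
    Algebra.adjoin (ZMod p) {((ζ ^ e : Fˣ) : F)} = ⊤ := by
  obtain ⟨n, -, hn⟩ := FiniteField.card F p
  obtain ⟨η, hη, hηe⟩ : ∃ η : Fˣ, orderOf η = Fintype.card F - 1 ∧ ζ ^ e = η ^ e.natAbs := by
    rcases Int.natAbs_eq e with h | h
    · exact ⟨ζ, hζ, by rw [← zpow_natCast, ← h]⟩
    · refine ⟨ζ⁻¹, by rw [orderOf_inv, hζ], ?_⟩
      conv_lhs => rw [h, zpow_neg, zpow_natCast]
      rw [inv_pow]
  have h2 := SL2Pres.adjoin_sq (p := p) hn (g := (η : F)) (by rw [orderOf_units, hη])
  rw [hηe]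
  rcases he with he | he <;> rw [he]
  · rw [pow_one, eq_top_iff, ← h2, Algebra.adjoin_le_iff, Set.singleton_subset_iff]
    exact pow_mem (Algebra.subset_adjoin (Set.mem_singleton _)) 2
  · rwa [Units.val_pow_eq_pow_val]

theorem split_torus [Fintype F] (c : Fin D.rank → Fˣ) {β : ℕ} (hβ : β < D.nroots)
    (hχ : T.chi (F := F) β c = 1) (ha : T.hT F c * G.full.x β 1 ∈ K) :
    T.hT F c ∈ K ∧ G.full.x β 1 ∈ K := by
  have hc : Commute (T.hT F c) (G.full.x β 1) := by
    have := G.full.hT_conj hβ c (1 : F)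
    rw [hχ, Units.val_one, one_mul, mul_inv_eq_iff_eq_mul] at this
    exact this
  have hcq : c ^ Fintype.card F = c := funext fun i => by
    refine Units.ext ?_
    rw [Pi.pow_apply, Units.val_pow_eq_pow_val, FiniteField.pow_card]
  have h : T.hT F c ∈ K := by
    have e := pow_mem ha (Fintype.card F)
    rwa [hc.mul_pow, ← map_pow, hcq, G.x_pow, FiniteField.cast_card_eq_zero, G.full.x_zero,
      mul_one] at e
  exact ⟨h, (mul_mem_cancel_left h).1 ha⟩

omit G in
/-- Passing to the group. -/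
theorem exists_of_pair {a b : GL D.Idx F} (ha : a ∈ D.group F) (hb : b ∈ D.group F)
    (h : ∀ K : Subgroup (GL D.Idx F), a ∈ K → b ∈ K → D.group F ≤ K) :
    ∃ x y : ↥(D.group F), Subgroup.closure ({x, y} : Set ↥(D.group F)) = ⊤ := by
  refine ⟨⟨a, ha⟩, ⟨b, hb⟩, ?_⟩
  apply Subgroup.map_injective (D.group F).subtype_injective
  rw [MonoidHom.map_closure, Set.image_pair, ← MonoidHom.range_eq_map, Subgroup.range_subtype]
  refine le_antisymm ((Subgroup.closure_le _).2 ?_)
    (h _ (Subgroup.subset_closure (by simp)) (Subgroup.subset_closure (by simp)))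
  rintro z (rfl | rfl)
  · exact ha
  · exact hb

theorem no_ys {p i : ℕ} (hp : p ≠ 2) (L : List ℕ) (S : List ℕ) (g k : ℕ)
    (_ : ∀ r ∈ S, r < D.nroots ∧ G.FullIn K r) (h : stepOK T L p i S (.ys g k) = some k) :
    k < D.nroots ∧ G.FullIn K k := by
  simp only [stepOK] at h
  split_ifs at h with h1
  simp [hp] at h1

/-- The data of the torus-based checks. -/
def chkTorus (T : Tab D) (L : List ℕ) (m : List ℤ) (β g : ℕ) : Bool :=
  Nat.blt β D.nroots && decide (genExpo T m β = 0) &&
    decide ((genExpo T m ((T.pwN L)^[g] β)).natAbs = 1 ∨ (genExpo T m ((T.pwN L)^[g] β)).natAbs = 2)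

/-- The first check. -/
def chkA (T : Tab D) (L : List ℕ) (m : List ℤ) (β g n : ℕ) (st : List GenStep) : Bool :=
  chkTorus T L m β g && closeOK T L 0 0 st (T.orbN L n ((T.pwN L)^[g] β))

theorem two_gen_A [Fintype F] (L : List (Fin D.rank)) (m : List ℤ) (β g n : ℕ) (st : List GenStep)
    (h : chkA T (L.map Fin.val) m β g n st = true) :
    ∃ x y : ↥(D.group F), Subgroup.closure ({x, y} : Set ↥(D.group F)) = ⊤ := by
  classical
  simp only [chkA, chkTorus, Bool.and_eq_true, Nat.blt_eq, decide_eq_true_eq] at h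
  obtain ⟨⟨⟨hβ, he⟩, hg⟩, hcl⟩ := h
  obtain ⟨p, hcp⟩ := CharP.exists F
  haveI := hcp
  haveI : Fact p.Prime := ⟨CharP.char_is_prime F p⟩
  letI := ZMod.algebra F p
  obtain ⟨g0, hg0, hgo, -⟩ := SL2Pres.exists_generator (F := F)
  set ζ : Fˣ := Units.mk0 g0 hg0
  have hζ : orderOf ζ = Fintype.card F - 1 := by rw [← orderOf_units]; exact hgo
  set c : Fin D.rank → Fˣ := fun i => ζ ^ m.getD i 0
  refine exists_of_pair (mul_mem (G.diagonal_le_group (F := F) (by rw [G.full.diagonal_eq_range]; exact ⟨c, rfl⟩))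
    (G.x_mem_group β 1)) (G.monomial_le_group (G.nw_mem_monomial (F := F) L)) fun K ha hn => ?_
  obtain ⟨hh, hx⟩ := G.split_torus c hβ (by rw [G.chi_genExpo, he, zpow_zero]) ha
  obtain ⟨hγ, hsome⟩ := G.some_orbit L hn g hβ ⟨1, one_ne_zero, hx⟩
  have hfull := G.full_of_torus p hh hγ (by rw [G.chi_genExpo]; exact adjoin_zpow p ζ hζ _ hg) hsome
  exact G.close (p := 0) (i := 0) (fun h => absurd rfl h) L hn (G.no_ys (by norm_num) _) st _
    (G.full_orbN L hn n _ hγ hfull) hcl

/-- The second check. -/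
def chkB (T : Tab D) (L : List ℕ) (m : List ℤ) (β g n : ℕ) (ρ ρ' n' : ℕ) (st : List GenStep) : Bool :=
  chkTorus T L m β g && Nat.blt ρ D.nroots && Nat.blt ρ' D.nroots && Nat.beq (T.pwN L ρ') ρ &&
    decide ((genExpo T m ρ).natAbs = 1) && decide ((genExpo T m ρ').natAbs = 1) &&
    closeOK T L 0 0 st (T.orbN L n ((T.pwN L)^[g] β) ++ T.orbN L n' ρ)

theorem two_gen_B [Fintype F] (hF : 3 ≤ Fintype.card F) (L : List (Fin D.rank)) (m : List ℤ)
    (β g n ρ ρ' n' : ℕ) (st : List GenStep)
    (h : chkB T (L.map Fin.val) m β g n ρ ρ' n' st = true) :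
    ∃ x y : ↥(D.group F), Subgroup.closure ({x, y} : Set ↥(D.group F)) = ⊤ := by
  classical
  simp only [chkB, chkTorus, Bool.and_eq_true, Nat.blt_eq, decide_eq_true_eq, Nat.beq_eq] at h
  obtain ⟨⟨⟨⟨⟨⟨⟨⟨hβ, he⟩, hg⟩, hρ⟩, hρ'⟩, hσ⟩, he1⟩, he2⟩, hcl⟩ := h
  obtain ⟨p, hcp⟩ := CharP.exists F
  haveI := hcp
  haveI : Fact p.Prime := ⟨CharP.char_is_prime F p⟩
  letI := ZMod.algebra F p
  obtain ⟨g0, hg0, hgo, -⟩ := SL2Pres.exists_generator (F := F)
  set ζ : Fˣ := Units.mk0 g0 hg0
  have hζ : orderOf ζ = Fintype.card F - 1 := by rw [← orderOf_units]; exact hgo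
  have hne1 : ∀ e : ℤ, e.natAbs = 1 → ((ζ ^ e : Fˣ) : F) ≠ 1 := fun e he h1 => by
    rw [← Units.val_one, Units.val_inj] at h1
    rcases Int.natAbs_eq e with h' | h' <;> rw [he] at h' <;> subst h' <;>
      simp only [Nat.cast_one, zpow_neg, zpow_one, inv_eq_one] at h1 <;>
      (rw [h1, orderOf_one] at hζ; omega)
  set c : Fin D.rank → Fˣ := fun i => ζ ^ m.getD i 0
  refine exists_of_pair (mul_mem (G.diagonal_le_group (F := F) (by rw [G.full.diagonal_eq_range]; exact ⟨c, rfl⟩))
    (G.x_mem_group β 1))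
    (mul_mem (G.x_mem_group ρ 1) (G.monomial_le_group (G.nw_mem_monomial (F := F) L)))
    fun K ha hb => ?_
  obtain ⟨hh, hx⟩ := G.split_torus c hβ (by rw [G.chi_genExpo, he, zpow_zero]) ha
  set w := G.full.nw F L
  set A : Fˣ := T.chi (F := F) ρ c with hA
  set B : Fˣ := T.chi (F := F) ρ' c with hB
  obtain ⟨d, hd⟩ := G.nw_hT (F := F) L c
  obtain ⟨k, hk⟩ := G.nw_conj_exists (F := F) L hρ'
  rw [hσ] at hk
  have hd' : T.hT F d = w * T.hT F c * w⁻¹ := eq_mul_inv_of_mul_eq hd.symm
  have hBconj : ∀ t : F, T.hT F d * G.full.x ρ t * (T.hT F d)⁻¹ = G.full.x ρ ((B : F) * t) := by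
    intro t
    have e1 := hk (((k⁻¹ : Fˣ) : F) * t)
    rw [Units.mul_inv_cancel_left] at e1
    rw [hd', ← e1, show w * T.hT F c * w⁻¹ * (w * G.full.x ρ' (((k⁻¹ : Fˣ) : F) * t) * w⁻¹) *
        (w * T.hT F c * w⁻¹)⁻¹ =
      w * (T.hT F c * G.full.x ρ' (((k⁻¹ : Fˣ) : F) * t) * (T.hT F c)⁻¹) * w⁻¹ by group,
      G.full.hT_conj hρ', hk, ← hB, mul_left_comm (k : F), Units.mul_inv_cancel_left]
  have hX : G.full.x ρ 1 * T.hT F d * G.full.x ρ (-1) ∈ K := by
    have := mul_mem (mul_mem hb hh) (inv_mem hb)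
    rw [hd', ← G.full.x_inv]
    rwa [mul_inv_rev, show G.full.x ρ (1 : F) * w * T.hT F c * (w⁻¹ * (G.full.x ρ 1)⁻¹) =
      G.full.x ρ 1 * (w * T.hT F c * w⁻¹) * (G.full.x ρ 1)⁻¹ by group] at this
  have hρK : G.FullIn K ρ := by
    refine G.full_of_torus p hh hρ (by rw [G.chi_genExpo]; exact adjoin_zpow p ζ hζ _ (Or.inl he1))
      ⟨((A : F) - 1) * (1 - (B : F)), mul_ne_zero (sub_ne_zero.2 ?_) (sub_ne_zero.2 (Ne.symm ?_)), ?_⟩
    · rw [hA, G.chi_genExpo]; exact hne1 _ he1
    · rw [hB, G.chi_genExpo]; exact hne1 _ he2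
    have := mul_mem (mul_mem (mul_mem hh hX) (inv_mem hh)) (inv_mem hX)
    have hcomm : T.hT F c * T.hT F d * (T.hT F c)⁻¹ = T.hT F d := by
      rw [← map_mul, ← map_inv, ← map_mul, mul_comm c d, mul_inv_cancel_right]
    rw [show T.hT F c * (G.full.x ρ 1 * T.hT F d * G.full.x ρ (-1)) * (T.hT F c)⁻¹ *
        (G.full.x ρ 1 * T.hT F d * G.full.x ρ (-1))⁻¹ =
      (T.hT F c * G.full.x ρ 1 * (T.hT F c)⁻¹) * (T.hT F c * T.hT F d * (T.hT F c)⁻¹) *
      (T.hT F c * G.full.x ρ (-1) * (T.hT F c)⁻¹) * (G.full.x ρ (-1))⁻¹ * (T.hT F d)⁻¹ *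
      (G.full.x ρ 1)⁻¹ by group, hcomm, G.full.hT_conj hρ, G.full.hT_conj hρ, G.full.x_inv,
      G.full.x_inv, neg_neg, ← hA, mul_one,
      show G.full.x ρ (A : F) * T.hT F d * G.full.x ρ ((A : F) * -1) * G.full.x ρ (1 : F) * (T.hT F d)⁻¹ *
        G.full.x ρ (-1 : F) = G.full.x ρ (A : F) * (T.hT F d * (G.full.x ρ ((A : F) * -1) *
        G.full.x ρ (1 : F)) * (T.hT F d)⁻¹) * G.full.x ρ (-1 : F) by group,
      G.full.x_add, hBconj, G.full.x_add, G.full.x_add] at this
    convert this using 2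
    ring
  have hn : w ∈ K := (mul_mem_cancel_left (hρK 1)).1 hb
  obtain ⟨hγ, hsome⟩ := G.some_orbit L hn g hβ ⟨1, one_ne_zero, hx⟩
  have hfull := G.full_of_torus p hh hγ (by rw [G.chi_genExpo]; exact adjoin_zpow p ζ hζ _ hg) hsome
  refine G.close (p := 0) (i := 0) (fun h => absurd rfl h) L hn (G.no_ys (by norm_num) _) st _
    (fun r hr => ?_) hcl
  rcases List.mem_append.1 hr with hr | hr
  · exact G.full_orbN L hn n _ hγ hfull r hr
  · exact G.full_orbN L hn n' _ hρ hρK r hr

/-- The check over the field of two elements. -/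
def chkC (T : Tab D) (L : List ℕ) (i β n : ℕ) (st : List GenStep) : Bool :=
  Nat.blt β D.nroots && Nat.blt i D.rank && Nat.beq (T.reflT i β) β &&
    !(Nat.beq β (D.simple i)) && !(Nat.beq β (negR D (D.simple i))) &&
    (T.commT (D.simple i) β).all (okTerm 2 []) && closeOK T L 2 i st (T.orbN L n β)

theorem two_gen_C [Fintype F] (hF : Fintype.card F = 2) (L : List (Fin D.rank)) (i β n : ℕ)
    (st : List GenStep) (h : chkC T (L.map Fin.val) i β n st = true) :
    ∃ x y : ↥(D.group F), Subgroup.closure ({x, y} : Set ↥(D.group F)) = ⊤ := by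
  classical
  simp only [chkC, Bool.and_eq_true, Nat.blt_eq, Nat.beq_eq, Bool.not_eq_true', List.all_eq_true] at h
  obtain ⟨⟨⟨⟨⟨⟨hβ, hi⟩, hfix⟩, hne⟩, hne'⟩, hall⟩, hcl⟩ := h
  have hne : β ≠ D.simple i := fun e => by rw [Tab.beq_true e] at hne; exact Bool.noConfusion hne
  have hne' : β ≠ negR D (D.simple i) := fun e => by
    rw [Tab.beq_true e] at hne'; exact Bool.noConfusion hne'
  haveI : CharP F 2 := charP_of_card_eq_prime hF
  have h2 : ((2 : ℕ) : F) = 0 := CharP.cast_eq_zero F 2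
  have hneg : ∀ t : F, -t = t := CharTwo.neg_eq
  have hF2 : ∀ t : F, t = 0 ∨ t = 1 := fun t => by
    by_contra h
    rw [not_or] at h
    have h3 := Finset.card_le_univ ({0, 1, t} : Finset F)
    rw [hF] at h3
    have e : ({0, 1, t} : Finset F).card = 3 := by
      simp [Finset.card_insert_of_notMem, Ne.symm h.1, Ne.symm h.2]
    omega
  have hp := G.full.simple_lt hi
  have hsgn : ∀ s < D.nroots, ((T.sgn i s : ℤ) : F) = 1 := fun s hs => by
    rcases (G.full.reflT_spec hi hs).2.2.2.2.2.2.1 with e | e <;> simp [e, hneg]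
  set x := G.full.x (D.simple i) (1 : F) with hx
  set z := G.full.x (negR D (D.simple i)) (1 : F) with hz
  set N := G.full.ns F i with hN
  have hxx : ∀ r, G.full.x r (1 : F) * G.full.x r 1 = 1 := fun r => by
    rw [G.full.x_add, CharTwo.add_self_eq_zero, G.full.x_zero]
  have hNdef : N = x * z * x := by
    rw [hN, Full.ns, Full.nr, inv_one, hneg]
  have hNN : N * N = 1 := by
    rw [mul_eq_one_iff_eq_inv, hN, Full.ns, G.full.nr_inv, hneg]
  have hNxN : N * x * N = z := by
    have e := G.full.ns_conj hi hp (1 : F)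
    rw [G.full.simple_reflect hi, hsgn _ hp, one_mul, inv_eq_of_mul_eq_one_right hNN] at e
    exact e
  set u := G.full.x β (1 : F)
  have hy3 : (N * x) ^ 3 = 1 := by
    calc (N * x) ^ 3 = (N * x * N) * x * N * x := by
          rw [pow_succ, pow_succ, pow_one]; simp only [mul_assoc]
      _ = z * x * (x * z * x) * x := by rw [hNxN, hNdef]
      _ = z * (x * x) * z * (x * x) := by simp only [mul_assoc]
      _ = 1 := by rw [hxx, mul_one, mul_one, hxx]
  have hW : ((T.commT (D.simple i) β).map fun d =>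
      G.full.x d.1 ((d.2.1 : F) * ((-1) ^ d.2.2.1 * 1 ^ d.2.2.2))).prod = 1 := by
    refine List.prod_eq_one fun a ha => ?_
    obtain ⟨d, hd, rfl⟩ := List.mem_map.1 ha
    have := G.okTerm_mem (F := F) (K := ⊥) (fun _ => h2) (S := []) (by simp) (hall d hd)
      ((-1) ^ d.2.2.1 * 1 ^ d.2.2.2)
    exact Subgroup.mem_bot.1 this
  have hxu : Commute x u := by
    have e := G.full.x_comm hp hβ hne hne' (1 : F) 1
    rw [G.full.cert.commWord_eq hp hβ, rhsWord, List.map_map] at e
    simp only [Function.comp_def, mul_assoc] at e hW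
    rw [hW, mul_one] at e
    exact e.symm
  have hNu : Commute N u := by
    have e := G.full.ns_conj hi hβ (1 : F)
    rw [hfix, hsgn _ hβ, one_mul, mul_inv_eq_iff_eq_mul] at e
    exact e
  refine exists_of_pair (a := u * (N * x)) (mul_mem (G.x_mem_group β 1)
    (mul_mem (G.ns_mem_group ⟨i, hi⟩) (G.x_mem_group _ _)))
    (G.monomial_le_group (G.nw_mem_monomial (F := F) L)) fun K ha hn => ?_
  have hu : u ∈ K := by
    have e := pow_mem ha 3
    rwa [(Commute.mul_right hNu.symm hxu.symm).mul_pow, hy3, mul_one, pow_succ, pow_succ, pow_one,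
      hxx, one_mul] at e
  have hy : N * x ∈ K := (mul_mem_cancel_left hu).1 ha
  have hfullβ : G.FullIn K β := fun t => by
    rcases hF2 t with rfl | rfl
    · rw [G.full.x_zero]; exact one_mem K
    · exact hu
  refine G.close (p := 2) (i := i) (fun _ => h2) L hn ?_ st _ (G.full_orbN L hn n _ hβ hfullβ) hcl
  intro S g k hS hk
  simp only [stepOK] at hk
  split_ifs at hk with h1
  simp only [Bool.and_eq_true, List.any_eq_true, Nat.beq_eq, Bool.not_eq_true'] at h1
  obtain ⟨⟨⟨-, g', hg, rfl⟩, hgp⟩, hgn⟩ := h1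
  have hgp' : g ≠ D.simple i := fun e => by rw [Tab.beq_true e] at hgp; exact Bool.noConfusion hgp
  have hgn' : g ≠ negR D (D.simple i) := fun e => by
    rw [Tab.beq_true e] at hgn; exact Bool.noConfusion hgn
  obtain ⟨hg', hG⟩ := hS g hg
  split at hk
  next c hc =>
    split_ifs at hk with h3
    simp only [Bool.and_eq_true, Nat.beq_eq] at h3
    obtain ⟨rfl, hc1⟩ := h3
    set t := ((g, (1 : ℤ), 1, 1) :: T.commT (D.simple i) g) with ht
    have hlt : ∀ d ∈ t, d.1 < D.nroots := fun d hd => by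
      rcases List.mem_cons.1 hd with rfl | hd
      · exact hg'
      · exact G.commT_lt hp hg' d hd
    have hprod : ((t.map fun d => (T.reflT i d.1, d.2)).map fun d => G.full.x d.1 ((d.2.1 : F) * 1)).prod
        ∈ K := by
      have e := G.full.x_comm hp hg' hgp' hgn' (1 : F) 1
      rw [G.full.cert.commWord_eq hp hg', rhsWord, List.map_map] at e
      simp only [Function.comp_def, hneg, one_pow, mul_one] at e
      have hmem := mul_mem (mul_mem hy (hG 1)) (inv_mem hy)
      rw [mul_inv_rev, show N * x * G.full.x g 1 * (x⁻¹ * N⁻¹) =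
        N * (x * (G.full.x g 1 * x⁻¹)) * N⁻¹ by group,
        inv_eq_of_mul_eq_one_right (hxx (D.simple i)), e, mul_assoc (G.full.x (D.simple i) (1 : F)),
        ← mul_assoc x, hxx, one_mul] at hmem
      rw [List.map_map]
      convert hmem using 1
      rw [← MulAut.conj_apply, map_mul, map_list_prod, List.map_map, ht, List.map_cons,
        List.prod_cons]
      congr 1
      · simp [Function.comp_def, MulAut.conj_apply, N, G.full.ns_conj hi hg', hsgn _ hg']
      · refine congrArg List.prod (List.map_congr_left fun d hd => ?_)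
        simp [Function.comp_def, MulAut.conj_apply, N, G.full.ns_conj hi (G.commT_lt hp hg' d hd),
          hsgn _ (G.commT_lt hp hg' d hd)]
    refine ⟨?_, fun v => ?_⟩
    · obtain ⟨d, hd, hdc⟩ := List.mem_map.1 (List.mem_of_mem_filter (by rw [hc]; exact List.mem_singleton_self c))
      rw [← hdc]
      exact (G.full.reflT_spec hi (hlt d hd)).1
    rcases hF2 v with rfl | rfl
    · rw [G.full.x_zero]; exact one_mem K
    have := prod_cancel K _ (okTerm 2 S) (fun d hd => G.okTerm_mem (fun _ => h2) hS hd _) _ c hc hprod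
    have hc' : (c.2.1 : F) = 1 := by
      rcases Int.natAbs_eq c.2.1 with e | e <;> rw [hc1] at e <;> rw [e] <;> simp [hneg]
    rwa [hc', one_mul] at this
  next => cases hk

end Good

end Tab

end CfsgLib.Chev
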