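import Cfsg.Agent.Chev.Refl

/-!
Root elements, `n_r(t)` and `h_r(t)` as elements of the general linear group over a field, and
their basic relations.
-/

set_option autoImplicit false

namespace CfsgLib.Chev

open Cfsg.Lie Matrix
open scoped MatrixGroups

namespace Tab

variable {D : ChevalleyDatum}

/-- `x_r(t)` as an element of the general linear group (the identity if `r` is out of range). -/
def Full.x {T : Tab D} (H : T.Full) {F : Type*} [Field F] (r : ℕ) (t : F) : GL D.Idx F :=
  if h : r < D.nroots then ⟨T.X F r t, T.X F r (-t), H.cert.X_mul_neg h t, H.cert.X_neg_mul h t⟩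
  else 1

/-- `n_r(t)`. -/
def Full.nr {T : Tab D} (H : T.Full) {F : Type*} [Field F] (r : ℕ) (t : F) : GL D.Idx F :=
  H.x r t * H.x (negR D r) (-t⁻¹) * H.x r t

/-- `h_r(t)`. -/
def Full.hr {T : Tab D} (H : T.Full) {F : Type*} [Field F] (r : ℕ) (t : F) : GL D.Idx F :=
  H.nr r t * H.nr r (-1)

/-- The element `n_p(1)` of the `i`-th fundamental root. -/
def Full.ns {T : Tab D} (H : T.Full) (F : Type*) [Field F] (i : ℕ) : GL D.Idx F :=
  H.nr (D.simple i) 1

namespace Full

variable {T : Tab D} (H : T.Full) {F : Type*} [Field F]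
include H

theorem coe_x {r : ℕ} (hr : r < D.nroots) (t : F) :
    ((H.x r t : GL D.Idx F) : Matrix D.Idx D.Idx F) = T.X F r t := by
  simp [Full.x, hr]

theorem coe_x' (r : ℕ) (t : F) :
    ((H.x r t : GL D.Idx F) : Matrix D.Idx D.Idx F) = D.x F r t := by
  by_cases hr : r < D.nroots
  · rw [H.coe_x hr, H.cert.x_eq hr]
  · simp [Full.x, ChevalleyDatum.x, hr]

theorem eq_x {g : GL D.Idx F} {r : ℕ} {t : F} :
    (g : Matrix D.Idx D.Idx F) = D.x F r t ↔ g = H.x r t := by
  rw [← H.coe_x' r t]
  exact Units.ext_iff.symm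

theorem x_add (r : ℕ) (t u : F) : H.x r t * H.x r u = H.x r (t + u) := by
  by_cases hr : r < D.nroots
  · apply Units.ext
    rw [Units.val_mul, H.coe_x hr, H.coe_x hr, H.coe_x hr, H.cert.X_add hr]
  · simp [Full.x, hr]

theorem x_zero (r : ℕ) : H.x r (0 : F) = 1 := by
  by_cases hr : r < D.nroots
  · apply Units.ext; rw [H.coe_x hr, Cert.X_zero, Units.val_one]
  · simp [Full.x, hr]

theorem x_inv (r : ℕ) (t : F) : (H.x r t)⁻¹ = H.x r (-t) := by
  rw [inv_eq_iff_mul_eq_one, H.x_add, add_neg_cancel, H.x_zero]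

theorem coe_word (w : List (ℕ × F)) :
    (((w.map fun p => H.x p.1 p.2).prod : GL D.Idx F) : Matrix D.Idx D.Idx F) =
      D.wordMat F w := by
  rw [ChevalleyDatum.wordMat, ← Units.coeHom_apply, map_list_prod, List.map_map]
  exact congrArg List.prod (List.map_congr_left fun p _ => H.coe_x' p.1 p.2)

theorem coe_wordX (w : List (ℕ × F)) (hw : ∀ p ∈ w, p.1 < D.nroots) :
    (((w.map fun p => H.x p.1 p.2).prod : GL D.Idx F) : Matrix D.Idx D.Idx F) = wordX T w := by
  rw [wordX, ← Units.coeHom_apply, map_list_prod, List.map_map]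
  exact congrArg List.prod (List.map_congr_left fun p hp => H.coe_x (hw p hp) p.2)

/-- The commutator formula in the general linear group. -/
theorem x_comm {r s : ℕ} (hr : r < D.nroots) (hs : s < D.nroots) (hsr : s ≠ r)
    (hsn : s ≠ negR D r) (t u : F) :
    H.x s u * H.x r t =
      H.x r t * H.x s u * ((D.commWord F r s t u).map fun p => H.x p.1 p.2).prod := by
  apply Units.ext
  rw [Units.val_mul, Units.val_mul, Units.val_mul, H.coe_x hr, H.coe_x hs,
    H.cert.commWord_eq hr hs, H.coe_wordX, H.cert.comm H.comm hr hs hsr hsn]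
  intro p hp
  simp only [rhsWord, List.mem_map] at hp
  obtain ⟨c, hc, rfl⟩ := hp
  simp only [commT, List.mem_filterMap, List.mem_cons, List.not_mem_nil, or_false] at hc
  obtain ⟨a, ha, hc⟩ := hc
  obtain ⟨k, hk, rfl⟩ := Option.map_eq_some_iff.mp hc
  rcases ha with rfl | rfl | rfl | rfl | rfl | rfl | rfl
  all_goals first
    | exact H.cert.rootT_lt hr hs hk
    | exact H.cert.rootT_lt hs hr hk
    | (obtain ⟨k', hk', hk''⟩ := Option.bind_eq_some_iff.mp hk
       first
        | exact H.cert.rootT_lt (H.cert.rootT_lt hr hs hk') hs hk''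
        | exact H.cert.rootT_lt (H.cert.rootT_lt hs hr hk') hr hk'')

theorem nr_inv {r : ℕ} (t : F) : (H.nr r t)⁻¹ = H.nr r (-t) := by
  simp [nr, H.x_inv, mul_assoc, inv_neg]

theorem coe_nr (r : ℕ) (hr : r < D.nroots) (t : F) :
    ((H.nr r t : GL D.Idx F) : Matrix D.Idx D.Idx F) = D.nMat F r t := by
  simp [nr, ChevalleyDatum.nMat, ChevalleyDatum.wordMat, ChevalleyDatum.nWord, H.coe_x',
    H.cert.neg_eq hr, mul_assoc]

theorem coe_hr (r : ℕ) (hr : r < D.nroots) (t : F) :
    ((H.hr r t : GL D.Idx F) : Matrix D.Idx D.Idx F) = D.hMat F r t := by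
  simp [Full.hr, ChevalleyDatum.hMat, ChevalleyDatum.hWord, ChevalleyDatum.wordMat,
    ChevalleyDatum.nWord, nr, H.coe_x', H.cert.neg_eq hr, mul_assoc]

theorem coe_nr_simple {i : ℕ} (hi : i < D.rank) (t : Fˣ) :
    ((H.nr (D.simple i) (t : F) : GL D.Idx F) : Matrix D.Idx D.Idx F) = T.NX i t := by
  have hp := H.simple_lt hi
  simp [nr, NX, H.coe_x hp, H.coe_x (Cert.negR_lt (D := D) hp)]

theorem coe_hr_simple {i : ℕ} (hi : i < D.rank) {t : F} (ht : t ≠ 0) :
    ((H.hr (D.simple i) t : GL D.Idx F) : Matrix D.Idx D.Idx F) =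
      Matrix.diagonal (fun b : D.Idx => t ^ T.wt i (code b)) := by
  have e : ((-1 : Fˣ) : F) = -1 := by simp
  rw [Full.hr, Units.val_mul, show (t : F) = ((Units.mk0 t ht : Fˣ) : F) from rfl, ← e,
    H.coe_nr_simple hi, H.coe_nr_simple hi, H.NX_sq hi]
  simp

/-- Conjugation by `n_p(t)`. -/
theorem nr_conj {i s : ℕ} (hi : i < D.rank) (hs : s < D.nroots) {t : F} (ht : t ≠ 0) (u : F) :
    H.nr (D.simple i) t * H.x s u * (H.nr (D.simple i) t)⁻¹ =
      H.x (T.reflT i s) (t ^ (-(T.cart i s)) * (T.sgn i s : F) * u) := by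
  obtain ⟨hk, -, -, hht, -⟩ := H.reflT_spec hi hs
  rw [mul_inv_eq_iff_eq_mul]
  apply Units.ext
  set c : Fˣ := Units.mk0 t ht with hc
  have ec : (c : F) = t := rfl
  rw [Units.val_mul, Units.val_mul, ← ec, H.coe_nr_simple hi, H.coe_x hs, H.coe_x hk,
    H.NX_eq hi, mul_assoc (diagW T.gr c * T.NZ F i) (diagW T.gr c⁻¹) (T.X F s u)]
  simp only [diagW]
  rw [H.cert.diag_mul_X H.cert.isAdd_gr c⁻¹ hs]
  simp only [mul_assoc]
  rw [← mul_assoc (T.NZ F i), H.NZ_mul_X hi hs]
  simp only [mul_assoc]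
  rw [← mul_assoc (Matrix.diagonal _) (T.X F (T.reflT i s) _),
    H.cert.diag_mul_X H.cert.isAdd_gr c hk, mul_assoc]
  congr 2
  rw [T.gr_root hk, T.gr_root hs, hht, Units.val_zpow_eq_zpow_val, Units.val_zpow_eq_zpow_val,
    Units.val_inv_eq_inv_val, sub_eq_add_neg, zpow_add₀ (by simp [ec, ht]), _root_.inv_zpow]
  have : (c : F) ^ T.ht s ≠ 0 := zpow_ne_zero _ (by simp [ec, ht])
  field_simp

theorem ns_conj {i s : ℕ} (hi : i < D.rank) (hs : s < D.nroots) (u : F) :
    H.ns F i * H.x s u * (H.ns F i)⁻¹ = H.x (T.reflT i s) ((T.sgn i s : F) * u) := by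
  rw [Full.ns, H.nr_conj hi hs one_ne_zero]
  simp

theorem sgn_neg_eq {i s : ℕ} (hi : i < D.rank) (hs : s < D.nroots) :
    T.sgn i (negR D s) = T.sgn i s := by
  obtain ⟨-, -, -, -, -, -, hs1, -, hmul, -⟩ := H.reflT_spec hi hs
  rcases hs1 with h | h <;> rw [h] at hmul ⊢ <;> omega

/-- Every root element is conjugate to a fundamental one by a product of the `n_p(1)`. -/
theorem exists_conj {r : ℕ} (hr : r < D.nroots) :
    ∃ g ∈ Subgroup.closure {g : GL D.Idx F | ∃ i < D.rank, g = H.ns F i}, ∃ j < D.rank,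
      ∃ η : F, η * η = 1 ∧
        (∀ t, g * H.x (D.simple j) t * g⁻¹ = H.x r (η * t)) ∧
        (∀ t, g * H.x (negR D (D.simple j)) t * g⁻¹ = H.x (negR D r) (η * t)) ∧
        ∀ t : F, t ≠ 0 → g * H.hr (D.simple j) t * g⁻¹ =
          H.x r (η * t) * H.x (negR D r) (η * -t⁻¹) * H.x r (η * t) *
            (H.x r (η * -1) * H.x (negR D r) (η * 1) * H.x r (η * -1)) := by
  suffices h : ∃ g ∈ Subgroup.closure {g : GL D.Idx F | ∃ i < D.rank, g = H.ns F i}, ∃ j < D.rank,
      ∃ η : F, η * η = 1 ∧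
        (∀ t, g * H.x (D.simple j) t * g⁻¹ = H.x r (η * t)) ∧
        (∀ t, g * H.x (negR D (D.simple j)) t * g⁻¹ = H.x (negR D r) (η * t)) by
    obtain ⟨g, hg, j, hj, η, hη, h1, h2⟩ := h
    refine ⟨g, hg, j, hj, η, hη, h1, h2, fun t _ => ?_⟩
    simp only [← h1, ← h2, Full.hr, nr, inv_neg, inv_one, neg_neg]
    group
  induction hn : (T.ht r).natAbs using Nat.strong_induction_on generalizing r with
  | _ n ih =>
    subst hn
    have hway := H.way r hr
    simp only [chkWay] at hway
    by_cases h1 : (T.ht r).natAbs = 1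
    · simp only [h1, decide_true, cond_true, List.any_eq_true, List.mem_range, Bool.or_eq_true,
        Nat.beq_eq] at hway
      obtain ⟨j, hj, rfl | rfl⟩ := hway
      · exact ⟨1, one_mem _, j, hj, 1, one_mul 1, by simp, by simp⟩
      · have hp := H.simple_lt hj
        refine ⟨H.ns F j, Subgroup.subset_closure ⟨j, hj, rfl⟩, j, hj, -1, by ring, fun t => ?_,
          fun t => ?_⟩
        · rw [H.ns_conj hj hp, H.simple_reflect hj, (H.node_spec hj).2.2.2.1]
          simp
        · rw [H.ns_conj hj (Cert.negR_lt hp), H.neg_simple_reflect hj, H.sgn_neg_eq hj hp,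
            (H.node_spec hj).2.2.2.1, Cert.negR_negR hp]
          simp
    · simp only [h1, decide_false, cond_false, List.any_eq_true, List.mem_range,
        decide_eq_true_eq] at hway
      obtain ⟨k, hk, hlt⟩ := hway
      obtain ⟨hr', hinv, -, hht, -⟩ := H.reflT_spec hk hr
      obtain ⟨g, hg, j, hj, η, hη, hx, hy⟩ := ih _ (by rw [← hht] at hlt; exact hlt) hr' rfl
      obtain ⟨-, -, hneg', -, -, -, hs1, -⟩ := H.reflT_spec hk hr'
      refine ⟨H.ns F k * g, mul_mem (Subgroup.subset_closure ⟨k, hk, rfl⟩) hg, j, hj,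
        (T.sgn k (T.reflT k r) : F) * η, ?_, fun t => ?_, fun t => ?_⟩
      · rcases hs1 with h | h <;> rw [h] <;> simp [hη]
      · rw [mul_assoc _ g, show H.ns F k * (g * H.x (D.simple j) t) * (H.ns F k * g)⁻¹ =
            H.ns F k * (g * H.x (D.simple j) t * g⁻¹) * (H.ns F k)⁻¹ by group,
          hx, H.ns_conj hk hr', hinv, mul_assoc]
      · rw [mul_assoc _ g, show H.ns F k * (g * H.x (negR D (D.simple j)) t) * (H.ns F k * g)⁻¹ =
            H.ns F k * (g * H.x (negR D (D.simple j)) t * g⁻¹) * (H.ns F k)⁻¹ by group,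
          hy, H.ns_conj hk (Cert.negR_lt hr'), H.sgn_neg_eq hk hr', hneg', hinv, mul_assoc]

theorem pairT_simple {i s : ℕ} (hi : i < D.rank) :
    T.pairT (D.simple i) s = T.cart i s := by
  have h : ∀ L, i < L → L ≤ D.rank →
      ((List.range L).map fun j => T.cor (D.simple i) j * T.cart j s).sum = T.cart i s := by
    intro L
    induction L with
    | zero => intro h; omega
    | succ L ih =>
      intro hiL hLD
      rw [List.range_succ, List.map_append, List.sum_append]
      simp only [List.map_cons, List.map_nil, List.sum_cons, List.sum_nil, add_zero]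
      rw [((H.node_spec hi).2.2.2.2.1 L (by omega)).1]
      rcases eq_or_ne L i with e | e
      · subst e
        have : ((List.range L).map fun j => T.cor (D.simple L) j * T.cart j s).sum = 0 := by
          refine List.sum_eq_zero fun a ha => ?_
          obtain ⟨j, hj, rfl⟩ := List.mem_map.mp ha
          rw [List.mem_range] at hj
          rw [((H.node_spec hi).2.2.2.2.1 j (by omega)).1, if_neg (by omega), zero_mul]
        simp [this]
      · rw [ih (by omega) (by omega), if_neg e]; simp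
  exact h D.rank hi le_rfl

theorem pairT_reflect {i r s : ℕ} (hi : i < D.rank) (hr : r < D.nroots) (hs : s < D.nroots) :
    T.pairT (T.reflT i r) (T.reflT i s) = T.pairT r s := by
  set p := D.simple i with hp
  set A := T.cart i s with hA
  set P := T.pairT r p with hP
  obtain ⟨-, -, -, -, hr2, -⟩ := H.reflT_spec hi hr
  obtain ⟨-, -, -, -, hs2, -⟩ := H.reflT_spec hi hs
  have e2 : T.cart i p = 2 := (H.node_spec hi).2.2.1
  have key : ∀ L, L ≤ D.rank →
      ((List.range L).map fun j => T.cor (T.reflT i r) j * T.cart j (T.reflT i s)).sum =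
        ((List.range L).map fun j => T.cor r j * T.cart j s).sum -
          A * ((List.range L).map fun j => T.cor r j * T.cart j p).sum -
          if i < L then P * (A - A * 2) else 0 := by
    intro L
    induction L with
    | zero => simp
    | succ L ih =>
      intro hL
      simp only [List.range_succ, List.map_append, List.sum_append, List.map_cons, List.map_nil,
        List.sum_cons, List.sum_nil, add_zero]
      rw [ih (by omega), (hr2 L (by omega)).2, (hs2 L (by omega)).1]
      rcases lt_trichotomy i L with h | h | h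
      · rw [if_pos h, if_pos (show i < L + 1 by omega), if_neg (show L ≠ i by omega), ← hA, ← hp]
        ring
      · subst h
        rw [if_neg (lt_irrefl i), if_pos (Nat.lt_succ_self i), if_pos rfl, ← hP, ← hA, ← hp, e2]
        ring
      · rw [if_neg (show ¬ i < L by omega), if_neg (show ¬ i < L + 1 by omega),
          if_neg (show L ≠ i by omega), ← hA, ← hp]
        ring
  rw [pairT, key D.rank le_rfl, if_pos hi, pairT, hP, pairT]
  ring

/-- The diagonal matrix with entries `t ^ ⟨r, s⟩`. -/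
def torus (T : Tab D) (r : ℕ) (t : F) : Matrix D.Idx D.Idx F :=
  Matrix.diagonal (Sum.elim (fun _ => (1 : F)) fun s : Fin D.nroots => t ^ T.pairT r s.val)

theorem hr_simple_torus {i : ℕ} (hi : i < D.rank) {t : F} (ht : t ≠ 0) :
    ((H.hr (D.simple i) t : GL D.Idx F) : Matrix D.Idx D.Idx F) = torus T (D.simple i) t := by
  rw [H.coe_hr_simple hi ht, torus]
  refine congrArg Matrix.diagonal (funext fun b => ?_)
  rcases b with j | s
  · simp [code_inl, T.wt_h (Nat.le_add_right D.nroots j.val)]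
  · simp [code_inr, T.wt_root s.isLt, H.pairT_simple hi]

theorem ns_torus {i r : ℕ} (hi : i < D.rank) (hr : r < D.nroots) (t : F) :
    ((H.ns F i : GL D.Idx F) : Matrix D.Idx D.Idx F) * torus T r t =
      torus T (T.reflT i r) t * (H.ns F i : GL D.Idx F) := by
  have e : ((H.ns F i : GL D.Idx F) : Matrix D.Idx D.Idx F) = T.NX i (1 : Fˣ) := by
    rw [Full.ns, ← H.coe_nr_simple hi, Units.val_one]
  ext x y
  rw [torus, torus, Matrix.mul_diagonal, Matrix.diagonal_mul, e]
  rcases y with j | s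
  · rcases x with k | k
    · simp [mul_comm]
    · rw [H.NX_h hi]
      have : k.val ≠ D.nroots + i := by omega
      simp [code_inr, this]
  · rw [H.NX_root hi]
    split_ifs with h
    · obtain ⟨hk, -⟩ := H.reflT_spec hi s.isLt
      have hx : x = Sum.inr ⟨_, hk⟩ := code_injective (h.trans (code_inr (D := D) ⟨_, hk⟩).symm)
      subst hx
      simp [H.pairT_reflect hi hr s.isLt, mul_comm]
    · simp

theorem nr_sq_simple {i : ℕ} (hi : i < D.rank) :
    H.nr (D.simple i) (-1 : F) * H.nr (D.simple i) (-1) = H.hr (D.simple i) (-1) := rfl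

theorem hr_simple_mul {i : ℕ} (hi : i < D.rank) {t u : F} (ht : t ≠ 0) (hu : u ≠ 0) :
    H.hr (D.simple i) t * H.hr (D.simple i) u = H.hr (D.simple i) (t * u) := by
  apply Units.ext
  rw [Units.val_mul, H.coe_hr_simple hi ht, H.coe_hr_simple hi hu,
    H.coe_hr_simple hi (mul_ne_zero ht hu), Matrix.diagonal_mul_diagonal]
  simp [mul_zpow]

theorem hr_simple_one {i : ℕ} (hi : i < D.rank) : H.hr (D.simple i) (1 : F) = 1 := by
  apply Units.ext
  rw [H.coe_hr_simple hi one_ne_zero]
  simp

theorem ns_eq {i : ℕ} (hi : i < D.rank) :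
    H.nr (D.simple i) (-1 : F) = (H.ns F i)⁻¹ := by rw [Full.ns, H.nr_inv]

theorem nr_simple_eq {i : ℕ} (hi : i < D.rank) (t : F) :
    H.nr (D.simple i) t = H.hr (D.simple i) t * H.ns F i := by
  rw [Full.hr, H.ns_eq hi, inv_mul_cancel_right]

theorem ns_sq {i : ℕ} (hi : i < D.rank) :
    H.ns F i * H.ns F i = H.hr (D.simple i) (-1) := by
  have h1 : H.hr (D.simple i) (-1 : F) = (H.ns F i)⁻¹ * (H.ns F i)⁻¹ := by
    rw [Full.hr, H.ns_eq hi]
  have h2 : H.hr (D.simple i) (-1 : F) * H.hr (D.simple i) (-1) = 1 := by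
    rw [H.hr_simple_mul hi (neg_ne_zero.mpr one_ne_zero) (neg_ne_zero.mpr one_ne_zero),
      neg_one_mul, neg_neg, H.hr_simple_one hi]
  nth_rewrite 2 [h1] at h2
  rw [← _root_.mul_inv_rev, mul_inv_eq_one] at h2
  exact h2.symm

/-- Conjugation carries `h` to `h` when it carries root elements to root elements up to one
sign. -/
theorem hr_of_conj {r r' : ℕ} (g : GL D.Idx F) {η : F} (hη : η = 1 ∨ η = -1)
    (hx : ∀ v, g * H.x r' v * g⁻¹ = H.x r (η * v))
    (hy : ∀ v, g * H.x (negR D r') v * g⁻¹ = H.x (negR D r) (η * v))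
    (hneg : ∀ u : F, u ≠ 0 → H.hr r' (-u) = H.hr r' u * H.hr r' (-1)) {u : F} (hu : u ≠ 0) :
    g * H.hr r' u * g⁻¹ = H.hr r u := by
  have hn : ∀ v : F, g * H.nr r' v * g⁻¹ = H.nr r (η * v) := fun v => by
    unfold nr
    rw [show H.x (negR D r) (-(η * v)⁻¹) = H.x (negR D r) (η * -v⁻¹) by
      rcases hη with h | h <;> subst h <;> simp, ← hx, ← hy]
    group
  have key : ∀ v w : F, g * (H.nr r' v * H.nr r' w) * g⁻¹ = H.nr r (η * v) * H.nr r (η * w) :=
    fun v w => by rw [← hn, ← hn]; group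
  rcases hη with h | h
  · subst h
    rw [Full.hr, key, one_mul, one_mul, Full.hr]
  · subst h
    have e : H.hr r' u = H.nr r' (-u) * H.nr r' 1 := by
      have h1 : H.nr r' (1 : F) = (H.nr r' (-1))⁻¹ := by rw [H.nr_inv, neg_neg]
      have h2 : H.hr r' u * H.hr r' (-1) = H.nr r' (-u) * H.nr r' (-1) := (hneg u hu).symm
      have h3 : H.hr r' (-1 : F) = H.nr r' (-1) * H.nr r' (-1) := rfl
      rw [← eq_mul_inv_iff_mul_eq, h3] at h2
      rw [h2, h1]
      group
    rw [e, key, neg_one_mul, neg_one_mul, neg_neg, Full.hr]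

/-- `h_r(t)` is diagonal, for every root. -/
theorem hr_torus {r : ℕ} (hr : r < D.nroots) {t : F} (ht : t ≠ 0) :
    ((H.hr r t : GL D.Idx F) : Matrix D.Idx D.Idx F) = torus T r t := by
  suffices h : ∀ n, ∀ r : ℕ, (T.ht r).natAbs = n → r < D.nroots → ∀ t : F, t ≠ 0 →
      ((H.hr r t : GL D.Idx F) : Matrix D.Idx D.Idx F) = torus T r t from h _ r rfl hr t ht
  intro n
  induction n using Nat.strong_induction_on with
  | _ n ih =>
    intro r hn hr t ht
    subst hn
    have step : ∀ k < D.rank, ∀ r' : ℕ, r' < D.nroots → T.reflT k r' = r →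
        (∀ u : F, u ≠ 0 → ((H.hr r' u : GL D.Idx F) : Matrix D.Idx D.Idx F) = torus T r' u) →
        ((H.hr r t : GL D.Idx F) : Matrix D.Idx D.Idx F) = torus T r t := by
      intro k hk r' hr' hrr' hdiag
      obtain ⟨-, -, hnegr, -, -, -, hs1, -⟩ := H.reflT_spec hk hr'
      have hη : ((T.sgn k r' : F)) = 1 ∨ ((T.sgn k r' : F)) = -1 := by
        rcases hs1 with h | h <;> rw [h] <;> simp
      rw [← H.hr_of_conj (H.ns F k) hη (fun v => by rw [H.ns_conj hk hr', hrr'])
        (fun v => by rw [H.ns_conj hk (Cert.negR_lt hr'), H.sgn_neg_eq hk hr', hnegr, hrr'])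
        (fun u hu => ?_) ht, Units.val_mul, Units.val_mul, hdiag t ht, H.ns_torus hk hr', hrr',
        mul_assoc, Units.mul_inv, mul_one]
      apply Units.ext
      rw [Units.val_mul, hdiag _ (neg_ne_zero.mpr hu), hdiag u hu,
        hdiag _ (neg_ne_zero.mpr one_ne_zero), torus, torus, torus, Matrix.diagonal_mul_diagonal]
      refine congrArg Matrix.diagonal (funext fun b => ?_)
      rcases b with j | s
      · simp
      · simp [← mul_zpow]
    have hway := H.way r hr
    simp only [chkWay] at hway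
    by_cases h1 : (T.ht r).natAbs = 1
    · simp only [h1, decide_true, cond_true, List.any_eq_true, List.mem_range, Bool.or_eq_true,
        Nat.beq_eq] at hway
      obtain ⟨j, hj, rfl | rfl⟩ := hway
      · exact H.hr_simple_torus hj ht
      · exact step j hj (D.simple j) (H.simple_lt hj) (H.simple_reflect hj)
          fun u hu => H.hr_simple_torus hj hu
    · simp only [h1, decide_false, cond_false, List.any_eq_true, List.mem_range,
        decide_eq_true_eq] at hway
      obtain ⟨k, hk, hlt⟩ := hway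
      obtain ⟨hr', hinv, -, hht, -⟩ := H.reflT_spec hk hr
      have hlt' : (T.ht (T.reflT k r)).natAbs < (T.ht r).natAbs := by rw [hht]; exact hlt
      exact step k hk _ hr' hinv fun u hu => ih _ hlt' _ rfl hr' u hu

theorem hr_mul {r : ℕ} (hr : r < D.nroots) {t u : F} (ht : t ≠ 0) (hu : u ≠ 0) :
    H.hr r t * H.hr r u = H.hr r (t * u) := by
  apply Units.ext
  rw [Units.val_mul, H.hr_torus hr ht, H.hr_torus hr hu, H.hr_torus hr (mul_ne_zero ht hu), torus,
    torus, torus, Matrix.diagonal_mul_diagonal]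
  refine congrArg Matrix.diagonal (funext fun b => ?_)
  rcases b with j | s <;> simp [mul_zpow]

theorem hr_conj_simple {i s : ℕ} (hi : i < D.rank) (hs : s < D.nroots) {t : F} (ht : t ≠ 0)
    (u : F) :
    H.hr (D.simple i) t * H.x s u * (H.hr (D.simple i) t)⁻¹ = H.x s (t ^ T.cart i s * u) := by
  rw [mul_inv_eq_iff_eq_mul]
  apply Units.ext
  have h := H.cert.diag_mul_X (R := F) (H.cert.isAdd_wt hi) (Units.mk0 t ht) hs u
  simp only [Units.val_zpow_eq_zpow_val, Units.val_mk0, T.wt_root hs] at h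
  rw [Units.val_mul, Units.val_mul, H.coe_hr_simple hi ht, H.coe_x hs, H.coe_x hs]
  exact h

end Full

end Tab

end CfsgLib.Chev
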