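import Cfsg.Agent.Chev.InvolTwoMask
import Cfsg.Agent.Chev.Group

/-!
Words in root elements with parameters in the field with four elements, compared through pairs of
bit masks.
-/

set_option autoImplicit false

namespace CfsgLib.Chev.Quart

open Cfsg.Lie Matrix
open Tab (dim appBin bitF_appBin)

variable {D : ChevalleyDatum}

/-- The part of a column of `x_r(τ ^ k)` free of `τ`. -/
def partA (T : Tab D) (r : ℕ) : ℕ → ℕ → ℕ
  | 0, b => T.xMask r b
  | 1, b => vecMask (T.colP 0 r b ++ (T.colP 2 r b ++ T.colP 3 r b))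
  | _, b => vecMask (T.colP 0 r b ++ (T.colP 1 r b ++ T.colP 3 r b))

/-- The coefficient of `τ` in a column of `x_r(τ ^ k)`. -/
def partB (T : Tab D) (r : ℕ) : ℕ → ℕ → ℕ
  | 0, _ => 0
  | _, b => vecMask (T.colP 1 r b ++ T.colP 2 r b)

/-- The sum of the columns selected by a mask. -/
def lin (D : ChevalleyDatum) (f : ℕ → ℕ) (v : ℕ) : ℕ := appBin f 8 0 (v % 2 ^ dim D)

/-- The action of `x_r(τ ^ k)` on a pair of masks. -/
def step (T : Tab D) (p : ℕ × ℕ) (w : ℕ × ℕ) : ℕ × ℕ :=
  (Nat.xor (lin D (partA T p.1 p.2) w.1) (lin D (partB T p.1 p.2) w.2),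
    Nat.xor (Nat.xor (lin D (partB T p.1 p.2) w.1) (lin D (partA T p.1 p.2) w.2))
      (lin D (partB T p.1 p.2) w.2))

/-- A column of a word. -/
def col (T : Tab D) (L : List (ℕ × ℕ)) (b : ℕ) : ℕ × ℕ :=
  L.foldr (fun p w => step T p w) (2 ^ b, 0)

/-- The letters of a word are legitimate. -/
def chkWord (D : ChevalleyDatum) (L : List (ℕ × ℕ)) : Bool :=
  Nat.ble (dim D) 256 && L.all fun p => Nat.blt p.1 D.nroots && Nat.blt p.2 3

/-- Two words agree on every basis vector. -/
def chkEq (T : Tab D) (A B : List (ℕ × ℕ)) : Bool :=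
  chkWord D A && chkWord D B &&
    allBelow (fun b => Nat.beq (col T A b).1 (col T B b).1 && Nat.beq (col T A b).2 (col T B b).2)
      (dim D)

/-- Two words differ at the coordinate `i` of the basis vector `b`. -/
def chkNe (T : Tab D) (A B : List (ℕ × ℕ)) (b i : ℕ) : Bool :=
  chkWord D A && chkWord D B && Nat.blt b (dim D) && Nat.blt i (dim D) &&
    !((col T A b).1.testBit i == (col T B b).1.testBit i &&
      (col T A b).2.testBit i == (col T B b).2.testBit i)

variable {T : Tab D} (G : T.Good) {F : Type*} [Field F] [CharP F 2] (τ : F)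

/-- The value of a word. -/
noncomputable def el (_G : T.Good) (τ : F) (L : List (ℕ × ℕ)) : GL D.Idx F :=
  (L.map fun p => _G.full.x p.1 (τ ^ p.2)).prod

theorem el_append (A B : List (ℕ × ℕ)) : el G τ (A ++ B) = el G τ A * el G τ B := by
  simp [el]

theorem el_nil : el G τ [] = 1 := by simp [el]

theorem el_cons (p : ℕ × ℕ) (A : List (ℕ × ℕ)) :
    el G τ (p :: A) = G.full.x p.1 (τ ^ p.2) * el G τ A := by
  simp [el]

omit G τ in
/-- The vector of a pair of masks. -/
def vec (D : ChevalleyDatum) (τ : F) (w : ℕ × ℕ) (y : D.Idx) : F :=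
  bitF F (w.1.testBit (code y)) + τ * bitF F (w.2.testBit (code y))

omit G τ in
theorem bitF_lin (hd : dim D ≤ 256) (f : ℕ → ℕ) (v i : ℕ) :
    bitF F ((lin D f v).testBit i) =
      ∑ y : D.Idx, bitF F (v.testBit (code y)) * bitF F ((f (code y)).testBit i) := by
  rw [lin, bitF_appBin _ _ _ _ _ (lt_of_lt_of_le (Nat.mod_lt _ (by positivity))
    (Nat.pow_le_pow_right (by omega) hd)),
    sum_code (D := D) fun j => bitF F (v.testBit j) * bitF F ((f j).testBit i),
    ← Finset.sum_subset (Finset.range_subset_range.mpr (show dim D ≤ 2 ^ 8 from hd))]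
  · refine Finset.sum_congr rfl fun b hb => ?_
    rw [Nat.testBit_mod_two_pow, decide_eq_true (Finset.mem_range.mp hb), Bool.true_and, zero_add]
  · intro b _ hb
    rw [Nat.testBit_mod_two_pow, decide_eq_false (by simpa using hb), Bool.false_and]
    simp [bitF]

variable (hτ : τ ^ 2 + τ + 1 = 0)
include hτ

omit G in
theorem tau_sq : τ ^ 2 = τ + 1 := by
  linear_combination hτ - (τ + 1) * CharTwo.two_eq_zero (R := F)

omit G in
theorem parts {r k : ℕ} (hk : k < 3) (x y : D.Idx) :
    T.X F r (τ ^ k) x y = bitF F ((partA T r k (code y)).testBit (code x)) +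
      τ * bitF F ((partB T r k (code y)).testBit (code x)) := by
  have h2 := tau_sq τ hτ
  have hz : (2 : F) = 0 := CharTwo.two_eq_zero
  simp only [Tab.X, Finset.sum_range_succ, Finset.sum_range_zero, zero_add, Matrix.add_apply,
    Matrix.smul_apply, Matrix.map_apply, smul_eq_mul]
  rw [← T.colP_eq 0 r (by omega) x y, ← T.colP_eq 1 r (by omega) x y,
    ← T.colP_eq 2 r (by omega) x y, ← T.colP_eq 3 r (by omega) x y]
  generalize hc0 : ((coeff (T.colP 0 r (code y)) (code x) : ℤ) : F) = c0
  generalize hc1 : ((coeff (T.colP 1 r (code y)) (code x) : ℤ) : F) = c1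
  generalize hc2 : ((coeff (T.colP 2 r (code y)) (code x) : ℤ) : F) = c2
  generalize hc3 : ((coeff (T.colP 3 r (code y)) (code x) : ℤ) : F) = c3
  interval_cases k
  · simp only [partA, partB, Tab.xMask, bitF_vecMask, coeff_append, Int.cast_add, Nat.zero_testBit,
      hc0, hc1, hc2, hc3, pow_zero, one_pow]
    simp [bitF]
    ring
  · simp only [partA, partB, bitF_vecMask, coeff_append, Int.cast_add, hc0, hc1, hc2, hc3]
    linear_combination (c2 + (τ - 1) * c3 + 2 * c3) * h2 + τ * c3 * hz
  · simp only [partA, partB, bitF_vecMask, coeff_append, Int.cast_add, hc0, hc1, hc2, hc3]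
    linear_combination (c1 + (τ ^ 2 + τ + 2) * c2 + (τ ^ 4 + τ ^ 3 + 2 * τ ^ 2 + 3 * τ + 5) * c3)
      * h2 + (c2 * (τ + 1) + c3 * (4 * τ + 2)) * hz

include G in
theorem vec_step {p : ℕ × ℕ} (hp : p.1 < D.nroots) (hk : p.2 < 3) (hd : dim D ≤ 256)
    (w : ℕ × ℕ) : vec D τ (step T p w) =
      ((G.full.x p.1 (τ ^ p.2) : GL D.Idx F) : Matrix D.Idx D.Idx F) *ᵥ vec D τ w := by
  have h2 := tau_sq τ hτ
  funext x
  rw [G.full.coe_x hp]
  simp only [Matrix.mulVec, dotProduct, vec, step, parts τ hτ hk x]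
  rw [show ∀ a b : ℕ, (Nat.xor a b).testBit (code x) = Bool.xor (a.testBit (code x)) (b.testBit (code x))
    from fun a b => Nat.testBit_xor _ _ _, show ∀ a b : ℕ, (Nat.xor a b).testBit (code x) =
      Bool.xor (a.testBit (code x)) (b.testBit (code x)) from fun a b => Nat.testBit_xor _ _ _]
  simp only [Nat.testBit_xor, show ∀ a b : ℕ, (Nat.xor a b).testBit (code x) =
    Bool.xor (a.testBit (code x)) (b.testBit (code x)) from fun a b => Nat.testBit_xor _ _ _,
    bitF_xor, bitF_lin hd, mul_add, Finset.mul_sum, ← Finset.sum_add_distrib]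
  refine Finset.sum_congr rfl fun y _ => ?_
  linear_combination (-(bitF F (w.2.testBit (code y)) *
    bitF F ((partB T p.1 p.2 (code y)).testBit (code x)))) * h2

include G in
theorem vec_col {L : List (ℕ × ℕ)} (hL : chkWord D L = true) (y : D.Idx) :
    vec D τ (col T L (code y)) =
      fun x => ((el G τ L : GL D.Idx F) : Matrix D.Idx D.Idx F) x y := by
  simp only [chkWord, Bool.and_eq_true, Nat.ble_eq, Nat.blt_eq, List.all_eq_true] at hL
  obtain ⟨hd, hL⟩ := hL
  induction L with
  | nil =>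
    funext x
    simp only [col, List.foldr_nil, vec, el_nil G τ, Units.val_one, Matrix.one_apply,
      Nat.testBit_two_pow, Nat.zero_testBit, bitF, decide_eq_true_eq, Bool.false_eq_true, if_false,
      mul_zero, add_zero]
    exact if_congr ⟨fun e => (code_injective e).symm, fun e => e ▸ rfl⟩ rfl rfl
  | cons p L ih =>
    obtain ⟨hp, hk⟩ := hL p (List.mem_cons_self ..)
    rw [show col T (p :: L) (code y) = step T p (col T L (code y)) from rfl,
      vec_step G τ hτ hp hk hd, ih fun q hq => hL q (List.mem_cons_of_mem _ hq), el_cons G τ,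
      Units.val_mul]
    funext x
    simp [Matrix.mulVec, dotProduct, Matrix.mul_apply]

include G in
theorem el_eq {A B : List (ℕ × ℕ)} (h : chkEq T A B = true) : el G τ A = el G τ B := by
  simp only [chkEq, Bool.and_eq_true, allBelow_iff, Nat.beq_eq] at h
  obtain ⟨⟨hA, hB⟩, hall⟩ := h
  refine Units.ext (Matrix.ext fun x y => ?_)
  have e := hall (code y) (code_lt y)
  have h1 := congrFun (vec_col G τ hτ hA y) x
  have h2 := congrFun (vec_col G τ hτ hB y) x
  rw [← h1, ← h2]
  simp only [vec, e.1, e.2]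

omit G in
theorem pair_inj {a b c d : Bool}
    (h : bitF F a + τ * bitF F b = bitF F c + τ * bitF F d) : a = c ∧ b = d := by
  have h0 : τ ≠ 0 := fun e => by rw [e] at hτ; simp at hτ
  have h1 : τ ≠ 1 := fun e => by
    rw [e] at hτ
    exact one_ne_zero (α := F) (by linear_combination hτ - CharTwo.two_eq_zero (R := F))
  have h2 : (1 : F) + τ ≠ 0 := fun e => h1 (by
    linear_combination e - CharTwo.two_eq_zero (R := F))
  have h3 : (1 : F) ≠ τ := h1.symm
  have h4 : (0 : F) ≠ τ := h0.symm
  have h5 : (0 : F) ≠ 1 + τ := h2.symm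
  have h6 : (1 : F) + τ ≠ 1 := fun e => h0 (by linear_combination e)
  have h7 : (1 : F) + τ ≠ τ := fun e => one_ne_zero (α := F) (by linear_combination e)
  have h8 : (1 : F) ≠ 1 + τ := h6.symm
  have h9 : τ ≠ 1 + τ := h7.symm
  cases a <;> cases b <;> cases c <;> cases d <;>
    simp only [bitF, Bool.false_eq_true, if_false, if_true, mul_zero, mul_one, zero_add,
      add_zero] at h ⊢ <;> first
    | exact ⟨rfl, rfl⟩
    | exact absurd h h0 | exact absurd h h1 | exact absurd h h2 | exact absurd h h3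
    | exact absurd h h4 | exact absurd h h5 | exact absurd h h6 | exact absurd h h7
    | exact absurd h h8 | exact absurd h h9
    | exact absurd h zero_ne_one | exact absurd h.symm zero_ne_one | simp

include G in
theorem el_ne {A B : List (ℕ × ℕ)} {b i : ℕ} (h : chkNe T A B b i = true) :
    el G τ A ≠ el G τ B := by
  intro e
  simp only [chkNe, Bool.and_eq_true, Nat.blt_eq, Bool.not_eq_true', Bool.and_eq_false_iff,
    beq_eq_false_iff_ne] at h
  obtain ⟨⟨⟨⟨hA, hB⟩, hb⟩, hi⟩, hne⟩ := h
  obtain ⟨y, rfl⟩ := exists_code (D := D) hb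
  obtain ⟨x, rfl⟩ := exists_code (D := D) hi
  have h1 := congrFun (vec_col G τ hτ hA y) x
  have h2 := congrFun (vec_col G τ hτ hB y) x
  simp only [vec] at h1 h2
  obtain ⟨e1, e2⟩ := pair_inj τ hτ (h1.trans ((congrArg (fun g : GL D.Idx F =>
    (g : Matrix D.Idx D.Idx F) x y) e).trans h2.symm))
  exact hne.elim (· e1) (· e2)

end CfsgLib.Chev.Quart
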