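import Cfsg.Agent.Chev.Sound

/-!
Root elements over an arbitrary commutative ring, as divided power series, and their comparison with
the matrices of the prelude.
-/

set_option autoImplicit false

namespace CfsgLib.Chev

open Cfsg.Lie Matrix

namespace Tab

variable {D : ChevalleyDatum} (T : Tab D)

/-- The divided powers of `ad e_r`, starting from `0`. -/
def P (j r : ℕ) : Matrix D.Idx D.Idx ℤ :=
  if j = 0 then 1 else if j ≤ 3 then T.A j r else 0

theorem P_zero (r : ℕ) : T.P 0 r = 1 := rfl

theorem P_one (r : ℕ) : T.P 1 r = T.A 1 r := rfl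

theorem P_two (r : ℕ) : T.P 2 r = T.A 2 r := rfl

theorem P_three (r : ℕ) : T.P 3 r = T.A 3 r := rfl

theorem P_large {j : ℕ} (hj : 4 ≤ j) (r : ℕ) : T.P j r = 0 := by
  simp [P, show j ≠ 0 by omega, show ¬ j ≤ 3 by omega]

/-- The root element `x_r(t)` over a commutative ring. -/
def X (R : Type*) [CommRing R] (r : ℕ) (t : R) : Matrix D.Idx D.Idx R :=
  ∑ j ∈ Finset.range 4, t ^ j • (T.P j r).map (Int.cast : ℤ → R)

namespace Cert

variable {T} (C : T.Cert)
include C

theorem P_succ {r : ℕ} (hr : r < D.nroots) (j : ℕ) :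
    T.P 1 r * T.P j r = ((j + 1 : ℕ) : ℤ) • T.P (j + 1) r := by
  match j with
  | 0 => rw [T.P_zero, mul_one]; simp
  | 1 => rw [T.P_one, T.P_two, C.A_A1 hr]; rfl
  | 2 => rw [T.P_one, T.P_two, T.P_three, C.A_A2 hr]; rfl
  | 3 => rw [T.P_one, T.P_three, C.A_A3 hr, T.P_large (by omega)]; simp
  | (k + 4) =>
    rw [T.P_large (show 4 ≤ k + 4 by omega) r, T.P_large (show 4 ≤ k + 4 + 1 by omega) r, mul_zero,
      smul_zero]

theorem factorial_P {r : ℕ} (hr : r < D.nroots) (j : ℕ) :
    (j.factorial : ℤ) • T.P j r = T.P 1 r ^ j := by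
  induction j with
  | zero => simp [T.P_zero]
  | succ j ih =>
    rw [pow_succ', ← ih, Matrix.mul_smul, C.P_succ hr j, smul_smul]
    congr 1
    push_cast [Nat.factorial_succ]
    ring

theorem P_mul_P {r : ℕ} (hr : r < D.nroots) (i j : ℕ) :
    T.P i r * T.P j r = ((Nat.choose (i + j) i : ℕ) : ℤ) • T.P (i + j) r := by
  have hne : ((i.factorial * j.factorial : ℕ) : ℤ) ≠ 0 := by
    exact_mod_cast mul_ne_zero i.factorial_ne_zero j.factorial_ne_zero
  apply smul_right_injective _ hne
  show ((i.factorial * j.factorial : ℕ) : ℤ) • (T.P i r * T.P j r) =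
    ((i.factorial * j.factorial : ℕ) : ℤ) • (((Nat.choose (i + j) i : ℕ) : ℤ) • T.P (i + j) r)
  rw [smul_smul, ← Nat.cast_mul, show i.factorial * j.factorial * (i + j).choose i = (i + j).factorial
      from by rw [← Nat.add_choose_mul_factorial_mul_factorial i j, Nat.choose_symm_add]; ring,
    C.factorial_P hr, pow_add, ← C.factorial_P hr, ← C.factorial_P hr, Matrix.smul_mul,
    Matrix.mul_smul, smul_smul, Nat.cast_mul]

theorem X_eq_sum {R : Type*} [CommRing R] (r : ℕ) (t : R) (N : ℕ) (hN : 4 ≤ N) :
    T.X R r t = ∑ j ∈ Finset.range N, t ^ j • (T.P j r).map (Int.cast : ℤ → R) := by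
  refine Finset.sum_subset (fun j hj => Finset.mem_range.mpr (by simp at hj; omega)) fun j _ hj => ?_
  rw [T.P_large (by simp at hj; omega)]
  ext x y
  simp

theorem X_add {R : Type*} [CommRing R] {r : ℕ} (hr : r < D.nroots) (t u : R) :
    T.X R r t * T.X R r u = T.X R r (t + u) := by
  let f : Matrix D.Idx D.Idx ℤ →+* Matrix D.Idx D.Idx R := (Int.castRingHom R).mapMatrix
  have hz : ∀ j, 4 ≤ j → f (T.P j r) = 0 := fun j hj => by rw [T.P_large hj, map_zero]
  have hsm : ∀ (c : ℕ) (M : Matrix D.Idx D.Idx ℤ), f ((c : ℤ) • M) = (c : R) • f M := by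
    intro c M
    ext x y
    show (((c : ℤ) • M) x y : R) = (c : R) * ((M x y : ℤ) : R)
    rw [Matrix.smul_apply, smul_eq_mul, Int.cast_mul, Int.cast_natCast]
  have hprod : ∀ i j, f (T.P i r) * f (T.P j r) = ((i + j).choose i : R) • f (T.P (i + j) r) := by
    intro i j
    rw [← map_mul, C.P_mul_P hr, hsm]
  show (∑ j ∈ Finset.range 4, t ^ j • f (T.P j r)) * (∑ j ∈ Finset.range 4, u ^ j • f (T.P j r)) =
    ∑ j ∈ Finset.range 4, (t + u) ^ j • f (T.P j r)
  simp only [Finset.sum_range_succ, Finset.sum_range_zero, zero_add]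
  simp only [add_mul, mul_add, smul_mul_smul_comm, hprod, smul_smul, Nat.reduceAdd, zero_add,
    hz _ (show 4 ≤ 4 by omega), hz _ (show 4 ≤ 5 by omega), hz _ (show 4 ≤ 6 by omega), smul_zero,
    add_zero]
  norm_num [Nat.choose]
  module

omit C in
theorem X_zero {R : Type*} [CommRing R] (r : ℕ) : T.X R r 0 = 1 := by
  simp [X, Finset.sum_range_succ, T.P_zero]

theorem X_mul_neg {R : Type*} [CommRing R] {r : ℕ} (hr : r < D.nroots) (t : R) :
    T.X R r t * T.X R r (-t) = 1 := by
  rw [C.X_add hr, add_neg_cancel, X_zero]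

theorem X_neg_mul {R : Type*} [CommRing R] {r : ℕ} (hr : r < D.nroots) (t : R) :
    T.X R r (-t) * T.X R r t = 1 := by
  rw [C.X_add hr, neg_add_cancel, X_zero]

omit C in
theorem X_map {R S : Type*} [CommRing R] [CommRing S] (φ : R →+* S) (r : ℕ) (t : R) :
    φ.mapMatrix (T.X R r t) = T.X S r (φ t) := by
  simp only [X, map_sum]
  refine Finset.sum_congr rfl fun j _ => ?_
  ext x y
  simp

/-! ### Comparison with the prelude -/

theorem agree_spec {r : ℕ} (hr : r < D.nroots) :
    ((D.chain.getD r #[]).toList.map fun e => (e.1, e.2.toList)) =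
      (List.range D.nroots).filterMap (fun s =>
        cond (T.ent r s).isEmpty none (some (s, T.ent r s))) ∧
    D.neg r = negR D r ∧
    (D.coroot.getD r #[]).toList = (List.range D.rank).map (T.cor r) ∧
    ∀ i < D.rank, D.cartan i r = T.cart i r := by
  have h := C.agree r hr
  simp only [chkAgree, Bool.and_eq_true, decide_eq_true_eq, allBelow_iff] at h
  exact ⟨h.1.1.1, h.1.1.2, h.1.2, h.2⟩

omit C in
theorem filterMap_range_filter {α : Type*} (g : ℕ → Option (ℕ × α))
    (hg : ∀ a b, g a = some b → b.1 = a) (s : ℕ) :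
    ∀ n, ((List.range n).filterMap g).filter (fun e => e.1 = s) =
      if s < n then (g s).toList else [] := by
  intro n
  induction n with
  | zero => simp
  | succ n ih =>
    rw [List.range_succ, List.filterMap_append, List.filter_append, ih]
    rcases h : g n with _ | b
    · simp only [List.filterMap_cons, List.filterMap_nil, h, List.filter_nil, List.append_nil]
      rcases eq_or_ne s n with e | e
      · subst e; simp [h]
      · exact if_congr (by omega) rfl rfl
    · simp only [List.filterMap_cons, List.filterMap_nil, h]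
      rcases eq_or_ne s n with e | e
      · subst e; simp [h, hg _ _ h]
      · have : b.1 ≠ s := by rw [hg _ _ h]; exact Ne.symm e
        simp [this]
        exact if_congr (by omega) rfl rfl

theorem row_filter {r s : ℕ} (hr : r < D.nroots) (hs : s < D.nroots) :
    ((D.chain.getD r #[]).toList.filter (fun e => e.1 = s)).map (fun e => (e.1, e.2.toList)) =
      if (T.ent r s).isEmpty then [] else [(s, T.ent r s)] := by
  have h := congrArg (List.filter fun e : ℕ × Vec => decide (e.1 = s)) (C.agree_spec hr).1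
  rw [List.filter_map] at h
  rw [filterMap_range_filter _ (fun a b hab => by
    cases hE : (T.ent r a).isEmpty <;> simp [hE] at hab
    rw [← hab]) s, if_pos hs] at h
  refine Eq.trans h ?_
  cases (T.ent r s).isEmpty <;> simp

theorem chainCoeff_eq {r s : ℕ} (hr : r < D.nroots) (hs : s < D.nroots) (u : ℕ) :
    D.chainCoeff r s u =
      (((T.ent r s).zipIdx).filter (fun q => q.1.1 = u)).map fun q => (q.2 + 1, q.1.2) := by
  have h := C.row_filter hr hs
  have e : ∀ L : List (ℕ × Array (ℕ × ℤ)),
      (L.flatMap fun e => ((e.2.toList.zipIdx).filter (fun q => q.1.1 = u)).map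
        fun q => (q.2 + 1, q.1.2)) =
      ((L.map fun e => (e.1, e.2.toList)).flatMap fun e => ((e.2.zipIdx).filter (fun q => q.1.1 = u)).map
        fun q => (q.2 + 1, q.1.2)) := fun L => by rw [List.flatMap_map]
  rw [ChevalleyDatum.chainCoeff, e, h]
  rcases T.ent r s with _ | ⟨a, rest⟩ <;> simp

theorem chainEntry_eq {r s : ℕ} (hr : r < D.nroots) (hs : s < D.nroots) :
    D.chainEntry r s = T.ent r s := by
  have h := C.row_filter hr hs
  have hfind : D.chainEntry r s =
      match ((D.chain.getD r #[]).toList.filter (fun e => decide (e.1 = s))).head? with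
      | none => []
      | some e => e.2.toList := by
    rw [List.head?_filter]; rfl
  rw [hfind]
  rcases hf : (D.chain.getD r #[]).toList.filter (fun e => decide (e.1 = s)) with _ | ⟨a, L⟩
  · rw [hf] at h
    rcases hE : T.ent r s with _ | ⟨b, rest⟩
    · rw [hf]; rfl
    · simp [hE] at h
  · rw [hf] at h
    rcases hE : T.ent r s with _ | ⟨b, rest⟩
    · simp [hE] at h
    · simp only [hE, List.isEmpty_cons, Bool.false_eq_true, if_false, List.map_cons,
        List.cons.injEq, Prod.mk.injEq] at h
      rw [hf]; exact h.1.2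

theorem neg_eq {r : ℕ} (hr : r < D.nroots) : D.neg r = negR D r := (C.agree_spec hr).2.1

theorem cartan_eq {i r : ℕ} (hi : i < D.rank) (hr : r < D.nroots) : D.cartan i r = T.cart i r :=
  (C.agree_spec hr).2.2.2 i hi

theorem coroot_eq {i r : ℕ} (hi : i < D.rank) (hr : r < D.nroots) :
    (D.coroot.getD r #[]).getD i 0 = T.cor r i := by
  have h := (C.agree_spec hr).2.2.1
  rw [Array.getD_eq_getD_getElem?, ← Array.getElem?_toList, h]
  simp [hi]

theorem xMat_eq {F : Type*} [Field F] (r : Fin D.nroots) (t : F) :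
    D.xMat F r t = T.X F r.val t := by
  have hne := C.negR_ne r.isLt
  have hnr : negR D r.val < D.nroots := negR_lt r.isLt
  ext row col
  have hX : T.X F r.val t row col =
      (if row = col then (1 : F) else 0) +
        t * ((coeff (T.colA 1 r (code col)) (code row) : ℤ) : F) +
        t ^ 2 * ((coeff (T.colA 2 r (code col)) (code row) : ℤ) : F) +
        t ^ 3 * ((coeff (T.colA 3 r (code col)) (code row) : ℤ) : F) := by
    simp [X, Finset.sum_range_succ, Matrix.add_apply, T.P_zero, T.P_one, T.P_two, T.P_three, A,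
      matOf_apply, Matrix.one_apply]
  rw [hX]
  rcases col with i | s
  · simp only [ChevalleyDatum.xMat, Matrix.of_apply, code_inl]
    rw [T.colA_h 1 r _ (Nat.le_add_right _ _), T.colA_h 2 r _ (Nat.le_add_right _ _),
      T.colA_h 3 r _ (Nat.le_add_right _ _), Nat.add_sub_cancel_left]
    rcases row with i' | u
    · have : r.val ≠ D.nroots + i'.val := by omega
      simp [coeff_cons, coeff_nil, code_inl, this]
    · have hc := C.cartan_eq i.isLt r.isLt
      rw [ChevalleyDatum.cartan] at hc
      simp only [hc, coeff_cons, coeff_nil, code_inr, add_zero]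
      rcases eq_or_ne u r with h | h
      · subst h; simp [coeff_cons, coeff_nil, mul_comm]
      · simp [h, coeff_cons, coeff_nil, Fin.val_ne_of_ne (Ne.symm h)]
  · simp only [ChevalleyDatum.xMat, Matrix.of_apply, code_inr]
    rcases eq_or_ne s r with hsr | hsr
    · subst hsr
      rw [if_pos rfl, T.colA_self 1 _ s.isLt, T.colA_self 2 _ s.isLt, T.colA_self 3 _ s.isLt]
      rcases row with i' | u <;> simp [coeff_nil]
    have hsv : s.val ≠ r.val := Fin.val_ne_of_ne hsr
    rw [if_neg hsr]
    have hneg : D.negIdx.getD r.val 0 = negR D r.val := C.neg_eq r.isLt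
    rw [hneg]
    rcases eq_or_ne s.val (negR D r.val) with hsn | hsn
    · rw [if_pos hsn, hsn, T.colA_neg 1 _ r.isLt hne, T.colA_neg 2 _ r.isLt hne,
        T.colA_neg 3 _ r.isLt hne]
      simp only [if_true, show (2 : ℕ) ≠ 1 by decide, show (3 : ℕ) ≠ 1 by decide,
        show (3 : ℕ) ≠ 2 by decide, if_false, coeff_cons, coeff_nil, add_zero]
      rcases row with i' | u
      · have : r.val ≠ D.nroots + i'.val := by omega
        rw [code_inl, T.coeff_corVec _ _ i'.isLt]
        simp only [C.coroot_eq i'.isLt r.isLt]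
        simp [this, mul_comm]
      · rw [code_inr, T.coeff_corVec_root _ _ u.isLt]
        rcases eq_or_ne u s with hus | hus
        · subst hus; simp [Ne.symm hsv]
        rcases eq_or_ne u r with hur | hur
        · subst hur; simp [hus]
        · simp [hus, hur, Fin.val_ne_of_ne (Ne.symm hur)]
    · rw [if_neg hsn, T.colA_chain 1 r s s.isLt hsv hsn, T.colA_chain 2 r s s.isLt hsv hsn,
        T.colA_chain 3 r s s.isLt hsv hsn]
      rcases row with i' | u
      · have hz : ∀ j, coeff (((T.ent r.val s.val).drop j).take 1) (D.nroots + i'.val) = 0 := by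
          intro j
          refine coeff_eq_zero_of_forall _ _ fun p hp e => ?_
          have := (C.ent_spec r.isLt s.isLt (mem_drop_take hp)).1
          omega
        simp only [code_inl, hz]
        simp
      · simp only [code_inr, C.chainCoeff_eq r.isLt s.isLt, List.map_map]
        have hlen := C.ent_length r.isLt s.isLt
        have hd : (if (Sum.inr u : D.Idx) = Sum.inr s then (1 : F) else 0) = if u = s then 1 else 0 :=
          if_congr (by simp) rfl rfl
        rw [hd]
        rcases hent : T.ent r.val s.val with _ | ⟨a, _ | ⟨b, _ | ⟨c, _ | ⟨d, rest⟩⟩⟩⟩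
        · simp [coeff_nil]
        · by_cases h1 : a.1 = u.val <;> simp [List.zipIdx, coeff_cons, coeff_nil, h1, mul_comm]
        · by_cases h1 : a.1 = u.val <;> by_cases h2 : b.1 = u.val <;>
            simp [List.zipIdx, coeff_cons, coeff_nil, h1, h2, mul_comm] <;> ring
        · by_cases h1 : a.1 = u.val <;> by_cases h2 : b.1 = u.val <;> by_cases h3 : c.1 = u.val <;>
            simp [List.zipIdx, coeff_cons, coeff_nil, h1, h2, h3, mul_comm] <;> ring
        · rw [hent] at hlen; simp only [List.length_cons] at hlen; omega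

theorem x_eq {F : Type*} [Field F] {r : ℕ} (hr : r < D.nroots) (t : F) :
    D.x F r t = T.X F r t := by
  rw [ChevalleyDatum.x, dif_pos hr, C.xMat_eq ⟨r, hr⟩ t]

end Cert

end Tab

end CfsgLib.Chev
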