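import Cfsg.Agent.Chev.Unipotent

/-!
The diagonal subgroup as the image of `(Fˣ)^rank`, its action on root elements, and triangularity
with respect to the height grading.
-/

set_option autoImplicit false

namespace CfsgLib.Chev

open Cfsg.Lie Matrix
open scoped MatrixGroups

namespace Tab

variable {D : ChevalleyDatum}

theorem zpow_sum_eq_prod {M : Type*} [CommGroup M] (u : M) {ι : Type*} (s : Finset ι) (f : ι → ℤ) :
    u ^ (∑ i ∈ s, f i) = ∏ i ∈ s, u ^ f i := by
  classical
  induction s using Finset.induction with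
  | empty => simp
  | insert a s ha ih => rw [Finset.sum_insert ha, Finset.prod_insert ha, _root_.zpow_add, ih]

theorem list_sum_range {M : Type*} [AddCommMonoid M] (f : ℕ → M) (n : ℕ) :
    ((List.range n).map f).sum = ∑ i : Fin n, f i := by
  induction n with
  | zero => simp
  | succ n ih => simp [List.range_succ, Fin.sum_univ_castSucc, ih]

theorem pairT_eq_sum (T : Tab D) (r s : ℕ) :
    T.pairT r s = ∑ i : Fin D.rank, T.cor r i * T.cart i s := by
  rw [pairT]; exact list_sum_range (fun j => T.cor r j * T.cart j s) _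

/-- The character of a root on the torus. -/
def chi (T : Tab D) {F : Type*} [Field F] (s : ℕ) : (Fin D.rank → Fˣ) →* Fˣ where
  toFun c := ∏ i, c i ^ T.cart i s
  map_one' := by simp
  map_mul' c d := by simp [mul_zpow, Finset.prod_mul_distrib]

/-- The diagonal entries of a torus element. -/
def diagChar (T : Tab D) {F : Type*} [Field F] : (Fin D.rank → Fˣ) →* (D.Idx → Fˣ) :=
  Pi.monoidHom fun b => Sum.elim (fun _ => 1) (fun s => T.chi s.val) b

/-- The torus map. -/
def hT (T : Tab D) (F : Type*) [Field F] : (Fin D.rank → Fˣ) →* GL D.Idx F :=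
  ((Units.map (Matrix.diagonalRingHom D.Idx F).toMonoidHom).comp
    MulEquiv.piUnits.symm.toMonoidHom).comp T.diagChar

theorem coe_hT (T : Tab D) {F : Type*} [Field F] (c : Fin D.rank → Fˣ) :
    ((T.hT F c : GL D.Idx F) : Matrix D.Idx D.Idx F) =
      Matrix.diagonal (Sum.elim (fun _ => (1 : F)) fun s : Fin D.nroots => (T.chi s.val c : F)) := by
  show Matrix.diagonal (fun b => ((T.diagChar c b : Fˣ) : F)) = _
  refine congrArg Matrix.diagonal (funext fun b => ?_)
  rcases b with j | s <;> rfl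

/-- The diagonal of `GL`. -/
def monoDiag {D : ChevalleyDatum} {F : Type*} [Field F] (g : GL D.Idx F) : Prop :=
  ∀ x y : D.Idx, x ≠ y → (g : Matrix D.Idx D.Idx F) x y = 0

namespace Full

variable {T : Tab D} (H : T.Full) {F : Type*} [Field F]
include H

theorem hr_eq_hT {r : ℕ} (hr : r < D.nroots) {t : F} (ht : t ≠ 0) :
    H.hr r t = T.hT F (fun i => Units.mk0 t ht ^ T.cor r i) := by
  apply Units.ext
  rw [H.hr_torus hr ht, T.coe_hT, torus]
  refine congrArg Matrix.diagonal (funext fun b => ?_)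
  rcases b with j | s
  · rfl
  · have : T.chi (F := F) s.val (fun i => Units.mk0 t ht ^ T.cor r i) =
        Units.mk0 t ht ^ T.pairT r s := by
      rw [pairT_eq_sum, zpow_sum_eq_prod]
      simp only [chi, MonoidHom.coe_mk, OneHom.coe_mk, ← _root_.zpow_mul]
    simp [this]

theorem hT_single {i : Fin D.rank} (u : Fˣ) :
    T.hT F (Pi.mulSingle i u) = H.hr (D.simple i) (u : F) := by
  rw [H.hr_eq_hT (H.simple_lt i.isLt) u.ne_zero]
  refine congrArg (T.hT F) (funext fun j => ?_)
  rw [((H.node_spec i.isLt).2.2.2.2.1 j j.isLt).1]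
  rcases eq_or_ne i j with e | e
  · subst e; simp [Units.mk0]
  · simp [e.symm, Fin.val_ne_of_ne e, Fin.val_ne_of_ne e.symm]

theorem hT_induction {P : (Fin D.rank → Fˣ) → Prop} (c : Fin D.rank → Fˣ) (h1 : P 1)
    (hm : ∀ a b, P a → P b → P (a * b)) (hs : ∀ i u, P (Pi.mulSingle i u)) : P c := by
  rw [← Finset.univ_prod_mulSingle c]
  exact Finset.prod_induction _ P hm h1 fun i _ => hs i _

theorem hT_conj {s : ℕ} (hs : s < D.nroots) (c : Fin D.rank → Fˣ) (t : F) :
    T.hT F c * H.x s t * (T.hT F c)⁻¹ = H.x s ((T.chi (F := F) s c : F) * t) := by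
  revert t
  induction c using H.hT_induction with
  | h1 => intro t; simp
  | hm a b ha hb =>
    intro t
    rw [map_mul, show T.hT F a * T.hT F b * H.x s t * (T.hT F a * T.hT F b)⁻¹ =
      T.hT F a * (T.hT F b * H.x s t * (T.hT F b)⁻¹) * (T.hT F a)⁻¹ by group, hb, ha, map_mul,
      Units.val_mul, mul_assoc]
  | hs i u =>
    intro t
    rw [H.hT_single, H.hr_conj_simple i.isLt hs u.ne_zero]
    congr 2
    have : T.chi (F := F) s (Pi.mulSingle i u) = u ^ T.cart i s := by
      show ∏ j, (Pi.mulSingle i u : Fin D.rank → Fˣ) j ^ T.cart j s = _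
      rw [Finset.prod_eq_single i (fun j _ hj => by simp [hj]) (by simp)]
      simp
    rw [this, Units.val_zpow_eq_zpow_val]

theorem diagonal_eq_range : D.diagonalSubgroup F = (T.hT F).range := by
  apply le_antisymm
  · rw [ChevalleyDatum.diagonalSubgroup, Subgroup.closure_le]
    rintro g ⟨r, t, hr, ht, hg⟩
    rw [← H.coe_hr r hr t] at hg
    exact ⟨_, ((Units.ext hg).trans (H.hr_eq_hT hr ht)).symm⟩
  · rintro g ⟨c, rfl⟩
    induction c using H.hT_induction with
    | h1 => rw [map_one]; exact one_mem _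
    | hm a b ha hb => rw [map_mul]; exact mul_mem ha hb
    | hs i u =>
      refine Subgroup.subset_closure ⟨D.simple i, u, H.simple_lt i.isLt, u.ne_zero, ?_⟩
      rw [H.hT_single, H.coe_hr _ (H.simple_lt i.isLt)]

theorem hr_mem {r : ℕ} (hr : r < D.nroots) {t : F} (ht : t ≠ 0) :
    H.hr r t ∈ (T.hT F).range :=
  ⟨_, (H.hr_eq_hT hr ht).symm⟩

theorem chi_reflT {i s : ℕ} (hi : i < D.rank) (hs : s < D.nroots) (c : Fin D.rank → Fˣ) :
    T.chi (F := F) (T.reflT i s) c =
      T.chi s c * (T.chi (D.simple i) c) ^ (-(T.cart i s)) := by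
  simp only [chi, MonoidHom.coe_mk, OneHom.coe_mk]
  rw [← Finset.prod_zpow, ← Finset.prod_mul_distrib]
  refine Finset.prod_congr rfl fun j _ => ?_
  rw [← _root_.zpow_mul, ← _root_.zpow_add, ((H.reflT_spec hi hs).2.2.2.2.1 j j.isLt).1]
  ring_nf

theorem hT_eq_one_iff (c : Fin D.rank → Fˣ) :
    T.hT F c = 1 ↔ ∀ j < D.rank, T.chi (F := F) (D.simple j) c = 1 := by
  constructor
  · intro h j hj
    have h1 : ((T.hT F c : GL D.Idx F) : Matrix D.Idx D.Idx F) = 1 := by rw [h]; rfl
    have h2 := congrFun (congrFun h1 (Sum.inr ⟨_, H.simple_lt hj⟩))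
      (Sum.inr ⟨_, H.simple_lt hj⟩)
    rw [T.coe_hT] at h2
    simpa using h2
  · intro h
    suffices hall : ∀ n, ∀ s, (T.ht s).natAbs = n → s < D.nroots → T.chi (F := F) s c = 1 by
      apply Units.ext
      rw [T.coe_hT, Units.val_one, ← Matrix.diagonal_one]
      refine congrArg Matrix.diagonal (funext fun b => ?_)
      rcases b with j | s
      · rfl
      · simp [hall _ s.val rfl s.isLt]
    intro n
    induction n using Nat.strong_induction_on with
    | _ n ih =>
      intro s hn hs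
      subst hn
      have hway := H.way s hs
      simp only [chkWay] at hway
      by_cases h1 : (T.ht s).natAbs = 1
      · simp only [h1, decide_true, cond_true, List.any_eq_true, List.mem_range, Bool.or_eq_true,
          Nat.beq_eq] at hway
        obtain ⟨j, hj, rfl | rfl⟩ := hway
        · exact h j hj
        · rw [← H.simple_reflect hj, H.chi_reflT hj (H.simple_lt hj), h j hj, one_mul,
            _root_.one_zpow]
      · simp only [h1, decide_false, cond_false, List.any_eq_true, List.mem_range,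
          decide_eq_true_eq] at hway
        obtain ⟨k, hk, hlt⟩ := hway
        obtain ⟨hs', hinv, -, hht, -⟩ := H.reflT_spec hk hs
        have h' := ih _ (by rw [← hht] at hlt; exact hlt) _ rfl hs'
        rw [H.chi_reflT hk hs, h k hk, _root_.one_zpow, mul_one] at h'
        exact h'

theorem diagonal_isMulCommutative (a b : GL D.Idx F) (ha : a ∈ D.diagonalSubgroup F)
    (hb : b ∈ D.diagonalSubgroup F) : a * b = b * a := by
  rw [H.diagonal_eq_range] at ha hb
  obtain ⟨x, rfl⟩ := ha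
  obtain ⟨y, rfl⟩ := hb
  rw [← map_mul, ← map_mul, mul_comm]

end Full

/-- Off the identity, the matrix only raises (or only lowers) the height grading. -/
def GrUni (T : Tab D) {F : Type*} [Field F] (σ : ℤ) (M : Matrix D.Idx D.Idx F) : Prop :=
  ∀ x y, σ * T.gr (code x) ≤ σ * T.gr (code y) → M x y = (1 : Matrix D.Idx D.Idx F) x y

theorem GrUni.mul {T : Tab D} {F : Type*} [Field F] {σ : ℤ} {M N : Matrix D.Idx D.Idx F}
    (hM : T.GrUni σ M) (hN : T.GrUni σ N) :
    T.GrUni σ (M * N) := by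
  intro x y h
  rw [Matrix.mul_apply, Finset.sum_eq_single x]
  · rw [hM x x le_rfl, hN x y h, Matrix.one_apply_eq, one_mul]
  · intro z _ hz
    by_cases hxz : σ * T.gr (code x) ≤ σ * T.gr (code z)
    · rw [hM x z hxz, Matrix.one_apply_ne (Ne.symm hz), zero_mul]
    · rw [hN z y (by linarith)]
      rcases eq_or_ne z y with e | e
      · subst e; omega
      · rw [Matrix.one_apply_ne e, mul_zero]
  · simp

namespace Good

variable {T : Tab D} (G : T.Good) {F : Type*} [Field F]
include G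

/-- A set of roots stable under the torus. -/
theorem hT_conj_US (S : Set ℕ) (hS : ∀ s ∈ S, s < D.nroots) (c : Fin D.rank → Fˣ)
    {u : GL D.Idx F} (hu : u ∈ G.US F S) : T.hT F c * u * (T.hT F c)⁻¹ ∈ G.US F S := by
  induction hu using Subgroup.closure_induction with
  | mem u hu =>
    obtain ⟨r, hr, t, rfl⟩ := hu
    rw [G.full.hT_conj (hS r hr)]
    exact G.x_mem_US hr _
  | one => simp
  | mul a b _ _ ha hb =>
    rw [show T.hT F c * (a * b) * (T.hT F c)⁻¹ =
      T.hT F c * a * (T.hT F c)⁻¹ * (T.hT F c * b * (T.hT F c)⁻¹) by group]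
    exact mul_mem ha hb
  | inv a _ ha =>
    rw [show T.hT F c * a⁻¹ * (T.hT F c)⁻¹ = (T.hT F c * a * (T.hT F c)⁻¹)⁻¹ by group]
    exact inv_mem ha

theorem hT_normalizes (S : Set ℕ) (hS : ∀ s ∈ S, s < D.nroots) :
    D.diagonalSubgroup F ≤ Subgroup.normalizer (G.US F S : Set (GL D.Idx F)) := by
  rw [G.full.diagonal_eq_range]
  rintro g ⟨c, rfl⟩
  rw [Subgroup.mem_normalizer_iff]
  intro u
  refine ⟨G.hT_conj_US S hS c, fun h => ?_⟩
  have := G.hT_conj_US S hS c⁻¹ h
  simpa [mul_assoc] using this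

theorem grUni_x {r : ℕ} (hr : r < D.nroots) {σ : ℤ} (hσ : 0 < σ * T.ht r) (t : F) :
    T.GrUni σ ((G.full.x r t : GL D.Idx F) : Matrix D.Idx D.Idx F) := by
  intro x y h
  rw [G.full.coe_x hr]
  have hz : ∀ m, 1 ≤ m → m ≤ 3 → T.P m r x y = 0 := by
    intro m h1 h3
    by_contra hne
    simp only [P, show m ≠ 0 by omega, h3, if_false, if_true] at hne
    have e := G.full.cert.A_hom G.full.cert.isAdd_gr h1 hr x y hne
    rw [T.gr_root hr] at e
    rw [e] at h
    have : 0 < (m : ℤ) * (σ * T.ht r) := mul_pos (by exact_mod_cast h1) hσ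
    nlinarith
  simp [X, Finset.sum_range_succ, Matrix.add_apply, T.P_zero, hz 1 le_rfl (by omega),
    hz 2 (by omega) (by omega), hz 3 (by omega) le_rfl, Matrix.one_apply]

theorem grUni_US {S : Set ℕ} {σ : ℤ} (hS : ∀ r ∈ S, r < D.nroots ∧ 0 < σ * T.ht r)
    {g : GL D.Idx F} (hg : g ∈ G.US F S) : T.GrUni σ (g : Matrix D.Idx D.Idx F) := by
  suffices h : T.GrUni σ (g : Matrix D.Idx D.Idx F) ∧
      T.GrUni σ ((g⁻¹ : GL D.Idx F) : Matrix D.Idx D.Idx F) from h.1
  induction hg using Subgroup.closure_induction with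
  | mem g hg =>
    obtain ⟨r, hr, t, rfl⟩ := hg
    rw [G.full.x_inv]
    exact ⟨G.grUni_x (hS r hr).1 (hS r hr).2 t, G.grUni_x (hS r hr).1 (hS r hr).2 _⟩
  | one => simp [GrUni]
  | mul a b _ _ ha hb =>
    rw [_root_.mul_inv_rev, Units.val_mul, Units.val_mul]
    exact ⟨GrUni.mul ha.1 hb.1, GrUni.mul hb.2 ha.2⟩
  | inv a _ ha => rw [inv_inv]; exact ⟨ha.2, ha.1⟩

theorem grUni_pos {g : GL D.Idx F} (hg : g ∈ D.posUnipotent F) :
    T.GrUni 1 (g : Matrix D.Idx D.Idx F) := by
  rw [G.posUnipotent_eq] at hg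
  exact G.grUni_US (fun r (hr : IsPos D r) => ⟨hr.1, by
    rw [one_mul]; exact (G.full.cert.root_spec hr.1).2.1.mpr hr.2⟩) hg

theorem grUni_neg {g : GL D.Idx F} (hg : g ∈ D.negUnipotent F) :
    T.GrUni (-1) (g : Matrix D.Idx D.Idx F) := by
  rw [G.negUnipotent_eq] at hg
  refine G.grUni_US (fun r (hr : r < D.nroots ∧ _) => ⟨hr.1, ?_⟩) hg
  obtain ⟨h0, h1, -⟩ := G.full.cert.root_spec hr.1
  have : ¬ 0 < T.ht r := fun h => hr.2 (h1.mp h)
  omega

theorem mul_hT_apply (u : GL D.Idx F) (c : Fin D.rank → Fˣ) (x y : D.Idx) :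
    ((u * T.hT F c : GL D.Idx F) : Matrix D.Idx D.Idx F) x y =
      (u : Matrix D.Idx D.Idx F) x y *
        ((T.hT F c : GL D.Idx F) : Matrix D.Idx D.Idx F) y y := by
  rw [Units.val_mul, T.coe_hT, Matrix.mul_diagonal, Matrix.diagonal_apply_eq]

theorem hT_eq_one_of_grUni {σ : ℤ} {c : Fin D.rank → Fˣ}
    (h : T.GrUni σ ((T.hT F c : GL D.Idx F) : Matrix D.Idx D.Idx F)) : T.hT F c = 1 := by
  apply Units.ext
  rw [Units.val_one]
  ext x y
  rcases eq_or_ne x y with e | e
  · subst e; exact h x x le_rfl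
  · rw [T.coe_hT, Matrix.diagonal_apply_ne _ e, Matrix.one_apply_ne e]

theorem pos_inf_diagonal : D.posUnipotent F ⊓ D.diagonalSubgroup F = ⊥ := by
  rw [eq_bot_iff]
  rintro g ⟨hu, hh⟩
  rw [SetLike.mem_coe, G.full.diagonal_eq_range] at hh
  obtain ⟨c, rfl⟩ := hh
  exact G.hT_eq_one_of_grUni (G.grUni_pos hu)

theorem neg_inf_diagonal : D.negUnipotent F ⊓ D.diagonalSubgroup F = ⊥ := by
  rw [eq_bot_iff]
  rintro g ⟨hu, hh⟩
  rw [SetLike.mem_coe, G.full.diagonal_eq_range] at hh
  obtain ⟨c, rfl⟩ := hh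
  exact G.hT_eq_one_of_grUni (G.grUni_neg hu)

theorem diagonal_le_normalizer_pos :
    D.diagonalSubgroup F ≤ Subgroup.normalizer (D.posUnipotent F : Set (GL D.Idx F)) := by
  rw [G.posUnipotent_eq]
  exact G.hT_normalizes _ fun s hs => hs.1

theorem diagonal_le_normalizer_neg :
    D.diagonalSubgroup F ≤ Subgroup.normalizer (D.negUnipotent F : Set (GL D.Idx F)) := by
  rw [G.negUnipotent_eq]
  exact G.hT_normalizes _ fun s hs => hs.1

theorem mem_borel {g : GL D.Idx F} :
    g ∈ D.borelSubgroup F ↔ ∃ u ∈ D.posUnipotent F, ∃ c, g = u * T.hT F c := by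
  rw [ChevalleyDatum.borelSubgroup, ← SetLike.mem_coe,
    Subgroup.coe_mul_of_right_le_normalizer_left _ _ G.diagonal_le_normalizer_pos, Set.mem_mul]
  simp only [SetLike.mem_coe, G.full.diagonal_eq_range, MonoidHom.mem_range]
  exact ⟨fun ⟨u, hu, _, ⟨c, rfl⟩, e⟩ => ⟨u, hu, c, e.symm⟩,
    fun ⟨u, hu, c, e⟩ => ⟨u, hu, _, ⟨c, rfl⟩, e.symm⟩⟩

theorem eq_one_of_borel_neg {u v : GL D.Idx F} (hu : u ∈ D.posUnipotent F)
    (hv : v ∈ D.negUnipotent F) {c : Fin D.rank → Fˣ} (h : u * T.hT F c = v) : v = 1 := by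
  apply Units.ext
  rw [Units.val_one]
  ext x y
  rcases le_or_gt (T.gr (code y)) (T.gr (code x)) with hle | hlt
  · exact G.grUni_neg hv x y (by linarith)
  · rw [← h, G.mul_hT_apply, G.grUni_pos hu x y (by linarith),
      Matrix.one_apply_ne (fun e => by subst e; exact lt_irrefl _ hlt), zero_mul]

theorem isSolvable_borel : Group.IsSolvable (D.borelSubgroup F) := by
  have hle : D.posUnipotent F ≤ D.borelSubgroup F := le_sup_left
  have hnorm : ((D.posUnipotent F).subgroupOf (D.borelSubgroup F)).Normal := by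
    rw [Subgroup.normal_subgroupOf_iff_le_normalizer hle, ChevalleyDatum.borelSubgroup, sup_le_iff]
    exact ⟨Subgroup.le_normalizer, G.diagonal_le_normalizer_pos⟩
  set N := (D.posUnipotent F).subgroupOf (D.borelSubgroup F) with hN
  have : IsMulCommutative (D.borelSubgroup F ⧸ N) := by
    refine ⟨⟨fun a b => ?_⟩⟩
    induction a using QuotientGroup.induction_on with | _ a => ?_
    induction b using QuotientGroup.induction_on with | _ b => ?_
    obtain ⟨a, ha⟩ := a
    obtain ⟨b, hb⟩ := b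
    obtain ⟨u, hu, c, rfl⟩ := G.mem_borel.mp ha
    obtain ⟨v, hv, d, rfl⟩ := G.mem_borel.mp hb
    rw [← QuotientGroup.mk_mul, ← QuotientGroup.mk_mul, QuotientGroup.eq, Subgroup.mem_subgroupOf]
    have n1 : ∀ w e, w ∈ D.posUnipotent F → T.hT F e * w * (T.hT F e)⁻¹ ∈ D.posUnipotent F := by
      intro w e hw
      rw [G.posUnipotent_eq] at hw ⊢
      exact G.hT_conj_US _ (fun s hs => hs.1) e hw
    have hcd : T.hT F c * T.hT F d = T.hT F d * T.hT F c := by rw [← map_mul, mul_comm, map_mul]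
    have key : T.hT F (c * d)⁻¹ * ((T.hT F c * v⁻¹ * (T.hT F c)⁻¹) * u⁻¹ *
        (v * (T.hT F d * u * (T.hT F d)⁻¹))) * (T.hT F (c * d)⁻¹)⁻¹ ∈ D.posUnipotent F :=
      n1 _ _ (mul_mem (mul_mem (n1 _ _ (inv_mem hv)) (inv_mem hu)) (mul_mem hv (n1 _ _ hu)))
    show (u * T.hT F c * (v * T.hT F d))⁻¹ * (v * T.hT F d * (u * T.hT F c)) ∈ D.posUnipotent F
    simp only [map_inv, map_mul, inv_inv] at key
    rw [_root_.mul_inv_rev] at key
    rw [hcd] at key
    simpa only [mul_assoc, _root_.mul_inv_rev, inv_mul_cancel_left, mul_inv_cancel_left] using key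
  have := G.isNilpotent_US (F := F)
  rw [← G.posUnipotent_eq] at this
  have : Group.IsSolvable N :=
    solvable_of_solvable_injective (f := (Subgroup.subgroupOfEquivOfLe hle).toMonoidHom)
      (MulEquiv.injective _)
  have : Group.IsSolvable (D.borelSubgroup F ⧸ N) :=
    Group.isSolvable_of_comm fun a b => mul_comm' a b
  exact solvable_of_ker_le_range N.subtype (QuotientGroup.mk' N) (by simp)

end Good

end Tab

end CfsgLib.Chev
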