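import Cfsg.Agent.Chev.E6TwOut
import Cfsg.Agent.Chev.FoldE6
import Cfsg.Agent.Chev.SimpleData
import Cfsg.Agent.Chev.RadCent
import Cfsg.Agent.Chev.Card
import Cfsg.Agent.ChevAut.CoefChar

/-!
Three classes of subgroups `F₄(2)` in `²E₆(2)`.
-/

set_option autoImplicit false
set_option linter.unusedSectionVars false

namespace CfsgLib.Chev.E6ThreeF4

open Cfsg.Lie Matrix Tab E6Tw
open scoped MatrixGroups

/-! ### The coordinates at the fundamental roots -/

/-- The fundamental roots are not keys of the commutator formula. -/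
def chkKeys : Bool :=
  (List.range 72).all fun r => (List.range 72).all fun s =>
    !(Nat.ble 72 (2 * r) && Nat.ble 72 (2 * s)) ||
      (E6Data.tab.commT r s).all fun c =>
        (List.range 6).all fun i => !(Nat.beq c.1 (chevE6.simple i))

theorem chkKeys_ok : chkKeys = true := by decide +kernel

theorem keys_ne {r s : ℕ} (hr : IsPos chevE6 r) (hs : IsPos chevE6 s) {c : ℕ × ℤ × ℕ × ℕ}
    (hc : c ∈ E6Data.tab.commT r s) (i : Fin chevE6.rank) : c.1 ≠ chevE6.simple i := by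
  have h := chkKeys_ok
  simp only [chkKeys, List.all_eq_true, List.mem_range] at h
  have h1 := h r hr.1 s hs.1
  have e1 : Nat.ble 72 (2 * r) = true := Nat.ble_eq.mpr hr.2
  have e2 : Nat.ble 72 (2 * s) = true := Nat.ble_eq.mpr hs.2
  simp only [e1, e2, Bool.and_self, Bool.not_true, Bool.false_or, List.all_eq_true,
    List.mem_range] at h1
  have := h1 c hc i.val i.isLt
  intro e
  rw [e] at this
  simp at this

theorem simple_data : ∀ i : Fin 6, (chevE6.simple i < 72 ∧ 72 ≤ 2 * chevE6.simple i) ∧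
    E6Data.tab.commT (chevE6.simple i) (chevE6.simple i) = [] := by decide +kernel

theorem simple_isPos (i : Fin chevE6.rank) : IsPos chevE6 (chevE6.simple i) := (simple_data i).1

/-- The positive roots other than a fundamental one. -/
def Na (i : Fin chevE6.rank) : Set ℕ := {r | IsPos chevE6 r ∧ r ≠ chevE6.simple i}

theorem closed_Na (i : Fin chevE6.rank) : E6Data.tab.Closed (Na i) :=
  ⟨fun _ h => h.1, fun _ hr _ hs _ hc =>
    ⟨(good_E6.comm_keys hr.1 hs.1 hc).1, keys_ne hr.1 hs.1 hc i⟩⟩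

theorem closed_single (i : Fin chevE6.rank) : E6Data.tab.Closed {chevE6.simple i} := by
  refine ⟨fun r hr => ?_, fun r hr s hs c hc => ?_⟩
  · rw [Set.mem_singleton_iff.mp hr]; exact simple_isPos i
  · rw [Set.mem_singleton_iff.mp hr, Set.mem_singleton_iff.mp hs, (simple_data i).2] at hc
    simp at hc

theorem Na_le_pos (i : Fin chevE6.rank) {F : Type*} [Field F] {u : GL chevE6.Idx F}
    (h : u ∈ good_E6.US F (Na i)) : u ∈ good_E6.US F {r | IsPos chevE6 r} :=
  good_E6.US_mono (fun _ hr => hr.1) h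

section Coord

variable {F : Type*} [Field F]

local notation "Gx" => good_E6.full.x

theorem segProd_extend {S : Set ℕ} (hS : ∀ s ∈ S, IsPos chevE6 s) (f g : ℕ → F)
    (h1 : ∀ r ∈ S, g r = f r) (h2 : ∀ r, r ∉ S → g r = 0) : ∀ m k,
    good_E6.segProd S f k m = good_E6.segProd {r | IsPos chevE6 r} g k m := by
  intro m
  induction m with
  | zero => intro k; rfl
  | succ m ih =>
    intro k
    simp only [Good.segProd, ih]
    by_cases hk : k ∈ S
    · rw [if_pos hk, if_pos (show k ∈ {r | IsPos chevE6 r} from hS k hk), h1 k hk]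
    · rw [if_neg hk, h2 k hk, good_E6.full.x_zero]
      simp

theorem segProd_single {a : ℕ} (ha : IsPos chevE6 a) (g : ℕ → F) (hg : ∀ r, r ≠ a → g r = 0) :
    ∀ m k, good_E6.segProd {r | IsPos chevE6 r} g k m =
      if k ≤ a ∧ a < k + m then Gx a (g a) else 1 := by
  intro m
  induction m with
  | zero =>
    intro k
    rw [if_neg (by omega)]
    rfl
  | succ m ih =>
    intro k
    simp only [Good.segProd, ih]
    by_cases hk : k = a
    · subst hk
      rw [if_pos (show k ∈ {r | IsPos chevE6 r} from ha), if_neg (by omega), if_pos (by omega),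
        mul_one]
    · simp only [hg k hk, good_E6.full.x_zero, ite_self, one_mul]
      exact if_congr (by omega) rfl rfl

theorem x_mem_Na {i : Fin chevE6.rank} {t : F}
    (h : Gx (chevE6.simple i) t ∈ good_E6.US F (Na i)) : t = 0 := by
  classical
  rw [← SetLike.mem_coe, good_E6.US_eq_range (closed_Na i)] at h
  obtain ⟨f, hf⟩ := h
  let g : ℕ → F := fun r => if r ∈ Na i then f r else 0
  let g' : ℕ → F := fun r => if r = chevE6.simple i then t else 0
  have e1 := segProd_extend (fun s hs => (closed_Na i).1 s hs) f g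
    (fun r hr => if_pos hr) (fun r hr => if_neg hr) chevE6.nroots 0
  have e2 := segProd_single (simple_isPos i) g' (fun r hr => if_neg hr) chevE6.nroots 0
  rw [if_pos ⟨Nat.zero_le _, by have := (simple_isPos i).1; omega⟩,
    show g' (chevE6.simple i) = t from if_pos rfl] at e2
  have e := good_E6.segProd_injective good_E6.closed_pos chevE6.nroots 0 g g' (zero_add _)
    ((e1.symm.trans hf).trans e2.symm) _ (simple_isPos i) (Nat.zero_le _)
  have hn : chevE6.simple i ∉ Na i := fun h => h.2 rfl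
  rw [show g (chevE6.simple i) = 0 from if_neg hn,
    show g' (chevE6.simple i) = t from if_pos rfl] at e
  exact e.symm

theorem conj_Na {i : Fin chevE6.rank} {r : ℕ} (hr : IsPos chevE6 r) (t : F)
    {u : GL chevE6.Idx F} (hu : u ∈ good_E6.US F (Na i)) :
    Gx r t * u * (Gx r t)⁻¹ ∈ good_E6.US F (Na i) := by
  refine good_E6.conj_US _ (fun s hs v => ?_) hu
  have h := good_E6.conj_pos (F := F) hr hs.1 t v (S := Na i) (fun _ c hc =>
    ⟨(good_E6.comm_keys hr hs.1 hc).1, keys_ne hr hs.1 hc i⟩)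
  have h' := mul_mem (good_E6.x_mem_US hs v) h
  rwa [mul_inv_cancel_left] at h'

theorem mem_single {i : Fin chevE6.rank} {u : GL chevE6.Idx F}
    (hu : u ∈ good_E6.US F {chevE6.simple i}) : ∃ t, u = Gx (chevE6.simple i) t := by
  induction hu using Subgroup.closure_induction with
  | mem u hu =>
    obtain ⟨r, hr, t, rfl⟩ := hu
    rw [Set.mem_singleton_iff.mp hr]
    exact ⟨t, rfl⟩
  | one => exact ⟨0, (good_E6.full.x_zero _).symm⟩
  | mul a b _ _ ha hb =>
    obtain ⟨s, rfl⟩ := ha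
    obtain ⟨t, rfl⟩ := hb
    exact ⟨s + t, good_E6.full.x_add _ _ _⟩
  | inv a _ ha =>
    obtain ⟨s, rfl⟩ := ha
    exact ⟨-s, good_E6.full.x_inv _ _⟩

theorem exists_coord (i : Fin chevE6.rank) {u : GL chevE6.Idx F}
    (hu : u ∈ good_E6.US F {r | IsPos chevE6 r}) :
    ∃ t, ∃ n ∈ good_E6.US F (Na i), u = Gx (chevE6.simple i) t * n := by
  have e : ({r | IsPos chevE6 r} : Set ℕ) = {chevE6.simple i} ∪ Na i := by
    ext r
    constructor
    · intro h
      by_cases hr : r = chevE6.simple i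
      · exact Or.inl hr
      · exact Or.inr ⟨h, hr⟩
    · rintro (h | h)
      · rw [Set.mem_singleton_iff.mp h]; exact simple_isPos i
      · exact h.1
  obtain ⟨a, ha, b, hb, rfl⟩ :=
    good_E6.US_split (closed_single i) (closed_Na i) good_E6.closed_pos e hu
  obtain ⟨t, rfl⟩ := mem_single ha
  exact ⟨t, b, hb, rfl⟩

open scoped Classical in
/-- The coordinate at a fundamental root. -/
noncomputable def co (i : Fin chevE6.rank) (u : GL chevE6.Idx F) : F :=
  if h : u ∈ good_E6.US F {r | IsPos chevE6 r} then (exists_coord i h).choose else 0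

theorem co_eq {i : Fin chevE6.rank} {t : F} {n : GL chevE6.Idx F}
    (hn : n ∈ good_E6.US F (Na i)) : co i (Gx (chevE6.simple i) t * n) = t := by
  classical
  have h : Gx (chevE6.simple i) t * n ∈ good_E6.US F {r | IsPos chevE6 r} :=
    mul_mem (good_E6.x_mem_US (S := {r | IsPos chevE6 r}) (simple_isPos i) t) (Na_le_pos i hn)
  rw [co, dif_pos h]
  obtain ⟨n', hn', e⟩ := (exists_coord i h).choose_spec
  set t' := (exists_coord i h).choose
  have e' : Gx (chevE6.simple i) (-t' + t) = n' * n⁻¹ := by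
    rw [← good_E6.full.x_add, ← good_E6.full.x_inv, eq_mul_inv_iff_mul_eq, mul_assoc, e,
      inv_mul_cancel_left]
  have h0 := x_mem_Na (e' ▸ mul_mem hn' (inv_mem hn))
  linear_combination -h0

theorem co_x (i : Fin chevE6.rank) {r : ℕ} (hr : IsPos chevE6 r) (t : F) :
    co i (Gx r t) = if r = chevE6.simple i then t else 0 := by
  split_ifs with h
  · rw [h, ← mul_one (Gx (chevE6.simple i) t)]
    exact co_eq (one_mem _)
  · rw [← one_mul (Gx r t), ← good_E6.full.x_zero (F := F) (chevE6.simple i)]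
    exact co_eq (good_E6.x_mem_US (S := Na i) ⟨hr, h⟩ t)

theorem co_one (i : Fin chevE6.rank) : co i (1 : GL chevE6.Idx F) = 0 := by
  rw [show (1 : GL chevE6.Idx F) = Gx (chevE6.simple i) 0 * 1 by
    rw [good_E6.full.x_zero, mul_one]]
  exact co_eq (one_mem _)

theorem co_mul (i : Fin chevE6.rank) {u v : GL chevE6.Idx F}
    (hu : u ∈ good_E6.US F {r | IsPos chevE6 r}) (hv : v ∈ good_E6.US F {r | IsPos chevE6 r}) :
    co i (u * v) = co i u + co i v := by
  obtain ⟨t, n, hn, rfl⟩ := exists_coord i hu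
  obtain ⟨s, m, hm, rfl⟩ := exists_coord i hv
  rw [co_eq hn, co_eq hm]
  have e : Gx (chevE6.simple i) t * n * (Gx (chevE6.simple i) s * m) =
      Gx (chevE6.simple i) (t + s) *
        (Gx (chevE6.simple i) (-s) * n * (Gx (chevE6.simple i) (-s))⁻¹ * m) := by
    rw [← good_E6.full.x_add, ← good_E6.full.x_inv]
    group
  rw [e]
  exact co_eq (mul_mem (conj_Na (simple_isPos i) _ hn) hm)

theorem co_inv (i : Fin chevE6.rank) {u : GL chevE6.Idx F}
    (hu : u ∈ good_E6.US F {r | IsPos chevE6 r}) : co i u⁻¹ = -co i u := by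
  have h := co_mul i (inv_mem hu) hu
  rw [inv_mul_cancel, co_one] at h
  linear_combination -h

theorem co_conj (i : Fin chevE6.rank) {u v : GL chevE6.Idx F}
    (hu : u ∈ good_E6.US F {r | IsPos chevE6 r}) (hv : v ∈ good_E6.US F {r | IsPos chevE6 r}) :
    co i (u * v * u⁻¹) = co i v := by
  rw [co_mul i (mul_mem hu hv) (inv_mem hu), co_mul i hu hv, co_inv i hu]
  ring

theorem co_diag {δ : GL chevE6.Idx F} {χ : ℕ → F}
    (hx : ∀ r < chevE6.nroots, ∀ t : F, δ * Gx r t * δ⁻¹ = Gx r (χ r * t))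
    (i : Fin chevE6.rank) {u : GL chevE6.Idx F}
    (hu : u ∈ good_E6.US F {r | IsPos chevE6 r}) :
    δ * u * δ⁻¹ ∈ good_E6.US F {r | IsPos chevE6 r} ∧
      co i (δ * u * δ⁻¹) = χ (chevE6.simple i) * co i u := by
  obtain ⟨t, n, hn, rfl⟩ := exists_coord i hu
  have hN : δ * n * δ⁻¹ ∈ good_E6.US F (Na i) := good_E6.conj_US _ (fun r hr v => by
    rw [hx r hr.1.1 v]; exact good_E6.x_mem_US hr _) hn
  have e : δ * (Gx (chevE6.simple i) t * n) * δ⁻¹ =
      Gx (chevE6.simple i) (χ (chevE6.simple i) * t) * (δ * n * δ⁻¹) := by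
    rw [← hx _ (simple_isPos i).1 t]
    group
  rw [e, co_eq hN, co_eq hn]
  exact ⟨mul_mem (good_E6.x_mem_US (S := {r | IsPos chevE6 r}) (simple_isPos i) _)
    (Na_le_pos i hN), rfl⟩

theorem co_map {E : Type*} [Field E] (σ : F →+* E) (i : Fin chevE6.rank) {u : GL chevE6.Idx F}
    (hu : u ∈ good_E6.US F {r | IsPos chevE6 r}) :
    co i (glMap chevE6 σ u) = σ (co i u) := by
  obtain ⟨t, n, hn, rfl⟩ := exists_coord i hu
  rw [map_mul, good_E6.glMap_x, co_eq hn]
  exact co_eq (good_E6.glMap_US σ hn)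

/-- A monomial element carrying a fundamental root below zero kills its coordinate. -/
theorem co_flip {n : GL chevE6.Idx F} {L : List (Fin chevE6.rank)}
    (hact : good_E6.full.RootAct n (good_E6.full.pw L)) {v : GL chevE6.Idx F}
    (hv : v ∈ good_E6.US F {r | IsPos chevE6 r})
    (hc : n * v * n⁻¹ ∈ good_E6.US F {r | IsPos chevE6 r}) (i : Fin chevE6.rank)
    (hi : ¬ IsPos chevE6 (good_E6.full.pw L (good_E6.full.simp' i)).val) : co i v = 0 := by
  obtain ⟨a, ha, b, hb, rfl⟩ := good_E6.US_split (good_E6.closed_keep L) (good_E6.closed_flip L)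
    good_E6.closed_pos (pos_eq_keep_union_flip (good_E6.full.pw L)) hv
  have hna : n * a * n⁻¹ ∈ good_E6.US F {r | IsPos chevE6 r} :=
    good_E6.conj_x_act hact (fun s hs => by obtain ⟨hlt, -, h3⟩ := hs; exact ⟨hlt, h3⟩) ha
  have hnb : n * b * n⁻¹ ∈
      good_E6.US F {r | r < chevE6.nroots ∧ ¬ IsPos chevE6 r} :=
    good_E6.conj_x_act hact (fun s hs => by
      obtain ⟨hlt, -, h3⟩ := hs; exact ⟨hlt, Fin.isLt _, h3⟩) hb
  have hnb' : n * b * n⁻¹ ∈ good_E6.US F {r | IsPos chevE6 r} := by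
    have e : n * b * n⁻¹ = (n * a * n⁻¹)⁻¹ * (n * (a * b) * n⁻¹) := by group
    rw [e]
    exact mul_mem (inv_mem hna) hc
  have h1 : n * b * n⁻¹ = 1 := by
    refine good_E6.pos_inf_neg ?_ ?_
    · rw [good_E6.posUnipotent_eq]; exact hnb'
    · rw [good_E6.negUnipotent_eq]
      refine good_E6.US_mono (S := {r | r < chevE6.nroots ∧ ¬ IsPos chevE6 r})
        (fun r hr => ?_) hnb
      exact ⟨hr.1, fun h2 => hr.2 ⟨hr.1, h2⟩⟩
  have hb1 : b = 1 := by
    rw [mul_inv_eq_one, mul_eq_left] at h1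
    exact h1
  rw [hb1, mul_one, ← one_mul a, ← good_E6.full.x_zero (F := F) (chevE6.simple i)]
  refine co_eq (good_E6.US_mono (fun s hs => ?_) ha)
  obtain ⟨hlt, h2, h3⟩ := hs
  refine ⟨h2, ?_⟩
  rintro rfl
  exact hi h3

end Coord

/-! ### The subgroups -/

/-- The rank is not zero. -/
local instance neZeroRankThree : NeZero chevE6.rank := ⟨by decide⟩

/-- There are orbits. -/
local instance neZeroOrbsThree : NeZero E6Tw.orbs.length := ⟨by decide⟩

theorem fold_pos : ∀ r : Fin 48, 48 ≤ 2 * r.val →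
    ∀ a ∈ E6Fold.foldF4.getD r.val [], a.1 < 72 ∧ 72 ≤ 2 * a.1 := by decide +kernel

theorem orb_count : ∀ i : Fin 6,
    ((List.finRange 4).map fun j =>
      (good_E6.oJ E6Tw.orbs (E6Fold.orbIdx j)).count i).sum = 1 := by decide +kernel

theorem simple_F4 : ∀ j : Fin 4, chevF4.simple j < 48 ∧ 48 ≤ 2 * chevF4.simple j := by
  decide +kernel

theorem foldX_pos {F : Type*} [Field F] {r : ℕ} (hr : IsPos chevF4 r) (t : F) :
    good_E6.foldX E6Fold.foldF4 r t ∈ good_E6.US F {r | IsPos chevE6 r} := by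
  refine list_prod_mem fun x hx => ?_
  obtain ⟨a, ha, rfl⟩ := List.mem_map.mp hx
  exact good_E6.x_mem_US (S := {r | IsPos chevE6 r}) (fold_pos ⟨r, hr.1⟩ hr.2 a ha) _

theorem PX_pos {F : Type*} [Field F] (l : List (Fin chevE6.rank)) (t : Fin chevE6.rank → F) :
    good_E6.PX l t ∈ good_E6.US F {r | IsPos chevE6 r} := by
  refine list_prod_mem fun x hx => ?_
  obtain ⟨a, -, rfl⟩ := List.mem_map.mp hx
  exact good_E6.x_mem_US (S := {r | IsPos chevE6 r}) (simple_isPos a) _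

theorem co_PX {F : Type*} [Field F] (i : Fin chevE6.rank) :
    ∀ l : List (Fin chevE6.rank), co i (good_E6.PX l fun _ => (1 : F)) = (l.count i : F)
  | [] => by simp [Good.PX, co_one]
  | b :: l => by
    have e : good_E6.PX (b :: l) (fun _ => (1 : F)) =
        good_E6.full.x (chevE6.simple b) 1 * good_E6.PX l (fun _ => (1 : F)) := by
      simp [Good.PX]
    rw [e, co_mul i (good_E6.x_mem_US (S := {r | IsPos chevE6 r}) (simple_isPos b) _) (PX_pos _ _),
      co_x i (simple_isPos b), co_PX i l, List.count_cons]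
    by_cases h : b = i
    · subst h
      rw [if_pos rfl]
      simp [add_comm]
    · rw [if_neg (fun e => h (good_E6.simple_inj e))]
      simp [h]

variable {K : Type*} [Field K] [Fintype K]

/-- The subgroup `F₄(2)` of `²E₆(2)`, with what is needed about it. -/
theorem exists_sub (C : E6Tw.Ctx K 2) :
    ∃ H : Subgroup (GL chevE6.Idx K), H ≤ C.W.G1 ∧ Nonempty (H ≃* chevF4.group (ZMod 2)) ∧
      (∀ h ∈ H, glMap chevE6 C.φ h = h) ∧
      ∃ e ∈ H, e ∈ good_E6.US K {r | IsPos chevE6 r} ∧ (∀ i, co i e = 1) ∧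
        (∃ k, e ^ 2 ^ k = 1) ∧
        ∀ y ∈ H, (∃ k, y ^ 2 ^ k = 1) →
          ∃ h ∈ H, h * y * h⁻¹ ∈ good_E6.US K {r | IsPos chevE6 r} := by
  classical
  haveI : Fact (Nat.Prime 2) := ⟨Nat.prime_two⟩
  haveI : CharP K 2 := charP_of_card_eq_prime_pow (p := 2) (f := 2) (by rw [C.hK])
  let ι : ZMod 2 →+* K := ZMod.castHom dvd_rfl K
  obtain ⟨ψ, hψ⟩ :=
    good_E6.exists_fold good_F4 E6Fold.chkFoldF4 ⟨_, wits_F4⟩ uni_F4 (F := ZMod 2)
  let Ψ : chevF4.group (ZMod 2) →* GL chevE6.Idx K := (glMap chevE6 ι).comp ψ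
  have hsimp : IsSimpleGroup (chevF4.group (ZMod 2)) :=
    (good_F4.isSimple conn_F4 perf_F4 (fun h => absurd h Bool.false_ne_true)).1
  have hfold : ∀ (j : Fin 4),
      Ψ ⟨good_F4.full.x (chevF4.simple j) 1, good_F4.x_mem_group _ _⟩ =
        good_E6.PX (good_E6.oJ E6Tw.orbs (E6Fold.orbIdx j)) fun _ => (1 : K) := by
    intro j
    show glMap chevE6 ι (ψ _) = _
    rw [hψ _ (chevF4.simple j) 1 (good_F4.full.simple_lt j.isLt) rfl,
      (E6Fold.foldX_simple j 1).1, Good.PX, Good.PX, map_list_prod, List.map_map]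
    exact congrArg List.prod (List.map_congr_left fun a _ => by simp [good_E6.glMap_x])
  have hinj : Function.Injective Ψ := by
    haveI := hsimp
    refine (MonoidHom.ker_eq_bot_iff Ψ).mp ?_
    refine (Subgroup.Normal.eq_bot_or_eq_top inferInstance).resolve_right fun htop => ?_
    have h1 : Ψ ⟨good_F4.full.x (chevF4.simple (0 : Fin 4)) 1, good_F4.x_mem_group _ _⟩ = 1 :=
      MonoidHom.mem_ker.mp (htop ▸ Subgroup.mem_top _)
    rw [hfold] at h1
    obtain ⟨i, hi⟩ := List.exists_mem_of_ne_nil _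
      (C.A.spec.orb_ne (E6Fold.orbIdx 0))
    have h2 := co_PX (F := K) i (good_E6.oJ E6Tw.orbs (E6Fold.orbIdx 0))
    rw [h1, co_one] at h2
    have hc : (good_E6.oJ E6Tw.orbs (E6Fold.orbIdx 0)).count i = 1 :=
      List.count_eq_one_of_mem (C.A.nodup (E6Fold.orbIdx 0)) hi
    rw [hc, Nat.cast_one] at h2
    exact one_ne_zero h2.symm
  have hφι : C.φ.comp ι = ι := RingHom.ext_zmod _ _
  have hfix : ∀ g, glMap chevE6 C.φ (Ψ g) = Ψ g := fun g => by
    show glMap chevE6 C.φ (glMap chevE6 ι (ψ g)) = glMap chevE6 ι (ψ g)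
    rw [glMap_comp, hφι]
  have hle : Ψ.range ≤ C.W.G1 := by
    have htup : ∀ (J : Fin orbs.length) (v : ZMod 2), C.A.Tup J fun _ => ι v := fun J v i _ => by
      rw [C.f_simp, ← C.hφ, ← RingHom.comp_apply, hφι]
    have hgen : chevF4.group (ZMod 2) ≤
        (C.W.G1.comap Ψ).map (chevF4.group (ZMod 2)).subtype := by
      refine E6Fold.group_le_of_simple good_F4 fun i hi v => ⟨⟨⟨_, good_F4.x_mem_group _ _⟩,
        ?_, rfl⟩, ⟨⟨_, good_F4.x_mem_group _ _⟩, ?_, rfl⟩⟩
      · show glMap chevE6 ι (ψ _) ∈ C.W.G1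
        rw [hψ _ (chevF4.simple i) v (good_F4.full.simple_lt hi) rfl,
          (E6Fold.foldX_simple ⟨i, hi⟩ v).1, Good.PX, map_list_prod, List.map_map]
        show _ ∈ C.A.grp
        rw [List.map_congr_left (g := fun a : Fin chevE6.rank => good_E6.full.x
          (chevE6.simple a) (ι v)) fun a _ => by simp [good_E6.glMap_x]]
        exact C.A.PX_mem (htup (E6Fold.orbIdx ⟨i, hi⟩) v)
      · show glMap chevE6 ι (ψ _) ∈ C.W.G1
        rw [hψ _ (negR chevF4 (chevF4.simple i)) v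
            (Cert.negR_lt (good_F4.full.simple_lt hi)) rfl,
          (E6Fold.foldX_simple ⟨i, hi⟩ v).2, Good.PN, map_list_prod, List.map_map]
        show _ ∈ C.A.grp
        rw [List.map_congr_left (g := fun a : Fin chevE6.rank => good_E6.full.x
          (negR chevE6 (chevE6.simple a)) (ι v)) fun a _ => by simp [good_E6.glMap_x]]
        exact C.A.PN_mem (htup (E6Fold.orbIdx ⟨i, hi⟩) v)
    rintro _ ⟨g, rfl⟩
    obtain ⟨a, ha, e⟩ := hgen g.2
    obtain rfl : a = g := Subtype.ext e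
    exact ha
  obtain ⟨P, hP⟩ := good_F4.exists_sylow (F := ZMod 2) 2
  have hPpos : ∀ g ∈ (P : Subgroup (chevF4.group (ZMod 2))),
      Ψ g ∈ good_E6.US K {r | IsPos chevE6 r} := by
    intro g hg
    have hgen : good_F4.US (ZMod 2) {r | IsPos chevF4 r} ≤
        ((good_E6.US K {r | IsPos chevE6 r}).comap Ψ).map (chevF4.group (ZMod 2)).subtype := by
      refine (Subgroup.closure_le _).mpr ?_
      rintro _ ⟨r, hr, t, rfl⟩
      refine ⟨⟨_, good_F4.x_mem_group r t⟩, ?_, rfl⟩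
      show Ψ _ ∈ good_E6.US K {r | IsPos chevE6 r}
      show glMap chevE6 ι (ψ _) ∈ _
      rw [hψ _ r t hr.1 rfl]
      exact good_E6.glMap_US ι (foldX_pos hr t)
    rw [hP, Subgroup.mem_subgroupOf, good_F4.posUnipotent_eq] at hg
    obtain ⟨a, ha, e⟩ := hgen hg
    obtain rfl : a = g := Subtype.ext e
    exact ha
  let ε : chevF4.group (ZMod 2) := ((List.finRange 4).map fun j : Fin 4 =>
    (⟨good_F4.full.x (chevF4.simple j) 1, good_F4.x_mem_group _ _⟩ : chevF4.group (ZMod 2))).prod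
  have hεP : ε ∈ (P : Subgroup (chevF4.group (ZMod 2))) := by
    refine Subgroup.list_prod_mem _ fun x hx => ?_
    obtain ⟨j, -, rfl⟩ := List.mem_map.mp hx
    rw [hP, Subgroup.mem_subgroupOf, good_F4.posUnipotent_eq]
    exact good_F4.x_mem_US (S := {r | IsPos chevF4 r}) (simple_F4 j) _
  refine ⟨Ψ.range, hle, ⟨(MonoidHom.ofInjective hinj).symm⟩, ?_, Ψ ε, ⟨ε, rfl⟩, hPpos _ hεP,
    fun i => ?_, ?_, ?_⟩
  · rintro _ ⟨g, rfl⟩
    exact hfix g
  · have hsum : ∀ l : List (Fin 4), co i ((l.map fun j =>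
        good_E6.PX (good_E6.oJ E6Tw.orbs (E6Fold.orbIdx j)) fun _ => (1 : K)).prod) =
        (((l.map fun j => (good_E6.oJ E6Tw.orbs (E6Fold.orbIdx j)).count i).sum : ℕ) : K) := by
      intro l
      induction l with
      | nil => simp [co_one]
      | cons j l ih =>
        have hp : ((l.map fun j => good_E6.PX (good_E6.oJ E6Tw.orbs (E6Fold.orbIdx j))
            fun _ => (1 : K)).prod) ∈ good_E6.US K {r | IsPos chevE6 r} :=
          list_prod_mem fun x hx => by
            obtain ⟨b, -, rfl⟩ := List.mem_map.mp hx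
            exact PX_pos _ _
        simp only [List.map_cons, List.prod_cons, List.sum_cons, Nat.cast_add]
        rw [co_mul i (PX_pos _ _) hp, ih, co_PX]
    have e : Ψ ε = ((List.finRange 4).map fun j =>
        good_E6.PX (good_E6.oJ E6Tw.orbs (E6Fold.orbIdx j)) fun _ => (1 : K)).prod := by
      rw [map_list_prod, List.map_map]
      exact congrArg List.prod (List.map_congr_left fun j _ => hfold j)
    rw [e, hsum]
    exact (congrArg (Nat.cast : ℕ → K) (orb_count i)).trans Nat.cast_one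
  · obtain ⟨k, hk⟩ := P.isPGroup' ⟨ε, hεP⟩
    refine ⟨k, ?_⟩
    rw [← map_pow, show ε ^ 2 ^ k = 1 from congrArg Subtype.val hk, map_one]
  · rintro _ ⟨g, rfl⟩ ⟨k, hk⟩
    rw [← map_pow, ← map_one Ψ] at hk
    have hg := hinj hk
    have hpg : IsPGroup 2 (Subgroup.zpowers g) := by
      obtain ⟨j, -, hj⟩ := (Nat.dvd_prime_pow Nat.prime_two).mp (orderOf_dvd_of_pow_eq_one hg)
      exact IsPGroup.of_card (n := j) (by rw [Nat.card_zpowers, hj])
    obtain ⟨Q, hQ⟩ := hpg.exists_le_sylow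
    obtain ⟨θ, hθ⟩ := MulAction.exists_smul_eq (chevF4.group (ZMod 2)) Q P
    refine ⟨Ψ θ, ⟨θ, rfl⟩, ?_⟩
    rw [← map_mul, ← map_inv, ← map_mul]
    refine hPpos _ ?_
    rw [← hθ, Sylow.coe_subgroup_smul]
    exact ⟨g, hQ (Subgroup.mem_zpowers g), rfl⟩

/-! ### The classes -/

theorem range_of_conj (C : E6Tw.Ctx K 2) {H : Subgroup (GL chevE6.Idx K)} (hH : H ≤ C.W.G1)
    (hfix : ∀ h ∈ H, glMap chevE6 C.φ h = h) {e : GL chevE6.Idx K} (he : e ∈ H)
    (heU : e ∈ good_E6.US K {r | IsPos chevE6 r}) (hco : ∀ i, co i e = 1)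
    (he2 : ∃ k, e ^ 2 ^ k = 1)
    (hsyl : ∀ y ∈ H, (∃ k, y ^ 2 ^ k = 1) →
      ∃ h ∈ H, h * y * h⁻¹ ∈ good_E6.US K {r | IsPos chevE6 r})
    (u : C.A.Cσ) {δ : GL chevE6.Idx K} {χ : ℕ → K}
    (hx : ∀ r < chevE6.nroots, ∀ t : K,
      δ * good_E6.full.x r t * δ⁻¹ = good_E6.full.x r (χ r * t))
    (hu : ∀ i : Fin chevE6.rank, χ (chevE6.simple i) = (u.1 i : K))
    {g : GL chevE6.Idx K} (hg : g ∈ C.W.G1)
    (hc : ∀ h ∈ H, g * (δ * h * δ⁻¹) * g⁻¹ ∈ H) : u ∈ C.A.chiHom.range := by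
  set X := δ * e * δ⁻¹ with hX
  obtain ⟨h, hh, hy⟩ := hsyl _ (hc e he) (by
    obtain ⟨k, hk⟩ := he2
    exact ⟨k, by rw [conj_pow, conj_pow, hk, mul_one, mul_inv_cancel, mul_one, mul_inv_cancel]⟩)
  have hy' : h * g * X * (h * g)⁻¹ ∈ good_E6.US K {r | IsPos chevE6 r} := by
    have e1 : h * g * X * (h * g)⁻¹ = h * (g * X * g⁻¹) * h⁻¹ := by group
    rw [e1]; exact hy
  have hyH : h * g * X * (h * g)⁻¹ ∈ H := by
    have e1 : h * g * X * (h * g)⁻¹ = h * (g * X * g⁻¹) * h⁻¹ := by group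
    rw [e1]; exact mul_mem (mul_mem hh (hc e he)) (inv_mem hh)
  obtain ⟨w, hw, k, hk, L, -, v, hv, eg⟩ := C.W.canonical (mul_mem (hH hh) hg)
  have hwU : w ∈ good_E6.US K {r | IsPos chevE6 r} := by
    rw [← good_E6.posUnipotent_eq]; exact hw.2
  have hvU : v ∈ good_E6.US K {r | IsPos chevE6 r} := good_E6.US_mono (fun s hs => by
    obtain ⟨_, h1, _⟩ := hs; exact h1) hv.2
  have hXU := fun i => co_diag hx i heU
  have hX' : X ∈ good_E6.US K {r | IsPos chevE6 r} := (hXU 0).1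
  set x2 := v * X * v⁻¹ with hx2
  have hx2U : x2 ∈ good_E6.US K {r | IsPos chevE6 r} := mul_mem (mul_mem hvU hX') (inv_mem hvU)
  have hx2co : ∀ i, co i x2 = (u.1 i : K) := fun i => by
    rw [hx2, co_conj i hvU hX', (hXU i).2, hu, hco, mul_one]
  obtain ⟨c, hcσ, rfl⟩ := hk
  have hTx : ∀ r < chevE6.nroots, ∀ t : K, E6Data.tab.hT K c * good_E6.full.x r t *
      (E6Data.tab.hT K c)⁻¹ = good_E6.full.x r ((E6Data.tab.chi r c : K) * t) :=
    fun r hr t => good_E6.full.hT_conj hr c t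
  have hTxi : ∀ r < chevE6.nroots, ∀ t : K, (E6Data.tab.hT K c)⁻¹ * good_E6.full.x r t *
      ((E6Data.tab.hT K c)⁻¹)⁻¹ = good_E6.full.x r ((E6Data.tab.chi r c⁻¹ : K) * t) := by
    intro r hr t
    rw [← map_inv]
    exact good_E6.full.hT_conj hr c⁻¹ t
  set m := C.W.nT L with hm
  have hmU : m * x2 * m⁻¹ ∈ good_E6.US K {r | IsPos chevE6 r} := by
    have e1 : m * x2 * m⁻¹ = (E6Data.tab.hT K c)⁻¹ *
        (w⁻¹ * (h * g * X * (h * g)⁻¹) * w) * ((E6Data.tab.hT K c)⁻¹)⁻¹ := by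
      rw [eg, hx2]; group
    rw [e1]
    exact (co_diag hTxi 0 (mul_mem (mul_mem (inv_mem hwU) hy') hwU)).1
  have hpw : C.W.pwT L = 1 := by
    refine good_E6.eq_one_of_pw_pos fun s hs => ?_
    by_contra hneg
    obtain ⟨i, -, hi⟩ := good_E6.exists_flip_simple (good_E6.pw_mem_full (L.flatMap C.W.word))
      (s := s) (mem_inv.mpr ⟨hs, hneg⟩)
    exact (Units.ne_zero (u.1 i)) ((hx2co i).symm.trans
      (co_flip (C.W.nT_act L) hx2U (hm ▸ hmU) i hi))
  obtain ⟨c', hc', hmc⟩ := C.W.torus_word L hpw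
  have hkc : c * c' ∈ C.A.Cσ := mul_mem hcσ hc'
  refine ⟨⟨c * c', hkc⟩⁻¹, Subtype.ext (funext fun i => ?_)⟩
  rw [map_inv]
  show ((C.A.chiHom ⟨c * c', hkc⟩).1 i)⁻¹ = u.1 i
  rw [C.A.chiHom_apply, inv_eq_iff_eq_inv, ← mul_eq_one_iff_eq_inv]
  have hT2 : ∀ r < chevE6.nroots, ∀ t : K, E6Data.tab.hT K (c * c') * good_E6.full.x r t *
      (E6Data.tab.hT K (c * c'))⁻¹ =
        good_E6.full.x r ((E6Data.tab.chi r (c * c') : K) * t) :=
    fun r hr t => good_E6.full.hT_conj hr (c * c') t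
  have hcoy : co i (h * g * X * (h * g)⁻¹) =
      (E6Data.tab.chi (chevE6.simple i) (c * c') : K) * (u.1 i : K) := by
    have e1 : h * g * X * (h * g)⁻¹ =
        w * (E6Data.tab.hT K (c * c') * x2 * (E6Data.tab.hT K (c * c'))⁻¹) * w⁻¹ := by
      rw [eg, hx2, map_mul, hmc, hm, Good.Twisted.nT]; group
    rw [e1, co_conj i hwU (co_diag hT2 i hx2U).1, (co_diag hT2 i hx2U).2, hx2co]
  have hrat : C.φ (co i (h * g * X * (h * g)⁻¹)) = co i (h * g * X * (h * g)⁻¹) := by
    rw [← co_map C.φ i hy', hfix _ hyH]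
  set z : K := co i (h * g * X * (h * g)⁻¹)
  have hz : z ≠ 0 := by rw [hcoy]; exact mul_ne_zero (Units.ne_zero _) (Units.ne_zero _)
  rw [C.hφ, pow_two] at hrat
  have hz1 : z = 1 := mul_right_cancel₀ hz (hrat.trans (one_mul z).symm)
  refine Units.ext ?_
  rw [Units.val_mul, Units.val_one, ← hcoy]
  exact hz1

theorem three_classes (hK : Fintype.card K = 4) :
    ∃ H : Fin 3 → Subgroup (twistedE6 K 2),
      (∀ i, Nonempty ((H i) ≃* chevF4.group (ZMod 2))) ∧
      ∀ i j, i ≠ j → ∀ g : twistedE6 K 2, (H i).map (MulAut.conj g).toMonoidHom ≠ H j := by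
  classical
  obtain ⟨C⟩ := E6Tw.exists_ctx (K := K) (q := 2) Nat.prime_two.isPrimePow (by rw [hK]; norm_num)
  obtain ⟨H, hH, ⟨φH⟩, hfix, e, he, heU, hco, he2, hsyl⟩ := exists_sub C
  have hidx : C.A.chiHom.range.index = 3 := by rw [C.card_index]; rfl
  obtain ⟨u, hu⟩ : ∃ u : C.A.Cσ, u ∉ C.A.chiHom.range := by
    by_contra hall
    simp only [not_exists, not_not] at hall
    rw [show C.A.chiHom.range = ⊤ from eq_top_iff.mpr fun x _ => hall x, Subgroup.index_top] at hidx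
    exact absurd hidx (by norm_num)
  obtain ⟨χ, hχ, hχu⟩ := good_E6.exists_rootChar coef_E6 u.1
  set d := Good.charUnit chevE6 χ
  have hx : ∀ (m : ℕ), ∀ r < chevE6.nroots, ∀ t : K,
      d ^ m * good_E6.full.x r t * (d ^ m)⁻¹ = good_E6.full.x r (((χ r : K) ^ m) * t) := by
    intro m r hr
    induction m with
    | zero => intro t; simp
    | succ m ih =>
      intro t
      have hd := good_E6.charUnit_conj_x (F := K)
        (by simp : chevE6 ∈ [chevG2, chevB2, chevD4, chevF4, chevE6, chevE7, chevE8]) hχ hr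
      have e1 : d ^ (m + 1) * good_E6.full.x r t * (d ^ (m + 1))⁻¹ =
          d ^ m * (d * good_E6.full.x r t * d⁻¹) * (d ^ m)⁻¹ := by
        rw [pow_succ]; group
      rw [e1, hd, ih, pow_succ, mul_assoc]
  have hxi : ∀ r < chevE6.nroots, ∀ t : K,
      d⁻¹ * good_E6.full.x r t * d = good_E6.full.x r (((χ r)⁻¹ : Kˣ) * t) := by
    intro r hr t
    have h1 := hx 1 r hr (((χ r)⁻¹ : Kˣ) * t)
    rw [pow_one, pow_one, Units.mul_inv_cancel_left] at h1
    rw [← h1]; group
  have hgrp : ∀ g ∈ C.A.grp, d * g * d⁻¹ ∈ C.A.grp := by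
    intro g hg
    have h1 : ∀ g ∈ C.A.grp, g ∈ C.A.grp.comap (MulAut.conj d).toMonoidHom := by
      refine fun g hg => (Subgroup.closure_le _).mpr ?_ hg
      rintro _ ⟨J, t, ht, rfl | rfl⟩
      · show d * good_E6.PX (good_E6.oJ E6Tw.orbs J) t * d⁻¹ ∈ C.A.grp
        rw [Good.PX, conj_list_prod', List.map_map]
        convert C.A.PX_mem (C.A.tup_mul (C.A.tup_Cσ J u) ht) using 1
        rw [Good.PX]
        exact congrArg List.prod (List.map_congr_left fun a _ => by
          show d * good_E6.full.x (chevE6.simple a) (t a) * d⁻¹ = _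
          have h1 := hx 1 _ (simple_isPos a).1 (t a)
          rw [pow_one, pow_one, hχu] at h1
          exact h1)
      · show d * good_E6.PN (good_E6.oJ E6Tw.orbs J) t * d⁻¹ ∈ C.A.grp
        rw [Good.PN, conj_list_prod', List.map_map]
        convert C.A.PN_mem (C.A.tup_mul (C.A.tup_Cσ J u⁻¹) ht) using 1
        rw [Good.PN]
        exact congrArg List.prod (List.map_congr_left fun a _ => by
          show d * good_E6.full.x (negR chevE6 (chevE6.simple a)) (t a) * d⁻¹ = _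
          have h1 := hx 1 _ (Cert.negR_lt (simple_isPos a).1) (t a)
          rw [pow_one, pow_one] at h1
          rw [h1, ← good_E6.full.cert.neg_eq (simple_isPos a).1, hχ.1 _ (simple_isPos a).1, hχu]
          rfl)
    exact h1 g hg
  have hgrpm : ∀ (m : ℕ) (g : GL chevE6.Idx K), g ∈ C.A.grp →
      d ^ m * g * (d ^ m)⁻¹ ∈ C.A.grp := by
    intro m
    induction m with
    | zero => intro g hg; simpa using hg
    | succ m ih =>
      intro g hg
      have e1 : d ^ (m + 1) * g * (d ^ (m + 1))⁻¹ = d ^ m * (d * g * d⁻¹) * (d ^ m)⁻¹ := by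
        rw [pow_succ]; group
      rw [e1]
      exact ih _ (hgrp g hg)
  have hd3 : ∀ g ∈ C.A.grp, ∀ m : ℕ, (d ^ m)⁻¹ * g * d ^ m ∈ C.A.grp := by
    intro g hg m
    have hf : Function.Surjective
        fun x : C.A.grp => (⟨d ^ m * x * (d ^ m)⁻¹, hgrpm m _ x.2⟩ : C.A.grp) :=
      Finite.injective_iff_surjective.mp fun a b hab => Subtype.ext (by
        simpa using congrArg Subtype.val hab)
    obtain ⟨x, hx'⟩ := hf ⟨g, hg⟩
    rw [← show d ^ m * (x : GL chevE6.Idx K) * (d ^ m)⁻¹ = g from congrArg Subtype.val hx']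
    simpa [mul_assoc] using x.2
  have hG : C.W.G1 = twistedE6 K 2 := C.grp_eq
  let H' : Fin 3 → Subgroup (GL chevE6.Idx K) := fun i =>
    H.map (MulAut.conj (d ^ i.val)).toMonoidHom
  have hH' : ∀ i, H' i ≤ twistedE6 K 2 := by
    rintro i _ ⟨h, hh, rfl⟩
    exact hG ▸ hgrpm i.val h (hH hh)
  refine ⟨fun i => (H' i).subgroupOf (twistedE6 K 2), fun i =>
    ⟨((Subgroup.subgroupOfEquivOfLe (hH' i)).trans
      (H.equivMapOfInjective _ (MulAut.conj (d ^ i.val)).injective).symm).trans φH⟩, ?_⟩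
  intro i j hij g hmap
  replace hmap : ((H' i).subgroupOf (twistedE6 K 2)).map (MulAut.conj g).toMonoidHom =
      (H' j).subgroupOf (twistedE6 K 2) := hmap
  have hmem : ∀ (k : Fin 3), ∀ h ∈ H, d ^ k.val * h * (d ^ k.val)⁻¹ ∈ H' k :=
    fun k h hh => ⟨h, hh, rfl⟩
  have hkey : ∀ h ∈ H, (g : GL chevE6.Idx K) * (d ^ i.val * h * (d ^ i.val)⁻¹) *
      (g : GL chevE6.Idx K)⁻¹ ∈ H' j := by
    intro h hh
    have hm : (MulAut.conj g) ⟨_, hH' i (hmem i h hh)⟩ ∈ (H' j).subgroupOf (twistedE6 K 2) := by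
      rw [← hmap]
      exact ⟨_, (show (⟨_, hH' i (hmem i h hh)⟩ : twistedE6 K 2) ∈
        (H' i).subgroupOf (twistedE6 K 2) from hmem i h hh), rfl⟩
    exact hm
  have hkey' : ∀ h ∈ H, (g : GL chevE6.Idx K)⁻¹ * (d ^ j.val * h * (d ^ j.val)⁻¹) *
      (g : GL chevE6.Idx K) ∈ H' i := by
    intro h hh
    have hh' : (⟨_, hH' j (hmem j h hh)⟩ : twistedE6 K 2) ∈
        ((H' i).subgroupOf (twistedE6 K 2)).map (MulAut.conj g).toMonoidHom := by
      rw [hmap]
      exact hmem j h hh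
    obtain ⟨x, hx', ex⟩ := hh'
    have ex' := congrArg Subtype.val ex
    show (g : GL chevE6.Idx K)⁻¹ * (d ^ j.val * h * (d ^ j.val)⁻¹) * g ∈ H' i
    have e2 : (g : GL chevE6.Idx K)⁻¹ * (d ^ j.val * h * (d ^ j.val)⁻¹) * g = x.1 := by
      rw [show d ^ j.val * h * (d ^ j.val)⁻¹ =
        (g : GL chevE6.Idx K) * x.1 * (g : GL chevE6.Idx K)⁻¹ from ex'.symm]
      group
    rw [e2]; exact hx'
  have main : ∀ (a b : ℕ) (γ : GL chevE6.Idx K), γ ∈ C.A.grp →
      (∀ h ∈ H, γ * (d ^ (b + a) * h * (d ^ (b + a))⁻¹) * γ⁻¹ ∈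
        H.map (MulAut.conj (d ^ b)).toMonoidHom) → u ^ a ∈ C.A.chiHom.range := by
    intro a b γ hγ hc
    refine range_of_conj C hH hfix he heU hco he2 hsyl (u ^ a)
      (δ := d ^ a) (χ := fun r => (χ r : K) ^ a) (hx a)
      (fun i => by simp [hχu]) (g := (d ^ b)⁻¹ * γ * d ^ b) (hd3 γ hγ b) fun h hh => ?_
    obtain ⟨x, hx', ex⟩ := hc h hh
    have e2 : (d ^ b)⁻¹ * γ * d ^ b * (d ^ a * h * (d ^ a)⁻¹) * ((d ^ b)⁻¹ * γ * d ^ b)⁻¹ = x := by
      have ex' : γ * (d ^ (b + a) * h * (d ^ (b + a))⁻¹) * γ⁻¹ = d ^ b * x * (d ^ b)⁻¹ := ex.symm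
      rw [show x = (d ^ b)⁻¹ * (d ^ b * x * (d ^ b)⁻¹) * d ^ b by group, ← ex', pow_add]
      group
    rw [e2]; exact hx'
  have hgG : (g : GL chevE6.Idx K) ∈ C.A.grp :=
    show (g : GL chevE6.Idx K) ∈ C.W.G1 by rw [hG]; exact g.2
  obtain ⟨a, ha0, ha3, hma⟩ : ∃ a : ℕ, 0 < a ∧ a < 3 ∧ u ^ a ∈ C.A.chiHom.range := by
    rcases Nat.lt_or_ge j.val i.val with hlt | hge
    · refine ⟨i.val - j.val, by omega, by omega, main _ j.val g hgG fun h hh => ?_⟩
      rw [Nat.add_sub_cancel' hlt.le]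
      exact hkey h hh
    · have : i.val ≠ j.val := fun h => hij (Fin.ext h)
      refine ⟨j.val - i.val, by omega, by omega, main _ i.val _ (inv_mem hgG) fun h hh => ?_⟩
      rw [Nat.add_sub_cancel' hge, inv_inv]
      exact hkey' h hh
  have hu3 : u ^ 3 ∈ C.A.chiHom.range := by
    have := C.A.chiHom.range.pow_index_mem u
    rwa [hidx] at this
  refine hu ?_
  rcases (by omega : a = 1 ∨ a = 2) with rfl | rfl
  · simpa using hma
  · have := mul_mem hu3 (inv_mem hma)
    rwa [pow_succ', mul_inv_cancel_right] at this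

end CfsgLib.Chev.E6ThreeF4
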