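import Cfsg.Agent.Chev.TwistedE6
import Cfsg.Agent.Chev.TwoGenerated

/-!
`²E₆(q)` is generated by a torus element and a twisted root element times a Coxeter representative.
-/

set_option autoImplicit false
set_option linter.unusedSectionVars false
set_option linter.unusedSimpArgs false
set_option linter.style.haveILetI false
set_option maxRecDepth 2000

namespace CfsgLib.Chev.E6Tw

open Cfsg.Lie Tab
open scoped MatrixGroups

/-- The two roots differ, are not opposite and their root elements commute. -/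
def nrel (r s : ℕ) : Bool :=
  Nat.blt r 72 && Nat.blt s 72 && !(Nat.beq s r) && !(Nat.beq s (negR chevE6 r)) &&
    (E6Data.tab.commT r s).isEmpty

/-- The one term of a commutator, with both exponents one. -/
def oneTerm (r s c : ℕ) : Bool :=
  Nat.blt r 72 && Nat.blt s 72 && !(Nat.beq s r) && !(Nat.beq s (negR chevE6 r)) &&
  match E6Data.tab.commT r s with
  | [e] => Nat.beq e.1 c && Nat.beq e.2.1.natAbs 1 && Nat.beq e.2.2.1 1 && Nat.beq e.2.2.2 1
  | _ => false

/-- Membership of an unordered pair. -/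
def hasPair (S : List (ℕ × ℕ)) (r s : ℕ) : Bool :=
  (S.any fun p => Nat.beq p.1 r && Nat.beq p.2 s) ||
    ((S.any fun p => Nat.beq p.1 s && Nat.beq p.2 r) && nrel r s)

/-- A step producing a pair. -/
def pairStep (S : List (ℕ × ℕ)) (r rb s sb k kb : ℕ) : Bool :=
  hasPair S r rb && hasPair S s sb && nrel r rb && nrel s sb && nrel r sb && nrel rb s &&
    nrel k rb && nrel k sb && oneTerm r s k && oneTerm rb sb kb

/-- A step producing a single root. -/
def soloStep (S : List (ℕ × ℕ)) (r rb s sb m : ℕ) : Bool :=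
  hasPair S r rb && hasPair S s sb && nrel r rb && nrel s sb && nrel r s && nrel rb sb &&
    nrel m rb && nrel m sb && oneTerm r sb m && oneTerm rb s m

/-- All simple orbits are reached. -/
def reached : List (ℕ × ℕ × ℕ × ℕ × ℕ × ℕ) → List (ℕ × ℕ × ℕ × ℕ × ℕ) → List (ℕ × ℕ) → Bool
  | [], solo, S =>
      (solo.all fun e => soloStep S e.1 e.2.1 e.2.2.1 e.2.2.2.1 e.2.2.2.2) &&
      ([46, 25, 39, 32].all fun m => solo.any fun e => Nat.beq e.2.2.2.2 m) &&
      hasPair S 56 36 && hasPair S 15 35 && hasPair S 42 37 && hasPair S 29 34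
  | (r, rb, s, sb, k, kb) :: rest, solo, S =>
      pairStep S r rb s sb k kb && reached rest solo ((k, kb) :: S)

/-- The word of the Coxeter element. -/
def coxWord : List (Fin chevE6.rank) :=
  [⟨1, by decide⟩, ⟨3, by decide⟩, ⟨0, by decide⟩, ⟨5, by decide⟩, ⟨2, by decide⟩, ⟨4, by decide⟩]

/-- The pairs of the orbit of `(36, 56)`. -/
def orbPairs : List (ℕ × ℕ) :=
  ((E6Data.tab.orbN (coxWord.map Fin.val) 12 36).zip (E6Data.tab.orbN (coxWord.map Fin.val) 12 56))

/-- Pair steps. -/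
def pairSteps : List (ℕ × ℕ × ℕ × ℕ × ℕ × ℕ) :=
  [(9, 19, 28, 31, 4, 16), (9, 19, 30, 13, 5, 3), (13, 30, 23, 21, 7, 17), (14, 33, 31, 28, 12, 26),
    (14, 33, 56, 36, 29, 34), (15, 35, 21, 23, 10, 22), (15, 35, 57, 38, 42, 37),
    (36, 56, 48, 50, 49, 61), (38, 57, 43, 40, 45, 59), (40, 43, 52, 62, 55, 67),
    (41, 58, 50, 48, 54, 64), (41, 58, 62, 52, 66, 68)]

/-- Single root steps. -/
def soloSteps : List (ℕ × ℕ × ℕ × ℕ × ℕ) :=
  [(12, 26, 52, 62, 46), (9, 19, 54, 64, 39), (9, 19, 45, 59, 25), (7, 17, 52, 62, 32)]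

theorem chkReached : reached pairSteps soloSteps orbPairs = true := by decide +kernel

theorem chkBack : E6Data.tab.pwN (coxWord.map Fin.val) 33 = 36 ∧
    E6Data.tab.pwN (coxWord.map Fin.val) 14 = 56 := by decide +kernel

variable {K : Type*} [Field K] [Fintype K] {q : ℕ}

local notation "Gx" => good_E6.full.x

theorem comm_of_nrel {r s : ℕ} (h : nrel r s = true) (t u : K) : Commute (Gx r t) (Gx s u) := by
  simp only [nrel, Bool.and_eq_true, Nat.blt_eq, Bool.not_eq_true', List.isEmpty_iff] at h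
  obtain ⟨⟨⟨⟨hr, hs⟩, h1⟩, h2⟩, h3⟩ := h
  have hne : s ≠ r := fun e => by rw [Tab.beq_true e] at h1; exact Bool.noConfusion h1
  have hne' : s ≠ negR chevE6 r := fun e => by rw [Tab.beq_true e] at h2; exact Bool.noConfusion h2
  have e := good_E6.full.x_comm (F := K) hr hs hne hne' t u
  rw [good_E6.full.cert.commWord_eq hr hs, h3] at e
  simp only [rhsWord, List.map_nil, List.prod_nil, mul_one] at e
  exact e.symm

theorem term_of {r s c : ℕ} (h : oneTerm r s c = true) : ∃ η : K, (η = 1 ∨ η = -1) ∧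
    ∀ t u : K, Gx s u * Gx r t = Gx r t * Gx s u * Gx c (η * (t * u)) := by
  unfold oneTerm at h
  simp only [Bool.and_eq_true, Nat.blt_eq, Bool.not_eq_true'] at h
  obtain ⟨⟨⟨⟨hr, hs⟩, h1⟩, h2⟩, h3⟩ := h
  have hne : s ≠ r := fun e => by rw [Tab.beq_true e] at h1; exact Bool.noConfusion h1
  have hne' : s ≠ negR chevE6 r := fun e => by rw [Tab.beq_true e] at h2; exact Bool.noConfusion h2
  split at h3
  next e he =>
    simp only [Bool.and_eq_true, Nat.beq_eq] at h3
    obtain ⟨⟨⟨rfl, ha⟩, hi⟩, hj⟩ := h3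
    refine ⟨-(e.2.1 : K), ?_, fun t u => ?_⟩
    · rcases Int.natAbs_eq e.2.1 with h | h <;> rw [ha] at h <;> rw [h]
      · exact Or.inr (by simp)
      · exact Or.inl (by simp)
    · rw [good_E6.full.x_comm (F := K) hr hs hne hne' t u, good_E6.full.cert.commWord_eq hr hs, he]
      simp only [rhsWord, List.map_cons, List.map_nil, List.prod_cons, List.prod_nil, mul_one, hi, hj,
        pow_one]
      congr 2
      ring
  next => exact Bool.noConfusion h3

theorem pow_sign (hq : IsPrimePow q) (hK : Fintype.card K = q ^ 2) {η : K} (h : η = 1 ∨ η = -1) :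
    η ^ q = η := by
  obtain ⟨φ, hφ⟩ := exists_frob hq hK two_pos
  rcases h with rfl | rfl
  · exact one_pow q
  · rw [← hφ, map_neg, map_one]

/-- The pair root group is in `H`. -/
def PairIn (q : ℕ) (H : Subgroup (GL chevE6.Idx K)) (r s : ℕ) : Prop :=
  ∃ k : K, k ≠ 0 ∧ ∀ t : K, Gx r t * Gx s (k * t ^ q) ∈ H

theorem pairIn_swap (hK : Fintype.card K = q ^ 2) {H : Subgroup (GL chevE6.Idx K)} {r s : ℕ}
    (h : PairIn q H s r) (hn : nrel r s = true) : PairIn q H r s := by
  obtain ⟨k, hk, h⟩ := h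
  refine ⟨(k ^ q)⁻¹, inv_ne_zero (pow_ne_zero q hk), fun t => ?_⟩
  have := h ((k ^ q)⁻¹ * t ^ q)
  rw [mul_pow, inv_pow, ← pow_mul, ← pow_mul, ← pow_two, pow_q_pow hK, pow_q_pow hK,
    ← mul_assoc, mul_inv_cancel₀ hk, one_mul] at this
  rw [(comm_of_nrel hn t _).eq]
  exact this

theorem hasPair_spec (hK : Fintype.card K = q ^ 2) {H : Subgroup (GL chevE6.Idx K)}
    {S : List (ℕ × ℕ)} (hS : ∀ p ∈ S, PairIn q H p.1 p.2) {r s : ℕ} (h : hasPair S r s = true) :
    PairIn q H r s := by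
  simp only [hasPair, Bool.or_eq_true, Bool.and_eq_true, List.any_eq_true, Nat.beq_eq] at h
  rcases h with ⟨p, hp, rfl, rfl⟩ | ⟨⟨p, hp, rfl, rfl⟩, hn⟩
  · exact hS p hp
  · exact pairIn_swap hK (hS p hp) hn

theorem pair_step (hq : IsPrimePow q) (hK : Fintype.card K = q ^ 2)
    {H : Subgroup (GL chevE6.Idx K)} {S : List (ℕ × ℕ)} (hS : ∀ p ∈ S, PairIn q H p.1 p.2)
    {r rb s sb k kb : ℕ} (h : pairStep S r rb s sb k kb = true) : PairIn q H k kb := by
  simp only [pairStep, Bool.and_eq_true] at h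
  obtain ⟨⟨⟨⟨⟨⟨⟨⟨⟨hA, hB⟩, hr⟩, hs⟩, hrsb⟩, hrbs⟩, hkrb⟩, hksb⟩, hT⟩, hT'⟩ := h
  obtain ⟨a, ha, hA⟩ := hasPair_spec hK hS hA
  obtain ⟨b, hb, hB⟩ := hasPair_spec hK hS hB
  obtain ⟨η, hη, hT⟩ := term_of (K := K) hT
  obtain ⟨η', hη', hT'⟩ := term_of (K := K) hT'
  have hne : ∀ {x : K}, x = 1 ∨ x = -1 → x ≠ 0 ∧ x * x = 1 := by
    rintro x (rfl | rfl) <;> simp
  refine ⟨η' * a * b * η, by simp [ha, hb, (hne hη).1, (hne hη').1], fun v => ?_⟩
  set t := η * v with ht
  set A := Gx r t with hA'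
  set A' := Gx rb (a * t ^ q) with hA''
  set B := Gx s (1 : K) with hB'
  set B' := Gx sb (b * (1 : K) ^ q) with hB''
  have hmem : (A * A' * (B * B'))⁻¹ * (B * B' * (A * A')) ∈ H :=
    mul_mem (inv_mem (mul_mem (hA t) (hB 1))) (mul_mem (hB 1) (hA t))
  set W := Gx k (η * (t * 1)) with hW
  set W' := Gx kb (η' * (a * t ^ q * (b * (1 : K) ^ q))) with hW'
  have e : B * B' * (A * A') = A * A' * (B * B') * (W * W') :=
    calc B * B' * (A * A') = B * (B' * A) * A' := by simp only [mul_assoc]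
      _ = (B * A) * (B' * A') := by rw [← (comm_of_nrel hrsb t _).eq]; simp only [mul_assoc]; rfl
      _ = A * B * W * (A' * B' * W') := by rw [hT, hT']
      _ = A * B * (W * A' * B') * W' := by simp only [mul_assoc]
      _ = A * B * (A' * B' * W) * W' := by
        rw [((comm_of_nrel hkrb (η * (t * 1)) (a * t ^ q)).eq : W * A' = A' * W), mul_assoc A' W B',
          ((comm_of_nrel hksb (η * (t * 1)) (b * (1 : K) ^ q)).eq : W * B' = B' * W)]
        simp only [mul_assoc]
        rfl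
      _ = A * (B * A') * B' * (W * W') := by simp only [mul_assoc]
      _ = A * (A' * B) * B' * (W * W') := by
        rw [((comm_of_nrel hrbs (a * t ^ q) (1 : K)).eq : A' * B = B * A')]
      _ = _ := by simp only [mul_assoc]
  rw [e, inv_mul_cancel_left] at hmem
  rw [hW, hW', ht] at hmem
  convert hmem using 3
  · rw [mul_one, ← mul_assoc, (hne hη).2, one_mul]
  · rw [mul_pow, pow_sign hq hK hη, one_pow]; ring

theorem solo_step (hq : IsPrimePow q) (hK : Fintype.card K = q ^ 2)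
    {H : Subgroup (GL chevE6.Idx K)} {S : List (ℕ × ℕ)} (hS : ∀ p ∈ S, PairIn q H p.1 p.2)
    {r rb s sb m : ℕ} (h : soloStep S r rb s sb m = true) :
    ∃ a b : K, b ≠ 0 ∧ ∀ t : K, Gx m (a * t + b * t ^ q) ∈ H := by
  simp only [soloStep, Bool.and_eq_true] at h
  obtain ⟨⟨⟨⟨⟨⟨⟨⟨⟨hA, hB⟩, hr⟩, hs⟩, hrs⟩, hrbsb⟩, hmrb⟩, hmsb⟩, hT⟩, hT'⟩ := h
  obtain ⟨a, ha, hA⟩ := hasPair_spec hK hS hA
  obtain ⟨b, hb, hB⟩ := hasPair_spec hK hS hB
  obtain ⟨η, hη, hT⟩ := term_of (K := K) hT
  obtain ⟨η', hη', hT'⟩ := term_of (K := K) hT'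
  refine ⟨η * b, η' * a, mul_ne_zero (by rcases hη' with rfl | rfl <;> simp) ha, fun t => ?_⟩
  set A := Gx r t with hA'
  set A' := Gx rb (a * t ^ q) with hA''
  set B := Gx s (1 : K) with hB'
  set B' := Gx sb (b * (1 : K) ^ q) with hB''
  set W := Gx m (η * (t * (b * (1 : K) ^ q))) with hW
  set W' := Gx m (η' * (a * t ^ q * 1)) with hW'
  have hmem : (A * A' * (B * B'))⁻¹ * (B * B' * (A * A')) ∈ H :=
    mul_mem (inv_mem (mul_mem (hA t) (hB 1))) (mul_mem (hB 1) (hA t))
  have e : B * B' * (A * A') = A * A' * (B * B') * (W' * W) :=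
    calc B * B' * (A * A') = B * (B' * A) * A' := by simp only [mul_assoc]
      _ = B * (A * B' * W) * A' := by rw [hT]
      _ = (B * A) * B' * (W * A') := by simp only [mul_assoc]
      _ = (A * B) * B' * (A' * W) := by
        rw [← ((comm_of_nrel hrs t (1 : K)).eq : A * B = B * A),
          ((comm_of_nrel hmrb _ _).eq : W * A' = A' * W)]
      _ = A * B * (B' * A') * W := by simp only [mul_assoc]
      _ = A * B * (A' * B') * W := by rw [((comm_of_nrel hrbsb _ _).eq : A' * B' = B' * A')]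
      _ = A * (B * A') * B' * W := by simp only [mul_assoc]
      _ = A * (A' * B * W') * B' * W := by rw [hT']
      _ = A * A' * B * (W' * B') * W := by simp only [mul_assoc]
      _ = A * A' * B * (B' * W') * W := by rw [((comm_of_nrel hmsb _ _).eq : W' * B' = B' * W')]
      _ = _ := by simp only [mul_assoc]
  rw [e, inv_mul_cancel_left, hW, hW', good_E6.full.x_add] at hmem
  convert hmem using 2
  rw [one_pow]; ring

theorem image_fixed (hq : IsPrimePow q) (hK : Fintype.card K = q ^ 2) {a b : K} (hb : b ≠ 0)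
    (hfix : ∀ t : K, (a * t + b * t ^ q) ^ q = a * t + b * t ^ q) (v : K) (hv : v ^ q = v) :
    ∃ t, a * t + b * t ^ q = v := by
  classical
  obtain ⟨φ, hφ⟩ := exists_frob hq hK two_pos
  let f : K →+ K := AddMonoidHom.mk' (fun t => a * t + b * t ^ q) fun x y => by
    rw [← hφ, ← hφ, ← hφ, map_add]; ring
  have hq1 := hq.one_lt
  open Polynomial in
  have hroots : ∀ c d : K, d ≠ 0 → Nat.card {t : K // c * t + d * t ^ q = 0} ≤ q := fun c d hd => by
    set P : K[X] := C d * Polynomial.X ^ q + C c * Polynomial.X with hP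
    have hdeg : P.natDegree = q := by
      rw [hP, natDegree_add_eq_left_of_natDegree_lt]
      · exact natDegree_C_mul_X_pow q d hd
      · rw [natDegree_C_mul_X_pow q d hd]
        exact lt_of_le_of_lt (by simpa using natDegree_C_mul_X_pow_le c 1) hq1
    have hP0 : P ≠ 0 := fun e => by rw [e, natDegree_zero] at hdeg; omega
    rw [Nat.card_eq_fintype_card, Fintype.card_subtype]
    refine le_trans (Finset.card_le_card ?_) ((Multiset.toFinset_card_le _).trans
      ((card_roots' P).trans hdeg.le))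
    intro t ht
    rw [Finset.mem_filter] at ht
    rw [Multiset.mem_toFinset, mem_roots hP0, hP, IsRoot, eval_add, eval_mul, eval_mul, eval_pow,
      eval_X, eval_C, eval_C, add_comm]
    exact ht.2
  have hker : Nat.card f.ker ≤ q := hroots a b hb
  have hfix' : Nat.card {t : K // t ^ q = t} ≤ q := by
    refine le_trans (le_of_eq (Nat.card_congr (Equiv.subtypeEquivRight fun t => ?_)))
      (hroots (-1) 1 one_ne_zero)
    constructor <;> intro h <;> linear_combination h
  have hprod : Nat.card f.range * Nat.card f.ker = q ^ 2 := by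
    rw [← hK, ← Nat.card_eq_fintype_card, AddSubgroup.card_eq_card_quotient_mul_card_addSubgroup f.ker,
      Nat.card_congr (QuotientAddGroup.quotientKerEquivRange f).toEquiv]
  have hsub : ((f.range : Set K)) ⊆ {t | t ^ q = t} := by
    rintro _ ⟨t, rfl⟩
    exact hfix t
  have hge : q ≤ Nat.card f.range := by
    by_contra h
    have h' : Nat.card f.range * Nat.card f.ker < q * q :=
      Nat.mul_lt_mul_of_lt_of_le (lt_of_not_ge h) hker (lt_trans Nat.zero_lt_one hq1)
    rw [hprod, pow_two] at h'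
    exact lt_irrefl _ h'
  have heq := Set.eq_of_subset_of_ncard_le hsub (by
    rw [← Nat.card_coe_set_eq, ← Nat.card_coe_set_eq]
    exact le_trans hfix' hge)
  exact (Set.ext_iff.1 heq v).2 hv

theorem mapNeg : ∀ i : Fin 6,
    mapAt graphMapE6 (negR chevE6 (chevE6.simple i)) =
      (negR chevE6 (chevE6.simple (![5, 1, 4, 3, 2, 0] i : Fin 6)), 1, 1) ∧
    mapAt graphMapE6 (chevE6.simple i) = (chevE6.simple (![5, 1, 4, 3, 2, 0] i : Fin 6), 1, 1) := by
  decide +kernel

namespace Ctx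

variable (C : Ctx K q)
include C

/-- The automorphism on a root element of a fundamental root or its negative. -/
theorem A_simple {r r' : ℕ} (hr : r < chevE6.nroots) (h : mapAt graphMapE6 r = (r', 1, 1)) (t : K) :
    C.Φ.A (Gx r t) = Gx r' (t ^ q) := by
  rw [show r = (⟨r, hr⟩ : Fin chevE6.nroots).val from rfl, C.Φ.A_x, C.hπ, C.hf, h]
  simp [C.hφ]

theorem solo_fixed {m : ℕ} (hm : m < chevE6.nroots) (h : mapAt graphMapE6 m = (m, 1, 1)) {v : K}
    (hv : Gx m v ∈ C.Φ.Fix) : v ^ q = v := by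
  have e := hv.2
  rw [C.A_simple hm h] at e
  have := congrArg (· * (Gx m v)⁻¹) e
  simp only [mul_inv_cancel, good_E6.full.x_inv, good_E6.full.x_add, add_neg_cancel, good_E6.full.x_zero] at this
  exact sub_eq_zero.1 (by rw [sub_eq_add_neg]; exact good_E6.x_eq_one hm this)

theorem pair_fixed {r s : ℕ} (hr : r < chevE6.nroots) (hs : s < chevE6.nroots)
    (h : mapAt graphMapE6 r = (s, 1, 1)) (h' : mapAt graphMapE6 s = (r, 1, 1)) (hn : nrel r s = true)
    (hrs : r ≠ s) {k : K} (hmem : Gx r (1 : K) * Gx s (k * (1 : K) ^ q) ∈ C.Φ.Fix) : k = 1 := by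
  rw [one_pow, mul_one] at hmem
  have e := hmem.2
  have g1 : Gx r (1 : K) ∈ chevE6.group K := good_E6.x_mem_group _ _
  have g2 : Gx s k ∈ chevE6.group K := good_E6.x_mem_group _ _
  rw [C.Φ.A_mul g1 g2, C.A_simple hr h, C.A_simple hs h', one_pow,
    ← (comm_of_nrel hn (k ^ q) (1 : K)).eq] at e
  have e2 : Gx r (k ^ q - 1) = Gx s (k - 1) := by
    have := congrArg (fun z => (Gx r (1 : K))⁻¹ * z * (Gx s (1 : K))⁻¹) e
    simp only [mul_assoc, inv_mul_cancel_left, good_E6.full.x_inv, good_E6.full.x_add] at this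
    simp only [← mul_assoc, good_E6.full.x_add, add_neg_cancel, neg_add_cancel, good_E6.full.x_zero,
      one_mul, mul_one] at this
    rw [sub_eq_add_neg, sub_eq_add_neg, add_comm (k ^ q) (-1), this]
  have hz : k ^ q - 1 = 0 := by
    by_contra hne
    exact hrs (good_E6.x_inj_root hr hs hne e2)
  exact C.φ.injective (by rw [C.hφ, map_one]; exact sub_eq_zero.1 hz)

end Ctx

theorem reached_sound (C : Ctx K q) {H : Subgroup (GL chevE6.Idx K)} (hH : H ≤ C.Φ.Fix) :
    ∀ (st : List (ℕ × ℕ × ℕ × ℕ × ℕ × ℕ)) (solo : List (ℕ × ℕ × ℕ × ℕ × ℕ)) (S : List (ℕ × ℕ)),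
      reached st solo S = true → (∀ p ∈ S, PairIn q H p.1 p.2) → twistedE6 K q ≤ H := by
  intro st
  induction st with
  | nil =>
    intro solo S h hS
    simp only [reached, Bool.and_eq_true, List.all_eq_true, List.any_eq_true, Nat.beq_eq] at h
    obtain ⟨⟨⟨⟨⟨hsolo, hall⟩, h1⟩, h2⟩, h3⟩, h4⟩ := h
    refine (Subgroup.closure_le _).mpr ?_
    rintro g ⟨w, hw, hg⟩
    have hg' : g = (w.map fun p => Gx p.1 p.2).prod :=
      Units.ext (hg.trans (good_E6.full.coe_word w).symm)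
    rcases hw with ⟨t, ht, m, hm, rfl⟩ | ⟨t, ⟨r, r'⟩, hr, rfl⟩
    · have hm4 : m ∈ [46, 25, 39, 32] := by
        simpa [e6p2, e6m2, e6p4, e6m4] using hm
      obtain ⟨e, he, rfl⟩ := hall m hm4
      obtain ⟨a, b, hb, hmem⟩ := solo_step C.hq C.hK hS (hsolo e he)
      obtain ⟨hlt, hmap⟩ : e.2.2.2.2 < chevE6.nroots ∧
          mapAt graphMapE6 e.2.2.2.2 = (e.2.2.2.2, 1, 1) := by
        revert hm4
        generalize e.2.2.2.2 = m
        intro hm4
        simp only [List.mem_cons, List.not_mem_nil, or_false] at hm4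
        rcases hm4 with rfl | rfl | rfl | rfl <;> decide +kernel
      obtain ⟨u, hu⟩ := image_fixed C.hq C.hK hb (fun u => C.solo_fixed hlt hmap (hH (hmem u))) t ht
      rw [SetLike.mem_coe, hg']
      simp only [List.map_cons, List.map_nil, List.prod_cons, List.prod_nil, mul_one]
      rw [← hu]
      exact hmem u
    · have key : ∀ x y : ℕ, hasPair S x y = true → x < chevE6.nroots → y < chevE6.nroots →
          mapAt graphMapE6 x = (y, 1, 1) → mapAt graphMapE6 y = (x, 1, 1) → nrel x y = true → x ≠ y →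
          Gx x t * Gx y (t ^ q) ∈ H := by
        intro x y hp hx hy hxy hyx hn hne
        obtain ⟨k, -, hk⟩ := hasPair_spec C.hK hS hp
        have := C.pair_fixed hx hy hxy hyx hn hne (hH (hk 1))
        subst this
        simpa using hk t
      rw [SetLike.mem_coe, hg']
      simp only [List.map_cons, List.map_nil, List.prod_cons, List.prod_nil, mul_one]
      simp only [List.mem_cons, List.not_mem_nil, or_false, Prod.mk.injEq] at hr
      rcases hr with ⟨rfl, rfl⟩ | ⟨rfl, rfl⟩ | ⟨rfl, rfl⟩ | ⟨rfl, rfl⟩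
      · exact key 56 36 h1 (by decide) (by decide) (by decide +kernel) (by decide +kernel) (by decide +kernel) (by decide)
      · exact key 15 35 h2 (by decide) (by decide) (by decide +kernel) (by decide +kernel) (by decide +kernel) (by decide)
      · exact key 42 37 h3 (by decide) (by decide) (by decide +kernel) (by decide +kernel) (by decide +kernel) (by decide)
      · exact key 29 34 h4 (by decide) (by decide) (by decide +kernel) (by decide +kernel) (by decide +kernel) (by decide)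
  | cons e rest ih =>
    intro solo S h hS
    obtain ⟨r, rb, s, sb, k, kb⟩ := e
    simp only [reached, Bool.and_eq_true] at h
    refine ih solo _ h.2 fun p hp => ?_
    rcases List.mem_cons.1 hp with rfl | hp
    · exact pair_step C.hq C.hK hS h.1
    · exact hS p hp

theorem pair_orbit {H : Subgroup (GL chevE6.Idx K)} (hn : good_E6.full.nw K coxWord ∈ H) :
    ∀ (n r s : ℕ), r < chevE6.nroots → s < chevE6.nroots → PairIn q H r s →
      ∀ p ∈ (E6Data.tab.orbN (coxWord.map Fin.val) n r).zip (E6Data.tab.orbN (coxWord.map Fin.val) n s),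
        PairIn q H p.1 p.2 := by
  intro n
  induction n with
  | zero => intro r s _ _ _ p hp; simp [Tab.orbN] at hp
  | succ n ih =>
    intro r s hr hs h p hp
    rw [Tab.orbN, Tab.orbN, List.zip_cons_cons] at hp
    rcases List.mem_cons.1 hp with rfl | hp
    · exact h
    refine ih _ _ (good_E6.pwN_lt (by simp) hr) (good_E6.pwN_lt (by simp) hs) ?_ p hp
    obtain ⟨k, hk, h⟩ := h
    obtain ⟨c, hc⟩ := good_E6.nw_conj_exists (F := K) coxWord hr
    obtain ⟨d, hd⟩ := good_E6.nw_conj_exists (F := K) coxWord hs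
    refine ⟨(d : K) * k * ((c : K) ^ q)⁻¹,
      mul_ne_zero (mul_ne_zero d.ne_zero hk) (inv_ne_zero (pow_ne_zero q c.ne_zero)), fun t => ?_⟩
    have := mul_mem (mul_mem hn (h (((c⁻¹ : Kˣ) : K) * t))) (inv_mem hn)
    rw [← conj_mul, hc, hd, Units.mul_inv_cancel_left, mul_pow, Units.val_inv_eq_inv_val, inv_pow] at this
    convert this using 3
    ring

/-- `²E₆(q)` is two-generated. -/
theorem two_generated (hq : IsPrimePow q) (hK : Fintype.card K = q ^ 2) :
    ∃ a b : ↥(twistedE6 K q), Subgroup.closure ({a, b} : Set ↥(twistedE6 K q)) = ⊤ := by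
  classical
  obtain ⟨C⟩ := exists_ctx (K := K) hq hK
  obtain ⟨p, hcp⟩ := CharP.exists K
  haveI := hcp
  haveI : Fact p.Prime := ⟨CharP.char_is_prime K p⟩
  letI := ZMod.algebra K p
  obtain ⟨nn, -, hnn⟩ := FiniteField.card K p
  obtain ⟨g0, hg0, hgo, -⟩ := SL2Pres.exists_generator (F := K)
  set ζ : Kˣ := Units.mk0 g0 hg0
  have hfix : twistedE6 K q ≤ C.Φ.Fix := C.grp_eq ▸ C.Z.le_fix
  have hφ := C.hφ
  -- the generators
  have word : ∀ (w : List (ℕ × K)), w ∈ e6Words K q → (w.map fun p => Gx p.1 p.2).prod ∈ twistedE6 K q :=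
    fun w hw => Subgroup.subset_closure ⟨w, hw, good_E6.full.coe_word w⟩
  have hpair : ∀ r s : ℕ, (r, s) ∈ [(e6p1, e6p6), (e6m1, e6m6), (e6p3, e6p5), (e6m3, e6m5)] → ∀ t : K,
      Gx r t * Gx s (t ^ q) ∈ twistedE6 K q := fun r s hrs t => by
    have := word _ (Or.inr ⟨t, (r, s), hrs, rfl⟩)
    simpa using this
  have hsolo : ∀ r ∈ [e6p2, e6m2, e6p4, e6m4], ∀ t : K, t ^ q = t → Gx r t ∈ twistedE6 K q :=
    fun r hr t ht => by
      have := word _ (Or.inl ⟨t, ht, r, hr, rfl⟩)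
      simpa using this
  have hneg : ∀ t : K, (-t) ^ q = -(t ^ q) := fun t => by rw [← hφ, ← hφ, map_neg]
  have hnr2 : ∀ r s : ℕ, nrel r s = true → nrel r (negR chevE6 s) = true →
      nrel (negR chevE6 r) s = true →
      (r, s) ∈ [(e6p1, e6p6), (e6m1, e6m6), (e6p3, e6p5), (e6m3, e6m5)] →
      (negR chevE6 r, negR chevE6 s) ∈ [(e6p1, e6p6), (e6m1, e6m6), (e6p3, e6p5), (e6m3, e6m5)] →
      ∀ t : K, good_E6.full.nr r t * good_E6.full.nr s (t ^ q) ∈ twistedE6 K q := by
    intro r s h1 h2 h3 hm hm' t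
    have e : good_E6.full.nr r t * good_E6.full.nr s (t ^ q) =
        (Gx r t * Gx s (t ^ q)) * (Gx (negR chevE6 r) (-t⁻¹) * Gx (negR chevE6 s) ((-t⁻¹) ^ q)) *
          (Gx r t * Gx s (t ^ q)) := by
      rw [hneg, inv_pow]
      unfold Full.nr
      generalize hR : Gx r t = R
      generalize hR' : Gx (negR chevE6 r) (-t⁻¹) = R'
      generalize hS : Gx s (t ^ q) = Sx
      generalize hS' : Gx (negR chevE6 s) (-(t ^ q)⁻¹) = Sy
      have c1 : R * Sx = Sx * R := by rw [← hR, ← hS]; exact (comm_of_nrel h1 _ _).eq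
      have c2 : R * Sy = Sy * R := by rw [← hR, ← hS']; exact (comm_of_nrel h2 _ _).eq
      have c3 : R' * Sx = Sx * R' := by rw [← hR', ← hS]; exact (comm_of_nrel h3 _ _).eq
      calc R * R' * R * (Sx * Sy * Sx) = R * R' * (R * Sx) * Sy * Sx := by simp only [mul_assoc]
        _ = R * (R' * Sx) * R * Sy * Sx := by rw [c1]; simp only [mul_assoc]
        _ = R * Sx * R' * (R * Sy) * Sx := by rw [c3]; simp only [mul_assoc]
        _ = R * Sx * R' * Sy * (R * Sx) := by rw [c2]; simp only [mul_assoc]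
        _ = _ := by simp only [mul_assoc]
    rw [e]
    exact mul_mem (mul_mem (hpair _ _ hm t) (hpair _ _ hm' _)) (hpair _ _ hm t)
  have hns : ∀ r, r ∈ [e6p2, e6m2, e6p4, e6m4] → negR chevE6 r ∈ [e6p2, e6m2, e6p4, e6m4] →
      good_E6.full.nr r (1 : K) ∈ twistedE6 K q := fun r hr hr' => by
    refine mul_mem (mul_mem (hsolo r hr 1 (one_pow q)) (hsolo _ hr' _ ?_)) (hsolo r hr 1 (one_pow q))
    rw [inv_one, hneg, one_pow]
  have hp16 := hnr2 56 36 (by decide +kernel) (by decide +kernel) (by decide +kernel) (by decide) (by decide)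
  have hp35 := hnr2 42 37 (by decide +kernel) (by decide +kernel) (by decide +kernel) (by decide) (by decide)
  set w := good_E6.full.nw K coxWord with hw
  have hwG : w ∈ twistedE6 K q := by
    rw [show w = good_E6.full.nr 46 (1 : K) * good_E6.full.nr 39 1 *
      (good_E6.full.nr 56 1 * good_E6.full.nr 36 (1 ^ q)) *
      (good_E6.full.nr 42 1 * good_E6.full.nr 37 (1 ^ q)) by
        rw [one_pow, hw]
        show (List.map (fun i => good_E6.full.ns K i.val) coxWord).prod = _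
        simp only [coxWord, List.map_cons, List.map_nil, List.prod_cons, List.prod_nil, mul_one, mul_assoc]
        rfl]
    exact mul_mem (mul_mem (mul_mem (hns 46 (by decide) (by decide)) (hns 39 (by decide) (by decide)))
      (hp16 1)) (hp35 1)
  let c : Fin chevE6.rank → Kˣ :=
    (![1, 1, ζ⁻¹, 1, (ζ⁻¹) ^ q, 1] : Fin 6 → Kˣ)
  set h := E6Data.tab.hT K c with hh
  have hhG : h ∈ twistedE6 K q := by
    have hc : c = Pi.mulSingle (⟨2, by decide⟩ : Fin chevE6.rank) ζ⁻¹ *
        Pi.mulSingle (⟨4, by decide⟩ : Fin chevE6.rank) ((ζ⁻¹) ^ q) := by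
      funext i
      fin_cases i <;> simp [c, Pi.mulSingle_apply, Fin.ext_iff] <;> rfl
    rw [hh, hc, map_mul, good_E6.full.hT_single, good_E6.full.hT_single]
    show good_E6.full.hr 42 (((ζ⁻¹ : Kˣ) : K)) * good_E6.full.hr 37 ((((ζ⁻¹) ^ q : Kˣ)) : K) ∈ _
    rw [Units.val_pow_eq_pow_val]
    set t : K := ((ζ⁻¹ : Kˣ) : K)
    have cn : ∀ a b : K, good_E6.full.nr 42 a * good_E6.full.nr 37 b =
        good_E6.full.nr 37 b * good_E6.full.nr 42 a := fun a b => by
      have k1 : ∀ x y : ℕ, nrel x y = true → ∀ u v : K, Commute (Gx x u) (Gx y v) :=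
        fun x y hxy => comm_of_nrel hxy
      have d1 := k1 42 37 (by decide +kernel)
      have d2 := k1 42 (negR chevE6 37) (by decide +kernel)
      have d3 := k1 (negR chevE6 42) 37 (by decide +kernel)
      have d4 := k1 (negR chevE6 42) (negR chevE6 37) (by decide +kernel)
      exact (((d1 _ _).mul_right (d2 _ _)).mul_right (d1 _ _) |>.mul_left
        (((d3 _ _).mul_right (d4 _ _)).mul_right (d3 _ _)) |>.mul_left
        (((d1 _ _).mul_right (d2 _ _)).mul_right (d1 _ _))).eq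
    rw [show good_E6.full.hr 42 t * good_E6.full.hr 37 (t ^ q) =
      (good_E6.full.nr 42 t * good_E6.full.nr 37 (t ^ q)) *
      (good_E6.full.nr 42 (-1) * good_E6.full.nr 37 ((-1) ^ q)) by
        rw [hneg, one_pow]
        unfold Full.hr
        rw [mul_assoc, ← mul_assoc (good_E6.full.nr 42 (-1 : K)), cn, mul_assoc, ← mul_assoc]]
    exact mul_mem (hp35 t) (hp35 (-1))
  have hchi : ∀ (s : ℕ), E6Data.tab.chi (F := K) s c =
      ζ⁻¹ ^ E6Data.tab.cart 2 s * (ζ⁻¹ ^ q) ^ E6Data.tab.cart 4 s := fun s => by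
    show (∏ i : Fin 6, (![1, 1, ζ⁻¹, 1, (ζ⁻¹) ^ q, 1] : Fin 6 → Kˣ) i ^ E6Data.tab.cart i s) = _
    simp [Fin.prod_univ_six]
  have x36 : E6Data.tab.chi (F := K) 36 c = ζ ^ q := by
    rw [hchi, show E6Data.tab.cart 2 36 = 0 by decide +kernel, show E6Data.tab.cart 4 36 = -1 by decide +kernel]
    simp
  have x56 : E6Data.tab.chi (F := K) 56 c = ζ := by
    rw [hchi, show E6Data.tab.cart 2 56 = -1 by decide +kernel, show E6Data.tab.cart 4 56 = 0 by decide +kernel]
    simp
  have x33 : E6Data.tab.chi (F := K) 33 c = ζ ^ q := by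
    rw [hchi, show E6Data.tab.cart 2 33 = 0 by decide +kernel, show E6Data.tab.cart 4 33 = -1 by decide +kernel]
    simp
  have x14 : E6Data.tab.chi (F := K) 14 c = ζ := by
    rw [hchi, show E6Data.tab.cart 2 14 = -1 by decide +kernel, show E6Data.tab.cart 4 14 = 0 by decide +kernel]
    simp
  have hy : Gx 36 (1 : K) * Gx 56 (1 : K) ∈ twistedE6 K q := by
    have e := hpair 56 36 (by decide) 1
    rw [one_pow, (comm_of_nrel (show nrel 56 36 = true by decide +kernel) (1 : K) 1).eq] at e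
    exact e
  refine ⟨⟨h, hhG⟩, ⟨Gx 36 1 * Gx 56 1 * w, mul_mem hy hwG⟩, ?_⟩
  set H := (Subgroup.closure ({⟨h, hhG⟩, ⟨Gx 36 1 * Gx 56 1 * w, mul_mem hy hwG⟩} :
    Set ↥(twistedE6 K q))).map (twistedE6 K q).subtype with hH
  have hle : H ≤ twistedE6 K q := Subgroup.map_subtype_le _
  suffices htop : twistedE6 K q ≤ H by
    apply Subgroup.map_injective (twistedE6 K q).subtype_injective
    rw [← MonoidHom.range_eq_map, Subgroup.range_subtype]
    exact le_antisymm hle htop
  have hhH : h ∈ H := ⟨_, Subgroup.subset_closure (Set.mem_insert _ _), rfl⟩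
  have hbH : Gx 36 1 * Gx 56 1 * w ∈ H :=
    ⟨_, Subgroup.subset_closure (Set.mem_insert_of_mem _ rfl), rfl⟩
  obtain ⟨d, hd⟩ := good_E6.nw_hT (F := K) coxWord c
  obtain ⟨k₁, hk₁⟩ := good_E6.nw_conj_exists (F := K) coxWord (s := 33) (by decide)
  obtain ⟨k₂, hk₂⟩ := good_E6.nw_conj_exists (F := K) coxWord (s := 14) (by decide)
  rw [chkBack.1] at hk₁
  rw [chkBack.2] at hk₂
  set h' := E6Data.tab.hT K d with hh'
  have hd' : h' = w * h * w⁻¹ := eq_mul_inv_of_mul_eq hd.symm
  have conj' : ∀ (r r' : ℕ) (k : Kˣ), r < chevE6.nroots →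
      (∀ t : K, w * Gx r t * w⁻¹ = Gx r' ((k : K) * t)) →
      ∀ t : K, h' * Gx r' t * h'⁻¹ = Gx r' ((E6Data.tab.chi (F := K) r c : K) * t) := by
    intro r r' k hr hk t
    have e := hk (((k⁻¹ : Kˣ) : K) * t)
    rw [Units.mul_inv_cancel_left] at e
    rw [hd', ← e, show w * h * w⁻¹ * (w * Gx r (((k⁻¹ : Kˣ) : K) * t) * w⁻¹) * (w * h * w⁻¹)⁻¹ =
      w * (h * Gx r (((k⁻¹ : Kˣ) : K) * t) * h⁻¹) * w⁻¹ by group, good_E6.full.hT_conj hr, hk,
      mul_left_comm (k : K), Units.mul_inv_cancel_left]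
  have c36 : ∀ t : K, h' * Gx 36 t * h'⁻¹ = Gx 36 ((ζ : K) ^ q * t) := fun t => by
    rw [conj' 33 36 k₁ (by decide) hk₁, x33, Units.val_pow_eq_pow_val]
  have c56 : ∀ t : K, h' * Gx 56 t * h'⁻¹ = Gx 56 ((ζ : K) * t) := fun t => by
    rw [conj' 14 56 k₂ (by decide) hk₂, x14]
  have a36 : ∀ t : K, h * Gx 36 t * h⁻¹ = Gx 36 ((ζ : K) ^ q * t) := fun t => by
    rw [hh, good_E6.full.hT_conj (by decide), x36, Units.val_pow_eq_pow_val]
  have a56 : ∀ t : K, h * Gx 56 t * h⁻¹ = Gx 56 ((ζ : K) * t) := fun t => by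
    rw [hh, good_E6.full.hT_conj (by decide), x56]
  let Y : K → K → GL chevE6.Idx K := fun u v => Gx 36 u * Gx 56 v
  have hYadd : ∀ u v u' v', Y u v * Y u' v' = Y (u + u') (v + v') := fun u v u' v' => by
    simp only [Y]
    rw [mul_assoc, ← mul_assoc (Gx 56 v), ← (comm_of_nrel (show nrel 36 56 = true by decide +kernel) u' v).eq,
      mul_assoc (Gx 36 u'), good_E6.full.x_add, ← mul_assoc, good_E6.full.x_add]
  have hYinv : ∀ u v, (Y u v)⁻¹ = Y (-u) (-v) := fun u v => inv_eq_of_mul_eq_one_right (by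
    rw [hYadd, add_neg_cancel, add_neg_cancel]
    simp [Y, good_E6.full.x_zero])
  have hYh : ∀ u v, h * Y u v * h⁻¹ = Y ((ζ : K) ^ q * u) ((ζ : K) * v) := fun u v => by
    simp only [Y]; rw [← conj_mul, a36, a56]
  have hYh' : ∀ u v, h' * Y u v * h'⁻¹ = Y ((ζ : K) ^ q * u) ((ζ : K) * v) := fun u v => by
    simp only [Y]; rw [← conj_mul, c36, c56]
  have hX : Y 1 1 * h' * (Y 1 1)⁻¹ ∈ H := by
    have := mul_mem (mul_mem hbH hhH) (inv_mem hbH)
    rw [show Gx 36 (1 : K) * Gx 56 1 * w * h * (Gx 36 1 * Gx 56 1 * w)⁻¹ =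
      Gx 36 (1 : K) * Gx 56 1 * (w * h * w⁻¹) * (Gx 36 1 * Gx 56 1)⁻¹ by group, ← hd'] at this
    exact this
  set ξ : K := (ζ : K) ^ q
  have hξq : ξ ^ q = (ζ : K) := C.pow_qq _
  have hY0 : Y ((ξ - 1) * (1 - ξ)) (((ξ - 1) * (1 - ξ)) ^ q) ∈ H := by
    have e := mul_mem (mul_mem (mul_mem hhH hX) (inv_mem hhH)) (inv_mem hX)
    have hcc : h * h' * h⁻¹ = h' := by
      rw [hh, hh', ← map_mul, ← map_inv, ← map_mul, mul_comm c d, mul_inv_cancel_right]
    rw [show h * (Y 1 1 * h' * (Y 1 1)⁻¹) * h⁻¹ * (Y 1 1 * h' * (Y 1 1)⁻¹)⁻¹ =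
      (h * Y 1 1 * h⁻¹) * (h * h' * h⁻¹) * (h * (Y 1 1)⁻¹ * h⁻¹) * Y 1 1 * h'⁻¹ * (Y 1 1)⁻¹ by group,
      hcc, hYinv, hYh, hYh,
      show Y (ξ * 1) ((ζ : K) * 1) * h' * Y (ξ * -1) ((ζ : K) * -1) * Y 1 1 * h'⁻¹ * Y (-1) (-1) =
        Y (ξ * 1) ((ζ : K) * 1) * (h' * (Y (ξ * -1) ((ζ : K) * -1) * Y 1 1) * h'⁻¹) * Y (-1) (-1) by group,
      hYadd, hYh', hYadd, hYadd] at e
    convert e using 2
    · ring
    · rw [← hφ, map_mul, map_sub, map_sub, map_one, hφ, hξq]; ring
  have hζ1 : ξ ≠ 1 := by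
    intro e1
    have e2 : (ζ : K) = 1 := by rw [← hξq, e1, one_pow]
    have : orderOf g0 = 1 := by rw [show g0 = (ζ : K) from rfl, e2, orderOf_one]
    have := hq.one_lt
    rw [hgo, hK] at *
    nlinarith [Nat.sub_add_cancel (Nat.one_le_pow 2 q hq.pos)]
  set t0 := (ξ - 1) * (1 - ξ) with ht0
  have ht0ne : t0 ≠ 0 := mul_ne_zero (sub_ne_zero.2 hζ1) (sub_ne_zero.2 (Ne.symm hζ1))
  have hgen : Algebra.adjoin (ZMod p) {ξ} = ⊤ := by
    rw [eq_top_iff, ← SL2Pres.adjoin_sq (p := p) hnn (g := (ζ : K)) hgo, Algebra.adjoin_le_iff,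
      Set.singleton_subset_iff, ← hξq, ← pow_mul]
    exact pow_mem (Algebra.subset_adjoin (Set.mem_singleton _)) _
  have hfull : ∀ v : K, Y v (v ^ q) ∈ H := fun v => by
    have key := SL3Pres.all_of_stable hgen
      { carrier := {u | Y (u * t0) ((u * t0) ^ q) ∈ H}
        add_mem' := fun {x y} hx hy => by
          show Y ((x + y) * t0) (((x + y) * t0) ^ q) ∈ H
          rw [add_mul, ← hφ (x * t0 + y * t0), map_add, hφ, hφ, ← hYadd]
          exact mul_mem hx hy
        zero_mem' := by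
          show Y (0 * t0) ((0 * t0) ^ q) ∈ H
          rw [zero_mul, ← hφ, map_zero]
          simp [Y, good_E6.full.x_zero]
        neg_mem' := fun {x} hx => by
          show Y (-x * t0) ((-x * t0) ^ q) ∈ H
          rw [neg_mul, hneg, ← hYinv]
          exact inv_mem hx }
      (by show Y (1 * t0) ((1 * t0) ^ q) ∈ H; rw [one_mul]; exact hY0)
      (fun x hx => by
        show Y (ξ * x * t0) ((ξ * x * t0) ^ q) ∈ H
        rw [mul_assoc, mul_pow, hξq, ← hYh]
        exact mul_mem (mul_mem hhH hx) (inv_mem hhH)) (v / t0)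
    change Y (v / t0 * t0) ((v / t0 * t0) ^ q) ∈ H at key
    rwa [div_mul_cancel₀ v ht0ne] at key
  have hwH : w ∈ H := by
    refine (mul_mem_cancel_left ?_).1 hbH
    have := hfull 1
    rwa [one_pow] at this
  refine reached_sound C (le_trans hle hfix) pairSteps soloSteps orbPairs chkReached
    (pair_orbit hwH 12 36 56 (by decide) (by decide) ⟨1, one_ne_zero, fun t => by
      rw [one_mul]; exact hfull t⟩)

end CfsgLib.Chev.E6Tw
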