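import Cfsg.Agent.Chev.FoldTorus
import Cfsg.Agent.Chev.OrdE7
import Cfsg.Agent.Chev.TwistedField

/-!
The lattice of type `E₇` over that of `F₄`, and the three orthogonal roots which vanish on it.
-/

set_option autoImplicit false
set_option linter.style.haveILetI false

namespace CfsgLib.Chev.E7Fold

open Matrix Polynomial Cfsg.Lie Tab E6Fold

/-- The rank is not zero. -/
local instance neZeroRankF47 : NeZero chevF4.rank := ⟨by decide⟩

/-- The rank is not zero. -/
local instance neZeroRankE7 : NeZero chevE7.rank := ⟨by decide⟩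

/-- The fundamental roots of `E₆` inside `E₇`. -/
def cast67 (i : Fin chevE6.rank) : Fin chevE7.rank :=
  ⟨i.val, lt_of_lt_of_le i.isLt (by decide)⟩

/-- The fundamental roots in each orbit. -/
def orb7 (j : Fin chevF4.rank) : List (Fin chevE7.rank) := (orb6 j).map cast67

/-- The word in the Weyl group of `E₇` of a word in that of `F₄`. -/
def expand7 (L : List (Fin chevF4.rank)) : List (Fin chevE7.rank) := (E6Fold.expand L).map cast67

theorem expand7_cons (j : Fin chevF4.rank) (L : List (Fin chevF4.rank)) :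
    expand7 (j :: L) = orb7 j ++ expand7 L := by simp [expand7, E6Fold.expand, orb7]

/-- The inclusion of the lattices. -/
def iota7 : Matrix (Fin chevE7.rank) (Fin chevF4.rank) ℤ :=
  Matrix.of ![![1, 0, 0, 0], ![0, 0, 0, 1], ![0, 1, 0, 0], ![0, 0, 1, 0], ![0, 1, 0, 0],
    ![1, 0, 0, 0], ![0, 0, 0, 0]]

/-- The three positive roots vanishing on the smaller lattice. -/
def beta : Fin 3 → Fin chevE7.nroots :=
  ![⟨92, by decide⟩, ⟨107, by decide⟩, ⟨111, by decide⟩]

/-- Their coroots. -/
def corM : Matrix (Fin chevE7.rank) (Fin 3) ℤ :=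
  Matrix.of ![![0, 1, 1], ![1, 1, 1], ![1, 1, 2], ![2, 2, 2], ![2, 2, 1], ![2, 1, 1], ![1, 1, 1]]

/-- Four times a left inverse of the basis. -/
def basisInv7 : Matrix (Fin chevF4.rank ⊕ Fin 3) (Fin chevE7.rank) ℤ :=
  Matrix.fromRows (Matrix.of ![![2, 0, 0, 0, 0, 2, -4], ![0, 0, 2, 0, 2, 0, -6],
    ![0, 0, 0, 4, 0, 0, -8], ![0, 4, 0, 0, 0, 0, -4]])
    (Matrix.of ![![-2, 0, 0, 0, 0, 2, 0], ![2, 0, -2, 0, 2, -2, 2], ![0, 0, 2, 0, -2, 0, 2]])

/-- The permutation of the three roots by a reflection. -/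
def piGen : Fin chevF4.rank → Fin 3 → Fin 3 := ![![1, 0, 2], ![0, 2, 1], id, id]

/-- The permutation of the three roots by a word. -/
def piOf : List (Fin chevF4.rank) → Fin 3 → Fin 3
  | [] => id
  | j :: L => piGen j ∘ piOf L

/-- The matrix of a map of three points. -/
def permM (π : Fin 3 → Fin 3) : Matrix (Fin 3) (Fin 3) ℤ :=
  Matrix.of fun a b => if a = π b then 1 else 0

/-- The sign change at the first root. -/
def flip1 : Matrix (Fin 3) (Fin 3) ℤ := Matrix.diagonal ![-1, 1, 1]

/-- A word carrying a fundamental root to the first root. -/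
def P7 : List (Fin chevE7.rank) := [5, 4, 3, 1, 2, 3, 4, 5]

/-- The last fundamental root. -/
def j7 : Fin chevE7.rank := 6

/-- The reflection in the first root. -/
def sw7 : List (Fin chevE7.rank) := P7 ++ [j7] ++ P7.reverse

theorem gen7_iota : ∀ j : Fin chevF4.rank,
    E7Data.tab.vM (orb7 j) * iota7 = iota7 * F4Data.tab.sM j := by decide +kernel

theorem gen7_cor : ∀ j : Fin chevF4.rank,
    E7Data.tab.vM (orb7 j) * corM = corM * permM (piGen j) := by decide +kernel

theorem gen7_beta : ∀ (j : Fin chevF4.rank) (i : Fin 3),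
    E7Data.tab.wordT ((orb7 j).map Fin.val) (beta i).val = (beta (piGen j i)).val := by
  decide +kernel

theorem orb7_sq : ∀ j : Fin chevF4.rank,
    E7Data.tab.vM (orb7 j) * E7Data.tab.vM (orb7 j) = 1 := by decide +kernel

theorem piGen_sq : ∀ j : Fin chevF4.rank, piGen j ∘ piGen j = id := by decide +kernel

theorem sw7_iota : E7Data.tab.vM sw7 * iota7 = iota7 := by decide +kernel

theorem sw7_cor : E7Data.tab.vM sw7 * corM = corM * flip1 := by decide +kernel

theorem sw7_sq : E7Data.tab.vM sw7 * E7Data.tab.vM sw7 = 1 := by decide +kernel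

theorem P7_beta : E7Data.tab.wordT (P7.map Fin.val) (chevE7.simple j7.val) = (beta 0).val := by
  decide +kernel

theorem beta_iota : ∀ i : Fin 3, E7Data.tab.wrow (beta i).val ᵥ* iota7 = 0 ∧
    E7Data.tab.wrow (negF (beta i)).val ᵥ* iota7 = 0 := by decide +kernel

theorem beta_cor : ∀ i : Fin 3, E7Data.tab.wrow (beta i).val ᵥ* corM = Pi.single i 2 ∧
    E7Data.tab.wrow (negF (beta i)).val ᵥ* corM = Pi.single i (-2) := by decide +kernel

theorem beta_orth : ∀ i k : Fin 3, i ≠ k → ∀ s ∈ [beta i, negF (beta i)],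
    ∀ t ∈ [beta k, negF (beta k)], E7Data.tab.chkCommute 0 s.val t.val = true := by decide +kernel

/-- The roots of `E₇` restrict to roots of `F₄` or are among the six. -/
theorem restrict7 : ∀ s : Fin chevE7.nroots,
    (∃ s' : Fin chevF4.nroots, E7Data.tab.wrow s.val ᵥ* iota7 = F4Data.tab.wrow s'.val) ∨
      ∃ i : Fin 3, s = beta i ∨ s = negF (beta i) := by decide +kernel

theorem basis_inv7 : basisInv7 * Matrix.fromCols iota7 corM = Matrix.diagonal fun _ => 4 := by
  decide +kernel

theorem iota7_mulVec (z : Fin chevF4.rank → ℤ) (i : Fin chevE6.rank) :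
    (iota7 *ᵥ z) (cast67 i) = z (orbOf i) := by
  have : ∀ (i : Fin chevE6.rank) (k : Fin chevF4.rank),
      iota7 (cast67 i) k = if orbOf i = k then 1 else 0 := by decide +kernel
  simp [mulVec, dotProduct, this]

theorem vM_expand7 : ∀ L : List (Fin chevF4.rank),
    E7Data.tab.vM (expand7 L) * iota7 = iota7 * F4Data.tab.vM L ∧
      E7Data.tab.vM (expand7 L) * corM = corM * permM (piOf L) := by
  intro L
  induction L with
  | nil =>
    refine ⟨by simp [expand7, E6Fold.expand, vM], ?_⟩
    rw [show permM (piOf []) = 1 from by decide +kernel]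
    simp [expand7, E6Fold.expand, vM]
  | cons j L ih =>
    have hp : ∀ π ρ : Fin 3 → Fin 3, permM π * permM ρ = permM (π ∘ ρ) := fun π ρ => by
      ext a b
      simp [permM, Matrix.mul_apply]
    refine ⟨?_, ?_⟩
    · rw [expand7_cons, Tab.vM_append, Matrix.mul_assoc, ih.1, ← Matrix.mul_assoc, gen7_iota,
        Matrix.mul_assoc]
      rfl
    · rw [expand7_cons, Tab.vM_append, Matrix.mul_assoc, ih.2, ← Matrix.mul_assoc, gen7_cor,
        Matrix.mul_assoc, hp]
      rfl

theorem pw_expand7_beta : ∀ (L : List (Fin chevF4.rank)) (i : Fin 3),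
    good_E7.full.pw (expand7 L) (beta i) = beta (piOf L i) := by
  intro L
  induction L with
  | nil => intro i; simp [expand7, E6Fold.expand, Full.pw, piOf]
  | cons j L ih =>
    intro i
    rw [expand7_cons, good_E7.pw_append, Equiv.Perm.mul_apply, ih]
    exact Fin.ext ((good_E7.pw_apply _ _).trans (gen7_beta j _))

theorem vM_expand7_reverse (L : List (Fin chevF4.rank)) :
    E7Data.tab.vM (expand7 L.reverse) * E7Data.tab.vM (expand7 L) = 1 := by
  induction L with
  | nil => simp [expand7, E6Fold.expand, vM]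
  | cons j L ih =>
    rw [List.reverse_cons,
      show expand7 (L.reverse ++ [j]) = expand7 L.reverse ++ orb7 j from by
        simp [expand7, E6Fold.expand, orb7, List.flatMap_append],
      expand7_cons, Tab.vM_append, Tab.vM_append, Matrix.mul_assoc,
      ← Matrix.mul_assoc (E7Data.tab.vM (orb7 j)), orb7_sq, Matrix.one_mul, ih]

theorem piOf_append (L L' : List (Fin chevF4.rank)) : piOf (L ++ L') = piOf L ∘ piOf L' := by
  induction L with
  | nil => rfl
  | cons j L ih => rw [List.cons_append, piOf, ih, piOf, Function.comp_assoc]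

theorem piOf_reverse (L : List (Fin chevF4.rank)) : piOf L.reverse ∘ piOf L = id := by
  induction L with
  | nil => rfl
  | cons j L ih =>
    rw [List.reverse_cons, piOf_append,
      show piOf (j :: L) = piGen j ∘ piOf L from rfl, show piOf [j] = piGen j from rfl,
      Function.comp_assoc, ← Function.comp_assoc (piGen j), piGen_sq, Function.id_comp, ih]

/-- The pairs of the action on the short root lattice modulo `2` and on the three roots. -/
def states7 : List (Matrix (Fin 2) (Fin 2) (ZMod 2) × (Fin 3 → Fin 3)) :=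
  [(!![1, 0; 0, 1], ![0, 1, 2]), (!![1, 1; 0, 1], ![1, 0, 2]), (!![1, 0; 1, 1], ![0, 2, 1]),
    (!![1, 1; 1, 0], ![2, 0, 1]), (!![0, 1; 1, 1], ![1, 2, 0]), (!![0, 1; 1, 0], ![2, 1, 0])]

theorem states7_closed : ∀ j : Fin chevF4.rank, ∀ p ∈ states7,
    ((s2 j).toBlocks₁₁ * p.1, piGen j ∘ p.2) ∈ states7 := by decide +kernel

theorem states7_spec : ∀ p ∈ states7, (1 - p.1).det ≠ 0 → p.2 = ![1, 2, 0] ∨ p.2 = ![2, 0, 1] := by
  decide +kernel

theorem states7_exists : ∀ L : List (Fin chevF4.rank), ∃ (a b d : Matrix (Fin 2) (Fin 2) (ZMod 2)),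
    (a, piOf L) ∈ states7 ∧
      ((F4Data.tab.vM L).map (Int.castRingHom (ZMod 2))).submatrix split4 split4 =
        Matrix.fromBlocks a b 0 d := by
  intro L
  induction L with
  | nil =>
    refine ⟨!![1, 0; 0, 1], 0, !![1, 0; 0, 1], by decide +kernel, ?_⟩
    simp [vM, ← Matrix.one_fin_two, Matrix.fromBlocks_one]
  | cons j L ih =>
    obtain ⟨a, b, d, hst, hmod⟩ := ih
    refine ⟨(s2 j).toBlocks₁₁ * a, (s2 j).toBlocks₁₁ * b + (s2 j).toBlocks₁₂ * d,
      (s2 j).toBlocks₂₂ * d, states7_closed j _ hst, ?_⟩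
    rw [show F4Data.tab.vM (j :: L) = F4Data.tab.sM j * F4Data.tab.vM L from rfl, Matrix.map_mul,
      ← submatrix_mul_equiv _ _ _ split4 _, hmod]
    conv_lhs => rw [show ((F4Data.tab.sM j).map (Int.castRingHom (ZMod 2))).submatrix split4 split4 =
      s2 j from rfl, ← Matrix.fromBlocks_toBlocks (s2 j), s2_tri, Matrix.fromBlocks_multiply]
    simp

/-- An element of `F₄` with polynomial `Φ₁₂` permutes the three roots cyclically. -/
theorem piOf_cycle {L : List (Fin chevF4.rank)}
    (hL : (F4Data.tab.vM L.reverse).charpoly = cyclotomic 12 ℤ)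
    (h12 : (cyclotomic 12 ℤ).eval 1 = 1) :
    (piOf L.reverse = ![1, 2, 0] ∧ piOf L = ![2, 0, 1]) ∨
      (piOf L.reverse = ![2, 0, 1] ∧ piOf L = ![1, 2, 0]) := by
  obtain ⟨a, b, d, hst, hmod⟩ := states7_exists L.reverse
  have h1 : ((F4Data.tab.vM L.reverse).map (Int.castRingHom (ZMod 2))).charpoly.eval 1 = 1 := by
    rw [Matrix.charpoly_map, hL, show (1 : ZMod 2) = Int.castRingHom (ZMod 2) 1 by simp,
      eval_map, eval₂_at_apply, h12]
  rw [← Matrix.charpoly_reindex split4.symm, Matrix.reindex_apply, Equiv.symm_symm, hmod,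
    Matrix.charpoly_fromBlocks_zero₂₁, eval_mul] at h1
  have ha : (1 - a).det ≠ 0 := fun h => by
    rw [show a.charpoly.eval 1 = 0 by rw [Matrix.eval_charpoly, map_one]; exact h,
      zero_mul] at h1
    exact zero_ne_one h1
  have key : ∀ ρ : Fin 3 → Fin 3, (![1, 2, 0] ∘ ρ = id → ρ = ![2, 0, 1]) ∧
      ((![2, 0, 1] : Fin 3 → Fin 3) ∘ ρ = id → ρ = ![1, 2, 0]) := by decide +kernel
  have hinv := piOf_reverse L
  rcases states7_spec _ hst ha with h | h <;> simp only at h <;> rw [h] at hinv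
  · exact Or.inl ⟨h, (key _).1 hinv⟩
  · exact Or.inr ⟨h, (key _).2 hinv⟩

/-- The characteristic polynomial of the twisting element. -/
theorem charpoly_expand7 {L : List (Fin chevF4.rank)}
    (hL : (F4Data.tab.vM L.reverse).charpoly = cyclotomic 12 ℤ)
    (h12 : (cyclotomic 12 ℤ).eval 1 = 1) :
    (E7Data.tab.vM (expand7 L.reverse) * E7Data.tab.vM sw7).charpoly =
      cyclotomic 12 ℤ * (Polynomial.X ^ 3 + 1) := by
  set B := permM (piOf L.reverse) * flip1
  have hB : B.charpoly = Polynomial.X ^ 3 + 1 := by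
    rcases piOf_cycle hL h12 with ⟨h, -⟩ | ⟨h, -⟩
    · rw [show B = !![0, 0, 1; -1, 0, 0; 0, 1, 0] by
        simp only [B, h]; decide +kernel]
      simp [Matrix.charpoly, Matrix.det_fin_three, Matrix.charmatrix_apply]
      ring
    · rw [show B = !![0, 1, 0; 0, 0, 1; -1, 0, 0] by
        simp only [B, h]; decide +kernel]
      simp [Matrix.charpoly, Matrix.det_fin_three, Matrix.charmatrix_apply]
      ring
  let e : Fin chevF4.rank ⊕ Fin 3 ≃ Fin chevE7.rank := finSumFinEquiv
  set P : Matrix (Fin chevF4.rank ⊕ Fin 3) (Fin chevF4.rank ⊕ Fin 3) ℤ :=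
    (Matrix.fromCols iota7 corM).submatrix e id with hP
  have hdet : P.det ≠ 0 := by
    intro h0
    have h2 : (basisInv7.submatrix id e) * P = Matrix.diagonal fun _ => (4 : ℤ) := by
      rw [hP, Matrix.submatrix_mul_equiv, basis_inv7, Matrix.submatrix_id_id]
    have := congrArg Matrix.det h2
    rw [det_mul, h0, mul_zero, det_diagonal] at this
    simp at this
    exact pow_ne_zero _ (four_ne_zero (α := ℤ)) this.symm
  obtain ⟨hi, hc⟩ := vM_expand7 L.reverse
  rw [← Matrix.charpoly_reindex e.symm, Matrix.reindex_apply, Equiv.symm_symm]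
  rw [charpoly_eq_of_intertwine (B := Matrix.fromBlocks (F4Data.tab.vM L.reverse) 0 0 B) ?_ hdet,
    Matrix.charpoly_fromBlocks_zero₂₁, hL, hB]
  rw [hP, Matrix.submatrix_mul_equiv, Matrix.mul_fromCols, Matrix.mul_assoc, sw7_iota, hi,
    Matrix.mul_assoc, sw7_cor, ← Matrix.mul_assoc, hc, Matrix.mul_assoc]
  rw [show (Matrix.fromCols iota7 corM).submatrix e id *
      Matrix.fromBlocks (F4Data.tab.vM L.reverse) 0 0 B =
      (Matrix.fromCols iota7 corM * Matrix.fromBlocks (F4Data.tab.vM L.reverse) 0 0 B).submatrix e id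
    from rfl, Matrix.fromCols_mul_fromBlocks]
  simp [B]

/-- Twice the inverse of the Cartan matrix. -/
def inv7 : List (List ℤ) :=
  [[4, 4, 6, 8, 6, 4, 2], [4, 7, 8, 12, 9, 6, 3], [6, 8, 12, 16, 12, 8, 4],
    [8, 12, 16, 24, 18, 12, 6], [6, 9, 12, 18, 15, 10, 5], [4, 6, 8, 12, 10, 8, 4],
    [2, 3, 4, 6, 5, 4, 3]]

theorem inv7_cart : Tab.ofLists chevE7.rank inv7 * E7Data.tab.cartMat =
    Matrix.diagonal fun _ => (2 : ℤ) := by decide +kernel

theorem chkKer2E7 : E7Data.tab.chkKer 2 inv7 = true := by decide +kernel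

theorem smith_pos7 : ∀ i : Fin chevE7.rank, E7Data.smith.d.getD i.val 0 ≠ 0 := by decide +kernel

theorem weyl_E7 : Nat.card (good_E7.full.WJ (List.range chevE7.rank)) = 2903040 := by
  rw [good_E7.card_weyl E7Data.levels_ok]
  decide +kernel

end CfsgLib.Chev.E7Fold
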