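import Cfsg.Agent.Chev.CentTorus
import Cfsg.Agent.Chev.OrdE8
import Cfsg.Agent.Chev.OrdF4
import Cfsg.Agent.Chev.OrdG2

/-!
Certificates for the involutions of `G₂(q)`, `F₄(q)` and `E₈(q)`, `q` odd.
-/

set_option autoImplicit false

namespace CfsgLib.Chev.InvolData

open Cfsg.Lie Tab

def invG2 : List (List ℤ) := [[2, 1], [3, 2]]
def maskG2 : List ℕ := [2, 1]
def orbG2 : List (ℕ × ℕ) := [(1, 0), (0, 1)]

def invF4 : List (List ℤ) := [[2, 3, 2, 1], [3, 6, 4, 2], [4, 8, 6, 3], [2, 4, 3, 2]]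
def maskF4 : List ℕ := [2, 5, 8, 4]
def orbF4 : List (ℕ × ℕ) := [(1, 0), (0, 1)]
def orbF4' : List (ℕ × ℕ) := [(1, 0), (3, 0), (0, 1), (3, 1), (2, 2), (3, 3), (2, 4), (2, 6), (1, 8), (2, 9), (3, 10)]

def invE8 : List (List ℤ) := [[4, 5, 7, 10, 8, 6, 4, 2], [5, 8, 10, 15, 12, 9, 6, 3], [7, 10, 14, 20, 16, 12, 8, 4], [10, 15, 20, 30, 24, 18, 12, 6], [8, 12, 16, 24, 20, 15, 10, 5], [6, 9, 12, 18, 15, 12, 8, 4], [4, 6, 8, 12, 10, 8, 6, 3], [2, 3, 4, 6, 5, 4, 3, 2]]
def maskE8 : List ℕ := [4, 8, 9, 22, 40, 80, 160, 64]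
def orbE8 : List (ℕ × ℕ) := [(2, 0), (3, 0), (0, 1), (1, 2), (4, 2), (4, 4), (5, 5), (3, 6), (5, 6), (6, 7), (2, 8), (5, 8), (6, 9), (7, 10), (0, 11), (5, 11), (4, 12), (6, 12), (7, 13), (5, 15), (4, 16), (6, 16), (6, 17), (7, 18), (4, 20), (6, 20), (3, 21), (6, 21), (7, 22), (5, 23), (7, 23), (3, 25), (6, 25), (7, 26), (1, 27), (6, 27), (5, 28), (7, 28), (7, 30), (1, 32), (2, 32), (6, 32), (5, 33), (7, 33), (6, 35), (5, 36), (7, 36), (7, 37), (6, 39), (2, 40), (6, 40), (6, 41), (5, 42), (7, 42), (7, 43), (5, 45), (7, 45), (4, 46), (7, 46), (6, 48), (3, 50), (6, 50), (5, 51), (7, 51), (5, 52), (7, 52), (4, 53), (7, 53), (6, 55), (4, 56), (7, 56), (7, 58), (6, 59), (4, 61), (6, 61), (5, 62), (7, 62), (4, 63), (7, 63), (4, 65), (7, 65), (7, 67), (6, 68), (3, 70), (7, 70), (6, 71), (6, 72), (5, 74), (6, 74), (5, 75), (7, 75), (4, 76), (7, 76), (3, 78), (7, 78), (6, 79), (3, 80), (7, 80), (6, 81), (6, 82), (2, 84), (7, 84), (6, 85), (5,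 87), (7, 89), (7, 90), (7, 92), (6, 93), (7, 94), (6, 95), (7, 97), (6, 98), (5, 100), (7, 101), (6, 102), (5, 103), (6, 106), (6, 107), (6, 109), (5, 110), (6, 111), (5, 112), (6, 114), (5, 115), (5, 118), (5, 119), (5, 121), (5, 123), (4, 124), (4, 126), (4, 127), (4, 128), (3, 132), (1, 133)]
def orbE8' : List (ℕ × ℕ) := [(2, 0), (0, 1), (3, 1), (3, 2), (1, 3), (4, 3), (1, 4), (2, 4), (4, 4), (4, 5), (5, 6), (2, 7), (4, 7), (4, 8), (5, 9), (3, 10), (5, 10), (6, 11), (3, 12), (4, 12), (3, 13), (5, 13), (3, 14), (5, 14), (6, 15), (2, 16), (5, 16), (6, 17), (7, 18), (5, 20), (5, 21), (6, 22), (5, 23), (6, 24), (7, 25), (5, 26), (4, 27), (6, 27), (7, 28), (6, 30), (4, 31), (6, 31), (7, 32), (4, 33), (6, 33), (7, 34), (4, 36), (6, 36), (6, 37), (7, 38), (7, 40), (6, 41), (7, 42), (6, 44), (7, 45), (3, 47), (6, 47), (7, 48), (5, 49), (7, 49), (5, 52), (7, 52), (5, 54), (7, 54), (1, 56), (6, 56), (5, 57), (7, 57), (7, 59), (7, 61), (7, 63),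 (6, 65), (5, 66), (7, 66), (7, 67), (6, 69), (6, 70), (6, 71), (5, 72), (7, 72), (4, 73), (7, 73), (6, 75), (4, 79), (7, 79), (7, 81), (6, 82), (3, 84), (7, 84), (6, 85), (6, 86), (2, 88), (7, 88), (6, 89), (5, 91), (0, 92), (7, 92), (6, 93), (5, 94), (7, 96), (6, 97), (5, 98), (6, 100), (5, 101), (4, 102), (5, 103), (4, 104), (4, 106), (3, 107), (3, 108), (1, 109), (1, 110), (2, 110), (2, 112), (3, 114), (4, 115), (5, 116), (6, 117), (7, 118)]

theorem scG2 : G2Data.tab.chkSC invG2 = true := by decide +kernel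
theorem coverG2 : G2Data.tab.chkCover maskG2 1 1 orbG2 orbG2 = true := by decide +kernel
theorem fastG2 : G2Data.tab.chkChainF (List.range 2) G2Data.levels = true := by decide +kernel
theorem cmaskG2 : G2Data.tab.chkMask maskG2 = true := by decide +kernel
theorem numG2 : G2Data.tab.chkNum 1 2 = true := by decide +kernel
theorem countG2 : chkCount chevG2 maskG2 1 [2, 2] G2Data.levels = true := by decide +kernel

theorem scF4 : F4Data.tab.chkSC invF4 = true := by decide +kernel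
theorem coverF4 : F4Data.tab.chkCover maskF4 1 4 orbF4 orbF4' = true := by decide +kernel
theorem fastF4 : F4Data.tab.chkChainF (List.range 4) F4Data.levels = true := by decide +kernel
theorem cmaskF4 : F4Data.tab.chkMask maskF4 = true := by decide +kernel
theorem numF4 : F4Data.tab.chkNum 1 16 = true := by decide +kernel
theorem numF4' : F4Data.tab.chkNum 4 10 = true := by decide +kernel
theorem countF4 : chkCount chevF4 maskF4 1 [2, 4, 6, 8] F4Data.levels = true := by decide +kernel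
theorem countF4' : chkCount chevF4 maskF4 4 [2, 2, 4, 6] F4Data.levels = true := by decide +kernel

theorem scE8 : E8Data.tab.chkSC invE8 = true := by decide +kernel
theorem coverE8 : E8Data.tab.chkCover maskE8 3 1 orbE8 orbE8' = true := by decide +kernel
theorem cmaskE8 : E8Data.tab.chkMask maskE8 = true := by decide +kernel
theorem numE8 : E8Data.tab.chkNum 3 56 = true := by decide +kernel
theorem numE8' : E8Data.tab.chkNum 1 64 = true := by decide +kernel
theorem countE8 : chkCount chevE8 maskE8 3 [8, 2, 4, 6, 8, 10, 12, 14] E8Data.levels = true := by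
  decide +kernel
theorem countE8' : chkCount chevE8 maskE8 1 [2, 2, 6, 8, 10, 12, 14, 18] E8Data.levels = true := by
  decide +kernel

end CfsgLib.Chev.InvolData
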