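import Cfsg.Agent.Chev.EllipticTorus
import Cfsg.Agent.Chev.InvolData
import Cfsg.Agent.S1059
import Cfsg.Agent.S1062
import Cfsg.Agent.S1065
import Mathlib.RingTheory.Polynomial.Cyclotomic.Expand

/-!
The elliptic tori of `G₂`, `F₄` and `E₈`.
-/

set_option autoImplicit false
set_option linter.style.haveILetI false

namespace CfsgLib.Chev.EllipticData

open Polynomial Cfsg.Lie Tab

theorem exists_primitive_prime {n d : ℕ} (hd : 0 < d) (hn : d < n)
    (hsq : ∀ ℓ : ℕ, ℓ.Prime → ℓ ∣ d → ¬ ℓ ^ 2 ∣ n) : ∃ r : ℕ, r.Prime ∧ r ∣ n ∧ ¬ r ∣ d := by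
  by_contra hcon
  push Not at hcon
  have : n ∣ d := by
    rw [← Nat.factorization_le_iff_dvd (by omega) hd.ne']
    intro p
    by_cases hp : p.Prime
    · by_cases hpn : p ∣ n
      · have h1 : n.factorization p ≤ 1 := by
          by_contra h
          exact hsq p hp (hcon p hp hpn)
            ((hp.pow_dvd_iff_le_factorization (by omega)).mpr (by omega))
        exact h1.trans (hp.factorization_pos_of_dvd hd.ne' (hcon p hp hpn))
      · rw [Nat.factorization_eq_zero_of_not_dvd hpn]; exact Nat.zero_le _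
    · rw [Nat.factorization_eq_zero_of_not_prime _ hp]; exact Nat.zero_le _
  have := Nat.le_of_dvd hd this
  omega

variable {D : ChevalleyDatum} {T : Tab D} {F : Type*} [Field F] [Fintype F]

theorem elliptic_of (G : T.Good) {M : List (List ℤ)} (hM : T.chkSC M = true) {q n d : ℕ}
    (hq : Fintype.card F = q) (hd : 1 < d) (hphi : d.totient = D.rank)
    (hn : (cyclotomic d ℤ).eval (q : ℤ) = n) (hdn : d < n)
    (hsq : ∀ ℓ : ℕ, ℓ.Prime → ℓ ∣ d → ¬ ℓ ^ 2 ∣ n) {ls : List (ℕ × List (ℕ × ℕ) × List ℕ)}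
    (hls : T.chkChain (List.range D.rank) ls = true)
    (hW : ∀ r : ℕ, r.Prime → r ≡ 1 [MOD d] → ¬ r ∣ (ls.map fun l => l.2.2.length).prod)
    (hG : q ^ d - 1 ∣ Nat.card (D.group F)) :
    ∃ H : Subgroup ↥(D.group F), IsCyclic ↥H ∧ Nat.card ↥H = n ∧
      Subgroup.centralizer (H : Set ↥(D.group F)) = H := by
  obtain ⟨r, hr, hrn, hrd⟩ := exists_primitive_prime (by omega) hdn hsq
  haveI := Fact.mk hr
  haveI : NeZero (d : ZMod r) :=
    ⟨fun h => hrd ((CharP.cast_eq_zero_iff (ZMod r) r d).mp h)⟩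
  have hroot : (cyclotomic d (ZMod r)).IsRoot (q : ZMod r) := by
    rw [IsRoot.def, ← map_cyclotomic d (Int.castRingHom (ZMod r)), eval_map,
      show (q : ZMod r) = Int.castRingHom (ZMod r) (q : ℤ) by simp, eval₂_at_apply, hn]
    simpa using (CharP.cast_eq_zero_iff (ZMod r) r n).mpr hrn
  have hord : orderOf (q : ZMod r) = d := (isRoot_cyclotomic_iff.mp hroot).eq_orderOf.symm
  have hne : (q : ZMod r) ≠ 0 := fun h => by
    rw [h, orderOf_eq_zero (fun ho => by
      obtain ⟨k, hk, e⟩ := isOfFinOrder_iff_pow_eq_one.mp ho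
      rw [zero_pow hk.ne'] at e
      exact zero_ne_one e)] at hord
    omega
  have hr1 : r ≡ 1 [MOD d] := by
    have hdvd : d ∣ r - 1 := hord ▸ ZMod.orderOf_dvd_card_sub_one hne
    exact ((Nat.modEq_iff_dvd' hr.one_lt.le).mpr hdvd).symm
  obtain ⟨H, h1, h2, h3⟩ := G.exists_elliptic_torus (F := F) hM (r := r) (show 0 < d by omega)
    hphi (by rw [hq]; exact hord) (by rw [G.card_weyl hls]; exact hW r hr hr1)
    (dvd_trans (by
      rw [← (CharP.cast_eq_zero_iff (ZMod r) r _), Nat.cast_sub (Nat.one_le_pow _ _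
        (hq ▸ Fintype.card_pos)), Nat.cast_pow, Nat.cast_one, ← hord, pow_orderOf_eq_one,
        sub_self]) hG)
    (fun ℓ hℓ hℓd => by rw [hq, hn, Int.natAbs_natCast]; exact hsq ℓ hℓ hℓd)
  exact ⟨H, h1, by rw [h2, hq, hn, Int.natAbs_natCast], h3⟩

theorem sq_of_mod {n ℓ : ℕ} (h : (n : ZMod (ℓ ^ 2)) ≠ 0) : ¬ ℓ ^ 2 ∣ n := fun hd =>
  h ((CharP.cast_eq_zero_iff _ _ _).mpr hd)

theorem weyl_prime {r d m : ℕ} (hr : r.Prime) (h : r ≡ 1 [MOD d]) (hm : m ≠ 0)
    (hall : ∀ p ∈ m.primeFactorsList, p % d ≠ 1) (hd : 1 < d) : ¬ r ∣ m := fun hdvd =>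
  hall r ((Nat.mem_primeFactorsList hm).mpr ⟨hr, hdvd⟩)
    (by rw [Nat.ModEq, Nat.one_mod_eq_one.mpr (by omega)] at h; exact h)

theorem g2 (q : ℕ) (hF : Fintype.card F = q) (hq : 3 ≤ q) :
    ∃ H : Subgroup ↥(chevG2.group F), IsCyclic ↥H ∧ Nat.card ↥H = q ^ 2 + q + 1 ∧
      Subgroup.centralizer (H : Set ↥(chevG2.group F)) = H := by
  refine elliptic_of good_G2 InvolData.scG2 (d := 3) hF (by norm_num)
    (by rw [Nat.totient_prime Nat.prime_three]; rfl)
    (by simp [cyclotomic_three]) (by nlinarith) (fun ℓ hℓ hd => ?_) G2Data.levels_ok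
    (fun r hr h => ?_) ?_
  · rw [(Nat.prime_dvd_prime_iff_eq hℓ Nat.prime_three).mp hd]
    refine sq_of_mod ?_
    push_cast
    revert q
    intro q _ _
    generalize (q : ZMod (3 ^ 2)) = x
    revert x
    decide
  · rcases Nat.lt_or_ge r 4 with h4 | h4
    · interval_cases r <;> simp_all (config := { decide := true })
    · intro hdvd
      have e : (G2Data.levels.map fun l => l.2.2.length).prod = 2 ^ 2 * 3 := by decide +kernel
      rw [e] at hdvd
      rcases hr.dvd_mul.mp hdvd with h2 | h2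
      · have := Nat.le_of_dvd (by norm_num) (hr.dvd_of_dvd_pow h2); omega
      · have := Nat.le_of_dvd (by norm_num) h2; omega
  · rw [Cfsg.Agent.S1059.result hF]
    refine dvd_trans ?_ (dvd_mul_left _ _)
    have := Nat.sub_dvd_pow_sub_pow (q ^ 3) 1 2
    rwa [← pow_mul, one_pow] at this

theorem f4 (q : ℕ) (hF : Fintype.card F = q) :
    ∃ H : Subgroup ↥(chevF4.group F), IsCyclic ↥H ∧ Nat.card ↥H = q ^ 4 + 1 ∧
      Subgroup.centralizer (H : Set ↥(chevF4.group F)) = H := by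
  have h2 : 2 ≤ q := hF ▸ Fintype.one_lt_card
  refine elliptic_of good_F4 InvolData.scF4 (d := 8) hF (by norm_num)
    (by rw [show (8 : ℕ) = 2 ^ 3 by norm_num, Nat.totient_prime_pow Nat.prime_two (by norm_num)]
        rfl)
    (by
      rw [show (8 : ℕ) = 2 ^ (2 + 1) by norm_num, cyclotomic_prime_pow_eq_geom_sum Nat.prime_two]
      simp [Finset.sum_range_succ, eval_add]
      ring)
    (by have := Nat.pow_le_pow_left h2 4; omega) (fun ℓ hℓ hd => ?_) F4Data.levels_ok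
    (fun r hr h hdvd => ?_) ?_
  · rw [(Nat.prime_dvd_prime_iff_eq hℓ Nat.prime_two).mp
      (hℓ.dvd_of_dvd_pow (show ℓ ∣ 2 ^ 3 from hd))]
    refine sq_of_mod ?_
    push_cast
    generalize (q : ZMod (2 ^ 2)) = x
    revert x
    decide
  · have e : (F4Data.levels.map fun l => l.2.2.length).prod = 2 ^ 7 * 3 ^ 2 := by decide +kernel
    rw [e] at hdvd
    rcases hr.dvd_mul.mp hdvd with h2 | h2
    · rw [(Nat.prime_dvd_prime_iff_eq hr Nat.prime_two).mp (hr.dvd_of_dvd_pow h2)] at h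
      exact absurd h (by decide)
    · rw [(Nat.prime_dvd_prime_iff_eq hr Nat.prime_three).mp (hr.dvd_of_dvd_pow h2)] at h
      exact absurd h (by decide)
  · rw [Cfsg.Agent.S1062.result hF]
    exact dvd_mul_of_dvd_left (dvd_mul_left _ _) _

theorem e8 (q : ℕ) (hF : Fintype.card F = q) :
    ∃ H : Subgroup ↥(chevE8.group F), IsCyclic ↥H ∧
      Nat.card ↥H = q ^ 8 + q ^ 7 - q ^ 5 - q ^ 4 - q ^ 3 + q + 1 ∧
      Subgroup.centralizer (H : Set ↥(chevE8.group F)) = H := by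
  have h2 : 2 ≤ q := hF ▸ Fintype.one_lt_card
  have hz : (2 : ℤ) ≤ q := by exact_mod_cast h2
  set n := q ^ 8 + q ^ 7 - q ^ 5 - q ^ 4 - q ^ 3 + q + 1 with hn
  have e85 : q ^ 5 ≤ q ^ 7 := Nat.pow_le_pow_right (by omega) (by norm_num)
  have e84 : q ^ 4 + q ^ 3 ≤ q ^ 8 := by
    calc q ^ 4 + q ^ 3 ≤ q ^ 4 + q ^ 4 :=
          Nat.add_le_add_left (Nat.pow_le_pow_right (by omega) (by norm_num)) _
      _ ≤ q ^ 4 * q ^ 4 := by
          have : 2 ≤ q ^ 4 := le_trans h2 (Nat.le_self_pow (by norm_num) q)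
          nlinarith
      _ = q ^ 8 := by ring
  have hnz : (n : ℤ) = (q : ℤ) ^ 8 + (q : ℤ) ^ 7 - (q : ℤ) ^ 5 - (q : ℤ) ^ 4 - (q : ℤ) ^ 3 +
      q + 1 := by
    rw [hn]
    have a1 : q ^ 5 ≤ q ^ 8 + q ^ 7 := by omega
    have a2 : q ^ 4 ≤ q ^ 8 + q ^ 7 - q ^ 5 := by omega
    have a3 : q ^ 3 ≤ q ^ 8 + q ^ 7 - q ^ 5 - q ^ 4 := by omega
    push_cast [a1, a2, a3]
    ring
  refine elliptic_of good_E8 InvolData.scE8 (d := 30) hF (by norm_num) (by decide +kernel)
    ?_ ?_ (fun ℓ hℓ hd => ?_) E8Data.levels_ok (fun r hr h hdvd => ?_) ?_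
  · rw [hnz]
    have h10 := congrArg (eval (q : ℤ))
      (cyclotomic_expand_eq_cyclotomic_mul Nat.prime_three (show ¬ 3 ∣ 10 by decide) ℤ)
    have h5 : ∀ x : ℤ, eval (x ^ 2) (cyclotomic 5 ℤ) =
        eval x (cyclotomic 10 ℤ) * eval x (cyclotomic 5 ℤ) := fun x => by
      have := congrArg (eval x)
        (cyclotomic_expand_eq_cyclotomic_mul Nat.prime_two (show ¬ 2 ∣ 5 by decide) ℤ)
      rwa [expand_eval, eval_mul] at this
    have e5 : ∀ x : ℤ, eval x (cyclotomic 5 ℤ) = x ^ 4 + x ^ 3 + x ^ 2 + x + 1 := fun x => by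
      haveI := Fact.mk Nat.prime_five
      rw [cyclotomic_prime]
      simp [Finset.sum_range_succ]
      ring
    have e10 : ∀ x : ℤ, 2 ≤ x →
        eval x (cyclotomic 10 ℤ) = x ^ 4 - x ^ 3 + x ^ 2 - x + 1 := fun x hx => by
      have := h5 x
      rw [e5, e5] at this
      have hpos : x ^ 4 + x ^ 3 + x ^ 2 + x + 1 ≠ 0 := by positivity
      exact mul_right_cancel₀ hpos (by linear_combination -this)
    rw [expand_eval, eval_mul, e10 _ hz,
      e10 _ (le_trans hz (le_self_pow₀ (by omega) (by norm_num)))] at h10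
    have hpos : ((q : ℤ) ^ 4 - (q : ℤ) ^ 3 + (q : ℤ) ^ 2 - q + 1) ≠ 0 := by nlinarith [hz]
    exact mul_right_cancel₀ hpos (by linear_combination -h10)
  · have : 2 ^ 8 ≤ q ^ 8 := Nat.pow_le_pow_left h2 8
    have : 2 * q ^ 7 ≤ q ^ 8 := by
      rw [pow_succ' q 7]; exact Nat.mul_le_mul_right _ h2
    have : q ^ 4 + q ^ 3 ≤ q ^ 7 := by
      calc q ^ 4 + q ^ 3 ≤ 2 * q ^ 4 := by
            have := Nat.pow_le_pow_right (show 1 ≤ q by omega) (show 3 ≤ 4 by norm_num); omega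
        _ ≤ q * q ^ 4 := Nat.mul_le_mul_right _ h2
        _ ≤ q ^ 7 := by
            rw [← pow_succ']; exact Nat.pow_le_pow_right (by omega) (by norm_num)
    omega
  · have hne : (n : ZMod ℓ) ≠ 0 := by
      rw [show (n : ZMod ℓ) = ((n : ℤ) : ZMod ℓ) by simp, hnz]
      push_cast
      have hm : ℓ ∈ Nat.primeFactorsList 30 := (Nat.mem_primeFactorsList (by norm_num)).mpr ⟨hℓ, hd⟩
      simp only [show Nat.primeFactorsList 30 = [2, 3, 5] by simp [Nat.primeFactorsList_ofNat], List.mem_cons,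
        List.not_mem_nil, or_false] at hm
      generalize (q : ZMod ℓ) = x
      rcases hm with rfl | rfl | rfl <;> revert x <;> decide
    exact fun h2 => hne ((CharP.cast_eq_zero_iff _ _ _).mpr
      ((dvd_pow_self ℓ (by norm_num)).trans h2))
  · have e : (E8Data.levels.map fun l => l.2.2.length).prod = 2 ^ 14 * 3 ^ 5 * 5 ^ 2 * 7 := by
      decide +kernel
    rw [e] at hdvd
    have h7 : r ≤ 7 := by
      rcases hr.dvd_mul.mp hdvd with a | a
      · rcases hr.dvd_mul.mp a with b | b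
        · rcases hr.dvd_mul.mp b with c | c <;>
            have := Nat.le_of_dvd (by norm_num) (hr.dvd_of_dvd_pow c) <;> omega
        · have := Nat.le_of_dvd (by norm_num) (hr.dvd_of_dvd_pow b); omega
      · exact Nat.le_of_dvd (by norm_num) a
    have := hr.two_le
    rw [Nat.ModEq] at h
    omega
  · rw [Cfsg.Agent.S1065.result hF]
    exact dvd_mul_left _ _

end CfsgLib.Chev.EllipticData
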