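import Cfsg.Agent.Chev.FoldTorus
import Cfsg.Agent.Chev.EllipticData
import Cfsg.Agent.Chev.OrdE6
import Cfsg.Agent.Chev.OrdF4
import Cfsg.Agent.ChevMult.CenterE6
import Mathlib.RingTheory.Polynomial.Cyclotomic.Expand

/-!
The cyclic self-centralising torus of `E₆` of order `Φ₁₂Φ₃/gcd(3, q - 1)`.
-/

set_option autoImplicit false
set_option linter.style.haveILetI false

namespace CfsgLib.Chev.E6Fold

open Matrix Polynomial Cfsg.Lie Tab
open CfsgLib.Chev.Tab.Good (expo expo_eq_iff)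

theorem cyclotomic_six' : cyclotomic 6 ℤ = Polynomial.X ^ 2 - Polynomial.X + 1 := by
  have h := cyclotomic_expand_eq_cyclotomic_mul Nat.prime_two (show ¬ 2 ∣ 3 by decide) ℤ
  rw [cyclotomic_three] at h
  simp only [map_add, map_pow, expand_X, map_one] at h
  have hne : (Polynomial.X ^ 2 + Polynomial.X + 1 : ℤ[X]) ≠ 0 := fun e => by
    simpa using congrArg (Polynomial.eval 0) e
  refine mul_right_cancel₀ hne ?_
  rw [show (3 : ℕ) * 2 = 6 by norm_num] at h
  rw [← h]
  ring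

theorem cyclotomic_twelve : cyclotomic 12 ℤ = Polynomial.X ^ 4 - Polynomial.X ^ 2 + 1 := by
  rw [show (12 : ℕ) = 6 * 2 by norm_num, ← cyclotomic_expand_eq_cyclotomic Nat.prime_two (by norm_num),
    cyclotomic_six']
  simp only [map_add, map_sub, map_pow, expand_X, map_one]
  ring

theorem separable_12_3 {ℓ : ℕ} [Fact ℓ.Prime] (h : ¬ ℓ ∣ 12) :
    ((cyclotomic 12 ℤ * cyclotomic 3 ℤ).map (Int.castRingHom (ZMod ℓ))).Separable := by
  rw [Polynomial.map_mul, map_cyclotomic, map_cyclotomic]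
  refine Polynomial.Separable.of_dvd (f := (Polynomial.X : (ZMod ℓ)[X]) ^ 12 - 1) ?_ ?_
  · simpa using Polynomial.separable_X_pow_sub_C (n := 12) (1 : ZMod ℓ)
      (fun e => h ((CharP.cast_eq_zero_iff (ZMod ℓ) ℓ _).mp e)) one_ne_zero
  · rw [← prod_cyclotomic_eq_X_pow_sub_one (by norm_num : 0 < 12)]
    refine dvd_trans (dvd_of_eq ?_) (Finset.prod_dvd_prod_of_subset {12, 3} _ _ (by decide))
    rw [Finset.prod_pair (by norm_num)]

theorem weyl_E6 : Nat.card (good_E6.full.WJ (List.range chevE6.rank)) = 51840 := by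
  rw [good_E6.card_weyl E6Data.levels_ok]
  decide +kernel

theorem weyl_F4 : Nat.card (good_F4.full.WJ (List.range chevF4.rank)) = 1152 := by
  rw [good_F4.card_weyl F4Data.levels_ok]
  decide +kernel

theorem smith_pos : ∀ i : Fin chevE6.rank, E6Data.smith.d.getD i.val 0 ≠ 0 := by decide +kernel

/-- A torus element of a word is fixed by the word and its reverse. -/
theorem vM_reverse {D : ChevalleyDatum} {T : Tab D} (G : T.Good) {S : SmithData}
    (hS : T.chkSmith S = true) (hpos : ∀ i : Fin D.rank, S.d.getD i.val 0 ≠ 0)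
    (L : List (Fin D.rank)) : T.vM L.reverse * T.vM L = 1 := by
  rw [← T.vM_append, G.vM_congr_smith hS hpos (L' := []) ?_]
  · rfl
  · rw [show G.full.pw [] = 1 by simp [Full.pw]]
    induction L with
    | nil => simp [Full.pw]
    | cons i L ih =>
      have h2 : G.full.refl i * G.full.refl i = 1 :=
        Equiv.ext fun s => Fin.ext (G.full.reflT_spec i.isLt s.isLt).2.1
      rw [List.reverse_cons, List.append_assoc, G.pw_append, List.singleton_append, G.pw_cons,
        G.pw_cons, ← mul_assoc (G.full.refl i), h2, one_mul, ← G.pw_append, ih]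

theorem card_ker {K : Type*} [Field K] [Fintype K] :
    Nat.card (E6Data.tab.hT K).ker = Nat.gcd (Fintype.card K - 1) 3 := by
  classical
  have h := good_E6.card_diagonal (F := K) E6Data.smith_ok
  have hdiag : Nat.card (E6Data.tab.hT K).ker * Nat.card (chevE6.diagonalSubgroup K) =
      (Fintype.card K - 1) ^ chevE6.rank := by
    rw [good_E6.full.diagonal_eq_range, ← Subgroup.index_ker, Subgroup.card_mul_index, Nat.card_pi,
      Finset.prod_const, Nat.card_eq_fintype_card, Fintype.card_units, Finset.card_univ,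
      Fintype.card_fin]
  rw [← hdiag] at h
  rw [← Nat.eq_of_mul_eq_mul_right Nat.card_pos h]
  simp [E6Data.smith]

variable {F K : Type*} [Field F] [Fintype F] [Field K] [Fintype K]

/-- A regular element of order `r` in the image of the folding, and its place in the torus. -/
theorem exists_e6_regular (f : F →+* K) {σ : K →+* K} (hσ : ∀ a, σ a = a ^ Fintype.card F)
    (hσf : σ.comp f = f) {g : Kˣ} (hg : ∀ c, c ∈ Subgroup.zpowers g) {r : ℕ} [Fact r.Prime]
    (hK : Fintype.card K = Fintype.card F ^ 12) (hζ : orderOf (Fintype.card F : ZMod r) = 12)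
    (hr : 13 ≤ r) (hrG : r ∣ Nat.card (chevF4.group F)) :
    ∃ (m : ℤ) (u : Fin chevF4.rank → ℤ) (L4 : List (Fin chevF4.rank))
      (y6 : GL chevE6.Idx F) (h6 : GL chevE6.Idx K),
      (orderOf g : ℤ) = r * m ∧ Int.castRingHom (ZMod r) ∘ u ≠ 0 ∧
      (F4Data.tab.vM L4.reverse).charpoly = cyclotomic 12 ℤ ∧
      (∀ s : Fin chevF4.nroots,
        (fun k => ((F4Data.tab.wrow s.val k : ℤ) : ZMod r)) ⬝ᵥ (Int.castRingHom (ZMod r) ∘ u) ≠ 0) ∧
      (F4Data.tab.vM L4.reverse).map (Int.castRingHom (ZMod r)) *ᵥ (Int.castRingHom (ZMod r) ∘ u) =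
        (Fintype.card F : ZMod r) • (Int.castRingHom (ZMod r) ∘ u) ∧
      y6 ∈ chevE6.group F ∧ h6 ∈ chevE6.group K ∧
      glMap chevE6 f y6 = h6 * E6Data.tab.hT K (expo g (m • (u ∘ orbOf))) * h6⁻¹ ∧
      (∀ s : Fin chevE6.nroots,
        E6Data.tab.chi (F := K) s.val (expo g (m • (u ∘ orbOf))) ≠ 1) ∧
      (∀ L', E6Data.tab.hT K (mulAct (E6Data.tab.vM L') (expo g (m • (u ∘ orbOf)))) =
        E6Data.tab.hT K (expo g (m • (u ∘ orbOf))) → good_E6.full.pw L' = 1) ∧
      E6Data.tab.hT K (mulAct ((Fintype.card F : ℤ) • E6Data.tab.vM (expand L4))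
          (expo g (m • (u ∘ orbOf)))) = E6Data.tab.hT K (expo g (m • (u ∘ orbOf))) := by
  classical
  set q := Fintype.card F with hq
  have hr' : r.Prime := Fact.out
  set N := orderOf g with hN
  have hNK : (N : ℤ) = (q : ℤ) ^ 12 - 1 := by
    rw [hN, orderOf_eq_card_of_forall_mem_zpowers hg, Nat.card_eq_fintype_card,
      Fintype.card_units, hK, Nat.cast_sub (Nat.one_le_pow _ _ Fintype.card_pos)]
    push_cast
    rfl
  have hN0 : (N : ℤ) ≠ 0 := Nat.cast_ne_zero.mpr (orderOf_pos g).ne'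
  have hq1' : (q : ZMod r) ^ 12 = 1 := hζ ▸ pow_orderOf_eq_one _
  have hQ : (Fintype.card K : ZMod r) = 1 := by rw [hK, Nat.cast_pow, hq1']
  obtain ⟨m, hm⟩ : (r : ℤ) ∣ N := by
    rw [← ZMod.intCast_zmod_eq_zero_iff_dvd, hNK]
    push_cast
    rw [hq1', sub_self]
  have hm0 : m ≠ 0 := fun e => hN0 (by rw [hm, e, mul_zero])
  have hsmall : ∀ n : ℕ, (∀ p ∈ n.primeFactorsList, p < 13) → n ≠ 0 → ¬ r ∣ n := fun n hn hn0 h => by
    have := hn r ((Nat.mem_primeFactorsList hn0).mpr ⟨hr', h⟩); omega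
  have hrW4 : ¬ r ∣ Nat.card (good_F4.full.WJ (List.range chevF4.rank)) := by
    rw [weyl_F4]
    intro h
    rcases hr'.dvd_mul.mp (show r ∣ 2 ^ 7 * 3 ^ 2 from h) with h | h <;>
      · have := Nat.le_of_dvd (by norm_num) (hr'.dvd_of_dvd_pow h); omega
  have hrW6 : ¬ r ∣ Nat.card (good_E6.full.WJ (List.range chevE6.rank)) := by
    rw [weyl_E6]
    intro h
    rcases hr'.dvd_mul.mp (show r ∣ 2 ^ 7 * 3 ^ 4 * 5 from h) with h | h
    · rcases hr'.dvd_mul.mp h with h | h <;>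
        · have := Nat.le_of_dvd (by norm_num) (hr'.dvd_of_dvd_pow h); omega
    · have := Nat.le_of_dvd (by norm_num) h; omega
  -- the element of the smaller group
  obtain ⟨x4, hx4⟩ := exists_prime_orderOf_dvd_card' r hrG
  obtain ⟨h4, hh4, u, L4, hx4T, hu0, hL4⟩ := good_F4.exists_torus_vector
    (good_F4.hT_injective uni_F4) f hσ hσf hg hm hQ hrW4 x4 hx4
  set cr := Int.castRingHom (ZMod r)
  set U4 := F4Data.tab.vM L4.reverse
  have hev : U4.map cr *ᵥ (cr ∘ u) = (q : ZMod r) • (cr ∘ u) := by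
    have e1 : cr ∘ (U4 *ᵥ (F4Data.tab.vM L4 *ᵥ ((q : ℤ) • u))) = U4.map cr *ᵥ (cr ∘ u) := by
      rw [← hL4]; funext k; exact RingHom.map_mulVec cr _ _ k
    rw [← e1, mulVec_mulVec, vM_reverse good_F4 F4Data.smith_ok (by decide +kernel), one_mulVec]
    funext k
    simp [cr]
  have hφ12 : (12 : ℕ).totient = chevF4.rank := by decide
  have hcp4 := good_F4.charpoly_vM InvolData.scF4 hrW4 hφ12 (by norm_num) hζ hu0 hev
  have hno4 := good_F4.no_root InvolData.scF4 hrW4 hφ12 (by norm_num) hζ hu0 hev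
  -- in the larger group
  set u6 : Fin chevE6.rank → ℤ := u ∘ orbOf
  have hno6 : ∀ s : Fin chevE6.nroots,
      (fun k => ((E6Data.tab.wrow s.val k : ℤ) : ZMod r)) ⬝ᵥ (cr ∘ u6) ≠ 0 := fun s => by
    obtain ⟨s', hs'⟩ := wrow_dot (R := ZMod r) s
    rw [show cr ∘ u6 = (cr ∘ u) ∘ orbOf from rfl, hs']
    exact hno4 s'
  set U := E6Data.tab.vM (expand L4.reverse)
  set L := expand L4
  have hUL : U * E6Data.tab.vM L = 1 := vM_expand_reverse L4
  -- the vector of `x`
  obtain ⟨ψ, hψG, hψT, hψF⟩ := exists_fold_torus (K := K)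
  let a4 : chevF4.group K := ⟨h4, hh4⟩
  have hT4 : F4Data.tab.hT K (expo g (m • u)) ∈ chevF4.group K :=
    good_F4.diagonal_le_group (by rw [good_F4.full.diagonal_eq_range]; exact ⟨_, rfl⟩)
  obtain ⟨y6, hy6, hy6'⟩ := hψF F f x4
    (a4 * ⟨_, hT4⟩ * a4⁻¹) hx4T.symm
  set h6 := ψ a4
  set c0 : Fin chevE6.rank → Kˣ := expo g (m • u6) with hc0
  have hx6 : glMap chevE6 f y6 = h6 * E6Data.tab.hT K c0 * h6⁻¹ := by
    rw [hy6', map_mul, map_mul, map_inv, hψT _ ⟨_, hT4⟩ rfl]
    rfl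
  have hmod : ∀ z z' : Fin chevE6.rank → ℤ,
      E6Data.tab.hT K (expo g (m • z)) = E6Data.tab.hT K (expo g (m • z')) → cr ∘ z = cr ∘ z' := by
    intro z z' hz
    have hd : E6Data.tab.hT K (expo g (m • z) * (expo g (m • z'))⁻¹) = 1 := by
      rw [map_mul, map_inv, hz, mul_inv_cancel]
    have h3 := good_E6.ker_pow E6Tw.chkKer3 hd
    funext k
    have h4 := congrFun h3 k
    rw [Pi.pow_apply, Pi.mul_apply, Pi.inv_apply, expo, expo, ← _root_.zpow_neg, ← _root_.zpow_add,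
      ← _root_.zpow_natCast, ← _root_.zpow_mul, Pi.one_apply] at h4
    have h5 := orderOf_dvd_iff_zpow_eq_one.mpr h4
    rw [← hN, hm, Pi.smul_apply, Pi.smul_apply, smul_eq_mul, smul_eq_mul,
      show (m * z k + -(m * z' k)) * ((3 : ℕ) : ℤ) = m * ((z k - z' k) * 3) by push_cast; ring,
      mul_comm (r : ℤ)] at h5
    have h6 := (mul_dvd_mul_iff_left hm0).mp h5
    rcases (Nat.prime_iff_prime_int.mp hr').dvd_mul.mp h6 with h | h
    · exact (ZMod.intCast_eq_intCast_iff_dvd_sub _ _ _).mpr (dvd_sub_comm.mp h)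
    · have := Nat.le_of_dvd (by norm_num) (Int.natCast_dvd_natCast.mp (show (r : ℤ) ∣ ((3 : ℕ) : ℤ) from h))
      omega
  have hroot : ∀ s : Fin chevE6.nroots, E6Data.tab.chi (F := K) s.val c0 ≠ 1 := fun s e => by
    rw [hc0, Tab.Good.chi_expo, ← orderOf_dvd_iff_zpow_eq_one, ← hN, hm, dotProduct_smul,
      smul_eq_mul, mul_comm (r : ℤ)] at e
    refine hno6 s ?_
    rw [← (ZMod.intCast_zmod_eq_zero_iff_dvd _ _).mpr ((mul_dvd_mul_iff_left hm0).mp e)]
    exact (RingHom.map_dotProduct cr _ _).symm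
  have hstab : ∀ L', E6Data.tab.hT K (mulAct (E6Data.tab.vM L') c0) = E6Data.tab.hT K c0 →
      good_E6.full.pw L' = 1 := fun L' e => by
    rw [hc0, Tab.Good.mulAct_expo, mulVec_smul] at e
    exact good_E6.stab_of_no_root E6Data.smith_ok smith_pos hrW6 hno6 L'
      ((funext fun k => (RingHom.map_mulVec cr (E6Data.tab.vM L') u6 k).symm).trans (hmod _ _ e))
  have hu6 : cr ∘ (U *ᵥ u6) = (q : ZMod r) • (cr ∘ u6) := by
    rw [show u6 = iotaM *ᵥ u from (iotaM_mulVec u).symm, mulVec_mulVec, vM_expand_iota,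
      ← mulVec_mulVec, iotaM_mulVec, iotaM_mulVec]
    funext k
    show cr ((U4 *ᵥ u) (orbOf k)) = _
    rw [RingHom.map_mulVec, hev]
    rfl
  have hL : E6Data.tab.hT K (mulAct ((q : ℤ) • E6Data.tab.vM L) c0) = E6Data.tab.hT K c0 := by
    rw [hc0, Tab.Good.mulAct_expo]
    refine congrArg _ ((expo_eq_iff _ _).mpr fun k => ?_)
    have e1 : cr ∘ (((q : ℤ) • E6Data.tab.vM L) *ᵥ u6) = cr ∘ u6 := by
      have h1 : cr ∘ (E6Data.tab.vM L *ᵥ (U *ᵥ u6)) = cr ∘ u6 := by
        rw [mulVec_mulVec, mul_eq_one_comm.mp hUL, one_mulVec]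
      conv_rhs => rw [← h1]
      funext j
      rw [Function.comp_apply, Function.comp_apply, RingHom.map_mulVec cr _ (U *ᵥ u6), hu6,
        mulVec_smul, Pi.smul_apply, smul_mulVec, Pi.smul_apply, smul_eq_mul, smul_eq_mul, map_mul,
        RingHom.map_mulVec, map_natCast]
    have e2 := (ZMod.intCast_eq_intCast_iff_dvd_sub _ _ _).mp (congrFun e1 k)
    rw [mulVec_smul, Pi.smul_apply, Pi.smul_apply, smul_eq_mul, smul_eq_mul, ← mul_sub, ← hN, hm,
      mul_comm (r : ℤ)]
    exact mul_dvd_mul_left m (dvd_sub_comm.mp e2)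
  exact ⟨m, u, L4, y6, h6, hm, hu0, hcp4, hno4, hev, hy6, hψG a4, hx6, hroot, hstab, hL⟩

theorem torus_of_map (f : F →+* K) {q r : ℕ} [Fact r.Prime] (hqF : Fintype.card F = q)
    (hK : Fintype.card K = q ^ 12) (hζ : orderOf (q : ZMod r) = 12) (hr : 13 ≤ r)
    (hrG : r ∣ Nat.card (chevF4.group F)) :
    ∃ H : Subgroup ↥(chevE6.group F), IsCyclic ↥H ∧
      Nat.card ↥H = (q ^ 4 - q ^ 2 + 1) * (q ^ 2 + q + 1) / Nat.gcd 3 (q - 1) ∧
      Subgroup.centralizer (H : Set ↥(chevE6.group F)) = H := by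
  classical
  subst hqF
  set q := Fintype.card F with hq
  have hr' : r.Prime := Fact.out
  have hq1 : 1 < q := Fintype.one_lt_card
  -- the Frobenius map
  letI := f.toAlgebra
  let σ : K →+* K := (FiniteField.frobeniusAlgHom F K).toRingHom
  have hσ : ∀ a : K, σ a = a ^ q := fun a => FiniteField.frobeniusAlgHom_apply F K a
  have hσf : σ.comp f = f := RingHom.ext fun a => by
    rw [RingHom.comp_apply, hσ, ← map_pow, FiniteField.pow_card]
  have hfix : ∀ t, σ t = t → ∃ e, f e = t := by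
    intro t ht
    rw [hσ] at ht
    have hne : ((Polynomial.X : K[X]) ^ q - Polynomial.X) ≠ 0 :=
      FiniteField.X_pow_card_sub_X_ne_zero K hq1
    have hsub : Finset.univ.image f ⊆
        ((Polynomial.X : K[X]) ^ q - Polynomial.X).roots.toFinset := by
      intro b hb
      obtain ⟨a, -, rfl⟩ := Finset.mem_image.mp hb
      rw [Multiset.mem_toFinset, mem_roots hne]
      simp [← map_pow, hq, FiniteField.pow_card]
    have hcard : ((Polynomial.X : K[X]) ^ q - Polynomial.X).roots.toFinset.card ≤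
        (Finset.univ.image f).card := by
      rw [Finset.card_image_of_injective _ f.injective, Finset.card_univ]
      refine le_trans (Multiset.toFinset_card_le _) (le_trans (card_roots' _) (le_of_eq ?_))
      exact FiniteField.X_pow_card_sub_X_natDegree_eq K hq1
    have hmem : t ∈ ((Polynomial.X : K[X]) ^ q - Polynomial.X).roots.toFinset := by
      rw [Multiset.mem_toFinset, mem_roots hne]
      simp [ht]
    rw [← Finset.eq_of_subset_of_card_le hsub hcard] at hmem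
    obtain ⟨a, -, e⟩ := Finset.mem_image.mp hmem
    exact ⟨a, e⟩
  obtain ⟨g, hg⟩ := IsCyclic.exists_generator (α := Kˣ)
  obtain ⟨m, u, L4, y6, h6, hm, hu0, hcp4, hno4, hev, hy6, hh6, hx6, hroot, hstab, hL⟩ :=
    exists_e6_regular f hσ hσf hg hK hζ hr hrG
  set c0 : Fin chevE6.rank → Kˣ := expo g (m • (u ∘ orbOf))
  set U := E6Data.tab.vM (expand L4.reverse)
  set L := expand L4
  have hUL : U * E6Data.tab.vM L = 1 := vM_expand_reverse L4
  have hU12 : (cyclotomic 12 ℤ).eval 1 = 1 := by rw [cyclotomic_twelve]; simp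
  have hcp : U.charpoly = cyclotomic 12 ℤ * cyclotomic 3 ℤ := charpoly_expand hcp4 hU12
  have hUd : U ^ 12 = 1 := by
    have h1 := Matrix.aeval_self_charpoly U
    have hdvd : cyclotomic 12 ℤ * cyclotomic 3 ℤ ∣ (Polynomial.X : ℤ[X]) ^ 12 - 1 := by
      rw [← prod_cyclotomic_eq_X_pow_sub_one (by norm_num : 0 < 12)]
      refine dvd_trans (dvd_of_eq ?_) (Finset.prod_dvd_prod_of_subset {12, 3} _ _ (by decide))
      rw [Finset.prod_pair (by norm_num)]
    obtain ⟨R, hR⟩ := hdvd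
    have h2 : aeval U ((Polynomial.X : ℤ[X]) ^ 12 - 1) = 0 := by
      rw [hR, map_mul, ← hcp, h1, zero_mul]
    rw [map_sub, map_pow, aeval_X, map_one, sub_eq_zero] at h2
    exact h2
  -- the centraliser
  obtain ⟨C⟩ := good_E6.exists_coverTorus (K := K) good_E7 CfsgLib.ChevMult.embE6
    ⟨_, wits_E6⟩ CfsgLib.ChevMult.kerE6_ok
  obtain ⟨Θ, hΘs, hΘk⟩ := good_E6.regular_centralizer f C ⟨_, wits_E6⟩ σ hσ hσf hfix
    (x := ⟨y6, hy6⟩) hh6 hx6 hroot hstab hL
  obtain ⟨hcardT, hcycT⟩ := good_E6.twFix_spec hg (show 0 < 12 by norm_num) hK hUL hUd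
  -- the numbers
  set A := q ^ 4 - q ^ 2 + 1
  set B := q ^ 2 + q + 1
  have hA : ((cyclotomic 12 ℤ).eval (q : ℤ)) = (A : ℤ) := by
    rw [cyclotomic_twelve]
    have : q ^ 2 ≤ q ^ 4 := Nat.pow_le_pow_right (by omega) (by norm_num)
    simp [A, Nat.cast_sub this]
  have hn : (U.charpoly.eval (q : ℤ)).natAbs = A * B := by
    rw [hcp, eval_mul, hA, cyclotomic_three]
    simp only [eval_add, eval_pow, eval_X, eval_one]
    rw [show (q : ℤ) ^ 2 + q + 1 = ((B : ℕ) : ℤ) by simp [B], ← Nat.cast_mul, Int.natAbs_natCast]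
  have hmod3 : ∀ x : ZMod 9, (x ^ 4 - x ^ 2 + 1) * (x ^ 2 + x + 1) ≠ 0 := by decide
  have hmod2 : ∀ x : ZMod 2, (x ^ 4 - x ^ 2 + 1) * (x ^ 2 + x + 1) ≠ 0 := by decide
  have hAB : ∀ M : ℕ, ((A * B : ℕ) : ZMod M) =
      ((q : ZMod M) ^ 4 - (q : ZMod M) ^ 2 + 1) * ((q : ZMod M) ^ 2 + q + 1) := fun M => by
    have : q ^ 2 ≤ q ^ 4 := Nat.pow_le_pow_right (by omega) (by norm_num)
    simp [A, B, Nat.cast_sub this]
  haveI hcyc : IsCyclic (Tab.Good.twFix E6Data.tab K q L) := by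
    refine hcycT fun ℓ hℓ hdvd => ?_
    rw [hcp]
    haveI := Fact.mk hℓ
    refine separable_12_3 fun hd => ?_
    rw [hn] at hdvd
    rcases hℓ.dvd_mul.mp (show ℓ ∣ 2 ^ 2 * 3 from hd) with h | h
    · rw [(Nat.prime_dvd_prime_iff_eq hℓ Nat.prime_two).mp (hℓ.dvd_of_dvd_pow h)] at hdvd
      exact hmod2 _ ((hAB 2).symm.trans ((CharP.cast_eq_zero_iff (ZMod 2) 2 _).mpr
        ((dvd_pow_self 2 two_ne_zero).trans hdvd)))
    · rw [(Nat.prime_dvd_prime_iff_eq hℓ Nat.prime_three).mp h] at hdvd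
      exact hmod3 _ ((hAB 9).symm.trans ((CharP.cast_eq_zero_iff (ZMod 9) 9 _).mpr hdvd))
  have hkerc : Nat.card Θ.ker = Nat.gcd 3 (q - 1) := by
    have hpow : ∀ c : Θ.ker, (((c : Tab.Good.twFix E6Data.tab K q L) : Fin chevE6.rank → Kˣ)) ^ 3 = 1 :=
      fun c => good_E6.ker_pow E6Tw.chkKer3 ((hΘk _).mp c.2)
    have hfixker : ∀ c : Fin chevE6.rank → Kˣ, E6Data.tab.hT K c = 1 →
        mulAct ((q : ℤ) • E6Data.tab.vM L) c = c ^ q := by
      intro c hc
      rw [good_E6.full.hT_eq_one_iff] at hc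
      have hs : ∀ w : List (Fin chevE6.rank), mulAct (E6Data.tab.vM w) c = c := by
        intro w
        induction w with
        | nil => simp [Tab.vM, mulAct_one]
        | cons i w ih =>
          rw [show E6Data.tab.vM (i :: w) = E6Data.tab.sM i * E6Data.tab.vM w from rfl, mulAct_mul,
            ih, good_E6.mulAct_sM, hc i.val i.isLt]
          simp
      rw [← good_E6.mulAct_pow, map_pow, hs]
    by_cases h3 : 3 ∣ q - 1
    · rw [Nat.gcd_eq_left h3]
      have hN3 : 3 ∣ Fintype.card K - 1 := by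
        rw [hK]
        exact h3.trans (Nat.sub_one_dvd_pow_sub_one q 12)
      rw [← Nat.gcd_eq_right hN3, ← card_ker (K := K)]
      refine Nat.card_congr
        { toFun := fun c => ⟨((c : Tab.Good.twFix E6Data.tab K q L) : Fin chevE6.rank → Kˣ),
            (hΘk _).mp c.2⟩
          invFun := fun c => ⟨⟨(c : Fin chevE6.rank → Kˣ), ?_⟩, (hΘk _).mpr c.2⟩
          left_inv := fun c => rfl
          right_inv := fun c => rfl }
      show mulAct _ (c : Fin chevE6.rank → Kˣ) = c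
      rw [hfixker _ c.2]
      obtain ⟨k, hk⟩ := h3
      rw [show q = 3 * k + 1 by omega, pow_succ, pow_mul, good_E6.ker_pow E6Tw.chkKer3 c.2, one_pow,
        one_mul]
    · rw [(Nat.prime_three.coprime_iff_not_dvd.mpr h3).gcd_eq_one]
      refine Nat.card_eq_one_iff_unique.mpr ⟨⟨fun a b => ?_⟩, inferInstance⟩
      have key : ∀ c : Θ.ker, ((c : Tab.Good.twFix E6Data.tab K q L) : Fin chevE6.rank → Kˣ) = 1 := by
        intro c
        set d : Fin chevE6.rank → Kˣ := ((c : Tab.Good.twFix E6Data.tab K q L) : Fin chevE6.rank → Kˣ)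
        have h1 : d ^ q = d := (hfixker d ((hΘk _).mp c.2)).symm.trans (c : Tab.Good.twFix E6Data.tab K q L).2
        have h2 : d ^ (q - 1) = 1 := by
          have : d ^ (q - 1) * d = 1 * d := by
            rw [← pow_succ, Nat.sub_add_cancel hq1.le, h1, one_mul]
          exact mul_right_cancel this
        have := pow_gcd_eq_one.mpr ⟨hpow c, h2⟩
        rwa [(Nat.prime_three.coprime_iff_not_dvd.mpr h3).gcd_eq_one, pow_one] at this
      exact (Subtype.val_injective.comp Subtype.val_injective) ((key a).trans (key b).symm)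
  have hrange : Θ.range = ⊤ := MonoidHom.range_eq_top.mpr hΘs
  refine ⟨Subgroup.centralizer {⟨y6, hy6⟩}, isCyclic_of_surjective Θ hΘs, ?_, ?_⟩
  · have h1 := Θ.ker.card_mul_index
    rw [Subgroup.index_ker, hrange, Nat.card_congr Subgroup.topEquiv.toEquiv, hcardT, hn, hkerc] at h1
    rw [← h1, Nat.mul_div_cancel_left _ (Nat.gcd_pos_of_pos_left _ (by norm_num))]
  · refine le_antisymm (Subgroup.centralizer_le (fun z hz => ?_)) fun b hb => ?_
    · rw [Set.mem_singleton_iff.mp hz]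
      exact Subgroup.mem_centralizer_singleton_iff.mpr rfl
    · refine Subgroup.mem_centralizer_iff.mpr fun a ha => ?_
      obtain ⟨a', ha'⟩ := hΘs ⟨a, ha⟩
      obtain ⟨b', hb'⟩ := hΘs ⟨b, hb⟩
      have : Θ (a' * b') = Θ (b' * a') := by rw [mul_comm]
      rw [map_mul, map_mul, ha', hb'] at this
      exact congrArg Subtype.val this

/-- The elliptic torus of type `Φ₁₂Φ₃`. -/
theorem e6 (q : ℕ) (hF : Fintype.card F = q) :
    ∃ H : Subgroup ↥(chevE6.group F), IsCyclic ↥H ∧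
      Nat.card ↥H = (q ^ 4 - q ^ 2 + 1) * (q ^ 2 + q + 1) / Nat.gcd 3 (q - 1) ∧
      Subgroup.centralizer (H : Set ↥(chevE6.group F)) = H := by
  have h2 : 2 ≤ q := hF ▸ Fintype.one_lt_card
  set n := q ^ 4 - q ^ 2 + 1 with hn
  have h42 : q ^ 2 ≤ q ^ 4 := Nat.pow_le_pow_right (by omega) (by norm_num)
  have hnn : 12 < n := by
    have h4 : 4 ≤ q ^ 2 := Nat.pow_le_pow_left h2 2
    have : q ^ 4 = q ^ 2 * q ^ 2 := by ring
    have : 4 * q ^ 2 ≤ q ^ 2 * q ^ 2 := Nat.mul_le_mul_right _ h4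
    omega
  obtain ⟨r, hr, hrn, hrd⟩ := EllipticData.exists_primitive_prime (n := n) (d := 12) (by norm_num) hnn
    fun ℓ hℓ hd => by
      have hcast : ∀ M : ℕ, ((n : ℕ) : ZMod M) = (q : ZMod M) ^ 4 - (q : ZMod M) ^ 2 + 1 := fun M => by
        rw [hn]; push_cast [h42]; rfl
      refine EllipticData.sq_of_mod ?_
      rw [hcast]
      rcases hℓ.dvd_mul.mp (show ℓ ∣ 2 ^ 2 * 3 from hd) with h | h
      · rw [(Nat.prime_dvd_prime_iff_eq hℓ Nat.prime_two).mp (hℓ.dvd_of_dvd_pow h)]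
        generalize (q : ZMod (2 ^ 2)) = x
        revert x
        decide
      · rw [(Nat.prime_dvd_prime_iff_eq hℓ Nat.prime_three).mp h]
        generalize (q : ZMod (3 ^ 2)) = x
        revert x
        decide
  haveI := Fact.mk hr
  haveI : NeZero ((12 : ℕ) : ZMod r) :=
    ⟨fun h => hrd ((CharP.cast_eq_zero_iff (ZMod r) r 12).mp h)⟩
  have hev : (cyclotomic 12 ℤ).eval (q : ℤ) = n := by
    rw [cyclotomic_twelve, hn]
    push_cast [h42]
    simp
  have hroot : (cyclotomic 12 (ZMod r)).IsRoot (q : ZMod r) := by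
    rw [IsRoot.def, ← map_cyclotomic 12 (Int.castRingHom (ZMod r)), eval_map,
      show (q : ZMod r) = Int.castRingHom (ZMod r) (q : ℤ) by simp, eval₂_at_apply, hev]
    simpa using (CharP.cast_eq_zero_iff (ZMod r) r n).mpr hrn
  have hord : orderOf (q : ZMod r) = 12 := (isRoot_cyclotomic_iff.mp hroot).eq_orderOf.symm
  have hne : (q : ZMod r) ≠ 0 := fun h => by
    rw [h, orderOf_eq_zero (fun ho => by
      obtain ⟨k, hk, e⟩ := isOfFinOrder_iff_pow_eq_one.mp ho
      rw [zero_pow hk.ne'] at e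
      exact zero_ne_one e)] at hord
    omega
  have hdvd : 12 ∣ r - 1 := hord ▸ ZMod.orderOf_dvd_card_sub_one hne
  have hr13 : 13 ≤ r := by
    have h1 := hr.two_le
    have := Nat.le_of_dvd (by omega) hdvd
    omega
  obtain ⟨p, hp⟩ := CharP.exists F
  haveI := Fact.mk (CharP.char_is_prime F p)
  letI := Fintype.ofFinite (FiniteField.Extension F p 12)
  refine torus_of_map (r := r) (algebraMap F (FiniteField.Extension F p 12)) hF ?_ hord hr13 ?_
  · rw [← Nat.card_eq_fintype_card, FiniteField.natCard_extension, Nat.card_eq_fintype_card, hF]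
  · rw [Cfsg.Agent.S1062.result hF]
    refine dvd_mul_of_dvd_right (dvd_trans ?_ (dvd_refl _)) _
    rw [← (CharP.cast_eq_zero_iff (ZMod r) r _), Nat.cast_sub (Nat.one_le_pow _ _ (by omega)),
      Nat.cast_pow, Nat.cast_one, ← hord, pow_orderOf_eq_one, sub_self]

end CfsgLib.Chev.E6Fold
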