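import Cfsg.Agent.Chev.SteinbergPres
import Cfsg.Agent.Chev.SteinbergData
import Mathlib.Algebra.CharP.Lemmas

/-!
Automorphisms from maps of root elements `x_r(t) ↦ x_{π r}(ε_r t^{k_r})`.
-/

set_option autoImplicit false

namespace CfsgLib.Chev

open Cfsg.Lie Matrix
open scoped MatrixGroups

namespace Tab

variable {D : ChevalleyDatum}

/-- The image of a root, with a sign and an exponent. -/
def mapAt (m : List (ℕ × ℤ × ℕ)) (r : ℕ) : ℕ × ℤ × ℕ := m.getD r (0, 0, 0)

/-- Drop the terms which vanish in characteristic `p`. -/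
def normTerms (p : ℕ) (l : List (ℕ × ℤ × ℕ × ℕ)) : List (ℕ × ℤ × ℕ × ℕ) :=
  (l.map fun c => (c.1, c.2.1 % (p : ℤ), c.2.2)).filter fun c => decide (c.2.1 ≠ 0)

/-- The images of the terms of a commutator, as monomials. -/
def imgTerms (T : Tab D) (m : List (ℕ × ℤ × ℕ)) (r s : ℕ) : List (ℕ × ℤ × ℕ × ℕ) :=
  (T.commT r s).map fun c => ((mapAt m c.1).1,
    (mapAt m c.1).2.1 * (c.2.1 * (-1) ^ c.2.2.1) ^ (mapAt m c.1).2.2,
    (mapAt m c.1).2.2 * c.2.2.1, (mapAt m c.1).2.2 * c.2.2.2)

/-- The terms of the commutator of the images, as monomials. -/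
def tgtTerms (T : Tab D) (m : List (ℕ × ℤ × ℕ)) (r s : ℕ) : List (ℕ × ℤ × ℕ × ℕ) :=
  (T.commT (mapAt m r).1 (mapAt m s).1).map fun c => (c.1,
    c.2.1 * (-1) ^ c.2.2.1 * (mapAt m r).2.1 ^ c.2.2.1 * (mapAt m s).2.1 ^ c.2.2.2,
    (mapAt m r).2.2 * c.2.2.1, (mapAt m s).2.2 * c.2.2.2)

/-- Two root subgroups commute in characteristic `p`. -/
def chkCommute (T : Tab D) (p a b : ℕ) : Bool :=
  Nat.blt a D.nroots && Nat.blt b D.nroots && (Nat.beq b a ||
    (!(Nat.beq b (negR D a)) && (T.commT a b).all fun c => decide (c.2.1 % (p : ℤ) = 0)))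

/-- The relation (R2) is respected for the pair `(r, s)`. -/
def chkMapPair (T : Tab D) (p : ℕ) (m : List (ℕ × ℤ × ℕ)) (r s : ℕ) : Bool :=
  (normTerms p (T.imgTerms m r s)).isPerm (normTerms p (T.tgtTerms m r s)) &&
    (normTerms p (T.tgtTerms m r s)).all fun a =>
      (normTerms p (T.tgtTerms m r s)).all fun b => T.chkCommute p a.1 b.1

/-- The map on roots is a signed bijection commuting with negation. -/
def chkMapRoot (D : ChevalleyDatum) (p : ℕ) (m : List (ℕ × ℤ × ℕ)) (r : ℕ) : Bool :=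
  Nat.blt (mapAt m r).1 D.nroots && decide ((mapAt m r).2.1 ^ 2 = 1) &&
    (Nat.beq (mapAt m r).2.2 1 || (Nat.blt 0 p && Nat.beq (mapAt m r).2.2 p)) &&
    Nat.beq (mapAt m (negR D r)).1 (negR D (mapAt m r).1) &&
    allBelow (fun s => Nat.beq s r || !(Nat.beq (mapAt m s).1 (mapAt m r).1)) D.nroots

/-- The map respects (R1), (R2). -/
def chkMap (T : Tab D) (p : ℕ) (m : List (ℕ × ℤ × ℕ)) : Bool :=
  allBelow (fun r => chkMapRoot D p m r &&
    allBelow (fun s => Nat.beq s r || Nat.beq s (negR D r) || T.chkMapPair p m r s) D.nroots)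
    D.nroots

namespace Good

variable {T : Tab D} (G : T.Good) {F : Type*} [Field F]
include G

/-- The value of a list of monomial terms. -/
def evTerms (l : List (ℕ × ℤ × ℕ × ℕ)) (t u : F) : GL D.Idx F :=
  (l.map fun c => G.full.x c.1 ((c.2.1 : F) * (t ^ c.2.2.1 * u ^ c.2.2.2))).prod

theorem evTerms_norm {p : ℕ} (hp : (p : F) = 0) (l : List (ℕ × ℤ × ℕ × ℕ)) (t u : F) :
    G.evTerms (normTerms p l) t u = G.evTerms l t u := by
  have hmod : ∀ C : ℤ, ((C % (p : ℤ) : ℤ) : F) = (C : F) := fun C => by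
    rw [Int.emod_def, Int.cast_sub, Int.cast_mul, Int.cast_natCast, hp, zero_mul, sub_zero]
  induction l with
  | nil => rfl
  | cons c l ih =>
    have hl : G.evTerms (c :: l) t u =
        G.full.x c.1 ((c.2.1 : F) * (t ^ c.2.2.1 * u ^ c.2.2.2)) * G.evTerms l t u := by
      simp [evTerms]
    rw [hl, ← ih]
    by_cases h : c.2.1 % (p : ℤ) = 0
    · rw [show normTerms p (c :: l) = normTerms p l by simp [normTerms, h],
        ← hmod c.2.1, h, Int.cast_zero, zero_mul, G.full.x_zero, one_mul]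
    · rw [show normTerms p (c :: l) = (c.1, c.2.1 % (p : ℤ), c.2.2) :: normTerms p l by
        simp [normTerms, h]]
      simp [evTerms, hmod]

theorem x_commute {p : ℕ} (hp : (p : F) = 0) {a b : ℕ} (h : T.chkCommute p a b = true) (v w : F) :
    Commute (G.full.x a v) (G.full.x b w) := by
  simp only [chkCommute, Bool.and_eq_true, Nat.blt_eq, Bool.or_eq_true, Bool.not_eq_true',
    List.all_eq_true, decide_eq_true_eq] at h
  obtain ⟨⟨ha, hb⟩, h | ⟨hne, hz⟩⟩ := h
  · rw [Nat.eq_of_beq_eq_true h]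
    show _ * _ = _ * _
    rw [G.full.x_add, G.full.x_add, add_comm]
  · by_cases hba : b = a
    · subst hba
      show _ * _ = _ * _
      rw [G.full.x_add, G.full.x_add, add_comm]
    have hne' : b ≠ negR D a := fun e => by rw [e] at hne; simp at hne
    have e := G.full.x_comm ha hb hba hne' v w
    rw [G.full.cert.commWord_eq ha hb] at e
    have h1 : ((rhsWord (T.commT a b) v w).map fun q => G.full.x q.1 q.2).prod = 1 := by
      refine List.prod_eq_one fun g hg => ?_
      simp only [rhsWord, List.map_map, List.mem_map, Function.comp_apply] at hg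
      obtain ⟨c, hc, rfl⟩ := hg
      have hzero : (c.2.1 : F) = 0 := by
        obtain ⟨k, hk⟩ := Int.dvd_of_emod_eq_zero (hz c hc)
        rw [hk, Int.cast_mul, Int.cast_natCast, hp, zero_mul]
      rw [hzero, zero_mul, zero_mul, G.full.x_zero]
    rw [h1, mul_one] at e
    exact e.symm

theorem evTerms_perm {p : ℕ} (hp : (p : F) = 0) {l l' : List (ℕ × ℤ × ℕ × ℕ)} (h : l.Perm l')
    (hc : ∀ a ∈ l', ∀ b ∈ l', T.chkCommute p a.1 b.1 = true) (t u : F) :
    G.evTerms l t u = G.evTerms l' t u := by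
  refine (List.Perm.prod_eq' (h.symm.map _) (List.pairwise_of_forall_mem_list ?_)).symm
  simp only [List.mem_map]
  rintro _ ⟨a, ha, rfl⟩ _ ⟨b, hb, rfl⟩
  exact G.x_commute hp (hc a ha b hb) _ _

/-- The image of a root element. -/
def mapX (m : List (ℕ × ℤ × ℕ)) (r : ℕ) (t : F) : GL D.Idx F :=
  G.full.x (mapAt m r).1 (((mapAt m r).2.1 : F) * t ^ (mapAt m r).2.2)

theorem exists_endo (hW : T.HasWit) {p : ℕ} (hp : (p : F) = 0)
    (hadd : 0 < p → ∀ t u : F, (t + u) ^ p = t ^ p + u ^ p)
    (hperf : 0 < p → ∀ v : F, ∃ t, t ^ p = v) {m : List (ℕ × ℤ × ℕ)}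
    (hm : T.chkMap p m = true) :
    ∃ α : D.group F →* D.group F, Function.Surjective α ∧
      ∀ (g : D.group F) (r : ℕ) (t : F), r < D.nroots → (g : GL D.Idx F) = G.full.x r t →
        (α g : GL D.Idx F) = G.mapX m r t := by
  simp only [chkMap, allBelow_iff, Bool.and_eq_true, Bool.or_eq_true, chkMapRoot, chkMapPair,
    List.all_eq_true, Nat.blt_eq, decide_eq_true_eq, List.isPerm_iff] at hm
  have hmk : ∀ r < D.nroots, ∀ t u : F,
      (t + u) ^ (mapAt m r).2.2 = t ^ (mapAt m r).2.2 + u ^ (mapAt m r).2.2 := fun r hr t u => by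
    rcases (hm r hr).1.1.1.2 with h | ⟨h0, h⟩
    · rw [Nat.eq_of_beq_eq_true h, pow_one, pow_one, pow_one]
    · rw [Nat.eq_of_beq_eq_true h, hadd h0]
  let f : Fin D.nroots × F → D.group F := fun q => ⟨G.mapX m q.1.val q.2, G.x_mem_group _ _⟩
  have hf : ∀ r, r < D.nroots → ∀ t : F,
      ((FreeGroup.lift f (D.stX r t) : D.group F) : GL D.Idx F) = G.mapX m r t := fun r hr t => by
    simp [ChevalleyDatum.stX, hr, f]
  have hrels : ∀ g ∈ D.steinbergRelsAB F, FreeGroup.lift f g = 1 := by
    rintro g (⟨r, t, u, hr, rfl⟩ | ⟨r, s, t, u, hr, hs, hne, hne', rfl⟩) <;> apply Subtype.ext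
    · simp only [map_mul, map_inv, Subgroup.coe_mul, InvMemClass.coe_inv, OneMemClass.coe_one,
        hf r hr, mapX, G.full.x_add, G.full.x_inv]
      rw [hmk r hr, mul_add, add_neg_cancel, G.full.x_zero]
    · rw [G.full.cert.neg_eq hr] at hne'
      obtain ⟨hroot, hpair⟩ := hm r hr
      obtain ⟨⟨⟨⟨hr', -⟩, -⟩, hnegm⟩, hinj⟩ := hroot
      obtain ⟨⟨⟨⟨hs', -⟩, -⟩, -⟩, -⟩ := (hm s hs).1
      rcases hpair s hs with (h | h) | ⟨hperm, hcom⟩
      · exact absurd (Nat.eq_of_beq_eq_true h) hne
      · exact absurd (Nat.eq_of_beq_eq_true h) hne'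
      have h1 : (mapAt m s).1 ≠ (mapAt m r).1 := by
        rcases hinj s hs with h | h
        · exact absurd (Nat.eq_of_beq_eq_true h) hne
        · intro e; rw [e] at h; simp at h
      have h2 : (mapAt m s).1 ≠ negR D (mapAt m r).1 := by
        rw [← Nat.eq_of_beq_eq_true hnegm]
        obtain ⟨⟨-, hinj'⟩, -⟩ := hm _ (Cert.negR_lt hr)
        rcases hinj' s hs with h | h
        · exact absurd (Nat.eq_of_beq_eq_true h) hne'
        · intro e; rw [e] at h; simp at h
      have hword : ((FreeGroup.lift f (D.stWord (D.commWord F r s t u)) : D.group F) : GL D.Idx F) =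
          G.evTerms (T.imgTerms m r s) t u := by
        rw [G.full.cert.commWord_eq hr hs, ChevalleyDatum.stWord, rhsWord, map_list_prod,
          Subgroup.val_list_prod, evTerms, imgTerms]
        simp only [List.map_map]
        refine congrArg List.prod (List.map_congr_left fun c hc => ?_)
        obtain ⟨hlt, -⟩ : c.1 < D.nroots ∧ True := by
          simp only [commT, List.mem_filterMap, List.mem_cons, List.not_mem_nil, or_false] at hc
          obtain ⟨b, hb, hc⟩ := hc
          obtain ⟨k, hk, rfl⟩ := Option.map_eq_some_iff.mp hc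
          refine ⟨?_, trivial⟩
          rcases hb with rfl | rfl | rfl | rfl | rfl | rfl | rfl
          · exact (G.rootT_add hr hs hk).1
          · exact (G.rootT_add hr hs hk).1
          · exact (G.rootT_add hs hr hk).1
          · exact (G.rootT_add hr hs hk).1
          · exact (G.rootT_add hs hr hk).1
          · obtain ⟨k', hk', hk''⟩ := Option.bind_eq_some_iff.mp hk
            exact (G.rootT_add (G.rootT_add hr hs hk').1 hs hk'').1
          · obtain ⟨k', hk', hk''⟩ := Option.bind_eq_some_iff.mp hk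
            exact (G.rootT_add (G.rootT_add hs hr hk').1 hr hk'').1
        simp only [Function.comp_apply, hf _ hlt, mapX]
        congr 1
        push_cast
        rw [neg_pow t]
        simp only [mul_pow, pow_mul]
        ring
      have htgt := G.full.x_comm hr' hs' h1 h2
        ((((mapAt m r).2.1 : ℤ) : F) * t ^ (mapAt m r).2.2)
        ((((mapAt m s).2.1 : ℤ) : F) * u ^ (mapAt m s).2.2)
      rw [G.full.cert.commWord_eq hr' hs'] at htgt
      have htgt' : ((rhsWord (T.commT (mapAt m r).1 (mapAt m s).1)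
          ((((mapAt m r).2.1 : ℤ) : F) * t ^ (mapAt m r).2.2)
          ((((mapAt m s).2.1 : ℤ) : F) * u ^ (mapAt m s).2.2)).map
            fun q => G.full.x q.1 q.2).prod = G.evTerms (T.tgtTerms m r s) t u := by
        rw [rhsWord, evTerms, tgtTerms]
        simp only [List.map_map]
        refine congrArg List.prod (List.map_congr_left fun c _ => ?_)
        simp only [Function.comp_apply]
        congr 1
        push_cast
        rw [neg_pow]
        simp only [mul_pow, pow_mul]
        ring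
      rw [htgt', ← G.evTerms_norm hp, ← G.evTerms_perm hp hperm hcom, G.evTerms_norm hp,
        ← hword] at htgt
      simp only [map_mul, map_inv, Subgroup.coe_mul, InvMemClass.coe_inv, OneMemClass.coe_one,
        hf r hr, hf s hs, mapX]
      rw [mul_inv_eq_one, mul_assoc, htgt]
      group
  let φ : D.SteinbergCover F →* D.group F := PresentedGroup.toGroup hrels
  have hφ : ∀ r, r < D.nroots → ∀ t : F,
      (φ (D.scGen F r t) : GL D.Idx F) = G.mapX m r t := fun r hr t => hf r hr t
  let S := G.scData (G.scθ F) (fun r t hr => G.coe_scθ hr t)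
  have hθsurj : Function.Surjective (G.scθ F) := by
    rintro ⟨g, hg⟩
    rw [← S.θ_range] at hg
    obtain ⟨e, he⟩ := hg
    exact ⟨e, Subtype.ext he⟩
  -- every root element is an image
  have hφsurj : Function.Surjective φ := by
    have hle : D.group F ≤ φ.range.map (D.group F).subtype := by
      refine G.group_le_iff.mpr fun r' hr' v => ?_
      obtain ⟨r, hr, he⟩ : ∃ r, r < D.nroots ∧ (mapAt m r).1 = r' := by
        let π : Fin D.nroots → Fin D.nroots := fun r => ⟨(mapAt m r).1, (hm r r.isLt).1.1.1.1.1⟩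
        have hπ : Function.Injective π := fun a b e => by
          rcases (hm b b.isLt).1.2 a a.isLt with h | h
          · exact Fin.ext (Nat.eq_of_beq_eq_true h)
          · rw [show (mapAt m a).1 = (mapAt m b).1 from congrArg Fin.val e] at h; simp at h
        obtain ⟨r, hr⟩ := (Finite.injective_iff_surjective.mp hπ) ⟨r', hr'⟩
        exact ⟨r, r.isLt, congrArg Fin.val hr⟩
      set ε := (((mapAt m r).2.1 : ℤ) : F) with hεdef
      have hε : ε * ε = 1 := by
        have := congrArg (fun z : ℤ => (z : F)) (hm r hr).1.1.1.1.2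
        simpa [pow_two] using this
      obtain ⟨t, ht⟩ : ∃ t, t ^ (mapAt m r).2.2 = ε * v := by
        rcases (hm r hr).1.1.1.2 with h | ⟨h0, h⟩
        · exact ⟨ε * v, by rw [Nat.eq_of_beq_eq_true h, pow_one]⟩
        · rw [Nat.eq_of_beq_eq_true h]; exact hperf h0 _
      refine ⟨φ (D.scGen F r t), ⟨_, rfl⟩, ?_⟩
      show (φ (D.scGen F r t) : GL D.Idx F) = _
      rw [hφ r hr, mapX, he, ← hεdef, ht, ← mul_assoc, hε, one_mul]
    intro g
    obtain ⟨_, ⟨e, rfl⟩, he⟩ := hle g.2
    exact ⟨e, Subtype.ext he⟩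
  have hker : (G.scθ F).ker ≤ φ.ker := fun z hz => by
    have hzc := S.ker_le_center hW (congrArg Subtype.val hz)
    have : φ z ∈ Subgroup.center (D.group F) := by
      rw [Subgroup.mem_center_iff]
      intro g
      obtain ⟨e, rfl⟩ := hφsurj g
      rw [← map_mul, ← map_mul, Subgroup.mem_center_iff.mp hzc e]
    rwa [G.center_group] at this
  let α := (G.scθ F).liftOfSurjective hθsurj ⟨φ, hker⟩
  have hα : ∀ e, α (G.scθ F e) = φ e :=
    fun e => MonoidHom.liftOfRightInverse_comp_apply _ _ _ ⟨φ, hker⟩ e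
  refine ⟨α, fun g => ?_, fun g r t hr hg => ?_⟩
  · obtain ⟨e, rfl⟩ := hφsurj g
    exact ⟨_, hα e⟩
  · have e : g = G.scθ F (D.scGen F r t) := Subtype.ext (by
      rw [hg]; exact (G.freeMap_stX r t).symm)
    rw [e, hα, hφ r hr]

end Good

end Tab

/-- A surjective endomorphism of a simple group is bijective. -/
theorem bijective_of_isSimple {Γ : Type*} [Group Γ] [IsSimpleGroup Γ] {α : Γ →* Γ}
    (h : Function.Surjective α) : Function.Bijective α := by
  refine ⟨(MonoidHom.ker_eq_bot_iff α).mp ?_, h⟩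
  refine (α.normal_ker.eq_bot_or_eq_top).resolve_right fun htop => ?_
  obtain ⟨a, ha⟩ := exists_ne (1 : Γ)
  obtain ⟨b, rfl⟩ := h a
  exact ha (MonoidHom.mem_ker.mp (htop ▸ Subgroup.mem_top b))

end CfsgLib.Chev
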