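import Cfsg.Agent.Chev.TorusFix
import Cfsg.Agent.Chev.RootMap

/-!
Changing the Weyl element of a twisted torus by a reflection in a root whose orbit consists of
orthogonal roots: the equation of Lang is solved in the corresponding subgroup of type `A₁`.
-/

set_option autoImplicit false
set_option linter.style.haveILetI false

namespace CfsgLib.Chev

open Cfsg.Lie Matrix
open scoped MatrixGroups

/-- An additive form of Hilbert 90 in a finite field. -/
theorem exists_trace_neg_one {K : Type*} [Field K] [Fintype K] {Q : ℕ} (hQ : 2 ≤ Q)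
    (τ : K →+* K) (hτ : ∀ a, τ a = a ^ Q) (hK : Fintype.card K = Q ^ 4) :
    ∃ u : K, u ^ Q + u = -1 := by
  classical
  have hτ4 : ∀ a, τ (τ (τ (τ a))) = a := fun a => by
    rw [hτ, hτ, hτ, hτ, ← pow_mul, ← pow_mul, ← pow_mul,
      show Q * (Q * (Q * Q)) = Fintype.card K by rw [hK]; ring, FiniteField.pow_card]
  obtain ⟨g, hg⟩ := IsCyclic.exists_generator (α := Kˣ)
  have ho : orderOf g = Q ^ 4 - 1 := by
    rw [orderOf_eq_card_of_forall_mem_zpowers hg, Nat.card_eq_fintype_card, Fintype.card_units, hK]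
  -- an element of the field with `Q ^ 2` elements
  set v : K := ((g ^ (Q ^ 2 + 1) : Kˣ) : K) with hv
  have h4 : Q ^ 2 * Q ^ 2 = Q ^ 4 := by ring
  have hQ2 : 4 ≤ Q ^ 2 := Nat.pow_le_pow_left hQ 2
  have hv2 : τ (τ v) = v := by
    rw [hτ, hτ, ← pow_mul, hv, ← Units.val_pow_eq_pow_val, ← pow_mul]
    refine congrArg Units.val (pow_eq_pow_iff_modEq.mpr ?_)
    rw [ho]
    refine ((Nat.modEq_iff_dvd' (Nat.le_mul_of_pos_right _ (Nat.mul_pos (by omega) (by omega)))).mpr ?_).symm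
    rw [show (Q ^ 2 + 1) * (Q * Q) = Q ^ 4 + Q ^ 2 by ring]
    have : 1 ≤ Q ^ 4 := Nat.one_le_pow _ _ (by omega)
    exact ⟨1, by omega⟩
  by_cases hs : τ v + v = 0
  · -- then `v` changes sign, and `1` is a trace
    by_cases h2 : (2 : K) = 0
    · exfalso
      have hvv : τ v = v := by linear_combination hs - v * h2
      rw [hτ, hv, ← Units.val_pow_eq_pow_val, Units.val_inj, ← pow_mul,
        pow_eq_pow_iff_modEq, ho] at hvv
      have hlt : (Q ^ 2 + 1) * Q < Q ^ 4 - 1 := by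
        have h5 : 2 * (Q ^ 2 * Q) ≤ Q ^ 2 * Q ^ 2 := by
          calc 2 * (Q ^ 2 * Q) ≤ Q * (Q ^ 2 * Q) := Nat.mul_le_mul_right _ hQ
            _ = _ := by ring
        have h6 : Q * 4 ≤ Q * Q ^ 2 := Nat.mul_le_mul_left _ hQ2
        have h7 : (Q ^ 2 + 1) * Q = Q ^ 2 * Q + Q := by ring
        have h8 : Q * Q ^ 2 = Q ^ 2 * Q := by ring
        omega
      have hlt' : Q ^ 2 + 1 < Q ^ 4 - 1 := lt_of_le_of_lt (Nat.le_mul_of_pos_right _ (by omega)) hlt
      rw [Nat.ModEq, Nat.mod_eq_of_lt hlt, Nat.mod_eq_of_lt hlt'] at hvv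
      nlinarith
    · refine ⟨-(2⁻¹), ?_⟩
      rw [← hτ, map_neg, map_inv₀, map_ofNat]
      field_simp
      ring
  · refine ⟨-(v / (τ v + v)), ?_⟩
    rw [← hτ, map_neg, map_div₀, map_add, hv2, add_comm v (τ v)]
    field_simp
    ring

/-- Elements of norm one are quotients of conjugates. -/
theorem exists_pow_eq_of_norm {K : Type*} [Field K] [Fintype K] {Q : ℕ} (hQ : 2 ≤ Q)
    (hK : Fintype.card K = Q ^ 4) {c : Kˣ} (hc : c ^ (1 + Q + Q ^ 2 + Q ^ 3) = 1) :
    ∃ b : Kˣ, b ^ (Q - 1) = c := by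
  classical
  obtain ⟨g, hg⟩ := IsCyclic.exists_generator (α := Kˣ)
  obtain ⟨n, rfl⟩ := (Submonoid.mem_powers_iff _ _).mp
    (mem_powers_iff_mem_zpowers.mpr (hg c))
  have ho : orderOf g = Q ^ 4 - 1 := by
    rw [orderOf_eq_card_of_forall_mem_zpowers hg, Nat.card_eq_fintype_card, Fintype.card_units, hK]
  have e : Q ^ 4 - 1 = (Q - 1) * (1 + Q + Q ^ 2 + Q ^ 3) := by
    obtain ⟨R, rfl⟩ := Nat.exists_eq_add_of_le (show 1 ≤ Q by omega)
    simp only [Nat.add_sub_cancel_left]
    refine Nat.sub_eq_of_eq_add ?_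
    ring
  rw [← pow_mul, ← orderOf_dvd_iff_pow_eq_one, ho, e] at hc
  obtain ⟨k, rfl⟩ := (Nat.mul_dvd_mul_iff_right (show 0 < 1 + Q + Q ^ 2 + Q ^ 3 by omega)).mp hc
  exact ⟨g ^ k, by rw [← pow_mul, mul_comm]⟩

namespace Tab.Good

variable {D : ChevalleyDatum} {T : Tab D} (G : T.Good) {K : Type*} [Field K] [Fintype K]
include G

omit [Fintype K] in
/-- Monomial elements with the permutation of a word lie in its diagonal coset. -/
theorem eq_hT_mul_nw {n : GL D.Idx K} (hn : n ∈ D.monomialSubgroup K) {L : List (Fin D.rank)}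
    (hL : G.full.RootAct n (G.full.pw L)) : ∃ a, n = T.hT K a * G.full.nw K L := by
  have h := G.mem_diagonal_of_pos (mul_mem hn (inv_mem (G.nw_mem_monomial L)))
    (G.rootAct_mul hL (G.rootAct_inv (G.nw_mem_monomial L) (G.rootAct_nw L))) fun s hs => by
      rw [mul_inv_cancel]; exact hs
  rw [G.full.diagonal_eq_range] at h
  obtain ⟨a, ha⟩ := h
  exact ⟨a, by rw [ha, inv_mul_cancel_right]⟩

omit [Fintype K] in
theorem pw_reverse_inv (L : List (Fin D.rank)) : G.full.pw L.reverse = (G.full.pw L)⁻¹ := by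
  induction L with
  | nil => simp [Full.pw]
  | cons i L ih =>
    rw [List.reverse_cons, G.pw_append, ih, G.pw_singleton, G.pw_cons, _root_.mul_inv_rev,
      inv_eq_of_mul_eq_one_right (G.refl_mul_self i)]

/-- The step from `w` to `s_β w`, for an orbit of three orthogonal roots. -/
theorem twist_step {q : ℕ} (hq : 2 ≤ q) (σ : K →+* K) (hσ : ∀ a, σ a = a ^ q)
    (hK : Fintype.card K = q ^ 12) {h : GL D.Idx K} (hh : h ∈ D.group K) {a : Fin D.rank → Kˣ}
    {L : List (Fin D.rank)} (hy : h⁻¹ * glMap D σ h = T.hT K a * G.full.nw K L)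
    {β0 β1 β2 : Fin D.nroots} (h01 : G.full.pw L β0 = β1) (h12 : G.full.pw L β1 = β2)
    (h20 : G.full.pw L β2 = β0)
    (horth : ∀ s ∈ [β0, negF β0], ∀ t ∈ [β1, negF β1, β2, negF β2],
      T.chkCommute 0 s.val t.val = true)
    {P : List (Fin D.rank)} {j : Fin D.rank} (hP : G.full.pw P (G.full.simp' j) = β0) :
    ∃ h' ∈ D.group K, ∃ a', h'⁻¹ * glMap D σ h' =
      T.hT K a' * G.full.nw K (P ++ [j] ++ P.reverse ++ L) := by
  classical
  set y := T.hT K a * G.full.nw K L with hydef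
  have hyG : y ∈ D.group K := hy ▸ mul_mem (inv_mem hh) (G.glMap_group σ hh)
  let η : GL D.Idx K →* GL D.Idx K := (MulAut.conj y).toMonoidHom.comp (glMap D σ)
  have hη : ∀ g, η g = y * glMap D σ g * y⁻¹ := fun g => rfl
  have hηh : ∀ g, η g = h⁻¹ * glMap D σ (h * g * h⁻¹) * h := fun g => by
    rw [hη, map_mul, map_mul, map_inv, ← hy]; group
  have hact : G.full.RootAct y (G.full.pw L) := by
    simpa using G.rootAct_mul (G.rootAct_hT a) (G.rootAct_nw (F := K) L)
  obtain ⟨c, hc⟩ := hact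
  have hηx : ∀ (s : Fin D.nroots) (t : K), η (G.full.x s.val t) =
      G.full.x (G.full.pw L s).val ((c s : K) * t ^ q) := fun s t => by
    rw [hη, G.glMap_x, hσ]; exact (hc s).2.2.2 _
  have hneg : ∀ s : Fin D.nroots, G.full.pw L (negF s) = negF (G.full.pw L s) := G.negF_pw L
  -- the third power on the root subgroup
  set C : Kˣ := c β2 * c β1 ^ q * c β0 ^ (q ^ 2) with hC
  have hη3 : ∀ t, η (η (η (G.full.x β0.val t))) = G.full.x β0.val ((C : K) * t ^ (q ^ 3)) := by
    intro t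
    rw [hηx, h01, hηx, h12, hηx, h20]
    congr 1
    rw [hC, Units.val_mul, Units.val_mul, Units.val_pow_eq_pow_val, Units.val_pow_eq_pow_val]
    simp only [mul_pow, ← pow_mul]
    ring
  have hη3n : ∀ t, η (η (η (G.full.x (negF β0).val t))) =
      G.full.x (negF β0).val (((C⁻¹ : Kˣ) : K) * t ^ (q ^ 3)) := by
    intro t
    rw [hηx, hneg, h01, hηx, hneg, h12, hηx, hneg, h20]
    congr 1
    rw [(hc β0).2.1, (hc β1).2.1, (hc β2).2.1, hC, _root_.mul_inv_rev, _root_.mul_inv_rev,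
      ← inv_pow, ← inv_pow, Units.val_mul, Units.val_mul, Units.val_pow_eq_pow_val,
      Units.val_pow_eq_pow_val]
    simp only [mul_pow, ← pow_mul]
    ring
  -- the norm of the coefficient
  set Q := q ^ 3 with hQdef
  have hQ : 2 ≤ Q := le_trans hq (Nat.le_self_pow (by norm_num) q)
  have hK' : Fintype.card K = Q ^ 4 := by rw [hK, hQdef]; ring
  have hnorm : C ^ (1 + Q + Q ^ 2 + Q ^ 3) = 1 := by
    have h12' : ∀ n : ℕ, ∀ g, η^[n] g = h⁻¹ * (glMap D σ)^[n] (h * g * h⁻¹) * h := by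
      intro n
      induction n with
      | zero => intro g; simp only [Function.iterate_zero, id_eq]; group
      | succ n ih =>
        intro g
        rw [Function.iterate_succ_apply', Function.iterate_succ_apply', ih, hηh]
        congr 2
        group
    have hid : ∀ g : GL D.Idx K, (glMap D σ)^[12] g = g := by
      intro g
      have hit : ∀ n : ℕ, ∀ i k, (((glMap D σ)^[n] g : GL D.Idx K) : Matrix D.Idx D.Idx K) i k =
          ((g : Matrix D.Idx D.Idx K) i k) ^ q ^ n := by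
        intro n
        induction n with
        | zero => simp
        | succ n ih =>
          intro i k
          rw [Function.iterate_succ_apply', glMap_coe, RingHom.mapMatrix_apply, Matrix.map_apply,
            ih, hσ, ← pow_mul, ← pow_succ]
      refine Units.ext (Matrix.ext fun i k => ?_)
      rw [hit, ← hK, FiniteField.pow_card]
    have h3 : ∀ t, η^[3] (G.full.x β0.val t) = G.full.x β0.val ((C : K) * t ^ Q) := hη3
    have e := h12' 12 (G.full.x β0.val 1)
    rw [hid, show η^[12] (G.full.x β0.val 1) = η^[3] (η^[3] (η^[3] (η^[3] (G.full.x β0.val 1)))) by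
      simp only [← Function.iterate_add_apply], h3, h3, h3, h3] at e
    rw [show h⁻¹ * (h * G.full.x β0.val 1 * h⁻¹) * h = G.full.x β0.val 1 by group] at e
    have e' := G.x_inj β0.isLt e
    refine Units.ext ?_
    rw [Units.val_pow_eq_pow_val, Units.val_one]
    simp only [one_pow, mul_one, mul_pow, ← pow_mul] at e'
    simp only [pow_add, pow_one]
    linear_combination e'
  -- the solution
  obtain ⟨τ, hτ⟩ : ∃ τ : K →+* K, ∀ t, τ t = t ^ Q :=
    ⟨(σ.comp σ).comp σ, fun t => by simp only [RingHom.comp_apply, hσ, ← pow_mul]; ring_nf; rfl⟩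
  obtain ⟨u, hu⟩ := exists_trace_neg_one hQ τ hτ hK'
  have hm1 : ((-1 : Kˣ) ^ Q : Kˣ) = -1 := Units.ext (by
    rw [Units.val_pow_eq_pow_val, Units.val_neg, Units.val_one, ← hτ, map_neg, map_one])
  have hnorm' : (-1 * C⁻¹) ^ (1 + Q + Q ^ 2 + Q ^ 3) = 1 := by
    rw [mul_pow, inv_pow, hnorm, inv_one, mul_one]
    rw [pow_add, pow_add, pow_add, pow_one, hm1, sq, pow_mul, hm1, hm1,
      show Q ^ 3 = Q * Q * Q by ring, pow_mul, pow_mul, hm1, hm1, hm1]
    simp
  obtain ⟨b, hb⟩ := exists_pow_eq_of_norm hQ hK' hnorm'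
  have hbQ : (C : K) * (b : K) ^ Q = -(b : K) := by
    have hb' := congrArg Units.val hb
    rw [Units.val_pow_eq_pow_val, Units.val_mul, Units.val_neg, Units.val_one,
      Units.val_inv_eq_inv_val] at hb'
    rw [show Q = Q - 1 + 1 by omega, pow_succ, hb']
    field_simp
  set a₀ : K := u / (b : K) with ha₀
  have hamid : -a₀ + ((C⁻¹ : Kˣ) : K) * a₀ ^ Q = -(-(b : K))⁻¹ := by
    have hbQ' : (b : K) ^ Q ≠ 0 := pow_ne_zero _ b.ne_zero
    rw [ha₀, div_pow, Units.val_inv_eq_inv_val,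
      show (C : K)⁻¹ * (u ^ Q / (b : K) ^ Q) = u ^ Q / ((C : K) * (b : K) ^ Q) by field_simp, hbQ]
    field_simp
    linear_combination -hu
  set w := G.full.x (negF β0).val a₀ * G.full.x β0.val (b : K) with hw
  have hwG : w ∈ D.group K := mul_mem (G.x_mem_group _ _) (G.x_mem_group _ _)
  have hη1 : ∃ s t, η w = G.full.x (negF β1).val s * G.full.x β1.val t := by
    refine ⟨(c (negF β0) : K) * a₀ ^ q, (c β0 : K) * (b : K) ^ q, ?_⟩
    rw [hw, map_mul, hηx, hηx, hneg, h01]
  have hη2 : ∃ s t, η (η w) = G.full.x (negF β2).val s * G.full.x β2.val t := by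
    refine ⟨(c (negF β1) : K) * ((c (negF β0) : K) * a₀ ^ q) ^ q,
      (c β1 : K) * ((c β0 : K) * (b : K) ^ q) ^ q, ?_⟩
    simp only [hw, map_mul, hηx, hneg, h01, h12]
  have hcomm : ∀ (β : Fin D.nroots), β = β1 ∨ β = β2 → ∀ s t : K,
      Commute w (G.full.x (negF β).val s * G.full.x β.val t) := by
    intro β hβ s t
    have hc' : ∀ e ∈ [β0, negF β0], ∀ e' ∈ [β, negF β], ∀ v v' : K,
        Commute (G.full.x e.val v) (G.full.x e'.val v') := fun e he e' he' v v' =>
      G.x_commute (p := 0) (by simp) (horth e he e' (by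
        rcases hβ with rfl | rfl <;> simp only [List.mem_cons, List.not_mem_nil, or_false] at he' ⊢ <;>
          tauto)) v v'
    exact ((hc' _ (by simp) _ (by simp) _ _).mul_right (hc' _ (by simp) _ (by simp) _ _)).mul_left
      ((hc' _ (by simp) _ (by simp) _ _).mul_right (hc' _ (by simp) _ (by simp) _ _))
  set n := G.full.nr β0.val (-(b : K)) with hn
  have hwn : w⁻¹ * η (η (η w)) = n := by
    rw [hw, map_mul, map_mul, map_mul, hη3, hη3n, hbQ, _root_.mul_inv_rev, G.full.x_inv, G.full.x_inv,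
      mul_assoc, ← mul_assoc (G.full.x (negF β0).val (-a₀)), G.full.x_add, hamid, ← mul_assoc]
    rfl
  set z := w * η w * η (η w) with hz
  have hηG : ∀ g ∈ D.group K, η g ∈ D.group K := fun g hg =>
    mul_mem (mul_mem hyG (G.glMap_group σ hg)) (inv_mem hyG)
  refine ⟨h * z, mul_mem hh (mul_mem (mul_mem hwG (hηG _ hwG)) (hηG _ (hηG _ hwG))), ?_⟩
  have hzy : (h * z)⁻¹ * glMap D σ (h * z) = n * y := by
    obtain ⟨s1, t1, e1⟩ := hη1
    obtain ⟨s2, t2, e2⟩ := hη2
    have c1 : Commute w (η w) := e1 ▸ hcomm β1 (Or.inl rfl) s1 t1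
    have c2 : Commute w (η (η w)) := e2 ▸ hcomm β2 (Or.inr rfl) s2 t2
    calc (h * z)⁻¹ * glMap D σ (h * z) = z⁻¹ * η z * y := by
          rw [hη, map_mul, ← hy]; group
      _ = (η (η w))⁻¹ * (η w)⁻¹ * w⁻¹ * η w * η (η w) * η (η (η w)) * y := by
          rw [hz, map_mul η (w * η w) (η (η w)), map_mul η w (η w)]; group
      _ = (η (η w))⁻¹ * (η w)⁻¹ * (w⁻¹ * η w) * η (η w) * η (η (η w)) * y := by group
      _ = (η (η w))⁻¹ * (w⁻¹ * η (η w)) * η (η (η w)) * y := by
          rw [(c1.inv_left).eq]; group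
      _ = w⁻¹ * η (η (η w)) * y := by rw [(c2.inv_left).eq]; group
      _ = n * y := by rw [hwn]
  obtain ⟨d, hd⟩ := G.rootAct_nw (F := K) P
  set κ := d (G.full.simp' j)
  have hconj : n = G.full.nw K P * (T.hT K (Pi.mulSingle j (-b * κ⁻¹)) * G.full.ns K j) *
      (G.full.nw K P)⁻¹ := by
    have e1 := (hd (G.full.simp' j)).2.2.2
    have e2 := (hd (negF (G.full.simp' j))).2.2.2
    rw [hP] at e1
    rw [G.negF_pw, hP, (hd _).2.1] at e2
    rw [G.full.hT_single, Full.hr, show G.full.ns K j = G.full.nr (D.simple j) 1 from rfl,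
      ← neg_neg (1 : K), ← G.full.nr_inv, neg_neg, inv_mul_cancel_right, hn, Full.nr, Full.nr]
    set v : K := ((-b * κ⁻¹ : Kˣ) : K)
    have hv : (κ : K) * v = -(b : K) := by simp [v]; field_simp
    have hv' : ((κ⁻¹ : Kˣ) : K) * -v⁻¹ = -(-(b : K))⁻¹ := by
      rw [← hv, Units.val_inv_eq_inv_val, _root_.mul_inv]; ring
    rw [← hv', ← hv, ← e1, show G.full.x (negR D β0.val) (((κ⁻¹ : Kˣ) : K) * -v⁻¹) =
      G.full.x (negF β0).val (((κ⁻¹ : Kˣ) : K) * -v⁻¹) from rfl, ← e2]
    show _ = G.full.nw K P * (G.full.x (D.simple j) v * G.full.x (negR D (D.simple j)) (-v⁻¹) *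
      G.full.x (D.simple j) v) * (G.full.nw K P)⁻¹
    rw [show (G.full.simp' j).val = D.simple j from rfl,
      show (negF (G.full.simp' j)).val = negR D (D.simple j) from rfl]
    group
  have hmono : n ∈ D.monomialSubgroup K := by
    rw [hconj]
    exact mul_mem (mul_mem (G.nw_mem_monomial P) (mul_mem (G.hT_mem_monomial _) (G.ns_mem_monomial j)))
      (inv_mem (G.nw_mem_monomial P))
  have hrn : G.full.RootAct n (G.full.pw (P ++ [j] ++ P.reverse)) := by
    rw [hconj, G.pw_append, G.pw_append, G.pw_reverse_inv, G.pw_singleton]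
    exact G.rootAct_mul (G.rootAct_mul (G.rootAct_nw P)
      (by simpa using G.rootAct_mul (G.rootAct_hT (F := K) _) (G.rootAct_ns j)))
      (G.rootAct_inv (G.nw_mem_monomial P) (G.rootAct_nw P))
  rw [hzy]
  refine G.eq_hT_mul_nw (mul_mem hmono (mul_mem (G.hT_mem_monomial a) (G.nw_mem_monomial L))) ?_
  rw [G.pw_append]
  exact G.rootAct_mul hrn ⟨c, hc⟩

end Tab.Good

end CfsgLib.Chev
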