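import Cfsg.Agent.Chev.EllipticE6
import Cfsg.Agent.Chev.E7Lattice
import Cfsg.Agent.Chev.TwistStep
import Cfsg.Agent.ChevMult.CenterE7

/-!
The cyclic self-centralising torus of `E₇` of order `Φ₁₂Φ₆Φ₂/gcd(2, q - 1)`: the twisted torus of
`E₆` is pushed into `E₇` and twisted once more by a reflection in one of three orthogonal roots.
-/

set_option autoImplicit false
set_option linter.style.haveILetI false

namespace CfsgLib.Chev.E7Fold

open Matrix Polynomial Cfsg.Lie Tab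
open CfsgLib.Chev.Tab.Good (expo expo_eq_iff)

/-- The rank is not zero. -/
local instance neZeroRankF47' : NeZero chevF4.rank := ⟨by decide⟩

/-- The rank is not zero. -/
local instance neZeroRankE7' : NeZero chevE7.rank := ⟨by decide⟩

theorem separable_12_6 {ℓ : ℕ} [Fact ℓ.Prime] (h : ¬ ℓ ∣ 12) :
    ((cyclotomic 12 ℤ * (Polynomial.X ^ 3 + 1)).map (Int.castRingHom (ZMod ℓ))).Separable := by
  refine Polynomial.Separable.of_dvd (f := (Polynomial.X : (ZMod ℓ)[X]) ^ 12 - 1) ?_ ?_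
  · simpa using Polynomial.separable_X_pow_sub_C (n := 12) (1 : ZMod ℓ)
      (fun e => h ((CharP.cast_eq_zero_iff (ZMod ℓ) ℓ _).mp e)) one_ne_zero
  · refine ⟨((Polynomial.X : (ZMod ℓ)[X]) ^ 3 - 1) * (Polynomial.X ^ 2 + 1), ?_⟩
    rw [E6Fold.cyclotomic_twelve]
    simp only [Polynomial.map_mul, Polynomial.map_add, Polynomial.map_sub, Polynomial.map_pow,
      Polynomial.map_X, Polynomial.map_one]
    ring

theorem card_ker7 {K : Type*} [Field K] [Fintype K] :
    Nat.card (E7Data.tab.hT K).ker = Nat.gcd (Fintype.card K - 1) 2 := by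
  classical
  have h := good_E7.card_diagonal (F := K) E7Data.smith_ok
  have hdiag : Nat.card (E7Data.tab.hT K).ker * Nat.card (chevE7.diagonalSubgroup K) =
      (Fintype.card K - 1) ^ chevE7.rank := by
    rw [good_E7.full.diagonal_eq_range, ← Subgroup.index_ker, Subgroup.card_mul_index, Nat.card_pi,
      Finset.prod_const, Nat.card_eq_fintype_card, Fintype.card_units, Finset.card_univ,
      Fintype.card_fin]
  rw [← hdiag] at h
  rw [← Nat.eq_of_mul_eq_mul_right Nat.card_pos h]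
  simp [E7Data.smith]

/-- Powers of `q` are far from being congruent up to sign modulo `q ^ 3 + 1`. -/
theorem pow_indep {q : ℕ} (hq : 2 ≤ q) (i k : Fin 3) :
    (((q ^ 3 + 1 : ℕ) : ℤ) ∣ 2 * ((q : ℤ) ^ k.val - (q : ℤ) ^ i.val) → i = k) ∧
      ¬ ((q ^ 3 + 1 : ℕ) : ℤ) ∣ 2 * ((q : ℤ) ^ k.val + (q : ℤ) ^ i.val) := by
  by_cases h4 : 4 ≤ q
  · have hb : ∀ j : Fin 3, (1 : ℤ) ≤ (q : ℤ) ^ j.val ∧ (q : ℤ) ^ j.val ≤ (q : ℤ) ^ 2 := fun j =>
      ⟨one_le_pow₀ (by omega), pow_le_pow_right₀ (by omega) (by omega)⟩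
    have hQ : 4 * (q : ℤ) ^ 2 < ((q ^ 3 + 1 : ℕ) : ℤ) := by
      have : (4 : ℤ) ≤ q := by omega
      push_cast
      nlinarith
    have hi := hb i
    have hk := hb k
    refine ⟨fun h => ?_, fun h => ?_⟩
    · have h0 := Int.eq_zero_of_abs_lt_dvd h (abs_lt.mpr ⟨by omega, by omega⟩)
      have : (q : ℤ) ^ i.val = (q : ℤ) ^ k.val := by omega
      exact Fin.ext (Nat.pow_right_injective hq (by exact_mod_cast this))
    · have h0 := Int.eq_zero_of_abs_lt_dvd h (abs_lt.mpr ⟨by omega, by omega⟩)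
      omega
  · interval_cases q <;> revert i k <;> decide

/-- The twisting Weyl element pushed into the larger group. -/
theorem exists_e7_twist {F K : Type*} [Field F] [Fintype F] [Field K] [Fintype K] (f : F →+* K)
    {σ : K →+* K} (hσ : ∀ a, σ a = a ^ Fintype.card F)
    (hσf : σ.comp f = f) {g : Kˣ} (hg : ∀ c, c ∈ Subgroup.zpowers g) {r : ℕ} [Fact r.Prime]
    (hK : Fintype.card K = Fintype.card F ^ 12) (hζ : orderOf (Fintype.card F : ZMod r) = 12)
    (hr : 13 ≤ r) (hrG : r ∣ Nat.card (chevF4.group F)) :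
    ∃ (m : ℤ) (u : Fin chevF4.rank → ℤ) (L4 : List (Fin chevF4.rank))
      (h7 : GL chevE7.Idx K) (a : Fin chevE7.rank → Kˣ),
      (orderOf g : ℤ) = r * m ∧
      (F4Data.tab.vM L4.reverse).charpoly = cyclotomic 12 ℤ ∧
      (∀ s : Fin chevF4.nroots,
        (fun k => ((F4Data.tab.wrow s.val k : ℤ) : ZMod r)) ⬝ᵥ (Int.castRingHom (ZMod r) ∘ u) ≠ 0) ∧
      (F4Data.tab.vM L4.reverse).map (Int.castRingHom (ZMod r)) *ᵥ (Int.castRingHom (ZMod r) ∘ u) =
        (Fintype.card F : ZMod r) • (Int.castRingHom (ZMod r) ∘ u) ∧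
      h7 ∈ chevE7.group K ∧
      h7⁻¹ * glMap chevE7 σ h7 = E7Data.tab.hT K a * good_E7.full.nw K (expand7 L4) := by
  classical
  obtain ⟨m, u, L4, y6, h6, hm, -, hcp4, hno4, hev, -, hh6, hx6, hroot, hstab, hL⟩ :=
    E6Fold.exists_e6_regular f hσ hσf hg hK hζ hr hrG
  obtain ⟨C⟩ := good_E6.exists_coverTorus (K := K) good_E7 CfsgLib.ChevMult.embE6
    ⟨_, wits_E6⟩ CfsgLib.ChevMult.kerE6_ok
  obtain ⟨e, a, -, hey⟩ := good_E6.regular_twist C ⟨_, wits_E6⟩ σ hσ
    (x := glMap chevE6 f y6) (by rw [glMap_comp, hσf]) hh6 hx6 hroot hstab hL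
  obtain ⟨ψ, hψ⟩ := CfsgLib.ChevMult.exists_emb (F := K) good_E6 good_E7 CfsgLib.ChevMult.embE6
  obtain ⟨⟨hroot', hsimp⟩, -⟩ : (_ ∧ _) ∧ _ := by
    simpa only [CfsgLib.ChevMult.chkEmb, Bool.and_eq_true, allBelow_iff, Nat.blt_eq, Nat.beq_eq,
      Nat.ble_eq] using CfsgLib.ChevMult.embE6
  set S := good_E6.coverData K with hS
  have hψx : ∀ s < chevE6.nroots, ∀ t, ψ (S.xb s t) =
      good_E7.full.x (CfsgLib.ChevMult.ioAt CfsgLib.ChevMult.ioE6 s) t := hψ
  have hψnb : ∀ (i : Fin chevE6.rank) (t : K),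
      ψ (S.nb i t) = good_E7.full.nr (chevE7.simple (cast67 i).val) t := by
    intro i t
    have hs := good_E6.full.simple_lt i.isLt
    have hn := Cert.negR_lt (D := chevE6) hs
    simp only [Good.StData.nb, map_mul, hψx _ hs, hψx _ hn, hsimp i i.isLt, (hroot' _ hs).1.2,
      Full.nr]
    rfl
  have hψH : ∀ c, ∃ b, ψ (C.H c) = E7Data.tab.hT K b := by
    intro c
    induction c using good_E6.full.hT_induction with
    | h1 => exact ⟨1, by simp⟩
    | hm a b ha hb =>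
      obtain ⟨a', ha'⟩ := ha
      obtain ⟨b', hb'⟩ := hb
      exact ⟨a' * b', by simp [ha', hb']⟩
    | hs i v =>
      refine ⟨Pi.mulSingle (cast67 i) v, ?_⟩
      rw [C.hH, ← hS, Good.StData.hb, map_mul, hψnb, hψnb, good_E7.full.hT_single]
      rfl
  have hψnbw : ∀ w : List (Fin chevE6.rank),
      ψ (S.nbw w) = good_E7.full.nw K (w.map cast67) := by
    intro w
    induction w with
    | nil => simp [Good.StData.nbw, Full.nw]
    | cons i w ih =>
      rw [Good.StData.nbw_cons, map_mul, hψnb, ih]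
      simp [Full.nw]
      rfl
  have hψσ : ∀ b, ψ (good_E6.coverMap σ b) = glMap chevE7 σ (ψ b) :=
    DFunLike.congr_fun (good_E6.cover_ext (a := ψ.comp (good_E6.coverMap σ))
      (b := (glMap chevE7 σ).comp ψ) fun s t => by
      rw [MonoidHom.comp_apply, MonoidHom.comp_apply, good_E6.coverMap_x, ← hS]
      by_cases hs : s < chevE6.nroots
      · rw [hψx s hs, hψx s hs, good_E7.glMap_x]
      · have h1 : ∀ t : K, S.xb s t = 1 := fun t => by
          show chevE6.scGen K s t = 1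
          simp [ChevalleyDatum.scGen, ChevalleyDatum.stX, hs]
        rw [h1, h1, map_one, map_one])
  have hψG : ∀ b, ψ b ∈ chevE7.group K := by
    intro b
    have hb : b ∈ (⊤ : Subgroup _) := Subgroup.mem_top b
    rw [← S.gen] at hb
    refine (Subgroup.closure_le ((chevE7.group K).comap ψ)).mpr ?_ hb
    rintro _ ⟨s, hs, t, rfl⟩
    show ψ _ ∈ chevE7.group K
    rw [hψx s hs]
    exact good_E7.x_mem_group _ _
  obtain ⟨b, hb⟩ := hψH a
  refine ⟨m, u, L4, ψ e, b, hm, hcp4, hno4, hev, hψG e, ?_⟩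
  rw [← hψσ, ← map_inv, ← map_mul, hey, map_mul, hb, hψnbw]
  rfl

/-- The part of the orthogonal roots in the lattice of coroots. -/
theorem flip_witness {q : ℕ} {ρ : Fin 3 → Fin 3} (hρ : ρ = ![1, 2, 0] ∨ ρ = ![2, 0, 1]) :
    ∃ ε : Fin 3 → Fin 3, ε 0 = 0 ∧ Function.Injective ε ∧ ∀ k,
      ((q ^ 3 + 1 : ℕ) : ℤ) ∣ ((permM ρ * flip1) *ᵥ fun i => (q : ℤ) ^ (ε i).val) k -
        (q : ℤ) * (q : ℤ) ^ (ε k).val := by
  rcases hρ with rfl | rfl
  · refine ⟨![0, 2, 1], rfl, by decide, fun k => ?_⟩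
    rw [show permM ![1, 2, 0] * flip1 = !![0, 0, 1; -1, 0, 0; 0, 1, 0] by decide +kernel]
    fin_cases k <;> simp [mulVec, dotProduct, Fin.sum_univ_three]
    · exact ⟨-1, by ring⟩
    · exact ⟨0, by ring⟩
  · refine ⟨id, rfl, Function.injective_id, fun k => ?_⟩
    rw [show permM ![2, 0, 1] * flip1 = !![0, 1, 0; 0, 0, 1; -1, 0, 0] by decide +kernel]
    fin_cases k <;> simp [mulVec, dotProduct, Fin.sum_univ_three]
    · exact ⟨0, by ring⟩
    · exact ⟨-1, by ring⟩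

theorem wrow_negF (s : Fin chevE7.nroots) :
    E7Data.tab.wrow (negF s).val = -E7Data.tab.wrow s.val := by
  funext a
  exact ((good_E7.full.cert.root_spec s.isLt).2.2.2.1 a a.isLt).1

variable {F K : Type*} [Field F] [Fintype F] [Field K] [Fintype K]

/-- A generator of the twisted torus is regular. -/
theorem regular_of_witness {g : Kˣ} {N : ℕ} (hN : orderOf g = N) {r q : ℕ} [Fact r.Prime]
    (hr : 13 ≤ r) (hq : 2 ≤ q) {m m2 : ℤ} (hm : (N : ℤ) = r * m)
    (hm2 : (N : ℤ) = ((q ^ 3 + 1 : ℕ) : ℤ) * m2) (hN0 : N ≠ 0) {u : Fin chevF4.rank → ℤ}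
    (hno4 : ∀ s : Fin chevF4.nroots,
      (fun k => ((F4Data.tab.wrow s.val k : ℤ) : ZMod r)) ⬝ᵥ (Int.castRingHom (ZMod r) ∘ u) ≠ 0)
    {ε : Fin 3 → Fin 3} (hε : Function.Injective ε)
    {T₀ : Subgroup (Fin chevE7.rank → Kˣ)}
    (h1 : expo g (m • (iota7 *ᵥ u)) ∈ T₀)
    (h2 : expo g (m2 • (corM *ᵥ fun i => (q : ℤ) ^ (ε i).val)) ∈ T₀)
    {c0 : Fin chevE7.rank → Kˣ} (hc0 : ∀ c ∈ T₀, c ∈ Subgroup.zpowers c0) :
    (∀ s : Fin chevE7.nroots, E7Data.tab.chi (F := K) s.val c0 ≠ 1) ∧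
      ∀ w, E7Data.tab.hT K (mulAct (E7Data.tab.vM w) c0) = E7Data.tab.hT K c0 →
        good_E7.full.pw w = 1 := by
  classical
  have hr' : r.Prime := Fact.out
  set cr := Int.castRingHom (ZMod r)
  set Q := q ^ 3 + 1 with hQ
  set b : Fin 3 → ℤ := fun i => (q : ℤ) ^ (ε i).val with hb
  have hm0 : m ≠ 0 := fun e => hN0 (by exact_mod_cast (show (N : ℤ) = 0 by rw [hm, e, mul_zero]))
  have hm20 : m2 ≠ 0 := fun e => hN0 (by exact_mod_cast (show (N : ℤ) = 0 by rw [hm2, e, mul_zero]))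
  have hgi : ∀ a a' : ℤ, g ^ a = g ^ a' → (N : ℤ) ∣ a - a' := fun a a' h => by
    rw [← hN, orderOf_dvd_iff_zpow_eq_one, _root_.zpow_sub, h, mul_inv_cancel]
  -- the values of the roots
  have hz4 : ∀ s' : Fin chevF4.nroots, ¬ (r : ℤ) ∣ F4Data.tab.wrow s'.val ⬝ᵥ u := fun s' h => by
    refine hno4 s' ?_
    rw [← (ZMod.intCast_zmod_eq_zero_iff_dvd _ _).mpr h]
    exact (RingHom.map_dotProduct cr _ _).symm
  have hval1 : ∀ s : Fin chevE7.nroots, (r : ℤ) ∣ E7Data.tab.wrow s.val ⬝ᵥ (iota7 *ᵥ u) →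
      ∃ i, s = beta i ∨ s = negF (beta i) := fun s h => by
    refine (restrict7 s).resolve_left ?_
    rintro ⟨s', hs'⟩
    rw [dotProduct_mulVec, hs'] at h
    exact hz4 s' h
  have hv1 : ∀ i, E7Data.tab.wrow (beta i).val ⬝ᵥ (iota7 *ᵥ u) = 0 := fun i => by
    rw [dotProduct_mulVec, (beta_iota i).1, zero_dotProduct]
  have hv2 : ∀ i, E7Data.tab.wrow (beta i).val ⬝ᵥ (corM *ᵥ b) = 2 * b i := fun i => by
    rw [dotProduct_mulVec, (beta_cor i).1]
    simp
  have hb0 : ∀ i, ¬ (Q : ℤ) ∣ 2 * b i := fun i h => (pow_indep hq (ε i) (ε i)).2 (by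
    rw [← hQ, ← two_mul, mul_left_comm]
    exact Dvd.dvd.mul_left h 2)
  refine ⟨fun s hs => ?_, fun w hw => ?_⟩
  · have hall : ∀ c ∈ T₀, E7Data.tab.chi (F := K) s.val c = 1 := fun c hc => by
      obtain ⟨k, rfl⟩ := Subgroup.mem_zpowers_iff.mp (hc0 c hc)
      rw [map_zpow, hs, _root_.one_zpow]
    have e1 := hall _ h1
    rw [Tab.Good.chi_expo, ← orderOf_dvd_iff_zpow_eq_one, hN, hm, dotProduct_smul, smul_eq_mul,
      mul_comm (r : ℤ)] at e1
    obtain ⟨i, hi⟩ := hval1 s ((mul_dvd_mul_iff_left hm0).mp e1)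
    have e2 := hall _ h2
    rw [Tab.Good.chi_expo, ← orderOf_dvd_iff_zpow_eq_one, hN, hm2, dotProduct_smul, smul_eq_mul,
      mul_comm (Q : ℤ)] at e2
    have e3 := (mul_dvd_mul_iff_left hm20).mp e2
    refine hb0 i ?_
    rcases hi with rfl | rfl
    · rwa [← hv2 i]
    · rw [wrow_negF, neg_dotProduct, dvd_neg] at e3
      rwa [← hv2 i]
  set W := E7Data.tab.vM w with hW
  set π := good_E7.full.pw w
  have hall : ∀ c ∈ T₀, E7Data.tab.hT K (mulAct W c) = E7Data.tab.hT K c := fun c hc => by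
    obtain ⟨k, rfl⟩ := Subgroup.mem_zpowers_iff.mp (hc0 c hc)
    rw [map_zpow, map_zpow, map_zpow, hw]
  have hchi : ∀ v : Fin chevE7.rank → ℤ, expo g v ∈ T₀ → ∀ t : Fin chevE7.nroots,
      (N : ℤ) ∣ E7Data.tab.wrow (π t).val ⬝ᵥ v - E7Data.tab.wrow t.val ⬝ᵥ v := by
    intro v hv t
    have e := hall _ hv
    rw [Tab.Good.mulAct_expo] at e
    have e' : E7Data.tab.chi (F := K) (π t).val (expo g (W *ᵥ v)) =
        E7Data.tab.chi (F := K) (π t).val (expo g v) := by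
      have e1 := congrArg (fun x : GL chevE7.Idx K => (x : Matrix chevE7.Idx chevE7.Idx K)
        (Sum.inr (π t)) (Sum.inr (π t))) e
      simp only [Tab.coe_hT] at e1
      exact Units.ext (by simpa using e1)
    rw [Tab.Good.chi_expo, Tab.Good.chi_expo, dotProduct_mulVec, hW, good_E7.wrow_pw] at e'
    exact hgi _ _ e'.symm
  have hfix : ∀ i, π (beta i) = beta i := by
    intro i
    have e1 := hchi _ h1 (beta i)
    rw [dotProduct_smul, dotProduct_smul, hv1, smul_zero, sub_zero, smul_eq_mul, hm,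
      mul_comm (r : ℤ)] at e1
    obtain ⟨k, hk⟩ := hval1 _ ((mul_dvd_mul_iff_left hm0).mp e1)
    have e2 := hchi _ h2 (beta i)
    rw [dotProduct_smul, dotProduct_smul, hv2, smul_eq_mul, smul_eq_mul, hm2, mul_comm (Q : ℤ),
      ← mul_sub] at e2
    have e3 := (mul_dvd_mul_iff_left hm20).mp e2
    rcases hk with hk | hk <;> rw [hk] at e3 ⊢
    · rw [hv2, ← mul_sub] at e3
      rw [hε ((pow_indep hq _ _).1 e3)]
    · rw [wrow_negF, neg_dotProduct, hv2, ← neg_add', dvd_neg, ← mul_add] at e3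
      exact absurd e3 (pow_indep hq _ _).2
  -- an average off all the hyperplanes
  set k₀ := Nat.card (good_E7.full.WJ (List.range chevE7.rank)) with hk₀
  have hrk : ¬ r ∣ k₀ := by
    rw [hk₀, weyl_E7]
    intro h
    rcases hr'.dvd_mul.mp (show r ∣ 2 ^ 10 * 3 ^ 4 * 5 * 7 from h) with h | h
    · rcases hr'.dvd_mul.mp h with h | h
      · rcases hr'.dvd_mul.mp h with h | h <;>
          · have := Nat.le_of_dvd (by norm_num) (hr'.dvd_of_dvd_pow h); omega
      · have := Nat.le_of_dvd (by norm_num) h; omega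
    · have := Nat.le_of_dvd (by norm_num) h; omega
  set S' := ∑ i ∈ Finset.range k₀, W ^ i with hS'
  have hXS : W * S' = S' := by
    have := mul_geom_sum W k₀
    rw [hW, good_E7.vM_pow_card_smith E7Data.smith_ok smith_pos7 w, sub_self, sub_mul, one_mul,
      sub_eq_zero] at this
    exact this
  set z : Fin chevE7.rank → ℤ := iota7 *ᵥ u + (r : ℤ) • (corM *ᵥ fun _ => (1 : ℤ)) with hz
  have hbz : ∀ i, E7Data.tab.wrow (beta i).val ⬝ᵥ (S' *ᵥ z) = k₀ * (2 * r) := by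
    intro i
    have hp : ∀ j : ℕ, E7Data.tab.wrow (beta i).val ᵥ* W ^ j = E7Data.tab.wrow (beta i).val := by
      intro j
      induction j with
      | zero => simp
      | succ j ih =>
        rw [pow_succ, ← vecMul_vecMul, ih]
        conv_lhs => rw [← hfix i]
        exact good_E7.wrow_pw w (beta i)
    rw [dotProduct_mulVec, hS', Matrix.vecMul_sum]
    simp only [hp, Finset.sum_const, Finset.card_range, smul_dotProduct]
    rw [hz, dotProduct_add, hv1, dotProduct_smul, dotProduct_mulVec, (beta_cor i).1]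
    simp only [single_dotProduct, smul_eq_mul, nsmul_eq_mul]
    ring
  have hWv : cr ∘ (W *ᵥ (iota7 *ᵥ u)) = cr ∘ (iota7 *ᵥ u) := by
    funext j
    have e := hall _ h1
    rw [Tab.Good.mulAct_expo] at e
    have hd : E7Data.tab.hT K (expo g (W *ᵥ (m • (iota7 *ᵥ u))) *
        (expo g (m • (iota7 *ᵥ u)))⁻¹) = 1 := by
      rw [map_mul, map_inv, e, mul_inv_cancel]
    have h4 := congrFun (good_E7.ker_pow chkKer2E7 hd) j
    rw [Pi.pow_apply, Pi.mul_apply, Pi.inv_apply, expo, expo, ← _root_.zpow_neg,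
      ← _root_.zpow_add, ← _root_.zpow_natCast, ← _root_.zpow_mul, Pi.one_apply] at h4
    have h5 := orderOf_dvd_iff_zpow_eq_one.mpr h4
    rw [hN, hm, mulVec_smul, Pi.smul_apply, Pi.smul_apply, smul_eq_mul, smul_eq_mul,
      show (m * (W *ᵥ (iota7 *ᵥ u)) j + -(m * (iota7 *ᵥ u) j)) * ((2 : ℕ) : ℤ) =
        m * (((W *ᵥ (iota7 *ᵥ u)) j - (iota7 *ᵥ u) j) * 2) by push_cast; ring,
      mul_comm (r : ℤ)] at h5
    rcases (Nat.prime_iff_prime_int.mp hr').dvd_mul.mp ((mul_dvd_mul_iff_left hm0).mp h5) with h | h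
    · exact (ZMod.intCast_eq_intCast_iff_dvd_sub _ _ _).mpr (dvd_sub_comm.mp h)
    · have := Nat.le_of_dvd (by norm_num) (Int.natCast_dvd_natCast.mp
        (show (r : ℤ) ∣ ((2 : ℕ) : ℤ) from h))
      omega
  have hcast : cr ∘ (S' *ᵥ z) = (k₀ : ZMod r) • (cr ∘ (iota7 *ᵥ u)) := by
    have hzc : cr ∘ z = cr ∘ (iota7 *ᵥ u) := funext fun j => by simp [hz, cr]
    have hp : ∀ n : ℕ, (W.map cr) ^ n *ᵥ (cr ∘ (iota7 *ᵥ u)) = cr ∘ (iota7 *ᵥ u) := fun n => by
      induction n with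
      | zero => simp
      | succ n ih =>
        rw [pow_succ, ← mulVec_mulVec,
          show W.map cr *ᵥ (cr ∘ (iota7 *ᵥ u)) = cr ∘ (iota7 *ᵥ u) from
            (funext fun j => (RingHom.map_mulVec cr W (iota7 *ᵥ u) j).symm).trans hWv, ih]
    funext j
    rw [Function.comp_apply, RingHom.map_mulVec, hzc]
    have hSm : S'.map cr = ∑ n ∈ Finset.range k₀, (W.map cr) ^ n := by
      show cr.mapMatrix S' = _
      simp only [hS', map_sum, map_pow]
      rfl
    rw [hSm, Matrix.sum_mulVec]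
    simp [hp]
  refine good_E7.pw_eq_one_of_fixed w (S' *ᵥ z) (fun s h0 => ?_) (by rw [← hW, mulVec_mulVec, hXS])
  have hk0 : (k₀ : ℤ) * (2 * r) ≠ 0 := by
    have h1 : k₀ ≠ 0 := fun h => hrk (h ▸ dvd_zero r)
    have h2 := hr'.ne_zero
    simp [h1, h2]
  rcases restrict7 s with ⟨s', hs'⟩ | ⟨i, rfl | rfl⟩
  · have h1 := congrArg cr h0
    rw [RingHom.map_dotProduct, hcast, map_zero, dotProduct_smul, smul_eq_mul] at h1
    have h2 := (mul_eq_zero.mp h1).resolve_left fun h =>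
      hrk ((CharP.cast_eq_zero_iff (ZMod r) r _).mp h)
    rw [← RingHom.map_dotProduct, dotProduct_mulVec, hs'] at h2
    exact hz4 s' ((ZMod.intCast_zmod_eq_zero_iff_dvd _ _).mp h2)
  · exact hk0 ((hbz i).symm.trans h0)
  · rw [wrow_negF, neg_dotProduct, neg_eq_zero] at h0
    exact hk0 ((hbz i).symm.trans h0)

theorem torus_of_map (f : F →+* K) {q r : ℕ} [Fact r.Prime] (hqF : Fintype.card F = q)
    (hK : Fintype.card K = q ^ 12) (hζ : orderOf (q : ZMod r) = 12) (hr : 13 ≤ r)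
    (hrG : r ∣ Nat.card (chevF4.group F)) :
    ∃ H : Subgroup ↥(chevE7.group F), IsCyclic ↥H ∧
      Nat.card ↥H = (q ^ 4 - q ^ 2 + 1) * (q ^ 3 + 1) / Nat.gcd 2 (q - 1) ∧
      Subgroup.centralizer (H : Set ↥(chevE7.group F)) = H := by
  classical
  subst hqF
  set q := Fintype.card F with hq
  have hq1 : 1 < q := Fintype.one_lt_card
  -- the Frobenius map
  letI := f.toAlgebra
  let σ : K →+* K := (FiniteField.frobeniusAlgHom F K).toRingHom
  have hσ : ∀ a : K, σ a = a ^ q := fun a => FiniteField.frobeniusAlgHom_apply F K a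
  have hσf : σ.comp f = f := RingHom.ext fun a => by
    rw [RingHom.comp_apply, hσ, ← map_pow, FiniteField.pow_card]
  have hfix : ∀ t, σ t = t → ∃ e, f e = t := by
    intro t ht
    rw [hσ] at ht
    have hne : ((Polynomial.X : K[X]) ^ q - Polynomial.X) ≠ 0 :=
      FiniteField.X_pow_card_sub_X_ne_zero K hq1
    have hsub : Finset.univ.image f ⊆
        ((Polynomial.X : K[X]) ^ q - Polynomial.X).roots.toFinset := by
      intro b hb
      obtain ⟨a, -, rfl⟩ := Finset.mem_image.mp hb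
      rw [Multiset.mem_toFinset, mem_roots hne]
      simp [← map_pow, hq, FiniteField.pow_card]
    have hcard : ((Polynomial.X : K[X]) ^ q - Polynomial.X).roots.toFinset.card ≤
        (Finset.univ.image f).card := by
      rw [Finset.card_image_of_injective _ f.injective, Finset.card_univ]
      refine le_trans (Multiset.toFinset_card_le _) (le_trans (card_roots' _) (le_of_eq ?_))
      exact FiniteField.X_pow_card_sub_X_natDegree_eq K hq1
    have hmem : t ∈ ((Polynomial.X : K[X]) ^ q - Polynomial.X).roots.toFinset := by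
      rw [Multiset.mem_toFinset, mem_roots hne]
      simp [ht]
    rw [← Finset.eq_of_subset_of_card_le hsub hcard] at hmem
    obtain ⟨a, -, e⟩ := Finset.mem_image.mp hmem
    exact ⟨a, e⟩
  obtain ⟨g, hg⟩ := IsCyclic.exists_generator (α := Kˣ)
  obtain ⟨m, u, L4, h7, a7, hm, hcp4, hno4, hev, hh7, hy7⟩ :=
    exists_e7_twist f hσ hσf hg hK hζ hr hrG
  have h12 : (cyclotomic 12 ℤ).eval 1 = 1 := by rw [E6Fold.cyclotomic_twelve]; simp
  -- the reflection
  obtain ⟨hh', hh'G, a', hy'⟩ : ∃ h' ∈ chevE7.group K, ∃ a', h'⁻¹ * glMap chevE7 σ h' =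
      E7Data.tab.hT K a' * good_E7.full.nw K (sw7 ++ expand7 L4) := by
    refine good_E7.twist_step hq1 σ hσ hK hh7 hy7 (β0 := beta 0) (pw_expand7_beta L4 0)
      (pw_expand7_beta L4 (piOf L4 0)) ((pw_expand7_beta L4 _).trans ?_) ?_ (P := P7) (j := j7)
      (Fin.ext ((good_E7.pw_apply _ _).trans P7_beta))
    · rcases piOf_cycle hcp4 h12 with ⟨-, h⟩ | ⟨-, h⟩ <;> rw [h] <;> rfl
    · intro s hs t ht
      have hne : (0 : Fin 3) ≠ piOf L4 0 ∧ (0 : Fin 3) ≠ piOf L4 (piOf L4 0) := by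
        rcases piOf_cycle hcp4 h12 with ⟨-, e⟩ | ⟨-, e⟩ <;> rw [e] <;> decide
      simp only [List.mem_cons, List.not_mem_nil, or_false] at ht
      rcases ht with h | h | h | h
      · exact beta_orth 0 _ hne.1 s hs t (by simp [h])
      · exact beta_orth 0 _ hne.1 s hs t (by simp [h])
      · exact beta_orth 0 _ hne.2 s hs t (by simp [h])
      · exact beta_orth 0 _ hne.2 s hs t (by simp [h])
  set L := sw7 ++ expand7 L4
  set U := E7Data.tab.vM (expand7 L4.reverse) * E7Data.tab.vM sw7 with hU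
  have hUL : U * E7Data.tab.vM L = 1 := by
    rw [hU, Tab.vM_append, Matrix.mul_assoc, ← Matrix.mul_assoc (E7Data.tab.vM sw7), sw7_sq,
      Matrix.one_mul, vM_expand7_reverse]
  have hcp : U.charpoly = cyclotomic 12 ℤ * (Polynomial.X ^ 3 + 1) := charpoly_expand7 hcp4 h12
  have hUd : U ^ 12 = 1 := by
    have h2 : aeval U ((Polynomial.X : ℤ[X]) ^ 12 - 1) = 0 := by
      rw [show (Polynomial.X : ℤ[X]) ^ 12 - 1 = cyclotomic 12 ℤ * (Polynomial.X ^ 3 + 1) *
          ((Polynomial.X ^ 3 - 1) * (Polynomial.X ^ 2 + 1)) by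
        rw [E6Fold.cyclotomic_twelve]; ring, map_mul, ← hcp, Matrix.aeval_self_charpoly, zero_mul]
    rw [map_sub, map_pow, aeval_X, map_one, sub_eq_zero] at h2
    exact h2
  -- the lift
  obtain ⟨C⟩ := good_E7.exists_coverTorus (K := K) good_E8 CfsgLib.ChevMult.embE7
    ⟨_, wits_E7⟩ CfsgLib.ChevMult.kerE7_ok
  set S := good_E7.coverData K with hS
  obtain ⟨e₁, he₁⟩ : ∃ e₁, S.θ e₁ = hh' := by rw [← S.θ_range] at hh'G; exact hh'G
  obtain ⟨a'', ha''⟩ := C.mem_range ⟨_, wits_E7⟩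
    (e := e₁⁻¹ * good_E7.coverMap σ e₁ * (S.nbw L)⁻¹) (c := a') (by
      rw [map_mul, map_mul, map_inv, map_inv, hS, good_E7.θ_coverMap, ← hS, he₁, hS,
        Good.StData.θ_nbw, hy', mul_inv_cancel_right])
  have hey : e₁⁻¹ * good_E7.coverMap σ e₁ = C.H a'' * S.nbw L := by rw [ha'']; group
  have hfixed := good_E7.twist_fixed C ⟨_, wits_E7⟩ σ hσ hey
  obtain ⟨hcardT, htorsT⟩ := good_E7.twFix_torsion hg (show 0 < 12 by norm_num) hK hUL hUd
  -- the numbers
  set A := q ^ 4 - q ^ 2 + 1 with hAdef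
  set Q := q ^ 3 + 1 with hQdef
  have h42 : q ^ 2 ≤ q ^ 4 := Nat.pow_le_pow_right (by omega) (by norm_num)
  have hn : (U.charpoly.eval (q : ℤ)).natAbs = A * Q := by
    rw [hcp, eval_mul, E6Fold.cyclotomic_twelve]
    simp only [eval_add, eval_sub, eval_pow, eval_X, eval_one]
    rw [show (q : ℤ) ^ 4 - (q : ℤ) ^ 2 + 1 = (A : ℤ) by simp [hAdef, Nat.cast_sub h42],
      show (q : ℤ) ^ 3 + 1 = (Q : ℤ) by simp [hQdef], ← Nat.cast_mul, Int.natAbs_natCast]
  -- the witnesses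
  set N := orderOf g with hN
  have hN0 : N ≠ 0 := (orderOf_pos g).ne'
  obtain ⟨m2, hm2⟩ : (Q : ℤ) ∣ (N : ℤ) := by
    rw [hN, orderOf_eq_card_of_forall_mem_zpowers hg, Nat.card_eq_fintype_card,
      Fintype.card_units, hK, Nat.cast_sub (Nat.one_le_pow _ _ (by omega))]
    exact ⟨((q : ℤ) ^ 3 - 1) * ((q : ℤ) ^ 6 + 1), by simp [hQdef]; ring⟩
  have hmem : ∀ z : Fin chevE7.rank → ℤ, (∀ k, (N : ℤ) ∣ (U *ᵥ z) k - (q : ℤ) * z k) →
      expo g z ∈ Tab.Good.twFix E7Data.tab K q L := by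
    intro z hz
    show mulAct ((q : ℤ) • E7Data.tab.vM L) (expo g z) = expo g z
    rw [Tab.Good.mulAct_expo, expo_eq_iff]
    intro k
    have key : ((q : ℤ) • E7Data.tab.vM L) *ᵥ z - z =
        E7Data.tab.vM L *ᵥ ((q : ℤ) • z - U *ᵥ z) := by
      rw [mulVec_sub, mulVec_smul, mulVec_mulVec, mul_eq_one_comm.mp hUL, one_mulVec, smul_mulVec]
    rw [← Pi.sub_apply, key]
    show _ ∣ ∑ j, E7Data.tab.vM L k j * ((q : ℤ) • z - U *ᵥ z) j
    refine Finset.dvd_sum fun j _ => Dvd.dvd.mul_left ?_ _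
    rw [Pi.sub_apply, Pi.smul_apply, smul_eq_mul]
    exact dvd_sub_comm.mp (hz j)
  have hUi : ∀ v, U *ᵥ (iota7 *ᵥ v) = iota7 *ᵥ (F4Data.tab.vM L4.reverse *ᵥ v) := fun v => by
    rw [mulVec_mulVec, mulVec_mulVec, hU, Matrix.mul_assoc, sw7_iota, (vM_expand7 _).1]
  have hUc : ∀ v, U *ᵥ (corM *ᵥ v) = corM *ᵥ ((permM (piOf L4.reverse) * flip1) *ᵥ v) := fun v => by
    rw [mulVec_mulVec, mulVec_mulVec, hU, Matrix.mul_assoc, sw7_cor, ← Matrix.mul_assoc,
      (vM_expand7 _).2, Matrix.mul_assoc]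
  obtain ⟨ε, hε0, hεi, hεd⟩ := flip_witness (q := q)
    (ρ := piOf L4.reverse) ((piOf_cycle hcp4 h12).imp And.left And.left)
  set b : Fin 3 → ℤ := fun i => (q : ℤ) ^ (ε i).val with hb
  have hc1 : expo g (m • (iota7 *ᵥ u)) ∈ Tab.Good.twFix E7Data.tab K q L := by
    refine hmem _ fun k => ?_
    rw [mulVec_smul, hUi, Pi.smul_apply, Pi.smul_apply, smul_eq_mul, smul_eq_mul,
      mul_left_comm (q : ℤ) m, ← mul_sub, hm, mul_comm (r : ℤ)]
    refine mul_dvd_mul_left m ?_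
    rw [show (iota7 *ᵥ (F4Data.tab.vM L4.reverse *ᵥ u)) k - (q : ℤ) * (iota7 *ᵥ u) k =
      (iota7 *ᵥ (F4Data.tab.vM L4.reverse *ᵥ u - (q : ℤ) • u)) k by
      rw [mulVec_sub, mulVec_smul, Pi.sub_apply, Pi.smul_apply, smul_eq_mul]]
    show _ ∣ ∑ j, iota7 k j * (F4Data.tab.vM L4.reverse *ᵥ u - (q : ℤ) • u) j
    refine Finset.dvd_sum fun j _ => Dvd.dvd.mul_left ?_ _
    rw [← ZMod.intCast_zmod_eq_zero_iff_dvd, Pi.sub_apply, Pi.smul_apply, smul_eq_mul,
      Int.cast_sub, Int.cast_mul, Int.cast_natCast, sub_eq_zero]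
    exact (RingHom.map_mulVec (Int.castRingHom (ZMod r)) _ _ j).trans (congrFun hev j)
  have hc2 : expo g (m2 • (corM *ᵥ b)) ∈ Tab.Good.twFix E7Data.tab K q L := by
    refine hmem _ fun k => ?_
    rw [mulVec_smul, hUc, Pi.smul_apply, Pi.smul_apply, smul_eq_mul, smul_eq_mul,
      mul_left_comm (q : ℤ) m2, ← mul_sub, hm2, mul_comm (Q : ℤ)]
    refine mul_dvd_mul_left m2 ?_
    rw [show (corM *ᵥ ((permM (piOf L4.reverse) * flip1) *ᵥ b)) k - (q : ℤ) * (corM *ᵥ b) k =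
      (corM *ᵥ ((permM (piOf L4.reverse) * flip1) *ᵥ b - (q : ℤ) • b)) k by
      rw [mulVec_sub, mulVec_smul, Pi.sub_apply, Pi.smul_apply, smul_eq_mul]]
    show _ ∣ ∑ j, corM k j * ((permM (piOf L4.reverse) * flip1) *ᵥ b - (q : ℤ) • b) j
    refine Finset.dvd_sum fun j _ => Dvd.dvd.mul_left ?_ _
    exact hεd j
  set c2 : Tab.Good.twFix E7Data.tab K q L := ⟨_, hc2⟩
  have hord : orderOf c2 = Q := by
    have hpow : ∀ n : ℕ, ((c2 ^ n : Tab.Good.twFix E7Data.tab K q L) : Fin chevE7.rank → Kˣ) =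
        fun k => g ^ ((n : ℤ) * (m2 * (corM *ᵥ b) k)) := fun n => funext fun k => by
      show expo g (m2 • (corM *ᵥ b)) k ^ n = _
      rw [expo, ← _root_.zpow_natCast, ← _root_.zpow_mul, mul_comm, Pi.smul_apply, smul_eq_mul]
    refine Nat.dvd_antisymm (orderOf_dvd_of_pow_eq_one (Subtype.ext ?_)) ?_
    · rw [hpow]
      funext k
      rw [OneMemClass.coe_one, Pi.one_apply, ← orderOf_dvd_iff_zpow_eq_one, ← hN, hm2, ← mul_assoc]
      exact dvd_mul_right _ _
    · have e := congrArg Subtype.val (pow_orderOf_eq_one c2)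
      rw [hpow, OneMemClass.coe_one] at e
      have e' : ∀ k, (Q : ℤ) ∣ (orderOf c2 : ℤ) * (corM *ᵥ b) k := fun k => by
        have := orderOf_dvd_iff_zpow_eq_one.mpr (congrFun e k)
        rw [← hN, hm2, mul_left_comm (orderOf c2 : ℤ), mul_comm (Q : ℤ)] at this
        exact (mul_dvd_mul_iff_left (fun h => hN0 (by
          exact_mod_cast (show (N : ℤ) = 0 by rw [hm2, h, mul_zero])))).mp this
      have hcor : (corM *ᵥ b) 1 - (corM *ᵥ b) 0 = b 0 := by
        have hrow : ∀ j : Fin 3, corM 1 j - corM 0 j = if j = 0 then 1 else 0 := by decide +kernel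
        simp only [mulVec, dotProduct, ← Finset.sum_sub_distrib, ← sub_mul, hrow]
        simp
      have h01 := dvd_sub (e' 1) (e' 0)
      rw [← mul_sub, hcor, hb] at h01
      simpa [hε0, Int.natCast_dvd_natCast] using h01
  have hA2 : ¬ 2 ∣ A := fun h => by
    have := (CharP.cast_eq_zero_iff (ZMod 2) 2 A).mpr h
    rw [hAdef, Nat.cast_add, Nat.cast_sub h42, Nat.cast_pow, Nat.cast_pow, Nat.cast_one] at this
    generalize (q : ZMod 2) = x at this
    revert x
    decide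
  have hA3 : ¬ 3 ∣ A := fun h => by
    have := (CharP.cast_eq_zero_iff (ZMod 3) 3 A).mpr h
    rw [hAdef, Nat.cast_add, Nat.cast_sub h42, Nat.cast_pow, Nat.cast_pow, Nat.cast_one] at this
    generalize (q : ZMod 3) = x at this
    revert x
    decide
  haveI hcyc : IsCyclic (Tab.Good.twFix E7Data.tab K q L) := by
    refine cyclic_of_prime_torsion fun ℓ hℓ => ?_
    haveI := Fact.mk hℓ
    by_cases h12' : ℓ ∣ 12
    · refine Tab.Good.torsion_le_of_orderOf (c := c2) hℓ ?_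
      rw [hcardT, hn, hord, Nat.mul_div_cancel _ (by rw [hQdef]; positivity)]
      rcases hℓ.dvd_mul.mp (show ℓ ∣ 2 ^ 2 * 3 from h12') with h | h
      · rw [(Nat.prime_dvd_prime_iff_eq hℓ Nat.prime_two).mp (hℓ.dvd_of_dvd_pow h)]
        exact hA2
      · rw [(Nat.prime_dvd_prime_iff_eq hℓ Nat.prime_three).mp h]
        exact hA3
    · exact htorsT ℓ hℓ fun _ => by rw [hcp]; exact separable_12_6 h12'
  -- the regular element
  obtain ⟨c0, hc0⟩ := IsCyclic.exists_generator (α := Tab.Good.twFix E7Data.tab K q L)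
  obtain ⟨hroot, hstab⟩ := regular_of_witness (g := g) rfl hr hq1 hm hm2 hN0 hno4 hεi hc1 hc2
    (c0 := (c0 : Fin chevE7.rank → Kˣ)) fun c hc => by
      obtain ⟨k, hk⟩ := Subgroup.mem_zpowers_iff.mp (hc0 ⟨c, hc⟩)
      exact Subgroup.mem_zpowers_iff.mpr ⟨k, congrArg Subtype.val hk⟩
  obtain ⟨y, hy, hy0⟩ := good_E7.cover_fixed_descends f C ⟨_, wits_E7⟩ σ hσf hfix
    ((hfixed _).mpr c0.2)
  have hx : glMap chevE7 f y = hh' * E7Data.tab.hT K (c0 : Fin chevE7.rank → Kˣ) * hh'⁻¹ := by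
    rw [hy0, ← hS, map_mul, map_mul, map_inv, he₁, hS, C.θ_H]
  obtain ⟨Θ, hΘs, hΘk⟩ := good_E7.regular_centralizer f C ⟨_, wits_E7⟩ σ hσ hσf hfix
    (x := ⟨y, hy⟩) hh'G hx hroot hstab (congrArg (E7Data.tab.hT K) c0.2)
  have hkerc : Nat.card Θ.ker = Nat.gcd 2 (q - 1) := by
    have hpow : ∀ c : Θ.ker, (((c : Tab.Good.twFix E7Data.tab K q L) : Fin chevE7.rank → Kˣ)) ^ 2 = 1 :=
      fun c => good_E7.ker_pow chkKer2E7 ((hΘk _).mp c.2)
    have hfixker : ∀ c : Fin chevE7.rank → Kˣ, E7Data.tab.hT K c = 1 →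
        mulAct ((q : ℤ) • E7Data.tab.vM L) c = c ^ q := by
      intro c hc
      rw [good_E7.full.hT_eq_one_iff] at hc
      have hs : ∀ w : List (Fin chevE7.rank), mulAct (E7Data.tab.vM w) c = c := by
        intro w
        induction w with
        | nil => simp [Tab.vM, mulAct_one]
        | cons i w ih =>
          rw [show E7Data.tab.vM (i :: w) = E7Data.tab.sM i * E7Data.tab.vM w from rfl, mulAct_mul,
            ih, good_E7.mulAct_sM, hc i.val i.isLt]
          simp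
      rw [← good_E7.mulAct_pow, map_pow, hs]
    by_cases h2 : 2 ∣ q - 1
    · rw [Nat.gcd_eq_left h2]
      have hN2 : 2 ∣ Fintype.card K - 1 := by
        rw [hK]
        exact h2.trans (Nat.sub_one_dvd_pow_sub_one q 12)
      rw [← Nat.gcd_eq_right hN2, ← card_ker7 (K := K)]
      refine Nat.card_congr
        { toFun := fun c => ⟨((c : Tab.Good.twFix E7Data.tab K q L) : Fin chevE7.rank → Kˣ),
            (hΘk _).mp c.2⟩
          invFun := fun c => ⟨⟨(c : Fin chevE7.rank → Kˣ), ?_⟩, (hΘk _).mpr c.2⟩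
          left_inv := fun c => rfl
          right_inv := fun c => rfl }
      show mulAct _ (c : Fin chevE7.rank → Kˣ) = c
      rw [hfixker _ c.2]
      obtain ⟨k, hk⟩ := h2
      rw [show q = 2 * k + 1 by omega, pow_succ, pow_mul, good_E7.ker_pow chkKer2E7 c.2, one_pow,
        one_mul]
    · rw [(Nat.prime_two.coprime_iff_not_dvd.mpr h2).gcd_eq_one]
      refine Nat.card_eq_one_iff_unique.mpr ⟨⟨fun a b => ?_⟩, inferInstance⟩
      have key : ∀ c : Θ.ker, ((c : Tab.Good.twFix E7Data.tab K q L) : Fin chevE7.rank → Kˣ) = 1 := by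
        intro c
        set d : Fin chevE7.rank → Kˣ := ((c : Tab.Good.twFix E7Data.tab K q L) : Fin chevE7.rank → Kˣ)
        have h1 : d ^ q = d :=
          (hfixker d ((hΘk _).mp c.2)).symm.trans (c : Tab.Good.twFix E7Data.tab K q L).2
        have h2' : d ^ (q - 1) = 1 := by
          have : d ^ (q - 1) * d = 1 * d := by
            rw [← pow_succ, Nat.sub_add_cancel hq1.le, h1, one_mul]
          exact mul_right_cancel this
        have := pow_gcd_eq_one.mpr ⟨hpow c, h2'⟩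
        rwa [(Nat.prime_two.coprime_iff_not_dvd.mpr h2).gcd_eq_one, pow_one] at this
      exact (Subtype.val_injective.comp Subtype.val_injective) ((key a).trans (key b).symm)
  have hrange : Θ.range = ⊤ := MonoidHom.range_eq_top.mpr hΘs
  refine ⟨Subgroup.centralizer {⟨y, hy⟩}, isCyclic_of_surjective Θ hΘs, ?_, ?_⟩
  · have h1 := Θ.ker.card_mul_index
    rw [Subgroup.index_ker, hrange, Nat.card_congr Subgroup.topEquiv.toEquiv, hcardT, hn, hkerc] at h1
    rw [← h1, Nat.mul_div_cancel_left _ (Nat.gcd_pos_of_pos_left _ (by norm_num))]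
  · refine le_antisymm (Subgroup.centralizer_le (fun z hz => ?_)) fun b hb => ?_
    · rw [Set.mem_singleton_iff.mp hz]
      exact Subgroup.mem_centralizer_singleton_iff.mpr rfl
    · refine Subgroup.mem_centralizer_iff.mpr fun a ha => ?_
      obtain ⟨a', ha'⟩ := hΘs ⟨a, ha⟩
      obtain ⟨b', hb'⟩ := hΘs ⟨b, hb⟩
      have : Θ (a' * b') = Θ (b' * a') := by rw [mul_comm]
      rw [map_mul, map_mul, ha', hb'] at this
      exact congrArg Subtype.val this

/-- The elliptic torus of type `Φ₁₂Φ₆Φ₂`. -/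
theorem e7 (q : ℕ) (hF : Fintype.card F = q) :
    ∃ H : Subgroup ↥(chevE7.group F), IsCyclic ↥H ∧
      Nat.card ↥H = (q ^ 4 - q ^ 2 + 1) * (q ^ 3 + 1) / Nat.gcd 2 (q - 1) ∧
      Subgroup.centralizer (H : Set ↥(chevE7.group F)) = H := by
  have h2 : 2 ≤ q := hF ▸ Fintype.one_lt_card
  set n := q ^ 4 - q ^ 2 + 1 with hn
  have h42 : q ^ 2 ≤ q ^ 4 := Nat.pow_le_pow_right (by omega) (by norm_num)
  have hnn : 12 < n := by
    have h4 : 4 ≤ q ^ 2 := Nat.pow_le_pow_left h2 2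
    have : q ^ 4 = q ^ 2 * q ^ 2 := by ring
    have : 4 * q ^ 2 ≤ q ^ 2 * q ^ 2 := Nat.mul_le_mul_right _ h4
    omega
  obtain ⟨r, hr, hrn, hrd⟩ := EllipticData.exists_primitive_prime (n := n) (d := 12) (by norm_num) hnn
    fun ℓ hℓ hd => by
      have hcast : ∀ M : ℕ, ((n : ℕ) : ZMod M) = (q : ZMod M) ^ 4 - (q : ZMod M) ^ 2 + 1 := fun M => by
        rw [hn]; push_cast [h42]; rfl
      refine EllipticData.sq_of_mod ?_
      rw [hcast]
      rcases hℓ.dvd_mul.mp (show ℓ ∣ 2 ^ 2 * 3 from hd) with h | h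
      · rw [(Nat.prime_dvd_prime_iff_eq hℓ Nat.prime_two).mp (hℓ.dvd_of_dvd_pow h)]
        generalize (q : ZMod (2 ^ 2)) = x
        revert x
        decide
      · rw [(Nat.prime_dvd_prime_iff_eq hℓ Nat.prime_three).mp h]
        generalize (q : ZMod (3 ^ 2)) = x
        revert x
        decide
  haveI := Fact.mk hr
  haveI : NeZero ((12 : ℕ) : ZMod r) :=
    ⟨fun h => hrd ((CharP.cast_eq_zero_iff (ZMod r) r 12).mp h)⟩
  have hev : (cyclotomic 12 ℤ).eval (q : ℤ) = n := by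
    rw [E6Fold.cyclotomic_twelve, hn]
    push_cast [h42]
    simp
  have hroot : (cyclotomic 12 (ZMod r)).IsRoot (q : ZMod r) := by
    rw [IsRoot.def, ← map_cyclotomic 12 (Int.castRingHom (ZMod r)), eval_map,
      show (q : ZMod r) = Int.castRingHom (ZMod r) (q : ℤ) by simp, eval₂_at_apply, hev]
    simpa using (CharP.cast_eq_zero_iff (ZMod r) r n).mpr hrn
  have hord : orderOf (q : ZMod r) = 12 := (isRoot_cyclotomic_iff.mp hroot).eq_orderOf.symm
  have hne : (q : ZMod r) ≠ 0 := fun h => by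
    rw [h, orderOf_eq_zero (fun ho => by
      obtain ⟨k, hk, e⟩ := isOfFinOrder_iff_pow_eq_one.mp ho
      rw [zero_pow hk.ne'] at e
      exact zero_ne_one e)] at hord
    omega
  have hdvd : 12 ∣ r - 1 := hord ▸ ZMod.orderOf_dvd_card_sub_one hne
  have hr13 : 13 ≤ r := by
    have h1 := hr.two_le
    have := Nat.le_of_dvd (by omega) hdvd
    omega
  obtain ⟨p, hp⟩ := CharP.exists F
  haveI := Fact.mk (CharP.char_is_prime F p)
  letI := Fintype.ofFinite (FiniteField.Extension F p 12)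
  refine torus_of_map (r := r) (algebraMap F (FiniteField.Extension F p 12)) hF ?_ hord hr13 ?_
  · rw [← Nat.card_eq_fintype_card, FiniteField.natCard_extension, Nat.card_eq_fintype_card, hF]
  · rw [Cfsg.Agent.S1062.result hF]
    refine dvd_mul_of_dvd_right (dvd_trans ?_ (dvd_refl _)) _
    rw [← (CharP.cast_eq_zero_iff (ZMod r) r _), Nat.cast_sub (Nat.one_le_pow _ _ (by omega)),
      Nat.cast_pow, Nat.cast_one, ← hord, pow_orderOf_eq_one, sub_self]

end CfsgLib.Chev.E7Fold
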