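import Cfsg.Agent.Chev.WeylWords
import Cfsg.Agent.Chev.OrdF4

/-!
The eighth or sixth power of each element of the Weyl group of type F₄ fixes all fundamental roots,
or the sixth negates them.
-/

set_option autoImplicit false

namespace CfsgLib.Chev.F4Check

open Cfsg.Lie

/-- Packed reflection tables. -/
def tbl : List ℕ :=
  [7261724565101152271001196648824430191705409898545041084742521782222439549395075633586971079114467536390968217567488,
   7261719905179377314326951809577084366435515108925945206036271551105028264520922437528663364052125838431098365018368,
   7261125723798567773061544950201179012210677350992756811983071709623601191490907863340615466535151168674041335710208,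
   7108411742389255762021063953019659246634323563397623500971045033854480450961950488139841120255260502304031118589953]

theorem tbl_ok : F4Data.tab.chkTbl tbl = true := by decide +kernel

/-- The transversals. -/
def chain : List (ℕ × List (List ℕ)) := F4Data.levels.map fun l => (l.1, orbWords l.2.1)

theorem chain_ok : F4Data.tab.chkWordsChain (List.range 4) chain = true := by decide +kernel

/-- The power fixes the fundamental roots. -/
def fixesSimple (w : List ℕ) (m : ℕ) : Bool :=
  (List.range 4).all fun j => Nat.beq (iterTbl tbl w m (chevF4.simple j)) (chevF4.simple j)

/-- The power negates the fundamental roots. -/
def negatesSimple (w : List ℕ) (m : ℕ) : Bool :=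
  (List.range 4).all fun j =>
    Nat.beq (iterTbl tbl w m (chevF4.simple j)) (Tab.negR chevF4 (chevF4.simple j))

/-- The property checked on all products. -/
def chkPowers (w : List ℕ) : Bool :=
  (w.all fun i => Nat.blt i 4) && (fixesSimple w 8 || fixesSimple w 6 || negatesSimple w 6)

set_option linter.style.maxHeartbeats false in
theorem powers_ok : (wordsOf chain).all chkPowers = true := by decide +kernel

end CfsgLib.Chev.F4Check
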