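import Cfsg.Agent.Chev.CoxeterW

/-!
Groups with Steinberg's relations (R1), (R2): they are central extensions of the Chevalley group.
-/

set_option autoImplicit false

namespace CfsgLib.Chev

open Cfsg.Lie Matrix
open scoped MatrixGroups

namespace Tab

variable {D : ChevalleyDatum}

/-- A witness that the root element of `s` lies in a product whose conjugate under the `j`-th
reflection is made of roots positive for the word `L`. -/
def chkRootWit (T : Tab D) (j s : ℕ) (w : ℕ × ℕ × List ℕ) : Bool :=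
  Nat.blt w.1 D.nroots && Nat.blt w.2.1 D.nroots && !(Nat.beq w.2.1 w.1) &&
    !(Nat.beq w.2.1 (negR D w.1)) &&
    !(Nat.beq w.1 (D.simple j)) && !(Nat.beq w.1 (negR D (D.simple j))) &&
    !(Nat.beq w.2.1 (D.simple j)) && !(Nat.beq w.2.1 (negR D (D.simple j))) &&
    w.2.2.all (fun i => Nat.blt i D.rank) &&
    Nat.ble D.nroots (Nat.mul 2 (T.wordT w.2.2 (T.reflT j w.1))) &&
    Nat.ble D.nroots (Nat.mul 2 (T.wordT w.2.2 (T.reflT j w.2.1))) &&
    decide (((T.commT w.1 w.2.1).filter fun c => Nat.beq c.1 (D.simple j) ||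
      Nat.beq c.1 (negR D (D.simple j))).map (fun c => (c.1, c.2.1.natAbs,
        Nat.beq c.2.2.1 1 || Nat.beq c.2.2.2 1)) = [(s, 1, true)])

/-- Witnesses for both signs of every fundamental root. -/
def chkWits (T : Tab D) (ws : List ((ℕ × ℕ × List ℕ) × (ℕ × ℕ × List ℕ))) : Bool :=
  allBelow (fun j => T.chkRootWit j (D.simple j) (ws.getD j default).1 &&
    T.chkRootWit j (negR D (D.simple j)) (ws.getD j default).2) D.rank

/-- The roots which the permutation makes positive. -/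
def posSet {D : ChevalleyDatum} (σ : Equiv.Perm (Fin D.nroots)) : Set ℕ :=
  {s | ∃ h : s < D.nroots, IsPos D (σ ⟨s, h⟩).val}

/-- The place of a positive root, by height and then index. -/
def keyPos (T : Tab D) (s : ℕ) : ℕ := (T.ht s).toNat * D.nroots + s

/-- The part of `posSet σ` from the place `k` on. -/
def aboveSet (T : Tab D) (σ : Equiv.Perm (Fin D.nroots)) (k : ℕ) : Set ℕ :=
  {s | ∃ h : s < D.nroots, IsPos D (σ ⟨s, h⟩).val ∧ k ≤ T.keyPos (σ ⟨s, h⟩).val}

/-- A group with elements satisfying (R1) and (R2), mapping to the Chevalley group. -/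
structure Good.StData {T : Tab D} (G : T.Good) (F : Type*) [Field F] (E : Type*) [Group E] where
  /-- the generators -/
  xb : ℕ → F → E
  /-- the map to matrices -/
  θ : E →* GL D.Idx F
  θ_x : ∀ r t, θ (xb r t) = G.full.x r t
  add : ∀ r < D.nroots, ∀ t u, xb r t * xb r u = xb r (t + u)
  comm : ∀ r < D.nroots, ∀ s < D.nroots, s ≠ r → s ≠ negR D r → ∀ t u,
    (xb s u)⁻¹ * (xb r t)⁻¹ * xb s u * xb r t =
      ((rhsWord (T.commT r s) t u).map fun p => xb p.1 p.2).prod
  gen : Subgroup.closure {g | ∃ r < D.nroots, ∃ t, g = xb r t} = ⊤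

namespace Good

variable {T : Tab D} (G : T.Good) {F : Type*} [Field F]
include G

theorem x_inj {r : ℕ} (hr : r < D.nroots) {t u : F} (h : G.full.x r t = G.full.x r u) : t = u := by
  have h2 : G.full.x r (t + -u) = 1 := by
    rw [← G.full.x_add, h, G.full.x_add, add_neg_cancel, G.full.x_zero]
  linear_combination G.x_eq_one hr h2

theorem eq_zero_of_x_mem_closed {r : ℕ} (hr : IsPos D r) {S : Set ℕ} (hS : T.Closed S)
    (hrS : r ∉ S) {c : F} (h : G.full.x r c ∈ G.US F S) : c = 0 := by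
  classical
  obtain ⟨f, hf⟩ : G.full.x r c ∈ Set.range fun f => G.segProd S f 0 D.nroots := by
    rw [← G.US_eq_range hS]; exact h
  have key : ∀ m k, G.segProd {s | IsPos D s} (fun s => if s ∈ S then f s else 0) k m =
      G.segProd S f k m := by
    intro m
    induction m with
    | zero => intro k; rfl
    | succ m ih =>
      intro k
      simp only [segProd, ih (k + 1)]
      by_cases hk : k ∈ S
      · rw [if_pos hk, if_pos (show k ∈ {s | IsPos D s} from hS.1 k hk), if_pos hk]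
      · rw [if_neg hk, if_neg hk]
        split_ifs <;> simp [G.full.x_zero]
  have key2 : ∀ m k, G.segProd {s | IsPos D s} (fun s => if s = r then c else 0) k m =
      if k ≤ r ∧ r < k + m then G.full.x r c else 1 := by
    intro m
    induction m with
    | zero => intro k; rw [if_neg (by omega)]; rfl
    | succ m ih =>
      intro k
      simp only [segProd, ih (k + 1)]
      rcases eq_or_ne k r with rfl | hk
      · rw [if_pos (show k ∈ {s | IsPos D s} from hr), if_pos rfl, if_neg (by omega),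
          if_pos ⟨le_rfl, by omega⟩, mul_one]
      · have : (if k ∈ {s | IsPos D s} then G.full.x k (if k = r then c else 0) else 1) = 1 := by
          split_ifs <;> simp [G.full.x_zero]
        rw [this, one_mul]
        exact if_congr (by omega) rfl rfl
  have := G.segProd_injective G.closed_pos D.nroots 0
    (fun s => if s = r then c else 0) (fun s => if s ∈ S then f s else 0) (zero_add _) (by
      rw [key, key2, if_pos ⟨Nat.zero_le _, by simpa using hr.1⟩]; exact hf.symm) r hr (Nat.zero_le _)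
  simpa [hrS] using this

theorem keyPos_lt {r s : ℕ} (hr : IsPos D r) (h : T.ht r < T.ht s) :
    T.keyPos r < T.keyPos s := by
  have h1 := (G.pos_iff_ht hr.1).mp hr
  have h2 : (T.ht r).toNat + 1 ≤ (T.ht s).toNat := by omega
  have := Nat.mul_le_mul_right D.nroots h2
  have := hr.1
  simp only [keyPos]
  rw [add_mul, one_mul] at *
  omega

theorem keyPos_inj {r s : ℕ} (hr : r < D.nroots) (hs : s < D.nroots)
    (h : T.keyPos r = T.keyPos s) : r = s := by
  simp only [keyPos] at h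
  have := congrArg (· % D.nroots) h
  simpa [Nat.mod_eq_of_lt hr, Nat.mod_eq_of_lt hs, Nat.add_mul_mod_self_right,
    Nat.mul_add_mod_self_right] using this

theorem comm_pw (L : List (Fin D.rank)) {r s : ℕ} (hr : r ∈ posSet (G.full.pw L))
    (hs : s ∈ posSet (G.full.pw L)) {c : ℕ × ℤ × ℕ × ℕ} (hc : c ∈ T.commT r s) :
    ∃ h : c.1 < D.nroots, IsPos D (G.full.pw L ⟨c.1, h⟩).val ∧
      T.ht (G.full.pw L ⟨r, hr.1⟩) < T.ht (G.full.pw L ⟨c.1, h⟩) ∧
      T.ht (G.full.pw L ⟨s, hs.1⟩) < T.ht (G.full.pw L ⟨c.1, h⟩) := by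
  obtain ⟨hr0, hr1⟩ := hr
  obtain ⟨hs0, hs1⟩ := hs
  have hlt : c.1 < D.nroots := by
    simp only [commT, List.mem_filterMap, List.mem_cons, List.not_mem_nil, or_false] at hc
    obtain ⟨a, ha, hc⟩ := hc
    obtain ⟨k, hk, rfl⟩ := Option.map_eq_some_iff.mp hc
    rcases ha with rfl | rfl | rfl | rfl | rfl | rfl | rfl
    · exact (G.rootT_add hr0 hs0 hk).1
    · exact (G.rootT_add hr0 hs0 hk).1
    · exact (G.rootT_add hs0 hr0 hk).1
    · exact (G.rootT_add hr0 hs0 hk).1
    · exact (G.rootT_add hs0 hr0 hk).1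
    · obtain ⟨k', hk', hk''⟩ := Option.bind_eq_some_iff.mp hk
      exact (G.rootT_add (G.rootT_add hr0 hs0 hk').1 hs0 hk'').1
    · obtain ⟨k', hk', hk''⟩ := Option.bind_eq_some_iff.mp hk
      exact (G.rootT_add (G.rootT_add hs0 hr0 hk').1 hr0 hk'').1
  obtain ⟨i, j, hi, hj, e⟩ := G.ht_pw_comm L hr0 hs0 hc hlt
  have a1 := (G.pos_iff_ht (Fin.isLt _)).mp hr1
  have a2 := (G.pos_iff_ht (Fin.isLt _)).mp hs1
  refine ⟨hlt, (G.pos_iff_ht (Fin.isLt _)).mpr ?_, ?_, ?_⟩ <;> rw [e] <;> nlinarith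

theorem ht_pw_comm_all {r s : ℕ} (hr : r < D.nroots) (hs : s < D.nroots)
    {c : ℕ × ℤ × ℕ × ℕ} (hc : c ∈ T.commT r s) (hcl : c.1 < D.nroots) :
    ∃ i j : ℤ, 1 ≤ i ∧ 1 ≤ j ∧ ∀ L : List (Fin D.rank), T.ht (G.full.pw L ⟨c.1, hcl⟩) =
      i * T.ht (G.full.pw L ⟨r, hr⟩) + j * T.ht (G.full.pw L ⟨s, hs⟩) := by
  obtain ⟨i, j, hi, hj, hw⟩ := G.comm_add hr hs hc
  refine ⟨i, j, hi, hj, fun L => ?_⟩
  obtain ⟨a, b, hab⟩ := G.ht_pw L
  have eg := hw T.gr G.full.cert.isAdd_gr
  rw [T.gr_root hcl, T.gr_root hr, T.gr_root hs] at eg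
  have ew : ∀ k : Fin D.rank, T.cart k c.1 = i * T.cart k r + j * T.cart k s := fun k => by
    have := hw _ (G.full.cert.isAdd_wt k.isLt)
    rwa [T.wt_root hcl, T.wt_root hr, T.wt_root hs] at this
  rw [hab, hab, hab]
  simp only [eg, ew, mul_add, Finset.mul_sum, Finset.sum_add_distrib, ← add_assoc]
  ring_nf

theorem closed_keyAbove (k : ℕ) : T.Closed {b | IsPos D b ∧ k ≤ T.keyPos b} := by
  refine ⟨fun r hr => hr.1, fun r hr s hs c hc => ?_⟩
  have hk := G.comm_keys hr.1 hs.1 hc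
  obtain ⟨i, j, hi, hj, e⟩ := G.comm_add hr.1.1 hs.1.1 hc
  have eg := e T.gr G.full.cert.isAdd_gr
  rw [T.gr_root hr.1.1, T.gr_root hs.1.1, T.gr_root hk.1.1] at eg
  have a1 := (G.pos_iff_ht hr.1.1).mp hr.1
  have a2 := (G.pos_iff_ht hs.1.1).mp hs.1
  have h3 : T.ht r < T.ht c.1 := by rw [eg]; nlinarith
  exact ⟨hk.1, le_of_lt (lt_of_le_of_lt hr.2 (G.keyPos_lt hr.1 h3))⟩

namespace StData

variable {G} {E : Type*} [Group E] (S : G.StData F E)
include S

/-- The subgroup generated by the generators of a set of roots. -/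
def UE (A : Set ℕ) : Subgroup E :=
  Subgroup.closure {g | ∃ r ∈ A, ∃ t, g = S.xb r t}

theorem xb_mem {A : Set ℕ} {r : ℕ} (hr : r ∈ A) (t : F) : S.xb r t ∈ S.UE A :=
  Subgroup.subset_closure ⟨r, hr, t, rfl⟩

theorem UE_mono {A B : Set ℕ} (h : ∀ r, r ∈ A → r ∈ B) : S.UE A ≤ S.UE B :=
  Subgroup.closure_mono fun _ ⟨r, hr, t, e⟩ => ⟨r, h r hr, t, e⟩

theorem xb_zero {r : ℕ} (hr : r < D.nroots) : S.xb r 0 = 1 := by
  have h := S.add r hr 0 0
  rw [add_zero] at h
  exact mul_left_cancel (h.trans (mul_one _).symm)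

theorem xb_inv {r : ℕ} (hr : r < D.nroots) (t : F) : (S.xb r t)⁻¹ = S.xb r (-t) := by
  rw [inv_eq_iff_mul_eq_one, S.add r hr, add_neg_cancel, S.xb_zero hr]

theorem θ_UE_le {A : Set ℕ} : (S.UE A).map S.θ ≤ G.US F A := by
  rw [UE, MonoidHom.map_closure, Subgroup.closure_le]
  rintro _ ⟨_, ⟨r, hr, t, rfl⟩, rfl⟩
  rw [S.θ_x]
  exact G.x_mem_US hr t

theorem exists_lift {A : Set ℕ} {g : GL D.Idx F} (hg : g ∈ G.US F A) :
    ∃ u ∈ S.UE A, S.θ u = g := by
  induction hg using Subgroup.closure_induction with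
  | mem g hg => obtain ⟨r, hr, t, rfl⟩ := hg; exact ⟨_, S.xb_mem hr t, S.θ_x r t⟩
  | one => exact ⟨1, one_mem _, map_one _⟩
  | mul a b _ _ ha hb =>
    obtain ⟨u, hu, rfl⟩ := ha
    obtain ⟨v, hv, rfl⟩ := hb
    exact ⟨u * v, mul_mem hu hv, map_mul _ _ _⟩
  | inv a _ ha =>
    obtain ⟨u, hu, rfl⟩ := ha
    exact ⟨u⁻¹, inv_mem hu, map_inv _ _⟩

/-- Moving one generator past another. -/
theorem conj_eq {r s : ℕ} (hr : r < D.nroots) (hs : s < D.nroots) (hne : s ≠ r)
    (hne' : s ≠ negR D r) (t u : F) :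
    S.xb r t * S.xb s u * (S.xb r t)⁻¹ =
      S.xb s u * ((rhsWord (T.commT r s) (-t) u).map fun p => S.xb p.1 p.2).prod := by
  rw [← S.comm r hr s hs hne hne' (-t) u, S.xb_inv hr t, S.xb_inv hr (-t), neg_neg]
  group

theorem word_mem {r s : ℕ} {t u : F} {A : Set ℕ} (h : ∀ c ∈ T.commT r s, c.1 ∈ A) :
    ((rhsWord (T.commT r s) t u).map fun p => S.xb p.1 p.2).prod ∈ S.UE A :=
  list_prod_mem fun g hg => by
    simp only [rhsWord, List.map_map, List.mem_map, Function.comp_apply] at hg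
    obtain ⟨c, hc, rfl⟩ := hg
    exact S.xb_mem (h c hc) _

/-- The map to matrices is injective on unipotent subgroups. -/
theorem inj_above (L : List (Fin D.rank)) : ∀ (m k : ℕ),
    (∀ s : Fin D.nroots, T.keyPos s.val < k + m) →
      ∀ u ∈ S.UE (T.aboveSet (G.full.pw L) k), S.θ u = 1 → u = 1 := by
  intro m
  induction m with
  | zero =>
    intro k hk u hu _
    have : T.aboveSet (G.full.pw L) k = ∅ := by
      ext s
      simp only [aboveSet, Set.mem_setOf_eq, Set.mem_empty_iff_false, iff_false, not_exists, not_and,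
        not_le]
      intro h _
      exact lt_of_lt_of_le (hk _) (le_of_eq (add_zero k))
    rw [this] at hu
    simpa [UE] using hu
  | succ m ih =>
    intro k hk u hu hθ
    have ih' := ih (k + 1) (fun s => by have := hk s; omega)
    by_cases hex : ∃ r : Fin D.nroots, IsPos D (G.full.pw L r).val ∧
        T.keyPos (G.full.pw L r).val = k
    · obtain ⟨r, hrpos, hrkey⟩ := hex
      have hrA : (r : ℕ) ∈ T.aboveSet (G.full.pw L) k := ⟨r.isLt, hrpos, hrkey.ge⟩
      set A' := T.aboveSet (G.full.pw L) (k + 1) with hA'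
      have hsplit : ∀ s ∈ T.aboveSet (G.full.pw L) k, s = r.val ∨ s ∈ A' := by
        rintro s ⟨hs, h1, h2⟩
        rcases eq_or_lt_of_le h2 with e | e
        · exact Or.inl (congrArg Fin.val ((G.full.pw L).injective (Fin.ext
            (G.keyPos_inj (Fin.isLt _) (Fin.isLt _) (e.symm.trans hrkey.symm)))))
        · exact Or.inr ⟨hs, h1, e⟩
      have hnorm : ∀ t, ∀ v ∈ S.UE A', S.xb r t * v * (S.xb r t)⁻¹ ∈ S.UE A' := by
        intro t v hv
        induction hv using Subgroup.closure_induction with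
        | mem v hv =>
          obtain ⟨s, ⟨hs, hs1, hs2⟩, w, rfl⟩ := hv
          have hne : s ≠ r.val := by
            rintro rfl
            rw [hrkey] at hs2
            omega
          have hne' : s ≠ negR D r.val := by
            rintro rfl
            have e : G.full.pw L ⟨negR D r.val, hs⟩ = negF (G.full.pw L r) := G.negF_pw L r
            rw [e, G.pos_negF] at hs1
            exact hs1 hrpos
          rw [S.conj_eq r.isLt hs hne hne']
          refine mul_mem (S.xb_mem (A := A') ⟨hs, hs1, hs2⟩ w) (S.word_mem fun c hc => ?_)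
          obtain ⟨h, h1, h2, -⟩ := G.comm_pw L ⟨r.isLt, hrpos⟩ ⟨hs, hs1⟩ hc
          have := G.keyPos_lt hrpos h2
          exact ⟨h, h1, by omega⟩
        | one => simp
        | mul a b _ _ ha hb =>
          rw [show S.xb r t * (a * b) * (S.xb r t)⁻¹ =
            S.xb r t * a * (S.xb r t)⁻¹ * (S.xb r t * b * (S.xb r t)⁻¹) by group]
          exact mul_mem ha hb
        | inv a _ ha =>
          rw [show S.xb r t * a⁻¹ * (S.xb r t)⁻¹ = (S.xb r t * a * (S.xb r t)⁻¹)⁻¹ by group]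
          exact inv_mem ha
      obtain ⟨a, v, hv, rfl⟩ : ∃ a, ∃ v ∈ S.UE A', u = S.xb r a * v := by
        clear hθ
        induction hu using Subgroup.closure_induction with
        | mem g hg =>
          obtain ⟨s, hs, t, rfl⟩ := hg
          rcases hsplit s hs with rfl | h
          · exact ⟨t, 1, one_mem _, (mul_one _).symm⟩
          · exact ⟨0, _, S.xb_mem h t, by rw [S.xb_zero r.isLt, one_mul]⟩
        | one => exact ⟨0, 1, one_mem _, by rw [S.xb_zero r.isLt, one_mul]⟩
        | mul p q _ _ hp hq =>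
          obtain ⟨a, v, hv, rfl⟩ := hp
          obtain ⟨b, w, hw, rfl⟩ := hq
          refine ⟨a + b, _, mul_mem (hnorm (-b) v hv) hw, ?_⟩
          rw [← S.add r r.isLt, ← S.xb_inv r.isLt b]
          group
        | inv p _ hp =>
          obtain ⟨a, v, hv, rfl⟩ := hp
          refine ⟨-a, _, hnorm a _ (inv_mem hv), ?_⟩
          rw [← S.xb_inv r.isLt a]
          group
      rw [map_mul, S.θ_x] at hθ
      have ha : G.full.x r.val a ∈ G.US F A' := by
        rw [eq_inv_of_mul_eq_one_left hθ]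
        exact inv_mem (S.θ_UE_le ⟨v, hv, rfl⟩)
      obtain ⟨c, hc⟩ := G.rootAct_nw (F := F) L
      have ha2 := G.conj_x_act (G.rootAct_nw (F := F) L) (S' := {b | IsPos D b ∧ k + 1 ≤ T.keyPos b})
        (fun s hs => by obtain ⟨h, h1, h2⟩ := hs; exact ⟨h, h1, h2⟩) ha
      rw [(hc r).2.2.2] at ha2
      have hzero := G.eq_zero_of_x_mem_closed hrpos (G.closed_keyAbove (k + 1))
        (fun h => by have := h.2; rw [hrkey] at this; omega) ha2
      have ha0 : a = 0 := (mul_eq_zero.mp hzero).resolve_left (c r).ne_zero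
      subst ha0
      rw [S.xb_zero r.isLt, one_mul]
      rw [G.full.x_zero, one_mul] at hθ
      exact ih' v hv hθ
    · refine ih' u (S.UE_mono (fun s hs => ?_) hu) hθ
      obtain ⟨hlt, h1, h2⟩ := hs
      exact ⟨hlt, h1, Nat.lt_of_le_of_ne h2 fun e => hex ⟨⟨s, hlt⟩, h1, e.symm⟩⟩

theorem θ_injOn (L : List (Fin D.rank)) {u v : E} (hu : u ∈ S.UE (posSet (G.full.pw L)))
    (hv : v ∈ S.UE (posSet (G.full.pw L))) (h : S.θ u = S.θ v) : u = v := by
  have hsub : S.UE (posSet (G.full.pw L)) ≤ S.UE (T.aboveSet (G.full.pw L) 0) :=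
    S.UE_mono fun s ⟨h, h1⟩ => ⟨h, h1, Nat.zero_le _⟩
  rw [← mul_inv_eq_one]
  refine S.inj_above L ((Finset.univ.sup fun s : Fin D.nroots => T.keyPos s.val) + 1) 0
    (fun s => ?_) _ (hsub (mul_mem hu (inv_mem hv))) (by rw [map_mul, map_inv, h, mul_inv_cancel])
  have := Finset.le_sup (f := fun s : Fin D.nroots => T.keyPos s.val) (Finset.mem_univ s)
  omega

/-- `n_p(t)` in the group. -/
def nb (j : Fin D.rank) (t : F) : E :=
  S.xb (D.simple j) t * S.xb (negR D (D.simple j)) (-t⁻¹) * S.xb (D.simple j) t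

/-- `h_p(t)` in the group. -/
def hb (j : Fin D.rank) (t : F) : E := S.nb j t * S.nb j (-1)

theorem θ_nb (j : Fin D.rank) (t : F) : S.θ (S.nb j t) = G.full.nr (D.simple j) t := by
  simp [nb, Full.nr, S.θ_x]

theorem θ_hb (j : Fin D.rank) (t : F) : S.θ (S.hb j t) = G.full.hr (D.simple j) t := by
  simp [hb, Full.hr, S.θ_nb]

theorem nb_inv (j : Fin D.rank) (t : F) : (S.nb j t)⁻¹ = S.nb j (-t) := by
  have hp := G.full.simple_lt j.isLt
  simp [nb, S.xb_inv hp, S.xb_inv (Cert.negR_lt hp), mul_assoc, inv_neg]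

theorem exists_pos_word :
    ∃ L : List (Fin D.rank), ∀ s : Fin D.nroots, IsPos D (G.full.pw L s).val ↔ ¬ IsPos D s.val := by
  obtain ⟨L, hL⟩ := G.exists_longest
  refine ⟨L, fun s => ⟨fun h h' => hL s h' h, fun h => ?_⟩⟩
  have := hL (negF s) (G.pos_negF.mpr h)
  rwa [G.negF_pw, G.pos_negF, not_not] at this

/-- Conjugation by `n_p(t)` away from `±p`. -/
theorem nb_conj_away (j : Fin D.rank) {s : ℕ} (hs : s < D.nroots) (h1 : s ≠ D.simple j)
    (h2 : s ≠ negR D (D.simple j)) {t : F} (ht : t ≠ 0) (u : F) :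
    S.nb j t * S.xb s u * (S.nb j t)⁻¹ =
      S.xb (T.reflT j s) (t ^ (-(T.cart j s)) * (T.sgn j s : F) * u) := by
  -- a word under which `s` is positive and only `±p` change sign with the reflection
  obtain ⟨L, hsL, hL⟩ : ∃ L : List (Fin D.rank), IsPos D (G.full.pw L ⟨s, hs⟩).val ∧
      ∀ a : Fin D.nroots, a ≠ G.full.simp' j → a ≠ negF (G.full.simp' j) →
        IsPos D (G.full.pw L a).val → IsPos D (G.full.pw L (G.full.refl j a)).val := by
    by_cases hpos : IsPos D s
    · exact ⟨[], hpos, fun a ha _ hap => (G.refl_pos j hap ha).1⟩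
    · obtain ⟨L, hL⟩ := exists_pos_word S
      refine ⟨L, (hL _).mpr hpos, fun a ha ha' hap => (hL _).mpr fun h => ?_⟩
      have hn : ¬ IsPos D a.val := (hL a).mp hap
      have h' := G.refl_pos j h fun e => ha' ?_
      · rw [show G.full.refl j (G.full.refl j a) = a from
          congrArg (fun σ : Equiv.Perm _ => σ a) (G.refl_mul_self j)] at h'
        exact hn h'.1
      · have := congrArg (G.full.refl j) e
        rwa [show G.full.refl j (G.full.refl j a) = a from
          congrArg (fun σ : Equiv.Perm _ => σ a) (G.refl_mul_self j), G.refl_simp] at this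
  set σ := G.full.pw L
  have hp := G.full.simple_lt j.isLt
  let A : Set ℕ := {a | ∃ h : a < D.nroots, a ≠ D.simple j ∧ a ≠ negR D (D.simple j) ∧
    IsPos D (σ ⟨a, h⟩).val}
  have hA : ∀ a ∈ A, a ∈ posSet σ := fun a ⟨h, _, _, h'⟩ => ⟨h, h'⟩
  have hsA : s ∈ A := ⟨hs, h1, h2, hsL⟩
  have hflip : ∀ r, r = D.simple j ∨ r = negR D (D.simple j) → ∀ w, ∀ v ∈ S.UE A,
      S.xb r w * v * (S.xb r w)⁻¹ ∈ S.UE A := by
    intro r hr w v hv
    have hrlt : r < D.nroots := by
      rcases hr with rfl | rfl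
      exacts [hp, Cert.negR_lt hp]
    induction hv using Subgroup.closure_induction with
    | mem v hv =>
      obtain ⟨a, ⟨ha, ha1, ha2, ha3⟩, z, rfl⟩ := hv
      have hne : a ≠ r := by rcases hr with rfl | rfl <;> assumption
      have hne' : a ≠ negR D r := by
        rcases hr with rfl | rfl
        · exact ha2
        · rw [Cert.negR_negR hp]; exact ha1
      rw [S.conj_eq hrlt ha hne hne']
      refine mul_mem (S.xb_mem (A := A) ⟨ha, ha1, ha2, ha3⟩ z) (S.word_mem fun c hc => ?_)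
      have hlt : c.1 < D.nroots := by
        simp only [commT, List.mem_filterMap, List.mem_cons, List.not_mem_nil, or_false] at hc
        obtain ⟨b, hb, hc⟩ := hc
        obtain ⟨k, hk, rfl⟩ := Option.map_eq_some_iff.mp hc
        rcases hb with rfl | rfl | rfl | rfl | rfl | rfl | rfl
        · exact (G.rootT_add hrlt ha hk).1
        · exact (G.rootT_add hrlt ha hk).1
        · exact (G.rootT_add ha hrlt hk).1
        · exact (G.rootT_add hrlt ha hk).1
        · exact (G.rootT_add ha hrlt hk).1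
        · obtain ⟨k', hk', hk''⟩ := Option.bind_eq_some_iff.mp hk
          exact (G.rootT_add (G.rootT_add hrlt ha hk').1 ha hk'').1
        · obtain ⟨k', hk', hk''⟩ := Option.bind_eq_some_iff.mp hk
          exact (G.rootT_add (G.rootT_add ha hrlt hk').1 hrlt hk'').1
      obtain ⟨i, k, hi, hk, e⟩ := G.ht_pw_comm_all hrlt ha hc hlt
      have e1 := e L
      have e2 := e (L ++ [j])
      have hpwj : ∀ b, G.full.pw (L ++ [j]) b = σ (G.full.refl j b) := fun b => by
        rw [G.pw_append, Equiv.Perm.mul_apply, G.pw_singleton]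
      rw [hpwj, hpwj, hpwj] at e2
      have hA1 : 0 < T.ht (σ ⟨a, ha⟩) := (G.pos_iff_ht (Fin.isLt _)).mp ha3
      have hA2 : 0 < T.ht (σ (G.full.refl j ⟨a, ha⟩)) := (G.pos_iff_ht (Fin.isLt _)).mp
          (hL _ (fun e => ha1 (congrArg Fin.val e)) (fun e => ha2 (congrArg Fin.val e)) ha3)
      have hopp : ∀ b (hb : b < D.nroots), b = D.simple j ∨ b = negR D (D.simple j) →
          T.ht (σ (G.full.refl j ⟨b, hb⟩)) = - T.ht (σ ⟨b, hb⟩) := by
        intro b hb hb'
        rw [show G.full.refl j ⟨b, hb⟩ = negF ⟨b, hb⟩ from ?_, G.negF_pw]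
        · exact (G.full.cert.root_spec (Fin.isLt _)).2.2.1
        rcases hb' with rfl | rfl
        · exact G.refl_simp j
        · refine Fin.ext ?_
          show T.reflT j (negR D (D.simple j)) = negR D (negR D (D.simple j))
          rw [G.full.neg_simple_reflect j.isLt, Cert.negR_negR hp]
      rw [hopp r hrlt hr] at e2
      -- the sum over the two words is positive
      have hsum : 0 < T.ht (σ ⟨c.1, hlt⟩) + T.ht (σ (G.full.refl j ⟨c.1, hlt⟩)) := by
        rw [e1, e2]; nlinarith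
      have hcne : c.1 ≠ D.simple j ∧ c.1 ≠ negR D (D.simple j) := by
        constructor <;> intro h
        · rw [hopp c.1 hlt (Or.inl h)] at hsum; omega
        · rw [hopp c.1 hlt (Or.inr h)] at hsum; omega
      refine ⟨hlt, hcne.1, hcne.2, (G.pos_iff_ht (Fin.isLt _)).mpr ?_⟩
      by_contra hle
      set d := G.full.refl j ⟨c.1, hlt⟩ with hd
      have hdd : G.full.refl j d = ⟨c.1, hlt⟩ :=
        congrArg (fun σ : Equiv.Perm _ => σ ⟨c.1, hlt⟩) (G.refl_mul_self j)
      have hd1 : d ≠ G.full.simp' j := fun h => hcne.2 (by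
        have := hdd; rw [h, G.refl_simp] at this; exact congrArg Fin.val this.symm)
      have hd2 : d ≠ negF (G.full.simp' j) := fun h => hcne.1 (by
        rw [h, ← G.pw_singleton, G.negF_pw, G.pw_singleton, G.refl_simp, negF_negF] at hdd; exact congrArg Fin.val hdd.symm)
      have := (G.pos_iff_ht (Fin.isLt _)).mp
        (hL d hd1 hd2 ((G.pos_iff_ht (Fin.isLt _)).mpr (by omega)))
      rw [hdd] at this
      omega
    | one => simp
    | mul a b _ _ ha hb =>
      rw [show S.xb r w * (a * b) * (S.xb r w)⁻¹ =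
        S.xb r w * a * (S.xb r w)⁻¹ * (S.xb r w * b * (S.xb r w)⁻¹) by group]
      exact mul_mem ha hb
    | inv a _ ha =>
      rw [show S.xb r w * a⁻¹ * (S.xb r w)⁻¹ = (S.xb r w * a * (S.xb r w)⁻¹)⁻¹ by group]
      exact inv_mem ha
  have hmem : S.nb j t * S.xb s u * (S.nb j t)⁻¹ ∈ S.UE A := by
    have := hflip _ (Or.inl rfl) t _ (hflip _ (Or.inr rfl) (-t⁻¹) _
      (hflip _ (Or.inl rfl) t _ (S.xb_mem hsA u)))
    simp only [nb]
    convert this using 1
    group
  refine S.θ_injOn L (S.UE_mono hA hmem) (S.xb_mem ?_ _) ?_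
  · exact ⟨(G.full.reflT_spec j.isLt hs).1,
      hL ⟨s, hs⟩ (fun e => h1 (congrArg Fin.val e)) (fun e => h2 (congrArg Fin.val e)) hsL⟩
  · rw [map_mul, map_mul, map_inv, S.θ_nb, S.θ_x, S.θ_x, G.full.nr_conj j.isLt hs ht]

/-- Conjugation by `n_p(t)` of `x_{±p}`. -/
theorem nb_conj_pm (j : Fin D.rank) {s : ℕ} {w : ℕ × ℕ × List ℕ}
    (hs : s = D.simple j ∨ s = negR D (D.simple j)) (hw : T.chkRootWit j s w = true)
    {t : F} (ht : t ≠ 0) (u : F) :
    S.nb j t * S.xb s u * (S.nb j t)⁻¹ =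
      S.xb (T.reflT j s) (t ^ (-(T.cart j s)) * (T.sgn j s : F) * u) := by
  have hp := G.full.simple_lt j.isLt
  have hslt : s < D.nroots := by
    rcases hs with rfl | rfl
    exacts [hp, Cert.negR_lt hp]
  obtain ⟨a, b, Ln⟩ := w
  simp only [chkRootWit, Bool.and_eq_true, Nat.blt_eq, Bool.not_eq_true', List.all_eq_true,
    Nat.ble_eq, decide_eq_true_eq] at hw
  obtain ⟨⟨⟨⟨⟨⟨⟨⟨⟨⟨⟨ha, hb⟩, hba⟩, hbn⟩, ha1⟩, ha2⟩, hb1⟩, hb2⟩, hLn⟩, hpa⟩, hpb⟩, hterms⟩ := hw
  have nb_false : ∀ {x y : ℕ}, Nat.beq x y = false → x ≠ y := fun h e => by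
    rw [Tab.beq_true e] at h; exact Bool.noConfusion h
  let L : List (Fin D.rank) := Ln.pmap (fun i hi => (⟨i, hi⟩ : Fin D.rank)) hLn
  have hLv : L.map Fin.val = Ln := by simp [L, List.map_pmap]
  set σ := G.full.pw L
  have hpos : ∀ c : ℕ, ∀ hc : c < D.nroots,
      D.nroots ≤ 2 * T.wordT Ln (T.reflT j c) → IsPos D (σ (G.full.refl j ⟨c, hc⟩)).val := by
    intro c hc h
    refine ⟨Fin.isLt _, ?_⟩
    rw [G.pw_apply, hLv]
    exact h
  have ha' := hpos a ha (by simpa using hpa)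
  have hb' := hpos b hb (by simpa using hpb)
  have hσj : ∀ c, G.full.pw (L ++ [j]) c = σ (G.full.refl j c) := fun c => by
    rw [G.pw_append, Equiv.Perm.mul_apply, G.pw_singleton]
  have haS : a ∈ posSet (G.full.pw (L ++ [j])) := ⟨ha, by rw [hσj]; exact ha'⟩
  have hbS : b ∈ posSet (G.full.pw (L ++ [j])) := ⟨hb, by rw [hσj]; exact hb'⟩
  have himg : ∀ c ∈ T.commT a b, ∃ h : c.1 < D.nroots,
      T.reflT j c.1 ∈ posSet σ ∧ IsPos D (σ (G.full.refl j ⟨c.1, h⟩)).val := fun c hc => by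
    obtain ⟨h, h1, -⟩ := G.comm_pw (L ++ [j]) haS hbS hc
    rw [hσj] at h1
    exact ⟨h, ⟨(G.full.reflT_spec j.isLt h).1, h1⟩, h1⟩
  set U := S.UE (posSet σ)
  let cj : E →* E := (MulAut.conj (S.nb j t)).toMonoidHom
  have hcj : ∀ g, cj g = S.nb j t * g * (S.nb j t)⁻¹ := fun g => rfl
  have hcother : ∀ c ∈ T.commT a b, c.1 ≠ D.simple j → c.1 ≠ negR D (D.simple j) →
      ∀ v, cj (S.xb c.1 v) ∈ U := fun c hc h1 h2 v => by
    obtain ⟨h, h', -⟩ := himg c hc
    rw [hcj, S.nb_conj_away j h h1 h2 ht]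
    exact S.xb_mem h' _
  -- the image of the whole word
  have hword : ∀ p q : F,
      cj ((rhsWord (T.commT a b) p q).map fun x => S.xb x.1 x.2).prod ∈ U := by
    intro p q
    rw [← S.comm a ha b hb (nb_false hba) (nb_false hbn) p q]
    rw [map_mul, map_mul, map_mul, map_inv, map_inv, hcj, hcj]
    rw [S.nb_conj_away j hb (nb_false hb1) (nb_false hb2) ht,
      S.nb_conj_away j ha (nb_false ha1) (nb_false ha2) ht]
    have hab : ∀ {c : ℕ} (hc : c < D.nroots), IsPos D (σ (G.full.refl j ⟨c, hc⟩)).val →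
        ∀ v, S.xb (T.reflT j c) v ∈ U := fun hc h v =>
      S.xb_mem (A := posSet σ) ⟨(G.full.reflT_spec j.isLt hc).1, h⟩ v
    exact mul_mem (mul_mem (mul_mem (inv_mem (hab hb hb' _)) (inv_mem (hab ha ha' _)))
      (hab hb hb' _)) (hab ha ha' _)
  -- isolate the factor of `s`
  have hiso : ∀ (cs : List (ℕ × ℤ × ℕ × ℕ)) (p q : F), (∀ c ∈ cs, c ∈ T.commT a b) →
      ∀ c₀, (cs.filter fun c => Nat.beq c.1 (D.simple j) ||
          Nat.beq c.1 (negR D (D.simple j))) = [c₀] →
      cj ((rhsWord cs p q).map fun x => S.xb x.1 x.2).prod ∈ U →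
      cj (S.xb c₀.1 ((c₀.2.1 : F) * (-p) ^ c₀.2.2.1 * q ^ c₀.2.2.2)) ∈ U := by
    intro cs p q
    induction cs with
    | nil => intro _ c₀ h; simp at h
    | cons c cs ih =>
      intro hsub c₀ hfil hm
      have hout : ∀ d ∈ cs, (Nat.beq d.1 (D.simple j) || Nat.beq d.1 (negR D (D.simple j))) = false →
          ∀ v, cj (S.xb d.1 v) ∈ U := fun d hd h v => by
        simp only [Bool.or_eq_false_iff] at h
        exact hcother d (hsub d (List.mem_cons_of_mem _ hd)) (nb_false h.1) (nb_false h.2) v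
      simp only [rhsWord, List.map_cons, List.prod_cons, map_mul] at hm
      cases hc : (Nat.beq c.1 (D.simple j) || Nat.beq c.1 (negR D (D.simple j)))
      · rw [List.filter_cons_of_neg (by simp [hc])] at hfil
        simp only [Bool.or_eq_false_iff] at hc
        refine ih (fun d hd => hsub d (List.mem_cons_of_mem _ hd)) c₀ hfil ?_
        exact (Subgroup.mul_mem_cancel_left _ (hcother c (hsub c (List.mem_cons_self ..))
          (nb_false hc.1) (nb_false hc.2) _)).mp hm
      · rw [List.filter_cons_of_pos (p := fun c : ℕ × ℤ × ℕ × ℕ => Nat.beq c.1 (D.simple j) || Nat.beq c.1 (negR D (D.simple j))) hc, List.cons.injEq] at hfil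
        obtain ⟨rfl, hrest⟩ := hfil
        refine (Subgroup.mul_mem_cancel_right _ ?_).mp hm
        rw [map_list_prod]
        refine list_prod_mem fun g hg => ?_
        simp only [List.map_map, List.mem_map, Function.comp_apply] at hg
        obtain ⟨d, hd, rfl⟩ := hg
        refine hout d hd ?_ _
        have := List.filter_eq_nil_iff.mp hrest d hd
        simpa only [Bool.not_eq_true] using this
  obtain ⟨c₀, hfil, hc₀, hC, hij⟩ : ∃ c₀ : ℕ × ℤ × ℕ × ℕ,
      ((T.commT a b).filter fun c => Nat.beq c.1 (D.simple j) ||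
        Nat.beq c.1 (negR D (D.simple j))) = [c₀] ∧ c₀.1 = s ∧ c₀.2.1.natAbs = 1 ∧
      (c₀.2.2.1 = 1 ∨ c₀.2.2.2 = 1) := by
    revert hterms
    generalize ((T.commT a b).filter fun c => Nat.beq c.1 (D.simple j) ||
        Nat.beq c.1 (negR D (D.simple j))) = fl
    intro hterms
    rcases fl with _ | ⟨c₀, _ | ⟨c₁, rest⟩⟩
    · simp at hterms
    · simp only [List.map_cons, List.map_nil, List.cons.injEq, Prod.mk.injEq, Bool.or_eq_true,
        Nat.beq_eq, and_true] at hterms
      exact ⟨c₀, rfl, hterms.1, hterms.2.1, hterms.2.2⟩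
    · simp at hterms
  have hmain : ∀ v, cj (S.xb s v) ∈ U := by
    intro v
    have hsq : (c₀.2.1 : F) * (c₀.2.1 : F) = 1 := by
      rcases Int.natAbs_eq c₀.2.1 with e | e <;> rw [hC] at e <;> rw [e] <;> simp
    obtain ⟨p, q, hpq⟩ : ∃ p q : F, (c₀.2.1 : F) * (-p) ^ c₀.2.2.1 * q ^ c₀.2.2.2 = v := by
      rcases hij with e | e
      · exact ⟨-((c₀.2.1 : F) * v), 1, by
          rw [e, pow_one, neg_neg, one_pow, mul_one, ← mul_assoc, hsq, one_mul]⟩
      · exact ⟨-1, (c₀.2.1 : F) * v, by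
          rw [e, neg_neg, one_pow, mul_one, pow_one, ← mul_assoc, hsq, one_mul]⟩
    have := hiso _ p q (fun c hc => hc) c₀ hfil (hword p q)
    rwa [hpq, hc₀] at this
  refine S.θ_injOn L (hmain u) (S.xb_mem ?_ _) ?_
  · have hc₀m : c₀ ∈ T.commT a b := by
      have : c₀ ∈ (T.commT a b).filter fun c => Nat.beq c.1 (D.simple j) ||
          Nat.beq c.1 (negR D (D.simple j)) := by rw [hfil]; simp
      exact (List.mem_filter.mp this).1
    obtain ⟨-, h', -⟩ := himg c₀ hc₀m
    rwa [hc₀] at h'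
  · show S.θ (S.nb j t * S.xb s u * (S.nb j t)⁻¹) = _
    rw [map_mul, map_mul, map_inv, S.θ_nb, S.θ_x, S.θ_x, G.full.nr_conj j.isLt hslt ht]

end StData

end Good

end Tab

end CfsgLib.Chev
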