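import Cfsg.Agent.Chev.ToralChev
import Cfsg.Agent.Chev.Steinberg

/-!
Monomial elements whose permutation fixes or negates all fundamental roots.
-/

set_option autoImplicit false
set_option linter.style.haveILetI false

namespace CfsgLib.Chev

open Cfsg.Lie Matrix
open scoped MatrixGroups

namespace Tab.Good

variable {D : ChevalleyDatum} {T : Tab D} (G : T.Good) {F : Type*} [Field F]
include G

/-- The action of a monomial element on the characters of the torus. -/
theorem chi_conj {g : GL D.Idx F} {σ : Equiv.Perm (Fin D.nroots)} (h : G.full.RootAct g σ)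
    {c d : Fin D.rank → Fˣ} (hcd : g * T.hT F c * g⁻¹ = T.hT F d) (s : Fin D.nroots) :
    T.chi (F := F) (σ s).val d = T.chi (F := F) s.val c := by
  obtain ⟨a, ha⟩ := h
  obtain ⟨-, -, -, hx⟩ := ha s
  have e : T.hT F d * (g * G.full.x s.val 1 * g⁻¹) * (T.hT F d)⁻¹ =
      g * (T.hT F c * G.full.x s.val 1 * (T.hT F c)⁻¹) * g⁻¹ := by
    rw [← hcd]; group
  rw [hx, G.full.hT_conj s.isLt, hx, G.full.hT_conj (σ s).isLt] at e
  have e' := G.x_inj (σ s).isLt e
  refine Units.ext ?_
  rw [mul_one, mul_one, mul_comm] at e'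
  exact mul_left_cancel₀ (a s).ne_zero e'

/-- A monomial element fixing the fundamental roots lies in the torus. -/
theorem mem_diagonal_of_fix {g : GL D.Idx F} (hg : g ∈ D.monomialSubgroup F)
    {σ : Equiv.Perm (Fin D.nroots)} (h : G.full.RootAct g σ)
    (hfix : ∀ j, σ (G.full.simp' j) = G.full.simp' j) : g ∈ D.diagonalSubgroup F := by
  refine G.mem_diagonal_of_pos hg h fun s hs => ?_
  obtain ⟨a, ha⟩ := h
  refine (G.pos_iff_cor (Fin.isLt _)).mpr fun j => ?_
  rw [(ha s).2.2.1 j]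
  simp only [hfix, G.cor_simple, mul_ite, mul_one, mul_zero, Finset.sum_ite_eq, Finset.mem_univ,
    if_true]
  exact (G.pos_iff_cor s.isLt).mp hs j

/-- A monomial element negating the fundamental roots inverts the torus. -/
theorem conj_eq_inv_of_neg {g : GL D.Idx F} (hg : g ∈ D.monomialSubgroup F)
    {σ : Equiv.Perm (Fin D.nroots)} (h : G.full.RootAct g σ)
    (hneg : ∀ j, σ (G.full.simp' j) = negF (G.full.simp' j)) {t : GL D.Idx F}
    (ht : t ∈ D.diagonalSubgroup F) : g * t * g⁻¹ = t⁻¹ := by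
  rw [G.full.diagonal_eq_range] at ht
  obtain ⟨c, rfl⟩ := ht
  obtain ⟨c0, L, rfl⟩ := G.exists_word hg
  obtain ⟨d, hd⟩ := G.nw_hT (F := F) L c
  have hconj : T.hT F c0 * G.full.nw F L * T.hT F c * (T.hT F c0 * G.full.nw F L)⁻¹ =
      T.hT F d := by
    rw [mul_assoc (T.hT F c0), hd, ← mul_assoc, ← map_mul, mul_comm c0 d, map_mul]
    group
  rw [hconj, ← map_inv, ← mul_inv_eq_one, ← map_inv, ← map_mul, G.full.hT_eq_one_iff]
  intro j hj
  have h1 := G.chi_conj h hconj (G.full.simp' ⟨j, hj⟩)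
  rw [hneg] at h1
  obtain ⟨a, ha⟩ := G.rootAct_hT (F := F) d
  have h2 : T.chi (F := F) (negF (G.full.simp' ⟨j, hj⟩)).val d =
      (T.chi (F := F) (D.simple j) d)⁻¹ := by
    simp only [negF, chi, MonoidHom.coe_mk, OneHom.coe_mk, ← Finset.prod_inv_distrib]
    refine Finset.prod_congr rfl fun i _ => ?_
    rw [← _root_.zpow_neg, ← ((G.full.cert.root_spec (G.full.simple_lt hj)).2.2.2.1 i i.isLt).1]
    rfl
  rw [h2] at h1
  rw [inv_inv, map_mul, ← inv_inv (T.chi (F := F) (D.simple j) d), h1]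
  exact inv_mul_cancel _

end Tab.Good

end CfsgLib.Chev
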