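import Cfsg.Agent.Chev.F4Check
import Cfsg.Agent.Chev.TorusSign
import Cfsg.Agent.Chev.GoodAll
import Cfsg.Agent.ToralSection.Lift
import Cfsg.Agent.S1062

/-!
Alternating sections of the groups of type F₄: eleven-subgroups have automizers of exponent 1152,
and a pair of commuting five- and seven-subgroups is centralised or inverted by a small power of
everything normalising it.
-/

set_option autoImplicit false
set_option linter.style.haveILetI false

namespace CfsgLib.Chev.F4Sections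

open Cfsg.Lie Tab

theorem dichotomy (L : List (Fin chevF4.rank)) :
    (∀ j, (good_F4.full.pw L ^ 8) (good_F4.full.simp' j) = good_F4.full.simp' j) ∨
    (∀ j, (good_F4.full.pw L ^ 6) (good_F4.full.simp' j) = good_F4.full.simp' j) ∨
    ∀ j, (good_F4.full.pw L ^ 6) (good_F4.full.simp' j) = negF (good_F4.full.simp' j) := by
  obtain ⟨M, hM, e⟩ := good_F4.exists_mem_wordsOf F4Check.chain (List.range chevF4.rank)
    (fun j hj => List.mem_range.mp hj) F4Check.chain_ok _ (good_F4.pw_mem_full L)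
  have h := List.all_eq_true.mp F4Check.powers_ok _ hM
  simp only [F4Check.chkPowers, F4Check.fixesSimple, F4Check.negatesSimple, Bool.and_eq_true,
    Bool.or_eq_true, List.all_eq_true, Nat.blt_eq, List.mem_range, Nat.beq_eq] at h
  obtain ⟨hlt, h⟩ := h
  have key : ∀ (m : ℕ) (j : Fin chevF4.rank), ((good_F4.full.pw L ^ m) (good_F4.full.simp' j)).val =
      iterTbl F4Check.tbl (M.map Fin.val) m (chevF4.simple j.val) := fun m j => by
    rw [← e, good_F4.pw_pow_apply]
    exact (Tab.iterTbl_eq F4Check.tbl_ok hlt m _ (good_F4.full.simple_lt j.isLt)).1.symm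
  rcases h with (h | h) | h
  · exact Or.inl fun j => Fin.ext ((key 8 j).trans (h j.val j.isLt))
  · exact Or.inr (Or.inl fun j => Fin.ext ((key 6 j).trans (h j.val j.isLt)))
  · exact Or.inr (Or.inr fun j => Fin.ext ((key 6 j).trans (h j.val j.isLt)))

theorem pw_exp (L : List (Fin chevF4.rank)) : good_F4.full.pw L ^ 1152 = 1 := by
  have h := good_F4.pw_pow_card L
  rwa [good_F4.card_weyl F4Data.levels_ok,
    show (F4Data.levels.map fun l => l.2.2.length).prod = 1152 by decide +kernel] at h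

variable {F : Type*} [Field F] [Fintype F]

theorem card_diag : Nat.card (chevF4.diagonalSubgroup F) = (Fintype.card F - 1) ^ 4 := by
  have h := good_F4.card_diagonal (F := F) F4Data.smith_ok
  simpa [F4Data.smith, show chevF4.rank = 4 from rfl] using h

theorem diag_ne_zero : Nat.card (chevF4.diagonalSubgroup F) ≠ 0 := by
  rw [card_diag]
  exact pow_ne_zero 4 (by have := Fintype.one_lt_card (α := F); omega)

/-- The cofactor of the split torus. -/
def cofactor {R : Type*} [CommSemiring R] (q : R) : R :=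
  q ^ 24 * ((q + 1) * (q ^ 5 + q ^ 4 + q ^ 3 + q ^ 2 + q + 1) *
    (q ^ 7 + q ^ 6 + q ^ 5 + q ^ 4 + q ^ 3 + q ^ 2 + q + 1) *
    (q ^ 11 + q ^ 10 + q ^ 9 + q ^ 8 + q ^ 7 + q ^ 6 + q ^ 5 + q ^ 4 + q ^ 3 + q ^ 2 + q + 1))

theorem card_split : Nat.card (chevF4.group F) =
    cofactor (Fintype.card F) * Nat.card (chevF4.diagonalSubgroup F) := by
  rw [Cfsg.Agent.S1062.result rfl, card_diag, cofactor]
  have h1 : 1 ≤ Fintype.card F := Fintype.card_pos
  zify [h1, Nat.one_le_pow 2 _ h1, Nat.one_le_pow 6 _ h1, Nat.one_le_pow 8 _ h1,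
    Nat.one_le_pow 12 _ h1]
  ring

theorem five_cof : cofactor (1 : ZMod 5) ≠ 0 := by unfold cofactor; decide
theorem seven_cof : cofactor (1 : ZMod 7) ≠ 0 := by unfold cofactor; decide
theorem eleven_cof : cofactor (1 : ZMod 11) ≠ 0 := by unfold cofactor; decide

theorem factorization_le {ℓ : ℕ} (hℓ : cofactor (1 : ZMod ℓ) ≠ 0)
    (hq : ((Fintype.card F : ℕ) : ZMod ℓ) = 1) :
    (Nat.card (chevF4.group F)).factorization ℓ ≤
      (Nat.card (chevF4.diagonalSubgroup F)).factorization ℓ := by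
  refine le_of_eq ?_
  rw [card_split, factorization_mul_of_not_dvd (fun hd => hℓ ?_) diag_ne_zero]
  have e := (CharP.cast_eq_zero_iff (ZMod ℓ) ℓ _).mpr hd
  simp only [cofactor, Nat.cast_mul, Nat.cast_add, Nat.cast_pow, Nat.cast_one, hq] at e
  exact e

/-- A power of each cell representative centralises or inverts the torus. -/
theorem cell (g : chevF4.group F) : ∃ n : chevF4.group F,
    (∀ t ∈ good_F4.torusIn F, g * t * g⁻¹ ∈ good_F4.torusIn F → g * t * g⁻¹ = n * t * n⁻¹) ∧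
      ((∀ t ∈ good_F4.torusIn F, n ^ 8 * t * (n ^ 8)⁻¹ = t) ∨
        (∀ t ∈ good_F4.torusIn F, n ^ 6 * t * (n ^ 6)⁻¹ = t) ∨
        ∀ t ∈ good_F4.torusIn F, n ^ 6 * t * (n ^ 6)⁻¹ = t⁻¹) := by
  obtain ⟨v, hv, a, L, u, hu, hg⟩ := good_F4.normal_form g.2
  have hn := good_F4.nw_mem_monomial (F := F) L
  have hpw := good_F4.rootAct_npow (good_F4.rootAct_nw (F := F) L)
  refine ⟨⟨_, good_F4.monomial_le_group hn⟩, fun t ht ht' => Subtype.ext ?_, ?_⟩
  · have hb : v * F4Data.tab.hT F a ∈ chevF4.borelSubgroup F :=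
      mul_mem (Tab.Good.pos_le_borel good_F4 hv) (Subgroup.mem_sup_right (by
        rw [good_F4.full.diagonal_eq_range]; exact ⟨a, rfl⟩))
    refine (good_F4.cell_torus hb hn (Tab.Good.pos_le_borel good_F4 (good_F4.flip_le_pos _ hu))
      (Subgroup.mem_subgroupOf.mp ht) (Subgroup.mem_subgroupOf.mp ht') ?_).symm
    rw [← hg]
    simp only [Subgroup.coe_mul, InvMemClass.coe_inv]
    group
  · have fix : ∀ m, (∀ j, (good_F4.full.pw L ^ m) (good_F4.full.simp' j) = good_F4.full.simp' j) →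
        ∀ t ∈ good_F4.torusIn F, (⟨_, good_F4.monomial_le_group hn⟩ : chevF4.group F) ^ m * t *
          ((⟨_, good_F4.monomial_le_group hn⟩ : chevF4.group F) ^ m)⁻¹ = t := by
      intro m hm t ht
      refine Subtype.ext ?_
      simp only [Subgroup.coe_mul, InvMemClass.coe_inv, SubmonoidClass.coe_pow]
      exact mul_inv_eq_of_eq_mul ((good_F4.diag_commute
        (good_F4.mem_diagonal_of_fix (pow_mem hn m) (hpw m) hm) (Subgroup.mem_subgroupOf.mp ht)).eq)
    rcases dichotomy L with h | h | h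
    · exact Or.inl (fix 8 h)
    · exact Or.inr (Or.inl (fix 6 h))
    · refine Or.inr (Or.inr fun t ht => Subtype.ext ?_)
      simp only [Subgroup.coe_mul, InvMemClass.coe_inv, SubmonoidClass.coe_pow]
      exact good_F4.conj_eq_inv_of_neg (pow_mem hn 6) (hpw 6) h (Subgroup.mem_subgroupOf.mp ht)

/-- The trichotomy for a commuting pair of subgroups for five and seven. -/
theorem pair_bound {Q R : Subgroup (chevF4.group F)} (hq5 : ((Fintype.card F : ℕ) : ZMod 5) = 1)
    (hq7 : ((Fintype.card F : ℕ) : ZMod 7) = 1) (hQ : IsPGroup 7 Q) (hR : IsPGroup 5 R)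
    (hQR : ∀ x ∈ Q, ∀ y ∈ R, Commute y x) {h : chevF4.group F}
    (hhQ : ∀ x ∈ Q, h * x * h⁻¹ ∈ Q) (hhR : ∀ x ∈ R, h * x * h⁻¹ ∈ R) :
    (∀ x, x ∈ Q ∨ x ∈ R → h ^ 8 * x * (h ^ 8)⁻¹ = x) ∨
      (∀ x, x ∈ Q ∨ x ∈ R → h ^ 6 * x * (h ^ 6)⁻¹ = x) ∨
      ∀ x, x ∈ Q ∨ x ∈ R → h ^ 6 * x * (h ^ 6)⁻¹ = x⁻¹ := by
  haveI := Fact.mk (show Nat.Prime 5 by norm_num)
  haveI := Fact.mk (show Nat.Prime 7 by norm_num)
  obtain ⟨g, hg⟩ := CfsgLib.ToralSection.exists_conj_le_pair (ℓ := 7) (m := 5)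
    (good_F4.torusIn F)
    (fun x hx y hy => Subtype.ext (good_F4.diag_commute (Subgroup.mem_subgroupOf.mp hx)
      (Subgroup.mem_subgroupOf.mp hy)).eq)
    (by rw [good_F4.card_torusIn]; exact factorization_le seven_cof hq7)
    (by rw [good_F4.card_torusIn]; exact factorization_le five_cof hq5) hQ hR hQR
  obtain ⟨n, hn, hc⟩ := cell (g * h * g⁻¹)
  have key := CfsgLib.ToralSection.pair_action (X := {x | x ∈ Q ∨ x ∈ R}) (fun x hx => hg x hx)
    (fun x hx => hx.imp (hhQ x) (hhR x)) hn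
  have cancel : ∀ y z : chevF4.group F, g * y * g⁻¹ = g * z * g⁻¹ → y = z := fun y z e =>
    mul_left_cancel (mul_right_cancel e)
  rcases hc with hc | hc | hc
  · exact Or.inl fun x hx => cancel _ _ ((key 8 x hx).trans (hc _ (hg x hx)))
  · exact Or.inr (Or.inl fun x hx => cancel _ _ ((key 6 x hx).trans (hc _ (hg x hx))))
  · exact Or.inr (Or.inr fun x hx => cancel _ _ (((key 6 x hx).trans (hc _ (hg x hx))).trans
      (by group)))

/-- The cycle of length seven. -/
def pA : Equiv.Perm (Fin 12) :=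
  Equiv.swap 0 1 * Equiv.swap 1 2 * Equiv.swap 2 3 * Equiv.swap 3 4 * Equiv.swap 4 5 *
    Equiv.swap 5 6

/-- The cycle of length five. -/
def pC : Equiv.Perm (Fin 12) :=
  Equiv.swap 7 8 * Equiv.swap 8 9 * Equiv.swap 9 10 * Equiv.swap 10 11

/-- Generators of both automorphism groups at once. -/
def pB : Equiv.Perm (Fin 12) :=
  Equiv.swap 1 3 * Equiv.swap 3 2 * Equiv.swap 2 6 * Equiv.swap 6 4 * Equiv.swap 4 5 *
    (Equiv.swap 8 9 * Equiv.swap 9 11 * Equiv.swap 11 10)

theorem perm_facts : Equiv.Perm.sign pA = 1 ∧ Equiv.Perm.sign pC = 1 ∧ Equiv.Perm.sign pB = 1 ∧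
    pB * pA * pB⁻¹ = pA ^ 3 ∧ pB * pC * pB⁻¹ = pC ^ 2 ∧ pC * pA * pC⁻¹ = pA ∧
    pB ^ 8 * pA * (pB ^ 8)⁻¹ ≠ pA ∧ pB ^ 6 * pC * (pB ^ 6)⁻¹ ≠ pC ∧
    pB ^ 6 * pA * (pB ^ 6)⁻¹ ≠ pA⁻¹ := by
  decide +kernel

theorem orderOf_pA : orderOf pA = 7 := by
  haveI := Fact.mk (show Nat.Prime 7 by norm_num)
  exact orderOf_eq_prime (by decide +kernel) (by decide +kernel)

theorem orderOf_pC : orderOf pC = 5 := by
  haveI := Fact.mk (show Nat.Prime 5 by norm_num)
  exact orderOf_eq_prime (by decide +kernel) (by decide +kernel)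

theorem no_twelve (hq5 : ((Fintype.card F : ℕ) : ZMod 5) = 1)
    (hq7 : ((Fintype.card F : ℕ) : ZMod 7) = 1) {r : ℕ} (H : Subgroup (chevF4.group F))
    (π : H →* alternatingGroup (Fin r)) (hπ : Function.Surjective π) : r < 12 := by
  classical
  haveI := Fact.mk (show Nat.Prime 5 by norm_num)
  haveI := Fact.mk (show Nat.Prime 7 by norm_num)
  by_contra hr
  obtain ⟨H', π', hπ'⟩ := CfsgLib.ToralSection.exists_alt_section (not_lt.mp hr) hπ
  obtain ⟨sA, sC, sB, hBA, hBC, hCA, h8, h6, h6n⟩ := perm_facts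
  let a : alternatingGroup (Fin 12) := ⟨pA, Equiv.Perm.mem_alternatingGroup.mpr sA⟩
  let c : alternatingGroup (Fin 12) := ⟨pC, Equiv.Perm.mem_alternatingGroup.mpr sC⟩
  let b : alternatingGroup (Fin 12) := ⟨pB, Equiv.Perm.mem_alternatingGroup.mpr sB⟩
  have hall : ∀ z, z ∈ π'.range := fun z => hπ' z
  obtain ⟨Q, hQ, ⟨x7, hx7, ex7⟩, hlift⟩ := CfsgLib.ToralSection.exists_lift π' (a := a) (ℓ := 7)
    (by rw [← Subgroup.orderOf_coe]; exact orderOf_pA) (hall a)
  -- the normaliser of the seven-subgroup still covers both further elements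
  set N : Subgroup H' := Subgroup.normalizer (Q : Set H') with hN
  have inN : ∀ z, z * a * z⁻¹ ∈ Subgroup.zpowers a → z ∈ (π'.comp N.subtype).range := by
    intro z hz
    obtain ⟨h, e, hh⟩ := hlift z (hall z) hz
    exact ⟨⟨h, Subgroup.mem_normalizer_fintype hh⟩, e⟩
  have hca : c * a * c⁻¹ = a := Subtype.ext hCA
  have hba : b * a * b⁻¹ = a ^ 3 := Subtype.ext hBA
  have hbc : b * c * b⁻¹ = c ^ 2 := Subtype.ext hBC
  obtain ⟨R, hR, ⟨x5, hx5, ex5⟩, hlift5⟩ := CfsgLib.ToralSection.exists_lift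
    (π'.comp N.subtype) (a := c) (ℓ := 5)
    (by rw [← Subgroup.orderOf_coe]; exact orderOf_pC)
    (inN c (by rw [hca]; exact Subgroup.mem_zpowers a))
  obtain ⟨h, eh, hh⟩ := hlift5 b (inN b (by rw [hba]; exact pow_mem (Subgroup.mem_zpowers a) 3))
    (by rw [hbc]; exact pow_mem (Subgroup.mem_zpowers c) 2)
  -- inside the big group
  set ι : N →* chevF4.group F := H'.subtype.comp N.subtype with hι
  set QG : Subgroup (chevF4.group F) := Q.map H'.subtype with hQG
  set RG : Subgroup (chevF4.group F) := R.map ι with hRG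
  have hnormQ : ∀ y : N, ∀ x ∈ QG, ι y * x * (ι y)⁻¹ ∈ QG := by
    rintro y _ ⟨x, hx, rfl⟩
    exact ⟨(y : H') * x * (y : H')⁻¹, (Subgroup.mem_normalizer_iff.mp y.2 x).mp hx, by simp [hι]⟩
  have hpQ : IsPGroup 7 QG := hQ.map _
  have hpR : IsPGroup 5 RG := hR.map _
  have hcomm : ∀ x ∈ QG, ∀ y ∈ RG, Commute y x := by
    rintro x hx _ ⟨y, hy, rfl⟩
    have hA : CfsgLib.ToralSection.AutBound (chevF4.group F) 7 1152 :=
      good_F4.autBound (factorization_le seven_cof hq7) pw_exp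
    have h1 := hA QG hpQ (ι y) (hnormQ y) x hx
    obtain ⟨k, hk⟩ := hpR ⟨ι y, ⟨y, hy, rfl⟩⟩
    have hk' : ι y ^ 5 ^ k = 1 := congrArg Subtype.val hk
    have hcop : Nat.Coprime (orderOf (ι y)) 1152 :=
      Nat.Coprime.coprime_dvd_left (orderOf_dvd_of_pow_eq_one hk')
        (Nat.Coprime.pow_left k (by norm_num))
    obtain ⟨m, hm⟩ := exists_pow_eq_self_of_coprime hcop.symm
    rw [← hm]
    exact h1.pow_left m
  have hhR : ∀ x ∈ RG, ι h * x * (ι h)⁻¹ ∈ RG := by
    rintro _ ⟨x, hx, rfl⟩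
    exact ⟨h * x * h⁻¹, hh x hx, by simp⟩
  have hmap : ∀ (m : ℕ) (x z : H'), (ι h) ^ m * (x : chevF4.group F) * ((ι h) ^ m)⁻¹ = z →
      b ^ m * π' x * (b ^ m)⁻¹ = π' z := by
    intro m x z e
    have e' : (h : H') ^ m * x * ((h : H') ^ m)⁻¹ = z := Subtype.ext (by simpa [hι] using e)
    rw [← e', map_mul, map_mul, map_inv, map_pow, show π' (h : H') = b from eh]
  have m7 : (x7 : chevF4.group F) ∈ QG := ⟨x7, hx7, rfl⟩
  have m5 : ((x5 : H') : chevF4.group F) ∈ RG := ⟨x5, hx5, rfl⟩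
  have ex5' : π' (x5 : H') = c := ex5
  rcases pair_bound hq5 hq7 hpQ hpR hcomm (hnormQ h) hhR with hb | hb | hb
  · have e := hmap 8 x7 x7 (hb _ (Or.inl m7))
    rw [ex7] at e
    have e' := congrArg Subtype.val e
    simp only [Subgroup.coe_mul, Subgroup.coe_pow, InvMemClass.coe_inv] at e'
    exact h8 e'
  · have e := hmap 6 x5 x5 (hb _ (Or.inr m5))
    rw [ex5'] at e
    have e' := congrArg Subtype.val e
    simp only [Subgroup.coe_mul, Subgroup.coe_pow, InvMemClass.coe_inv] at e'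
    exact h6 e'
  · have e := hmap 6 x7 x7⁻¹ (hb _ (Or.inl m7))
    rw [map_inv, ex7] at e
    have e' := congrArg Subtype.val e
    simp only [Subgroup.coe_mul, Subgroup.coe_pow, InvMemClass.coe_inv] at e'
    exact h6n e'

theorem four_gen : ((4 : ℕ) : ZMod 11) ^ 1152 ≠ 1 := by decide +kernel

theorem alt_section {p r : ℕ} [Fact p.Prime] [CharP F p] {H : Subgroup (chevF4.group F)}
    {π : H →* alternatingGroup (Fin r)} (hπ : Function.Surjective π) :
    r ≤ 10 + (if p = 11 then 1 else 0) := by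
  classical
  by_cases hp : p = 11
  · rw [if_pos hp]
    haveI := Fact.mk (show Nat.Prime 5 by norm_num)
    haveI := Fact.mk (show Nat.Prime 7 by norm_num)
    obtain ⟨K, hKf, hKt, f, hK⟩ := Tab.Good.exists_field_ext (F := F) 12
    obtain ⟨H', π', hπ'⟩ := good_F4.exists_section_ext f hπ
    have e5 := pow_cast_one (ℓ := 5) (not_dvd_card (F := F) (by norm_num) (show p ≠ 5 by omega))
    have e7 := pow_cast_one (ℓ := 7) (not_dvd_card (F := F) (by norm_num) (show p ≠ 7 by omega))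
    rw [Nat.cast_pow] at e5 e7
    have := no_twelve (F := K)
      (by rw [hK, Nat.cast_pow, show 12 = (5 - 1) * 3 from rfl, pow_mul, e5, one_pow])
      (by rw [hK, Nat.cast_pow, show 12 = (7 - 1) * 2 from rfl, pow_mul, e7, one_pow]) H' π' hπ'
    omega
  · rw [if_neg hp, add_zero]
    haveI := Fact.mk (show Nat.Prime 11 by norm_num)
    obtain ⟨K, hKf, hKt, f, hK⟩ := Tab.Good.exists_field_ext (F := F) 10
    obtain ⟨H', π', hπ'⟩ := good_F4.exists_section_ext f hπ
    have hq : ((Fintype.card K : ℕ) : ZMod 11) = 1 := by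
      rw [hK]
      exact pow_cast_one (ℓ := 11) (not_dvd_card (by norm_num) hp)
    have hlt := CfsgLib.ToralSection.alt_lt_of_autBound
      (good_F4.autBound (F := K) (factorization_le eleven_cof hq) pw_exp) (n := 11) (k := 4)
      (Equiv.swap 0 1 * Equiv.swap 1 2 * Equiv.swap 2 3 * Equiv.swap 3 4 * Equiv.swap 4 5 *
        Equiv.swap 5 6 * Equiv.swap 6 7 * Equiv.swap 7 8 * Equiv.swap 8 9 * Equiv.swap 9 10)
      (Equiv.swap 1 4 * Equiv.swap 4 5 * Equiv.swap 5 9 * Equiv.swap 9 3 *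
        (Equiv.swap 2 8 * Equiv.swap 8 10 * Equiv.swap 10 7 * Equiv.swap 7 6))
      (by decide +kernel) (by decide +kernel)
      (orderOf_eq_prime (by decide +kernel) (by decide +kernel)) (by decide +kernel)
      four_gen H' π' hπ'
    omega

end CfsgLib.Chev.F4Sections
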