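import Mathlib.RingTheory.Polynomial.Cyclotomic.Roots
import Mathlib.RingTheory.Polynomial.Cyclotomic.Basic
import Mathlib.LinearAlgebra.Eigenspace.Zero
import Mathlib.LinearAlgebra.Matrix.Charpoly.Coeff
import Mathlib.FieldTheory.Separable
import Mathlib.Analysis.Complex.Polynomial.Basic

/-!
Eigenvectors of integral matrices of finite order over `ZMod (r ^ v)`: they form a free module,
whose rank times `φ(d)` is at most the size of the matrix.
-/

set_option autoImplicit false

namespace CfsgLib.Chev.Homocyclic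

open Matrix Polynomial

/-- The multiplicity modulo `r` of a root of order `d` of an integral polynomial whose complex roots
are roots of unity of order prime to `r`. -/
theorem rootMultiplicity_mul_totient_le {r d N : ℕ} [Fact r.Prime] (hN : 0 < N) (hrN : ¬ r ∣ N)
    (hdN : d ∣ N) {ζ : ZMod r} (hζ : orderOf ζ = d) :
    ∀ (P : ℤ[X]), P.Monic → (∀ x : ℂ, (P.map (Int.castRingHom ℂ)).IsRoot x → x ^ N = 1) →
      (P.map (Int.castRingHom (ZMod r))).rootMultiplicity ζ * d.totient ≤ P.natDegree := by
  classical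
  suffices ∀ (n : ℕ) (P : ℤ[X]), P.natDegree = n → P.Monic →
      (∀ x : ℂ, (P.map (Int.castRingHom ℂ)).IsRoot x → x ^ N = 1) →
      (P.map (Int.castRingHom (ZMod r))).rootMultiplicity ζ * d.totient ≤ n from
    fun P => this _ P rfl
  intro n
  induction n using Nat.strong_induction_on with
  | _ n ih => ?_
  intro P hn hP hroots
  set c := Int.castRingHom (ZMod r)
  by_cases hz : (P.map c).IsRoot ζ
  swap
  · rw [rootMultiplicity_eq_zero hz, zero_mul]
    exact Nat.zero_le _
  have hd0 : 0 < d := Nat.pos_of_dvd_of_pos hdN hN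
  have hNr : (N : ZMod r) ≠ 0 := fun h => hrN ((CharP.cast_eq_zero_iff (ZMod r) r _).mp h)
  haveI : NeZero (d : ZMod r) := ⟨fun h => hrN (dvd_trans
    ((CharP.cast_eq_zero_iff (ZMod r) r _).mp h) hdN)⟩
  have hcyc : (cyclotomic d (ZMod r)).IsRoot ζ :=
    isRoot_cyclotomic_iff.mpr (hζ ▸ IsPrimitiveRoot.orderOf ζ)
  have hsep : ((X : (ZMod r)[X]) ^ N - 1).Separable := by
    simpa using Polynomial.separable_X_pow_sub_C (1 : ZMod r) hNr one_ne_zero
  have hdvd : cyclotomic d ℤ ∣ P := by
    by_contra hcon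
    set R : ℤ[X] := ∏ i ∈ N.divisors.erase d, cyclotomic i ℤ with hRdef
    have hR : cyclotomic d ℤ * R = X ^ N - 1 := by
      rw [hRdef, Finset.mul_prod_erase _ (fun i => cyclotomic i ℤ)
        (Nat.mem_divisors.mpr ⟨hdN, hN.ne'⟩), prod_cyclotomic_eq_X_pow_sub_one hN]
    have hRm : R.Monic := monic_prod_of_monic _ _ fun i _ => cyclotomic.monic i ℤ
    have hPR : P ∣ R ^ P.natDegree := by
      rw [← Polynomial.map_dvd_map (Int.castRingHom ℂ) Int.cast_injective hP, Polynomial.map_pow]
      have hRC : R.map (Int.castRingHom ℂ) ≠ 0 := (hRm.map _).ne_zero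
      refine (IsAlgClosed.splits _).dvd_of_roots_le_roots (hP.map _).ne_zero ?_
      rw [Polynomial.roots_pow, Multiset.le_iff_count]
      intro x
      by_cases hx : x ∈ (P.map (Int.castRingHom ℂ)).roots
      swap
      · rw [Multiset.count_eq_zero_of_notMem hx]; exact Nat.zero_le _
      have hxP := isRoot_of_mem_roots hx
      have hxR : x ∈ (R.map (Int.castRingHom ℂ)).roots := by
        rw [mem_roots hRC]
        have e : ((cyclotomic d ℤ).map (Int.castRingHom ℂ)).eval x *
            (R.map (Int.castRingHom ℂ)).eval x = 0 := by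
          rw [← eval_mul, ← Polynomial.map_mul, hR]
          simp [hroots x hxP]
        refine (mul_eq_zero.mp e).resolve_left fun h0 => hcon ?_
        rw [map_cyclotomic] at h0
        haveI : NeZero (d : ℂ) := ⟨Nat.cast_ne_zero.mpr hd0.ne'⟩
        have hprim : IsPrimitiveRoot x d := isRoot_cyclotomic_iff.mp h0
        rw [cyclotomic_eq_minpoly hprim hd0]
        refine minpoly.isIntegrallyClosed_dvd (hprim.isIntegral hd0) ?_
        rw [aeval_def, ← eval_map]
        simpa [algebraMap_int_eq] using hxP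
      rw [Multiset.count_nsmul]
      calc Multiset.count x (P.map (Int.castRingHom ℂ)).roots
          ≤ Multiset.card (P.map (Int.castRingHom ℂ)).roots := Multiset.count_le_card _ _
        _ ≤ (P.map (Int.castRingHom ℂ)).natDegree := card_roots' _
        _ ≤ P.natDegree := natDegree_map_le
        _ ≤ P.natDegree * Multiset.count x (R.map (Int.castRingHom ℂ)).roots :=
          Nat.le_mul_of_pos_right _ (Multiset.count_pos.mpr hxR)
    have hR0 : ((R ^ P.natDegree).map c).eval ζ = 0 :=
      eval_eq_zero_of_dvd_of_eval_eq_zero (Polynomial.map_dvd c hPR) hz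
    rw [Polynomial.map_pow, eval_pow] at hR0
    have hRz := eq_zero_of_pow_eq_zero hR0
    have hmul : ((X : (ZMod r)[X]) ^ N - 1) = cyclotomic d (ZMod r) * R.map c := by
      rw [← map_cyclotomic d c, ← Polynomial.map_mul, hR]
      simp
    rw [hmul] at hsep
    obtain ⟨a, b, hab⟩ := hsep.isCoprime
    have := congrArg (eval ζ) hab
    simp [hcyc.eq_zero, hRz] at this
  obtain ⟨P', rfl⟩ := hdvd
  have hP' : P'.Monic := (cyclotomic.monic d ℤ).of_mul_monic_left hP
  have hdeg : n = d.totient + P'.natDegree := by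
    rw [← hn, (cyclotomic.monic d ℤ).natDegree_mul hP', natDegree_cyclotomic]
  have hlt : P'.natDegree < n := by
    have := Nat.totient_pos.mpr hd0
    omega
  have h := ih _ hlt P' rfl hP' fun x hx => hroots x (by
    rw [Polynomial.map_mul, IsRoot, eval_mul, hx.eq_zero, mul_zero])
  have hne : ((cyclotomic d ℤ * P').map c) ≠ 0 := ((cyclotomic.monic d ℤ).mul hP' |>.map c).ne_zero
  rw [Polynomial.map_mul] at hne ⊢
  rw [rootMultiplicity_mul hne, map_cyclotomic]
  have h1 : (cyclotomic d (ZMod r)).rootMultiplicity ζ ≤ 1 :=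
    rootMultiplicity_le_one_of_separable
      (hsep.of_dvd ((cyclotomic.dvd_X_pow_sub_one d (ZMod r)).trans (by
        obtain ⟨s, rfl⟩ := hdN
        rw [pow_mul]
        simpa using sub_dvd_pow_sub_pow ((X : (ZMod r)[X]) ^ d) 1 s))) ζ
  calc ((cyclotomic d (ZMod r)).rootMultiplicity ζ + (P'.map c).rootMultiplicity ζ) * d.totient
      ≤ 1 * d.totient + (P'.map c).rootMultiplicity ζ * d.totient := by
        rw [add_mul]; exact Nat.add_le_add_right (Nat.mul_le_mul_right _ h1) _
    _ ≤ n := by rw [hdeg, one_mul]; omega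

/-- The roots of the characteristic polynomial of an integral matrix of finite order. -/
theorem charpoly_root_pow {n N : ℕ} (U : Matrix (Fin n) (Fin n) ℤ) (hU : U ^ N = 1) (x : ℂ)
    (hx : (U.charpoly.map (Int.castRingHom ℂ)).IsRoot x) : x ^ N = 1 := by
  classical
  rw [← Matrix.charpoly_map, IsRoot, Matrix.eval_charpoly] at hx
  obtain ⟨w, hw, he⟩ := (Matrix.exists_mulVec_eq_zero_iff).mpr hx
  set Q := U.map (Int.castRingHom ℂ)
  have he' : Q *ᵥ w = x • w := by
    rw [Matrix.sub_mulVec, sub_eq_zero] at he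
    rw [← he, Matrix.scalar_apply, ← smul_one_eq_diagonal, smul_mulVec, one_mulVec]
  have hpow : ∀ j : ℕ, Q ^ j *ᵥ w = x ^ j • w := by
    intro j
    induction j with
    | zero => simp
    | succ j ih => rw [pow_succ', ← mulVec_mulVec, ih, mulVec_smul, he', smul_smul, ← pow_succ]
  have hQ : Q ^ N = 1 := by
    have := congrArg (fun M => (Int.castRingHom ℂ).mapMatrix M) hU
    simpa [map_pow, Q] using this
  have h := hpow N
  rw [hQ, one_mulVec] at h
  by_contra hne
  refine hw (funext fun i => ?_)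
  have := congrFun h i
  simp only [Pi.smul_apply, smul_eq_mul] at this
  exact (mul_eq_zero.mp (show (x ^ N - 1) * w i = 0 by linear_combination -this)).resolve_left
    (sub_ne_zero.mpr hne)

/-- The fixed vectors of `u` times an integral matrix of finite order, modulo a prime power: a free
module of bounded rank. -/
theorem exists_basis {n N r v d q : ℕ} [Fact r.Prime] (hN : 0 < N) (hrN : ¬ r ∣ N) (hd : 0 < d)
    (hrd : ¬ r ∣ d) (U : Matrix (Fin n) (Fin n) ℤ) (hU : U ^ N = 1) (hv : 0 < v)
    (hq : (q : ZMod (r ^ v)) ^ d = 1) (hord : orderOf (q : ZMod r) = d) :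
    ∃ (k : ℕ) (e : (Fin k → ZMod (r ^ v)) →+ (Fin n → ZMod (r ^ v))),
      k * d.totient ≤ n ∧ Function.Injective e ∧
      ∀ x, ((q : ZMod (r ^ v)) • U.map (Int.castRingHom (ZMod (r ^ v)))) *ᵥ x = x →
        x ∈ e.range := by
  classical
  haveI : NeZero (r ^ v) := ⟨pow_ne_zero _ (Fact.out : r.Prime).ne_zero⟩
  set red : ZMod (r ^ v) →+* ZMod r := ZMod.castHom (dvd_pow_self r hv.ne') (ZMod r)
  have hred : Function.Surjective red := ZMod.ringHom_surjective red
  -- reduction and division by `r`
  have hdiv : ∀ x : Fin n → ZMod (r ^ v), red ∘ x = 0 → ∃ y, x = (r : ZMod (r ^ v)) • y := by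
    intro x hx
    refine ⟨fun i => ((x i).val / r : ℕ), funext fun i => ?_⟩
    have h1 : r ∣ (x i).val := by
      rw [← ZMod.natCast_eq_zero_iff, ← map_natCast red, ZMod.natCast_zmod_val]
      exact congrFun hx i
    rw [Pi.smul_apply, smul_eq_mul, ← Nat.cast_mul, Nat.mul_div_cancel' h1, ZMod.natCast_zmod_val]
  set A := (q : ZMod (r ^ v)) • U.map (Int.castRingHom (ZMod (r ^ v))) with hA
  set Ab := (q : ZMod r) • U.map (Int.castRingHom (ZMod r)) with hAb
  have hmap : ∀ x, red ∘ (A *ᵥ x) = Ab *ᵥ (red ∘ x) := by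
    intro x
    funext i
    rw [Function.comp_apply, RingHom.map_mulVec]
    congr 1
    · ext a b
      simp [hA, hAb]
  -- the averaged projection
  set N' := N * d with hN'
  have hA1 : A ^ N' = 1 := by
    have e : (U.map (Int.castRingHom (ZMod (r ^ v)))) ^ N = 1 := by
      have := congrArg (fun M => (Int.castRingHom (ZMod (r ^ v))).mapMatrix M) hU
      simpa [map_pow] using this
    rw [hA, smul_pow, hN', pow_mul, pow_mul, e, one_pow, ← pow_mul, mul_comm N d, pow_mul, hq,
      one_pow, one_smul]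
  have hN'r : ¬ r ∣ N' := (Fact.out : r.Prime).not_dvd_mul hrN hrd
  obtain ⟨w, hw⟩ : ∃ w : ZMod (r ^ v), w * (N' : ZMod (r ^ v)) = 1 := by
    obtain ⟨u, hu⟩ : IsUnit (N' : ZMod (r ^ v)) := by
      rw [ZMod.isUnit_iff_coprime]
      exact Nat.Coprime.pow_right _ ((Fact.out : r.Prime).coprime_iff_not_dvd.mpr hN'r).symm
    exact ⟨(u⁻¹ : (ZMod (r ^ v))ˣ), by rw [← hu, Units.inv_mul]⟩
  set π := w • ∑ i ∈ Finset.range N', A ^ i with hπ
  have hπfix : ∀ x, A *ᵥ (π *ᵥ x) = π *ᵥ x := by
    intro x
    have e : A * ∑ i ∈ Finset.range N', A ^ i = ∑ i ∈ Finset.range N', A ^ i := by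
      have := mul_geom_sum A N'
      rw [hA1, sub_self, sub_mul, one_mul, sub_eq_zero] at this
      exact this
    rw [mulVec_mulVec, hπ, Matrix.mul_smul, e]
  have hπid : ∀ x, A *ᵥ x = x → π *ᵥ x = x := by
    intro x hx
    have hp : ∀ i : ℕ, A ^ i *ᵥ x = x := fun i => by
      induction i with
      | zero => simp
      | succ i ih => rw [pow_succ, ← mulVec_mulVec, hx, ih]
    rw [hπ, smul_mulVec, Matrix.sum_mulVec]
    simp only [hp, Finset.sum_const, Finset.card_range]
    rw [← Nat.cast_smul_eq_nsmul (ZMod (r ^ v)), smul_smul, hw, one_smul]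
  -- a basis modulo `r`
  let E : Submodule (ZMod r) (Fin n → ZMod r) := LinearMap.ker (Ab.mulVecLin - LinearMap.id)
  have hE : ∀ y, y ∈ E ↔ Ab *ᵥ y = y := fun y => by
    simp [E, LinearMap.mem_ker, sub_eq_zero]
  let b := Module.finBasis (ZMod r) E
  set k := Module.finrank (ZMod r) E
  have hlift : ∀ i : Fin k, ∃ x : Fin n → ZMod (r ^ v), A *ᵥ x = x ∧ red ∘ x = (b i : Fin n → ZMod r) := by
    intro i
    choose z hz using fun j => hred ((b i : Fin n → ZMod r) j)
    refine ⟨π *ᵥ z, hπfix z, ?_⟩
    have hb : Ab *ᵥ (b i : Fin n → ZMod r) = b i := (hE _).mp (b i).2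
    have hz' : red ∘ z = (b i : Fin n → ZMod r) := funext hz
    have hp : ∀ j : ℕ, red ∘ (A ^ j *ᵥ z) = (b i : Fin n → ZMod r) := fun j => by
      induction j with
      | zero => simpa using hz'
      | succ j ih => rw [pow_succ', ← mulVec_mulVec, hmap, ih, hb]
    funext j
    rw [hπ, smul_mulVec, Matrix.sum_mulVec, Function.comp_apply, Pi.smul_apply, smul_eq_mul,
      map_mul, Finset.sum_apply, map_sum]
    rw [Finset.sum_congr rfl fun a _ => show red ((A ^ a *ᵥ z) j) = (b i : Fin n → ZMod r) j from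
        congrFun (hp a) j, Finset.sum_const, Finset.card_range,
      nsmul_eq_mul, ← mul_assoc, ← map_natCast red, ← map_mul, hw, map_one, one_mul]
  choose e he1 he2 using hlift
  let Φ : (Fin k → ZMod (r ^ v)) →+ (Fin n → ZMod (r ^ v)) :=
    { toFun := fun a => ∑ i, a i • e i
      map_zero' := by simp
      map_add' := fun a a' => by simp [add_smul, Finset.sum_add_distrib] }
  have hΦred : ∀ a, red ∘ Φ a = ∑ i, red (a i) • (b i : Fin n → ZMod r) := by
    intro a
    funext j
    simp [Φ, Finset.sum_apply, map_sum, ← he2]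
  refine ⟨k, Φ, ?_, ?_, ?_⟩
  · -- the rank
    set c := Int.castRingHom (ZMod r)
    have hq0 : (q : ZMod r) ≠ 0 := fun h => by
      rw [h] at hord
      have h1 := pow_orderOf_eq_one (0 : ZMod r)
      rw [hord, zero_pow hd.ne'] at h1
      exact zero_ne_one h1
    set ζ : ZMod r := (q : ZMod r)⁻¹
    have hζ : orderOf ζ = d := by
      rw [← hord]
      have hu : IsUnit (q : ZMod r) := Ne.isUnit hq0
      obtain ⟨u, hu⟩ := hu
      rw [show ζ = ((u⁻¹ : (ZMod r)ˣ) : ZMod r) from
          (by rw [Units.val_inv_eq_inv_val, hu]), orderOf_units, orderOf_inv, ← orderOf_units, hu]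
    have hle : E ≤ Module.End.eigenspace (U.map c).mulVecLin ζ := by
      intro y hy
      have h := (hE y).mp hy
      rw [hAb, smul_mulVec] at h
      rw [Module.End.mem_eigenspace_iff]
      show U.map c *ᵥ y = ζ • y
      calc U.map c *ᵥ y = ((q : ZMod r)⁻¹ * (q : ZMod r)) • (U.map c *ᵥ y) := by
            rw [inv_mul_cancel₀ hq0, one_smul]
        _ = ζ • y := by rw [mul_smul, h]
    have h1 := (Submodule.finrank_mono hle).trans (LinearMap.finrank_eigenspace_le _ ζ)
    rw [Matrix.charpoly_mulVecLin, Matrix.charpoly_map] at h1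
    have hU' : U ^ N' = 1 := by rw [hN', pow_mul, hU, one_pow]
    have h2 := rootMultiplicity_mul_totient_le (Nat.mul_pos hN hd) hN'r (dvd_mul_left d N) hζ
      U.charpoly U.charpoly_monic fun x hx => charpoly_root_pow U hU' x hx
    rw [Matrix.charpoly_natDegree_eq_dim, Fintype.card_fin] at h2
    exact le_trans (Nat.mul_le_mul_right _ h1) h2
  · -- injectivity
    rw [injective_iff_map_eq_zero]
    intro a ha
    suffices h : ∀ j ≤ v, ∀ i, ∃ c : ZMod (r ^ v), a i = (r : ZMod (r ^ v)) ^ j * c by
      funext i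
      obtain ⟨c, hc⟩ := h v le_rfl i
      rw [hc, ← Nat.cast_pow, ZMod.natCast_self, zero_mul, Pi.zero_apply]
    intro j
    induction j with
    | zero => intro _ i; exact ⟨a i, by simp⟩
    | succ j ih =>
      intro hj i
      choose c hc using ih (by omega)
      have h0 : (r : ZMod (r ^ v)) ^ j • Φ c = 0 := by
        rw [← ha]
        simp [Φ, Finset.smul_sum, smul_smul, ← hc]
      have hzero : ∀ t, red (Φ c t) = 0 := by
        intro t
        have := congrFun h0 t
        rw [Pi.smul_apply, smul_eq_mul, Pi.zero_apply] at this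
        rw [← ZMod.natCast_zmod_val (Φ c t)] at this ⊢
        rw [← Nat.cast_pow, ← Nat.cast_mul, ZMod.natCast_eq_zero_iff] at this
        rw [map_natCast, ZMod.natCast_eq_zero_iff]
        have h2 : r ^ (j + 1) ∣ r ^ j * (Φ c t).val := dvd_trans (pow_dvd_pow r hj) this
        rw [pow_succ] at h2
        exact (mul_dvd_mul_iff_left (pow_ne_zero _ (Fact.out : r.Prime).ne_zero)).mp h2
      have hsum : ∑ i, red (c i) • b i = 0 := by
        refine Subtype.ext ?_
        rw [Submodule.coe_sum]
        simp only [Submodule.coe_smul, Submodule.coe_zero]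
        rw [← hΦred]
        exact funext hzero
      have hci := Fintype.linearIndependent_iff.mp b.linearIndependent _ hsum i
      refine ⟨((c i).val / r : ℕ), ?_⟩
      have h1 : r ∣ (c i).val := by
        rw [← ZMod.natCast_eq_zero_iff, ← map_natCast red, ZMod.natCast_zmod_val]
        exact hci
      rw [hc i, pow_succ, mul_assoc, ← Nat.cast_mul, Nat.mul_div_cancel' h1, ZMod.natCast_zmod_val]
  · -- the image
    intro x hx
    have key : ∀ j : ℕ, ∀ x, A *ᵥ x = x →
        ∃ a y, A *ᵥ y = y ∧ x = Φ a + (r : ZMod (r ^ v)) ^ j • y := by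
      intro j
      induction j with
      | zero => intro x hx; exact ⟨0, x, hx, by simp⟩
      | succ j ih =>
        intro x hx
        obtain ⟨a, y, hy, rfl⟩ := ih x hx
        have hy' : red ∘ y ∈ E := (hE _).mpr (by rw [← hmap, hy])
        choose a' ha' using fun i => hred (b.repr ⟨_, hy'⟩ i)
        have h0 : red ∘ (y - Φ a') = 0 := by
          have e : red ∘ Φ a' = red ∘ y := by
            rw [hΦred]
            simp only [ha']
            have h := congrArg Subtype.val (b.sum_repr ⟨_, hy'⟩)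
            simp only [Submodule.coe_sum, Submodule.coe_smul] at h
            exact h
          funext t
          simp only [Function.comp_apply, Pi.sub_apply, map_sub, Pi.zero_apply]
          rw [show red (Φ a' t) = red (y t) from congrFun e t, sub_self]
        obtain ⟨z, hz⟩ := hdiv _ h0
        have hAΦ : A *ᵥ Φ a' = Φ a' := by
          simp only [Φ, AddMonoidHom.coe_mk, ZeroHom.coe_mk, Matrix.mulVec_sum, mulVec_smul, he1]
        have hfix : A *ᵥ (y - Φ a') = y - Φ a' := by rw [mulVec_sub, hy, hAΦ]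
        have hz' : y - Φ a' = (r : ZMod (r ^ v)) • (π *ᵥ z) := by
          rw [← mulVec_smul, ← hz, hπid _ hfix]
        refine ⟨a + (r : ZMod (r ^ v)) ^ j • a', π *ᵥ z, hπfix z, ?_⟩
        have hs : Φ ((r : ZMod (r ^ v)) ^ j • a') = (r : ZMod (r ^ v)) ^ j • Φ a' := by
          simp [Φ, Finset.smul_sum, smul_smul]
        rw [map_add, hs, pow_succ, mul_smul, ← hz', smul_sub]
        abel
    obtain ⟨a, y, -, rfl⟩ := key v x hx
    refine ⟨a, ?_⟩
    rw [← Nat.cast_pow, ZMod.natCast_self, zero_smul, add_zero]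

end CfsgLib.Chev.Homocyclic
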