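import Cfsg.Agent.Chev.EllipticTorus
import Cfsg.Agent.Chev.OrderCheck
import Cfsg.Agent.Chev.HomocyclicLattice

/-!
Abelian Sylow subgroups of Chevalley groups for primes away from the characteristic and the Weyl
group: an embedding into the fixed vectors of `q` times a Weyl element.
-/

set_option autoImplicit false
set_option linter.style.haveILetI false

namespace CfsgLib.Chev

open Matrix Cfsg.Lie
open scoped MatrixGroups

namespace Tab.Good

variable {D : ChevalleyDatum} {T : Tab D} (G : T.Good) {F K : Type*} [Field F] [Field K]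
include G

/-- The matrices of equal Weyl elements agree when the Cartan matrix is regular. -/
theorem vM_congr_smith {S : SmithData} (hS : T.chkSmith S = true)
    (hpos : ∀ i : Fin D.rank, S.d.getD i.val 0 ≠ 0) {L L' : List (Fin D.rank)}
    (h : G.full.pw L = G.full.pw L') : T.vM L = T.vM L' := by
  simp only [chkSmith, Bool.and_eq_true, decide_eq_true_eq] at hS
  obtain ⟨⟨⟨⟨⟨-, hp'⟩, -⟩, hq'⟩, hA⟩, -⟩ := hS
  have hrow : ∀ j : Fin D.rank,
      T.wrow (D.simple j) ᵥ* T.vM L = T.wrow (D.simple j) ᵥ* T.vM L' := by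
    intro j
    set s := (G.full.pw L).symm (G.full.simp' j)
    have h1 := G.wrow_pw L s
    have h2 := G.wrow_pw L' s
    rw [← h] at h2
    rw [show G.full.pw L s = G.full.simp' j from Equiv.apply_symm_apply _ _] at h1 h2
    exact h1.trans h2.symm
  have hAX : T.cartMat * T.vM L = T.cartMat * T.vM L' := by
    ext j k
    exact congrFun (hrow j) k
  rw [hA] at hAX
  set P' := ofLists D.rank S.p'
  set Q := ofLists D.rank S.q
  set Δ : Matrix (Fin D.rank) (Fin D.rank) ℤ :=
    Matrix.diagonal fun i : Fin D.rank => ((S.d.getD i.val 0 : ℕ) : ℤ)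
  have h1 := congrArg (fun M => P' * M) hAX
  simp only [← Matrix.mul_assoc, hp', Matrix.one_mul] at h1
  rw [Matrix.mul_assoc, Matrix.mul_assoc] at h1
  have h2 : Q * T.vM L = Q * T.vM L' := by
    ext i k
    have := congrFun (congrFun h1 i) k
    simp only [Δ, Matrix.diagonal_mul] at this
    exact mul_left_cancel₀ (Nat.cast_ne_zero.mpr (hpos i)) this
  have h3 := congrArg (fun M => ofLists D.rank S.q' * M) h2
  simpa only [← Matrix.mul_assoc, Q, hq', Matrix.one_mul] using h3

/-- The matrices of Weyl elements have order dividing the order of the Weyl group. -/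
theorem vM_pow_card_smith {S : SmithData} (hS : T.chkSmith S = true)
    (hpos : ∀ i : Fin D.rank, S.d.getD i.val 0 ≠ 0) (L : List (Fin D.rank)) :
    T.vM L ^ Nat.card (G.full.WJ (List.range D.rank)) = 1 := by
  have e : ∀ j : ℕ, T.vM (List.replicate j L).flatten = T.vM L ^ j ∧
      G.full.pw (List.replicate j L).flatten = G.full.pw L ^ j := by
    intro j
    induction j with
    | zero => simp [vM, Full.pw]
    | succ j ih =>
      rw [List.replicate_succ, List.flatten_cons, T.vM_append, G.pw_append, ih.1, ih.2,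
        ← pow_succ', ← pow_succ']
      exact ⟨rfl, rfl⟩
  rw [← (e _).1, G.vM_congr_smith hS hpos (L' := []) ?_]
  · simp [vM]
  · rw [(e _).2, show G.full.pw [] = 1 by simp [Full.pw]]
    exact congrArg Subtype.val
      (pow_card_eq_one' (x := (⟨G.full.pw L, G.pw_mem_full L⟩ : G.full.WJ (List.range D.rank))))

/-- One Weyl element does the fusion of all torus elements moved by a given element. -/
theorem fusion_word [Fintype K] {y : GL D.Idx K} (hy : y ∈ D.group K) :
    ∃ L : List (Fin D.rank), ∀ c c' : Fin D.rank → Kˣ, y * T.hT K c' = T.hT K c * y →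
      G.full.nw K L * T.hT K c' = T.hT K c * G.full.nw K L := by
  obtain ⟨v, hv, a, L, u, hu, rfl⟩ := G.normal_form hy
  refine ⟨L, fun c c' h => ?_⟩
  obtain ⟨e, he⟩ := G.nw_hT (F := K) L c'
  have hd : ∀ b, T.hT K b ∈ D.diagonalSubgroup K := fun b => by
    rw [G.full.diagonal_eq_range]; exact ⟨b, rfl⟩
  set v1 := T.hT K c * v * (T.hT K c)⁻¹
  set u1 := (T.hT K c')⁻¹ * u * T.hT K c'
  have hv1 : v1 ∈ D.posUnipotent K := by
    rw [G.posUnipotent_eq] at hv ⊢
    exact G.hT_conj_US _ (fun s hs => hs.1) c hv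
  have hu1 : u1 ∈ G.US K (flipSet (G.full.pw L)) := by
    have := G.hT_conj_US _ (fun s hs => by obtain ⟨h, -⟩ := hs; exact h) c'⁻¹ hu
    simpa [map_inv] using this
  have e1 : v1 * T.hT K (c * a) * G.full.nw K L * u =
      v * T.hT K (a * e) * G.full.nw K L * u1 := by
    calc v1 * T.hT K (c * a) * G.full.nw K L * u
        = T.hT K c * (v * T.hT K a * G.full.nw K L * u) := by
          simp only [v1, map_mul]; group
      _ = v * T.hT K a * G.full.nw K L * u * T.hT K c' := h.symm
      _ = v * T.hT K a * (G.full.nw K L * T.hT K c') * u1 := by simp only [u1]; group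
      _ = _ := by rw [he, map_mul]; group
  obtain ⟨hb, -⟩ := (G.canonical_unique
    (mul_mem (Subgroup.mem_sup_left hv1) (Subgroup.mem_sup_right (hd (c * a))))
    (mul_mem (Subgroup.mem_sup_left hv) (Subgroup.mem_sup_right (hd (a * e))))
    (G.nw_mem_monomial L) (G.nw_mem_monomial L) (G.rootAct_nw L) (G.rootAct_nw L) hu hu1 e1).2 rfl
  have hm : v⁻¹ * v1 ∈ D.posUnipotent K ⊓ D.diagonalSubgroup K := by
    refine Subgroup.mem_inf.mpr ⟨mul_mem (inv_mem hv) hv1, ?_⟩
    have e' : v⁻¹ * v1 = T.hT K (a * e) * (T.hT K (c * a))⁻¹ := by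
      rw [eq_mul_inv_iff_mul_eq, mul_assoc, hb, inv_mul_cancel_left]
    rw [e']
    exact mul_mem (hd _) (inv_mem (hd _))
  rw [G.pos_inf_diagonal, Subgroup.mem_bot, inv_mul_eq_one] at hm
  rw [← hm, mul_right_inj, map_mul, map_mul, ← map_mul, ← map_mul, mul_comm a e, map_mul, map_mul,
    mul_left_inj] at hb
  rw [he, hb]

variable [Fintype F] [Fintype K]

/-- The kernel of the torus map has order prime to `r`. -/
theorem hT_ker_coprime {S : SmithData} (hS : T.chkSmith S = true) {r : ℕ} [Fact r.Prime]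
    (hSd : ∀ e ∈ S.d, ¬ r ∣ e) : (Nat.card (T.hT K).ker).Coprime r := by
  classical
  have h := G.card_diagonal (F := K) hS
  have hdiag : Nat.card (T.hT K).ker * Nat.card (D.diagonalSubgroup K) =
      (Fintype.card K - 1) ^ D.rank := by
    rw [G.full.diagonal_eq_range, ← Subgroup.index_ker, Subgroup.card_mul_index, Nat.card_pi,
      Finset.prod_const, Nat.card_eq_fintype_card, Fintype.card_units, Finset.card_univ,
      Fintype.card_fin]
  rw [← hdiag] at h
  have e := Nat.eq_of_mul_eq_mul_right Nat.card_pos h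
  rw [← e, Nat.coprime_comm, (Fact.out : r.Prime).coprime_iff_not_dvd]
  intro hd
  obtain ⟨a, ha, hra⟩ := ((Fact.out : r.Prime).prime.dvd_prod_iff).mp hd
  obtain ⟨e, he, rfl⟩ := List.mem_map.mp ha
  exact hSd e he (hra.trans (Nat.gcd_dvd_right _ _))

/-- An `r`-subgroup embeds in a free module of bounded rank over `ZMod (r ^ v)`. -/
theorem sylow_embeds (f : F →+* K) {q d N r v : ℕ} [Fact r.Prime] (hqF : Fintype.card F = q)
    (hK : Fintype.card K = q ^ d) (hd : 0 < d) (hord : orderOf (q : ZMod r) = d)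
    {S : SmithData} (hS : T.chkSmith S = true) (hSd : ∀ e ∈ S.d, ¬ r ∣ e)
    (hpos : ∀ i : Fin D.rank, S.d.getD i.val 0 ≠ 0)
    (hN : Nat.card (G.full.WJ (List.range D.rank)) = N) (hrN : ¬ r ∣ N) (hrd : ¬ r ∣ d)
    (hv : 0 < v) (hval : padicValNat r (q ^ d - 1) = v)
    (P : Subgroup (D.group F)) (hP : IsPGroup r P) :
    ∃ (k : ℕ) (j : P →* Multiplicative (Fin k → ZMod (r ^ v))),
      k * d.totient ≤ D.rank ∧ Function.Injective j := by
  classical
  have hr := (Fact.out : r.Prime)
  haveI : NeZero (r ^ v) := ⟨pow_ne_zero _ hr.ne_zero⟩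
  obtain ⟨p, hp⟩ := CharP.exists F
  haveI := Fact.mk (CharP.char_is_prime F p)
  have hq1 : 1 < q := hqF ▸ Fintype.one_lt_card
  have hQ1 : 1 ≤ q ^ d := Nat.one_le_pow _ _ (by omega)
  have hQ2 : 1 < q ^ d := Nat.one_lt_pow hd.ne' hq1
  have hdvd : r ^ v ∣ q ^ d - 1 := hval ▸ pow_padicValNat_dvd
  have hndvd : ¬ r ^ (v + 1) ∣ q ^ d - 1 := hval ▸ pow_succ_padicValNat_not_dvd (by omega)
  have hQr : (Fintype.card K : ZMod r) = 1 := by
    have h := (ZMod.natCast_eq_zero_iff (q ^ d - 1) r).mpr ((dvd_pow_self r hv.ne').trans hdvd)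
    rw [Nat.cast_sub hQ1, sub_eq_zero] at h
    rw [hK]; simpa using h
  have hqm : (q : ZMod (r ^ v)) ^ d = 1 := by
    have h := (ZMod.natCast_eq_zero_iff (q ^ d - 1) (r ^ v)).mpr hdvd
    rw [Nat.cast_sub hQ1, sub_eq_zero] at h
    simpa using h
  -- a generator of the `r`-part of the multiplicative group
  obtain ⟨g, hg⟩ : ∃ g : Kˣ, orderOf g = r ^ v := by
    obtain ⟨g0, hg0⟩ := IsCyclic.exists_generator (α := Kˣ)
    have ho : orderOf g0 = q ^ d - 1 := by
      rw [orderOf_eq_card_of_forall_mem_zpowers hg0, Nat.card_units, Nat.card_eq_fintype_card, hK]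
    refine ⟨g0 ^ ((q ^ d - 1) / r ^ v), ?_⟩
    rw [orderOf_pow_of_dvd (Nat.div_ne_zero_iff.mpr ⟨(pow_pos hr.pos _).ne', Nat.le_of_dvd (by omega) hdvd⟩)
      (ho.symm ▸ Nat.div_dvd_of_dvd hdvd), ho, Nat.div_div_self hdvd (by omega)]
  -- exponentials modulo `r ^ v`
  let lz : (Fin D.rank → ZMod (r ^ v)) → (Fin D.rank → ℤ) := fun z i => ((z i).val : ℤ)
  let cast : (Fin D.rank → ℤ) → (Fin D.rank → ZMod (r ^ v)) := fun w i => (w i : ZMod (r ^ v))
  have hcl : ∀ z, cast (lz z) = z := fun z => funext fun i => by simp [cast, lz]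
  have hex : ∀ w w', expo g w = expo g w' ↔ cast w = cast w' := by
    intro w w'
    rw [expo_eq_iff, funext_iff, hg]
    exact forall_congr' fun k => by
      rw [← ZMod.intCast_zmod_eq_zero_iff_dvd, Int.cast_sub, sub_eq_zero]
  let ψ : Multiplicative (Fin D.rank → ZMod (r ^ v)) →* GL D.Idx K :=
    MonoidHom.mk' (fun z => T.hT K (expo g (lz z.toAdd))) fun a b => by
      rw [← map_mul, ← expo_add]
      refine congrArg (T.hT K) ((hex _ _).mpr ?_)
      funext i
      simp [cast, lz]
  have hψ : ∀ w : Fin D.rank → ℤ, ψ (Multiplicative.ofAdd (cast w)) = T.hT K (expo g w) := by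
    intro w
    show T.hT K (expo g (lz (cast w))) = _
    exact congrArg (T.hT K) ((hex _ _).mpr (hcl _))
  have hψinj : Function.Injective ψ := by
    rw [injective_iff_map_eq_one]
    intro z hz
    set c := expo g (lz z.toAdd)
    have h1 : orderOf c ∣ r ^ v := orderOf_dvd_of_pow_eq_one (funext fun i => by
      have hg1 : g ^ r ^ v = 1 := by
        have := pow_orderOf_eq_one g
        rwa [hg] at this
      show (g ^ lz z.toAdd i) ^ r ^ v = 1
      rw [← _root_.zpow_natCast, ← _root_.zpow_mul, mul_comm, _root_.zpow_mul]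
      simp only [_root_.zpow_natCast, hg1, one_pow, _root_.one_zpow])
    have h2 : orderOf c ∣ Nat.card (T.hT K).ker :=
      Subgroup.orderOf_dvd_natCard _ (show c ∈ (T.hT K).ker from hz)
    have hc : c = 1 := orderOf_eq_one_iff.mp (Nat.eq_one_of_dvd_coprimes
      ((G.hT_ker_coprime hS hSd).pow_right v) h2 h1)
    have hc' : expo g (lz z.toAdd) = expo g 0 := hc.trans (funext fun i => (_root_.zpow_zero g).symm)
    have := (hex _ _).mp hc'
    rw [hcl] at this
    rw [← ofAdd_toAdd z, this]
    exact congrArg Multiplicative.ofAdd (funext fun i => by simp [cast])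
  -- the Sylow subgroup in the split torus
  have hψG : ∀ z, ψ z ∈ D.group K := fun z =>
    G.diagonal_le_group (by rw [G.full.diagonal_eq_range]; exact ⟨_, rfl⟩)
  let ψG := ψ.codRestrict (D.group K) hψG
  have hcardψ : Nat.card ψG.range = r ^ (Nat.card (D.group K)).factorization r := by
    rw [← Nat.card_congr (MonoidHom.ofInjective (f := ψG)
      (fun a b e => hψinj (congrArg Subtype.val e))).toEquiv,
      Nat.card_congr Multiplicative.toAdd, Nat.card_pi, Finset.prod_const, Nat.card_zmod,
      Finset.card_univ, Fintype.card_fin, ← pow_mul]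
    congr 1
    set Tsub := (D.diagonalSubgroup K).subgroupOf (D.group K)
    have hidx := G.torus_not_dvd r hQr (hN ▸ hrN)
    have hdiag : Nat.card Tsub = Nat.card (D.diagonalSubgroup K) :=
      Nat.card_congr (Subgroup.subgroupOfEquivOfLe G.diagonal_le_group).toEquiv
    have hd' : Nat.card (T.hT K).ker * Nat.card (D.diagonalSubgroup K) =
        (Fintype.card K - 1) ^ D.rank := by
      rw [G.full.diagonal_eq_range, ← Subgroup.index_ker, Subgroup.card_mul_index, Nat.card_pi,
        Finset.prod_const, Nat.card_eq_fintype_card, Fintype.card_units, Finset.card_univ,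
        Fintype.card_fin]
    rw [← Tsub.card_mul_index, Nat.factorization_mul Nat.card_pos.ne'
      Subgroup.index_ne_zero_of_finite, Finsupp.add_apply,
      Nat.factorization_eq_zero_of_not_dvd hidx, add_zero, hdiag]
    have h := congrArg (fun x => x.factorization r) hd'
    simp only [Nat.factorization_mul Nat.card_pos.ne' Nat.card_pos.ne', Finsupp.add_apply,
      Nat.factorization_pow, Finsupp.smul_apply, smul_eq_mul] at h
    rw [Nat.factorization_eq_zero_of_not_dvd (fun hd => hr.coprime_iff_not_dvd.mp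
      (G.hT_ker_coprime (K := K) hS hSd).symm hd), zero_add, hK,
      Nat.factorization_def (q ^ d - 1) hr, hval] at h
    rw [h, mul_comm]
  let S0 : Sylow r (D.group K) := Sylow.ofCard ψG.range hcardψ
  -- the embedding into the larger group
  have hφG : ∀ x : D.group F, glMap D f x ∈ D.group K := fun x => G.glMap_group f x.2
  let φ : D.group F →* D.group K :=
    ((glMap D f).comp (D.group F).subtype).codRestrict _ hφG
  obtain ⟨Q, hQle⟩ := (hP.map φ).exists_le_sylow
  obtain ⟨a, ha⟩ := MulAction.exists_smul_eq (D.group K) S0 Q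
  have hz : ∀ x : P, ∃ z, glMap D f ((x : D.group F) : GL D.Idx F) =
      (a : GL D.Idx K) * ψ z * (a : GL D.Idx K)⁻¹ := by
    intro x
    have hxQ : φ x ∈ ((a • S0 : Sylow r (D.group K)) : Subgroup (D.group K)) := by
      rw [ha]; exact hQle (Subgroup.mem_map_of_mem _ x.2)
    rw [Sylow.coe_subgroup_smul, Subgroup.mem_smul_pointwise_iff_exists] at hxQ
    obtain ⟨y, hy, hxy⟩ := hxQ
    obtain ⟨z, rfl⟩ : ∃ z, ψG z = y := hy
    refine ⟨z, ?_⟩
    have := congrArg Subtype.val hxy
    rw [MulAut.smul_def, MulAut.conj_apply] at this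
    exact this.symm
  choose z hz using hz
  -- the field automorphism
  haveI : CharP K p := (f.charP_iff_charP p).mp hp
  haveI : ExpChar K p := ExpChar.prime (CharP.char_is_prime F p)
  set σ : K →+* K := iterateFrobenius K p (Nat.log p q) with hσdef
  obtain ⟨e, -, he⟩ := FiniteField.card F p
  have hlog : p ^ Nat.log p q = q := by
    rw [← hqF, he, Nat.log_pow (CharP.char_is_prime F p).one_lt]
  have hσ : ∀ t : K, σ t = t ^ q := fun t => by rw [hσdef, iterateFrobenius_def, hlog]
  have hσf : σ.comp f = f := RingHom.ext fun t => by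
    rw [RingHom.comp_apply, hσ, ← map_pow, ← hqF, FiniteField.pow_card]
  have hσexp : ∀ w : Fin D.rank → ℤ,
      glMap D σ (T.hT K (expo g w)) = T.hT K (expo g ((q : ℤ) • w)) := by
    intro w
    rw [G.glMap_hT]
    refine congrArg (T.hT K) (funext fun i => Units.ext ?_)
    show σ ((g ^ w i : Kˣ) : K) = ((g ^ ((q : ℤ) • w) i : Kˣ) : K)
    rw [hσ, Pi.smul_apply, smul_eq_mul, mul_comm, _root_.zpow_mul, _root_.zpow_natCast, Units.val_pow_eq_pow_val]
  set y := (a : GL D.Idx K)⁻¹ * glMap D σ a with hy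
  have hyG : y ∈ D.group K := mul_mem (inv_mem a.2) (G.glMap_group σ a.2)
  obtain ⟨L, hL⟩ := G.fusion_word hyG
  set A := (q : ZMod (r ^ v)) • (T.vM L).map (Int.castRingHom (ZMod (r ^ v))) with hA
  have hfix : ∀ x : P, A *ᵥ (z x).toAdd = (z x).toAdd := by
    intro x
    set w := lz (z x).toAdd
    have hw : ψ (z x) = T.hT K (expo g w) := rfl
    have h := congrArg (glMap D σ) (hz x)
    rw [glMap_comp, hσf, map_mul, map_mul, map_inv, hz x, hw, hσexp] at h
    have h' : y * T.hT K (expo g ((q : ℤ) • w)) = T.hT K (expo g w) * y := by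
      rw [hy]
      calc (a : GL D.Idx K)⁻¹ * glMap D σ a * T.hT K (expo g ((q : ℤ) • w))
          = (a : GL D.Idx K)⁻¹ * (glMap D σ a * T.hT K (expo g ((q : ℤ) • w)) * (glMap D σ a)⁻¹) *
              glMap D σ a := by group
        _ = _ := by rw [← h]; group
    have h2 := hL _ _ h'
    rw [G.nw_expo] at h2
    have h3 : ψ (Multiplicative.ofAdd (cast (T.vM L *ᵥ ((q : ℤ) • w)))) =
        ψ (Multiplicative.ofAdd (cast w)) := by
      rw [hψ, hψ]
      exact mul_right_cancel h2
    have h4 := Multiplicative.ofAdd.injective (hψinj h3)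
    rw [show cast w = (z x).toAdd from hcl _] at h4
    refine Eq.trans ?_ h4
    funext i
    show (A *ᵥ (z x).toAdd) i = ((T.vM L *ᵥ ((q : ℤ) • w)) i : ZMod (r ^ v))
    rw [hA, smul_mulVec, Matrix.mulVec_smul, Pi.smul_apply, Pi.smul_apply, smul_eq_mul, smul_eq_mul,
      Int.cast_mul, Int.cast_natCast, ← eq_intCast (Int.castRingHom (ZMod (r ^ v))),
      RingHom.map_mulVec]
    congr 2
    exact (hcl _).symm
  obtain ⟨k, Φ, hk, hΦ, hΦr⟩ := Homocyclic.exists_basis (hN ▸ Nat.card_pos) hrN hd hrd (T.vM L)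
    (hN ▸ G.vM_pow_card_smith hS hpos L) hv hqm hord
  choose b hb using fun x => hΦr _ (hfix x)
  refine ⟨k, MonoidHom.mk' (fun x => Multiplicative.ofAdd (b x)) fun x x' => ?_, hk,
    fun x x' h => ?_⟩
  · refine (congrArg Multiplicative.ofAdd (hΦ ?_)).trans (ofAdd_add _ _)
    rw [map_add, hb, hb, hb, ← toAdd_mul]
    refine congrArg Multiplicative.toAdd (hψinj ?_)
    have h := hz (x * x')
    rw [Subgroup.coe_mul, Subgroup.coe_mul, map_mul, hz x, hz x'] at h
    have e : (a : GL D.Idx K) * (ψ (z x) * ψ (z x')) * (a : GL D.Idx K)⁻¹ =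
        a * ψ (z (x * x')) * (a : GL D.Idx K)⁻¹ := by rw [← h]; group
    rw [map_mul]
    exact (mul_left_cancel (mul_right_cancel e)).symm
  · have e : z x = z x' := Multiplicative.toAdd.injective (by
      rw [← hb x, ← hb x']
      exact congrArg Φ (Multiplicative.ofAdd.injective h))
    refine Subtype.ext (Subtype.ext (glMap_injective f ?_))
    rw [hz, hz, e]

end Tab.Good

end CfsgLib.Chev
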