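import Cfsg.Agent.Chev.TwistedF4
import Cfsg.Agent.Chev.CellTorus
import Mathlib.GroupTheory.Sylow
import Mathlib.GroupTheory.SpecificGroups.Alternating
import Mathlib.GroupTheory.Perm.Cycle.Concrete

/-!
Sections of `²F₄(q)` isomorphic to alternating groups: the seven-part lies in the split torus, whose
automizer is a two-group, so elements of order three never act faithfully on seven-sections.
-/

set_option autoImplicit false
set_option linter.style.haveILetI false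

namespace CfsgLib.Chev

open Cfsg.Lie Matrix
open scoped MatrixGroups

namespace F4Tw

open Tab

theorem two_cube : ((2 : ℕ) : ZMod 7) ^ 3 = 1 := by decide

theorem seven_free : ∀ x : ZMod 7, x ^ 3 = 1 → ¬ x = 1 →
    x ^ 12 * (x - 1) * (x ^ 3 + 1) * (x ^ 4 - 1) * (x ^ 6 + 1) ≠ 0 := by decide

theorem seven_cofactor : (1 : ZMod 7) * (1 + 1) * (1 + 1 + 1 + 1) * (1 + 1) ≠ 0 := by decide

theorem seven_square : ∀ z : ZMod 7, z ≠ 0 → ¬ z = 2 ^ 16 * z := by decide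

namespace Ctx

variable {K : Type*} [Field K] [Fintype K] {m : ℕ} (C : Ctx K m)
include C

theorem seven_part (h7 : 7 ∣ Nat.card C.Z.G1) :
    (Nat.card C.Z.G1).factorization 7 = (Nat.card C.Z.H0).factorization 7 := by
  haveI := Fact.mk (show Nat.Prime 7 by norm_num)
  rw [C.card_group] at h7 ⊢
  rw [C.card_torus]
  set q := 2 ^ (2 * m + 1) with hq
  have hq1 : 1 ≤ q := Nat.one_le_pow _ _ (by norm_num)
  have h4 : 1 ≤ q ^ 4 := Nat.one_le_pow _ _ hq1
  have hx3 : (q : ZMod 7) ^ 3 = 1 := by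
    rw [hq, Nat.cast_pow, ← pow_mul, mul_comm, pow_mul, two_cube,
      one_pow]
  have h7' : (q : ZMod 7) = 1 := by
    by_contra hne
    have e := (CharP.cast_eq_zero_iff (ZMod 7) 7 _).mpr h7
    push_cast [Nat.cast_sub hq1, Nat.cast_sub h4] at e
    exact seven_free _ hx3 hne e
  set R := q ^ 12 * (q ^ 3 + 1) * (q ^ 3 + q ^ 2 + q + 1) * (q ^ 6 + 1)
  have hR : ¬ 7 ∣ R := fun hd => by
    have e := (CharP.cast_eq_zero_iff (ZMod 7) 7 _).mpr hd
    simp only [R, Nat.cast_mul, Nat.cast_add, Nat.cast_pow, Nat.cast_one, h7', one_pow] at e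
    exact seven_cofactor e
  have e : q ^ 12 * (q - 1) * (q ^ 3 + 1) * (q ^ 4 - 1) * (q ^ 6 + 1) = R * (q - 1) ^ 2 := by
    zify [hq1, h4]
    simp only [R]
    push_cast
    ring
  rw [e, Nat.factorization_mul (fun h => hR (by rw [h]; exact dvd_zero 7))
    (pow_ne_zero 2 (by have := Nat.le_self_pow (show 2 * m + 1 ≠ 0 by omega) 2; omega)),
    Finsupp.add_apply, Nat.factorization_eq_zero_of_not_dvd hR, zero_add]

/-- A seven-group is normalised only by elements acting on it as elements of a two-group. -/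
theorem seven_normalizer (Q : Subgroup C.Z.G1) (hQ : IsPGroup 7 Q) {h : C.Z.G1}
    (hh : ∀ x ∈ Q, h * x * h⁻¹ ∈ Q) : ∀ x ∈ Q, Commute (h ^ 16) x := by
  classical
  haveI := Fact.mk (show Nat.Prime 7 by norm_num)
  by_cases h7 : 7 ∣ Nat.card C.Z.G1
  swap
  · intro x hx
    obtain ⟨k, hk⟩ := hQ ⟨x, hx⟩
    have h1 : orderOf x ∣ 7 ^ k := orderOf_dvd_of_pow_eq_one (congrArg Subtype.val hk)
    obtain ⟨j, -, hj⟩ := (Nat.dvd_prime_pow (by norm_num)).mp h1
    have : j = 0 := by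
      by_contra hj0
      exact h7 ((dvd_pow_self 7 hj0).trans (hj ▸ orderOf_dvd_natCard x))
    rw [this, pow_zero, orderOf_eq_one_iff] at hj
    rw [hj]
    exact Commute.one_right _
  have hle : C.Z.H0 ≤ C.Z.G1 := by
    rw [C.H0_eq]
    rintro _ ⟨p, rfl⟩
    exact C.h_mem p
  obtain ⟨S⟩ : Nonempty (Sylow 7 (C.Z.H0.subgroupOf C.Z.G1)) := inferInstance
  set P : Subgroup C.Z.G1 := (S : Subgroup _).map (C.Z.H0.subgroupOf C.Z.G1).subtype
  have hP : IsPGroup 7 P := S.2.map _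
  have hcard : Nat.card P = 7 ^ (Nat.card C.Z.G1).factorization 7 := by
    rw [Subgroup.card_subtype, S.card_eq_multiplicity,
      Nat.card_congr (Subgroup.subgroupOfEquivOfLe hle).toEquiv, C.seven_part h7]
  let PS : Sylow 7 C.Z.G1 := Sylow.ofCard P hcard
  obtain ⟨Q', hQQ'⟩ := hQ.exists_le_sylow
  obtain ⟨g, hg⟩ := MulAction.exists_smul_eq C.Z.G1 Q' PS
  have hmove : ∀ x ∈ Q, ((g * x * g⁻¹ : C.Z.G1) : GL chevF4.Idx K) ∈ C.Z.H0 := fun x hx => by
    have h1 : g * x * g⁻¹ ∈ ((g • Q' : Sylow 7 C.Z.G1) : Subgroup C.Z.G1) := by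
      rw [Sylow.coe_subgroup_smul]
      exact ⟨x, hQQ' hx, rfl⟩
    rw [hg] at h1
    obtain ⟨y, -, hy⟩ := (h1 : g * x * g⁻¹ ∈ P)
    rw [← hy]
    exact y.2
  obtain ⟨n, hn, hmem⟩ := CfsgLib.BN.bruhat (C.Z.bnPair C.xNontrivial) (g * h * g⁻¹)
  obtain ⟨b, hb, b', hb', e⟩ := (CfsgLib.BN.mem_cosetOf _).mp hmem
  have hbB : (b : GL chevF4.Idx K) ∈ chevF4.borelSubgroup K := C.Z.mem_B1'.mp hb
  have hbB' : (b' : GL chevF4.Idx K) ∈ chevF4.borelSubgroup K := C.Z.mem_B1'.mp hb'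
  have hnM : (n : GL chevF4.Idx K) ∈ chevF4.monomialSubgroup K := C.Z.mem_N1'.mp hn
  have key : ∀ k : ℕ, ∀ x ∈ Q, g * (h ^ k * x * (h ^ k)⁻¹) * g⁻¹ =
      n ^ k * (g * x * g⁻¹) * (n ^ k)⁻¹ := by
    have one : ∀ x ∈ Q, g * (h * x * h⁻¹) * g⁻¹ = n * (g * x * g⁻¹) * n⁻¹ := by
      intro x hx
      refine Subtype.ext (good_F4.cell_torus hbB hnM hbB' (C.Z.H0_diag (hmove x hx))
        (C.Z.H0_diag (hmove _ (hh x hx))) ?_).symm
      simp only [← Subgroup.coe_mul, ← Subgroup.coe_inv]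
      refine congrArg Subtype.val ?_
      rw [← e]
      group
    intro k
    induction k with
    | zero => intro x _; simp
    | succ k ih =>
      intro x hx
      rw [pow_succ, pow_succ, show h ^ k * h * x * (h ^ k * h)⁻¹ =
        h ^ k * (h * x * h⁻¹) * (h ^ k)⁻¹ by group, ih _ (hh x hx), one x hx]
      group
  obtain ⟨φ, -, hker⟩ := C.exists_weyl
  let ν : (chevF4.monomialSubgroup K ⊓ C.Z.G1 : Subgroup (GL chevF4.Idx K)) :=
    ⟨(n : GL chevF4.Idx K), Subgroup.mem_inf.mpr ⟨hnM, n.2⟩⟩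
  have hn16 : ((n ^ 16 : C.Z.G1) : GL chevF4.Idx K) ∈ chevF4.diagonalSubgroup K := by
    have h1 : ν ^ 16 ∈ φ.ker := by
      rw [MonoidHom.mem_ker, map_pow, show (16 : ℕ) = Nat.card (DihedralGroup 8) by
        rw [DihedralGroup.nat_card], pow_card_eq_one']
    rw [hker, Subgroup.mem_subgroupOf] at h1
    rw [Subgroup.coe_pow]
    simpa [ν] using h1.1
  intro x hx
  have e16 := key 16 x hx
  have hc : n ^ 16 * (g * x * g⁻¹) = g * x * g⁻¹ * n ^ 16 := by
    refine Subtype.ext ?_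
    obtain ⟨c, hc⟩ : ∃ c, F4Data.tab.hT K c = ((n ^ 16 : C.Z.G1) : GL chevF4.Idx K) := by
      rw [good_F4.full.diagonal_eq_range] at hn16; exact hn16
    obtain ⟨d, hd⟩ : ∃ d, F4Data.tab.hT K d = ((g * x * g⁻¹ : C.Z.G1) : GL chevF4.Idx K) := by
      have := C.Z.H0_diag (hmove x hx)
      rw [good_F4.full.diagonal_eq_range] at this; exact this
    rw [Subgroup.coe_mul, Subgroup.coe_mul _ (g * x * g⁻¹), ← hc, ← hd, ← map_mul, ← map_mul,
      mul_comm]
  rw [hc, mul_inv_cancel_right, mul_left_inj, mul_right_inj] at e16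
  exact mul_inv_eq_iff_eq_mul.mp e16

theorem alt_section (r : ℕ) (H : Subgroup C.Z.G1) (π : H →* alternatingGroup (Fin r))
    (hπ : Function.Surjective π) : r ≤ 6 := by
  classical
  by_contra hr
  haveI := Fact.mk (show Nat.Prime 7 by norm_num)
  let ι : Equiv.Perm (Fin 7) →* Equiv.Perm (Fin r) :=
    Equiv.Perm.viaEmbeddingHom (Fin.castLEEmb (show 7 ≤ r by omega))
  have hι : Function.Injective ι := Equiv.Perm.viaEmbeddingHom_injective _
  have hsign : ∀ s, Equiv.Perm.sign (ι s) = Equiv.Perm.sign s := fun s => by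
    show Equiv.Perm.sign (Equiv.Perm.viaEmbedding s _) = _
    rw [Equiv.Perm.viaEmbedding]
    convert Equiv.Perm.sign_extendDomain s _
  set a7 : Equiv.Perm (Fin 7) := finRotate 7
  set b7 : Equiv.Perm (Fin 7) :=
    Equiv.swap 1 2 * Equiv.swap 2 4 * (Equiv.swap 3 6 * Equiv.swap 6 5)
  have hab : b7 * a7 * b7⁻¹ = a7 ^ 2 := by decide +kernel
  have ha7 : a7 ^ 7 = 1 ∧ a7 ≠ 1 ∧ a7 ^ (2 ^ 16) ≠ a7 := by
    refine ⟨by decide +kernel, by decide +kernel, fun e => ?_⟩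
    rw [show (2 : ℕ) ^ 16 = 7 * 9362 + 2 by norm_num, pow_add, pow_mul,
      show a7 ^ 7 = 1 by decide +kernel, one_pow, one_mul] at e
    revert e
    decide +kernel
  let a : alternatingGroup (Fin r) := ⟨ι a7, by
    rw [Equiv.Perm.mem_alternatingGroup, hsign]; decide +kernel⟩
  let b : alternatingGroup (Fin r) := ⟨ι b7, by
    rw [Equiv.Perm.mem_alternatingGroup, hsign]; decide +kernel⟩
  have hba : b * a * b⁻¹ = a ^ 2 := Subtype.ext (by
    show ι b7 * ι a7 * (ι b7)⁻¹ = ι a7 ^ 2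
    rw [← map_inv, ← map_mul, ← map_mul, hab, map_pow])
  have ha : orderOf a = 7 := orderOf_eq_prime
    (Subtype.ext (by show ι a7 ^ 7 = 1; rw [← map_pow, ha7.1, map_one]))
    (fun e => ha7.2.1 (hι (by rw [map_one]; exact congrArg Subtype.val e)))
  -- a preimage of seven-power order
  obtain ⟨x0, hx0⟩ := hπ a
  set o := orderOf x0
  set s := o / 7 ^ o.factorization 7
  have ho : 0 < o := orderOf_pos x0
  have hs : ¬ 7 ∣ s := Nat.not_dvd_ordCompl (by norm_num) ho.ne'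
  set x := x0 ^ s
  have hπx : π x = a ^ s := by rw [map_pow, hx0]
  have hx7 : x ^ 7 ^ o.factorization 7 = 1 := by
    rw [← pow_mul, Nat.div_mul_cancel (Nat.ordProj_dvd o 7), pow_orderOf_eq_one]
  set M : Subgroup H := (Subgroup.zpowers a).comap π
  have hxM : x ∈ M := by
    rw [Subgroup.mem_comap, hπx]; exact pow_mem (Subgroup.mem_zpowers a) s
  obtain ⟨Q, hQ⟩ := (show IsPGroup 7 (Subgroup.zpowers (⟨x, hxM⟩ : M)) from
    IsPGroup.of_card_dvd_pow (n := o.factorization 7) (by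
      rw [Nat.card_zpowers]
      exact orderOf_dvd_of_pow_eq_one (Subtype.ext hx7))).exists_le_sylow
  have hxQ : (⟨x, hxM⟩ : M) ∈ (Q : Subgroup M) := hQ (Subgroup.mem_zpowers _)
  obtain ⟨h0, hh0⟩ := hπ b
  have hM0 : ∀ y ∈ M, h0 * y * h0⁻¹ ∈ M := fun y hy => by
    rw [Subgroup.mem_comap] at hy ⊢
    obtain ⟨k, hk⟩ := Subgroup.mem_zpowers_iff.mp hy
    rw [map_mul, map_mul, map_inv, hh0, ← hk, ← conj_zpow, hba]
    exact Subgroup.zpow_mem _ (pow_mem (Subgroup.mem_zpowers a) 2) k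
  let c0 : M →* M := MonoidHom.mk' (fun y => ⟨h0 * y * h0⁻¹, hM0 _ y.2⟩) fun y z =>
    Subtype.ext (by simp [mul_assoc])
  have hc0 : Function.Injective c0 := fun y z e => by
    have := congrArg Subtype.val e
    simpa [c0] using this
  have hcard : Nat.card ((Q : Subgroup M).map c0) = 7 ^ (Nat.card M).factorization 7 := by
    rw [← Q.card_eq_multiplicity]
    exact (Nat.card_congr ((Q : Subgroup M).equivMapOfInjective c0 hc0).toEquiv).symm
  obtain ⟨m0, hm0⟩ := MulAction.exists_smul_eq M Q (Sylow.ofCard _ hcard)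
  set h : H := (m0 : H)⁻¹ * h0
  obtain ⟨k, hk⟩ := Subgroup.mem_zpowers_iff.mp (Subgroup.mem_comap.mp m0.2)
  have hha : π h * a * (π h)⁻¹ = a ^ 2 := by
    rw [map_mul, map_inv, hh0, ← hk]
    calc (a ^ k)⁻¹ * b * a * ((a ^ k)⁻¹ * b)⁻¹ = (a ^ k)⁻¹ * (b * a * b⁻¹) * a ^ k := by group
      _ = a ^ 2 := by rw [hba]; group
  let QG : Subgroup C.Z.G1 := (((Q : Subgroup M).map M.subtype)).map H.subtype
  have hnorm : ∀ y ∈ QG, (h : C.Z.G1) * y * (h : C.Z.G1)⁻¹ ∈ QG := by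
    rintro _ ⟨_, ⟨y, hy, rfl⟩, rfl⟩
    have h1 : c0 y ∈ ((m0 • Q : Sylow 7 M) : Subgroup M) := by
      rw [hm0]; exact ⟨y, hy, rfl⟩
    rw [Sylow.coe_subgroup_smul] at h1
    obtain ⟨z, hz, hzy⟩ := h1
    refine ⟨_, ⟨z, hz, rfl⟩, ?_⟩
    have e : z = m0⁻¹ * c0 y * m0 := by
      rw [← hzy]
      simp [MulAut.smul_def, mul_assoc]
    rw [e]
    simp [h, c0, mul_assoc]
  have hQG : IsPGroup 7 QG := (Q.2.map _).map _
  have hcomm := C.seven_normalizer QG hQG hnorm (x : C.Z.G1) ⟨_, ⟨_, hxQ, rfl⟩, rfl⟩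
  have h16 : Commute (h ^ 16) x := Subtype.ext hcomm
  have h16' := congrArg π h16.eq
  rw [map_mul, map_mul, map_pow, hπx] at h16'
  have hit : ∀ j : ℕ, π h ^ j * a ^ s * (π h ^ j)⁻¹ = a ^ (2 ^ j * s) := by
    intro j
    induction j with
    | zero => simp
    | succ j ih =>
      rw [pow_succ' (π h), show π h * π h ^ j * a ^ s * (π h * π h ^ j)⁻¹ =
        π h * (π h ^ j * a ^ s * (π h ^ j)⁻¹) * (π h)⁻¹ by group, ih, ← conj_pow, hha, ← pow_mul]
      ring_nf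
  have e16 := hit 16
  rw [h16', mul_inv_cancel_right, pow_eq_pow_iff_modEq, ha] at e16
  have e2 := (ZMod.natCast_eq_natCast_iff _ _ _).mpr e16
  push_cast at e2
  have hs0 : (s : ZMod 7) ≠ 0 := fun h => hs ((CharP.cast_eq_zero_iff (ZMod 7) 7 s).mp h)
  exact seven_square _ hs0 e2

end Ctx

end F4Tw

end CfsgLib.Chev
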