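import Cfsg.Agent.Chev.TwistedF4
import Cfsg.Agent.Chev.CharTwoCollect

/-!
The twelve coordinates of the unipotent subgroup of `²F₄(q)` along the eight rays.
-/

set_option autoImplicit false
set_option linter.style.haveILetI false

namespace CfsgLib.Chev.F4Tw

open Cfsg.Lie Tab CfsgLib.Chev.CharTwo
open scoped MatrixGroups

/-- The positive roots, ray after ray. -/
def rayOrd : List ℕ :=
  [33, 24, 34, 26, 36, 42, 38, 43, 29, 41, 44, 47, 39, 45, 35, 31, 40, 46, 37, 32, 27, 25, 28, 30]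

/-- The exponent list of a single variable. -/
def unit1 (i : ℕ) : List ℕ := List.replicate i 0 ++ [1]

/-- The exponent list of a product of two variables. -/
def unit2 (i j : ℕ) : List ℕ := comb 1 1 (unit1 i) (unit1 j)

/-- The letters of a pair ray with parameter `i`. -/
def pairW (on : List ℕ) (a b i : ℕ) : List (ℕ × List ℕ) :=
  if on.contains i then [(a, unit1 (2 * i + 1)), (b, unit1 (2 * i))] else []

/-- The letters of a quadruple ray with parameters `i`, `i + 1`. -/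
def quadW (on : List ℕ) (a b c d i : ℕ) : List (ℕ × List ℕ) :=
  (if on.contains i then
    [(a, unit1 (2 * i + 1)), (b, unit1 (2 * i)), (c, unit2 (2 * i + 1) (2 * i))] else []) ++
    (if on.contains (i + 1) then [(c, unit1 (2 * i + 2)), (d, unit1 (2 * i + 3))] else [])

/-- The word of an element whose parameters outside `on` vanish. -/
def rayW (on : List ℕ) : List (ℕ × List ℕ) :=
  pairW on 33 24 0 ++ quadW on 34 26 36 42 1 ++ pairW on 38 43 3 ++ quadW on 29 41 44 47 4 ++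
    pairW on 39 45 6 ++ quadW on 35 31 40 46 7 ++ pairW on 37 32 9 ++ quadW on 27 25 28 30 10

/-- Move the variables of a word to the second vector of parameters. -/
def second (l : List (ℕ × List ℕ)) : List (ℕ × List ℕ) :=
  l.map fun x => (x.1, List.replicate 24 0 ++ x.2)

/-- Pad an exponent list to the variables of one vector. -/
def pad24 (e : List ℕ) : List ℕ := e ++ List.replicate (24 - e.length) 0

/-- The image of a word under the `J`th reflection, with a coefficient for every root. -/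
def reflW (J : ℕ) (l : List (ℕ × List ℕ)) : List (ℕ × List ℕ) :=
  l.map fun x => (F4Data.tab.wordT (words.getD J []) x.1, pad24 x.2 ++ unit1 x.1)

theorem rayOrd_chk : rayOrd.Nodup ∧
    (∀ i < rayOrd.length, (rayOrd.drop i).all (fun r => decide (r < 48 ∧ 24 ≤ r) &&
      (rayOrd.drop i).all fun s => (F4Data.tab.commT r s).all fun c => (rayOrd.drop i).contains c.1) = true) ∧
    rayOrd.all (fun r => (F4Data.tab.commT r r).all fun c => Nat.beq c.1 r) = true := by
  decide +kernel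

theorem quadRays : chkQuad 34 26 36 42 = true ∧ chkQuad 29 41 44 47 = true ∧
    chkQuad 35 31 40 46 = true ∧ chkQuad 27 25 28 30 = true := by
  decide +kernel

theorem pairRays : ∀ p ∈ [(33, 24), (38, 43), (39, 45), (37, 32)], (p.1 < 48 ∧ p.2 < 48) ∧
    (mapAt graphMapF4 p.1 = (p.2, 1, 2) ∧ mapAt graphMapF4 p.2 = (p.1, 1, 1)) ∧
      F4Data.tab.chkCommute 2 p.2 p.1 = true := by
  decide +kernel

theorem rayOrd_pos {r : ℕ} (hr : r ∈ rayOrd) : IsPos chevF4 r := by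
  have h : ∀ r ∈ rayOrd, r < 48 ∧ 24 ≤ r := by decide
  exact ⟨(h r hr).1, show 48 ≤ 2 * r by have := (h r hr).2; omega⟩

theorem closed_drop (i : ℕ) (hi : i < rayOrd.length) :
    F4Data.tab.Closed {r | r ∈ rayOrd.drop i} := by
  have h := rayOrd_chk.2.1 i hi
  simp only [List.all_eq_true, Bool.and_eq_true, decide_eq_true_eq] at h
  exact ⟨fun r hr => rayOrd_pos (List.mem_of_mem_drop hr),
    fun r hr s hs c hc => List.contains_iff_mem.mp ((h r hr).2 s hs c hc)⟩

theorem closed_one (r : ℕ) (hr : r ∈ rayOrd) : F4Data.tab.Closed {s | s = r} := by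
  have h := List.all_eq_true.mp rayOrd_chk.2.2 r hr
  simp only [List.all_eq_true] at h
  refine ⟨fun s (hs : s = r) => hs ▸ rayOrd_pos hr, fun s (hs : s = r) t (ht : t = r) c hc => ?_⟩
  subst hs ht
  exact Nat.eq_of_beq_eq_true (h c hc)

namespace Ctx

variable {K : Type*} [Field K] [Fintype K] {m : ℕ} (C : Ctx K m)
include C

theorem two_eq : (2 : K) = 0 := by rw [← one_add_one_eq_two]; exact C.add_self 1

/-- The product along the rays. -/
noncomputable def NF (_C : Ctx K m) (f : ℕ → K) : GL chevF4.Idx K :=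
  (rayOrd.map fun r => good_F4.full.x r (f r)).prod

theorem NF_inj {f g : ℕ → K} (h : C.NF f = C.NF g) : ∀ r ∈ rayOrd, f r = g r :=
  prod_inj good_F4 rayOrd closed_drop closed_one rayOrd_chk.1 f g h

theorem NF_mem (f : ℕ → K) : C.NF f ∈ good_F4.US K {r | IsPos chevF4 r} :=
  Subgroup.list_prod_mem _ fun x hx => by
    obtain ⟨r, hr, rfl⟩ := List.mem_map.1 hx
    exact good_F4.x_mem_US (show r ∈ {r | IsPos chevF4 r} from rayOrd_pos hr) _

theorem NF_surj {g : GL chevF4.Idx K} (hg : g ∈ good_F4.US K {r | IsPos chevF4 r}) :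
    ∃ f, g = C.NF f := by
  classical
  let ext0 : (Fin 24 → K) → ℕ → K := fun v r =>
    if h : rayOrd.idxOf r < 24 then v ⟨_, h⟩ else 0
  let F : (Fin 24 → K) → good_F4.US K {r | IsPos chevF4 r} := fun v => ⟨_, C.NF_mem (ext0 v)⟩
  have hF : Function.Injective F := fun v w e => by
    have hget : ∀ i : Fin 24, rayOrd.getD i.val 0 ∈ rayOrd ∧ rayOrd.idxOf (rayOrd.getD i.val 0) = i.val := by
      decide
    funext i
    have := C.NF_inj (congrArg Subtype.val e) _ (hget i).1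
    simp only [ext0, (hget i).2, i.isLt, dite_true] at this
    exact this
  have hc : Nat.card (Fin 24 → K) = Nat.card (good_F4.US K {r | IsPos chevF4 r}) := by
    rw [good_F4.card_US good_F4.closed_pos, good_F4.card_pos, show chevF4.nroots / 2 = 24 from rfl,
      Nat.card_fun, Nat.card_eq_fintype_card (α := Fin 24), Fintype.card_fin]
  obtain ⟨v, hv⟩ := ((Nat.bijective_iff_injective_and_card F).mpr ⟨hF, hc⟩).2 ⟨g, hg⟩
  exact ⟨_, (congrArg Subtype.val hv).symm⟩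

/-- The twisted element with parameters `(a, p|P, c, r|R, e, s|S, g, h|u)`. -/
noncomputable def PR (C : Ctx K m) (v : Fin 12 → K) : GL chevF4.Idx K :=
  C.U0 33 24 (v 0) * C.U1 34 26 36 42 (v 1) (v 2) * C.U0 38 43 (v 3) *
    C.U1 29 41 44 47 (v 4) (v 5) * C.U0 39 45 (v 6) * C.U1 35 31 40 46 (v 7) (v 8) *
    C.U0 37 32 (v 9) * C.U1 27 25 28 30 (v 10) (v 11)

/-- The coordinates of a twisted element. -/
def crd (_C : Ctx K m) (v : Fin 12 → K) : ℕ → K
  | 33 => v 0 ^ 2 ^ m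
  | 24 => v 0
  | 34 => v 1 ^ 2 ^ m
  | 26 => v 1
  | 36 => v 1 ^ (2 ^ m + 1) + v 2
  | 42 => v 2 ^ (2 * 2 ^ m)
  | 38 => v 3 ^ 2 ^ m
  | 43 => v 3
  | 29 => v 4 ^ 2 ^ m
  | 41 => v 4
  | 44 => v 4 ^ (2 ^ m + 1) + v 5
  | 47 => v 5 ^ (2 * 2 ^ m)
  | 39 => v 6 ^ 2 ^ m
  | 45 => v 6
  | 35 => v 7 ^ 2 ^ m
  | 31 => v 7
  | 40 => v 7 ^ (2 ^ m + 1) + v 8
  | 46 => v 8 ^ (2 * 2 ^ m)
  | 37 => v 9 ^ 2 ^ m
  | 32 => v 9
  | 27 => v 10 ^ 2 ^ m
  | 25 => v 10
  | 28 => v 10 ^ (2 ^ m + 1) + v 11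
  | 30 => v 11 ^ (2 * 2 ^ m)
  | _ => 0

theorem PR_eq_NF (v : Fin 12 → K) : C.PR v = C.NF (C.crd v) := by
  simp only [PR, NF, rayOrd, List.map_cons, List.map_nil, List.prod_cons, List.prod_nil, mul_one,
    U0, U1, P4, mul_assoc, crd]

/-- The parameters read off from coordinates. -/
def par (_C : Ctx K m) (f : ℕ → K) : Fin 12 → K :=
  ![f 24, f 26, f 36 + f 34 * f 26, f 43, f 41, f 44 + f 29 * f 41, f 45, f 31,
    f 40 + f 35 * f 31, f 32, f 25, f 28 + f 27 * f 25]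

theorem par_crd (v : Fin 12 → K) : C.par (C.crd v) = v := by
  funext i
  fin_cases i <;>
    simp [par, crd, pow_succ, add_assoc, add_comm (v 2), add_comm (v 5), add_comm (v 8),
      add_comm (v 11)] <;>
    first
    | linear_combination v 1 ^ 2 ^ m * v 1 * C.two_eq
    | linear_combination v 4 ^ 2 ^ m * v 4 * C.two_eq
    | linear_combination v 7 ^ 2 ^ m * v 7 * C.two_eq
    | linear_combination v 10 ^ 2 ^ m * v 10 * C.two_eq

theorem PR_fixed (v : Fin 12 → K) : C.PR v ∈ C.Φ.Fix := by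
  obtain ⟨q1, q2, q3, q4⟩ := quadRays
  have hp := fun p hp => pairRays p hp
  exact mul_mem (mul_mem (mul_mem (mul_mem (mul_mem (mul_mem (mul_mem
    (C.pair_fixed (hp (33, 24) (by simp)).1 (hp _ (by simp)).2.1 (hp _ (by simp)).2.2 _)
    (C.quad_fixed q1 _ _))
    (C.pair_fixed (hp (38, 43) (by simp)).1 (hp _ (by simp)).2.1 (hp _ (by simp)).2.2 _))
    (C.quad_fixed q2 _ _))
    (C.pair_fixed (hp (39, 45) (by simp)).1 (hp _ (by simp)).2.1 (hp _ (by simp)).2.2 _))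
    (C.quad_fixed q3 _ _))
    (C.pair_fixed (hp (37, 32) (by simp)).1 (hp _ (by simp)).2.1 (hp _ (by simp)).2.2 _))
    (C.quad_fixed q4 _ _)

theorem PR_mem (v : Fin 12 → K) : C.PR v ∈ C.Z.U1 :=
  Subgroup.mem_inf.mpr ⟨C.PR_fixed v, by
    rw [good_F4.posUnipotent_eq, C.PR_eq_NF]; exact C.NF_mem _⟩

/-- An element of `U` is determined by its coordinates. -/
theorem eq_PR_of_NF {g : GL chevF4.Idx K} (hg : g ∈ C.Z.U1) {f : ℕ → K} (h : g = C.NF f) :
    g = C.PR (C.par f) := by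
  have hfix : C.Φ.A (C.NF f) = C.NF f := h ▸ (Subgroup.mem_inf.mp hg).1.2
  obtain ⟨q1, q2, q3, q4⟩ := quadRays
  have hp := fun p hp => pairRays p hp
  have gx := fun r (t : K) => good_F4.x_mem_group (F := K) r t
  have g2 : ∀ a b (s t : K), good_F4.full.x a s * good_F4.full.x b t ∈ chevF4.group K :=
    fun a b s t => mul_mem (gx a s) (gx b t)
  have g4 : ∀ a b c d (s t u w : K), C.P4 a b c d s t u w ∈ chevF4.group K :=
    fun a b c d s t u w => mul_mem (g2 a b s t) (g2 c d u w)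
  have e : C.NF f = good_F4.full.x 33 (f 33) * good_F4.full.x 24 (f 24) *
      C.P4 34 26 36 42 (f 34) (f 26) (f 36) (f 42) *
      (good_F4.full.x 38 (f 38) * good_F4.full.x 43 (f 43)) *
      C.P4 29 41 44 47 (f 29) (f 41) (f 44) (f 47) *
      (good_F4.full.x 39 (f 39) * good_F4.full.x 45 (f 45)) *
      C.P4 35 31 40 46 (f 35) (f 31) (f 40) (f 46) *
      (good_F4.full.x 37 (f 37) * good_F4.full.x 32 (f 32)) *
      C.P4 27 25 28 30 (f 27) (f 25) (f 28) (f 30) := by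
    simp only [NF, rayOrd, List.map_cons, List.map_nil, List.prod_cons, List.prod_nil, mul_one, P4,
      mul_assoc]
  have hA : ∀ l : List (GL chevF4.Idx K), l ≠ [] → (∀ x ∈ l, x ∈ chevF4.group K) →
      C.Φ.A l.prod = (l.map C.Φ.A).prod := by
    intro l
    induction l with
    | nil => intro h; exact absurd rfl h
    | cons x l ih =>
      intro _ hl
      rcases l with _ | ⟨y, l⟩
      · simp
      · rw [List.prod_cons, C.Φ.A_mul (hl x (List.mem_cons_self ..))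
          (list_prod_mem fun z hz => hl z (List.mem_cons_of_mem _ hz)),
          ih (by simp) fun z hz => hl z (List.mem_cons_of_mem _ hz)]
        rfl
  have e8 : C.NF f = [good_F4.full.x 33 (f 33) * good_F4.full.x 24 (f 24),
      C.P4 34 26 36 42 (f 34) (f 26) (f 36) (f 42),
      good_F4.full.x 38 (f 38) * good_F4.full.x 43 (f 43),
      C.P4 29 41 44 47 (f 29) (f 41) (f 44) (f 47),
      good_F4.full.x 39 (f 39) * good_F4.full.x 45 (f 45),
      C.P4 35 31 40 46 (f 35) (f 31) (f 40) (f 46),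
      good_F4.full.x 37 (f 37) * good_F4.full.x 32 (f 32),
      C.P4 27 25 28 30 (f 27) (f 25) (f 28) (f 30)].prod := by
    rw [e]
    simp only [List.prod_cons, List.prod_nil, mul_one, mul_assoc]
  nth_rewrite 1 [e8] at hfix
  rw [hA _ (by simp) (by
    simp only [List.forall_mem_cons]
    exact ⟨g2 _ _ _ _, g4 _ _ _ _ _ _ _ _, g2 _ _ _ _, g4 _ _ _ _ _ _ _ _, g2 _ _ _ _, g4 _ _ _ _ _ _ _ _, g2 _ _ _ _,
      g4 _ _ _ _ _ _ _ _, fun x hx => absurd hx List.not_mem_nil⟩)] at hfix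
  simp only [List.map_cons, List.map_nil, List.prod_cons, List.prod_nil, mul_one] at hfix
  rw [
    C.A_pair (hp (33, 24) (by simp)).1 (hp (33, 24) (by simp)).2.1 (hp (33, 24) (by simp)).2.2,
    C.A_pair (hp (38, 43) (by simp)).1 (hp (38, 43) (by simp)).2.1 (hp (38, 43) (by simp)).2.2,
    C.A_pair (hp (39, 45) (by simp)).1 (hp (39, 45) (by simp)).2.1 (hp (39, 45) (by simp)).2.2,
    C.A_pair (hp (37, 32) (by simp)).1 (hp (37, 32) (by simp)).2.1 (hp (37, 32) (by simp)).2.2,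
    C.A_P4 q1, C.A_P4 q2, C.A_P4 q3, C.A_P4 q4] at hfix
  let f' : ℕ → K := fun r => match r with
    | 33 => f 24 ^ 2 ^ m
    | 34 => f 26 ^ 2 ^ m
    | 42 => (f 26 ^ 2 ^ m) ^ 2 * f 34 ^ (2 * 2 ^ m) + f 36 ^ (2 * 2 ^ m)
    | 38 => f 43 ^ 2 ^ m
    | 29 => f 41 ^ 2 ^ m
    | 47 => (f 41 ^ 2 ^ m) ^ 2 * f 29 ^ (2 * 2 ^ m) + f 44 ^ (2 * 2 ^ m)
    | 39 => f 45 ^ 2 ^ m
    | 35 => f 31 ^ 2 ^ m
    | 46 => (f 31 ^ 2 ^ m) ^ 2 * f 35 ^ (2 * 2 ^ m) + f 40 ^ (2 * 2 ^ m)
    | 37 => f 32 ^ 2 ^ m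
    | 27 => f 25 ^ 2 ^ m
    | 30 => (f 25 ^ 2 ^ m) ^ 2 * f 27 ^ (2 * 2 ^ m) + f 28 ^ (2 * 2 ^ m)
    | 24 => f 33 ^ (2 * 2 ^ m)
    | 26 => f 34 ^ (2 * 2 ^ m)
    | 36 => f 26 ^ 2 ^ m * f 34 ^ (2 * 2 ^ m) + f 42 ^ 2 ^ m
    | 43 => f 38 ^ (2 * 2 ^ m)
    | 41 => f 29 ^ (2 * 2 ^ m)
    | 44 => f 41 ^ 2 ^ m * f 29 ^ (2 * 2 ^ m) + f 47 ^ 2 ^ m
    | 45 => f 39 ^ (2 * 2 ^ m)
    | 31 => f 35 ^ (2 * 2 ^ m)
    | 40 => f 31 ^ 2 ^ m * f 35 ^ (2 * 2 ^ m) + f 46 ^ 2 ^ m
    | 32 => f 37 ^ (2 * 2 ^ m)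
    | 25 => f 27 ^ (2 * 2 ^ m)
    | 28 => f 25 ^ 2 ^ m * f 27 ^ (2 * 2 ^ m) + f 30 ^ 2 ^ m
    | _ => 0
  have e' : C.NF f' = C.NF f := by
    refine Eq.trans ?_ hfix
    simp only [NF, rayOrd, List.map_cons, List.map_nil, List.prod_cons, List.prod_nil, mul_one, P4,
      mul_assoc, f']
  have key := C.NF_inj e'
  have quad : ∀ (a b c d : K), b ^ 2 ^ m = a → (b ^ 2 ^ m) ^ 2 * a ^ (2 * 2 ^ m) + c ^ (2 * 2 ^ m) = d →
      b ^ (2 ^ m + 1) + (c + a * b) = c ∧ (c + a * b) ^ (2 * 2 ^ m) = d := by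
    rintro a b c d ha rfl
    refine ⟨by rw [pow_succ, ha]; linear_combination (a * b) * C.two_eq, ?_⟩
    rw [C.add_pow', mul_pow, ← pow_mul b, show 2 ^ m * 2 = 2 * 2 ^ m from mul_comm _ _]
    ring
  obtain ⟨a1, a2⟩ := quad _ _ _ _ (key 34 (by decide)) (key 42 (by decide))
  obtain ⟨b1, b2⟩ := quad _ _ _ _ (key 29 (by decide)) (key 47 (by decide))
  obtain ⟨c1, c2⟩ := quad _ _ _ _ (key 35 (by decide)) (key 46 (by decide))
  obtain ⟨d1, d2⟩ := quad _ _ _ _ (key 27 (by decide)) (key 30 (by decide))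
  rw [h, C.PR_eq_NF, NF, NF]
  refine congrArg List.prod (List.map_congr_left fun r hr => ?_)
  congr 1
  fin_cases hr <;> symm <;> simp [crd, par] <;>
    first
    | exact key 33 (by decide) | exact key 34 (by decide) | exact key 38 (by decide)
    | exact key 29 (by decide) | exact key 39 (by decide) | exact key 35 (by decide)
    | exact key 37 (by decide) | exact key 27 (by decide)
    | exact a1 | exact a2 | exact b1 | exact b2 | exact c1 | exact c2 | exact d1 | exact d2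

theorem mem_U1_iff {g : GL chevF4.Idx K} : g ∈ C.Z.U1 ↔ ∃ v, g = C.PR v := by
  refine ⟨fun hg => ?_, fun ⟨v, e⟩ => e ▸ C.PR_mem v⟩
  obtain ⟨f, hf⟩ := C.NF_surj (good_F4.posUnipotent_eq (F := K) ▸ (Subgroup.mem_inf.mp hg).2)
  exact ⟨_, C.eq_PR_of_NF hg hf⟩

theorem PR_inj {v w : Fin 12 → K} (h : C.PR v = C.PR w) : v = w := by
  rw [C.PR_eq_NF, C.PR_eq_NF] at h
  have k := C.NF_inj h
  rw [← C.par_crd v, ← C.par_crd w]
  simp only [par, k 24 (by decide), k 26 (by decide), k 36 (by decide), k 34 (by decide),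
    k 43 (by decide), k 41 (by decide), k 44 (by decide), k 29 (by decide), k 45 (by decide),
    k 31 (by decide), k 40 (by decide), k 35 (by decide), k 32 (by decide), k 25 (by decide),
    k 28 (by decide), k 27 (by decide)]

theorem PR_zero : C.PR 0 = 1 := by
  simp [PR, U0, U1, P4, good_F4.full.x_zero]

/-- The variables of a parameter vector. -/
def venv (_C : Ctx K m) (v : Fin 12 → K) : List K :=
  [v 0, v 0 ^ 2 ^ m, v 1, v 1 ^ 2 ^ m, v 2, v 2 ^ (2 * 2 ^ m), v 3, v 3 ^ 2 ^ m, v 4, v 4 ^ 2 ^ m,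
    v 5, v 5 ^ (2 * 2 ^ m), v 6, v 6 ^ 2 ^ m, v 7, v 7 ^ 2 ^ m, v 8, v 8 ^ (2 * 2 ^ m), v 9,
    v 9 ^ 2 ^ m, v 10, v 10 ^ 2 ^ m, v 11, v 11 ^ (2 * 2 ^ m)]

theorem wv_rayW {on : List ℕ} {v : Fin 12 → K} (hv : ∀ i : Fin 12, i.val ∈ on ∨ v i = 0)
    (ext : List K) : wv good_F4 (C.venv v ++ ext) (rayW on) = C.PR v := by
  have hpair : ∀ (a b i : ℕ) (t : K), (i ∈ on ∨ t = 0) →
      mval (C.venv v ++ ext) (unit1 (2 * i + 1)) = t ^ 2 ^ m →
      mval (C.venv v ++ ext) (unit1 (2 * i)) = t →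
      wv good_F4 (C.venv v ++ ext) (pairW on a b i) = C.U0 a b t := by
    intro a b i t ht e1 e2
    rw [pairW]
    split_ifs with h
    · simp [wv, U0, e1, e2]
    · obtain rfl := ht.resolve_left (fun h' => h (List.contains_iff_mem.mpr h'))
      simp [wv, U0, good_F4.full.x_zero]
  have hquad : ∀ (a b c d i : ℕ) (t u : K), (i ∈ on ∨ t = 0) → (i + 1 ∈ on ∨ u = 0) →
      mval (C.venv v ++ ext) (unit1 (2 * i + 1)) = t ^ 2 ^ m →
      mval (C.venv v ++ ext) (unit1 (2 * i)) = t →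
      mval (C.venv v ++ ext) (unit1 (2 * i + 2)) = u →
      mval (C.venv v ++ ext) (unit1 (2 * i + 3)) = u ^ (2 * 2 ^ m) →
      wv good_F4 (C.venv v ++ ext) (quadW on a b c d i) = C.U1 a b c d t u := by
    intro a b c d i t u ht hu e1 e2 e3 e4
    have e5 : mval (C.venv v ++ ext) (unit2 (2 * i + 1) (2 * i)) = t ^ (2 ^ m + 1) := by
      rw [unit2, mval_comb, e1, e2, pow_one, pow_one, pow_succ]
    rw [quadW, wv_append, U1, P4, ← good_F4.full.x_add]
    split_ifs with h h' h'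
    · simp [wv, e1, e2, e3, e4, e5, mul_assoc]
    · obtain rfl := hu.resolve_left (fun h'' => h' (List.contains_iff_mem.mpr h''))
      simp [wv, e1, e2, e5, mul_assoc, good_F4.full.x_zero]
    · obtain rfl := ht.resolve_left (fun h'' => h (List.contains_iff_mem.mpr h''))
      simp [wv, e3, e4, good_F4.full.x_zero]
    · obtain rfl := ht.resolve_left (fun h'' => h (List.contains_iff_mem.mpr h''))
      obtain rfl := hu.resolve_left (fun h'' => h' (List.contains_iff_mem.mpr h''))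
      simp [wv, good_F4.full.x_zero]
  rw [rayW, wv_append, wv_append, wv_append, wv_append, wv_append, wv_append, wv_append, PR,
    hpair 33 24 0 (v 0) (hv 0) ?_ ?_, hquad 34 26 36 42 1 (v 1) (v 2) (hv 1) (hv 2) ?_ ?_ ?_ ?_,
    hpair 38 43 3 (v 3) (hv 3) ?_ ?_, hquad 29 41 44 47 4 (v 4) (v 5) (hv 4) (hv 5) ?_ ?_ ?_ ?_,
    hpair 39 45 6 (v 6) (hv 6) ?_ ?_, hquad 35 31 40 46 7 (v 7) (v 8) (hv 7) (hv 8) ?_ ?_ ?_ ?_,
    hpair 37 32 9 (v 9) (hv 9) ?_ ?_, hquad 27 25 28 30 10 (v 10) (v 11) (hv 10) (hv 11) ?_ ?_ ?_ ?_]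
  all_goals simp [unit1, venv, mval, List.replicate]

omit C [Fintype K] in
theorem mval_replicate (e2 : List K) (f : List ℕ) : ∀ (e1 : List K),
    mval (e1 ++ e2) (List.replicate e1.length 0 ++ f) = mval e2 f
  | [] => rfl
  | x :: e1 => by
    simp [List.replicate_succ, mval, mval_replicate e2 f e1]

theorem wv_second (v : Fin 12 → K) (env : List K) (l : List (ℕ × List ℕ)) :
    wv good_F4 (C.venv v ++ env) (second l) = wv good_F4 env l := by
  rw [wv, wv, second, List.map_map]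
  refine congrArg List.prod (List.map_congr_left fun x _ => ?_)
  simp only [Function.comp_apply]
  rw [show (24 : ℕ) = (C.venv v).length from rfl, mval_replicate]

theorem wv_reverse (env : List K) : ∀ l : List (ℕ × List ℕ),
    wv good_F4 env l.reverse = (wv good_F4 env l)⁻¹
  | [] => by simp [wv]
  | x :: l => by
    rw [List.reverse_cons, wv_append, wv_reverse env l, wv_cons, wv_cons, mul_inv_rev,
      good_F4.full.x_inv, C.neg_eq]
    simp [wv]

/-- The parameters of a collected word. -/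
def rd (C : Ctx K m) (env : List K) (L : List (ℕ × List ℕ)) : Fin 12 → K :=
  C.par (pv env L)

theorem eq_of_norm {n : ℕ} {w L : List (ℕ × List ℕ)} (h : norm F4Data.tab rayOrd n w = some L)
    {env : List K} (hU : wv good_F4 env w ∈ C.Z.U1) : wv good_F4 env w = C.PR (C.rd env L) :=
  C.eq_PR_of_NF hU (norm_sound good_F4 C.two_eq h env)

end Ctx

end CfsgLib.Chev.F4Tw
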