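import Cfsg.Agent.Chev.F4TwInvolData
import Mathlib.FieldTheory.Finite.Basic
import Mathlib.GroupTheory.Sylow
import Mathlib.GroupTheory.GroupAction.ConjAct

/-!
The two classes of involutions of `²F₄(q)`: every involution is conjugate to a root element of one of
two kinds, and these are not conjugate.
-/

set_option autoImplicit false
set_option linter.style.haveILetI false
set_option maxRecDepth 100000

namespace CfsgLib.Chev.F4Tw

open Cfsg.Lie Tab CfsgLib.Chev.CharTwo
open scoped MatrixGroups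

attribute [local irreducible] CharTwo.norm

theorem mval_unit {F : Type*} [Field F] : ∀ (xs : List F) (r : ℕ),
    mval xs (unit1 r) = xs.getD r 1
  | [], 0 => by simp [unit1, mval]
  | [], r + 1 => by simp [unit1, mval, List.replicate_succ]
  | x :: xs, 0 => by cases xs <;> simp [unit1, mval]
  | x :: xs, r + 1 => by
    have h := mval_unit xs r
    rw [unit1] at h
    simp [unit1, mval, List.replicate_succ, h]

theorem mval_padded {F : Type*} [Field F] (ys : List F) (f : List ℕ) : ∀ (xs : List F) (e : List ℕ),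
    e.length ≤ xs.length →
      mval (xs ++ ys) (e ++ List.replicate (xs.length - e.length) 0 ++ f) = mval xs e * mval ys f
  | [], [], _ => by simp [mval]
  | [], _ :: _, h => by simp at h
  | x :: xs, [], _ => by
    have h := mval_padded ys f xs [] (Nat.zero_le _)
    simp only [List.nil_append, List.length_nil, Nat.sub_zero] at h
    simp [mval, List.replicate_succ, h]
  | x :: xs, n :: e, h => by
    have h' := mval_padded ys f xs e (by simpa using h)
    simp only [List.cons_append, List.length_cons, Nat.add_sub_add_right, mval, h', mul_assoc]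

namespace Ctx

variable {K : Type*} [Field K] [Fintype K] {m : ℕ} (C : Ctx K m)
include C

/-- Conjugacy in the group. -/
def Sim (C : Ctx K m) (g h : GL chevF4.Idx K) : Prop := ∃ k ∈ C.Z.G1, k * g * k⁻¹ = h

theorem sim_refl (g : GL chevF4.Idx K) : C.Sim g g := ⟨1, one_mem _, by group⟩

theorem sim_trans {g h k : GL chevF4.Idx K} (h1 : C.Sim g h) (h2 : C.Sim h k) : C.Sim g k := by
  obtain ⟨a, ha, rfl⟩ := h1
  obtain ⟨b, hb, rfl⟩ := h2
  exact ⟨b * a, mul_mem hb ha, by group⟩

theorem sim_symm {g h : GL chevF4.Idx K} (h1 : C.Sim g h) : C.Sim h g := by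
  obtain ⟨a, ha, rfl⟩ := h1
  exact ⟨a⁻¹, inv_mem ha, by group⟩

/-- Support of a parameter vector. -/
def Supp (_C : Ctx K m) (v : Fin 12 → K) (on : List ℕ) : Prop := ∀ i : Fin 12, i.val ∈ on ∨ v i = 0

/-- The values of the monomials recorded by `keys`. -/
def kv (_C : Ctx K m) (env : List K) (l : List (List (List ℕ))) : List K :=
  l.map fun q => (q.map (mval env)).sum

/-- A parameter from the values at its roots. -/
def parOf (_C : Ctx K m) : List K → K
  | [a] => a
  | [a, b, c] => a + b * c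
  | _ => 0

theorem keys_spec {n : ℕ} {w : List (ℕ × List ℕ)} {ps : List ℕ} {ls : List (List (List (List ℕ)))}
    (h : keys n w ps = some ls) :
    ∃ L, norm F4Data.tab rayOrd n w = some L ∧
      ∀ env : List K, ps.map (fun i => (needR i).map (pv env L)) = ls.map (C.kv env) := by
  rw [keys, Option.map_eq_some_iff] at h
  obtain ⟨L, hL, rfl⟩ := h
  refine ⟨L, hL, fun env => ?_⟩
  simp [kv, pv, List.map_map, Function.comp_def]

theorem par_get (f : ℕ → K) (i : Fin 12) : C.par f i = C.parOf ((needR i.val).map f) := by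
  fin_cases i <;> rfl

/-- The parameters in `ps` of an element given by a word. -/
theorem params_of_keys {n : ℕ} {w : List (ℕ × List ℕ)} {ps : List (Fin 12)}
    {ls : List (List (List (List ℕ)))} (h : keys n w (ps.map Fin.val) = some ls) {env : List K}
    (hU : wv good_F4 env w ∈ C.Z.U1) :
    ∃ v, wv good_F4 env w = C.PR v ∧ ps.map v = ls.map fun l => C.parOf (C.kv env l) := by
  obtain ⟨L, hL, hk⟩ := C.keys_spec h
  refine ⟨_, C.eq_of_norm hL hU, ?_⟩
  have := congrArg (List.map C.parOf) (hk env)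
  simp only [List.map_map, Function.comp_def] at this
  rw [← this]
  exact List.map_congr_left fun i _ => C.par_get _ i

/-- The equations given by a vanishing square. -/
theorem square_eq {v : Fin 12 → K} {on : List ℕ} (hv : C.Supp v on) (h : C.PR v * C.PR v = 1)
    {ps : List (Fin 12)} {ls : List (List (List (List ℕ)))}
    (hk : keys 100000 (rayW on ++ rayW on) (ps.map Fin.val) = some ls) :
    ∀ l ∈ ls, C.parOf (C.kv (C.venv v) l) = 0 := by
  have e : wv good_F4 (C.venv v) (rayW on ++ rayW on) = 1 := by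
    rw [wv_append, ← List.append_nil (C.venv v), C.wv_rayW hv, h]
  obtain ⟨w, hw, hps⟩ := C.params_of_keys hk (env := C.venv v) (e ▸ one_mem _)
  obtain rfl : w = 0 := C.PR_inj (by rw [← hw, e, C.PR_zero])
  intro l hl
  have hmem : C.parOf (C.kv (C.venv v) l) ∈ List.map (0 : Fin 12 → K) ps :=
    hps ▸ List.mem_map_of_mem hl
  obtain ⟨i, -, hi⟩ := List.mem_map.mp hmem
  exact hi.symm

/-- Conjugation by an element of `U`. -/
theorem conj_step {v : Fin 12 → K} (w : Fin 12 → K) {on onk : List ℕ} (hv : C.Supp v on)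
    (hw : C.Supp w onk) {ps : List (Fin 12)} {ls : List (List (List (List ℕ)))}
    (hk : keys 100000 (conjW on onk) (ps.map Fin.val) = some ls) :
    ∃ v', C.PR v' = C.PR w * C.PR v * (C.PR w)⁻¹ ∧ C.Sim (C.PR v) (C.PR v') ∧
      ps.map v' = ls.map fun l => C.parOf (C.kv (C.venv v ++ C.venv w) l) := by
  have ek : wv good_F4 (C.venv v ++ C.venv w) (second (rayW onk)) = C.PR w := by
    rw [C.wv_second, ← List.append_nil (C.venv w), C.wv_rayW hw]
  have e : wv good_F4 (C.venv v ++ C.venv w) (conjW on onk) = C.PR w * C.PR v * (C.PR w)⁻¹ := by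
    rw [conjW, wv_append, wv_append, C.wv_reverse, ek, C.wv_rayW hv]
  obtain ⟨v', hv', hps⟩ := C.params_of_keys hk (env := C.venv v ++ C.venv w)
    (e ▸ mul_mem (mul_mem (C.PR_mem w) (C.PR_mem v)) (inv_mem (C.PR_mem w)))
  exact ⟨v', hv'.symm.trans e, ⟨C.PR w, C.Z.U1_le (C.PR_mem w), e.symm.trans hv'⟩, hps⟩

theorem word_w (J : Fin C.Z.nJ) (s : Fin chevF4.nroots) :
    (C.Z.w J s).val = F4Data.tab.wordT (words.getD J.val []) s.val := by
  show (good_F4.full.pw (C.Z.word J) s).val = _
  rw [good_F4.pw_apply]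
  congr 1
  exact C.spec.map_word J

/-- Conjugation by a reflection, when the image is positive. -/
theorem n_step {v : Fin 12 → K} {on : List ℕ} (hv : C.Supp v on) {J : Fin C.Z.nJ}
    {ps : List (Fin 12)} {ls : List (List (List (List ℕ)))}
    (hlen : (rayW on).all (fun x => decide (x.1 < 48 ∧ x.2.length ≤ 24)) = true)
    (hk : keys 100000 (reflW J.val (rayW on)) (ps.map Fin.val) = some ls) :
    ∃ (cs : List K) (v' : Fin 12 → K), cs.length = 48 ∧ (∀ x ∈ cs, x ≠ 0) ∧
      C.Sim (C.PR v) (C.PR v') ∧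
      ps.map v' = ls.map fun l => C.parOf (C.kv (C.venv v ++ cs) l) := by
  obtain ⟨c, hc⟩ := C.Z.n_act J
  set cs : List K := List.ofFn fun r : Fin chevF4.nroots => ((c r : Kˣ) : K) with hcs
  have hlen' : ∀ x ∈ rayW on, x.1 < 48 ∧ x.2.length ≤ 24 := fun x hx => by
    simpa using List.all_eq_true.mp hlen x hx
  have hn : ∀ l : List (ℕ × List ℕ), (∀ x ∈ l, x.1 < 48 ∧ x.2.length ≤ 24) →
      wv good_F4 (C.venv v ++ cs) (reflW J.val l) =
        C.Z.n J * wv good_F4 (C.venv v) l * (C.Z.n J)⁻¹ := by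
    intro l
    induction l with
    | nil => intro _; simp [reflW, wv]
    | cons x l ih =>
      intro hl
      obtain ⟨hr, hx⟩ := hl x (List.mem_cons_self ..)
      have ih' := ih fun y hy => hl y (List.mem_cons_of_mem _ hy)
      simp only [reflW, List.map_cons, wv_cons] at ih' ⊢
      rw [ih']
      have h1 : C.Z.n J * good_F4.full.x x.1 (mval (C.venv v) x.2) * (C.Z.n J)⁻¹ =
          good_F4.full.x (F4Data.tab.wordT (words.getD J.val []) x.1)
            (mval (C.venv v ++ cs) (pad24 x.2 ++ unit1 x.1)) := by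
        refine ((hc ⟨x.1, hr⟩).2.2.2 _).trans ?_
        have hm : mval (C.venv v ++ cs) (pad24 x.2 ++ unit1 x.1) =
            mval (C.venv v) x.2 * mval cs (unit1 x.1) :=
          mval_padded cs (unit1 x.1) (C.venv v) x.2 hx
        have hg : cs.getD x.1 1 = ((c ⟨x.1, hr⟩ : Kˣ) : K) := by
          rw [hcs, List.getD_eq_getElem _ _ (by rw [List.length_ofFn]; exact hr), List.getElem_ofFn]
        rw [hm, mval_unit, hg, mul_comm]
        congr 1
        exact C.word_w J ⟨x.1, hr⟩
      rw [← h1]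
      group
  have e := hn _ hlen'
  have hfull : wv good_F4 (C.venv v) (rayW on) = C.PR v := by
    rw [← List.append_nil (C.venv v), C.wv_rayW hv]
  rw [hfull] at e
  obtain ⟨L, hL, hkeys⟩ := C.keys_spec hk
  have hU : wv good_F4 (C.venv v ++ cs) (reflW J.val (rayW on)) ∈ C.Z.U1 := by
    refine Subgroup.mem_inf.mpr ⟨?_, ?_⟩
    · rw [e]
      exact C.Z.fix_conj (C.Z.n_fix J) (C.PR_fixed v)
    · rw [good_F4.posUnipotent_eq, norm_sound good_F4 C.two_eq hL]
      exact C.NF_mem _
  obtain ⟨v', hv', hps⟩ := C.params_of_keys hk hU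
  refine ⟨cs, v', by rw [hcs, List.length_ofFn]; rfl, fun x hx => ?_,
    ⟨C.Z.n J, C.Z.n_mem J, e.symm.trans hv'⟩, hps⟩
  obtain ⟨r, rfl⟩ := List.mem_ofFn.mp (hcs ▸ hx)
  exact Units.ne_zero _

/-- The index of the short reflection. -/
def j0 (C : Ctx K m) : Fin C.Z.nJ := ⟨0, show 0 < 2 by omega⟩

/-- The index of the long reflection. -/
def j1 (C : Ctx K m) : Fin C.Z.nJ := ⟨1, show 1 < 2 by omega⟩

theorem exists_root2 (x : K) : ∃ y : K, y * y = x := by
  have h : ringChar K = 2 := by
    haveI : CharP K 2 := CharTwo.of_one_ne_zero_of_two_eq_zero one_ne_zero C.two_eq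
    exact ringChar.eq K 2
  obtain ⟨y, hy⟩ := FiniteField.isSquare_of_char_two h x
  exact ⟨y, hy.symm⟩

theorem sim_torus (p : Kˣ × Kˣ) (v : Fin 12 → K) :
    C.Sim (C.PR v) (C.PR (C.par fun r => (F4Data.tab.chi r (C.cvec p) : K) * C.crd v r)) := by
  have e : C.h p * C.PR v * (C.h p)⁻¹ =
      C.NF fun r => (F4Data.tab.chi r (C.cvec p) : K) * C.crd v r := by
    have h : ∀ l : List ℕ, (∀ r ∈ l, r < 48) →
        C.h p * (l.map fun r => good_F4.full.x r (C.crd v r)).prod * (C.h p)⁻¹ =
          (l.map fun r => good_F4.full.x r ((F4Data.tab.chi r (C.cvec p) : K) * C.crd v r)).prod := by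
      intro l
      induction l with
      | nil => intro _; simp
      | cons r l ih =>
        intro hl
        simp only [List.map_cons, List.prod_cons]
        rw [← C.h_conj_x (hl r (List.mem_cons_self ..)) p (C.crd v r),
          ← ih fun s hs => hl s (List.mem_cons_of_mem _ hs)]
        group
    rw [C.PR_eq_NF]
    exact h rayOrd fun r hr => (rayOrd_pos hr).1
  refine ⟨C.h p, C.h_mem p, C.eq_PR_of_NF ?_ e⟩
  exact C.Z.H0_conj_U1 (C.H0_eq ▸ ⟨p, rfl⟩) (C.PR_mem v)

/-- The vector with one parameter. -/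
def sg (_C : Ctx K m) (i : Fin 12) (t : K) : Fin 12 → K := Pi.single i t

theorem supp_sg (i : Fin 12) (t : K) : C.Supp (C.sg i t) [i.val] := fun j => by
  by_cases h : j = i
  · exact Or.inl (by simp [h])
  · exact Or.inr (Pi.single_eq_of_ne h _)

theorem scale0 {a : K} (ha : a ≠ 0) : C.Sim (C.PR (C.sg 0 a)) (C.PR (C.sg 0 1)) := by
  obtain ⟨y, hy⟩ := C.exists_root2 a⁻¹
  have hy0 : y ≠ 0 := fun h => inv_ne_zero ha (by rw [← hy, h, mul_zero])
  have hchi : (F4Data.tab.chi (F := K) 24 (C.cvec (Units.mk0 y hy0, 1)) : K) = a⁻¹ := by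
    rw [C.chi_eq]
    have h : F4Data.tab.cart 0 24 = 0 ∧ F4Data.tab.cart 1 24 = 0 ∧ F4Data.tab.cart 2 24 = -1 ∧
        F4Data.tab.cart 3 24 = 2 := by decide +kernel
    simp [h.1, h.2.1, h.2.2.1, h.2.2.2, pow_two, hy]
  convert C.sim_torus (Units.mk0 y hy0, 1) (C.sg 0 a) using 2
  funext i
  fin_cases i <;> simp [par, crd, sg, hchi, ha]

theorem scale11 {u : K} (hu : u ≠ 0) : C.Sim (C.PR (C.sg 11 u)) (C.PR (C.sg 11 1)) := by
  have hchi : (F4Data.tab.chi (F := K) 28 (C.cvec (1, Units.mk0 u⁻¹ (inv_ne_zero hu))) : K) = u⁻¹ := by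
    rw [C.chi_eq]
    have h : F4Data.tab.cart 2 28 = 1 ∧ F4Data.tab.cart 1 28 = 0 := by decide +kernel
    simp [h.1, h.2]
  convert C.sim_torus (1, Units.mk0 u⁻¹ (inv_ne_zero hu)) (C.sg 11 u) using 2
  funext i
  fin_cases i <;> simp [par, crd, sg, hchi, hu]

end Ctx

end CfsgLib.Chev.F4Tw
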