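import Cfsg.Agent.Chev.F4TwInvol

/-!
Every involution in `U` is conjugate to one of the two representatives.
-/

set_option autoImplicit false
set_option linter.style.haveILetI false
set_option linter.unusedSimpArgs false
set_option linter.unusedTactic false
set_option linter.unreachableTactic false
set_option maxRecDepth 100000
set_option maxHeartbeats 1000000

namespace CfsgLib.Chev.F4Tw

open Cfsg.Lie Tab CfsgLib.Chev.CharTwo
open scoped MatrixGroups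

attribute [local irreducible] CharTwo.norm keys

theorem mval_ne_zero {F : Type*} [Field F] : ∀ (xs : List F) (e : List ℕ),
    (∀ x ∈ xs, x ≠ 0) → mval xs e ≠ 0
  | [], [], _ => by simp [mval]
  | [], _ :: _, _ => by simp [mval]
  | _ :: _, [], _ => by simp [mval]
  | x :: xs, n :: e, h => by
    rw [mval]
    exact mul_ne_zero (pow_ne_zero _ (h x (List.mem_cons_self ..)))
      (mval_ne_zero xs e fun y hy => h y (List.mem_cons_of_mem _ hy))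

namespace Ctx

variable {K : Type*} [Field K] [Fintype K] {m : ℕ} (C : Ctx K m)
include C

/-- Evaluate the recorded monomials. -/
local macro "keval" " at " h:ident : tactic =>
  `(tactic| simp [Ctx.kv, Ctx.parOf, Ctx.venv, mval, Ctx.sg] at $h:ident)

/-- Prove a support condition. -/
local macro "supp" : tactic =>
  `(tactic| (intro i; fin_cases i <;> first
    | (left; decide)
    | (right; assumption)
    | simp [*, Ctx.sg]))

/-- The representative of the short kind. -/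
noncomputable def iY (C : Ctx K m) : GL chevF4.Idx K := C.PR (C.sg 0 1)

/-- The representative of the long kind. -/
noncomputable def iZ (C : Ctx K m) : GL chevF4.Idx K := C.PR (C.sg 11 1)

theorem sim_sq {g h : GL chevF4.Idx K} (h1 : C.Sim g h) (hg : g * g = 1) : h * h = 1 := by
  obtain ⟨k, -, rfl⟩ := h1
  rw [show k * g * k⁻¹ * (k * g * k⁻¹) = k * (g * g) * k⁻¹ by group, hg]
  group

theorem eq_of_add_eq_zero {x y : K} (h : x + y = 0) : x = y := by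
  linear_combination h - y * C.two_eq

theorem sim_R1_of_R7 {g : K} (hg : g ≠ 0) : C.Sim (C.PR (C.sg 9 g)) C.iY := by
  obtain ⟨cs, v', -, hcs, hs, he⟩ := C.n_step (C.supp_sg 9 g) (J := C.j1) (by decide +kernel)
    (ps := [0, 1, 2, 3, 4, 5, 6, 7, 8, 9, 10, 11]) kNi
  keval at he
  obtain ⟨h0, h1, h2, h3, h4, h5, h6, h7, h8, h9, h10, h11⟩ := he
  have e : v' = C.sg 0 (v' 0) := by
    funext i
    fin_cases i <;> first
      | (simp [Ctx.sg]; done)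
      | (simp [Ctx.sg]; assumption)
      | simp [*, Ctx.sg]
  refine C.sim_trans hs (e ▸ C.scale0 ?_)
  rw [h0]
  exact mul_ne_zero hg (mval_ne_zero _ _ hcs)

theorem case_R1R5 {v : Fin 12 → K} (hv : C.Supp v [0, 6]) (ha : v 0 ≠ 0) :
    C.Sim (C.PR v) C.iY := by
  obtain ⟨cs, v1, -, hcs, s1, he⟩ := C.n_step hv (J := C.j1) (by decide +kernel)
    (ps := [0, 1, 2, 3, 4, 5, 6, 7, 8, 9, 10, 11]) kNh
  keval at he
  obtain ⟨h0, h1, h2, h3, h4, h5, h6, h7, h8, h9, h10, h11⟩ := he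
  have hg : v1 9 ≠ 0 := by rw [h9]; exact mul_ne_zero ha (mval_ne_zero _ _ hcs)
  obtain ⟨v2, -, s2, he⟩ := C.conj_step (v := v1) (C.sg 0 ((v1 3 / v1 9) ^ 2 ^ m))
    (on := [3, 9]) (by supp) (C.supp_sg 0 _) (ps := [0, 1, 2, 3, 4, 5, 6, 7, 8, 9, 10, 11]) kA6
  keval at he
  obtain ⟨a0, a1, a2, a3, a4, a5, a6, a7, a8, a9, a10, a11⟩ := he
  have c0 : v2 3 = 0 := by
    rw [a3, ← pow_mul, ← pow_mul, mul_comm (2 ^ m) 2, mul_comm (2 ^ m) (2 * 2 ^ m), pow_mul,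
      C.pow_qq, mul_div_cancel₀ _ hg, C.add_self]
  obtain ⟨v3, -, s3, he⟩ := C.conj_step (v := v2) (C.sg 1 ((v2 6 / v2 9) ^ 2 ^ m))
    (on := [6, 9]) (by supp) (C.supp_sg 1 _) (ps := [0, 1, 2, 3, 4, 5, 6, 7, 8, 9, 10, 11]) kA7
  keval at he
  obtain ⟨b0, b1, b2, b3, b4, b5, b6, b7, b8, b9, b10, b11⟩ := he
  have hg2 : v2 9 ≠ 0 := a9 ▸ hg
  have e0 : v3 6 = 0 := by
    rw [b6, ← pow_mul, ← pow_mul, mul_comm (2 ^ m) 2, mul_comm (2 ^ m) (2 * 2 ^ m), pow_mul,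
      C.pow_qq, mul_div_cancel₀ _ hg2, C.add_self]
  have hg3 : v3 9 ≠ 0 := b9 ▸ hg2
  obtain ⟨v4, -, s4, he⟩ := C.conj_step (v := v3) (C.sg 2 (v3 5 / v3 9 ^ 2 ^ m))
    (on := [5, 8, 9]) (by supp) (C.supp_sg 2 _) (ps := [0, 1, 2, 3, 4, 5, 6, 7, 8, 9, 10, 11]) kA8
  keval at he
  obtain ⟨c0', c1', c2', c3', c4', c5', c6', c7', c8', c9', c10', c11'⟩ := he
  have r0 : v4 5 = 0 := by
    rw [c5', mul_div_cancel₀ _ (pow_ne_zero _ hg3), C.add_self]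
  have hg4 : v4 9 ≠ 0 := c9' ▸ hg3
  obtain ⟨v5, -, s5, he⟩ := C.conj_step (v := v4) (C.sg 4 ((v4 8 / v4 9 ^ 2 ^ m) ^ (2 * 2 ^ m)))
    (on := [8, 9]) (by supp) (C.supp_sg 4 _) (ps := [0, 1, 2, 3, 4, 5, 6, 7, 8, 9, 10, 11]) kA9
  keval at he
  obtain ⟨d0, d1, d2, d3, d4, d5, d6, d7, d8, d9, d10, d11⟩ := he
  have S0 : v5 8 = 0 := by
    rw [d8, C.pow_qq, mul_div_cancel₀ _ (pow_ne_zero _ hg4), C.add_self]
  have e : v5 = C.sg 9 (v5 9) := by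
    funext i
    fin_cases i <;> first
      | (simp [Ctx.sg]; done)
      | (simp [Ctx.sg]; assumption)
      | simp [*, Ctx.sg]
  have h := C.sim_R1_of_R7 (g := v5 9) (d9 ▸ hg4)
  rw [← e] at h
  exact C.sim_trans s1 (C.sim_trans s2 (C.sim_trans s3 (C.sim_trans s4 (C.sim_trans s5 h))))

theorem case_a {v : Fin 12 → K} (ha : v 0 ≠ 0) (hh : v 10 = 0) (hsq : C.PR v * C.PR v = 1) :
    C.Sim (C.PR v) C.iY := by
  obtain ⟨v1, -, s1, he⟩ := C.conj_step (v := v) (C.sg 10 (v 1 / v 0))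
    (on := [0, 1, 2, 3, 4, 5, 6, 7, 8, 9, 11]) (by supp) (C.supp_sg 10 _) (ps := [0, 1, 10]) kA1
  keval at he
  obtain ⟨a0, a1, a10⟩ := he
  rw [mul_div_cancel₀ _ ha, C.add_self] at a1
  have ha1 : v1 0 ≠ 0 := a0 ▸ ha
  have q1 := C.sim_sq s1 hsq
  have e11 := C.square_eq (on := [0, 2, 3, 4, 5, 6, 7, 8, 9, 11]) (v := v1) (by supp) q1
    (ps := [9]) kSqA
  keval at e11
  have u0 : v1 11 = 0 := e11.resolve_left ha1
  obtain ⟨v2, -, s2, he⟩ := C.conj_step (v := v1) (C.sg 11 ((v1 7 / v1 0) ^ 2 ^ m))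
    (on := [0, 2, 3, 4, 5, 6, 7, 8, 9]) (by supp) (C.supp_sg 11 _) (ps := [0, 1, 7, 10, 11]) kA2
  keval at he
  obtain ⟨b0, b1, b7, b10, b11⟩ := he
  rw [C.pow_qq', mul_div_cancel₀ _ ha1, C.add_self] at b7
  have ha2 : v2 0 ≠ 0 := b0 ▸ ha1
  have q2 := C.sim_sq s2 q1
  have e2 := C.square_eq (on := [0, 2, 3, 4, 5, 6, 8, 9]) (v := v2) (by supp) q2
    (ps := [2, 3, 5]) kSqA2
  keval at e2
  obtain ⟨f2, f3, f5⟩ := e2
  have r0 : v2 4 = 0 := f2.resolve_left ha2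
  have g0 : v2 9 = 0 := f3.resolve_left ha2
  simp [r0, g0] at f5
  have S0 : v2 8 = 0 := f5.resolve_left ha2
  obtain ⟨v3, -, s3, he⟩ := C.conj_step (v := v2) (C.sg 7 ((v2 2 / v2 0) ^ (2 * 2 ^ m)))
    (on := [0, 2, 3, 5, 6]) (by supp) (C.supp_sg 7 _)
    (ps := [0, 1, 2, 3, 4, 5, 6, 7, 8, 9, 10, 11]) kA3
  keval at he
  obtain ⟨c0, c1, c2, c3, c4, c5, c6, c7, c8, c9, c10, c11⟩ := he
  rw [C.pow_qq, mul_div_cancel₀ _ ha2, C.add_self] at c2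
  have ha3 : v3 0 ≠ 0 := c0 ▸ ha2
  obtain ⟨v4, -, s4, he⟩ := C.conj_step (v := v3) (C.sg 9 (v3 3 / (v3 0 ^ 2 ^ m) ^ 2))
    (on := [0, 3, 5, 6]) (by supp) (C.supp_sg 9 _)
    (ps := [0, 1, 2, 3, 4, 5, 6, 7, 8, 9, 10, 11]) kA4
  keval at he
  obtain ⟨d0, d1, d2, d3, d4, d5, d6, d7, d8, d9, d10, d11⟩ := he
  rw [mul_div_cancel₀ _ (pow_ne_zero _ (pow_ne_zero _ ha3)), C.add_self] at d3
  have ha4 : v4 0 ≠ 0 := d0 ▸ ha3
  obtain ⟨v5, -, s5, he⟩ := C.conj_step (v := v4) (C.sg 8 (v4 5 / v4 0 ^ 2 ^ m))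
    (on := [0, 5, 6]) (by supp) (C.supp_sg 8 _)
    (ps := [0, 1, 2, 3, 4, 5, 6, 7, 8, 9, 10, 11]) kA5
  keval at he
  obtain ⟨g0', g1, g2, g3, g4, g5, g6, g7, g8, g9, g10, g11⟩ := he
  rw [mul_div_cancel₀ _ (pow_ne_zero _ ha4), C.add_self] at g5
  exact C.sim_trans s1 (C.sim_trans s2 (C.sim_trans s3 (C.sim_trans s4 (C.sim_trans s5
    (C.case_R1R5 (by supp) (g0' ▸ ha4))))))

theorem case_g {v : Fin 12 → K} (hv : C.Supp v [2, 3, 4, 5, 6, 7, 8, 9]) (hg : v 9 ≠ 0)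
    (hsq : C.PR v * C.PR v = 1) : C.Sim (C.PR v) C.iY := by
  obtain ⟨cs, v1, -, hcs, s1, he⟩ := C.n_step hv (J := C.j1) (by decide +kernel)
    (ps := [0, 10]) kNa
  keval at he
  obtain ⟨h0, h10⟩ := he
  refine C.sim_trans s1 (C.case_a ?_ h10 (C.sim_sq s1 hsq))
  rw [h0]
  exact mul_ne_zero hg (mval_ne_zero _ _ hcs)

theorem case_c {v : Fin 12 → K} (hv : C.Supp v [3, 4, 5, 6, 7, 8, 9]) (hc : v 3 ≠ 0)
    (hsq : C.PR v * C.PR v = 1) : C.Sim (C.PR v) C.iY := by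
  obtain ⟨cs, v1, -, hcs, s1, he⟩ := C.n_step hv (J := C.j0) (by decide +kernel)
    (ps := [0, 1, 9, 10, 11]) kNb
  keval at he
  obtain ⟨h0, h1, h9, h10, h11⟩ := he
  refine C.sim_trans s1 (C.case_g (by supp) ?_ (C.sim_sq s1 hsq))
  rw [h9]
  exact mul_ne_zero hc (mval_ne_zero _ _ hcs)

theorem case_e {v : Fin 12 → K} (hv : C.Supp v [5, 6]) (he0 : v 6 ≠ 0)
    (hsq : C.PR v * C.PR v = 1) : C.Sim (C.PR v) C.iY := by
  obtain ⟨cs, v1, -, hcs, s1, he⟩ := C.n_step hv (J := C.j1) (by decide +kernel)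
    (ps := [0, 1, 2, 3, 4, 5, 6, 7, 8, 9, 10, 11]) kNe
  keval at he
  obtain ⟨h0, h1, h2, h3, h4, h5, h6, h7, h8, h9, h10, h11⟩ := he
  refine C.sim_trans s1 (C.case_c (by supp) ?_ (C.sim_sq s1 hsq))
  rw [h3]
  exact mul_ne_zero he0 (mval_ne_zero _ _ hcs)

theorem sim_z_R8 {v : Fin 12 → K} (hv : C.Supp v [11]) (hu : v 11 ≠ 0) :
    C.Sim (C.PR v) C.iZ := by
  have e : v = C.sg 11 (v 11) := by
    funext i
    rcases hv i with h | h
    · obtain rfl : i = 11 := Fin.ext (by simpa using h)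
      simp [Ctx.sg]
    · by_cases hi : i = 11
      · simp [hi, Ctx.sg]
      · simp [Ctx.sg, h, hi]
  rw [e]
  exact C.scale11 hu

theorem sim_z_R2 {v : Fin 12 → K} (hv : C.Supp v [2]) (hp : v 2 ≠ 0) :
    C.Sim (C.PR v) C.iZ := by
  obtain ⟨cs, v1, -, hcs, s1, he⟩ := C.n_step hv (J := C.j0) (by decide +kernel)
    (ps := [0, 1, 2, 3, 4, 5, 6, 7, 8, 9, 10, 11]) kN0R2
  keval at he
  obtain ⟨h0, h1, h2, h3, h4, h5, h6, h7, h8, h9, h10, h11⟩ := he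
  refine C.sim_trans s1 (C.sim_z_R8 (by supp) ?_)
  rw [h11]
  exact mul_ne_zero hp (mval_ne_zero _ _ hcs)

theorem sim_z_R4 {v : Fin 12 → K} (hv : C.Supp v [5]) (hr : v 5 ≠ 0) :
    C.Sim (C.PR v) C.iZ := by
  obtain ⟨cs, v1, -, hcs, s1, he⟩ := C.n_step hv (J := C.j0) (by decide +kernel)
    (ps := [0, 1, 2, 3, 4, 5, 6, 7, 8, 9, 10, 11]) kN0R
  keval at he
  obtain ⟨h0, h1, h2, h3, h4, h5, h6, h7, h8, h9, h10, h11⟩ := he
  have hS : v1 8 ≠ 0 := by rw [h8]; exact mul_ne_zero hr (mval_ne_zero _ _ hcs)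
  obtain ⟨cs', v2, -, hcs', s2, he⟩ := C.n_step (v := v1) (on := [8]) (by supp) (J := C.j1)
    (by decide +kernel) (ps := [0, 1, 2, 3, 4, 5, 6, 7, 8, 9, 10, 11]) kN1R6
  keval at he
  obtain ⟨i0, i1, i2, i3, i4, i5, i6, i7, i8, i9, i10, i11⟩ := he
  refine C.sim_trans s1 (C.sim_trans s2 (C.sim_z_R2 (by supp) ?_))
  rw [i2]
  exact mul_ne_zero hS (mval_ne_zero _ _ hcs')

theorem case_P {v : Fin 12 → K} (hv : C.Supp v [2, 3, 5, 6, 8]) (hp : v 2 ≠ 0)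
    (hsq : C.PR v * C.PR v = 1) : C.Sim (C.PR v) C.iY ∨ C.Sim (C.PR v) C.iZ := by
  obtain ⟨v1, -, s1, he⟩ := C.conj_step (v := v) (C.sg 10 (v 3 / v 2 ^ (2 * 2 ^ m)))
    hv (C.supp_sg 10 _) (ps := [0, 1, 2, 3, 4, 5, 6, 7, 8, 9, 10, 11]) kB8
  keval at he
  obtain ⟨a0, a1, a2, a3, a4, a5, a6, a7, a8, a9, a10, a11⟩ := he
  rw [mul_div_cancel₀ _ (pow_ne_zero _ hp), C.add_self] at a3
  have hp1 : v1 2 ≠ 0 := a2 ▸ hp
  obtain ⟨v2, -, s2, he⟩ := C.conj_step (v := v1) (C.sg 11 ((v1 8 / v1 2) ^ 2 ^ m))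
    (on := [2, 5, 6, 8]) (by supp) (C.supp_sg 11 _)
    (ps := [0, 1, 2, 3, 4, 5, 6, 7, 8, 9, 10, 11]) kB8u
  keval at he
  obtain ⟨b0, b1, b2, b3, b4, b5, b6, b7, b8, b9, b10, b11⟩ := he
  rw [C.pow_qq', mul_div_cancel₀ _ hp1, C.add_self] at b8
  have hp2 : v2 2 ≠ 0 := b2 ▸ hp1
  obtain ⟨v3, -, s3, he⟩ := C.conj_step (v := v2) (C.sg 9 ((v2 5 / v2 2) ^ (2 * 2 ^ m)))
    (on := [2, 5, 6]) (by supp) (C.supp_sg 9 _)
    (ps := [0, 1, 2, 3, 4, 5, 6, 7, 8, 9, 10, 11]) kB7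
  keval at he
  obtain ⟨c0, c1, c2, c3, c4, c5, c6, c7, c8, c9, c10, c11⟩ := he
  rw [C.pow_qq, mul_div_cancel₀ _ hp2, C.add_self] at c5
  have hp3 : v3 2 ≠ 0 := c2 ▸ hp2
  have s := C.sim_trans s1 (C.sim_trans s2 s3)
  have q3 := C.sim_sq s hsq
  by_cases he3 : v3 6 = 0
  · exact Or.inr (C.sim_trans s (C.sim_z_R2 (by supp) hp3))
  · obtain ⟨cs, v4, -, hcs, s4, he⟩ := C.n_step (v := v3) (on := [2, 6]) (by supp) (J := C.j1)
      (by decide +kernel) (ps := [0, 1, 2, 3, 4, 5, 6, 7, 8, 9, 10, 11]) kNf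
    keval at he
    obtain ⟨d0, d1, d2, d3, d4, d5, d6, d7, d8, d9, d10, d11⟩ := he
    refine Or.inl (C.sim_trans (C.sim_trans s s4) (C.case_c (by supp) ?_ (C.sim_sq s4 q3)))
    rw [d3]
    exact mul_ne_zero he3 (mval_ne_zero _ _ hcs)

theorem case_u0 {v : Fin 12 → K} (hv : C.Supp v [2, 3, 4, 5, 6, 7, 8, 9]) (h1 : v ≠ 0)
    (hsq : C.PR v * C.PR v = 1) : C.Sim (C.PR v) C.iY ∨ C.Sim (C.PR v) C.iZ := by
  have z0 : v 0 = 0 := (hv 0).resolve_left (by decide)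
  have z1 : v 1 = 0 := (hv 1).resolve_left (by decide)
  have z10 : v 10 = 0 := (hv 10).resolve_left (by decide)
  have z11 : v 11 = 0 := (hv 11).resolve_left (by decide)
  by_cases hg : v 9 = 0
  swap
  · exact Or.inl (C.case_g hv hg hsq)
  have e := C.square_eq (on := [2, 3, 4, 5, 6, 7, 8]) (v := v) (by supp) hsq (ps := [5, 8]) kSqB3
  keval at e
  obtain ⟨e5, e8⟩ := e
  have s0 : v 7 = 0 := by simpa using e8
  simp [s0] at e5
  have r0 : v 4 = 0 := by simpa using e5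
  by_cases hP : v 2 = 0
  swap
  · exact C.case_P (by supp) hP hsq
  by_cases hc : v 3 = 0
  swap
  · exact Or.inl (C.case_c (by supp) hc hsq)
  by_cases hS : v 8 = 0
  swap
  · obtain ⟨cs, v1, -, hcs, s1, he⟩ := C.n_step (v := v) (on := [5, 6, 8]) (by supp) (J := C.j1)
      (by decide +kernel) (ps := [0, 1, 2, 3, 4, 5, 6, 7, 8, 9, 10, 11]) kNd
    keval at he
    obtain ⟨d0, d1, d2, d3, d4, d5, d6, d7, d8, d9, d10, d11⟩ := he
    refine (C.case_P (v := v1) (by supp) ?_ (C.sim_sq s1 hsq)).imp (C.sim_trans s1) (C.sim_trans s1)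
    rw [d2]
    exact mul_ne_zero hS (mval_ne_zero _ _ hcs)
  by_cases he : v 6 = 0
  swap
  · exact Or.inl (C.case_e (by supp) he hsq)
  refine Or.inr (C.sim_z_R4 (by supp) fun hR => h1 ?_)
  funext i
  fin_cases i <;> simp [*]

theorem classify {v : Fin 12 → K} (h1 : v ≠ 0) (hsq : C.PR v * C.PR v = 1) :
    C.Sim (C.PR v) C.iY ∨ C.Sim (C.PR v) C.iZ := by
  have e := C.square_eq (on := [0, 1, 2, 3, 4, 5, 6, 7, 8, 9, 10, 11]) (v := v)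
    (by intro i; left; fin_cases i <;> simp) hsq (ps := [11]) kSqFull
  keval at e
  have hh : v 10 = 0 := by simpa using e
  by_cases ha : v 0 = 0
  swap
  · exact Or.inl (C.case_a ha hh hsq)
  have e := C.square_eq (on := [1, 2, 3, 4, 5, 6, 7, 8, 9, 11]) (v := v) (by supp) hsq
    (ps := [2]) kSqB
  keval at e
  have hp : v 1 = 0 := by simpa using e
  by_cases hu : v 11 = 0
  · exact C.case_u0 (by supp) h1 hsq
  have e := C.square_eq (on := [2, 3, 4, 5, 6, 7, 8, 9, 11]) (v := v) (by supp) hsq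
    (ps := [6]) kSqB2
  keval at e
  set u := v 11
  obtain ⟨v1, -, s1, he⟩ := C.conj_step (v := v) (C.sg 0 (v 7 / u ^ (2 * 2 ^ m)))
    (on := [2, 3, 4, 5, 6, 7, 8, 9, 11]) (by supp) (C.supp_sg 0 _) (ps := [0, 1, 2, 10]) kB1
  keval at he
  obtain ⟨a0, a1, a2, a10⟩ := he
  have hU : u ^ (2 * 2 ^ m) ≠ 0 := pow_ne_zero _ hu
  have hth : (v 7 / u ^ (2 * 2 ^ m)) ^ 2 ^ m = v 7 ^ 2 ^ m / u := by rw [div_pow, C.pow_qq]
  have hrs : v 4 ^ 2 ^ m * v 7 ^ 2 ^ m = v 2 * u := by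
    have h := congrArg (fun x => x ^ 2 ^ m) (C.eq_of_add_eq_zero e)
    simp only [mul_pow, C.pow_qq] at h
    exact h
  have P0 : v1 2 = 0 := by
    rw [a2, hth, mul_div_assoc' (v 4 ^ 2 ^ m), hrs, mul_div_cancel_right₀ _ hu, C.add_self, add_zero,
      show u * (v 7 / u ^ (2 * 2 ^ m) * (v 7 ^ 2 ^ m / u)) = v 7 ^ 2 ^ m * (v 7 / u ^ (2 * 2 ^ m)) by
        field_simp, C.add_self]
  obtain ⟨cs, v2, -, hcs, s2, he⟩ := C.n_step (v := v1) (on := [3, 4, 5, 6, 7, 8, 9, 11]) (by supp)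
    (J := C.j0) (by decide +kernel) (ps := [0, 1, 10, 11]) kNc
  keval at he
  obtain ⟨b0, b1, b10, b11⟩ := he
  have hne : v2 ≠ 0 := fun h0 => by
    obtain ⟨k, -, hk⟩ := C.sim_trans s1 s2
    rw [h0, C.PR_zero, conj_eq_one_iff, ← C.PR_zero] at hk
    exact h1 (C.PR_inj hk)
  have s := C.sim_trans s1 s2
  exact (C.case_u0 (by supp) hne (C.sim_sq s hsq)).imp (C.sim_trans s) (C.sim_trans s)

end Ctx

end CfsgLib.Chev.F4Tw
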