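import Cfsg.Agent.Chev.F4TwInvolClass

/-!
The two representatives are not conjugate, so `²F₄(q)` has exactly two classes of involutions.
-/

set_option autoImplicit false
set_option linter.style.haveILetI false
set_option maxRecDepth 100000
set_option maxHeartbeats 1000000

namespace CfsgLib.Chev.F4Tw

open Cfsg.Lie Tab CfsgLib.Chev.CharTwo
open scoped MatrixGroups

attribute [local irreducible] CharTwo.norm keys

/-- The images of the roots of the central long root element under the Weyl group. -/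
def zPairs : List (ℕ × ℕ) :=
  [(44, 47), (40, 46), (36, 42), (28, 30), (19, 17), (11, 5), (7, 1), (3, 0)]

theorem zPairs_closed : ∀ J : Fin 2, ∀ p ∈ zPairs,
    (F4Data.tab.wordT (words.getD J.val []) p.1, F4Data.tab.wordT (words.getD J.val []) p.2) ∈ zPairs := by
  decide +kernel

theorem zPairs_keys : ∀ p ∈ zPairs, (p.1 < 24 ∧ p.2 < 24) ∨ (24 ≤ p.1 ∧ p.1 < 48 ∧ 24 ≤ p.2 ∧ p.2 < 48 ∧
    keys 100 [(p.1, unit1 0), (p.2, unit1 1)] [0] = some [[[]]]) := by
  decide +kernel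

namespace Ctx

variable {K : Type*} [Field K] [Fintype K] {m : ℕ} (C : Ctx K m)
include C

/-- The central long root involution. -/
noncomputable def iR (C : Ctx K m) : GL chevF4.Idx K := C.PR (C.sg 5 1)

theorem iR_sim_iZ : C.Sim C.iR C.iZ :=
  C.sim_z_R4 (C.supp_sg 5 1) (by simp [sg])

theorem pwT_zPairs : ∀ L : List (Fin C.Z.nJ),
    ((C.Z.pwT L ⟨44, by decide⟩).val, (C.Z.pwT L ⟨47, by decide⟩).val) ∈ zPairs := by
  intro L
  induction L with
  | nil => rw [C.Z.pwT_nil]; decide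
  | cons J L ih =>
    rw [C.Z.pwT_cons, Equiv.Perm.mul_apply, Equiv.Perm.mul_apply, C.word_w, C.word_w]
    exact zPairs_closed J _ ih

theorem iR_eq : C.iR = good_F4.full.x 44 1 * good_F4.full.x 47 1 := by
  simp [iR, sg, PR, U0, U1, P4, good_F4.full.x_zero]

theorem not_sim_iR : ¬ C.Sim C.iR C.iY := by
  rintro ⟨g, hg, e⟩
  obtain ⟨u, hu, h, hh, L, -, v, hv, rfl⟩ := C.Z.canonical hg
  obtain ⟨w, hw⟩ := C.mem_U1_iff.mp (C.Z.UT_le_U1 L hv)
  obtain ⟨z', hz', -, he⟩ := C.conj_step (v := C.sg 5 1) w (on := [5])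
    (onk := [0, 1, 2, 3, 4, 5, 6, 7, 8, 9, 10, 11]) (C.supp_sg 5 1)
    (fun i => Or.inl (by fin_cases i <;> simp))
    (ps := [0, 1, 2, 3, 4, 5, 6, 7, 8, 9, 10, 11]) kCentral
  simp [kv, parOf, venv, mval, sg] at he
  obtain ⟨a0, a1, a2, a3, a4, a5, a6, a7, a8, a9, a10, a11⟩ := he
  have hz : v * C.iR * v⁻¹ = C.iR := by
    have : z' = C.sg 5 1 := by funext i; fin_cases i <;> simp [sg, *]
    rw [hw, iR, ← hz', this]
  obtain ⟨w', hw'⟩ := C.mem_U1_iff.mp (inv_mem hu)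
  obtain ⟨y', hy', -, he⟩ := C.conj_step (v := C.sg 0 1) w' (on := [0])
    (onk := [0, 1, 2, 3, 4, 5, 6, 7, 8, 9, 10, 11]) (C.supp_sg 0 1)
    (fun i => Or.inl (by fin_cases i <;> simp))
    (ps := [0]) kConjY
  simp [kv, parOf, venv, mval, sg] at he
  set n := h * C.Z.nT L
  have hM : n * C.iR * n⁻¹ = C.PR y' := by
    rw [hy', ← hw', inv_inv]
    show n * C.iR * n⁻¹ = u⁻¹ * C.iY * u
    rw [← e]
    simp only [n]
    calc h * C.Z.nT L * C.iR * (h * C.Z.nT L)⁻¹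
        = h * C.Z.nT L * (v * C.iR * v⁻¹) * (h * C.Z.nT L)⁻¹ := by rw [hz]
      _ = _ := by group
  have hact : good_F4.full.RootAct n (C.Z.pwT L) := by
    have := good_F4.rootAct_mul (C.Z.rootAct_eq_one (C.Z.H0_diag hh)) (C.Z.nT_act L)
    rwa [one_mul] at this
  obtain ⟨c, hc⟩ := hact
  have himg : n * C.iR * n⁻¹ = good_F4.full.x (C.Z.pwT L ⟨44, by decide⟩).val (c ⟨44, by decide⟩ : K) *
      good_F4.full.x (C.Z.pwT L ⟨47, by decide⟩).val (c ⟨47, by decide⟩ : K) := by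
    rw [C.iR_eq, ← mul_one (c ⟨44, by decide⟩ : K), ← mul_one (c ⟨47, by decide⟩ : K),
      ← (hc ⟨44, by decide⟩).2.2.2 1, ← (hc ⟨47, by decide⟩).2.2.2 1]
    group
  rw [himg] at hM
  have hp := C.pwT_zPairs L
  generalize (C.Z.pwT L ⟨44, by decide⟩).val = r, (C.Z.pwT L ⟨47, by decide⟩).val = s at hM hp
  rcases zPairs_keys _ hp with ⟨hr, hs⟩ | ⟨-, -, -, -, hk⟩
  · have hneg : C.PR y' ∈ chevF4.negUnipotent K := by
      rw [← hM]
      refine mul_mem ?_ ?_
      · exact good_F4.x_mem_neg (show r < 48 by omega)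
          (fun h' => by have h48 : 48 ≤ 2 * r := h'.2; omega) _
      · exact good_F4.x_mem_neg (show s < 48 by omega)
          (fun h' => by have h48 : 48 ≤ 2 * s := h'.2; omega) _
    have h1 := good_F4.pos_inf_neg (Subgroup.mem_inf.mp (C.PR_mem y')).2 hneg
    rw [← C.PR_zero] at h1
    rw [C.PR_inj h1] at he
    exact one_ne_zero he.symm
  · have hwv : wv good_F4 [(c ⟨44, by decide⟩ : K), (c ⟨47, by decide⟩ : K)] [(r, unit1 0), (s, unit1 1)] =
        C.PR y' := by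
      rw [← hM]
      simp [wv, unit1, mval, List.replicate]
    obtain ⟨v', hv', he'⟩ := C.params_of_keys (ps := [0]) hk (hwv ▸ C.PR_mem y')
    simp [kv, parOf] at he'
    rw [C.PR_inj (hv'.symm.trans hwv)] at he'
    exact one_ne_zero (he.symm.trans he')

theorem not_sim : ¬ C.Sim C.iY C.iR := fun h => C.not_sim_iR (C.sim_symm h)

theorem index_odd : ¬ 2 ∣ (C.Z.U1.subgroupOf C.Z.G1).index := by
  have hmul := (C.Z.U1.subgroupOf C.Z.G1).card_mul_index
  rw [Nat.card_congr (Subgroup.subgroupOfEquivOfLe C.Z.U1_le).toEquiv, C.card_U1, C.card_group,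
    mul_assoc, mul_assoc, mul_assoc] at hmul
  rw [Nat.eq_of_mul_eq_mul_left (by positivity) hmul]
  have he : 2 ∣ 2 ^ (2 * m + 1) := dvd_pow_self 2 (by omega)
  have hpos : ∀ k, 1 ≤ (2 ^ (2 * m + 1)) ^ k := fun k => Nat.one_le_pow _ _ (by positivity)
  have hev : ∀ k, k ≠ 0 → 2 ∣ (2 ^ (2 * m + 1)) ^ k := fun k hk => dvd_pow he hk
  have e1 := hev 1 one_ne_zero
  have e3 := hev 3 (by norm_num)
  have e4 := hev 4 (by norm_num)
  have e6 := hev 6 (by norm_num)
  have p1 := hpos 1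
  have p4 := hpos 4
  rw [pow_one] at e1 p1
  exact Nat.prime_two.not_dvd_mul (by omega)
    (Nat.prime_two.not_dvd_mul (by omega) (Nat.prime_two.not_dvd_mul (by omega) (by omega)))

/-- Every involution is conjugate to one of the two representatives. -/
theorem invol_cases {g : GL chevF4.Idx K} (hg : g ∈ C.Z.G1) (ho : orderOf g = 2) :
    C.Sim g C.iY ∨ C.Sim g C.iR := by
  classical
  haveI : Fact (Nat.Prime 2) := ⟨Nat.prime_two⟩
  set U := C.Z.U1.subgroupOf C.Z.G1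
  have hU : IsPGroup 2 U := IsPGroup.of_card (n := (2 * m + 1) * 12) (by
    rw [Nat.card_congr (Subgroup.subgroupOfEquivOfLe C.Z.U1_le).toEquiv, C.card_U1, ← pow_mul])
  let P : Sylow 2 C.Z.G1 := hU.toSylow C.index_odd
  set g' : C.Z.G1 := ⟨g, hg⟩
  have hp : IsPGroup 2 (Subgroup.zpowers g') :=
    IsPGroup.of_card (n := 1) (by rw [Nat.card_zpowers, ← Subgroup.orderOf_coe, ho, pow_one])
  obtain ⟨Q, hQ⟩ := hp.exists_le_sylow
  obtain ⟨x, hx⟩ := MulAction.exists_smul_eq C.Z.G1 Q P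
  have hu : x * g' * x⁻¹ ∈ (P : Subgroup C.Z.G1) := by
    rw [← hx, Sylow.smul_def, Sylow.pointwise_smul_def]
    exact ⟨g', hQ (Subgroup.mem_zpowers g'), rfl⟩
  rw [IsPGroup.toSylow_coe] at hu
  have hu' : (x : GL chevF4.Idx K) * g * (x : GL chevF4.Idx K)⁻¹ ∈ C.Z.U1 :=
    Subgroup.mem_subgroupOf.mp hu
  obtain ⟨v, eq⟩ := C.mem_U1_iff.mp hu'
  have hs : C.Sim g (C.PR v) := ⟨x, x.2, eq⟩
  have hg2 : g * g = 1 := by rw [← pow_two, ← ho, pow_orderOf_eq_one]
  refine (C.classify (fun h1 => ?_) (C.sim_sq hs hg2)).imp (C.sim_trans hs)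
    (fun h => C.sim_trans (C.sim_trans hs h) (C.sim_symm C.iR_sim_iZ))
  obtain ⟨y, -, hy⟩ := hs
  rw [h1, C.PR_zero, conj_eq_one_iff] at hy
  rw [hy, orderOf_one] at ho
  omega

theorem sg_sq {i : Fin 12} (hi : i = 0 ∨ i = 5) : C.PR (C.sg i 1) * C.PR (C.sg i 1) = 1 := by
  rcases hi with rfl | rfl <;>
    simp [sg, PR, U0, U1, P4, good_F4.full.x_zero]
  · rw [← mul_assoc, mul_assoc (good_F4.full.x 33 1),
      (C.commute_of (pairRays (33, 24) (by simp)).2.2 1 1).eq, ← mul_assoc, good_F4.full.x_add,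
      C.add_self, good_F4.full.x_zero, one_mul, good_F4.full.x_add, C.add_self, good_F4.full.x_zero]
  · rw [← mul_assoc, mul_assoc (good_F4.full.x 44 1),
      ((C.quad_comm quadRays.2.1).2.2.2.2 1 1).eq, ← mul_assoc, good_F4.full.x_add,
      C.add_self, good_F4.full.x_zero, one_mul, good_F4.full.x_add, C.add_self, good_F4.full.x_zero]

theorem sg_ne_one (i : Fin 12) : C.PR (C.sg i 1) ≠ 1 := fun h => by
  rw [← C.PR_zero] at h
  simpa [sg] using congrFun (C.PR_inj h) i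

theorem iY_mem : C.iY ∈ C.Z.G1 := C.Z.U1_le (C.PR_mem _)

theorem iR_mem : C.iR ∈ C.Z.G1 := C.Z.U1_le (C.PR_mem _)

theorem iY_order : orderOf C.iY = 2 :=
  orderOf_eq_prime (by rw [pow_two]; exact C.sg_sq (Or.inl rfl)) (C.sg_ne_one 0)

theorem iR_order : orderOf C.iR = 2 :=
  orderOf_eq_prime (by rw [pow_two]; exact C.sg_sq (Or.inr rfl)) (C.sg_ne_one 5)

/-- There are exactly two classes of involutions. -/
theorem invol_class_count :
    (ConjClasses.mk '' {g : C.Z.G1 | orderOf g = 2}).ncard = 2 := by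
  let Y : C.Z.G1 := ⟨C.iY, C.iY_mem⟩
  let Z : C.Z.G1 := ⟨C.iR, C.iR_mem⟩
  have hmk : ∀ g h : C.Z.G1, ConjClasses.mk g = ConjClasses.mk h ↔
      C.Sim (g : GL chevF4.Idx K) h := fun g h => by
    rw [ConjClasses.mk_eq_mk_iff_isConj, isConj_iff]
    constructor
    · rintro ⟨k, rfl⟩
      exact ⟨k, k.2, rfl⟩
    · rintro ⟨k, hk, e⟩
      exact ⟨⟨k, hk⟩, Subtype.ext e⟩
  have hY : orderOf Y = 2 := (Subgroup.orderOf_coe Y).symm.trans C.iY_order
  have hZ : orderOf Z = 2 := (Subgroup.orderOf_coe Z).symm.trans C.iR_order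
  have himg : ConjClasses.mk '' {g : C.Z.G1 | orderOf g = 2} =
      {ConjClasses.mk Y, ConjClasses.mk Z} := by
    refine Set.Subset.antisymm ?_ ?_
    · rintro _ ⟨g, hg, rfl⟩
      rcases C.invol_cases g.2 ((Subgroup.orderOf_coe g).trans hg) with h | h
      exacts [Or.inl ((hmk g Y).mpr h), Or.inr ((hmk g Z).mpr h)]
    · rintro _ (rfl | rfl)
      exacts [⟨Y, hY, rfl⟩, ⟨Z, hZ, rfl⟩]
  rw [himg, Set.ncard_pair]
  exact fun h => C.not_sim ((hmk Y Z).mp h)

end Ctx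

end CfsgLib.Chev.F4Tw
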