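import Cfsg.Agent.Chev.F4TwCoord

/-!
Collected words for the classes of involutions of `²F₄(q)`.
-/

set_option autoImplicit false
set_option maxRecDepth 100000

namespace CfsgLib.Chev.F4Tw

open CfsgLib.Chev.CharTwo

/-- The word of a conjugate by an element of the second vector of parameters. -/
def conjW (on k : List ℕ) : List (ℕ × List ℕ) :=
  second (rayW k) ++ rayW on ++ (second (rayW k)).reverse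

/-- The coordinates needed for the parameters in `ps`. -/
def needR : ℕ → List ℕ
  | 0 => [24] | 1 => [26] | 2 => [36, 34, 26] | 3 => [43] | 4 => [41] | 5 => [44, 29, 41]
  | 6 => [45] | 7 => [31] | 8 => [40, 35, 31] | 9 => [32] | 10 => [25] | _ => [28, 27, 25]

/-- The monomials at the roots of the parameters in `ps`. -/
def keys (n : ℕ) (w : List (ℕ × List ℕ)) (ps : List ℕ) : Option (List (List (List (List ℕ)))) :=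
  (norm F4Data.tab rayOrd n w).map fun L => ps.map fun i => (needR i).map fun r =>
    (L.filter fun x => Nat.beq x.1 r).map Prod.snd

theorem kSqFull : keys 100000 (rayW [0, 1, 2, 3, 4, 5, 6, 7, 8, 9, 10, 11] ++ rayW [0, 1, 2, 3, 4, 5, 6, 7, 8, 9, 10, 11]) [11] = some [
      [[[0, 0, 0, 0, 0, 0, 0, 0, 0, 0, 0, 0, 0, 0, 0, 0, 0, 0, 0, 0, 1, 1]], [], []]] := by
  decide +kernel

theorem kSqA : keys 100000 (rayW [0, 2, 3, 4, 5, 6, 7, 8, 9, 11] ++ rayW [0, 2, 3, 4, 5, 6, 7, 8, 9, 11]) [9] = some [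
      [[[1, 0, 0, 0, 0, 0, 0, 0, 0, 0, 0, 0, 0, 0, 0, 0, 0, 0, 0, 0, 0, 0, 2]]]] := by
  decide +kernel

theorem kA1 : keys 100000 (conjW [0, 1, 2, 3, 4, 5, 6, 7, 8, 9, 11] [10]) [0, 1, 10] = some [
      [[[1]]],
      [[[0, 0, 1], [1, 0, 0, 0, 0, 0, 0, 0, 0, 0, 0, 0, 0, 0, 0, 0, 0, 0, 0, 0, 0, 0, 0, 0, 0, 0, 0, 0, 0, 0, 0, 0, 0, 0, 0, 0, 0, 0, 0, 0, 0, 0, 0, 0, 1]]],
      [[]]] := by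
  decide +kernel

theorem kA2 : keys 100000 (conjW [0, 2, 3, 4, 5, 6, 7, 8, 9] [11]) [0, 1, 7, 10, 11] = some [
      [[[1]]],
      [[]],
      [[[0, 0, 0, 0, 0, 0, 0, 0, 0, 0, 0, 0, 0, 0, 1], [1, 0, 0, 0, 0, 0, 0, 0, 0, 0, 0, 0, 0, 0, 0, 0, 0, 0, 0, 0, 0, 0, 0, 0, 0, 0, 0, 0, 0, 0, 0, 0, 0, 0, 0, 0, 0, 0, 0, 0, 0, 0, 0, 0, 0, 0, 0, 1]]],
      [[]],
      [[], [], []]] := by
  decide +kernel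

theorem kSqA2 : keys 100000 (rayW [0, 2, 3, 4, 5, 6, 8, 9] ++ rayW [0, 2, 3, 4, 5, 6, 8, 9]) [2, 3, 5] = some [
      [[[0, 1, 0, 0, 0, 0, 0, 0, 0, 1]], [], []],
      [[[0, 2, 0, 0, 0, 0, 0, 0, 0, 0, 0, 0, 0, 0, 0, 0, 0, 0, 1]]],
      [[[0, 0, 0, 0, 0, 0, 0, 0, 1, 1], [0, 0, 0, 0, 1, 0, 0, 0, 0, 0, 0, 0, 0, 0, 0, 0, 0, 0, 0, 1], [0, 1, 0, 0, 0, 0, 0, 0, 0, 0, 0, 0, 0, 0, 0, 0, 1]], [], []]] := by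
  decide +kernel

theorem kA3 : keys 100000 (conjW [0, 2, 3, 5, 6] [7]) [0, 1, 2, 3, 4, 5, 6, 7, 8, 9, 10, 11] = some [
      [[[1]]],
      [[]],
      [[[0, 0, 0, 0, 1], [1, 0, 0, 0, 0, 0, 0, 0, 0, 0, 0, 0, 0, 0, 0, 0, 0, 0, 0, 0, 0, 0, 0, 0, 0, 0, 0, 0, 0, 0, 0, 0, 0, 0, 0, 0, 0, 0, 0, 1]], [], []],
      [[[0, 0, 0, 0, 0, 0, 1], [1, 0, 0, 0, 0, 0, 0, 0, 0, 0, 0, 0, 0, 0, 0, 0, 0, 0, 0, 0, 0, 0, 0, 0, 0, 0, 0, 0, 0, 0, 0, 0, 0, 0, 0, 0, 0, 0, 0, 2]]],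
      [[]],
      [[[0, 0, 0, 0, 0, 0, 0, 0, 0, 0, 1], [0, 0, 0, 0, 0, 0, 0, 1, 0, 0, 0, 0, 0, 0, 0, 0, 0, 0, 0, 0, 0, 0, 0, 0, 0, 0, 0, 0, 0, 0, 0, 0, 0, 0, 0, 0, 0, 0, 0, 1]], [], []],
      [[[0, 0, 0, 0, 0, 0, 0, 0, 0, 0, 0, 0, 1]]],
      [[]],
      [[], [], []],
      [[]],
      [[]],
      [[], [], []]] := by
  decide +kernel

theorem kA4 : keys 100000 (conjW [0, 3, 5, 6] [9]) [0, 1, 2, 3, 4, 5, 6, 7, 8, 9, 10, 11] = some [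
      [[[1]]],
      [[]],
      [[], [], []],
      [[[0, 0, 0, 0, 0, 0, 1], [0, 2, 0, 0, 0, 0, 0, 0, 0, 0, 0, 0, 0, 0, 0, 0, 0, 0, 0, 0, 0, 0, 0, 0, 0, 0, 0, 0, 0, 0, 0, 0, 0, 0, 0, 0, 0, 0, 0, 0, 0, 0, 1]]],
      [[]],
      [[[0, 0, 0, 0, 0, 0, 0, 0, 0, 0, 1]], [], []],
      [[[0, 0, 0, 0, 0, 0, 0, 0, 0, 0, 0, 0, 1], [1, 0, 0, 0, 0, 0, 0, 0, 0, 0, 0, 0, 0, 0, 0, 0, 0, 0, 0, 0, 0, 0, 0, 0, 0, 0, 0, 0, 0, 0, 0, 0, 0, 0, 0, 0, 0, 0, 0, 0, 0, 0, 0, 2]]],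
      [[]],
      [[], [], []],
      [[]],
      [[]],
      [[], [], []]] := by
  decide +kernel

theorem kA5 : keys 100000 (conjW [0, 5, 6] [8]) [0, 1, 2, 3, 4, 5, 6, 7, 8, 9, 10, 11] = some [
      [[[1]]],
      [[]],
      [[], [], []],
      [[]],
      [[]],
      [[[0, 0, 0, 0, 0, 0, 0, 0, 0, 0, 1], [0, 1, 0, 0, 0, 0, 0, 0, 0, 0, 0, 0, 0, 0, 0, 0, 0, 0, 0, 0, 0, 0, 0, 0, 0, 0, 0, 0, 0, 0, 0, 0, 0, 0, 0, 0, 0, 0, 0, 0, 1]], [], []],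
      [[[0, 0, 0, 0, 0, 0, 0, 0, 0, 0, 0, 0, 1]]],
      [[]],
      [[], [], []],
      [[]],
      [[]],
      [[], [], []]] := by
  decide +kernel

theorem kA6 : keys 100000 (conjW [3, 9] [0]) [0, 1, 2, 3, 4, 5, 6, 7, 8, 9, 10, 11] = some [
      [[]],
      [[]],
      [[], [], []],
      [[[0, 0, 0, 0, 0, 0, 0, 0, 0, 0, 0, 0, 0, 0, 0, 0, 0, 0, 1, 0, 0, 0, 0, 0, 0, 2], [0, 0, 0, 0, 0, 0, 1]]],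
      [[]],
      [[], [], []],
      [[[0, 0, 0, 0, 0, 0, 0, 0, 0, 0, 0, 0, 0, 0, 0, 0, 0, 0, 0, 2, 0, 0, 0, 0, 1]]],
      [[]],
      [[], [], []],
      [[[0, 0, 0, 0, 0, 0, 0, 0, 0, 0, 0, 0, 0, 0, 0, 0, 0, 0, 1]]],
      [[]],
      [[], [], []]] := by
  decide +kernel

theorem kA7 : keys 100000 (conjW [6, 9] [1]) [0, 1, 2, 3, 4, 5, 6, 7, 8, 9, 10, 11] = some [
      [[]],
      [[]],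
      [[], [], []],
      [[]],
      [[]],
      [[[0, 0, 0, 0, 0, 0, 0, 0, 0, 0, 0, 0, 0, 1, 0, 0, 0, 0, 0, 0, 0, 0, 0, 0, 0, 0, 0, 1]], [], []],
      [[[0, 0, 0, 0, 0, 0, 0, 0, 0, 0, 0, 0, 0, 0, 0, 0, 0, 0, 1, 0, 0, 0, 0, 0, 0, 0, 0, 2], [0, 0, 0, 0, 0, 0, 0, 0, 0, 0, 0, 0, 1]]],
      [[]],
      [[[0, 0, 0, 0, 0, 0, 0, 0, 0, 0, 0, 0, 0, 0, 0, 0, 0, 0, 1, 0, 0, 0, 0, 0, 0, 0, 0, 1]], [], []],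
      [[[0, 0, 0, 0, 0, 0, 0, 0, 0, 0, 0, 0, 0, 0, 0, 0, 0, 0, 1]]],
      [[]],
      [[], [], []]] := by
  decide +kernel

theorem kA8 : keys 100000 (conjW [5, 8, 9] [2]) [0, 1, 2, 3, 4, 5, 6, 7, 8, 9, 10, 11] = some [
      [[]],
      [[]],
      [[], [], []],
      [[]],
      [[]],
      [[[0, 0, 0, 0, 0, 0, 0, 0, 0, 0, 0, 0, 0, 0, 0, 0, 0, 0, 0, 1, 0, 0, 0, 0, 0, 0, 0, 0, 1], [0, 0, 0, 0, 0, 0, 0, 0, 0, 0, 1]], [], []],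
      [[]],
      [[]],
      [[[0, 0, 0, 0, 0, 0, 0, 0, 0, 0, 0, 0, 0, 0, 0, 0, 1]], [], []],
      [[[0, 0, 0, 0, 0, 0, 0, 0, 0, 0, 0, 0, 0, 0, 0, 0, 0, 0, 1]]],
      [[]],
      [[], [], []]] := by
  decide +kernel

theorem kA9 : keys 100000 (conjW [8, 9] [4]) [0, 1, 2, 3, 4, 5, 6, 7, 8, 9, 10, 11] = some [
      [[]],
      [[]],
      [[], [], []],
      [[]],
      [[]],
      [[], [], []],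
      [[]],
      [[]],
      [[[0, 0, 0, 0, 0, 0, 0, 0, 0, 0, 0, 0, 0, 0, 0, 0, 0, 0, 0, 1, 0, 0, 0, 0, 0, 0, 0, 0, 0, 0, 0, 0, 0, 1], [0, 0, 0, 0, 0, 0, 0, 0, 0, 0, 0, 0, 0, 0, 0, 0, 1]], [], []],
      [[[0, 0, 0, 0, 0, 0, 0, 0, 0, 0, 0, 0, 0, 0, 0, 0, 0, 0, 1]]],
      [[]],
      [[], [], []]] := by
  decide +kernel

theorem kSqB : keys 100000 (rayW [1, 2, 3, 4, 5, 6, 7, 8, 9, 11] ++ rayW [1, 2, 3, 4, 5, 6, 7, 8, 9, 11]) [2] = some [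
      [[[0, 0, 1, 1]], [], []]] := by
  decide +kernel

theorem kSqB2 : keys 100000 (rayW [2, 3, 4, 5, 6, 7, 8, 9, 11] ++ rayW [2, 3, 4, 5, 6, 7, 8, 9, 11]) [6] = some [
      [[[0, 0, 0, 0, 0, 0, 0, 0, 1, 0, 0, 0, 0, 0, 1], [0, 0, 0, 0, 0, 1, 0, 0, 0, 0, 0, 0, 0, 0, 0, 0, 0, 0, 0, 0, 0, 0, 0, 1]]]] := by
  decide +kernel

theorem kB1 : keys 100000 (conjW [2, 3, 4, 5, 6, 7, 8, 9, 11] [0]) [0, 1, 2, 10] = some [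
      [[]],
      [[]],
      [[[0, 0, 0, 0, 0, 0, 0, 0, 0, 0, 0, 0, 0, 0, 0, 0, 0, 0, 0, 0, 0, 0, 1, 0, 1, 1], [0, 0, 0, 0, 0, 0, 0, 0, 0, 0, 0, 0, 0, 0, 0, 1, 0, 0, 0, 0, 0, 0, 0, 0, 1], [0, 0, 0, 0, 0, 0, 0, 0, 0, 1, 0, 0, 0, 0, 0, 0, 0, 0, 0, 0, 0, 0, 0, 0, 0, 1], [0, 0, 0, 0, 1]], [], []],
      [[]]] := by
  decide +kernel

theorem kSqB3 : keys 100000 (rayW [2, 3, 4, 5, 6, 7, 8] ++ rayW [2, 3, 4, 5, 6, 7, 8]) [5, 8] = some [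
      [[[0, 0, 0, 0, 0, 0, 0, 0, 1, 1], [0, 0, 0, 0, 0, 0, 0, 1, 0, 0, 0, 0, 0, 0, 0, 1]], [], []],
      [[[0, 0, 0, 0, 0, 0, 0, 0, 0, 0, 0, 0, 0, 0, 1, 1]], [], []]] := by
  decide +kernel

theorem kB8 : keys 100000 (conjW [2, 3, 5, 6, 8] [10]) [0, 1, 2, 3, 4, 5, 6, 7, 8, 9, 10, 11] = some [
      [[]],
      [[]],
      [[[0, 0, 0, 0, 1]], [], []],
      [[[0, 0, 0, 0, 0, 0, 1], [0, 0, 0, 0, 0, 1, 0, 0, 0, 0, 0, 0, 0, 0, 0, 0, 0, 0, 0, 0, 0, 0, 0, 0, 0, 0, 0, 0, 0, 0, 0, 0, 0, 0, 0, 0, 0, 0, 0, 0, 0, 0, 0, 0, 1]]],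
      [[]],
      [[[0, 0, 0, 0, 0, 0, 0, 0, 0, 0, 1], [0, 0, 0, 0, 0, 0, 1, 0, 0, 0, 0, 0, 0, 0, 0, 0, 0, 0, 0, 0, 0, 0, 0, 0, 0, 0, 0, 0, 0, 0, 0, 0, 0, 0, 0, 0, 0, 0, 0, 0, 0, 0, 0, 0, 0, 1]], [], []],
      [[[0, 0, 0, 0, 0, 0, 0, 0, 0, 0, 0, 0, 1], [0, 0, 0, 0, 0, 0, 1, 0, 0, 0, 0, 0, 0, 0, 0, 0, 0, 0, 0, 0, 0, 0, 0, 0, 0, 0, 0, 0, 0, 0, 0, 0, 0, 0, 0, 0, 0, 0, 0, 0, 0, 0, 0, 0, 0, 2], [0, 0, 0, 0, 0, 1, 0, 0, 0, 0, 0, 0, 0, 0, 0, 0, 0, 0, 0, 0, 0, 0, 0, 0, 0, 0, 0, 0, 0, 0, 0, 0, 0, 0, 0, 0, 0, 0, 0, 0, 0, 0, 0, 0, 1, 2]]],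
      [[]],
      [[[0, 0, 0, 0, 0, 0, 0, 0, 0, 0, 0, 0, 0, 0, 0, 0, 1], [0, 0, 0, 0, 0, 0, 0, 0, 0, 0, 0, 0, 0, 1, 0, 0, 0, 0, 0, 0, 0, 0, 0, 0, 0, 0, 0, 0, 0, 0, 0, 0, 0, 0, 0, 0, 0, 0, 0, 0, 0, 0, 0, 0, 0, 1], [0, 0, 0, 0, 1, 0, 0, 0, 0, 0, 0, 0, 0, 0, 0, 0, 0, 0, 0, 0, 0, 0, 0, 0, 0, 0, 0, 0, 0, 0, 0, 0, 0, 0, 0, 0, 0, 0, 0, 0, 0, 0, 0, 0, 1, 2]], [], []],
      [[]],
      [[]],
      [[], [], []]] := by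
  decide +kernel

theorem kB8u : keys 100000 (conjW [2, 5, 6, 8] [11]) [0, 1, 2, 3, 4, 5, 6, 7, 8, 9, 10, 11] = some [
      [[]],
      [[]],
      [[[0, 0, 0, 0, 1]], [], []],
      [[]],
      [[]],
      [[[0, 0, 0, 0, 0, 0, 0, 0, 0, 0, 1], [0, 0, 0, 0, 0, 1, 0, 0, 0, 0, 0, 0, 0, 0, 0, 0, 0, 0, 0, 0, 0, 0, 0, 0, 0, 0, 0, 0, 0, 0, 0, 0, 0, 0, 0, 0, 0, 0, 0, 0, 0, 0, 0, 0, 0, 0, 1]], [], []],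
      [[[0, 0, 0, 0, 0, 0, 0, 0, 0, 0, 0, 0, 1], [0, 0, 0, 0, 0, 1, 0, 0, 0, 0, 0, 0, 0, 0, 0, 0, 0, 0, 0, 0, 0, 0, 0, 0, 0, 0, 0, 0, 0, 0, 0, 0, 0, 0, 0, 0, 0, 0, 0, 0, 0, 0, 0, 0, 0, 0, 0, 1]]],
      [[]],
      [[[0, 0, 0, 0, 0, 0, 0, 0, 0, 0, 0, 0, 0, 0, 0, 0, 1], [0, 0, 0, 0, 1, 0, 0, 0, 0, 0, 0, 0, 0, 0, 0, 0, 0, 0, 0, 0, 0, 0, 0, 0, 0, 0, 0, 0, 0, 0, 0, 0, 0, 0, 0, 0, 0, 0, 0, 0, 0, 0, 0, 0, 0, 0, 0, 1]], [], []],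
      [[]],
      [[]],
      [[], [], []]] := by
  decide +kernel

theorem kB7 : keys 100000 (conjW [2, 5, 6] [9]) [0, 1, 2, 3, 4, 5, 6, 7, 8, 9, 10, 11] = some [
      [[]],
      [[]],
      [[[0, 0, 0, 0, 1]], [], []],
      [[]],
      [[]],
      [[[0, 0, 0, 0, 0, 0, 0, 0, 0, 0, 1], [0, 0, 0, 0, 1, 0, 0, 0, 0, 0, 0, 0, 0, 0, 0, 0, 0, 0, 0, 0, 0, 0, 0, 0, 0, 0, 0, 0, 0, 0, 0, 0, 0, 0, 0, 0, 0, 0, 0, 0, 0, 0, 0, 1]], [], []],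
      [[[0, 0, 0, 0, 0, 0, 0, 0, 0, 0, 0, 0, 1]]],
      [[]],
      [[], [], []],
      [[]],
      [[]],
      [[], [], []]] := by
  decide +kernel

theorem kAdd : keys 100000 (rayW [0, 1, 2, 3, 4, 5, 6, 7, 8, 9, 10, 11] ++ second (rayW [0, 1, 2, 3, 4, 5, 6, 7, 8, 9, 10, 11])) [0] = some [
      [[[0, 0, 0, 0, 0, 0, 0, 0, 0, 0, 0, 0, 0, 0, 0, 0, 0, 0, 0, 0, 0, 0, 0, 0, 1], [1]]]] := by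
  decide +kernel

theorem kCentral : keys 100000 (conjW [5] [0, 1, 2, 3, 4, 5, 6, 7, 8, 9, 10, 11]) [0, 1, 2, 3, 4, 5, 6, 7, 8, 9, 10, 11] = some [
      [[]],
      [[]],
      [[], [], []],
      [[]],
      [[]],
      [[[0, 0, 0, 0, 0, 0, 0, 0, 0, 0, 1]], [], []],
      [[]],
      [[]],
      [[], [], []],
      [[]],
      [[]],
      [[], [], []]] := by
  decide +kernel

theorem kConjY : keys 100000 (conjW [0] [0, 1, 2, 3, 4, 5, 6, 7, 8, 9, 10, 11]) [0] = some [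
      [[[1]]]] := by
  decide +kernel

theorem kCentY : keys 100000 (conjW [0] [1, 2]) [0, 1, 2, 3, 4, 5, 6, 7, 8, 9, 10, 11] = some [
      [[[1]]],
      [[]],
      [[], [], []],
      [[]],
      [[]],
      [[], [], []],
      [[]],
      [[]],
      [[], [], []],
      [[]],
      [[]],
      [[], [], []]] := by
  decide +kernel

theorem kCentZ : keys 100000 (conjW [5] [10]) [0, 1, 2, 3, 4, 5, 6, 7, 8, 9, 10, 11] = some [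
      [[]],
      [[]],
      [[], [], []],
      [[]],
      [[]],
      [[[0, 0, 0, 0, 0, 0, 0, 0, 0, 0, 1]], [], []],
      [[]],
      [[]],
      [[], [], []],
      [[]],
      [[]],
      [[], [], []]] := by
  decide +kernel

theorem kNa : keys 100000 (reflW 1 (rayW [2, 3, 4, 5, 6, 7, 8, 9])) [0, 10] = some [
      [[[0, 0, 0, 0, 0, 0, 0, 0, 0, 0, 0, 0, 0, 0, 0, 0, 0, 0, 1, 0, 0, 0, 0, 0, 0, 0, 0, 0, 0, 0, 0, 0, 0, 0, 0, 0, 0, 0, 0, 0, 0, 0, 0, 0, 0, 0, 0, 0, 0, 0, 0, 0, 0, 0, 0, 0, 1]]],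
      [[]]] := by
  decide +kernel

theorem kNb : keys 100000 (reflW 0 (rayW [3, 4, 5, 6, 7, 8, 9])) [0, 1, 9, 10, 11] = some [
      [[]],
      [[]],
      [[[0, 0, 0, 0, 0, 0, 1, 0, 0, 0, 0, 0, 0, 0, 0, 0, 0, 0, 0, 0, 0, 0, 0, 0, 0, 0, 0, 0, 0, 0, 0, 0, 0, 0, 0, 0, 0, 0, 0, 0, 0, 0, 0, 0, 0, 0, 0, 0, 0, 0, 0, 0, 0, 0, 0, 0, 0, 0, 0, 0, 0, 0, 0, 0, 0, 0, 0, 1]]],
      [[]],
      [[], [], []]] := by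
  decide +kernel

theorem kNc : keys 100000 (reflW 0 (rayW [3, 4, 5, 6, 7, 8, 9, 11])) [0, 1, 10, 11] = some [
      [[]],
      [[]],
      [[]],
      [[], [], []]] := by
  decide +kernel

theorem kNd : keys 100000 (reflW 1 (rayW [5, 6, 8])) [0, 1, 2, 3, 4, 5, 6, 7, 8, 9, 10, 11] = some [
      [[]],
      [[]],
      [[[0, 0, 0, 0, 0, 0, 0, 0, 0, 0, 0, 0, 0, 0, 0, 0, 1, 0, 0, 0, 0, 0, 0, 0, 0, 0, 0, 0, 0, 0, 0, 0, 0, 0, 0, 0, 0, 0, 0, 0, 0, 0, 0, 0, 0, 0, 0, 0, 0, 0, 0, 0, 0, 0, 0, 0, 0, 0, 0, 0, 0, 0, 0, 0, 1]], [], []],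
      [[[0, 0, 0, 0, 0, 0, 0, 0, 0, 0, 0, 0, 1, 0, 0, 0, 0, 0, 0, 0, 0, 0, 0, 0, 0, 0, 0, 0, 0, 0, 0, 0, 0, 0, 0, 0, 0, 0, 0, 0, 0, 0, 0, 0, 0, 0, 0, 0, 0, 0, 0, 0, 0, 0, 0, 0, 0, 0, 0, 0, 0, 0, 0, 0, 0, 0, 0, 0, 0, 1]]],
      [[]],
      [[[0, 0, 0, 0, 0, 0, 0, 0, 0, 0, 1, 0, 0, 0, 0, 0, 0, 0, 0, 0, 0, 0, 0, 0, 0, 0, 0, 0, 0, 0, 0, 0, 0, 0, 0, 0, 0, 0, 0, 0, 0, 0, 0, 0, 0, 0, 0, 0, 0, 0, 0, 0, 0, 0, 0, 0, 0, 0, 0, 0, 0, 0, 0, 0, 0, 0, 0, 0, 1]], [], []],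
      [[]],
      [[]],
      [[], [], []],
      [[]],
      [[]],
      [[], [], []]] := by
  decide +kernel

theorem kNe : keys 100000 (reflW 1 (rayW [5, 6])) [0, 1, 2, 3, 4, 5, 6, 7, 8, 9, 10, 11] = some [
      [[]],
      [[]],
      [[], [], []],
      [[[0, 0, 0, 0, 0, 0, 0, 0, 0, 0, 0, 0, 1, 0, 0, 0, 0, 0, 0, 0, 0, 0, 0, 0, 0, 0, 0, 0, 0, 0, 0, 0, 0, 0, 0, 0, 0, 0, 0, 0, 0, 0, 0, 0, 0, 0, 0, 0, 0, 0, 0, 0, 0, 0, 0, 0, 0, 0, 0, 0, 0, 0, 0, 0, 0, 0, 0, 0, 0, 1]]],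
      [[]],
      [[[0, 0, 0, 0, 0, 0, 0, 0, 0, 0, 1, 0, 0, 0, 0, 0, 0, 0, 0, 0, 0, 0, 0, 0, 0, 0, 0, 0, 0, 0, 0, 0, 0, 0, 0, 0, 0, 0, 0, 0, 0, 0, 0, 0, 0, 0, 0, 0, 0, 0, 0, 0, 0, 0, 0, 0, 0, 0, 0, 0, 0, 0, 0, 0, 0, 0, 0, 0, 1]], [], []],
      [[]],
      [[]],
      [[], [], []],
      [[]],
      [[]],
      [[], [], []]] := by
  decide +kernel

theorem kNf : keys 100000 (reflW 1 (rayW [2, 6])) [0, 1, 2, 3, 4, 5, 6, 7, 8, 9, 10, 11] = some [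
      [[]],
      [[]],
      [[], [], []],
      [[[0, 0, 0, 0, 0, 0, 0, 0, 0, 0, 0, 0, 1, 0, 0, 0, 0, 0, 0, 0, 0, 0, 0, 0, 0, 0, 0, 0, 0, 0, 0, 0, 0, 0, 0, 0, 0, 0, 0, 0, 0, 0, 0, 0, 0, 0, 0, 0, 0, 0, 0, 0, 0, 0, 0, 0, 0, 0, 0, 0, 0, 0, 0, 0, 0, 0, 0, 0, 0, 1]]],
      [[]],
      [[], [], []],
      [[]],
      [[]],
      [[[0, 0, 0, 0, 1, 0, 0, 0, 0, 0, 0, 0, 0, 0, 0, 0, 0, 0, 0, 0, 0, 0, 0, 0, 0, 0, 0, 0, 0, 0, 0, 0, 0, 0, 0, 0, 0, 0, 0, 0, 0, 0, 0, 0, 0, 0, 0, 0, 0, 0, 0, 0, 0, 0, 0, 0, 0, 0, 0, 0, 1]], [], []],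
      [[]],
      [[]],
      [[], [], []]] := by
  decide +kernel

theorem kN0R : keys 100000 (reflW 0 (rayW [5])) [0, 1, 2, 3, 4, 5, 6, 7, 8, 9, 10, 11] = some [
      [[]],
      [[]],
      [[], [], []],
      [[]],
      [[]],
      [[], [], []],
      [[]],
      [[]],
      [[[0, 0, 0, 0, 0, 0, 0, 0, 0, 0, 1, 0, 0, 0, 0, 0, 0, 0, 0, 0, 0, 0, 0, 0, 0, 0, 0, 0, 0, 0, 0, 0, 0, 0, 0, 0, 0, 0, 0, 0, 0, 0, 0, 0, 0, 0, 0, 0, 0, 0, 0, 0, 0, 0, 0, 0, 0, 0, 0, 0, 0, 0, 0, 0, 0, 0, 0, 0, 1]], [], []],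
      [[]],
      [[]],
      [[], [], []]] := by
  decide +kernel

theorem kN1R6 : keys 100000 (reflW 1 (rayW [8])) [0, 1, 2, 3, 4, 5, 6, 7, 8, 9, 10, 11] = some [
      [[]],
      [[]],
      [[[0, 0, 0, 0, 0, 0, 0, 0, 0, 0, 0, 0, 0, 0, 0, 0, 1, 0, 0, 0, 0, 0, 0, 0, 0, 0, 0, 0, 0, 0, 0, 0, 0, 0, 0, 0, 0, 0, 0, 0, 0, 0, 0, 0, 0, 0, 0, 0, 0, 0, 0, 0, 0, 0, 0, 0, 0, 0, 0, 0, 0, 0, 0, 0, 1]], [], []],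
      [[]],
      [[]],
      [[], [], []],
      [[]],
      [[]],
      [[], [], []],
      [[]],
      [[]],
      [[], [], []]] := by
  decide +kernel

theorem kN1R2 : keys 100000 (reflW 1 (rayW [2])) [0, 1, 2, 3, 4, 5, 6, 7, 8, 9, 10, 11] = some [
      [[]],
      [[]],
      [[], [], []],
      [[]],
      [[]],
      [[], [], []],
      [[]],
      [[]],
      [[[0, 0, 0, 0, 1, 0, 0, 0, 0, 0, 0, 0, 0, 0, 0, 0, 0, 0, 0, 0, 0, 0, 0, 0, 0, 0, 0, 0, 0, 0, 0, 0, 0, 0, 0, 0, 0, 0, 0, 0, 0, 0, 0, 0, 0, 0, 0, 0, 0, 0, 0, 0, 0, 0, 0, 0, 0, 0, 0, 0, 1]], [], []],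
      [[]],
      [[]],
      [[], [], []]] := by
  decide +kernel

theorem kN0R2 : keys 100000 (reflW 0 (rayW [2])) [0, 1, 2, 3, 4, 5, 6, 7, 8, 9, 10, 11] = some [
      [[]],
      [[]],
      [[], [], []],
      [[]],
      [[]],
      [[], [], []],
      [[]],
      [[]],
      [[], [], []],
      [[]],
      [[]],
      [[[0, 0, 0, 0, 1, 0, 0, 0, 0, 0, 0, 0, 0, 0, 0, 0, 0, 0, 0, 0, 0, 0, 0, 0, 0, 0, 0, 0, 0, 0, 0, 0, 0, 0, 0, 0, 0, 0, 0, 0, 0, 0, 0, 0, 0, 0, 0, 0, 0, 0, 0, 0, 0, 0, 0, 0, 0, 0, 0, 0, 1]], [], []]] := by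
  decide +kernel

theorem kN0R6 : keys 100000 (reflW 0 (rayW [8])) [0, 1, 2, 3, 4, 5, 6, 7, 8, 9, 10, 11] = some [
      [[]],
      [[]],
      [[], [], []],
      [[]],
      [[]],
      [[[0, 0, 0, 0, 0, 0, 0, 0, 0, 0, 0, 0, 0, 0, 0, 0, 1, 0, 0, 0, 0, 0, 0, 0, 0, 0, 0, 0, 0, 0, 0, 0, 0, 0, 0, 0, 0, 0, 0, 0, 0, 0, 0, 0, 0, 0, 0, 0, 0, 0, 0, 0, 0, 0, 0, 0, 0, 0, 0, 0, 0, 0, 0, 0, 1]], [], []],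
      [[]],
      [[]],
      [[], [], []],
      [[]],
      [[]],
      [[], [], []]] := by
  decide +kernel

theorem kN0R8 : keys 100000 (reflW 0 (rayW [11])) [0, 1, 2, 3, 4, 5, 6, 7, 8, 9, 10, 11] = some [
      [[]],
      [[]],
      [[[0, 0, 0, 0, 0, 0, 0, 0, 0, 0, 0, 0, 0, 0, 0, 0, 0, 0, 0, 0, 0, 0, 1, 0, 0, 0, 0, 0, 0, 0, 0, 0, 0, 0, 0, 0, 0, 0, 0, 0, 0, 0, 0, 0, 0, 0, 0, 0, 0, 0, 0, 0, 1]], [], []],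
      [[]],
      [[]],
      [[], [], []],
      [[]],
      [[]],
      [[], [], []],
      [[]],
      [[]],
      [[], [], []]] := by
  decide +kernel

theorem kNh : keys 100000 (reflW 1 (rayW [0, 6])) [0, 1, 2, 3, 4, 5, 6, 7, 8, 9, 10, 11] = some [
      [[]],
      [[]],
      [[], [], []],
      [[[0, 0, 0, 0, 0, 0, 0, 0, 0, 0, 0, 0, 1, 0, 0, 0, 0, 0, 0, 0, 0, 0, 0, 0, 0, 0, 0, 0, 0, 0, 0, 0, 0, 0, 0, 0, 0, 0, 0, 0, 0, 0, 0, 0, 0, 0, 0, 0, 0, 0, 0, 0, 0, 0, 0, 0, 0, 0, 0, 0, 0, 0, 0, 0, 0, 0, 0, 0, 0, 1]]],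
      [[]],
      [[], [], []],
      [[]],
      [[]],
      [[], [], []],
      [[[1, 0, 0, 0, 0, 0, 0, 0, 0, 0, 0, 0, 0, 0, 0, 0, 0, 0, 0, 0, 0, 0, 0, 0, 0, 0, 0, 0, 0, 0, 0, 0, 0, 0, 0, 0, 0, 0, 0, 0, 0, 0, 0, 0, 0, 0, 0, 0, 1]]],
      [[]],
      [[], [], []]] := by
  decide +kernel

theorem kNi : keys 100000 (reflW 1 (rayW [9])) [0, 1, 2, 3, 4, 5, 6, 7, 8, 9, 10, 11] = some [
      [[[0, 0, 0, 0, 0, 0, 0, 0, 0, 0, 0, 0, 0, 0, 0, 0, 0, 0, 1, 0, 0, 0, 0, 0, 0, 0, 0, 0, 0, 0, 0, 0, 0, 0, 0, 0, 0, 0, 0, 0, 0, 0, 0, 0, 0, 0, 0, 0, 0, 0, 0, 0, 0, 0, 0, 0, 1]]],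
      [[]],
      [[], [], []],
      [[]],
      [[]],
      [[], [], []],
      [[]],
      [[]],
      [[], [], []],
      [[]],
      [[]],
      [[], [], []]] := by
  decide +kernel

theorem kN0c : keys 100000 (reflW 0 (rayW [10])) [0, 1, 2, 3, 4, 5, 6, 7, 8, 9, 10, 11] = some [
      [[]],
      [[[0, 0, 0, 0, 0, 0, 0, 0, 0, 0, 0, 0, 0, 0, 0, 0, 0, 0, 0, 0, 1, 0, 0, 0, 0, 0, 0, 0, 0, 0, 0, 0, 0, 0, 0, 0, 0, 0, 0, 0, 0, 0, 0, 0, 0, 0, 0, 0, 0, 1]]],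
      [[[0, 0, 0, 0, 0, 0, 0, 0, 0, 0, 0, 0, 0, 0, 0, 0, 0, 0, 0, 0, 1, 1, 0, 0, 0, 0, 0, 0, 0, 0, 0, 0, 0, 0, 0, 0, 0, 0, 0, 0, 0, 0, 0, 0, 0, 0, 0, 0, 0, 0, 0, 0, 1]], [[0, 0, 0, 0, 0, 0, 0, 0, 0, 0, 0, 0, 0, 0, 0, 0, 0, 0, 0, 0, 0, 1, 0, 0, 0, 0, 0, 0, 0, 0, 0, 0, 0, 0, 0, 0, 0, 0, 0, 0, 0, 0, 0, 0, 0, 0, 0, 0, 0, 0, 0, 1]], [[0, 0, 0, 0, 0, 0, 0, 0, 0, 0, 0, 0, 0, 0, 0, 0, 0, 0, 0, 0, 1, 0, 0, 0, 0, 0, 0, 0, 0, 0, 0, 0, 0, 0, 0, 0, 0, 0, 0, 0, 0, 0, 0, 0, 0, 0, 0, 0, 0, 1]]],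
      [[]],
      [[]],
      [[], [], []],
      [[]],
      [[]],
      [[], [], []],
      [[]],
      [[]],
      [[], [], []]] := by
  decide +kernel

end CfsgLib.Chev.F4Tw
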