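import Cfsg.Agent.Chev.TwistedF4Two

/-!
The parity of an element of the Sylow 2-subgroup of `²F₄(2)`: it is a homomorphism, and it is
invariant under conjugation by the two simple reflections where that stays in the Sylow subgroup.
-/

set_option autoImplicit false
set_option maxRecDepth 8192
set_option linter.style.haveILetI false

namespace CfsgLib.Chev.F4Two

open Cfsg.Lie Matrix Tab Collect
open scoped MatrixGroups

/-- The product of all generators with a second set of variables. -/
def word2 : List (ℕ × List ℕ) := (List.range 12).flatMap fun k => seg k [2 ^ (k + 12)]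

/-- The parity read from the coordinates. -/
def parPoly (l : List (ℕ × List ℕ)) : List ℕ :=
  padd (padd (poly l 25) (poly l 26)) (padd (poly l 29) (poly l 31))

/-- The generators `ks` with their variables. -/
def part (ks : List ℕ) : List (ℕ × List ℕ) := ks.flatMap fun k => seg k [2 ^ k]

/-- The generators `ks` moved by a reflection. -/
def moved (J : ℕ) (ks : List ℕ) : List (ℕ × List ℕ) :=
  (part ks).map fun e => (F4Data.tab.wordT (F4Tw.words.getD J []) e.1, e.2)

/-- The generators before, in and after the root group of a reflection. -/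
def cutA (J : ℕ) : List ℕ := ([[], [0, 1, 2, 3]] : List (List ℕ)).getD J []

/-- The generators in the root group of a reflection. -/
def cutF (J : ℕ) : List ℕ := ([[0], [4, 5]] : List (List ℕ)).getD J []

/-- The generators after the root group of a reflection. -/
def cutB (J : ℕ) : List ℕ :=
  ([[1, 2, 3, 4, 5, 6, 7, 8, 9, 10, 11], [6, 7, 8, 9, 10, 11]] : List (List ℕ)).getD J []

theorem co_mul : finished (co 3000 (word ++ word2)) = true ∧
    padd (parPoly (co 3000 (word ++ word2)).1.reverse)
      [4, 16, 64, 512, 16384, 65536, 262144, 2097152] = [] := by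
  decide +kernel

theorem co_par : padd (parPoly (co 3000 word).1.reverse) [4, 16, 64, 512] = [] := by decide +kernel

theorem co_moved : ∀ J : Fin 2, cutA J ++ cutF J ++ cutB J = List.range 12 ∧
    finished (co 3000 (moved J (cutA J))) = true ∧ finished (co 3000 (moved J (cutB J))) = true ∧
    finished (co 3000 (moved J (cutA J ++ cutB J))) = true ∧
    finished (co 3000 (part (cutA J ++ cutB J))) = true ∧
    padd (parPoly (co 3000 (moved J (cutA J ++ cutB J))).1.reverse)
      (parPoly (co 3000 (part (cutA J ++ cutB J))).1.reverse) = [] := by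
  decide +kernel

theorem moved_neg : ∀ J : Fin 2, (moved J (cutF J)).all (fun e => Nat.blt e.1 24) = true := by
  decide +kernel

theorem part_roots : ((part (List.range 12)).all fun e => Nat.blt e.1 48) = true := by decide +kernel

attribute [local irreducible] co

variable (C : F4Tw.Ctx K2 0)

theorem ev_bit_cons (a i : ℕ) (p : List ℕ) : ev a (2 ^ i :: p) = xor (a.testBit i) (ev a p) := by
  rw [show 2 ^ i :: p = [2 ^ i] ++ p from rfl, ev_append, ev_bit]

theorem ev_eq_of_padd {a : ℕ} {p q : List ℕ} (h : padd p q = []) : ev a p = ev a q := by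
  have := ev_padd a p q
  rw [h, ev] at this
  revert this
  cases ev a p <;> cases ev a q <;> simp

theorem parity_eq (a : ℕ) : parity a = ev a (parPoly (co 3000 word).1.reverse) := by
  rw [ev_eq_of_padd co_par]
  show _ = ev a (2 ^ 2 :: 2 ^ 4 :: 2 ^ 6 :: 2 ^ 9 :: [])
  rw [ev_bit_cons, ev_bit_cons, ev_bit_cons, ev_bit_cons, ev, Bool.xor_false, parity, Bool.xor_assoc]

/-- Words with equal values have equal parities. -/
theorem ev_parPoly {a b : ℕ} {l l' : List (ℕ × List ℕ)} (hl : l.map Prod.fst = List.range' 24 24)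
    (hl' : l'.map Prod.fst = List.range' 24 24) (h : vl a l = vl b l') :
    ev a (parPoly l) = ev b (parPoly l') := by
  simp only [parPoly, ev_padd, coeff_inj hl hl' h 25 (by norm_num) (by norm_num),
    coeff_inj hl hl' h 26 (by norm_num) (by norm_num), coeff_inj hl hl' h 29 (by norm_num) (by norm_num),
    coeff_inj hl hl' h 31 (by norm_num) (by norm_num)]

open Classical in
/-- The parity of an element of the Sylow subgroup. -/
noncomputable def par (g : GL chevF4.Idx K2) : Bool :=
  if h : ∃ a < 4096, (elt C a : GL chevF4.Idx K2) = g then parity h.choose else false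

theorem par_elt {a : ℕ} (ha : a < 4096) : par C (elt C a : GL chevF4.Idx K2) = parity a := by
  have h : ∃ b < 4096, (elt C b : GL chevF4.Idx K2) = elt C a := ⟨a, ha, rfl⟩
  rw [par, dif_pos h, elt_inj C h.choose_spec.1 ha (Subtype.ext h.choose_spec.2)]

theorem exists_vl {g : GL chevF4.Idx K2} (hg : g ∈ C.Z.U1) :
    ∃ a < 4096, vl a word = g ∧ par C g = parity a := by
  obtain ⟨a, ha, e⟩ := exists_elt C (g := ⟨g, C.Z.U1_le hg⟩) hg
  have e' : (elt C a : GL chevF4.Idx K2) = g := congrArg Subtype.val e
  exact ⟨a, ha, (elt_val C a).symm.trans e', by rw [← par_elt C ha, e']⟩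

/-- A collected word determines the parity of its value. -/
theorem par_of_co {g : GL chevF4.Idx K2} (hg : g ∈ C.Z.U1) {a n : ℕ} {w : List (ℕ × List ℕ)}
    (hw : finished (co n w) = true) (h : vl a w = g) :
    par C g = ev a (parPoly (co n w).1.reverse) := by
  obtain ⟨b, -, eb, ep⟩ := exists_vl C hg
  obtain ⟨h1, h2⟩ := finished_spec hw
  obtain ⟨h3, h4⟩ := finished_spec co_word.1
  rw [ep, parity_eq]
  exact ev_parPoly h4 h2 (by rw [vl_co b _ _ h3, vl_co a _ _ h1, eb, h])

omit C in
/-- The value of some generators with shifted variables. -/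
theorem vl_shift (a sh : ℕ) (ks : List ℕ) :
    vl a (ks.flatMap fun k => seg k [2 ^ (k + sh)]) =
      (ks.map fun k => if a.testBit (k + sh) then gen k else 1).prod := by
  induction ks with
  | nil => rfl
  | cons k ks ih =>
    rw [List.flatMap_cons, vl, val_append, List.map_cons, List.prod_cons]
    exact congrArg₂ (· * ·) ((vl_seg a k _).trans (by rw [ev_bit])) ih

theorem par_mul {g h : GL chevF4.Idx K2} (hg : g ∈ C.Z.U1) (hh : h ∈ C.Z.U1) :
    par C (g * h) = xor (par C g) (par C h) := by
  obtain ⟨a, ha, ea, pa⟩ := exists_vl C hg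
  obtain ⟨b, -, eb, pb⟩ := exists_vl C hh
  set s := 2 ^ 12 * b + a with hs
  have hbit : ∀ j, s.testBit j = if j < 12 then a.testBit j else b.testBit (j - 12) := fun j => by
    rw [hs, Nat.testBit_two_pow_mul_add _ (by simpa using ha)]
  have e1 : vl s word = vl a word := by
    show vl s ((List.range 12).flatMap fun k => seg k [2 ^ (k + 0)]) =
      vl a ((List.range 12).flatMap fun k => seg k [2 ^ (k + 0)])
    rw [vl_shift, vl_shift]
    refine congrArg List.prod (List.map_congr_left fun k hk => ?_)
    rw [add_zero, hbit, if_pos (List.mem_range.1 hk)]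
  have e2 : vl s word2 = vl b word := by
    show vl s ((List.range 12).flatMap fun k => seg k [2 ^ (k + 12)]) =
      vl b ((List.range 12).flatMap fun k => seg k [2 ^ (k + 0)])
    rw [vl_shift, vl_shift]
    refine congrArg List.prod (List.map_congr_left fun k _ => ?_)
    rw [show s.testBit (k + 12) = b.testBit k by rw [hbit, if_neg (by omega), Nat.add_sub_cancel], add_zero]
  rw [par_of_co C (mul_mem hg hh) co_mul.1 (a := s)
      (by rw [vl, val_append]; exact congrArg₂ (· * ·) (e1.trans ea) (e2.trans eb)),
    ev_eq_of_padd co_mul.2, pa, pb]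
  show ev s (2 ^ 2 :: 2 ^ 4 :: 2 ^ 6 :: 2 ^ 9 :: 2 ^ 14 :: 2 ^ 16 :: 2 ^ 18 :: 2 ^ 21 :: []) = _
  rw [ev_bit_cons, ev_bit_cons, ev_bit_cons, ev_bit_cons, ev_bit_cons, ev_bit_cons, ev_bit_cons,
    ev_bit_cons]
  simp only [ev, Bool.xor_false, hbit, parity]
  simp

omit C in
/-- A completely collected word has a positive value. -/
theorem vl_mem_pos {a n : ℕ} {w : List (ℕ × List ℕ)} (hw : finished (co n w) = true) :
    vl a w ∈ chevF4.posUnipotent K2 := by
  obtain ⟨h1, h2⟩ := finished_spec hw
  rw [← vl_co a _ _ h1, vl, Collect.val]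
  generalize (co n w).1.reverse = l at h2
  have hm : ∀ e ∈ l, IsPos chevF4 e.1 := fun e he => by
    have hm : e.1 ∈ List.range' 24 24 := h2 ▸ List.mem_map_of_mem he
    rw [List.mem_range'_1] at hm
    exact ⟨show e.1 < 48 by omega, show 48 ≤ 2 * e.1 by omega⟩
  clear h2
  induction l with
  | nil => rw [List.map_nil, List.prod_nil]; exact one_mem (chevF4.posUnipotent K2)
  | cons e l ih =>
    rw [List.map_cons, List.prod_cons]
    exact mul_mem (good_F4.x_mem_pos (hm e (List.mem_cons_self ..)) _)
      (ih fun e' he' => hm e' (List.mem_cons_of_mem _ he'))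

/-- Conjugation by a simple reflection moves the roots. -/
theorem conj_vl (J : Fin C.Z.nJ) (a : ℕ) : ∀ l : List (ℕ × List ℕ), (∀ e ∈ l, e.1 < 48) →
    C.Z.n J * vl a l * (C.Z.n J)⁻¹ =
      vl a (l.map fun e => (F4Data.tab.wordT (F4Tw.words.getD J.val []) e.1, e.2)) := by
  obtain ⟨c, hc⟩ := C.Z.n_act J
  have one : ∀ u : K2ˣ, (u : K2) = 1 := fun u => by
    have : ∀ z : K2, z ≠ 0 → z = 1 := by decide
    exact this _ u.ne_zero
  intro l
  induction l with
  | nil => intro _; simp [vl, Collect.val]
  | cons e l ih =>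
    intro hl
    have hr : e.1 < 48 := hl e (List.mem_cons_self ..)
    have h1 : C.Z.n J * good_F4.full.x (F := K2) e.1 (Collect.fval (ev a e.2)) * (C.Z.n J)⁻¹ =
        good_F4.full.x (F := K2) (F4Data.tab.wordT (F4Tw.words.getD J.val []) e.1) (Collect.fval (ev a e.2)) := by
      refine ((hc ⟨e.1, hr⟩).2.2.2 _).trans ?_
      rw [one, one_mul]
      congr 1
      rw [good_F4.pw_apply]
      congr 1
      exact C.spec.map_word J
    simp only [vl, List.map_cons, val_cons] at ih ⊢
    rw [← ih fun e' he' => hl e' (List.mem_cons_of_mem _ he'), ← h1]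
    group

/-- The parity is invariant under conjugation by a simple reflection. -/
theorem par_conj (J : Fin C.Z.nJ) {g : GL chevF4.Idx K2} (hg : g ∈ C.Z.U1)
    (hg' : C.Z.n J * g * (C.Z.n J)⁻¹ ∈ C.Z.U1) : par C (C.Z.n J * g * (C.Z.n J)⁻¹) = par C g := by
  obtain ⟨a, -, ea, -⟩ := exists_vl C hg
  obtain ⟨hcut, hA, hB, hAB, hAB', hpar⟩ := co_moved ⟨J.val, J.isLt⟩
  dsimp only at hcut hA hB hAB hAB' hpar
  have hw : word = part (cutA J) ++ part (cutF J) ++ part (cutB J) := by
    rw [word, part, part, part, ← List.flatMap_append, ← List.flatMap_append, hcut]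
  have hlt : ∀ ks : List ℕ, (∀ k ∈ ks, k ∈ cutA J ++ cutF J ++ cutB J) → ∀ e ∈ part ks, e.1 < 48 := by
    intro ks hks e he
    rw [hcut] at hks
    refine Nat.blt_eq.mp (List.all_eq_true.mp part_roots e ?_)
    simp only [part, List.mem_flatMap] at he ⊢
    obtain ⟨k, hk, hek⟩ := he
    exact ⟨k, hks k hk, hek⟩
  have hF : vl a (part (cutF J)) = 1 := by
    have e1 := conj_vl C J a (part (cutA J)) (hlt _ (by simp +contextual))
    have e2 := conj_vl C J a (part (cutF J)) (hlt _ (by simp +contextual))
    have e3 := conj_vl C J a (part (cutB J)) (hlt _ (by simp +contextual))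
    set mid := vl a (moved J (cutF J))
    have hpos : mid ∈ chevF4.posUnipotent K2 := by
      have e : mid = (vl a (moved J (cutA J)))⁻¹ * (C.Z.n J * g * (C.Z.n J)⁻¹) *
          (vl a (moved J (cutB J)))⁻¹ := by
        rw [← ea, hw]
        simp only [mid, moved, vl, val_append] at e1 e2 e3 ⊢
        rw [← e1, ← e2, ← e3]
        group
      rw [e]
      exact mul_mem (mul_mem (inv_mem (vl_mem_pos hA)) hg'.2) (inv_mem (vl_mem_pos hB))
    have hneg : mid ∈ chevF4.negUnipotent K2 := by
      have hall : ∀ e ∈ moved J (cutF J), e.1 < 24 := fun e he =>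
        Nat.blt_eq.mp (List.all_eq_true.mp (moved_neg ⟨J.val, J.isLt⟩) e he)
      simp only [mid]
      generalize moved J (cutF J) = l at hall
      induction l with
      | nil => exact one_mem (chevF4.negUnipotent K2)
      | cons e l ih =>
        rw [vl, val_cons]
        have h24 := hall e (List.mem_cons_self ..)
        refine mul_mem (good_F4.x_mem_neg (show e.1 < 48 by omega) ?_ _)
          (ih fun e' he' => hall e' (List.mem_cons_of_mem _ he'))
        exact fun hp => by
          have h48 : 48 ≤ 2 * e.1 := hp.2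
          omega
    have h1 : mid = 1 := good_F4.pos_inf_neg hpos hneg
    simp only [mid, moved] at h1
    rw [← e2, conj_eq_one_iff] at h1
    exact h1
  have hg2 : vl a (part (cutA J ++ cutB J)) = g := by
    rw [← ea, hw, part, List.flatMap_append]
    simp only [vl, val_append] at hF ⊢
    rw [hF, mul_one]
    rfl
  have hg3 : vl a (moved J (cutA J ++ cutB J)) = C.Z.n J * g * (C.Z.n J)⁻¹ := by
    rw [← hg2, moved, conj_vl C J a _ (hlt _ (by simp +contextual [or_imp]))]
  rw [par_of_co C hg' hAB hg3, par_of_co C hg hAB' hg2, ev_eq_of_padd hpar]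

end CfsgLib.Chev.F4Two
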