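import Cfsg.Agent.Chev.F4TwInvolCount
import Cfsg.Agent.SplitBN.TitsSimple

/-!
The Tits group has exactly two classes of involutions.
-/

set_option autoImplicit false
set_option linter.style.haveILetI false
set_option maxRecDepth 100000
set_option maxHeartbeats 400000

namespace CfsgLib.Chev.F4Tw

open Cfsg.Lie Tab CfsgLib.Chev.CharTwo
open scoped MatrixGroups

attribute [local irreducible] CharTwo.norm keys

namespace Ctx

variable (C : Ctx (ZMod 2) 0)

theorem zmod_cases (t : ZMod 2) : t = 0 ∨ t = 1 := by revert t; decide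

/-- The element of order four in the long root group. -/
noncomputable def d8 : C.Z.G1 := ⟨C.PR (C.sg 10 1), C.Z.U1_le (C.PR_mem _)⟩

theorem d8_not_mem : C.d8 ∉ commutator C.Z.G1 := by
  intro hd
  have hsq : ∀ g : C.Z.G1, (g : GL chevF4.Idx (ZMod 2)) * g = 1 → g ∈ commutator C.Z.G1 := by
    intro g hg
    by_cases h1 : g = 1
    · exact h1 ▸ one_mem _
    · haveI : Fact (Nat.Prime 2) := ⟨Nat.prime_two⟩
      exact F4Two.involution_mem C g
        (orderOf_eq_prime (Subtype.ext ((congrArg Subtype.val (pow_two g)).trans hg)) h1)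
  have hX : ∀ (J : Fin C.Z.nJ) (g : C.Z.G1), (g : GL chevF4.Idx (ZMod 2)) ∈ C.Z.XJ J →
      g ∈ commutator C.Z.G1 := by
    intro J g hg
    obtain ⟨t, u, e⟩ := C.mem_XJ.mp hg
    have hJ : (J : ℕ) = 0 ∨ (J : ℕ) = 1 := by have : (J : ℕ) < 2 := J.isLt; omega
    rcases hJ with hJ | hJ <;> rw [hJ] at e
    · refine hsq g ?_
      rw [e]
      rcases zmod_cases t with rfl | rfl
      · simp [U, U0, good_F4.full.x_zero]
      · have := C.sg_sq (i := 0) (Or.inl rfl)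
        simpa [U, sg, PR, U0, U1, P4, good_F4.full.x_zero] using this
    · have hu : ∀ u : ZMod 2, (⟨C.U 1 0 u, C.U_mem 1 0 u⟩ : C.Z.G1) ∈ commutator C.Z.G1 := by
        intro u
        refine hsq _ ?_
        show C.U 1 0 u * C.U 1 0 u = 1
        simp only [U, U1]
        rw [C.P4_mul quadPos]
        simp [P4, C.add_self, good_F4.full.x_zero]
      rcases zmod_cases t with rfl | rfl
      · exact (show g = ⟨C.U 1 0 u, C.U_mem 1 0 u⟩ from Subtype.ext e) ▸ hu u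
      · have h1 : g = C.d8 * ⟨C.U 1 0 u, C.U_mem 1 0 u⟩ := by
          refine Subtype.ext (e.trans ?_)
          show _ = C.PR (C.sg 10 1) * C.U 1 0 u
          have : C.PR (C.sg 10 1) = C.U 1 1 0 := by
            simp [sg, PR, U, U0, U1, P4, good_F4.full.x_zero]
          rw [this]
          simp only [U, U1]
          rw [C.P4_mul quadPos]
          simp
        rw [h1]
        exact mul_mem hd (hu u)
  have htop : commutator C.Z.G1 = ⊤ := by
    have hle : ∀ J : Fin C.Z.nJ, C.Z.XJ J ≤ ⁅C.Z.G1, C.Z.G1⁆ := by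
      intro J x hx
      have hm := Subgroup.mem_map_of_mem C.Z.G1.subtype (hX J ⟨x, C.Z.X_le J hx⟩ hx)
      rwa [_root_.commutator_def, Subgroup.map_commutator, ← MonoidHom.range_eq_map,
        Subgroup.range_subtype] at hm
    exact C.Z.commutator_top hle fun J => C.gen_data.n_mem_commutator J (hle J)
  have h2 := CfsgLib.SplitBN.tits_index C
  rw [htop, Subgroup.index_top] at h2
  exact absurd h2 (by norm_num)

theorem commutes_outside {r : C.Z.G1} (hr : (r : GL chevF4.Idx (ZMod 2)) = C.iY ∨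
    (r : GL chevF4.Idx (ZMod 2)) = C.iR) :
    ∃ d : C.Z.G1, d ∉ commutator C.Z.G1 ∧ d * r * d⁻¹ = r := by
  rcases hr with hr | hr
  · obtain ⟨cs, v, -, -, ⟨k, hk, e⟩, he⟩ := C.n_step (C.supp_sg 10 1) (J := C.j0) (by decide +kernel)
      (ps := [0, 1, 2, 3, 4, 5, 6, 7, 8, 9, 10, 11]) kN0c
    simp [kv, parOf, venv, mval, sg] at he
    obtain ⟨h0, h1, h2, h3, h4, h5, h6, h7, h8, h9, h10, h11⟩ := he
    refine ⟨⟨C.PR v, C.Z.U1_le (C.PR_mem v)⟩, fun hd => C.d8_not_mem ?_, ?_⟩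
    · have hc := (Subgroup.Normal.conj_mem (H := commutator C.Z.G1) inferInstance _ hd
        (⟨k, hk⟩⁻¹ : C.Z.G1))
      have heq : (⟨k, hk⟩⁻¹ : C.Z.G1) * ⟨C.PR v, C.Z.U1_le (C.PR_mem v)⟩ * (⟨k, hk⟩⁻¹)⁻¹ = C.d8 := by
        refine Subtype.ext ?_
        show k⁻¹ * C.PR v * k⁻¹⁻¹ = C.PR (C.sg 10 1)
        rw [← e]; group
      rwa [heq] at hc
    · obtain ⟨v', hv', -, hv⟩ := C.conj_step (v := C.sg 0 1) v (C.supp_sg 0 1) (onk := [1, 2])
        (fun i => by fin_cases i <;> first | (left; decide) | (right; assumption))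
        (ps := [0, 1, 2, 3, 4, 5, 6, 7, 8, 9, 10, 11]) kCentY
      simp [kv, parOf, venv, mval, sg] at hv
      obtain ⟨a0, a1, a2, a3, a4, a5, a6, a7, a8, a9, a10, a11⟩ := hv
      have hE : v' = C.sg 0 1 := by funext i; fin_cases i <;> simp [sg, *]
      refine Subtype.ext ?_
      show C.PR v * r.1 * (C.PR v)⁻¹ = r.1
      rw [hr, iY, ← hv', hE]
  · refine ⟨C.d8, C.d8_not_mem, Subtype.ext ?_⟩
    obtain ⟨v', hv', -, hv⟩ := C.conj_step (v := C.sg 5 1) (C.sg 10 1) (C.supp_sg 5 1)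
      (C.supp_sg 10 1) (ps := [0, 1, 2, 3, 4, 5, 6, 7, 8, 9, 10, 11]) kCentZ
    simp [kv, parOf, venv, mval, sg] at hv
    obtain ⟨a0, a1, a2, a3, a4, a5, a6, a7, a8, a9, a10, a11⟩ := hv
    have hE : v' = C.sg 5 1 := by funext i; fin_cases i <;> simp [sg, *]
    show C.PR (C.sg 10 1) * r.1 * (C.PR (C.sg 10 1))⁻¹ = r.1
    rw [hr, iR, ← hv', hE]

theorem invol_mem_tits {g : GL chevF4.Idx (ZMod 2)} (hg : g ∈ C.Z.G1) (ho : orderOf g = 2) :
    (⟨g, hg⟩ : C.Z.G1) ∈ commutator C.Z.G1 := by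
  have h : orderOf (⟨g, hg⟩ : C.grp) = 2 := (Subgroup.orderOf_coe _).symm.trans ho
  exact F4Two.involution_mem C ⟨g, hg⟩ h

/-- The derived subgroup has exactly two classes of involutions. -/
theorem tits_invol_class_count :
    (ConjClasses.mk '' {g : commutator C.Z.G1 | orderOf g = 2}).ncard = 2 := by
  set T := commutator C.Z.G1 with hT
  let Y : T := ⟨⟨C.iY, C.iY_mem⟩,
    C.invol_mem_tits C.iY_mem C.iY_order⟩
  let Z : T := ⟨⟨C.iR, C.iR_mem⟩,
    C.invol_mem_tits C.iR_mem C.iR_order⟩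
  have hY : orderOf Y = 2 := by
    rw [← Subgroup.orderOf_coe, ← Subgroup.orderOf_coe]; exact C.iY_order
  have hZ : orderOf Z = 2 := by
    rw [← Subgroup.orderOf_coe, ← Subgroup.orderOf_coe]; exact C.iR_order
  have hconj : ∀ g r : T, (r.1.1 = C.iY ∨ r.1.1 = C.iR) → C.Sim g.1.1 r.1.1 →
      ConjClasses.mk g = ConjClasses.mk r := by
    intro g r hr ⟨k, hk, e⟩
    rw [ConjClasses.mk_eq_mk_iff_isConj, isConj_iff]
    by_cases hkT : (⟨k, hk⟩ : C.Z.G1) ∈ T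
    · exact ⟨⟨⟨k, hk⟩, hkT⟩, Subtype.ext (Subtype.ext e)⟩
    · obtain ⟨d, hd, hdr⟩ := C.commutes_outside hr
      have hm : d * ⟨k, hk⟩ ∈ T :=
        (Subgroup.mul_mem_iff_of_index_two (CfsgLib.SplitBN.tits_index C)).mpr
          ⟨fun h => absurd h hd, fun h => absurd h hkT⟩
      refine ⟨⟨_, hm⟩, Subtype.ext ?_⟩
      show d * ⟨k, hk⟩ * g.1 * (d * ⟨k, hk⟩)⁻¹ = r.1
      rw [show d * ⟨k, hk⟩ * g.1 * (d * ⟨k, hk⟩)⁻¹ = d * (⟨k, hk⟩ * g.1 * (⟨k, hk⟩ : C.Z.G1)⁻¹) * d⁻¹ by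
        group, show (⟨k, hk⟩ : C.Z.G1) * g.1 * (⟨k, hk⟩ : C.Z.G1)⁻¹ = r.1 from Subtype.ext e, hdr]
  have himg : ConjClasses.mk '' {g : T | orderOf g = 2} = {ConjClasses.mk Y, ConjClasses.mk Z} := by
    refine Set.Subset.antisymm ?_ ?_
    · rintro _ ⟨g, hg, rfl⟩
      rcases C.invol_cases g.1.2 (by rw [Subgroup.orderOf_coe, Subgroup.orderOf_coe]; exact hg) with h | h
      exacts [Or.inl (hconj g Y (Or.inl rfl) h), Or.inr (hconj g Z (Or.inr rfl) h)]
    · rintro _ (rfl | rfl)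
      exacts [⟨Y, hY, rfl⟩, ⟨Z, hZ, rfl⟩]
  rw [himg, Set.ncard_pair]
  intro h
  rw [ConjClasses.mk_eq_mk_iff_isConj, isConj_iff] at h
  obtain ⟨k, hk⟩ := h
  have h' := congrArg (fun x : T => ((x : C.Z.G1) : GL chevF4.Idx (ZMod 2))) hk
  simp only [Subgroup.coe_mul, Subgroup.coe_inv] at h'
  exact C.not_sim ⟨k.1.1, k.1.2, h'⟩

end Ctx

end CfsgLib.Chev.F4Tw
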