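import Cfsg.Agent.Chev.Levi
import Cfsg.Agent.Chev.RadCent
import Cfsg.Agent.Chev.RootAuto
import Cfsg.Agent.BorelTits.Optimal
import Cfsg.Agent.BN.Parabolic
import Cfsg.Agent.StCh.Chev
import Cfsg.Agent.Solvable.Basics
import Mathlib.GroupTheory.Nilpotent

/-!
Parabolic subgroups of a Chevalley group: orders, and the parabolic subgroup fixed by an
automorphism that is attached to a fixed element of `p`-power order.
-/

set_option autoImplicit false
set_option linter.style.haveILetI false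

namespace CfsgLib.Chev

/-- A maximal invariant `p`-subgroup contains every `p`-subgroup normalised by its normaliser. -/
theorem exists_radical {Γ : Type*} [Group Γ] [Finite Γ] (p : ℕ) [Fact p.Prime] (θ : Γ ≃* Γ)
    {a x : Γ} (ha : IsPGroup p (Subgroup.zpowers a)) (haθ : θ a = a) (hxθ : θ x = x)
    (hax : Commute a x) :
    ∃ Q : Subgroup Γ, IsPGroup p Q ∧ a ∈ Q ∧
      (Subgroup.normalizer (Q : Set Γ)).map θ.toMonoidHom = Subgroup.normalizer (Q : Set Γ) ∧
      x ∈ Subgroup.normalizer (Q : Set Γ) ∧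
      ∀ V : Subgroup Γ, IsPGroup p V → V ≤ Subgroup.normalizer (Q : Set Γ) →
        Subgroup.normalizer (Q : Set Γ) ≤ Subgroup.normalizer (V : Set Γ) → V ≤ Q := by
  classical
  let S : Set (Subgroup Γ) := {Q | IsPGroup p Q ∧ a ∈ Q ∧ Q.map θ.toMonoidHom = Q ∧
    x ∈ Subgroup.normalizer (Q : Set Γ)}
  have h0 : Subgroup.zpowers a ∈ S := by
    refine ⟨ha, Subgroup.mem_zpowers a, ?_, ?_⟩
    · rw [MonoidHom.map_zpowers, MulEquiv.coe_toMonoidHom, haθ]
    · refine Subgroup.mem_normalizer_iff.mpr fun y => ?_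
      rw [Subgroup.mem_zpowers_iff, Subgroup.mem_zpowers_iff]
      have hc : ∀ k : ℤ, x * a ^ k * x⁻¹ = a ^ k := fun k => by
        rw [← (hax.zpow_left k).eq, mul_inv_cancel_right]
      constructor
      · rintro ⟨k, rfl⟩; exact ⟨k, (hc k).symm⟩
      · rintro ⟨k, hk⟩
        exact ⟨k, mul_left_cancel (mul_right_cancel ((hc k).trans hk))⟩
  obtain ⟨Q, hQmax⟩ := Set.Finite.exists_maximal (Set.toFinite S) ⟨_, h0⟩
  obtain ⟨hQp, haQ, hQθ, hxQ⟩ := hQmax.prop
  set N := Subgroup.normalizer (Q : Set Γ) with hN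
  have hQN : Q ≤ N := Subgroup.le_normalizer
  have hNθ : N.map θ.toMonoidHom = N := by
    rw [hN, Subgroup.map_equiv_normalizer_eq, hQθ]
  set O := (Cfsg.pCore p N).map N.subtype with hO
  have hQn : (Q.subgroupOf N).Normal := Subgroup.normal_in_normalizer
  have hQO : Q ≤ O := fun y hy => ⟨⟨y, hQN hy⟩, CfsgLib.Solvable.le_pCore p hQn
    hQp.comap_subtype (Subgroup.mem_subgroupOf.mpr hy), rfl⟩
  have hOp : IsPGroup p O := (CfsgLib.Solvable.isPGroup_pCore p (G := N)).map _
  have hOn : N ≤ Subgroup.normalizer (O : Set Γ) := by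
    intro y hy
    refine Subgroup.mem_normalizer_iff.mpr fun z => ⟨?_, ?_⟩
    · rintro ⟨w, hw, rfl⟩
      exact ⟨⟨y, hy⟩ * w * ⟨y, hy⟩⁻¹,
        (CfsgLib.Solvable.pCore_normal p (G := N)).conj_mem w hw _, rfl⟩
    · rintro ⟨w, hw, e⟩
      refine ⟨⟨y, hy⟩⁻¹ * w * ⟨y, hy⟩⁻¹⁻¹,
        (CfsgLib.Solvable.pCore_normal p (G := N)).conj_mem w hw _, ?_⟩
      simp only [Subgroup.subtype_apply, Subgroup.coe_mul, Subgroup.coe_inv, inv_inv] at e ⊢
      rw [e]; group
  have hOθ : O.map θ.toMonoidHom = O := by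
    refine Subgroup.eq_of_le_of_card_ge ?_
      (le_of_eq (Subgroup.card_map_of_injective θ.injective).symm)
    rintro _ ⟨_, ⟨w, hw, rfl⟩, rfl⟩
    let e : N ≃* N := (θ.subgroupMap N).trans (MulEquiv.subgroupCongr hNθ)
    have hle : (Cfsg.pCore p N).map e.toMonoidHom ≤ Cfsg.pCore p N :=
      CfsgLib.Solvable.le_pCore p ((CfsgLib.Solvable.pCore_normal p (G := N)).map _ e.surjective)
        ((CfsgLib.Solvable.isPGroup_pCore p (G := N)).map _)
    exact ⟨e w, hle ⟨w, hw, rfl⟩, rfl⟩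
  have hOS : O ∈ S := ⟨hOp, hQO haQ, hOθ, hOn hxQ⟩
  have hOQ : O = Q := le_antisymm (hQmax.le_of_ge hOS hQO) hQO
  refine ⟨Q, hQp, haQ, hNθ, hxQ, fun V hV hVN hNV => ?_⟩
  rw [← hOQ]
  have hVn : (V.subgroupOf N).Normal :=
    (Subgroup.normal_subgroupOf_iff_le_normalizer hVN).mpr hNV
  exact fun y hy => ⟨⟨y, hVN hy⟩, CfsgLib.Solvable.le_pCore p hVn hV.comap_subtype
    (Subgroup.mem_subgroupOf.mpr hy), rfl⟩

end CfsgLib.Chev

namespace CfsgLib.Chev.Tab.Good

open Cfsg.Lie Matrix CfsgLib.BN CfsgLib.StCh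
open scoped MatrixGroups

attribute [local instance] torus_normal

variable {D : ChevalleyDatum} {T : Tab D} (G : T.Good) {F : Type*} [Field F]
include G

theorem parabolic_le_group (J : Set ℕ) : D.parabolicSubgroup F J ≤ D.group F :=
  (G.normalizer_rad J).ge.trans inf_le_right

theorem rad_le_group (J : Set ℕ) : D.unipotentRadical F J ≤ D.group F := by
  rw [G.rad_eq]; exact G.US_le_group _

theorem rad_le_pos (J : Set ℕ) : D.unipotentRadical F J ≤ D.posUnipotent F := by
  rw [G.rad_eq, G.posUnipotent_eq]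
  exact G.US_mono fun s hs => hs.1

/-- The simple reflections of a set of indices. -/
def refSet (F : Type*) [Field F] (J : Set ℕ) : Set (D.group F) :=
  {s | ∃ i : Fin D.rank, i.val ∈ J ∧ s = (G.sref F i).1}

theorem refSet_le (J : Set ℕ) : G.refSet F J ⊆ (G.bnPair F).S := by
  rintro s ⟨i, -, rfl⟩
  exact (G.sref F i).2

/-- The parabolic subgroups of the Tits system. -/
theorem parabolic_subgroupOf (J : Set ℕ) :
    (D.parabolicSubgroup F J).subgroupOf (D.group F) =
      (G.bnPair F).parabolic (G.refSet F J) := by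
  apply le_antisymm
  · intro g hg
    have h : D.parabolicSubgroup F J ≤
        ((G.bnPair F).parabolic (G.refSet F J)).map (D.group F).subtype := by
      refine sup_le (fun b hb => ?_) ((Subgroup.closure_le _).mpr ?_)
      · exact ⟨⟨b, G.borel_le_group hb⟩, Subgroup.mem_sup_left hb, rfl⟩
      · rintro x ⟨j, hj, hlt, hx⟩
        refine ⟨(G.sref F ⟨j, hlt⟩).1,
          Subgroup.mem_sup_right (Subgroup.subset_closure ⟨⟨j, hlt⟩, hj, rfl⟩), Units.ext ?_⟩
        rw [hx]
        exact G.full.coe_nr _ (G.full.simple_lt hlt) 1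
    obtain ⟨y, hy, e⟩ := h (Subgroup.mem_subgroupOf.mp hg)
    rwa [← Subtype.ext e]
  · refine sup_le (fun b hb => Subgroup.mem_sup_left (Subgroup.mem_subgroupOf.mp hb))
      ((Subgroup.closure_le _).mpr ?_)
    rintro _ ⟨i, hi, rfl⟩
    exact G.ns_mem_parabolic hi

theorem ns_mem_parabolic_iff {J : Set ℕ} {i : Fin D.rank} :
    G.full.ns F i ∈ D.parabolicSubgroup F J ↔ i.val ∈ J := by
  refine ⟨fun h => ?_, G.ns_mem_parabolic⟩
  have h2 : (G.sref F i).1 ∈ (G.bnPair F).S ∩
      ((G.bnPair F).parabolic (G.refSet F J) : Set (D.group F)) := by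
    refine ⟨(G.sref F i).2, ?_⟩
    rw [SetLike.mem_coe, ← G.parabolic_subgroupOf]
    exact Subgroup.mem_subgroupOf.mpr h
  rw [inter_parabolic _ (G.refSet_le J)] at h2
  obtain ⟨j, hj, e⟩ := h2
  rwa [(G.sref_bijective (F := F)).1 (Subtype.ext e)]

/-- Conjugate standard parabolic subgroups are equal. -/
theorem parabolic_of_conj {J K : Set ℕ} (g : D.group F)
    (h : ((D.parabolicSubgroup F J).subgroupOf (D.group F)).map (MulAut.conj g).toMonoidHom =
      (D.parabolicSubgroup F K).subgroupOf (D.group F)) {i : Fin D.rank} :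
    i.val ∈ J ↔ i.val ∈ K := by
  rw [G.parabolic_subgroupOf, G.parabolic_subgroupOf] at h
  have e := parabolic_conj_eq (G.bnPair F) g h
  rw [← G.parabolic_subgroupOf, ← G.parabolic_subgroupOf] at e
  rw [← G.ns_mem_parabolic_iff (F := F) (J := J), ← G.ns_mem_parabolic_iff (F := F) (J := K)]
  exact ⟨fun hm => Subgroup.mem_subgroupOf.mp (e ▸ (Subgroup.mem_subgroupOf
      (h := ⟨G.full.ns F i, G.ns_mem_group i⟩)).mpr hm),
    fun hm => Subgroup.mem_subgroupOf.mp (e.symm ▸ (Subgroup.mem_subgroupOf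
      (h := ⟨G.full.ns F i, G.ns_mem_group i⟩)).mpr hm)⟩

/-- The order of a standard parabolic subgroup. -/
theorem card_parabolic [Fintype F] (J : Set ℕ) :
    Nat.card (D.parabolicSubgroup F J) =
      Nat.card (D.borelSubgroup F) * G.full.poly (jList D J) (Fintype.card F) := by
  classical
  let W : Finset (Equiv.Perm (Fin D.nroots)) :=
    Finset.univ.filter fun σ => σ ∈ G.full.WJ (jList D J)
  have hword : ∀ σ : W, ∃ L : List (Fin D.rank), (∀ j ∈ L, j.val ∈ jList D J) ∧
      G.full.pw L = σ.1 := fun σ => G.exists_word_WJ (Finset.mem_filter.mp σ.2).2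
  choose L hLJ hL using hword
  let n : W → GL D.Idx F := fun σ => G.full.nw F (L σ)
  have hn : ∀ σ : W, G.full.RootAct (n σ) σ.1 := fun σ => by
    have := G.rootAct_nw (F := F) (L σ)
    rwa [hL σ] at this
  have hnP : ∀ σ : W, n σ ∈ D.parabolicSubgroup F J := fun σ =>
    list_prod_mem fun a ha => by
      obtain ⟨i, hi, rfl⟩ := List.mem_map.mp ha
      exact G.ns_mem_parabolic (mem_jList.mp (hLJ σ i hi)).2
  have hUP : ∀ {S : Set ℕ}, (∀ s ∈ S, IsPos D s) → G.US F S ≤ D.parabolicSubgroup F J :=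
    fun {S} hS => le_trans (show G.US F S ≤ D.posUnipotent F by
      rw [G.posUnipotent_eq]; exact G.US_mono hS) ((pos_le_borel G).trans le_sup_left)
  let Φ : (Σ σ : W, D.borelSubgroup F × G.US F (flipSet σ.1)) → D.parabolicSubgroup F J := fun p =>
    ⟨p.2.1.1 * n p.1 * p.2.2.1, mul_mem (mul_mem (Subgroup.mem_sup_left p.2.1.2) (hnP p.1))
      (hUP (fun s hs => by obtain ⟨h, hp, -⟩ := hs; exact hp) p.2.2.2)⟩
  have hbij : Function.Bijective Φ := by
    constructor
    · rintro ⟨σ, b, u⟩ ⟨σ', b', u'⟩ e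
      have e' : (b : GL D.Idx F) * n σ * u = b' * n σ' * u' := congrArg Subtype.val e
      obtain ⟨h1, h2⟩ := G.canonical_unique b.2 b'.2 (G.nw_mem_monomial _) (G.nw_mem_monomial _)
        (hn σ) (hn σ') u.2 u'.2 e'
      rw [G.full.diagonal_eq_range] at h1
      obtain ⟨c, hc⟩ := h1
      have hact : G.full.RootAct (n σ') σ.1 := by
        have h := G.rootAct_mul (hn σ) (G.rootAct_hT c)
        rwa [hc, mul_inv_cancel_left, mul_one] at h
      have hσ : σ = σ' := Subtype.ext (G.rootAct_unique hact (hn σ'))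
      subst hσ
      obtain ⟨hb, hu⟩ := h2 rfl
      rw [Subtype.ext hb, Subtype.ext hu]
    · rintro ⟨g, hg⟩
      have hgG := G.parabolic_le_group J hg
      obtain ⟨b, hb, m, hm, L', hL', u, hu, rfl⟩ := G.canonical_exists hgG
      have hWJ : G.full.pw L' ∈ G.full.WJ (jList D J) := by
        have hgP : (⟨b * m * u, hgG⟩ : D.group F) ∈ (G.bnPair F).parabolic (G.refSet F J) := by
          rw [← G.parabolic_subgroupOf]; exact Subgroup.mem_subgroupOf.mpr hg
        obtain ⟨M, hM, hcw⟩ := (mem_parabolic_iff _ (G.refSet_le J) _).mp hgP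
        have hbB : (⟨b, G.borel_le_group hb⟩ : D.group F) ∈ (G.bnPair F).B := hb
        have huB : (⟨u, G.US_le_group _ hu⟩ : D.group F) ∈ (G.bnPair F).B := by
          refine pos_le_borel G ?_
          rw [G.posUnipotent_eq]
          exact G.US_mono (fun s hs => by obtain ⟨h, hp, -⟩ := hs; exact hp) hu
        obtain ⟨c, L'', hmc⟩ := G.exists_word hm
        have hdg : T.hT F c ∈ D.diagonalSubgroup F := by
          rw [G.full.diagonal_eq_range]; exact ⟨c, rfl⟩
        have hdB : (⟨T.hT F c, G.diagonal_le_group hdg⟩ :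
            D.group F) ∈ (G.bnPair F).B :=
          Subgroup.mem_sup_right hdg
        have hpw : G.full.pw L' = G.full.pw L'' := by
          rw [hmc] at hL'
          refine G.rootAct_unique hL' ?_
          have h := G.rootAct_mul (G.rootAct_hT (F := F) c) (G.rootAct_nw (F := F) L'')
          rwa [one_mul] at h
        have hcell : cellOf (G.bnPair F) (⟨b * m * u, hgG⟩ : D.group F) = G.wrd F L'' := by
          rw [← G.cellOf_nwG]
          have e : (⟨b * m * u, hgG⟩ : D.group F) =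
              ⟨b, G.borel_le_group hb⟩ * (⟨T.hT F c, G.diagonal_le_group hdg⟩ * G.nwG F L'') *
                ⟨u, G.US_le_group _ hu⟩ := Subtype.ext (by
            show b * m * u = b * (T.hT F c * G.full.nw F L'') * u
            rw [hmc])
          rw [e, cellOf_mul_right _ huB, cellOf_mul_left _ hbB, cellOf_mul_left _ hdB]
        choose f hf using G.exists_index (F := F)
        have hMw : wprod (G.bnPair F) M = G.wrd F (M.map f) := by
          rw [wrd, List.map_map, show (G.sref F ∘ f) = id from funext hf, List.map_id]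
        rw [cellOf_eq hcw, hMw] at hcell
        rw [hpw, ← G.pw_of_wrd_eq hcell]
        refine list_prod_mem fun σ hσ => ?_
        obtain ⟨i, hi, rfl⟩ := List.mem_map.mp hσ
        obtain ⟨s, hs, rfl⟩ := List.mem_map.mp hi
        obtain ⟨j, hj, e⟩ := hM s hs
        have : f s = j := (G.sref_bijective (F := F)).1 ((hf s).trans (Subtype.ext e))
        exact G.refl_mem (mem_jList.mpr ⟨(f s).isLt, this ▸ hj⟩)
      let σ : W := ⟨G.full.pw L', Finset.mem_filter.mpr ⟨Finset.mem_univ _, hWJ⟩⟩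
      have hinv : G.full.RootAct (n σ)⁻¹ (G.full.pw L')⁻¹ := by
        obtain ⟨L'', h''⟩ := G.exists_rootAct (inv_mem (G.nw_mem_monomial (F := F) (L σ)))
        have e := G.rootAct_unique (G.rootAct_mul h'' (hn σ))
          (by rw [inv_mul_cancel]; exact G.rootAct_one)
        rw [mul_eq_one_iff_eq_inv] at e
        exact e ▸ h''
      have hd : m * (n σ)⁻¹ ∈ D.diagonalSubgroup F := by
        refine G.mem_diagonal_of_pos (mul_mem hm (inv_mem (G.nw_mem_monomial _)))
          (G.rootAct_mul hL' hinv) fun s hs => ?_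
        rw [mul_inv_cancel]
        exact hs
      refine ⟨⟨σ, ⟨b * (m * (n σ)⁻¹), mul_mem hb (Subgroup.mem_sup_right hd)⟩, ⟨u, hu⟩⟩,
        Subtype.ext ?_⟩
      show b * (m * (n σ)⁻¹) * n σ * u = b * m * u
      group
  rw [← Nat.card_congr (Equiv.ofBijective Φ hbij), Nat.card_sigma, Full.poly, Finset.mul_sum]
  rw [← Finset.sum_coe_sort (Finset.univ.filter fun σ => σ ∈ G.full.WJ (jList D J))]
  refine Finset.sum_congr rfl fun σ _ => ?_
  obtain ⟨L', -, e⟩ := G.exists_word_WJ (Finset.mem_filter.mp σ.2).2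
  rw [Nat.card_prod, G.card_US (e ▸ G.closed_flip L'), G.invSet_card,
    Nat.card_eq_fintype_card (α := F)]

/-- The parabolic subgroup attached to a fixed `p`-element and a fixed element centralising it. -/
theorem exists_stable_parabolic [Fintype F] (p : ℕ) [Fact p.Prime] [CharP F p]
    (θ : D.group F ≃* D.group F) {a x : D.group F} (ha : IsPGroup p (Subgroup.zpowers a))
    (ha1 : a ≠ 1) (haθ : θ a = a) (hxθ : θ x = x) (hax : Commute a x) :
    ∃ g : D.group F, ∃ J : Set ℕ, (∃ i, i < D.rank ∧ i ∉ J) ∧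
      x ∈ ((D.parabolicSubgroup F J).subgroupOf (D.group F)).map (MulAut.conj g).toMonoidHom ∧
      (((D.parabolicSubgroup F J).subgroupOf (D.group F)).map (MulAut.conj g).toMonoidHom).map
          θ.toMonoidHom =
        ((D.parabolicSubgroup F J).subgroupOf (D.group F)).map (MulAut.conj g).toMonoidHom := by
  classical
  obtain ⟨Q, hQp, haQ, hNθ, hxQ, hmax⟩ := exists_radical p θ ha haθ hxθ hax
  set N := Subgroup.normalizer (Q : Set (D.group F)) with hN
  set R := Q.map (D.group F).subtype with hR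
  have hRne : R ≠ ⊥ := by
    intro h
    have : ((a : D.group F) : GL D.Idx F) ∈ R := ⟨a, haQ, rfl⟩
    rw [h, Subgroup.mem_bot] at this
    exact ha1 (Subtype.ext this)
  obtain ⟨g, hg, J, hJ, hNP, hRU⟩ := CfsgLib.BorelTits.borel_tits G p
    (Subgroup.map_subtype_le Q) (hQp.map _) hRne
  refine ⟨⟨g, hg⟩, J, hJ, ?_⟩
  set PJ := ((D.parabolicSubgroup F J).subgroupOf (D.group F)).map
    (MulAut.conj (⟨g, hg⟩ : D.group F)).toMonoidHom with hPJ
  set UJ := ((D.unipotentRadical F J).subgroupOf (D.group F)).map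
    (MulAut.conj (⟨g, hg⟩ : D.group F)).toMonoidHom with hUJ
  have hmemP : ∀ y : D.group F, y ∈ PJ ↔ g⁻¹ * (y : GL D.Idx F) * g ∈ D.parabolicSubgroup F J := by
    intro y
    rw [hPJ, Subgroup.mem_map_equiv, Subgroup.mem_subgroupOf]
    simp [MulAut.conj_symm_apply]
  have hmemU : ∀ y : D.group F, y ∈ UJ ↔ g⁻¹ * (y : GL D.Idx F) * g ∈ D.unipotentRadical F J := by
    intro y
    rw [hUJ, Subgroup.mem_map_equiv, Subgroup.mem_subgroupOf]
    simp [MulAut.conj_symm_apply]
  have hNle : N ≤ PJ := by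
    intro y hy
    rw [hmemP]
    have h1 : (y : GL D.Idx F) ∈ Subgroup.normalizer (R : Set (GL D.Idx F)) := by
      refine Subgroup.mem_normalizer_iff.mpr fun z => ⟨?_, ?_⟩
      · rintro ⟨w, hw, rfl⟩
        exact ⟨y * w * y⁻¹, (Subgroup.mem_normalizer_iff.mp hy w).mp hw, rfl⟩
      · rintro ⟨w, hw, e⟩
        refine ⟨y⁻¹ * w * y, (Subgroup.mem_normalizer_iff.mp hy _).mpr ?_, ?_⟩
        · rwa [show y * (y⁻¹ * w * y) * y⁻¹ = w by group]
        · rw [Subgroup.subtype_apply] at e ⊢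
          rw [Subgroup.coe_mul, Subgroup.coe_mul, Subgroup.coe_inv, e]; group
    have h2 := hNP ⟨h1, y.2⟩
    rw [Subgroup.mem_map_equiv] at h2
    simpa [MulAut.conj_symm_apply] using h2
  have hQU : Q ≤ UJ := by
    intro y hy
    rw [hmemU]
    have h2 := hRU ⟨y, hy, rfl⟩
    rw [Subgroup.mem_map_equiv] at h2
    simpa [MulAut.conj_symm_apply] using h2
  have hPU : PJ ≤ Subgroup.normalizer (UJ : Set (D.group F)) := by
    intro y hy
    rw [hmemP] at hy
    refine Subgroup.mem_normalizer_iff.mpr fun z => ?_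
    rw [hmemU, hmemU]
    refine (Subgroup.mem_normalizer_iff.mp (G.rad_normal J hy) _).trans (iff_of_eq ?_)
    congr 1
    simp only [Subgroup.coe_mul, Subgroup.coe_inv]
    group
  have hUp : IsPGroup p UJ := by
    refine (IsPGroup.comap_subtype ?_).map _
    exact (G.isPGroup_pos p).to_le (G.rad_le_pos J)
  have hUQ : Q = UJ := by
    by_contra hne
    have hlt : Q < UJ := lt_of_le_of_ne hQU hne
    haveI := hUp.isNilpotent
    have hlt' : Q.subgroupOf UJ < ⊤ := by
      rw [lt_top_iff_ne_top, Ne, Subgroup.subgroupOf_eq_top]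
      exact not_le_of_gt hlt
    have h := normalizerCondition_of_isNilpotent (Q.subgroupOf UJ) hlt'
    obtain ⟨z, hz, hzn⟩ := SetLike.exists_of_lt h
    have hzN : (z : D.group F) ∈ N := by
      refine Subgroup.mem_normalizer_iff.mpr fun w => ?_
      by_cases hw : w ∈ UJ
      · exact Subgroup.mem_normalizer_iff.mp hz ⟨w, hw⟩
      · refine iff_of_false (fun hwQ => hw (hQU hwQ)) fun hwQ => hw ?_
        have := mul_mem (mul_mem (inv_mem z.2) (hQU hwQ)) z.2
        rwa [show (z : D.group F)⁻¹ * (z * w * (z : D.group F)⁻¹) * z = w by group] at this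
    refine hzn (Subgroup.mem_subgroupOf.mpr ?_)
    refine hmax (UJ ⊓ N) (hUp.to_le inf_le_left) inf_le_right
      (fun y hy => Subgroup.mem_normalizer_iff.mpr fun u => ?_) ⟨z.2, hzN⟩
    have h1 := Subgroup.mem_normalizer_iff.mp (hPU (hNle hy)) u
    exact ⟨fun h => ⟨h1.mp h.1, N.mul_mem (N.mul_mem hy h.2) (N.inv_mem hy)⟩, fun h => ⟨h1.mpr h.1, by
      have := N.mul_mem (N.mul_mem (N.inv_mem hy) h.2) hy
      rwa [show y⁻¹ * (y * u * y⁻¹) * y = u by group] at this⟩⟩
  have hPN : PJ = N := le_antisymm (by rw [hN, hUQ]; exact hPU) hNle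
  rw [hPN]
  exact ⟨hxQ, hNθ⟩

/-- The image of a standard parabolic subgroup under a graph automorphism. -/
theorem map_parabolic [Fintype F] (Φ : G.Graph F) (J : Set ℕ) :
    ((D.parabolicSubgroup F J).subgroupOf (D.group F)).map
        (MulEquiv.ofBijective Φ.act Φ.bij).toMonoidHom =
      (D.parabolicSubgroup F {k | ∃ i : Fin D.rank, i.val ∈ J ∧ k = (Φ.ρ i).val}).subgroupOf
        (D.group F) := by
  set θ := MulEquiv.ofBijective Φ.act Φ.bij
  have hθ : ∀ y : D.group F, ((θ y : D.group F) : GL D.Idx F) = Φ.A y := fun y => (Φ.A_eq y.2).symm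
  rw [G.parabolic_subgroupOf, G.parabolic_subgroupOf, Cfsg.BNPair.parabolic,
    Cfsg.BNPair.parabolic, Subgroup.map_sup, MonoidHom.map_closure]
  congr 1
  · refine Subgroup.eq_of_le_of_card_ge ?_
      (le_of_eq (Subgroup.card_map_of_injective θ.injective).symm)
    rintro _ ⟨y, hy, rfl⟩
    show ((θ y : D.group F) : GL D.Idx F) ∈ D.borelSubgroup F
    rw [hθ]
    exact Φ.A_borel hy
  · congr 1
    have himg : ∀ i : Fin D.rank, θ (G.sref F i).1 = (G.sref F (Φ.ρ i)).1 := fun i =>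
      Subtype.ext ((hθ _).trans (Φ.A_ns i))
    ext y
    constructor
    · rintro ⟨_, ⟨i, hi, rfl⟩, rfl⟩
      exact ⟨Φ.ρ i, ⟨i, hi, rfl⟩, himg i⟩
    · rintro ⟨k, ⟨i, hi, hk⟩, rfl⟩
      obtain rfl : k = Φ.ρ i := Fin.ext hk
      exact ⟨_, ⟨i, hi, rfl⟩, himg i⟩

/-- The stable parabolic subgroup has an invariant set of fundamental roots. -/
theorem exists_graph_parabolic [Fintype F] (p : ℕ) [Fact p.Prime] [CharP F p] (Φ : G.Graph F)
    {a x : D.group F} (ha : IsPGroup p (Subgroup.zpowers a)) (ha1 : a ≠ 1) (haθ : Φ.act a = a)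
    (hxθ : Φ.act x = x) (hax : Commute a x) :
    ∃ J : Set ℕ, (∃ i, i < D.rank ∧ i ∉ J) ∧ (∀ i : Fin D.rank, (Φ.ρ i).val ∈ J ↔ i.val ∈ J) ∧
      orderOf x ∣ Nat.card (D.parabolicSubgroup F J) := by
  set θ := MulEquiv.ofBijective Φ.act Φ.bij
  obtain ⟨g, J, hJ, hxP, hstab⟩ := G.exists_stable_parabolic p θ ha ha1 haθ hxθ hax
  refine ⟨J, hJ, fun i => ?_, ?_⟩
  · set P0 := (D.parabolicSubgroup F J).subgroupOf (D.group F) with hP0
    have h : ((P0.map θ.toMonoidHom).map (MulAut.conj (g⁻¹ * θ g)).toMonoidHom) = P0 := by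
      have e : ∀ y, g⁻¹ * θ g * θ y * (g⁻¹ * θ g)⁻¹ = g⁻¹ * θ (g * y * g⁻¹) * g := fun y => by
        simp only [map_mul, map_inv]; group
      ext y
      constructor
      · rintro ⟨_, ⟨z, hz, rfl⟩, rfl⟩
        have h1 : θ (g * z * g⁻¹) ∈ P0.map (MulAut.conj g).toMonoidHom :=
          hstab ▸ ⟨_, ⟨z, hz, rfl⟩, rfl⟩
        obtain ⟨w, hw, hwe⟩ := h1
        show g⁻¹ * θ g * θ z * (g⁻¹ * θ g)⁻¹ ∈ P0
        rw [e, ← hwe]
        simpa [MulAut.conj_apply, mul_assoc] using hw
      · intro hy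
        have h1 : g * y * g⁻¹ ∈ (P0.map (MulAut.conj g).toMonoidHom).map θ.toMonoidHom := by
          rw [hstab]; exact ⟨y, hy, rfl⟩
        obtain ⟨_, ⟨z, hz, rfl⟩, hze⟩ := h1
        refine ⟨θ z, ⟨z, hz, rfl⟩, ?_⟩
        show g⁻¹ * θ g * θ z * (g⁻¹ * θ g)⁻¹ = y
        rw [e]
        simp only [MulEquiv.coe_toMonoidHom, MulAut.conj_apply] at hze
        rw [hze]; group
    rw [hP0, G.map_parabolic] at h
    have hi := G.parabolic_of_conj _ h (i := Φ.ρ i)
    rw [← hi]
    constructor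
    · rintro ⟨j, hj, e⟩
      rwa [Φ.ρ.injective (Fin.ext e)]
    · exact fun hj => ⟨i, hj, rfl⟩
  · rw [← Nat.card_congr (Subgroup.subgroupOfEquivOfLe (G.parabolic_le_group J)).toEquiv,
      ← Subgroup.card_map_of_injective
        (f := (MulAut.conj g).toMonoidHom) (MulAut.conj g).injective]
    exact Subgroup.orderOf_dvd_natCard _ hxP

end CfsgLib.Chev.Tab.Good
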