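import Cfsg.Agent.Chev.TwistedF4
import Cfsg.Agent.Chev.RadicalChain

/-!
Elements of `²F₄(q)` commuting with involutions.
-/

set_option autoImplicit false
set_option maxRecDepth 8192
set_option linter.style.haveILetI false

namespace CfsgLib.Chev.F4Tw

open Cfsg.Lie Matrix Tab
open scoped MatrixGroups

theorem chain_short : F4Data.tab.chkChain [0, 3] [(0, [(0, 0)], [0, 1]), (3, [(3, 0)], [0, 1])] =
    true := by
  decide +kernel

theorem chain_square : F4Data.tab.chkChain [1, 2]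
    [(1, [(1, 0), (2, 1), (1, 2)], [0, 1, 2, 3]), (2, [(2, 0)], [0, 1])] = true := by
  decide +kernel

theorem chain_empty : F4Data.tab.chkChain [] [] = true := by decide +kernel

namespace Ctx

variable {K : Type*} [Field K] [Fintype K] {m : ℕ} (C : Ctx K m)
include C

theorem primeFactors_commute (hm : 1 ≤ m) (a b : ↥(twistedF4 K (2 ^ m))) (ha : orderOf a = 2)
    (hab : Commute a b) :
    (orderOf b).primeFactors ⊆
      (2 ^ (2 * m + 1) * ((2 ^ (2 * m + 1)) ^ 4 - 1)).primeFactors := by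
  haveI : CharP K 2 := (CharP.charP_iff_prime_eq_zero Nat.prime_two).mpr C.hp
  haveI := Fact.mk Nat.prime_two
  set q := 2 ^ (2 * m + 1) with hq
  have hq2 : 2 ≤ q := Nat.le_self_pow (by omega) 2
  have hfix : twistedF4 K (2 ^ m) ≤ C.Φ.Fix := C.grp_le_fix
  have hle : twistedF4 K (2 ^ m) ≤ chevF4.group K := fun g hg => (hfix hg).1
  let A : chevF4.group K := ⟨a, hle a.2⟩
  let B : chevF4.group K := ⟨b, hle b.2⟩
  have hact : ∀ (y : ↥(twistedF4 K (2 ^ m))), C.Φ.act ⟨y, hle y.2⟩ = ⟨y, hle y.2⟩ := fun y =>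
    Subtype.ext ((C.Φ.A_eq (hle y.2)).symm.trans (hfix y.2).2)
  have hA : orderOf A = 2 := by
    rw [← ha, ← Subgroup.orderOf_coe, ← Subgroup.orderOf_coe a]
  have hA1 : A ≠ 1 := fun h => by rw [h, orderOf_one] at hA; omega
  have hcomm : Commute A B :=
    Subtype.ext (show (a : GL chevF4.Idx K) * b = b * a from congrArg Subtype.val hab.eq)
  obtain ⟨J, ⟨i0, hi0, hi0J⟩, hρ, hdvd⟩ := good_F4.exists_graph_parabolic 2 C.Φ
    (IsPGroup.of_card (n := 1) (by rw [Nat.card_zpowers, hA, pow_one])) hA1 (hact a) (hact b)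
    hcomm
  rw [← Subgroup.orderOf_coe, show ((B : chevF4.group K) : GL chevF4.Idx K) = (b : GL chevF4.Idx K)
    from rfl, Subgroup.orderOf_coe] at hdvd
  rw [good_F4.card_parabolic, good_F4.card_borel, good_F4.posUnipotent_eq,
    good_F4.card_US good_F4.closed_pos, good_F4.card_pos,
    good_F4.full.diagonal_eq_range] at hdvd
  have hdiag : Nat.card (F4Data.tab.hT K).range = (q - 1) ^ 4 := by
    have hinj : Function.Injective (F4Data.tab.hT K) :=
      (injective_iff_map_eq_one _).mpr fun c hc => C.hT_inj hc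
    rw [← Nat.card_congr (MonoidHom.ofInjective hinj).toEquiv, Nat.card_pi, Finset.prod_const,
      C.card_units, Finset.card_univ, Fintype.card_fin]
    rfl
  rw [hdiag, Nat.card_eq_fintype_card (α := K), C.hK, ← hq] at hdvd
  have h03 : (0 ∈ J ↔ 3 ∈ J) ∧ (1 ∈ J ↔ 2 ∈ J) := by
    refine ⟨?_, ?_⟩
    · have := hρ ⟨0, by decide⟩
      rw [C.hρ] at this
      exact this.symm
    · have := hρ ⟨1, by decide⟩
      rw [C.hρ] at this
      exact this.symm
  have hj : jList chevF4 J = [] ∨ jList chevF4 J = [0, 3] ∨ jList chevF4 J = [1, 2] := by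
    have e : List.range chevF4.rank = [0, 1, 2, 3] := by decide
    simp only [jList, e]
    by_cases h0 : 0 ∈ J <;> by_cases h1 : 1 ∈ J
    · exfalso
      have h3 := h03.1.mp h0
      have h2 := h03.2.mp h1
      have : i0 = 0 ∨ i0 = 1 ∨ i0 = 2 ∨ i0 = 3 := by
        have : chevF4.rank = 4 := by decide
        omega
      rcases this with rfl | rfl | rfl | rfl <;> contradiction
    · refine Or.inr (Or.inl ?_)
      have h3 := h03.1.mp h0
      have h2 : 2 ∉ J := fun h => h1 (h03.2.mpr h)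
      simp [h0, h1, h2, h3]
    · refine Or.inr (Or.inr ?_)
      have h2 := h03.2.mp h1
      have h3 : 3 ∉ J := fun h => h0 (h03.1.mpr h)
      simp [h0, h1, h2, h3]
    · refine Or.inl ?_
      have h2 : 2 ∉ J := fun h => h1 (h03.2.mpr h)
      have h3 : 3 ∉ J := fun h => h0 (h03.1.mpr h)
      simp [h0, h1, h2, h3]
  obtain ⟨P, hP1, hP2⟩ : ∃ P, good_F4.full.poly (jList chevF4 J) q = P ∧
      P ∣ ((q + 1) * (q ^ 2 + 1)) * (q + 1) := by
    rcases hj with e | e | e <;> rw [e]
    · exact ⟨_, good_F4.poly_chain q _ _ chain_empty, by simp⟩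
    · refine ⟨_, good_F4.poly_chain q _ _ chain_short, Dvd.intro (q ^ 2 + 1) ?_⟩
      simp
      ring
    · refine ⟨_, good_F4.poly_chain q _ _ chain_square, dvd_of_eq ?_⟩
      simp
      ring
  rw [hP1] at hdvd
  intro r hr
  obtain ⟨hrp, hrb, -⟩ := Nat.mem_primeFactors.mp hr
  have h := hrb.trans (hdvd.trans (mul_dvd_mul_left _ hP2))
  have h4 : q ^ 4 - 1 = (q - 1) * ((q + 1) * (q ^ 2 + 1)) := by
    zify [Nat.one_le_pow 4 q (by omega), show 1 ≤ q by omega]
    ring
  refine Nat.mem_primeFactors.mpr ⟨hrp, ?_, ?_⟩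
  · rw [h4]
    rcases hrp.dvd_mul.mp h with h | h
    · rcases hrp.dvd_mul.mp h with h | h
      · exact dvd_mul_of_dvd_left (hrp.dvd_of_dvd_pow h) _
      · exact dvd_mul_of_dvd_right (dvd_mul_of_dvd_left (hrp.dvd_of_dvd_pow h) _) _
    · refine dvd_mul_of_dvd_right (dvd_mul_of_dvd_right ?_ _) _
      rcases hrp.dvd_mul.mp h with h | h
      · exact h
      · exact dvd_mul_of_dvd_left h _
  · have : 1 < q ^ 4 := Nat.one_lt_pow (by omega) hq2
    exact Nat.mul_ne_zero (by omega) (by omega)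

end Ctx

end CfsgLib.Chev.F4Tw
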