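import Cfsg.Agent.Chev.TwistedF4
import Cfsg.Agent.Chev.TwoGenerated

/-!
`²F₄(q)`, `q ≥ 8`, is generated by a torus element and a root element times a Coxeter representative.
-/

set_option autoImplicit false
set_option linter.unusedSectionVars false
set_option linter.unusedSimpArgs false
set_option linter.style.haveILetI false

namespace CfsgLib.Chev.F4Tw

open Cfsg.Lie Tab
open scoped MatrixGroups

/-- The word of the representative. -/
def coxWord : List (Fin chevF4.rank) :=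
  toFins chevF4.rank (words.getD 0 []) ++ toFins chevF4.rank (words.getD 1 [])

theorem chkMoves : ([35, 31, 40, 46].map (F4Data.tab.pwN (coxWord.map Fin.val)) = [27, 25, 28, 30]) ∧
    ([27, 25, 28, 30].map (F4Data.tab.pwN (coxWord.map Fin.val)) = [13, 21, 11, 5]) ∧
    ([27, 25, 28, 30].map ((F4Data.tab.pwN (coxWord.map Fin.val))^[4]) = [20, 22, 19, 17]) ∧
    ([14, 23].map ((F4Data.tab.pwN (coxWord.map Fin.val))^[4]) = [33, 24]) := by
  decide +kernel

theorem chkBraid : ∀ s : Fin 48, F4Data.tab.pwN [1, 2, 1, 2] s = F4Data.tab.pwN [2, 1, 2, 1] s := by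
  decide +kernel

theorem chkAdjacent : (∀ p ∈ [(27, 21), (27, 11), (27, 5), (25, 13), (25, 11), (25, 5), (28, 13),
    (28, 21), (28, 11), (28, 5), (30, 13), (30, 21), (30, 11), (30, 5), (14, 21), (14, 11), (14, 5),
    (14, 27), (14, 25), (14, 28), (14, 30), (14, 13), (23, 27), (23, 25), (23, 28), (23, 30),
    (23, 13), (23, 21), (23, 11), (23, 5)], F4Data.tab.chkCommute 2 p.1 p.2 = true) ∧
    F4Data.tab.commT 27 13 = [(14, -1, 1, 1)] ∧ F4Data.tab.commT 25 21 = [(23, 1, 1, 1)] := by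
  decide +kernel

variable {K : Type*} [Field K] [Fintype K] {m : ℕ}

namespace Ctx

variable (C : Ctx K m)
include C

local notation "Gx" => good_F4.full.x

theorem sign_one {s i : ℕ} (hi : i < chevF4.rank) (hs : s < chevF4.nroots) :
    ((F4Data.tab.sgn i s : ℤ) : K) = 1 := by
  rcases (good_F4.full.reflT_spec hi hs).2.2.2.2.2.2.1 with e | e <;> simp [e, C.neg_eq]

theorem nw_conj : ∀ (L : List (Fin chevF4.rank)) {s : ℕ}, s < chevF4.nroots → ∀ t : K,
    good_F4.full.nw K L * Gx s t * (good_F4.full.nw K L)⁻¹ =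
      Gx (F4Data.tab.pwN (L.map Fin.val) s) t := by
  intro L
  induction L with
  | nil => intro s _ t; simp [Full.nw, Tab.pwN]
  | cons i L ih =>
    intro s hs t
    have hk : F4Data.tab.pwN (L.map Fin.val) s < chevF4.nroots := good_F4.pwN_lt (by simp) hs
    rw [good_F4.nw_cons, show good_F4.full.ns K i * good_F4.full.nw K L * Gx s t *
        (good_F4.full.ns K i * good_F4.full.nw K L)⁻¹ = good_F4.full.ns K i *
          (good_F4.full.nw K L * Gx s t * (good_F4.full.nw K L)⁻¹) * (good_F4.full.ns K i)⁻¹ by group,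
      ih hs, good_F4.full.ns_conj i.isLt hk, C.sign_one i.isLt hk, one_mul]
    rfl

theorem nw_eq {L L' : List (Fin chevF4.rank)}
    (h : ∀ s : Fin 48, F4Data.tab.pwN (L.map Fin.val) s = F4Data.tab.pwN (L'.map Fin.val) s) :
    good_F4.full.nw K L = good_F4.full.nw K L' := by
  set g := (good_F4.full.nw K L')⁻¹ * good_F4.full.nw K L with hg
  have hconj : ∀ s, s < chevF4.nroots → ∀ t : K, g * Gx s t * g⁻¹ = Gx s t := by
    intro s hs t
    have e : good_F4.full.nw K L * Gx s t * (good_F4.full.nw K L)⁻¹ =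
        good_F4.full.nw K L' * Gx s t * (good_F4.full.nw K L')⁻¹ := by
      rw [C.nw_conj L hs, C.nw_conj L' hs, h ⟨s, hs⟩]
    rw [hg, show (good_F4.full.nw K L')⁻¹ * good_F4.full.nw K L * Gx s t *
        ((good_F4.full.nw K L')⁻¹ * good_F4.full.nw K L)⁻¹ = (good_F4.full.nw K L')⁻¹ *
          (good_F4.full.nw K L * Gx s t * (good_F4.full.nw K L)⁻¹) * good_F4.full.nw K L' by group, e]
    group
  have hpw : (good_F4.full.pw L' : Equiv.Perm (Fin chevF4.nroots)) = good_F4.full.pw L := by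
    refine Equiv.ext fun s => Fin.ext ?_
    rw [good_F4.pw_val, good_F4.pw_val]
    exact (h s).symm
  have hact : good_F4.full.RootAct g 1 := by
    have := good_F4.rootAct_mul (good_F4.rootAct_inv (good_F4.nw_mem_monomial (F := K) L')
      (good_F4.rootAct_nw L')) (good_F4.rootAct_nw (F := K) L)
    rw [hpw, inv_mul_cancel] at this
    exact this
  have hdiag : g ∈ chevF4.diagonalSubgroup K :=
    good_F4.mem_diagonal_of_pos (mul_mem (inv_mem (good_F4.nw_mem_monomial _))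
      (good_F4.nw_mem_monomial _)) hact fun s hs => hs
  rw [good_F4.full.diagonal_eq_range] at hdiag
  obtain ⟨c, hc⟩ := hdiag
  have h1 : g = 1 := by
    rw [← hc, good_F4.full.hT_eq_one_iff]
    intro j hj
    have hlt := good_F4.full.simple_lt hj
    have e := hconj _ hlt (1 : K)
    rw [← hc, good_F4.full.hT_conj hlt] at e
    have e2 := congrArg (· * (Gx (chevF4.simple j) (1 : K))⁻¹) e
    simp only [mul_one, mul_inv_cancel, good_F4.full.x_inv, good_F4.full.x_add, add_neg_cancel,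
      good_F4.full.x_zero] at e2
    exact Units.ext (add_neg_eq_zero.1 (good_F4.x_eq_one hlt e2))
  rw [hg, inv_mul_eq_one] at h1
  exact h1.symm

theorem A_ns {i j : ℕ} (hi : i < chevF4.rank) {k k' : ℕ}
    (hm : mapAt graphMapF4 (chevF4.simple i) = (chevF4.simple j, 1, k))
    (hn : mapAt graphMapF4 (negR chevF4 (chevF4.simple i)) = (negR chevF4 (chevF4.simple j), 1, k')) :
    C.Φ.A (good_F4.full.ns K i) = good_F4.full.ns K j := by
  have hlt := good_F4.full.simple_lt hi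
  have g := fun r (v : K) => good_F4.x_mem_group (F := K) r v
  rw [Full.ns, Full.nr, inv_one, C.neg_eq, C.Φ.A_mul (mul_mem (g _ _) (g _ _)) (g _ _),
    C.Φ.A_mul (g _ _) (g _ _), C.A_root hlt hm, C.A_root (Cert.negR_lt hlt) hn, Full.ns, Full.nr,
    inv_one, C.neg_eq, one_pow, one_pow]

theorem map_simple : ∀ i : Fin 4, ∃ k k' : ℕ,
    mapAt graphMapF4 (chevF4.simple i) = (chevF4.simple (3 - i.val), 1, k) ∧
    mapAt graphMapF4 (negR chevF4 (chevF4.simple i)) = (negR chevF4 (chevF4.simple (3 - i.val)), 1, k') := by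
  intro i
  refine ⟨(mapAt graphMapF4 (chevF4.simple i)).2.2,
    (mapAt graphMapF4 (negR chevF4 (chevF4.simple i))).2.2, ?_⟩
  revert i
  decide +kernel

theorem words1_mem : good_F4.full.nw K (toFins chevF4.rank (words.getD 1 [])) ∈ C.grp := by
  set w := good_F4.full.nw K (toFins chevF4.rank (words.getD 1 [])) with hw
  have hns : ∀ i : ℕ, good_F4.full.ns K i ∈ chevF4.group K := fun i => good_F4.nr_mem_group _ _
  have hA : C.Φ.A w = w := by
    obtain ⟨k1, k1', m1, n1⟩ := C.map_simple (1 : Fin 4)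
    obtain ⟨k2, k2', m2, n2⟩ := C.map_simple (2 : Fin 4)
    have a1 : C.Φ.A (good_F4.full.ns K 1) = good_F4.full.ns K 2 := C.A_ns (by decide) m1 n1
    have a2 : C.Φ.A (good_F4.full.ns K 2) = good_F4.full.ns K 1 := C.A_ns (by decide) m2 n2
    have e : w = good_F4.full.ns K 1 * good_F4.full.ns K 2 * good_F4.full.ns K 1 * good_F4.full.ns K 2 := by
      rw [hw]
      show good_F4.full.nw K ([⟨1, by decide⟩, ⟨2, by decide⟩, ⟨1, by decide⟩, ⟨2, by decide⟩] :
        List (Fin chevF4.rank)) = _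
      simp [Full.nw, mul_assoc]
    have e' : w = good_F4.full.ns K 2 * good_F4.full.ns K 1 * good_F4.full.ns K 2 * good_F4.full.ns K 1 := by
      rw [hw, C.nw_eq (L := toFins chevF4.rank (words.getD 1 []))
        (L' := ([⟨2, by decide⟩, ⟨1, by decide⟩, ⟨2, by decide⟩, ⟨1, by decide⟩] : List (Fin chevF4.rank)))
        chkBraid]
      simp [Full.nw, mul_assoc]
    conv_lhs => rw [e]
    rw [C.Φ.A_mul (mul_mem (mul_mem (hns _) (hns _)) (hns _)) (hns _),
      C.Φ.A_mul (mul_mem (hns _) (hns _)) (hns _), C.Φ.A_mul (hns _) (hns _), a1, a2, ← e']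
  have hfix : w ∈ C.Φ.Fix :=
    ⟨good_F4.monomial_le_group (good_F4.nw_mem_monomial _), hA⟩
  set n := C.gen_data.n (1 : Fin 2)
  have hd : w⁻¹ * n ∈ C.Φ.Fix ⊓ chevF4.diagonalSubgroup K :=
    Subgroup.mem_inf.2 ⟨mul_mem (inv_mem hfix) (C.gen_data.le_fix (C.gen_data.n_mem _)),
      C.gen_data.act_diag (J := (1 : Fin 2)) (good_F4.nw_mem_monomial _) (C.gen_data.n_mono _)
        (good_F4.rootAct_nw _) (C.gen_data.n_act _)⟩
  obtain ⟨p, hp⟩ := C.mem_fix_diag.mp hd
  rw [show w = n * (C.h p)⁻¹ by rw [hp]; group]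
  exact mul_mem (C.gen_data.n_mem _) (inv_mem (C.h_mem p))

theorem cox_mem : good_F4.full.nw K coxWord ∈ C.grp := by
  rw [coxWord, good_F4.nw_append]
  refine mul_mem ?_ C.words1_mem
  show good_F4.full.nw K ([⟨0, by decide⟩, ⟨3, by decide⟩] : List (Fin chevF4.rank)) ∈ _
  rw [show good_F4.full.nw K ([⟨0, by decide⟩, ⟨3, by decide⟩] : List (Fin chevF4.rank)) =
      good_F4.full.nr 33 ((1 : K) ^ 2 ^ m) * good_F4.full.nr 24 1 by
    rw [one_pow]
    simp only [Full.nw, List.map_cons, List.map_nil, List.prod_cons, List.prod_nil, mul_one]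
    rfl, C.nr_pair]
  exact mul_mem (mul_mem (C.U_mem 0 _ 0) (C.V_mem 0 _ 0)) (C.U_mem 0 _ 0)

theorem conj_P4 {g : GL chevF4.Idx K} {r1 r2 r3 r4 s1 s2 s3 s4 : ℕ} {f1 f2 f3 f4 : K → K}
    (h1 : ∀ y, g * Gx r1 y * g⁻¹ = Gx s1 (f1 y)) (h2 : ∀ y, g * Gx r2 y * g⁻¹ = Gx s2 (f2 y))
    (h3 : ∀ y, g * Gx r3 y * g⁻¹ = Gx s3 (f3 y)) (h4 : ∀ y, g * Gx r4 y * g⁻¹ = Gx s4 (f4 y))
    (y1 y2 y3 y4 : K) : g * C.P4 r1 r2 r3 r4 y1 y2 y3 y4 * g⁻¹ =
      C.P4 s1 s2 s3 s4 (f1 y1) (f2 y2) (f3 y3) (f4 y4) := by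
  unfold P4
  rw [← h1, ← h2, ← h3, ← h4]
  group

theorem P4_inv {a b c d : ℕ} (h : chkQuad a b c d = true) (y1 y2 y3 y4 : K) :
    (C.P4 a b c d y1 y2 y3 y4)⁻¹ = C.P4 a b c d y1 y2 (y1 * y2 + y3) (y1 ^ 2 * y2 + y4) := by
  refine inv_eq_of_mul_eq_one_right ?_
  rw [C.P4_mul h, C.add_self, C.add_self,
    show y1 * y2 + (y3 + (y1 * y2 + y3)) = (y1 * y2 + y1 * y2) + (y3 + y3) by ring,
    show y1 ^ 2 * y2 + (y4 + (y1 ^ 2 * y2 + y4)) = (y1 ^ 2 * y2 + y1 ^ 2 * y2) + (y4 + y4) by ring,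
    C.add_self, C.add_self, C.add_self, C.add_self]
  simp [P4, good_F4.full.x_zero, C.add_self]

theorem fixed_form {y1 y2 y3 y4 : K} (h : C.P4 27 25 28 30 y1 y2 y3 y4 ∈ C.grp) :
    ∃ u, C.P4 27 25 28 30 y1 y2 y3 y4 = C.U 1 y2 u := by
  obtain ⟨t, u, e⟩ := (C.fix_inf (1 : Fin 2)).mp
    (Subgroup.mem_inf.mpr ⟨C.grp_le_fix h, C.quad_mem_US y1 y2 y3 y4⟩)
  change _ = C.P4 _ _ _ _ _ _ _ _ at e
  obtain ⟨-, e2, -, -⟩ := C.quad_inj e
  exact ⟨u, by rw [e, e2]; rfl⟩

theorem x_swap (p : ℕ × ℕ) (hp : p ∈ [(27, 21), (27, 11), (27, 5), (25, 13), (25, 11), (25, 5),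
    (28, 13), (28, 21), (28, 11), (28, 5), (30, 13), (30, 21), (30, 11), (30, 5), (14, 21), (14, 11),
    (14, 5), (14, 27), (14, 25), (14, 28), (14, 30), (14, 13), (23, 27), (23, 25), (23, 28), (23, 30),
    (23, 13), (23, 21), (23, 11), (23, 5)]) (v w : K) : Commute (Gx p.1 v) (Gx p.2 w) :=
  C.commute_of (chkAdjacent.1 p hp) v w

theorem comm_adjacent (y1 y2 y3 y4 z1 z2 z3 z4 : K) :
    C.P4 13 21 11 5 z1 z2 z3 z4 * C.P4 27 25 28 30 y1 y2 y3 y4 =
      C.P4 27 25 28 30 y1 y2 y3 y4 * C.P4 13 21 11 5 z1 z2 z3 z4 *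
        (Gx 14 (y1 * z1) * Gx 23 (y2 * z2)) := by
  have c1 : Gx 13 z1 * Gx 27 y1 = Gx 27 y1 * Gx 13 z1 * Gx 14 (y1 * z1) := by
    rw [good_F4.full.x_comm (F := K) (r := 27) (s := 13) (by decide) (by decide) (by decide)
      (by decide +kernel) y1 z1, good_F4.full.cert.commWord_eq (by decide) (by decide), chkAdjacent.2.1]
    simp [rhsWord, C.neg_eq]
  have c2 : Gx 21 z2 * Gx 25 y2 = Gx 25 y2 * Gx 21 z2 * Gx 23 (y2 * z2) := by
    rw [good_F4.full.x_comm (F := K) (r := 25) (s := 21) (by decide) (by decide) (by decide)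
      (by decide +kernel) y2 z2, good_F4.full.cert.commWord_eq (by decide) (by decide), chkAdjacent.2.2]
    simp [rhsWord, C.neg_eq]
  set A := Gx 27 y1 with hA
  set B := Gx 25 y2 with hB
  set D := Gx 28 y3 * Gx 30 y4 with hD
  set A' := Gx 13 z1 with hA'
  set B' := Gx 21 z2 with hB'
  set D' := Gx 11 z3 * Gx 5 z4 with hD'
  set W := Gx 14 (y1 * z1) with hW
  set W' := Gx 23 (y2 * z2) with hW'
  have sw := C.x_swap
  have hDA' : Commute D A' := (sw (28, 13) (by simp) _ _).mul_left (sw (30, 13) (by simp) _ _)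
  have hDB' : Commute D B' := (sw (28, 21) (by simp) _ _).mul_left (sw (30, 21) (by simp) _ _)
  have hDD' : Commute D D' :=
    ((sw (28, 11) (by simp) _ _).mul_right (sw (28, 5) (by simp) _ _)).mul_left
      ((sw (30, 11) (by simp) _ _).mul_right (sw (30, 5) (by simp) _ _))
  have hAD' : Commute A D' := (sw (27, 11) (by simp) _ _).mul_right (sw (27, 5) (by simp) _ _)
  have hBD' : Commute B D' := (sw (25, 11) (by simp) _ _).mul_right (sw (25, 5) (by simp) _ _)
  have hAB' : Commute A B' := sw (27, 21) (by simp) _ _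
  have hBA' : Commute B A' := sw (25, 13) (by simp) _ _
  have hWB : Commute W B := sw (14, 25) (by simp) _ _
  have hWB' : Commute W B' := sw (14, 21) (by simp) _ _
  have hWD : Commute W D := (sw (14, 28) (by simp) _ _).mul_right (sw (14, 30) (by simp) _ _)
  have hWD' : Commute W D' := (sw (14, 11) (by simp) _ _).mul_right (sw (14, 5) (by simp) _ _)
  have hW'D : Commute W' D := (sw (23, 28) (by simp) _ _).mul_right (sw (23, 30) (by simp) _ _)
  have hW'D' : Commute W' D' := (sw (23, 11) (by simp) _ _).mul_right (sw (23, 5) (by simp) _ _)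
  show A' * B' * D' * (A * B * D) = A * B * D * (A' * B' * D') * (W * W')
  calc A' * B' * D' * (A * B * D) = A' * B' * (D' * (A * B)) * D := by simp only [mul_assoc]
    _ = A' * B' * (A * B * D') * D := by rw [((hAD'.mul_left hBD').symm).eq]
    _ = A' * (B' * A) * B * (D' * D) := by simp only [mul_assoc]
    _ = A' * (A * B') * B * (D * D') := by rw [hAB'.eq, hDD'.eq]
    _ = (A' * A) * (B' * B) * (D * D') := by simp only [mul_assoc]
    _ = A * A' * W * (B * B' * W') * (D * D') := by rw [c1, c2]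
    _ = A * A' * (W * (B * B')) * W' * (D * D') := by simp only [mul_assoc]
    _ = A * A' * (B * B' * W) * W' * (D * D') := by rw [(hWB.mul_right hWB').eq]
    _ = A * (A' * B) * B' * ((W * W') * (D * D')) := by simp only [mul_assoc]
    _ = A * (B * A') * B' * (D * D' * (W * W')) := by
      rw [hBA'.eq, ((hWD.mul_left hW'D).mul_right (hWD'.mul_left hW'D')).eq]
    _ = A * B * (A' * B' * D) * D' * (W * W') := by simp only [mul_assoc]
    _ = A * B * (D * (A' * B')) * D' * (W * W') := by rw [(hDA'.mul_right hDB').eq]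
    _ = _ := by simp only [mul_assoc]

/-- `²F₄(q)` is two-generated. -/
theorem two_generated (hm : 1 ≤ m) :
    ∃ a b : ↥C.grp, Subgroup.closure ({a, b} : Set ↥C.grp) = ⊤ := by
  classical
  haveI hc2 : CharP K 2 := (CharP.charP_iff_prime_eq_zero Nat.prime_two).mpr C.hp
  haveI : Fact (Nat.Prime 2) := ⟨Nat.prime_two⟩
  letI := ZMod.algebra K 2
  obtain ⟨g0, hg0, hgo, -⟩ := SL2Pres.exists_generator (F := K)
  set l : Kˣ := Units.mk0 g0 hg0
  have hl : orderOf l = Fintype.card K - 1 := by rw [← orderOf_units]; exact hgo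
  set p : Kˣ × Kˣ := (l, 1)
  set h := C.h p with hh
  set w := good_F4.full.nw K coxWord with hw
  set y := C.U 1 (1 : K) 0 with hy
  have hwG : w ∈ C.grp := C.cox_mem
  refine ⟨⟨h, C.h_mem p⟩, ⟨y * w, mul_mem (C.U_mem _ _ _) hwG⟩, ?_⟩
  set H := (Subgroup.closure ({⟨h, C.h_mem p⟩, ⟨y * w, mul_mem (C.U_mem _ _ _) hwG⟩} :
    Set ↥C.grp)).map C.grp.subtype with hH
  have hle : H ≤ C.grp := Subgroup.map_subtype_le _
  suffices htop : C.grp ≤ H by
    apply Subgroup.map_injective C.grp.subtype_injective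
    rw [← MonoidHom.range_eq_map, Subgroup.range_subtype]
    exact le_antisymm hle htop
  have hhH : h ∈ H := ⟨_, Subgroup.subset_closure (Set.mem_insert _ _), rfl⟩
  have hbH : y * w ∈ H := ⟨_, Subgroup.subset_closure (Set.mem_insert_of_mem _ rfl), rfl⟩
  set A : K := (F4Data.tab.chi 25 (C.cvec p) : K) with hA
  set B : K := (F4Data.tab.chi 31 (C.cvec p) : K) with hB
  have hA' : F4Data.tab.chi (F := K) 25 (C.cvec p) = l⁻¹ := by
    rw [C.chi_eq, show F4Data.tab.cart 0 25 = 0 by decide +kernel,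
      show F4Data.tab.cart 3 25 = -1 by decide +kernel]
    simp [p]
  have hB' : F4Data.tab.chi (F := K) 31 (C.cvec p) = ((l ^ 2 ^ m) ^ 2)⁻¹ * l := by
    rw [C.chi_eq, show F4Data.tab.cart 0 31 = -2 by decide +kernel,
      show F4Data.tab.cart 3 31 = 1 by decide +kernel]
    simp [p, zpow_neg, zpow_ofNat]
  have he2 : 2 ≤ 2 ^ m := Nat.le_self_pow (by omega) 2
  have hcard : orderOf l = 2 * 2 ^ m * 2 ^ m - 1 := by rw [hl, C.hK]; congr 1; ring
  have hA1 : A ≠ 1 := by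
    intro e
    rw [hA, hA', Units.val_eq_one, inv_eq_one] at e
    rw [e, orderOf_one] at hcard
    have : 8 ≤ 2 * 2 ^ m * 2 ^ m := by nlinarith
    omega
  have hB1 : B ≠ 1 := by
    intro e
    rw [hB, hB', Units.val_eq_one, inv_mul_eq_one, ← pow_mul] at e
    obtain ⟨k, hk⟩ : ∃ k, 2 ^ m * 2 = k + 1 := ⟨2 ^ m * 2 - 1, by omega⟩
    rw [hk, pow_succ, mul_eq_right] at e
    have h1 := Nat.le_of_dvd (by omega) (orderOf_dvd_of_pow_eq_one e)
    have : 4 * 2 ^ m ≤ 2 * 2 ^ m * 2 ^ m := by nlinarith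
    omega
  -- the action of `h` and of its conjugate
  obtain ⟨hpre, hadj, hopp, hopp0⟩ := chkMoves
  simp only [List.map_cons, List.map_nil, List.cons.injEq, and_true] at hpre hadj hopp hopp0
  obtain ⟨q1, q2, q3, q4⟩ := hpre
  set h' := w * h * w⁻¹ with hh'
  have hh'x : ∀ r s : ℕ, r < chevF4.nroots → F4Data.tab.pwN (coxWord.map Fin.val) r = s → ∀ t : K,
      h' * Gx s t * h'⁻¹ = Gx s ((F4Data.tab.chi r (C.cvec p) : K) * t) := by
    intro r s hr hrs t
    rw [← hrs, ← C.nw_conj coxWord hr, ← C.nw_conj coxWord hr, hh', hh, ← C.h_conj_x hr, ← hw]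
    group
  have hH'P : ∀ y1 y2 y3 y4 : K, h' * C.P4 27 25 28 30 y1 y2 y3 y4 * h'⁻¹ =
      C.P4 27 25 28 30 ((F4Data.tab.chi 35 (C.cvec p) : K) * y1) (B * y2)
        ((F4Data.tab.chi 40 (C.cvec p) : K) * y3) ((F4Data.tab.chi 46 (C.cvec p) : K) * y4) :=
    fun y1 y2 y3 y4 => C.conj_P4 (hh'x 35 27 (by decide) q1) (hh'x 31 25 (by decide) q2)
      (hh'x 40 28 (by decide) q3) (hh'x 46 30 (by decide) q4) y1 y2 y3 y4
  have hcomm : h * h' * h⁻¹ = h' := by
    obtain ⟨d, hd⟩ := good_F4.nw_hT (F := K) coxWord (C.cvec p)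
    have e : h' = F4Data.tab.hT K d := (eq_mul_inv_of_mul_eq hd.symm).symm
    rw [e, hh]
    show F4Data.tab.hT K (C.cvec p) * _ * (F4Data.tab.hT K (C.cvec p))⁻¹ = _
    rw [← map_mul, ← map_inv, ← map_mul, mul_comm (C.cvec p) d, mul_inv_cancel_right]
  -- the commutator
  have hX : y * h' * y⁻¹ ∈ H := by
    have := mul_mem (mul_mem hbH hhH) (inv_mem hbH)
    rwa [show y * w * h * (y * w)⁻¹ = y * h' * y⁻¹ by rw [hh']; group] at this
  have hE : h * (y * h' * y⁻¹) * h⁻¹ * (y * h' * y⁻¹)⁻¹ ∈ H :=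
    mul_mem (mul_mem (mul_mem hhH hX) (inv_mem hhH)) (inv_mem hX)
  obtain ⟨t0, ht0, u0, hu0⟩ : ∃ t0 : K, t0 ≠ 0 ∧ ∃ u0, C.U 1 t0 u0 ∈ H := by
    rw [show h * (y * h' * y⁻¹) * h⁻¹ * (y * h' * y⁻¹)⁻¹ =
      (h * y * h⁻¹) * ((h * h' * h⁻¹) * ((h * y⁻¹ * h⁻¹) * y) * h'⁻¹) * y⁻¹ by group, hcomm] at hE
    have ey : y = C.P4 27 25 28 30 ((1 : K) ^ 2 ^ m) 1 ((1 : K) ^ (2 ^ m + 1) + 0)
        ((0 : K) ^ (2 * 2 ^ m)) := rfl
    rw [ey, hh, C.P4_inv quadPos, C.conj_quad, C.conj_quad, C.P4_mul quadPos, hH'P,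
      C.P4_mul quadPos, C.P4_mul quadPos] at hE
    obtain ⟨u, hu⟩ := C.fixed_form (hle hE)
    rw [hu] at hE
    refine ⟨_, ?_, u, hE⟩
    rw [← hA, show A * 1 + B * (A * 1 + 1) + 1 = (A + 1) * (B + 1) by ring]
    exact mul_ne_zero (fun e => hA1 ((add_eq_zero_iff_eq_neg.1 e).trans (C.neg_eq 1)))
      (fun e => hB1 ((add_eq_zero_iff_eq_neg.1 e).trans (C.neg_eq 1)))
  -- the whole root group
  have hproj : ∀ {t u t' u' : K}, C.U 1 t u ∈ H → C.U 1 t' u' ∈ H →
      ∃ u'', C.U 1 (t + t') u'' ∈ H := by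
    intro t u t' u' h1 h2
    have h3 := mul_mem h1 h2
    change C.P4 _ _ _ _ _ _ _ _ * C.P4 _ _ _ _ _ _ _ _ ∈ H at h3
    rw [C.P4_mul quadPos] at h3
    obtain ⟨v, hv⟩ := C.fixed_form (hle h3)
    rw [hv] at h3
    exact ⟨v, h3⟩
  have hgen : Algebra.adjoin (ZMod 2) {A} = ⊤ := by
    rw [hA, hA', show (l⁻¹ : Kˣ) = l ^ (-1 : ℤ) by simp]
    exact Good.adjoin_zpow 2 l hl (-1) (Or.inl rfl)
  have hall : ∀ t : K, ∃ u, C.U 1 t u ∈ H := by
    intro t
    have key := SL3Pres.all_of_stable hgen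
      { carrier := {x | ∃ u, C.U 1 (x * t0) u ∈ H}
        add_mem' := fun {a b} ⟨u, ha⟩ ⟨v, hb⟩ => by
          obtain ⟨z, hz⟩ := hproj ha hb
          exact ⟨z, by rwa [add_mul]⟩
        zero_mem' := by
          refine ⟨0, ?_⟩
          have : C.U 1 ((0 : K) * t0) 0 = 1 := by
            simp [U, U1, P4, zero_pow_e, zero_pow_e', good_F4.full.x_zero]
          rw [this]; exact one_mem H
        neg_mem' := fun {a} ha => by
          show ∃ u, C.U 1 (-a * t0) u ∈ H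
          rw [C.neg_eq a]; exact ha }
      (by show ∃ u, C.U 1 (1 * t0) u ∈ H; rw [one_mul]; exact ⟨u0, hu0⟩)
      (fun x ⟨u, hx⟩ => by
        show ∃ v, C.U 1 (A * x * t0) v ∈ H
        have h3 := mul_mem (mul_mem hhH hx) (inv_mem hhH)
        rw [hh, show C.U 1 (x * t0) u = C.P4 27 25 28 30 _ _ _ _ from rfl, C.conj_quad] at h3
        obtain ⟨v, hv⟩ := C.fixed_form (hle h3)
        rw [hv, ← hA, ← mul_assoc] at h3
        exact ⟨v, h3⟩) (t / t0)
    change ∃ u, C.U 1 (t / t0 * t0) u ∈ H at key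
    rwa [div_mul_cancel₀ t ht0] at key
  have hone : ∀ s : K, ∃ t : K, t ^ (2 ^ m + 1) = s := by
    refine Function.Injective.surjective_of_finite (Equiv.refl K) fun a b e => ?_
    have key : ∀ x : K, (x ^ (2 ^ m + 1)) ^ (2 * (2 ^ m - 1)) * (x * x) = x := fun x => by
      rw [← pow_two, ← pow_mul, ← pow_add,
        show (2 ^ m + 1) * (2 * (2 ^ m - 1)) + 2 = 2 * 2 ^ m * 2 ^ m by
          obtain ⟨k, hk⟩ : ∃ k, 2 ^ m = k + 1 := ⟨2 ^ m - 1, by omega⟩
          rw [hk, Nat.add_sub_cancel]; ring,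
        show 2 * 2 ^ m * 2 ^ m = 2 ^ (2 * m + 1) by ring, ← C.hK]
      exact FiniteField.pow_card x
    have key' : ∀ x : K, x ≠ 0 → x = ((x ^ (2 ^ m + 1)) ^ (2 * (2 ^ m - 1)))⁻¹ := fun x hx => by
      have e1 := key x
      rw [← mul_assoc] at e1
      have e2 : (x ^ (2 ^ m + 1)) ^ (2 * (2 ^ m - 1)) * x = 1 :=
        mul_right_cancel₀ hx (by rw [e1, one_mul])
      exact eq_inv_of_mul_eq_one_right e2
    rcases eq_or_ne a 0 with rfl | ha
    · have : b ^ (2 ^ m + 1) = 0 := by rw [← e]; simp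
      exact (eq_zero_of_pow_eq_zero this).symm
    · have hb : b ≠ 0 := fun hb => by
        simp only [hb, zero_pow (Nat.succ_ne_zero _)] at e
        exact ha (eq_zero_of_pow_eq_zero e)
      rw [key' a ha, key' b hb]
      rw [e]
  have hU1 : ∀ t u : K, C.U 1 t u ∈ H := by
    intro t u
    obtain ⟨v, hv⟩ := hall t
    obtain ⟨r, hr⟩ := hone (v + u)
    obtain ⟨z, hz⟩ := hall r
    have hsq := mul_mem hz hz
    have e : C.U 1 r z * C.U 1 r z = C.U 1 0 (v + u) := by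
      show C.P4 _ _ _ _ _ _ _ _ * C.P4 _ _ _ _ _ _ _ _ = C.P4 _ _ _ _ _ _ _ _
      rw [C.P4_mul quadPos, C.add_self, C.add_self, C.add_self, C.add_self, add_zero, add_zero,
        zero_pow_e, ← pow_succ, hr, zero_pow (Nat.succ_ne_zero _), zero_add, ← pow_mul, ← pow_succ,
        mul_comm (2 ^ m) 2]
      congr 1
      rw [← hr, ← pow_mul,
        show (2 ^ m + 1) * (2 * 2 ^ m) = 2 * 2 ^ m * 2 ^ m + 2 * 2 ^ m by ring, pow_add,
        show 2 * 2 ^ m * 2 ^ m = 2 ^ (2 * m + 1) by ring, ← C.hK, pow_add r (Fintype.card K), FiniteField.pow_card, pow_one, mul_comm]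
    rw [e] at hsq
    have h4 := mul_mem hv hsq
    rwa [show C.U 1 t v * C.U 1 0 (v + u) = C.U 1 t u by
      show C.P4 _ _ _ _ _ _ _ _ * C.P4 _ _ _ _ _ _ _ _ = C.P4 _ _ _ _ _ _ _ _
      simp only [C.P4_mul quadPos, zero_pow_e, zero_pow, ne_eq, Nat.add_eq_zero_iff,
        one_ne_zero, and_false, not_false_eq_true, zero_mul, zero_add, add_zero, two_ne_zero]
      congr 1
      · rw [add_assoc, ← add_assoc v, C.add_self, zero_add]
      · rw [← C.add_pow', ← add_assoc, C.add_self, zero_add]] at h4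
  have hwH : w ∈ H := (mul_mem_cancel_left (hU1 1 0)).1 hbH
  have hstep : ∀ (k : ℕ) (r : ℕ), r < chevF4.nroots → ∀ t : K,
      w ^ k * Gx r t * (w ^ k)⁻¹ = Gx ((F4Data.tab.pwN (coxWord.map Fin.val))^[k] r) t := by
    intro k
    induction k with
    | zero => intro r _ t; simp
    | succ k ih =>
      intro r hr t
      rw [Function.iterate_succ_apply, ← ih _ (good_F4.pwN_lt (by simp) hr), ← C.nw_conj coxWord hr,
        pow_succ, ← hw]
      group
  obtain ⟨a1, a2, a3, a4⟩ := hadj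
  obtain ⟨o1, o2, o3, o4⟩ := hopp
  obtain ⟨z1, z2⟩ := hopp0
  have hV0 : ∀ t : K, C.V 0 t 0 ∈ H := by
    intro t
    have h1 := hU1 t 0
    have h2 := mul_mem (mul_mem hwH (hU1 1 0)) (inv_mem hwH)
    rw [show C.U 1 (1 : K) 0 = C.P4 27 25 28 30 _ _ _ _ from rfl,
      C.conj_P4 (C.nw_conj coxWord (s := 27) (by decide)) (C.nw_conj coxWord (s := 25) (by decide))
        (C.nw_conj coxWord (s := 28) (by decide)) (C.nw_conj coxWord (s := 30) (by decide)),
      a1, a2, a3, a4] at h2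
    have h3 := mul_mem h2 h1
    rw [show C.U 1 t 0 = C.P4 27 25 28 30 _ _ _ _ from rfl, C.comm_adjacent] at h3
    have h4 := (mul_mem_cancel_left (mul_mem h1 h2)).1 h3
    simpa [V, U0] using h4
  have hV1 : ∀ t u : K, C.V 1 t u ∈ H := by
    intro t u
    have h2 := mul_mem (mul_mem (pow_mem hwH 4) (hU1 t u)) (inv_mem (pow_mem hwH 4))
    rw [show C.U 1 t u = C.P4 27 25 28 30 _ _ _ _ from rfl,
      C.conj_P4 (hstep 4 27 (by decide)) (hstep 4 25 (by decide)) (hstep 4 28 (by decide))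
        (hstep 4 30 (by decide)), o1, o2, o3, o4] at h2
    exact h2
  have hU0 : ∀ t : K, C.U 0 t 0 ∈ H := by
    intro t
    have h2 := mul_mem (mul_mem (pow_mem hwH 4) (hV0 t)) (inv_mem (pow_mem hwH 4))
    rw [show C.V 0 t 0 = Gx 14 (t ^ 2 ^ m) * Gx 23 t from rfl, ← conj_mul, hstep 4 14 (by decide),
      hstep 4 23 (by decide), z1, z2] at h2
    exact h2
  refine (Subgroup.closure_le _).mpr ?_
  rintro g ⟨wd, hwd, hg⟩
  obtain ⟨J, t, u, rfl | rfl⟩ := C.mem_cases hwd hg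
  · revert J
    refine fun J : Fin 2 => ?_
    fin_cases J
    · exact fun _ => hU0 t
    · exact fun _ => hU1 t u
  · revert J
    refine fun J : Fin 2 => ?_
    fin_cases J
    · exact fun _ => hV0 t
    · exact fun _ => hV1 t u

end Ctx

end CfsgLib.Chev.F4Tw
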