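import Cfsg.Agent.Chev.TwistedF4

/-!
Elements of 2-power order in `²F₄(q)` have order at most 32: positive root elements raise the height in the
adjoint module, whose heights fill an interval of 23 integers.
-/

set_option autoImplicit false
set_option linter.style.haveILetI false

namespace CfsgLib.Chev.F4Exp

open Cfsg.Lie Matrix
open scoped MatrixGroups

/-- The heights of the roots, shifted by 11. -/
def levTab : List ℕ := [0, 1, 2, 3, 4, 5, 6, 4, 5, 6, 7, 7, 8, 9, 10, 6, 7, 8, 8, 9, 10, 9, 10, 10, 12, 12, 13, 12, 13, 14, 14, 15, 16, 12, 13, 14, 15, 15, 16, 17, 18, 16, 17, 18, 19, 20, 21, 22]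

/-- The height of a basis vector of the adjoint module, shifted by 11. -/
def lev : chevF4.Idx → ℕ := Sum.elim (fun _ => 11) fun r => levTab.getD r.val 0

theorem lev_le : ∀ i : chevF4.Idx, lev i < 23 := by decide +kernel

theorem chkLev : ∀ r : Fin chevF4.nroots, chevF4.IsPosRoot r.val →
    11 < levTab.getD r.val 0 ∧ levTab.getD (chevF4.negIdx.getD r.val 0) 0 < 11 ∧
    ∀ e ∈ (chevF4.chain.getD r.val #[]).toList, ∀ p ∈ e.2.toList,
      levTab.getD e.1 0 < levTab.getD p.1 0 := by decide +kernel

variable {K : Type*} [Field K]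

theorem chainCoeff_nil {r : Fin chevF4.nroots} (hr : chevF4.IsPosRoot r.val) {s u : ℕ}
    (h : levTab.getD u 0 ≤ levTab.getD s 0) : chevF4.chainCoeff r.val s u = [] := by
  rw [ChevalleyDatum.chainCoeff, List.flatMap_eq_nil_iff]
  intro e he
  rw [List.mem_filter] at he
  have hes : e.1 = s := by simpa using he.2
  rw [List.map_eq_nil_iff, List.filter_eq_nil_iff]
  intro q hq hu
  have hu' : q.1.1 = u := by simpa using hu
  have hlt := (chkLev r hr).2.2 e he.1 q.1 (List.fst_mem_of_mem_zipIdx hq)
  rw [hes, hu'] at hlt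
  omega

/-- The matrices raising the height, up to the identity. -/
def Raises (M : Matrix chevF4.Idx chevF4.Idx K) : Prop :=
  ∀ i j, lev i ≤ lev j → M i j = (1 : Matrix chevF4.Idx chevF4.Idx K) i j

theorem raises_x {r : Fin chevF4.nroots} (hr : chevF4.IsPosRoot r.val) (t : K) :
    Raises (chevF4.xMat K r t) := by
  obtain ⟨h1, h2, -⟩ := chkLev r hr
  have hlr : lev (Sum.inr r) = levTab.getD r.val 0 := rfl
  intro a b hab
  rw [ChevalleyDatum.xMat, Matrix.of_apply]
  rcases b with i | s
  · rcases a with i' | u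
    · by_cases h : i' = i
      · subst h; simp
      · simp [h]
    · have hu : u ≠ r := fun h => by subst h; simp only [hlr] at hab; change _ ≤ 11 at hab; omega
      simp [hu]
  · dsimp only
    split_ifs with hs hn
    · subst hs
      rcases a with i' | u
      · simp
      · simp [Matrix.one_apply]
    · have hls : lev (Sum.inr s) < 11 := by
        show levTab.getD s.val 0 < 11
        rw [hn]; exact h2
      rcases a with i' | u
      · have : (11 : ℕ) ≤ lev (Sum.inr s) := hab
        omega
      · dsimp only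
        by_cases hus : u = s
        · subst hus; simp
        · have hur : u ≠ r := fun h => by subst h; omega
          simp [hus, hur]
    · rcases a with i' | u
      · simp
      · dsimp only
        rw [chainCoeff_nil hr hab]
        simp [Matrix.one_apply]

theorem raises_mul {M N : Matrix chevF4.Idx chevF4.Idx K} (hM : Raises M) (hN : Raises N) :
    Raises (M * N) := by
  intro i j hij
  rw [Matrix.mul_apply, Finset.sum_eq_single i]
  · rw [hM i i le_rfl, Matrix.one_apply_eq, one_mul, hN i j hij]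
  · intro k _ hk
    by_cases h : lev i ≤ lev k
    · rw [hM i k h, Matrix.one_apply_ne' hk, zero_mul]
    · rw [hN k j (by omega), Matrix.one_apply_ne (fun e => by subst e; omega), mul_zero]
  · simp

theorem raises_pow {M : Matrix chevF4.Idx chevF4.Idx K} (hM : Raises M) :
    ∀ (k : ℕ) (i j : chevF4.Idx), lev i < lev j + k → ((M - 1) ^ k) i j = 0 := by
  intro k
  induction k with
  | zero =>
    intro i j h
    rw [pow_zero, Matrix.one_apply_ne]
    rintro rfl
    omega
  | succ k ih =>
    intro i j h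
    rw [pow_succ, Matrix.mul_apply]
    refine Finset.sum_eq_zero fun l _ => ?_
    by_cases h1 : lev l ≤ lev j
    · rw [Matrix.sub_apply, hM l j h1, sub_self, mul_zero]
    · rw [ih i l (by omega), zero_mul]

theorem raises_pow_thirty_two [CharP K 2] {M : Matrix chevF4.Idx chevF4.Idx K} (hM : Raises M) :
    M ^ 32 = 1 := by
  haveI : Fact (Nat.Prime 2) := ⟨Nat.prime_two⟩
  haveI : Nonempty chevF4.Idx := ⟨Sum.inl ⟨0, by decide⟩⟩
  have h0 : (M - 1) ^ 32 = 0 := by
    ext i j
    exact raises_pow hM 32 i j (by have := lev_le i; omega)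
  rw [show (32 : ℕ) = 2 ^ 5 from rfl, sub_pow_char_pow_of_commute _ _ (Commute.one_right M), one_pow,
    sub_eq_zero] at h0
  exact h0

theorem pos_pow_thirty_two [CharP K 2] [Fintype K] {g : GL chevF4.Idx K} (hg : g ∈ chevF4.posUnipotent K) :
    g ^ 32 = 1 := by
  have h : g ∈ Submonoid.closure
      {g : GL chevF4.Idx K | ∃ (r : ℕ) (t : K), chevF4.IsPosRoot r ∧
        (g : Matrix chevF4.Idx chevF4.Idx K) = chevF4.x K r t} := by
    rwa [← Subgroup.closure_toSubmonoid_of_finite]
  refine Units.ext ?_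
  rw [Units.val_pow_eq_pow_val, Units.val_one]
  refine raises_pow_thirty_two ?_
  clear hg
  induction h using Submonoid.closure_induction with
  | mem x hx =>
    obtain ⟨r, t, hr, e⟩ := hx
    rw [e, ChevalleyDatum.x, dif_pos hr.1]
    exact raises_x hr t
  | one => intro i j _; rfl
  | mul a b _ _ ha hb => rw [Units.val_mul]; exact raises_mul ha hb

/-- A 2-element of a group with a Sylow 2-subgroup inside `U` inherits the exponent of `U`. -/
theorem pow_eq_one_of_sylow {Γ : Type*} [Group Γ] (U G : Subgroup Γ) [Finite G] {k r n : ℕ}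
    (hU : Nat.card (U ⊓ G : Subgroup Γ) = 2 ^ k) (hG : Nat.card G = 2 ^ k * r) (hr : Odd r)
    (hpow : ∀ g ∈ U, g ^ n = 1) (x : G) (hx : ∃ j : ℕ, orderOf x = 2 ^ j) : x ^ n = 1 := by
  haveI : Fact (Nat.Prime 2) := ⟨Nat.prime_two⟩
  have hUc : Nat.card ((U ⊓ G).subgroupOf G) = 2 ^ k := by
    rw [Nat.card_congr (Subgroup.subgroupOfEquivOfLe inf_le_right).toEquiv, hU]
  have hP : IsPGroup 2 ((U ⊓ G).subgroupOf G) := IsPGroup.of_card hUc
  let P : Sylow 2 G := hP.toSylow (by
    have h := Subgroup.card_mul_index ((U ⊓ G).subgroupOf G)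
    rw [hUc, hG] at h
    rw [Nat.eq_of_mul_eq_mul_left (pow_pos two_pos k) h]
    exact hr.not_two_dvd_nat)
  obtain ⟨j, hj⟩ := hx
  have hxp : IsPGroup 2 (Subgroup.zpowers x) := IsPGroup.of_card (n := j) (by rw [Nat.card_zpowers, hj])
  obtain ⟨Q, hQ⟩ := hxp.exists_le_sylow
  obtain ⟨g, hg⟩ := MulAction.exists_smul_eq G P Q
  have hxQ : x ∈ (Q : Subgroup G) := hQ (Subgroup.mem_zpowers x)
  rw [← hg] at hxQ
  obtain ⟨y, hy, rfl⟩ := hxQ
  show (MulAut.conj g y) ^ n = 1
  rw [← map_pow, show y ^ n = 1 from Subtype.ext (hpow _ hy.1), map_one]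

end CfsgLib.Chev.F4Exp
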