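import Cfsg.Agent.Chev.TorusFix
import Cfsg.Agent.Chev.HomocyclicSylow
import Cfsg.Agent.Chev.FoldE6
import Cfsg.Agent.Chev.InvolData

/-!
The lattices of the folding of `E₆` to `F₄`, and the elliptic element of the larger lattice.
-/

set_option autoImplicit false
set_option linter.style.haveILetI false

namespace CfsgLib.Chev

open Matrix Polynomial Cfsg.Lie

/-- Intertwined matrices have the same characteristic polynomial. -/
theorem charpoly_eq_of_intertwine {n : Type*} [Fintype n] [DecidableEq n]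
    {A B P : Matrix n n ℤ} (h : A * P = P * B) (hP : P.det ≠ 0) : A.charpoly = B.charpoly := by
  have e : A.charmatrix * P.map Polynomial.C = P.map Polynomial.C * B.charmatrix := by
    simp only [Matrix.charmatrix, RingHom.mapMatrix_apply, Matrix.sub_mul, Matrix.mul_sub]
    rw [(Matrix.scalar_commute (X : ℤ[X]) (fun r => Commute.all _ r) (P.map Polynomial.C)).eq,
      ← Matrix.map_mul, ← Matrix.map_mul, h]
  have e' := congrArg Matrix.det e
  have hne : (P.map Polynomial.C).det ≠ 0 := by
    rw [← RingHom.mapMatrix_apply, ← RingHom.map_det]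
    exact C_ne_zero.mpr hP
  rw [det_mul, det_mul, mul_comm] at e'
  exact mul_left_cancel₀ hne e'

namespace Tab.Good

variable {D : ChevalleyDatum} {T : Tab D} (G : T.Good) {F K : Type*} [Field F] [Fintype F]
  [Field K] [Fintype K]
include G

/-- An element of prime order in the group over `F`, placed in the torus over `K`. -/
theorem exists_torus_vector (hinj : Function.Injective (T.hT K)) (f : F →+* K) {σ : K →+* K}
    (hσ : ∀ a, σ a = a ^ Fintype.card F) (hσf : σ.comp f = f) {g : Kˣ}
    (hg : ∀ c, c ∈ Subgroup.zpowers g) {r : ℕ} [Fact r.Prime] {m : ℤ}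
    (hm : (orderOf g : ℤ) = r * m) (hQ : (Fintype.card K : ZMod r) = 1)
    (hrW : ¬ r ∣ Nat.card (G.full.WJ (List.range D.rank))) (x : D.group F) (hxr : orderOf x = r) :
    ∃ h ∈ D.group K, ∃ (u : Fin D.rank → ℤ) (L : List (Fin D.rank)),
      glMap D f x = h * T.hT K (expo g (m • u)) * h⁻¹ ∧ Int.castRingHom (ZMod r) ∘ u ≠ 0 ∧
      Int.castRingHom (ZMod r) ∘ (T.vM L *ᵥ ((Fintype.card F : ℤ) • u)) =
        Int.castRingHom (ZMod r) ∘ u := by
  classical
  set q := Fintype.card F
  have hr : r.Prime := Fact.out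
  let φ : ↥(D.group F) →* GL D.Idx K := (glMap D f).comp (D.group F).subtype
  have hφinj : Function.Injective φ := (glMap_injective f).comp (Subgroup.subtype_injective _)
  have hxr' : orderOf (φ x) = r := by rw [orderOf_injective φ hφinj, hxr]
  obtain ⟨h, hh, c, hc⟩ := G.conj_torus r hQ hrW (G.glMap_group f x.2) hxr'
  obtain ⟨v, rfl⟩ : ∃ v, expo g v = c := by
    choose v hv using fun k => Subgroup.mem_zpowers_iff.mp (hg (c k))
    exact ⟨v, funext hv⟩
  set t := T.hT K (expo g v)
  have htr : t ^ r = 1 := by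
    have : φ x ^ r = 1 := by rw [← hxr', pow_orderOf_eq_one]
    rwa [show φ x = h * t * h⁻¹ from hc, conj_pow, conj_eq_one_iff] at this
  have ht1 : t ≠ 1 := fun e => hr.one_lt.ne' (by
    rw [← hxr', show φ x = h * t * h⁻¹ from hc, e, mul_one, mul_inv_cancel, orderOf_one])
  have hN0 : (orderOf g : ℤ) ≠ 0 := Nat.cast_ne_zero.mpr (orderOf_pos g).ne'
  have hr0 : (r : ℤ) ≠ 0 := Nat.cast_ne_zero.mpr hr.ne_zero
  have hm0 : m ≠ 0 := fun e => hN0 (by rw [hm, e, mul_zero])
  have hone : expo g (0 : Fin D.rank → ℤ) = 1 := funext fun j => _root_.zpow_zero g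
  have hv' : ∀ k, m ∣ v k := fun k => by
    have h1 : expo g ((r : ℤ) • v) = expo g 0 := hinj (by
      have e1 : expo g ((r : ℤ) • v) = expo g v ^ r := funext fun j => by
        rw [Pi.pow_apply, expo, expo, Pi.smul_apply, smul_eq_mul, mul_comm, _root_.zpow_mul,
          _root_.zpow_natCast]
      rw [e1, map_pow, hone, map_one]
      exact htr)
    have h2 := (expo_eq_iff _ _).mp h1 k
    simp only [Pi.smul_apply, smul_eq_mul, Pi.zero_apply, sub_zero, hm] at h2
    exact (mul_dvd_mul_iff_left hr0).mp h2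
  choose u hu using hv'
  have hvu : v = m • u := funext fun k => hu k
  have hy : h⁻¹ * glMap D σ h ∈ D.group K := mul_mem (inv_mem hh) (G.glMap_group σ hh)
  have hyt : h⁻¹ * glMap D σ h * T.hT K (expo g ((q : ℤ) • v)) = t * (h⁻¹ * glMap D σ h) := by
    have e : glMap D σ (φ x) = φ x := by
      show glMap D σ (glMap D f (x : GL D.Idx F)) = glMap D f x
      rw [glMap_comp, hσf]
    rw [show φ x = h * t * h⁻¹ from hc, map_mul, map_mul, map_inv, G.glMap_hT,
      show (fun i => Units.map σ.toMonoidHom (expo g v i)) = expo g ((q : ℤ) • v) from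
        funext fun k => Units.ext (by
          show σ ((g ^ v k : Kˣ) : K) = ((g ^ ((q : ℤ) • v) k : Kˣ) : K)
          rw [hσ, ← Units.val_pow_eq_pow_val, Pi.smul_apply, smul_eq_mul, mul_comm (q : ℤ),
            _root_.zpow_mul, _root_.zpow_natCast])] at e
    calc h⁻¹ * glMap D σ h * T.hT K (expo g ((q : ℤ) • v))
        = h⁻¹ * (glMap D σ h * T.hT K (expo g ((q : ℤ) • v)) * (glMap D σ h)⁻¹) *
            glMap D σ h := by group
      _ = _ := by rw [e]; group
  obtain ⟨L, hL⟩ := G.fusion_word hy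
  have hnw := hL _ _ hyt
  rw [G.nw_expo] at hnw
  have hLv := (expo_eq_iff _ _).mp (hinj (mul_right_cancel hnw))
  refine ⟨h, hh, u, L, by rw [← hvu]; exact hc, fun e => ?_, funext fun k => ?_⟩
  · refine ht1 ?_
    have : expo g v = expo g 0 := (expo_eq_iff _ _).mpr fun k => by
      rw [Pi.zero_apply, sub_zero, hm, hu k, mul_comm (r : ℤ)]
      exact mul_dvd_mul_left m ((ZMod.intCast_zmod_eq_zero_iff_dvd _ _).mp (congrFun e k))
    show T.hT K (expo g v) = 1
    rw [this, hone, map_one]
  · have h2 := hLv k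
    rw [hvu, smul_comm, mulVec_smul, Pi.smul_apply, Pi.smul_apply, smul_eq_mul, smul_eq_mul,
      ← mul_sub, hm, mul_comm (r : ℤ)] at h2
    exact (ZMod.intCast_eq_intCast_iff_dvd_sub _ _ _).mpr
      (dvd_sub_comm.mp ((mul_dvd_mul_iff_left hm0).mp h2))

omit [Field F] [Fintype F] in
/-- A torus element which is regular modulo `r` is fixed by no non-trivial Weyl element. -/
theorem stab_of_no_root {S : SmithData} (hS : T.chkSmith S = true)
    (hpos : ∀ i : Fin D.rank, S.d.getD i.val 0 ≠ 0) {r : ℕ} [Fact r.Prime]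
    (hrW : ¬ r ∣ Nat.card (G.full.WJ (List.range D.rank))) {v : Fin D.rank → ZMod r}
    (hno : ∀ s : Fin D.nroots, (fun k => ((T.wrow s.val k : ℤ) : ZMod r)) ⬝ᵥ v ≠ 0)
    (L : List (Fin D.rank))
    (hL : (T.vM L).map (Int.castRingHom (ZMod r)) *ᵥ v = v) : G.full.pw L = 1 := by
  classical
  set c := Int.castRingHom (ZMod r)
  set k := Nat.card (G.full.WJ (List.range D.rank))
  let w : Fin D.rank → ℤ := fun i => ((v i).val : ℤ)
  have hw : c ∘ w = v := funext fun i => by simp [w, c]
  set S' := ∑ i ∈ Finset.range k, T.vM L ^ i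
  have hXS : T.vM L * S' = S' := by
    have := mul_geom_sum (T.vM L) k
    rw [G.vM_pow_card_smith hS hpos L, sub_self, sub_mul, one_mul, sub_eq_zero] at this
    exact this
  refine G.pw_eq_one_of_fixed L (S' *ᵥ w) (fun s h0 => ?_) (by rw [mulVec_mulVec, hXS])
  have hcast : c ∘ (S' *ᵥ w) = (k : ZMod r) • v := by
    funext i
    rw [Function.comp_apply, RingHom.map_mulVec, hw]
    have hS' : S'.map c = ∑ i ∈ Finset.range k, (T.vM L).map c ^ i := by
      show c.mapMatrix S' = _
      simp only [S', map_sum, map_pow]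
      rfl
    have hp : ∀ i : ℕ, (T.vM L).map c ^ i *ᵥ v = v := fun i => by
      induction i with
      | zero => simp
      | succ i ih => rw [pow_succ, ← mulVec_mulVec, hL, ih]
    rw [hS', Matrix.sum_mulVec]
    simp [hp]
  refine hno s ?_
  have h1 := congrArg c h0
  rw [RingHom.map_dotProduct, hcast, map_zero, dotProduct_smul, smul_eq_mul] at h1
  exact (mul_eq_zero.mp h1).resolve_left fun h => hrW ((CharP.cast_eq_zero_iff (ZMod r) r _).mp h)

end Tab.Good

namespace E6Fold

open Tab

/-- The rank is not zero. -/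
local instance neZeroRankF4 : NeZero chevF4.rank := ⟨by decide⟩

/-- The rank is not zero. -/
local instance neZeroRankE6' : NeZero chevE6.rank := ⟨by decide⟩

/-- The orbit of each fundamental root of `E₆`. -/
def orbOf : Fin chevE6.rank → Fin chevF4.rank := ![0, 3, 1, 2, 1, 0]

/-- The fundamental roots in each orbit. -/
def orb6 : Fin chevF4.rank → List (Fin chevE6.rank) := ![[0, 5], [2, 4], [3], [1]]

/-- The word in the Weyl group of `E₆` of a word in that of `F₄`. -/
def expand (L : List (Fin chevF4.rank)) : List (Fin chevE6.rank) := L.flatMap orb6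

/-- The inclusion of the lattices. -/
def iotaM : Matrix (Fin chevE6.rank) (Fin chevF4.rank) ℤ :=
  Matrix.of fun i j => if orbOf i = j then 1 else 0

/-- A complement of the smaller lattice. -/
def kapM : Matrix (Fin chevE6.rank) (Fin 2) ℤ :=
  Matrix.of ![![0, 1], ![0, 0], ![1, 0], ![0, 0], ![-1, 0], ![0, -1]]

/-- A left inverse of the basis, up to the factor `2`. -/
def basisInv : Matrix (Fin chevF4.rank ⊕ Fin 2) (Fin chevE6.rank) ℤ :=
  Matrix.fromRows (Matrix.of ![![1, 0, 0, 0, 0, 1], ![0, 0, 1, 0, 1, 0], ![0, 0, 0, 2, 0, 0],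
    ![0, 2, 0, 0, 0, 0]]) (Matrix.of ![![0, 0, 1, 0, -1, 0], ![1, 0, 0, 0, 0, -1]])

/-- The action on the complement. -/
def bGen : Fin chevF4.rank → Matrix (Fin 2) (Fin 2) ℤ :=
  ![!![1, 0; 1, -1], !![-1, 1; 0, 1], 1, 1]

theorem iotaM_mulVec (z : Fin chevF4.rank → ℤ) : iotaM *ᵥ z = z ∘ orbOf := by
  funext i
  simp [iotaM, mulVec, dotProduct]

theorem gen_iota : ∀ j : Fin chevF4.rank,
    E6Data.tab.vM (orb6 j) * iotaM = iotaM * F4Data.tab.sM j := by decide +kernel

theorem gen_kap : ∀ j : Fin chevF4.rank, E6Data.tab.vM (orb6 j) * kapM = kapM * bGen j := by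
  decide +kernel

theorem basis_inv : basisInv * Matrix.fromCols iotaM kapM = Matrix.diagonal fun _ => 2 := by
  decide +kernel

/-- The roots of `E₆` restrict to roots of `F₄`. -/
theorem restrict_root : ∀ s : Fin chevE6.nroots, ∃ s' : Fin chevF4.nroots,
    E6Data.tab.wrow s.val ᵥ* iotaM = F4Data.tab.wrow s'.val := by decide +kernel

theorem wrow_dot {R : Type*} [CommRing R] (s : Fin chevE6.nroots) :
    ∃ s' : Fin chevF4.nroots, ∀ v : Fin chevF4.rank → R,
      (fun k => ((E6Data.tab.wrow s.val k : ℤ) : R)) ⬝ᵥ (v ∘ orbOf) =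
        (fun k => ((F4Data.tab.wrow s'.val k : ℤ) : R)) ⬝ᵥ v := by
  obtain ⟨s', hs'⟩ := restrict_root s
  refine ⟨s', fun v => ?_⟩
  have e : v ∘ orbOf = (iotaM.map (Int.castRingHom R)) *ᵥ v := by
    funext i
    simp [iotaM, mulVec, dotProduct]
  rw [e, dotProduct_mulVec]
  congr 1
  funext k
  rw [← hs']
  exact (RingHom.map_vecMul (Int.castRingHom R) iotaM (E6Data.tab.wrow s.val) k).symm

theorem vM_expand_iota : ∀ L : List (Fin chevF4.rank),
    E6Data.tab.vM (expand L) * iotaM = iotaM * F4Data.tab.vM L := by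
  intro L
  induction L with
  | nil => simp [expand, vM]
  | cons j L ih =>
    rw [show expand (j :: L) = orb6 j ++ expand L from rfl, Tab.vM_append, Matrix.mul_assoc, ih,
      ← Matrix.mul_assoc, gen_iota, Matrix.mul_assoc]
    rfl

theorem orb6_sq : ∀ j : Fin chevF4.rank,
    E6Data.tab.vM (orb6 j) * E6Data.tab.vM (orb6 j) = 1 := by decide +kernel

theorem vM_expand_reverse (L : List (Fin chevF4.rank)) :
    E6Data.tab.vM (expand L.reverse) * E6Data.tab.vM (expand L) = 1 := by
  induction L with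
  | nil => simp [expand, vM]
  | cons j L ih =>
    rw [List.reverse_cons, show expand (L.reverse ++ [j]) = expand L.reverse ++ orb6 j from by
      simp [expand, List.flatMap_append], show expand (j :: L) = orb6 j ++ expand L from rfl,
      Tab.vM_append, Tab.vM_append, Matrix.mul_assoc, ← Matrix.mul_assoc (E6Data.tab.vM (orb6 j)),
      orb6_sq, Matrix.one_mul, ih]

/-- The possible pairs of the action on the short root lattice modulo `2` and on the complement. -/
def states : List (Matrix (Fin 2) (Fin 2) (ZMod 2) × Matrix (Fin 2) (Fin 2) ℤ) :=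
  [(!![1, 0; 0, 1], !![1, 0; 0, 1]), (!![1, 1; 0, 1], !![1, 0; 1, -1]),
    (!![1, 0; 1, 1], !![-1, 1; 0, 1]), (!![0, 1; 1, 1], !![-1, 1; -1, 0]),
    (!![1, 1; 1, 0], !![0, -1; 1, -1]), (!![0, 1; 1, 0], !![0, -1; -1, 0])]

/-- The block decomposition of the rank. -/
def split4 : Fin 2 ⊕ Fin 2 ≃ Fin chevF4.rank := finSumFinEquiv

/-- A reflection modulo `2`. -/
def s2 (j : Fin chevF4.rank) : Matrix (Fin 2 ⊕ Fin 2) (Fin 2 ⊕ Fin 2) (ZMod 2) :=
  ((F4Data.tab.sM j).map (Int.castRingHom (ZMod 2))).submatrix split4 split4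

theorem s2_tri : ∀ j : Fin chevF4.rank, (s2 j).toBlocks₂₁ = 0 := by decide +kernel

theorem states_closed : ∀ j : Fin chevF4.rank, ∀ p ∈ states,
    ((s2 j).toBlocks₁₁ * p.1, bGen j * p.2) ∈ states := by decide +kernel

theorem states_spec : ∀ p ∈ states, (1 - p.1).det ≠ 0 → p.2.trace = -1 ∧ p.2.det = 1 := by
  decide +kernel

theorem vM_expand_block : ∀ L : List (Fin chevF4.rank), ∃ (a b d : Matrix (Fin 2) (Fin 2) (ZMod 2))
    (B : Matrix (Fin 2) (Fin 2) ℤ), (a, B) ∈ states ∧
      ((F4Data.tab.vM L).map (Int.castRingHom (ZMod 2))).submatrix split4 split4 =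
        Matrix.fromBlocks a b 0 d ∧
      E6Data.tab.vM (expand L) * kapM = kapM * B := by
  intro L
  induction L with
  | nil =>
    refine ⟨!![1, 0; 0, 1], 0, !![1, 0; 0, 1], !![1, 0; 0, 1], by simp [states], ?_, ?_⟩
    · simp [vM, ← Matrix.one_fin_two, Matrix.fromBlocks_one]
    · simp [expand, vM, ← Matrix.one_fin_two]
  | cons j L ih =>
    obtain ⟨a, b, d, B, hst, hmod, hkap⟩ := ih
    refine ⟨(s2 j).toBlocks₁₁ * a, (s2 j).toBlocks₁₁ * b + (s2 j).toBlocks₁₂ * d,
      (s2 j).toBlocks₂₂ * d, bGen j * B, states_closed j _ hst, ?_, ?_⟩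
    · rw [show F4Data.tab.vM (j :: L) = F4Data.tab.sM j * F4Data.tab.vM L from rfl, Matrix.map_mul,
        ← submatrix_mul_equiv _ _ _ split4 _, hmod]
      conv_lhs => rw [show ((F4Data.tab.sM j).map (Int.castRingHom (ZMod 2))).submatrix split4 split4 =
        s2 j from rfl, ← Matrix.fromBlocks_toBlocks (s2 j), s2_tri, Matrix.fromBlocks_multiply]
      simp
    · rw [show expand (j :: L) = orb6 j ++ expand L from rfl, Tab.vM_append, Matrix.mul_assoc, hkap,
        ← Matrix.mul_assoc, gen_kap, Matrix.mul_assoc]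

/-- The characteristic polynomial in `E₆` of an element of `F₄` with polynomial `Φ₁₂`. -/
theorem charpoly_expand {L : List (Fin chevF4.rank)}
    (hL : (F4Data.tab.vM L).charpoly = cyclotomic 12 ℤ) (h12 : (cyclotomic 12 ℤ).eval 1 = 1) :
    (E6Data.tab.vM (expand L)).charpoly = cyclotomic 12 ℤ * cyclotomic 3 ℤ := by
  obtain ⟨a, b, d, B, hst, hmod, hkap⟩ := vM_expand_block L
  -- the action on the complement
  have hB : B.charpoly = cyclotomic 3 ℤ := by
    have h1 : ((F4Data.tab.vM L).map (Int.castRingHom (ZMod 2))).charpoly.eval 1 = 1 := by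
      rw [Matrix.charpoly_map, hL, show (1 : ZMod 2) = Int.castRingHom (ZMod 2) 1 by simp,
        eval_map, eval₂_at_apply, h12]
    rw [← Matrix.charpoly_reindex split4.symm, Matrix.reindex_apply, Equiv.symm_symm, hmod,
      Matrix.charpoly_fromBlocks_zero₂₁, eval_mul] at h1
    have ha : (1 - a).det ≠ 0 := fun h => by
      rw [show a.charpoly.eval 1 = 0 by rw [Matrix.eval_charpoly, map_one]; exact h,
        zero_mul] at h1
      exact zero_ne_one h1
    obtain ⟨htr, hdet⟩ := states_spec _ hst ha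
    simp only at htr hdet
    rw [Matrix.charpoly_fin_two, htr, hdet, cyclotomic_three]
    simp
  let e : Fin chevF4.rank ⊕ Fin 2 ≃ Fin chevE6.rank := finSumFinEquiv
  set P : Matrix (Fin chevF4.rank ⊕ Fin 2) (Fin chevF4.rank ⊕ Fin 2) ℤ :=
    (Matrix.fromCols iotaM kapM).submatrix e id with hP
  have hdet : P.det ≠ 0 := by
    intro h0
    have h2 : (basisInv.submatrix id e) * P =
        Matrix.diagonal fun _ => (2 : ℤ) := by
      rw [hP, Matrix.submatrix_mul_equiv, basis_inv, Matrix.submatrix_id_id]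
    have := congrArg Matrix.det h2
    rw [det_mul, h0, mul_zero, det_diagonal] at this
    simp at this
    exact pow_ne_zero _ (two_ne_zero (α := ℤ)) this.symm
  rw [← Matrix.charpoly_reindex e.symm, Matrix.reindex_apply, Equiv.symm_symm]
  rw [charpoly_eq_of_intertwine (B := Matrix.fromBlocks (F4Data.tab.vM L) 0 0 B) ?_ hdet,
    Matrix.charpoly_fromBlocks_zero₂₁, hL, hB]
  rw [hP, Matrix.submatrix_mul_equiv, Matrix.mul_fromCols, vM_expand_iota, hkap]
  rw [show (Matrix.fromCols iotaM kapM).submatrix e id *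
      Matrix.fromBlocks (F4Data.tab.vM L) 0 0 B =
      (Matrix.fromCols iotaM kapM * Matrix.fromBlocks (F4Data.tab.vM L) 0 0 B).submatrix e id from
    rfl, Matrix.fromCols_mul_fromBlocks]
  simp

theorem foldX_mem {F : Type*} [Field F] (r : ℕ) (t : F) :
    good_E6.foldX foldF4 r t ∈ chevE6.group F := list_prod_mem fun x hx => by
  obtain ⟨a, -, rfl⟩ := List.mem_map.mp hx
  exact good_E6.x_mem_group _ _

universe u v

variable {K : Type u} [Field K] [Finite K]

/-- The folding carries the torus to the torus and commutes with maps of fields. -/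
theorem exists_fold_torus :
    ∃ ψ : chevF4.group K →* GL chevE6.Idx K, (∀ g, ψ g ∈ chevE6.group K) ∧
      (∀ (c : Fin chevF4.rank → Kˣ) (g : chevF4.group K),
        (g : GL chevF4.Idx K) = F4Data.tab.hT K c → ψ g = E6Data.tab.hT K (c ∘ orbOf)) ∧
      ∀ (F : Type v) [Field F] (f : F →+* K) (x : chevF4.group F) (g : chevF4.group K),
        (g : GL chevF4.Idx K) = glMap chevF4 f x →
          ∃ y ∈ chevE6.group F, glMap chevE6 f y = ψ g := by
  classical
  obtain ⟨C⟩ := exists_ctx (F := K)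
  obtain ⟨ψ, hψ⟩ := good_E6.exists_fold good_F4 chkFoldF4 ⟨_, wits_F4⟩ uni_F4 (F := K)
  have hp : ∀ (j : Fin chevF4.rank) (v : K),
      ψ ⟨good_F4.full.x (chevF4.simple j) v, good_F4.x_mem_group _ _⟩ =
        good_E6.PX (good_E6.oJ E6Tw.orbs (orbIdx j)) fun _ => v := fun j v =>
    (hψ _ _ v (good_F4.full.simple_lt j.isLt) rfl).trans (foldX_simple j v).1
  have hm : ∀ (j : Fin chevF4.rank) (v : K),
      ψ ⟨good_F4.full.x (negR chevF4 (chevF4.simple j)) v, good_F4.x_mem_group _ _⟩ =
        good_E6.PN (good_E6.oJ E6Tw.orbs (orbIdx j)) fun _ => v := fun j v =>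
    (hψ _ _ v (Cert.negR_lt (good_F4.full.simple_lt j.isLt)) rfl).trans (foldX_simple j v).2
  have hnr : ∀ (j : Fin chevF4.rank) (v : K),
      ψ ⟨good_F4.full.nr (chevF4.simple j) v, good_F4.nr_mem_group _ _⟩ =
        ((good_E6.oJ E6Tw.orbs (orbIdx j)).map fun i : Fin chevE6.rank =>
          good_E6.full.nr (chevE6.simple i) v).prod := by
    intro j v
    rw [show (⟨good_F4.full.nr (chevF4.simple j) v, good_F4.nr_mem_group _ _⟩ : chevF4.group K) =
      ⟨good_F4.full.x (chevF4.simple j) v, good_F4.x_mem_group _ _⟩ *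
      ⟨good_F4.full.x (negR chevF4 (chevF4.simple j)) (-v⁻¹), good_F4.x_mem_group _ _⟩ *
      ⟨good_F4.full.x (chevF4.simple j) v, good_F4.x_mem_group _ _⟩ from Subtype.ext rfl,
      map_mul, map_mul, hp, hm, ← C.A.nr_prod]
  have hgen : ∀ {F : Type v} [Field F] (f : F →+* K),
      chevF4.group F ≤ ((((chevE6.group F).map (glMap chevE6 f)).comap ψ).map
        (chevF4.group K).subtype).comap (glMap chevF4 f) := fun {F} _ f =>
    good_F4.group_le_iff.mpr fun r hr t => ⟨⟨_, good_F4.x_mem_group r (f t)⟩,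
      ⟨_, foldX_mem r t, by
        rw [hψ _ r (f t) hr rfl, Good.foldX, Good.foldX, map_list_prod, List.map_map]
        refine congrArg List.prod (List.map_congr_left fun a _ => ?_)
        simp [good_E6.glMap_x]⟩, (good_F4.glMap_x f r t).symm⟩
  refine ⟨ψ, fun g => ?_, fun c g hg => ?_, fun F _ f x g hg => ?_⟩
  · have hle : chevF4.group K ≤ ((chevE6.group K).comap ψ).map (chevF4.group K).subtype :=
      good_F4.group_le_iff.mpr fun r hr t => ⟨⟨_, good_F4.x_mem_group r t⟩,
        show ψ ⟨_, good_F4.x_mem_group r t⟩ ∈ chevE6.group K by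
          rw [hψ _ r t hr rfl]; exact foldX_mem r t, rfl⟩
    obtain ⟨a, ha, e⟩ := hle g.2
    obtain rfl : a = g := Subtype.ext e
    exact ha
  · have hm' : ∀ c : Fin chevF4.rank → Kˣ, F4Data.tab.hT K c ∈ chevF4.group K := fun c =>
      good_F4.diagonal_le_group (by rw [good_F4.full.diagonal_eq_range]; exact ⟨c, rfl⟩)
    obtain rfl : g = ⟨_, hm' c⟩ := Subtype.ext hg
    clear hg
    induction c using good_F4.full.hT_induction with
    | h1 =>
      rw [show (⟨_, hm' 1⟩ : chevF4.group K) = 1 from Subtype.ext (map_one _), map_one,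
        show (1 : Fin chevF4.rank → Kˣ) ∘ orbOf = 1 from rfl, map_one]
    | hm a b ha hb =>
      rw [show (⟨_, hm' (a * b)⟩ : chevF4.group K) = ⟨_, hm' a⟩ * ⟨_, hm' b⟩ from
        Subtype.ext (map_mul _ _ _), map_mul, ha, hb,
        show (a * b) ∘ orbOf = (a ∘ orbOf) * (b ∘ orbOf) from rfl, map_mul]
    | hs j u =>
      rw [show (⟨_, hm' (Pi.mulSingle j u)⟩ : chevF4.group K) =
        ⟨_, good_F4.nr_mem_group (chevF4.simple j) (u : K)⟩ *
        ⟨_, good_F4.nr_mem_group (chevF4.simple j) (-1 : K)⟩ from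
          Subtype.ext (good_F4.full.hT_single u),
        map_mul, hnr, hnr,
        ← C.A.prod_mul _ (fun k => good_E6.nr_mem_K1 k _) (fun k => good_E6.nr_mem_K1 k _),
        show good_E6.oJ E6Tw.orbs (orbIdx j) = (good_E6.oJ E6Tw.orbs (orbIdx j)).map id by simp,
        List.map_map]
      have key : ∀ (j : Fin chevF4.rank) (k : Fin chevE6.rank),
          (good_E6.oJ E6Tw.orbs (orbIdx j)).count k = if orbOf k = j then 1 else 0 := by
        decide +kernel
      rw [show ((good_E6.oJ E6Tw.orbs (orbIdx j)).map ((fun i : Fin chevE6.rank =>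
            good_E6.full.nr (chevE6.simple i) (u : K) * good_E6.full.nr (chevE6.simple i) (-1)) ∘ id)) =
        ((good_E6.oJ E6Tw.orbs (orbIdx j)).map fun i => Pi.mulSingle i u).map (E6Data.tab.hT K) by
          rw [List.map_map]
          exact List.map_congr_left fun i _ => (good_E6.full.hT_single u).symm,
        ← map_list_prod]
      refine congrArg _ (funext fun k => ?_)
      rw [Pi.list_prod_apply, List.map_map]
      rw [show ((good_E6.oJ E6Tw.orbs (orbIdx j)).map
          ((fun f : Fin chevE6.rank → Kˣ => f k) ∘ fun i => Pi.mulSingle i u)) =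
        (good_E6.oJ E6Tw.orbs (orbIdx j)).map fun i => if i = k then u else 1 from
          List.map_congr_left fun i _ => by simp [Pi.mulSingle_apply, eq_comm],
        List.prod_map_eq_pow_single k _ fun i hi _ => by simp [hi], key j k, if_pos rfl,
        Function.comp_apply, Pi.mulSingle_apply]
      split_ifs <;> simp
  · obtain ⟨a, ⟨y, hy, hya⟩, e⟩ := hgen f x.2
    obtain rfl : a = g := Subtype.ext (e.trans hg.symm)
    exact ⟨y, hy, hya⟩

end E6Fold

end CfsgLib.Chev
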