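import Cfsg.Agent.Chev.ToralChev
import Cfsg.Agent.Chev.GoodAll
import Cfsg.Agent.Chev.OrdG2
import Cfsg.Agent.S1059

/-!
Alternating sections of `G₂(q)`: five-subgroups have automizers of exponent six, and the two-part
is within two bits of that of a two-generated torus.
-/

set_option autoImplicit false
set_option linter.style.haveILetI false

namespace CfsgLib.Chev.G2Sections

open Cfsg.Lie Tab

/-- The rank is not zero. -/
local instance neZeroRankG2 : NeZero chevG2.rank := ⟨by decide⟩

/-- Words for the elements of the Weyl group. -/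
def words : List (List (Fin chevG2.rank)) :=
  [[], [0], [1], [0, 1], [1, 0], [0, 1, 0], [1, 0, 1], [0, 1, 0, 1], [1, 0, 1, 0], [0, 1, 0, 1, 0],
    [1, 0, 1, 0, 1], [0, 1, 0, 1, 0, 1]]

theorem words_closed : ∀ i : Fin chevG2.rank, ∀ w ∈ words, ∃ w' ∈ words, ∀ s : Fin chevG2.nroots,
    G2Data.tab.wordT ((i :: w).map Fin.val) s.val = G2Data.tab.wordT (w'.map Fin.val) s.val := by
  decide +kernel

theorem words_exp : ∀ w ∈ words, ∀ s : Fin chevG2.nroots,
    G2Data.tab.wordT ((w ++ w ++ w ++ w ++ w ++ w).map Fin.val) s.val = s.val := by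
  decide +kernel

theorem pw_six (L : List (Fin chevG2.rank)) : good_G2.full.pw L ^ 6 = 1 := by
  have hex : ∃ w ∈ words, good_G2.full.pw L = good_G2.full.pw w := by
    induction L with
    | nil => exact ⟨[], List.mem_cons_self .., rfl⟩
    | cons i L ih =>
      obtain ⟨w, hw, e⟩ := ih
      obtain ⟨w', hw', e'⟩ := words_closed i w hw
      refine ⟨w', hw', Equiv.ext fun s => Fin.ext ?_⟩
      rw [good_G2.pw_cons, e, ← good_G2.pw_cons, good_G2.pw_apply, good_G2.pw_apply, e' s]
  obtain ⟨w, hw, e⟩ := hex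
  refine Equiv.ext fun s => Fin.ext ?_
  have h := words_exp w hw s
  rw [← good_G2.pw_apply, good_G2.pw_append, good_G2.pw_append, good_G2.pw_append,
    good_G2.pw_append, good_G2.pw_append] at h
  rw [e]
  simpa [pow_succ] using h

variable {F : Type*} [Field F] [Fintype F]

theorem card_diag : Nat.card (chevG2.diagonalSubgroup F) = (Fintype.card F - 1) ^ 2 := by
  have h := good_G2.card_diagonal (F := F) G2Data.smith_ok
  simpa [G2Data.smith, show chevG2.rank = 2 from rfl] using h

theorem card_split : ∃ R : ℕ, Nat.card (chevG2.group F) = R * Nat.card (chevG2.diagonalSubgroup F) ∧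
    R = Fintype.card F ^ 6 * ((Fintype.card F + 1) *
      (Fintype.card F ^ 5 + Fintype.card F ^ 4 + Fintype.card F ^ 3 + Fintype.card F ^ 2 +
        Fintype.card F + 1)) := by
  refine ⟨_, ?_, rfl⟩
  rw [Cfsg.Agent.S1059.result rfl, card_diag]
  obtain ⟨r, hr⟩ : ∃ r, Fintype.card F = r + 1 :=
    ⟨Fintype.card F - 1, by have := Fintype.card_pos (α := F); omega⟩
  rw [hr]
  zify [Nat.one_le_pow 2 (r + 1) (by omega), Nat.one_le_pow 6 (r + 1) (by omega)]
  push_cast
  ring

theorem diag_ne_zero : Nat.card (chevG2.diagonalSubgroup F) ≠ 0 := by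
  rw [card_diag]
  exact pow_ne_zero 2 (by have := Fintype.one_lt_card (α := F); omega)

theorem five_sub : ∀ x : ZMod 5, x = 1 →
    x ^ 6 * ((x + 1) * (x ^ 5 + x ^ 4 + x ^ 3 + x ^ 2 + x + 1)) ≠ 0 := by decide

theorem eight_sub : ∀ x : ZMod 8, x = 1 ∨ x = 5 →
    x ^ 6 * ((x + 1) * (x ^ 5 + x ^ 4 + x ^ 3 + x ^ 2 + x + 1)) ≠ 0 := by decide

theorem odd_five_pow : ∀ n : ℕ, ((5 : ZMod 8) ^ n = 1 ∨ (5 : ZMod 8) ^ n = 5) := by
  intro n
  induction n with
  | zero => exact Or.inl (pow_zero _)
  | succ n ih => rcases ih with h | h <;> rw [pow_succ, h] <;> decide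

theorem five_gen : ((2 : ℕ) : ZMod 5) ^ 6 ≠ 1 := by decide

theorem alt_section {p r : ℕ} [Fact p.Prime] [CharP F p] {H : Subgroup (chevG2.group F)}
    {π : H →* alternatingGroup (Fin r)} (hπ : Function.Surjective π) :
    r ≤ 6 + (if p = 5 then 1 else 0) := by
  classical
  by_cases hp : p = 5
  · subst hp
    rw [if_pos rfl]
    obtain ⟨R, hR, hRe⟩ := card_split (F := F)
    refine Nat.lt_succ_iff.mp (CfsgLib.ToralSection.alt_lt_eight (good_G2.torusIn F)
      (fun x hx y hy => Subtype.ext (good_G2.diag_commute (Subgroup.mem_subgroupOf.mp hx)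
        (Subgroup.mem_subgroupOf.mp hy)).eq) (fun B hB => ?_) ?_ H π hπ)
    · let f : (Fin chevG2.rank → Fˣ) →* Fˣ := Pi.evalMonoidHom _ (0 : Fin 2)
      have hker : ∀ c : f.ker, (c : Fin chevG2.rank → Fˣ) (0 : Fin 2) = 1 := fun c => c.2
      haveI : IsCyclic f.ker := isCyclic_of_injective
        ((Pi.evalMonoidHom (fun _ : Fin chevG2.rank => Fˣ) (1 : Fin 2)).comp f.ker.subtype)
        fun a b h => Subtype.ext (funext fun i : Fin 2 => by
          fin_cases i
          · exact (hker a).trans (hker b).symm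
          · exact h)
      let θ : (Fin chevG2.rank → Fˣ) →* chevG2.group F :=
        (G2Data.tab.hT F).codRestrict _ fun c => good_G2.diagonal_le_group (by
          rw [good_G2.full.diagonal_eq_range]; exact ⟨c, rfl⟩)
      obtain ⟨u, v, huv⟩ := CfsgLib.ToralSection.two_generated f (B.comap θ)
      refine ⟨θ u, θ v, ?_⟩
      have hBr : B ≤ θ.range := fun b hb => by
        have h := Subgroup.mem_subgroupOf.mp (hB hb)
        rw [good_G2.full.diagonal_eq_range] at h
        obtain ⟨c, hc⟩ := h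
        exact ⟨c, Subtype.ext hc⟩
      rw [← Subgroup.map_comap_eq_self hBr, huv, MonoidHom.map_closure, Set.image_pair]
    · obtain ⟨a, -, ha⟩ := FiniteField.card F 5
      have h8 : ¬ 8 ∣ R := fun hd => by
        have e := (CharP.cast_eq_zero_iff (ZMod 8) 8 R).mpr hd
        rw [hRe, ha] at e
        push_cast at e
        exact eight_sub _ (odd_five_pow _) e
      rw [good_G2.card_torusIn, hR]
      have hR0 : R ≠ 0 := fun h => h8 (by rw [h]; exact dvd_zero 8)
      rw [Nat.factorization_mul hR0 diag_ne_zero, Finsupp.add_apply, add_comm]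
      refine Nat.add_le_add_left ?_ _
      by_contra hc
      exact h8 (show 2 ^ 3 ∣ R from
        (Nat.prime_two.pow_dvd_iff_le_factorization hR0).mpr (by omega))
  · rw [if_neg hp, add_zero]
    haveI := Fact.mk (show Nat.Prime 5 by norm_num)
    obtain ⟨K, hKf, hKt, f, hK⟩ := Tab.Good.exists_field_ext (F := F) 4
    obtain ⟨H', π', hπ'⟩ := good_G2.exists_section_ext f hπ
    obtain ⟨R, hR, hRe⟩ := card_split (F := K)
    have hR5 : ¬ 5 ∣ R := fun hd => by
      have e := (CharP.cast_eq_zero_iff (ZMod 5) 5 R).mpr hd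
      rw [hRe] at e
      push_cast at e
      refine five_sub _ ?_ e
      rw [hK]
      exact pow_cast_one (ℓ := 5) (not_dvd_card (by norm_num) hp)
    have hbound := good_G2.autBound (F := K) (ℓ := 5) (e := 6)
      (le_of_eq (by rw [hR, factorization_mul_of_not_dvd hR5 diag_ne_zero])) pw_six
    have hlt := CfsgLib.ToralSection.alt_lt_of_autBound hbound (n := 7) (k := 2)
      (Equiv.swap 0 1 * Equiv.swap 1 2 * Equiv.swap 2 3 * Equiv.swap 3 4)
      (Equiv.swap 1 2 * Equiv.swap 2 4 * Equiv.swap 4 3 * Equiv.swap 5 6)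
      (by decide +kernel) (by decide +kernel)
      (orderOf_eq_prime (by decide +kernel) (by decide +kernel)) (by decide +kernel)
      five_gen H' π' hπ'
    omega

end CfsgLib.Chev.G2Sections
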