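import Cfsg.Agent.Chev.RootAuto
import Cfsg.Agent.Chev.Card

/-!
Twisted groups: the fixed Weyl group and the Bruhat decomposition (Steinberg, Carter 13.5).
-/

set_option autoImplicit false

namespace CfsgLib.Chev

open Cfsg.Lie Matrix
open scoped MatrixGroups

namespace Tab

variable {D : ChevalleyDatum}

theorem Closed.inter {T : Tab D} {S S' : Set ℕ} (h : T.Closed S) (h' : T.Closed S') :
    T.Closed (S ∩ S') :=
  ⟨fun r hr => h.1 r hr.1, fun r hr s hs c hc =>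
    ⟨h.2 r hr.1 s hs.1 c hc, h'.2 r hr.2 s hs.2 c hc⟩⟩

/-- Data of a twisted group inside the fixed points of a graph automorphism. -/
structure Good.Twisted {T : Tab D} {G : T.Good} {F : Type*} [Field F] (Φ : G.Graph F) where
  /-- the number of orbits of fundamental roots -/
  nJ : ℕ
  /-- the orbits -/
  orb : Fin nJ → List (Fin D.rank)
  /-- words for the longest elements of the orbits -/
  word : Fin nJ → List (Fin D.rank)
  cover : ∀ i, ∃ J, i ∈ orb J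
  orb_trans : ∀ J, ∀ a ∈ orb J, ∀ b ∈ orb J, ∃ k : ℕ, (Φ.ρ ^ k) a = b
  orb_ne : ∀ J, orb J ≠ []
  orb_disj : ∀ J J' i, i ∈ orb J → i ∈ orb J' → J = J'
  flip : ∀ (J : Fin nJ) (s : Fin D.nroots), IsPos D s.val →
    (¬ IsPos D (G.full.pw (word J) s).val ↔ ∀ i, i ∉ orb J → T.cor s.val i.val = 0)
  comm : ∀ (J : Fin nJ) (s : Fin D.nroots),
    G.full.pw (word J) (Φ.π s) = Φ.π (G.full.pw (word J) s)
  invol : ∀ J, G.full.pw (word J) * G.full.pw (word J) = 1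
  /-- the group -/
  G1 : Subgroup (GL D.Idx F)
  le_fix : G1 ≤ Φ.Fix
  /-- the torus -/
  H0 : Subgroup (GL D.Idx F)
  H0_le : H0 ≤ G1
  H0_diag : H0 ≤ D.diagonalSubgroup F
  /-- representatives of the generators of the Weyl group -/
  n : Fin nJ → GL D.Idx F
  n_mem : ∀ J, n J ∈ G1
  n_mono : ∀ J, n J ∈ D.monomialSubgroup F
  n_act : ∀ J, G.full.RootAct (n J) (G.full.pw (word J))
  X_le : ∀ J, Φ.Fix ⊓ G.US F (flipSet (G.full.pw (word J))) ≤ G1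
  gen : G1 ≤ Subgroup.closure
    ((⋃ J, ((Φ.Fix ⊓ G.US F (flipSet (G.full.pw (word J))) : Subgroup (GL D.Idx F)) :
      Set (GL D.Idx F))) ∪ Set.range n)
  n_sq : ∀ J, n J * n J ∈ H0
  n_conj : ∀ J, ∀ h ∈ H0, n J * h * (n J)⁻¹ ∈ H0
  torus_word : ∀ L : List (Fin nJ), G.full.pw (L.flatMap word) = 1 → (L.map n).prod ∈ H0
  rank_one : ∀ J, ∀ u ∈ Φ.Fix ⊓ G.US F (flipSet (G.full.pw (word J))), u ≠ 1 →
    ∃ a ∈ Φ.Fix ⊓ D.posUnipotent F, ∃ h ∈ H0,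
      ∃ b ∈ Φ.Fix ⊓ G.US F (flipSet (G.full.pw (word J))), n J * u * (n J)⁻¹ = a * h * n J * b

namespace Good

variable {T : Tab D} (G : T.Good) {F : Type*} [Field F]
include G

theorem eq_one_of_pw_pos {L : List (Fin D.rank)}
    (h : ∀ s, IsPos D s.val → IsPos D (G.full.pw L s).val) : G.full.pw L = 1 := by
  obtain ⟨c, hc⟩ := G.nw_mem_torus (F := ℚ) _ L rfl h
  exact G.rootAct_unique (G.rootAct_nw L) (hc ▸ G.rootAct_hT c)

theorem rootAct_inv {g : GL D.Idx F} (hg : g ∈ D.monomialSubgroup F)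
    {σ : Equiv.Perm (Fin D.nroots)} (h : G.full.RootAct g σ) : G.full.RootAct g⁻¹ σ⁻¹ := by
  obtain ⟨L, hL⟩ := G.exists_rootAct (inv_mem hg)
  have h1 := G.rootAct_mul hL h
  rw [inv_mul_cancel] at h1
  have e := G.rootAct_unique h1 G.rootAct_one
  rwa [mul_eq_one_iff_eq_inv.mp e] at hL

theorem flip_of_all_neg {L : List (Fin D.rank)}
    (h : ∀ s, IsPos D s.val → ¬ IsPos D (G.full.pw L s).val) :
    flipSet (G.full.pw L) = {s | IsPos D s} := by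
  ext s
  exact ⟨fun ⟨_, h1, _⟩ => h1, fun h1 => ⟨h1.1, h1, h ⟨s, h1.1⟩ h1⟩⟩

theorem pos_inf_neg {g : GL D.Idx F} (h1 : g ∈ D.posUnipotent F) (h2 : g ∈ D.negUnipotent F) :
    g = 1 := by
  have : g ∈ D.borelSubgroup F ⊓ D.negUnipotent F := ⟨Subgroup.mem_sup_left h1, h2⟩
  rwa [G.borel_inf_neg, Subgroup.mem_bot] at this

theorem split_unique {n : GL D.Idx F} {σ : Equiv.Perm (Fin D.nroots)} (h : G.full.RootAct n σ)
    {a a' b b' : GL D.Idx F} (ha : a ∈ G.US F (keepSet σ)) (ha' : a' ∈ G.US F (keepSet σ))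
    (hb : b ∈ G.US F (flipSet σ)) (hb' : b' ∈ G.US F (flipSet σ)) (e : a * b = a' * b') :
    a = a' ∧ b = b' := by
  have e' : a'⁻¹ * a = b' * b⁻¹ := by
    rw [inv_mul_eq_iff_eq_mul, ← mul_assoc, ← e, mul_inv_cancel_right]
  have h1 : n * (a'⁻¹ * a) * n⁻¹ ∈ D.posUnipotent F := by
    rw [G.posUnipotent_eq]
    exact G.conj_x_act h (fun s hs => by obtain ⟨hlt, -, h2⟩ := hs; exact ⟨hlt, h2⟩)
      (mul_mem (inv_mem ha') ha)
  have h2 : n * (a'⁻¹ * a) * n⁻¹ ∈ D.negUnipotent F := by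
    rw [e']
    exact G.conj_flip_mem_neg h (mul_mem hb' (inv_mem hb))
  have h3 := G.pos_inf_neg h1 h2
  rw [conj_eq_one_iff, inv_mul_eq_one] at h3
  subst h3
  exact ⟨rfl, mul_left_cancel e⟩

end Good

namespace Good.Twisted

variable {T : Tab D} {G : T.Good} {F : Type*} [Field F] {Φ : G.Graph F} (Z : Twisted Φ)
include Z

/-- The longest element of an orbit. -/
def w (J : Fin Z.nJ) : Equiv.Perm (Fin D.nroots) := G.full.pw (Z.word J)

/-- An element of the fixed Weyl group. -/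
def pwT (L : List (Fin Z.nJ)) : Equiv.Perm (Fin D.nroots) := G.full.pw (L.flatMap Z.word)

/-- Its representative. -/
def nT (L : List (Fin Z.nJ)) : GL D.Idx F := (L.map Z.n).prod

theorem pwT_nil : Z.pwT [] = 1 := by simp [pwT, Full.pw]

theorem pwT_append (L L' : List (Fin Z.nJ)) : Z.pwT (L ++ L') = Z.pwT L * Z.pwT L' := by
  simp [pwT, List.flatMap_append, G.pw_append]

theorem pwT_single (J : Fin Z.nJ) : Z.pwT [J] = Z.w J := by simp [pwT, w]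

theorem pwT_cons (J : Fin Z.nJ) (L : List (Fin Z.nJ)) : Z.pwT (J :: L) = Z.w J * Z.pwT L := by
  rw [← List.singleton_append, Z.pwT_append, Z.pwT_single]

theorem nT_cons (J : Fin Z.nJ) (L : List (Fin Z.nJ)) : Z.nT (J :: L) = Z.n J * Z.nT L := by
  simp [nT]

theorem nT_append (L L' : List (Fin Z.nJ)) : Z.nT (L ++ L') = Z.nT L * Z.nT L' := by
  simp [nT]

theorem pwT_comm (L : List (Fin Z.nJ)) (s : Fin D.nroots) :
    Z.pwT L (Φ.π s) = Φ.π (Z.pwT L s) := by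
  induction L with
  | nil => simp [Z.pwT_nil]
  | cons J L ih =>
    rw [Z.pwT_cons, Equiv.Perm.mul_apply, Equiv.Perm.mul_apply, ih]
    exact Z.comm J _

theorem w_sq (J : Fin Z.nJ) (s : Fin D.nroots) : Z.w J (Z.w J s) = s :=
  congrArg (fun σ : Equiv.Perm _ => σ s) (Z.invol J)

theorem mem_flip_w {J : Fin Z.nJ} {s : Fin D.nroots} :
    s.val ∈ flipSet (Z.w J) ↔ IsPos D s.val ∧ ∀ i, i ∉ Z.orb J → T.cor s.val i.val = 0 := by
  constructor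
  · rintro ⟨_, h1, h2⟩
    exact ⟨h1, (Z.flip J s h1).mp h2⟩
  · rintro ⟨h1, h2⟩
    exact ⟨s.isLt, h1, (Z.flip J s h1).mpr h2⟩

theorem simp_mem_flip {J : Fin Z.nJ} {i : Fin D.rank} (hi : i ∈ Z.orb J) :
    (G.full.simp' i).val ∈ flipSet (Z.w J) := by
  refine Z.mem_flip_w.mpr ⟨G.pos_simp i, fun l hl => ?_⟩
  rw [G.cor_simple, if_neg]
  rintro rfl
  exact hl hi

theorem neg_w_mem_flip {J : Fin Z.nJ} {s : Fin D.nroots} (hs : s.val ∈ flipSet (Z.w J)) :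
    (negF (Z.w J s)).val ∈ flipSet (Z.w J) := by
  obtain ⟨_, h1, h2⟩ := hs
  refine ⟨Fin.isLt _, G.pos_negF.mpr h2, fun h => ?_⟩
  rw [Fin.eta, w, G.negF_pw] at h
  exact (G.pos_negF.mp h) (by rw [← w, Z.w_sq]; exact h1)

theorem same_sign {σ : Equiv.Perm (Fin D.nroots)} (hσ : ∀ s, σ (Φ.π s) = Φ.π (σ s))
    (J : Fin Z.nJ) :
    (∀ i ∈ Z.orb J, IsPos D (σ (G.full.simp' i)).val) ∨
      ∀ i ∈ Z.orb J, ¬ IsPos D (σ (G.full.simp' i)).val := by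
  have step : ∀ (k : ℕ) (i : Fin D.rank),
      IsPos D (σ (G.full.simp' ((Φ.ρ ^ k) i))).val ↔ IsPos D (σ (G.full.simp' i)).val := by
    intro k
    induction k with
    | zero => exact fun i => Iff.rfl
    | succ k ih =>
      intro i
      rw [pow_succ', Equiv.Perm.mul_apply, ← Φ.simp, hσ, Φ.pos, ih]
  by_contra hc
  simp only [not_or, not_forall, not_not] at hc
  obtain ⟨⟨a, ha, hna⟩, b, hb, hb'⟩ := hc
  obtain ⟨k, hk⟩ := Z.orb_trans J b hb a ha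
  rw [← hk, step] at hna
  exact hna hb'

theorem pos_of_all_pos {L : List (Fin D.rank)} {J : Fin Z.nJ}
    (h : ∀ i ∈ Z.orb J, IsPos D (G.full.pw L (G.full.simp' i)).val) {s : Fin D.nroots}
    (hs : s.val ∈ flipSet (Z.w J)) : IsPos D (G.full.pw L s).val := by
  obtain ⟨h1, h2⟩ := Z.mem_flip_w.mp hs
  refine (G.pos_iff_cor (Fin.isLt _)).mpr fun j => ?_
  rw [G.cor_linear (G.pw_mem_full L)]
  refine Finset.sum_nonneg fun l _ => ?_
  by_cases hl : l ∈ Z.orb J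
  · exact mul_nonneg ((G.pos_iff_cor s.isLt).mp h1 l) ((G.pos_iff_cor (Fin.isLt _)).mp (h l hl) j)
  · rw [h2 l hl, zero_mul]

theorem neg_of_all_neg {L : List (Fin D.rank)} {J : Fin Z.nJ}
    (h : ∀ i ∈ Z.orb J, ¬ IsPos D (G.full.pw L (G.full.simp' i)).val) {s : Fin D.nroots}
    (hs : s.val ∈ flipSet (Z.w J)) : ¬ IsPos D (G.full.pw L s).val := by
  obtain ⟨h1, h2⟩ := Z.mem_flip_w.mp hs
  intro hpos
  obtain ⟨j, hj⟩ := G.exists_cor_ne_zero (F := ℚ) (G.full.pw L s).isLt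
  have hle : T.cor (G.full.pw L s) j ≤ 0 := by
    rw [G.cor_linear (G.pw_mem_full L)]
    refine Finset.sum_nonpos fun l _ => ?_
    by_cases hl : l ∈ Z.orb J
    · exact mul_nonpos_of_nonneg_of_nonpos ((G.pos_iff_cor s.isLt).mp h1 l)
        ((G.cor_sign (Fin.isLt _) j.isLt).2 fun e => h l hl ⟨Fin.isLt _, e⟩)
    · rw [h2 l hl, zero_mul]
  exact hj (by rw [le_antisymm hle ((G.pos_iff_cor (Fin.isLt _)).mp hpos j)]; simp)

theorem invSet_w_nonempty (J : Fin Z.nJ) : (invSet (Z.w J)).Nonempty := by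
  obtain ⟨i, hi⟩ := List.exists_mem_of_ne_nil _ (Z.orb_ne J)
  obtain ⟨_, h1, h2⟩ := Z.simp_mem_flip hi
  exact ⟨G.full.simp' i, mem_inv.mpr ⟨h1, h2⟩⟩

theorem mem_inv_mul {L : List (Fin D.rank)} {J : Fin Z.nJ}
    (h : ∀ i ∈ Z.orb J, IsPos D (G.full.pw L (G.full.simp' i)).val) {s : Fin D.nroots} :
    s ∈ invSet (G.full.pw L * Z.w J) ↔
      s ∈ invSet (Z.w J) ∨ (IsPos D s.val ∧ Z.w J s ∈ invSet (G.full.pw L)) := by
  simp only [mem_inv, Equiv.Perm.mul_apply]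
  constructor
  · rintro ⟨h1, h2⟩
    by_cases h3 : IsPos D (Z.w J s).val
    · exact Or.inr ⟨h1, h3, h2⟩
    · exact Or.inl ⟨h1, h3⟩
  · rintro (⟨h1, h2⟩ | ⟨h1, -, h3⟩)
    · refine ⟨h1, fun h4 => ?_⟩
      have := Z.pos_of_all_pos h (Z.neg_w_mem_flip (J := J) ⟨s.isLt, h1, h2⟩)
      rw [G.negF_pw, G.pos_negF] at this
      exact this h4
    · exact ⟨h1, h3⟩

theorem invSet_mul {L : List (Fin D.rank)} {J : Fin Z.nJ}
    (h : ∀ i ∈ Z.orb J, IsPos D (G.full.pw L (G.full.simp' i)).val) :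
    (invSet (G.full.pw L * Z.w J)).card = (invSet (G.full.pw L)).card + (invSet (Z.w J)).card := by
  classical
  have e : invSet (G.full.pw L * Z.w J) =
      invSet (Z.w J) ∪ (invSet (G.full.pw L)).map (Z.w J).toEmbedding := by
    ext s
    rw [Z.mem_inv_mul h, Finset.mem_union, Finset.mem_map_equiv,
      show (Z.w J).symm s = Z.w J s by rw [Equiv.symm_apply_eq, Z.w_sq]]
    refine or_congr_right ⟨fun h => h.2, fun h2 => ⟨?_, h2⟩⟩
    by_contra hneg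
    obtain ⟨h3, h4⟩ := mem_inv.mp h2
    have hf : (Z.w J s).val ∈ flipSet (Z.w J) :=
      ⟨Fin.isLt _, h3, by rw [Fin.eta, Z.w_sq]; exact hneg⟩
    exact h4 (Z.pos_of_all_pos h hf)
  rw [e, Finset.card_union_of_disjoint, Finset.card_map, add_comm]
  rw [Finset.disjoint_right]
  intro s hs hs'
  rw [Finset.mem_map_equiv,
    show (Z.w J).symm s = Z.w J s by rw [Equiv.symm_apply_eq, Z.w_sq]] at hs
  exact (mem_inv.mp hs').2 (mem_inv.mp hs).1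

/-- Reduced words in the fixed Weyl group. -/
inductive Red : List (Fin Z.nJ) → Prop
  | nil : Red []
  | step (L : List (Fin Z.nJ)) (J : Fin Z.nJ) : Red L →
      (∀ i ∈ Z.orb J, IsPos D (Z.pwT L (G.full.simp' i)).val) → Red (L ++ [J])

theorem exists_red : ∀ (L : List (Fin D.rank)),
    (∀ s, G.full.pw L (Φ.π s) = Φ.π (G.full.pw L s)) → ∃ L', Z.Red L' ∧ Z.pwT L' = G.full.pw L := by
  intro L hL
  induction hn : (invSet (G.full.pw L)).card using Nat.strong_induction_on generalizing L with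
  | _ n ih =>
    subst hn
    rcases (invSet (G.full.pw L)).eq_empty_or_nonempty with hz | ⟨s, hs⟩
    · refine ⟨[], Red.nil, ?_⟩
      rw [Z.pwT_nil, G.eq_one_of_pw_pos fun s hs => ?_]
      by_contra hn'
      have : s ∈ invSet (G.full.pw L) := mem_inv.mpr ⟨hs, hn'⟩
      rw [hz] at this
      exact Finset.notMem_empty _ this
    obtain ⟨l, -, hneg⟩ := G.exists_flip_simple (G.pw_mem_full L) hs
    obtain ⟨J, hJ⟩ := Z.cover l
    have hall : ∀ i ∈ Z.orb J, ¬ IsPos D (G.full.pw L (G.full.simp' i)).val :=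
      (Z.same_sign hL J).resolve_left fun h => hneg (h l hJ)
    set L₁ := L ++ Z.word J with hL₁
    have e₁ : G.full.pw L₁ = G.full.pw L * Z.w J := G.pw_append _ _
    have hcomm : ∀ s, G.full.pw L₁ (Φ.π s) = Φ.π (G.full.pw L₁ s) := fun s => by
      rw [e₁, Equiv.Perm.mul_apply, Equiv.Perm.mul_apply, w, Z.comm, hL]
    have hpos : ∀ i ∈ Z.orb J, IsPos D (G.full.pw L₁ (G.full.simp' i)).val := fun i hi => by
      rw [e₁, Equiv.Perm.mul_apply]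
      by_contra hn'
      have hf := Z.neg_of_all_neg hall (Z.neg_w_mem_flip (Z.simp_mem_flip hi))
      rw [G.negF_pw, G.pos_negF, not_not] at hf
      exact hn' hf
    have e₂ : G.full.pw L₁ * Z.w J = G.full.pw L := by
      rw [e₁, mul_assoc, w, Z.invol, mul_one]
    have hcard := Z.invSet_mul hpos
    rw [e₂] at hcard
    have := (Z.invSet_w_nonempty J).card_pos
    obtain ⟨L', hred, he⟩ := ih _ (by omega) L₁ hcomm rfl
    refine ⟨L' ++ [J], Red.step L' J hred (fun i hi => by rw [he]; exact hpos i hi), ?_⟩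
    rw [Z.pwT_append, Z.pwT_single, he, e₂]

theorem exists_red_eq (L : List (Fin Z.nJ)) : ∃ L', Z.Red L' ∧ Z.pwT L' = Z.pwT L :=
  Z.exists_red _ (Z.pwT_comm L)

theorem exists_longest_red :
    ∃ L, Z.Red L ∧ ∀ s, IsPos D s.val → ¬ IsPos D (Z.pwT L s).val := by
  obtain ⟨L, hL⟩ := G.exists_longest
  -- the conjugate of the longest element is the longest element
  have h1 : G.full.pw (L.map Φ.ρ) = Φ.π * G.full.pw L * Φ.π⁻¹ := by
    refine G.rootAct_unique (G.rootAct_nw (F := F) _) ?_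
    rw [← Φ.A_nw]
    exact Φ.rootAct_A (G.nw_mem_monomial L) (G.rootAct_nw L)
  have hneg : ∀ s, IsPos D s.val → ¬ IsPos D (G.full.pw (L.map Φ.ρ) s).val := by
    intro s hs
    rw [h1, Equiv.Perm.mul_apply, Equiv.Perm.mul_apply, Φ.pos]
    refine hL _ ((Φ.pos _).mp ?_)
    rwa [show Φ.π (Φ.π⁻¹ s) = s from Equiv.apply_symm_apply _ _]
  have hnegn : ∀ s, ¬ IsPos D s.val → IsPos D (G.full.pw L s).val := fun s hs => by
    have := hL (negF s) (G.pos_negF.mpr hs)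
    rwa [G.negF_pw, G.pos_negF, not_not] at this
  have e : G.full.pw (L.map Φ.ρ) = G.full.pw L := by
    -- both square to the identity
    have hsq : G.full.pw (L ++ L.map Φ.ρ) = 1 := G.eq_one_of_pw_pos fun s hs => by
      rw [G.pw_append, Equiv.Perm.mul_apply]
      exact hnegn _ (hneg s hs)
    have hsq' : G.full.pw (L ++ L) = 1 := G.eq_one_of_pw_pos fun s hs => by
      rw [G.pw_append, Equiv.Perm.mul_apply]
      exact hnegn _ (hL s hs)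
    rw [G.pw_append] at hsq hsq'
    exact mul_left_cancel (hsq.trans hsq'.symm)
  obtain ⟨L', hred, he⟩ := Z.exists_red L fun s => by
    conv_lhs => rw [← e, h1]
    simp
  exact ⟨L', hred, fun s hs => by rw [he]; exact hL s hs⟩

/-- The fixed unipotent subgroup of a reduced word. -/
noncomputable def UT (L : List (Fin Z.nJ)) : Subgroup (GL D.Idx F) :=
  Φ.Fix ⊓ G.US F (flipSet (Z.pwT L))

/-- The fixed unipotent subgroup of an orbit. -/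
noncomputable def XJ (J : Fin Z.nJ) : Subgroup (GL D.Idx F) := Φ.Fix ⊓ G.US F (flipSet (Z.w J))

omit Z in
/-- `U¹`. -/
noncomputable def U1 (_Z : Twisted Φ) : Subgroup (GL D.Idx F) := Φ.Fix ⊓ D.posUnipotent F

theorem UT_le_U1 (L : List (Fin Z.nJ)) : Z.UT L ≤ Z.U1 := inf_le_inf le_rfl (G.flip_le_pos _)

theorem XJ_le_U1 (J : Fin Z.nJ) : Z.XJ J ≤ Z.U1 := inf_le_inf le_rfl (G.flip_le_pos _)

theorem n_fix (J : Fin Z.nJ) : Z.n J ∈ Φ.Fix := Z.le_fix (Z.n_mem J)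

theorem nT_mem (L : List (Fin Z.nJ)) : Z.nT L ∈ Z.G1 :=
  list_prod_mem fun x hx => by
    obtain ⟨J, -, rfl⟩ := List.mem_map.mp hx
    exact Z.n_mem J

theorem nT_mono (L : List (Fin Z.nJ)) : Z.nT L ∈ D.monomialSubgroup F :=
  list_prod_mem fun x hx => by
    obtain ⟨J, -, rfl⟩ := List.mem_map.mp hx
    exact Z.n_mono J

theorem nT_act (L : List (Fin Z.nJ)) : G.full.RootAct (Z.nT L) (Z.pwT L) := by
  induction L with
  | nil => simpa [nT, Z.pwT_nil] using G.rootAct_one (F := F)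
  | cons J L ih => rw [Z.nT_cons, Z.pwT_cons]; exact G.rootAct_mul (Z.n_act J) ih

theorem fix_conj {g u : GL D.Idx F} (hg : g ∈ Φ.Fix) (hu : u ∈ Φ.Fix) : g * u * g⁻¹ ∈ Φ.Fix :=
  mul_mem (mul_mem hg hu) (inv_mem hg)

theorem H0_conj_US {S : Set ℕ} (hS : ∀ s ∈ S, s < D.nroots) {h u : GL D.Idx F} (hh : h ∈ Z.H0)
    (hu : u ∈ Φ.Fix ⊓ G.US F S) : h * u * h⁻¹ ∈ Φ.Fix ⊓ G.US F S := by
  refine ⟨Z.fix_conj (Z.le_fix (Z.H0_le hh)) hu.1, ?_⟩
  have hd := Z.H0_diag hh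
  rw [G.full.diagonal_eq_range] at hd
  obtain ⟨c, rfl⟩ := hd
  exact G.hT_conj_US S hS c hu.2

theorem H0_conj_U1 {h u : GL D.Idx F} (hh : h ∈ Z.H0) (hu : u ∈ Z.U1) : h * u * h⁻¹ ∈ Z.U1 := by
  rw [U1, G.posUnipotent_eq] at hu ⊢
  exact Z.H0_conj_US (fun s hs => hs.1) hh hu

/-- A fixed element of `U_σ` splits into fixed parts. -/
theorem split_fix (J : Fin Z.nJ) {S : Set ℕ} (hS : T.Closed S) {u : GL D.Idx F}
    (hu : u ∈ Φ.Fix) (huS : u ∈ G.US F S) (hflip : flipSet (Z.w J) ⊆ S) :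
    ∃ a ∈ Φ.Fix ⊓ G.US F (S ∩ keepSet (Z.w J)), ∃ b ∈ Z.XJ J, u = a * b := by
  have hS2 : S = (S ∩ keepSet (Z.w J)) ∪ flipSet (Z.w J) := by
    ext s
    constructor
    · intro hs
      rcases (pos_eq_keep_union_flip (Z.w J)).subset (hS.1 s hs) with h | h
      exacts [Or.inl ⟨hs, h⟩, Or.inr h]
    · rintro (h | h)
      exacts [h.1, hflip h]
  obtain ⟨a, ha, b, hb, rfl⟩ :=
    G.US_split (hS.inter (G.closed_keep _)) (G.closed_flip _) hS hS2 huS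
  have ha' : a ∈ G.US F (keepSet (Z.w J)) := G.US_mono (fun s hs => hs.2) ha
  have hga : a ∈ D.group F := G.US_le_group _ ha
  have hgb : b ∈ D.group F := G.US_le_group _ hb
  have e := hu.2
  rw [Φ.A_mul hga hgb] at e
  obtain ⟨ea, eb⟩ := G.split_unique (Z.n_act J) (Φ.A_keep (Z.comm J) ha') ha'
    (Φ.A_flip (Z.comm J) hb) hb e
  exact ⟨a, ⟨⟨hga, ea⟩, ha⟩, b, ⟨⟨hgb, eb⟩, hb⟩, rfl⟩

theorem UT_step {L : List (Fin Z.nJ)} {J : Fin Z.nJ}
    (h : ∀ i ∈ Z.orb J, IsPos D (Z.pwT L (G.full.simp' i)).val) :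
    flipSet (Z.w J) ⊆ flipSet (Z.pwT (L ++ [J])) ∧
      ∀ a ∈ Φ.Fix ⊓ G.US F (flipSet (Z.pwT (L ++ [J])) ∩ keepSet (Z.w J)),
        Z.n J * a * (Z.n J)⁻¹ ∈ Z.UT L := by
  have e : ∀ s : Fin D.nroots, Z.pwT (L ++ [J]) s = Z.pwT L (Z.w J s) := fun s => by
    rw [Z.pwT_append, Z.pwT_single, Equiv.Perm.mul_apply]
  refine ⟨fun s hs => ?_, fun a ha => ⟨Z.fix_conj (Z.n_fix J) ha.1, ?_⟩⟩
  · obtain ⟨hlt, h1, h2⟩ := hs
    have := (Z.mem_inv_mul h).mpr (Or.inl (mem_inv.mpr ⟨h1, h2⟩ : (⟨s, hlt⟩ : Fin D.nroots) ∈ _))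
    refine ⟨hlt, h1, ?_⟩
    rw [e]
    exact (mem_inv.mp this).2
  · refine G.conj_x_act (Z.n_act J) (fun s hs => ?_) ha.2
    obtain ⟨⟨hlt, -, h2⟩, hlt', -, h3⟩ := hs
    refine ⟨hlt, Fin.isLt _, h3, ?_⟩
    rw [e] at h2
    exact h2

theorem UT_le {L : List (Fin Z.nJ)} (hL : Z.Red L) : Z.UT L ≤ Z.G1 := by
  induction hL with
  | nil =>
    intro u hu
    have e : flipSet (Z.pwT []) = ∅ := by
      ext s
      rw [Z.pwT_nil]
      exact ⟨fun ⟨_, h1, h2⟩ => h2 h1, False.elim⟩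
    have : u ∈ G.US F (∅ : Set ℕ) := e ▸ hu.2
    rw [show G.US F (∅ : Set ℕ) = ⊥ from
      le_bot_iff.mp ((Subgroup.closure_le _).mpr fun _ ⟨r, hr, _⟩ => hr.elim), Subgroup.mem_bot] at this
    rw [this]
    exact one_mem _
  | step L J _ h ih =>
    intro u hu
    obtain ⟨hsub, hconj⟩ := Z.UT_step h
    obtain ⟨a, ha, b, hb, rfl⟩ := Z.split_fix J (G.closed_flip _) hu.1 hu.2 hsub
    refine mul_mem ?_ (Z.X_le J hb)
    have e : a = (Z.n J)⁻¹ * (Z.n J * a * (Z.n J)⁻¹) * Z.n J := by group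
    rw [e]
    exact mul_mem (mul_mem (inv_mem (Z.n_mem J)) (ih (hconj a ha))) (Z.n_mem J)

theorem UT_longest {L : List (Fin Z.nJ)} (h : ∀ s, IsPos D s.val → ¬ IsPos D (Z.pwT L s).val) :
    Z.UT L = Z.U1 := by
  rw [UT, U1, G.posUnipotent_eq, pwT, G.flip_of_all_neg h]

theorem U1_le : Z.U1 ≤ Z.G1 := by
  obtain ⟨L, hL, hneg⟩ := Z.exists_longest_red
  rw [← Z.UT_longest hneg]
  exact Z.UT_le hL

theorem nT_H0 (L : List (Fin Z.nJ)) {h : GL D.Idx F} (hh : h ∈ Z.H0) :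
    Z.nT L * h * (Z.nT L)⁻¹ ∈ Z.H0 := by
  induction L with
  | nil => simpa [nT] using hh
  | cons J L ih =>
    rw [Z.nT_cons, show Z.n J * Z.nT L * h * (Z.n J * Z.nT L)⁻¹ =
      Z.n J * (Z.nT L * h * (Z.nT L)⁻¹) * (Z.n J)⁻¹ by group]
    exact Z.n_conj J _ ih

theorem n_inv (J : Fin Z.nJ) : ∃ h ∈ Z.H0, (Z.n J)⁻¹ = h * Z.n J :=
  ⟨(Z.n J * Z.n J)⁻¹, inv_mem (Z.n_sq J), by group⟩

theorem nT_inv (L : List (Fin Z.nJ)) : ∃ h ∈ Z.H0, (Z.nT L)⁻¹ = h * Z.nT L.reverse := by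
  induction L with
  | nil => exact ⟨1, one_mem _, by simp [nT]⟩
  | cons J L ih =>
    obtain ⟨h, hh, e⟩ := ih
    obtain ⟨k, hk, e'⟩ := Z.n_inv J
    refine ⟨h * (Z.nT L.reverse * k * (Z.nT L.reverse)⁻¹), mul_mem hh (Z.nT_H0 _ hk), ?_⟩
    rw [Z.nT_cons, _root_.mul_inv_rev, e, e', List.reverse_cons, Z.nT_append, Z.nT_cons J [],
      show Z.nT [] = 1 by simp [nT]]
    group

theorem nT_congr {L L' : List (Fin Z.nJ)} (h : Z.pwT L = Z.pwT L') :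
    ∃ k ∈ Z.H0, Z.nT L = k * Z.nT L' := by
  obtain ⟨k, hk, e⟩ := Z.nT_inv L'
  have hw : Z.pwT (L ++ L'.reverse) = 1 := by
    have h1 := Z.nT_act (L ++ L'.reverse)
    rw [Z.nT_append, show Z.nT L'.reverse = k⁻¹ * (Z.nT L')⁻¹ by rw [e]; group] at h1
    have hd := Z.H0_diag (inv_mem hk)
    rw [G.full.diagonal_eq_range] at hd
    obtain ⟨c, hc⟩ := hd
    have h2 := G.rootAct_mul (Z.nT_act L) (G.rootAct_mul (hc ▸ G.rootAct_hT c :
      G.full.RootAct k⁻¹ 1) (G.rootAct_inv (Z.nT_mono L') (Z.nT_act L')))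
    rw [G.rootAct_unique h1 h2, one_mul, h, mul_inv_cancel]
  have hm : Z.nT (L ++ L'.reverse) ∈ Z.H0 := Z.torus_word _ hw
  refine ⟨Z.nT L * k * (Z.nT L)⁻¹ * Z.nT (L ++ L'.reverse),
    mul_mem (Z.nT_H0 L hk) hm, ?_⟩
  rw [Z.nT_append, show Z.nT L'.reverse = k⁻¹ * (Z.nT L')⁻¹ by rw [e]; group]
  group

theorem move_right {J : Fin Z.nJ} {L : List (Fin Z.nJ)}
    (h : ∀ i ∈ Z.orb J, IsPos D ((Z.pwT L)⁻¹ (G.full.simp' i)).val) {b : GL D.Idx F}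
    (hb : b ∈ Z.XJ J) : ∃ v ∈ Z.U1, b * Z.nT L = Z.nT L * v := by
  refine ⟨(Z.nT L)⁻¹ * b * (Z.nT L), Subgroup.mem_inf.mpr ⟨?_, ?_⟩, by group⟩
  · exact mul_mem (mul_mem (inv_mem (Z.le_fix (Z.nT_mem L))) hb.1) (Z.le_fix (Z.nT_mem L))
  · have hact := G.rootAct_inv (Z.nT_mono L) (Z.nT_act L)
    obtain ⟨M, hM⟩ := G.exists_rootAct (inv_mem (Z.nT_mono L))
    have eM := G.rootAct_unique hact hM
    have := G.conj_x_act hact (S' := {r | IsPos D r}) (fun s hs => by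
      refine ⟨hs.1, ?_⟩
      rw [eM]
      exact Z.pos_of_all_pos (fun i hi => by rw [← eM]; exact h i hi) (s := ⟨s, hs.1⟩) hs) hb.2
    rw [inv_inv, ← G.posUnipotent_eq] at this
    exact this

/-- The set `U¹ H¹ N¹ U¹`. -/
def big : Set (GL D.Idx F) :=
  {g | ∃ u ∈ Z.U1, ∃ h ∈ Z.H0, ∃ L, ∃ v ∈ Z.U1, g = u * h * Z.nT L * v}

theorem big_U1 {w g : GL D.Idx F} (hw : w ∈ Z.U1) (hg : g ∈ Z.big) : w * g ∈ Z.big := by
  obtain ⟨u, hu, h, hh, L, v, hv, rfl⟩ := hg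
  exact ⟨w * u, mul_mem hw hu, h, hh, L, v, hv, by group⟩

theorem big_H0 {k g : GL D.Idx F} (hk : k ∈ Z.H0) (hg : g ∈ Z.big) : k * g ∈ Z.big := by
  obtain ⟨u, hu, h, hh, L, v, hv, rfl⟩ := hg
  exact ⟨k * u * k⁻¹, Z.H0_conj_U1 hk hu, k * h, mul_mem hk hh, L, v, hv, by group⟩

/-- The product of a generator and a double coset. -/
theorem n_cases (J : Fin Z.nJ) {u h : GL D.Idx F} (hu : u ∈ Z.U1) (hh : h ∈ Z.H0)
    (L : List (Fin Z.nJ)) :
    ∃ u' ∈ Z.U1, ∃ h' ∈ Z.H0, ∃ v ∈ Z.U1,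
      Z.n J * (u * h * Z.nT L) = u' * h' * Z.nT (J :: L) * v ∨
      Z.n J * (u * h * Z.nT L) = u' * h' * Z.nT L * v := by
  have hu2 : u ∈ G.US F {r | IsPos D r} := by rw [← G.posUnipotent_eq]; exact hu.2
  obtain ⟨a, ha, b, hb, rfl⟩ := Z.split_fix J G.closed_pos hu.1 hu2 fun s ⟨_, h, _⟩ => h
  have hna : Z.n J * a * (Z.n J)⁻¹ ∈ Z.U1 := by
    refine ⟨Z.fix_conj (Z.n_fix J) ha.1, ?_⟩
    rw [G.posUnipotent_eq]
    exact G.conj_x_act (Z.n_act J)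
      (fun s hs => by obtain ⟨-, hlt, -, h3⟩ := hs; exact ⟨hlt, h3⟩) ha.2
  have hb' : h⁻¹ * b * h ∈ Z.XJ J := by
    have := Z.H0_conj_US (S := flipSet (Z.w J)) (fun s ⟨hs, _⟩ => hs) (inv_mem hh) hb
    rwa [inv_inv] at this
  have hh' := Z.n_conj J h hh
  have e0 : Z.n J * (a * b * h * Z.nT L) = (Z.n J * a * (Z.n J)⁻¹) *
      ((Z.n J * h * (Z.n J)⁻¹) * (Z.n J * (h⁻¹ * b * h) * Z.nT L)) := by group
  set b' := h⁻¹ * b * h
  set h₁ := Z.n J * h * (Z.n J)⁻¹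
  set a₁ := Z.n J * a * (Z.n J)⁻¹
  have hcomm : ∀ s, (Z.pwT L)⁻¹ (Φ.π s) = Φ.π ((Z.pwT L)⁻¹ s) := fun s => by
    rw [Equiv.Perm.inv_def, Equiv.symm_apply_eq, Z.pwT_comm, Equiv.apply_symm_apply]
  rcases Z.same_sign hcomm J with hpos | hneg
  · obtain ⟨v, hv, e⟩ := Z.move_right hpos hb'
    refine ⟨a₁, hna, h₁, hh', v, hv, Or.inl ?_⟩
    rw [e0, Z.nT_cons, mul_assoc (Z.n J), e]
    group
  by_cases hb1 : b' = 1
  · refine ⟨a₁, hna, h₁, hh', 1, one_mem _, Or.inl ?_⟩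
    rw [e0, Z.nT_cons, hb1]
    group
  obtain ⟨a₂, ha₂, h₂, hh₂, b₂, hb₂, e⟩ := Z.rank_one J b' hb' hb1
  have hpos' : ∀ i ∈ Z.orb J, IsPos D ((Z.pwT (J :: L))⁻¹ (G.full.simp' i)).val := fun i hi => by
    have hM := G.exists_rootAct (F := F) (inv_mem (Z.nT_mono L))
    obtain ⟨M, hM⟩ := hM
    have eM := G.rootAct_unique (G.rootAct_inv (Z.nT_mono L) (Z.nT_act L)) hM
    rw [Z.pwT_cons, _root_.mul_inv_rev, Equiv.Perm.mul_apply, eM,
      show (Z.w J)⁻¹ (G.full.simp' i) = Z.w J (G.full.simp' i) by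
        rw [Equiv.Perm.inv_def, Equiv.symm_apply_eq, Z.w_sq]]
    have hf := Z.neg_of_all_neg (L := M) (fun l hl => by rw [← eM]; exact hneg l hl)
      (Z.neg_w_mem_flip (Z.simp_mem_flip hi))
    rwa [G.negF_pw, G.pos_negF, not_not] at hf
  obtain ⟨v, hv, e2⟩ := Z.move_right hpos' hb₂
  obtain ⟨k, hk, e3⟩ := Z.n_inv J
  -- `n n n_L` is a torus multiple of `n_L`
  have hkey : Z.n J * (a * b * h * Z.nT L) =
      a₁ * (h₁ * (a₂ * h₂ * (Z.n J * Z.nT (J :: L) * v))) := by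
    rw [e0, show Z.n J * b' * Z.nT L = (Z.n J * b' * (Z.n J)⁻¹) * (Z.n J * Z.nT L) by group, e,
      ← Z.nT_cons, mul_assoc (Z.n J) (Z.nT (J :: L)), ← e2]
    group
  have hnn : Z.n J * Z.nT (J :: L) = (Z.n J * Z.n J) * Z.nT L := by rw [Z.nT_cons]; group
  refine ⟨a₁ * (h₁ * a₂ * h₁⁻¹), mul_mem hna (Z.H0_conj_U1 hh' ha₂),
    h₁ * h₂ * (Z.n J * Z.n J), mul_mem (mul_mem hh' hh₂) (Z.n_sq J), v, hv, Or.inr ?_⟩
  rw [hkey, hnn]
  group

theorem big_n (J : Fin Z.nJ) {g : GL D.Idx F} (hg : g ∈ Z.big) : Z.n J * g ∈ Z.big := by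
  obtain ⟨u, hu, h, hh, L, v, hv, rfl⟩ := hg
  obtain ⟨u', hu', h', hh', v', hv', e | e⟩ := Z.n_cases J hu hh L
  · exact ⟨u', hu', h', hh', J :: L, v' * v, mul_mem hv' hv, by rw [← mul_assoc, e]; group⟩
  · exact ⟨u', hu', h', hh', L, v' * v, mul_mem hv' hv, by rw [← mul_assoc, e]; group⟩

theorem bruhat {g : GL D.Idx F} (hg : g ∈ Z.G1) : g ∈ Z.big := by
  have hg' := Z.gen hg
  suffices h : ∀ a ∈ Z.big, g * a ∈ Z.big by
    simpa using h 1 ⟨1, one_mem _, 1, one_mem _, [], 1, one_mem _, by simp [nT]⟩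
  clear hg
  induction hg' using Subgroup.closure_induction'' with
  | mem x hx =>
    rcases hx with hx | ⟨J, rfl⟩
    · obtain ⟨J, hJ⟩ := Set.mem_iUnion.mp hx
      exact fun a ha => Z.big_U1 (Z.XJ_le_U1 J hJ) ha
    · exact fun a ha => Z.big_n J ha
  | inv_mem x hx =>
    rcases hx with hx | ⟨J, rfl⟩
    · obtain ⟨J, hJ⟩ := Set.mem_iUnion.mp hx
      exact fun a ha => Z.big_U1 (inv_mem (Z.XJ_le_U1 J hJ)) ha
    · obtain ⟨k, hk, e⟩ := Z.n_inv J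
      intro a ha
      rw [e, mul_assoc]
      exact Z.big_H0 hk (Z.big_n J ha)
  | one => simp
  | mul x y _ _ hx hy => exact fun a ha => by rw [mul_assoc]; exact hx _ (hy a ha)

/-- The canonical form. -/
theorem canonical {g : GL D.Idx F} (hg : g ∈ Z.G1) :
    ∃ u ∈ Z.U1, ∃ h ∈ Z.H0, ∃ L, Z.Red L ∧ ∃ v ∈ Z.UT L, g = u * h * Z.nT L * v := by
  obtain ⟨u, hu, h, hh, L₀, v, hv, rfl⟩ := Z.bruhat hg
  obtain ⟨L, hL, eL⟩ := Z.exists_red_eq L₀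
  obtain ⟨k, hk, ek⟩ := Z.nT_congr eL.symm
  have hv2 : v ∈ G.US F {r | IsPos D r} := by rw [← G.posUnipotent_eq]; exact hv.2
  obtain ⟨a, ha, b, hb, rfl⟩ := G.US_split (G.closed_keep _) (G.closed_flip _) G.closed_pos
    (pos_eq_keep_union_flip (Z.pwT L)) hv2
  have hga : a ∈ D.group F := G.US_le_group _ ha
  have hgb : b ∈ D.group F := G.US_le_group _ hb
  have e := hv.1.2
  rw [Φ.A_mul hga hgb] at e
  obtain ⟨ea, eb⟩ := G.split_unique (Z.nT_act L) (Φ.A_keep (Z.pwT_comm L) ha) ha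
    (Φ.A_flip (Z.pwT_comm L) hb) hb e
  have hna : Z.nT L * a * (Z.nT L)⁻¹ ∈ Z.U1 := by
    refine ⟨Z.fix_conj (Z.le_fix (Z.nT_mem L)) ⟨hga, ea⟩, ?_⟩
    rw [G.posUnipotent_eq]
    exact G.conj_x_act (Z.nT_act L)
      (fun s hs => by obtain ⟨hlt, -, h3⟩ := hs; exact ⟨hlt, h3⟩) ha
  set a' := Z.nT L * a * (Z.nT L)⁻¹ with ha'
  refine ⟨u * (h * k * a' * (h * k)⁻¹), mul_mem hu (Z.H0_conj_U1 (mul_mem hh hk) hna),
    h * k, mul_mem hh hk, L, hL, b, ⟨⟨hgb, eb⟩, hb⟩, ?_⟩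
  rw [ek, ha']
  group

theorem mem_B1 {g : GL D.Idx F} (hg : g ∈ Z.G1) (hB : g ∈ D.borelSubgroup F) :
    ∃ u ∈ Z.U1, ∃ h ∈ Z.H0, g = u * h := by
  obtain ⟨u, hu, h, hh, L, v, hv, rfl⟩ := Z.bruhat hg
  have hN : Z.nT L ∈ D.borelSubgroup F := by
    have e : Z.nT L = (u * h)⁻¹ * (u * h * Z.nT L * v) * v⁻¹ := by group
    rw [e]
    exact mul_mem (mul_mem (inv_mem (mul_mem (Subgroup.mem_sup_left hu.2)
      (Subgroup.mem_sup_right (Z.H0_diag hh)))) hB) (inv_mem (Subgroup.mem_sup_left hv.2))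
  have hd : Z.nT L ∈ D.diagonalSubgroup F := by
    rw [← G.borel_inf_monomial]; exact ⟨hN, Z.nT_mono L⟩
  rw [G.full.diagonal_eq_range] at hd
  obtain ⟨c, hc⟩ := hd
  have hH : Z.nT L ∈ Z.H0 :=
    Z.torus_word L (G.rootAct_unique (Z.nT_act L) (hc ▸ G.rootAct_hT c))
  refine ⟨u * (h * Z.nT L * v * (h * Z.nT L)⁻¹),
    mul_mem hu (Z.H0_conj_U1 (mul_mem hh hH) hv), h * Z.nT L, mul_mem hh hH, ?_⟩
  group

theorem inf_diagonal : Z.G1 ⊓ D.diagonalSubgroup F = Z.H0 := by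
  refine le_antisymm ?_ (le_inf Z.H0_le Z.H0_diag)
  intro g hg0
  obtain ⟨hg, hd⟩ := Subgroup.mem_inf.mp hg0
  obtain ⟨u, hu, h, hh, rfl⟩ := Z.mem_B1 hg (Subgroup.mem_sup_right hd)
  have : u ∈ D.posUnipotent F ⊓ D.diagonalSubgroup F := by
    refine Subgroup.mem_inf.mpr ⟨hu.2, ?_⟩
    have := mul_mem hd (inv_mem (Z.H0_diag hh))
    rwa [mul_inv_cancel_right] at this
  rw [G.pos_inf_diagonal, Subgroup.mem_bot] at this
  rw [this, one_mul]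
  exact hh

theorem inf_pos : Z.G1 ⊓ D.posUnipotent F = Z.U1 :=
  le_antisymm (fun _ hg => ⟨Z.le_fix hg.1, hg.2⟩) fun _ hg => ⟨Z.U1_le hg, hg.2⟩

theorem mem_N1 {g : GL D.Idx F} (hg : g ∈ Z.G1) (hN : g ∈ D.monomialSubgroup F) :
    ∃ h ∈ Z.H0, ∃ L, g = h * Z.nT L := by
  obtain ⟨u, hu, h, hh, L, -, v, hv, e⟩ := Z.canonical hg
  obtain ⟨M, hM⟩ := G.exists_rootAct hN
  have key := G.canonical_unique (b := u * h) (b' := 1) (n := Z.nT L) (n' := g) (u := v) (u' := 1)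
    (mul_mem (Subgroup.mem_sup_left hu.2) (Subgroup.mem_sup_right (Z.H0_diag hh))) (one_mem _)
    (Z.nT_mono L) hN (Z.nT_act L) hM hv.2 (one_mem _) (by rw [one_mul, mul_one, e])
  have hk : g * (Z.nT L)⁻¹ ∈ Z.G1 ⊓ D.diagonalSubgroup F := by
    refine Subgroup.mem_inf.mpr ⟨mul_mem hg (inv_mem (Z.nT_mem L)), ?_⟩
    have := G.diagonal_normal.conj_mem ⟨_, mul_mem (inv_mem (Z.nT_mono L)) hN⟩ key.1
      ⟨_, Z.nT_mono L⟩
    rw [Subgroup.mem_subgroupOf] at this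
    simpa using this
  rw [Z.inf_diagonal] at hk
  exact ⟨_, hk, L, by group⟩

end Good.Twisted

end Tab

end CfsgLib.Chev
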