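import Cfsg.Agent.Chev.CentG2Two
import Cfsg.Agent.Chev.RadCent
import Mathlib.FieldTheory.Finite.Basic
import Mathlib.GroupTheory.Sylow

/-!
The two classes of involutions of `G₂(q)`, `q` even.
-/

set_option autoImplicit false
set_option linter.style.haveILetI false

namespace CfsgLib.Chev.G2Two

open Cfsg.Lie Matrix Tab
open scoped MatrixGroups

variable {F : Type*} [Field F]

/-- The elements of `U` in coordinates. -/
noncomputable def uN (a b c d e f : F) : GL chevG2.Idx F :=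
  good_G2.full.x 6 a * good_G2.full.x 7 b * good_G2.full.x 8 c * good_G2.full.x 9 d *
    good_G2.full.x 10 e * good_G2.full.x 11 f

theorem chk76 : G2Data.tab.chkWord 2 50 [(7, 1, 1, 0), (6, 1, 0, 1)]
    [(6, 1, 0, 1), (7, 1, 1, 0), (8, 1, 1, 1), (9, 1, 2, 1), (10, 1, 3, 1)] = true := by
  decide +kernel

theorem chk87 : G2Data.tab.chkWord 2 50 [(8, 1, 1, 0), (7, 1, 0, 1)]
    [(7, 1, 0, 1), (8, 1, 1, 0), (10, 1, 1, 2), (11, 1, 2, 1)] = true := by
  decide +kernel

theorem chk97 : G2Data.tab.chkWord 2 50 [(9, 1, 1, 0), (7, 1, 0, 1)]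
    [(7, 1, 0, 1), (9, 1, 1, 0), (10, 1, 1, 1)] = true := by
  decide +kernel

theorem chk98 : G2Data.tab.chkWord 2 50 [(9, 1, 1, 0), (8, 1, 0, 1)]
    [(8, 1, 0, 1), (9, 1, 1, 0), (11, 1, 1, 1)] = true := by
  decide +kernel

theorem chkA6 : G2Data.tab.chkWord 2 50 [(10, 1, 1, 0), (6, 1, 0, 1)]
    [(6, 1, 0, 1), (10, 1, 1, 0), (11, 1, 1, 1)] = true := by
  decide +kernel

theorem chkTriv : ([(8, 6), (9, 6), (11, 6), (10, 7), (11, 7), (10, 8), (11, 8), (10, 9), (11, 9),
    (11, 10)] : List (ℕ × ℕ)).all (fun p => G2Data.tab.chkWord 2 50 [(p.1, 1, 1, 0), (p.2, 1, 0, 1)]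
      [(p.2, 1, 0, 1), (p.1, 1, 1, 0)]) = true := by
  decide +kernel

variable [CharP F 2]

section Mul

local notation "X" => good_G2.full.x (F := F)

theorem triv {p q : ℕ} (h : (p, q) ∈ ([(8, 6), (9, 6), (11, 6), (10, 7), (11, 7), (10, 8), (11, 8),
    (10, 9), (11, 9), (11, 10)] : List (ℕ × ℕ))) (t u : F) : X p t * X q u = X q u * X p t := by
  simpa [Good.evTerms] using good_G2.word_eq two_zero (List.all_eq_true.mp chkTriv _ h) t u

theorem e76 (t u : F) : X 7 t * X 6 u =
    X 6 u * X 7 t * X 8 (t * u) * X 9 (t ^ 2 * u) * X 10 (t ^ 3 * u) := by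
  simpa [Good.evTerms, mul_assoc] using good_G2.word_eq two_zero chk76 t u

theorem e87 (t u : F) :
    X 8 t * X 7 u = X 7 u * X 8 t * X 10 (t * u ^ 2) * X 11 (t ^ 2 * u) := by
  simpa [Good.evTerms, mul_assoc] using good_G2.word_eq two_zero chk87 t u

theorem e97 (t u : F) : X 9 t * X 7 u = X 7 u * X 9 t * X 10 (t * u) := by
  simpa [Good.evTerms, mul_assoc] using good_G2.word_eq two_zero chk97 t u

theorem e98 (t u : F) : X 9 t * X 8 u = X 8 u * X 9 t * X 11 (t * u) := by
  simpa [Good.evTerms, mul_assoc] using good_G2.word_eq two_zero chk98 t u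

theorem eA6 (t u : F) : X 10 t * X 6 u = X 6 u * X 10 t * X 11 (t * u) := by
  simpa [Good.evTerms, mul_assoc] using good_G2.word_eq two_zero chkA6 t u

omit [CharP F 2] in
theorem xadd (r : ℕ) (t u : F) (g : GL chevG2.Idx F) : g * X r t * X r u = g * X r (t + u) := by
  rw [mul_assoc, good_G2.full.x_add]

variable (a b c d e f g : F)

omit [CharP F 2] in
theorem r11 : uN a b c d e f * X 11 g = uN a b c d e (f + g) := by
  simp only [uN, xadd]

theorem r10 : uN a b c d e f * X 10 g = uN a b c d (e + g) f := by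
  simp only [uN]
  rw [mul_assoc _ (X 11 f), triv (p := 11) (q := 10) (by simp)]
  simp only [← mul_assoc, xadd]

theorem r9 : uN a b c d e f * X 9 g = uN a b c (d + g) e f := by
  simp only [uN]
  rw [mul_assoc _ (X 11 f), triv (p := 11) (q := 9) (by simp), ← mul_assoc,
    mul_assoc _ (X 10 e), triv (p := 10) (q := 9) (by simp)]
  simp only [← mul_assoc, xadd]

theorem r8 : uN a b c d e f * X 8 g = uN a b (c + g) d e (f + d * g) := by
  have h : ∀ p q r : F, X 9 p * X 10 q * X 11 r * X 8 g =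
      X 8 g * (X 9 p * X 10 q * X 11 (r + p * g)) := fun p q r => by
    rw [mul_assoc _ (X 11 r), triv (p := 11) (q := 8) (by simp), ← mul_assoc,
      mul_assoc _ (X 10 q), triv (p := 10) (q := 8) (by simp), ← mul_assoc, e98]
    simp only [mul_assoc]
    congr 2
    rw [← mul_assoc, triv (p := 11) (q := 10) (by simp), mul_assoc, good_G2.full.x_add,
      add_comm]
  simp only [uN, mul_assoc] at h ⊢
  rw [h]
  simp only [← mul_assoc, xadd]

theorem r7 : uN a b c d e f * X 7 g =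
    uN a (b + g) c d (e + d * g + c * g ^ 2) (f + c ^ 2 * g) := by
  have h1 : X 9 d * X 10 e * X 11 f * X 7 g = X 7 g * (X 9 d * X 10 (e + d * g) * X 11 f) := by
    rw [mul_assoc _ (X 11 f), triv (p := 11) (q := 7) (by simp), ← mul_assoc,
      mul_assoc _ (X 10 e), triv (p := 10) (q := 7) (by simp), ← mul_assoc, e97]
    simp only [mul_assoc]
    congr 2
    rw [← mul_assoc, good_G2.full.x_add, add_comm]
  have h2 : uN a b c d e f * X 7 g =
      X 6 a * X 7 b * (X 8 c * X 7 g) * (X 9 d * X 10 (e + d * g) * X 11 f) := by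
    simp only [uN, mul_assoc] at h1 ⊢
    rw [h1]
  rw [h2, e87]
  have h3 : X 10 (c * g ^ 2) * X 11 (c ^ 2 * g) * (X 9 d * X 10 (e + d * g) * X 11 f) =
      X 9 d * X 10 (e + d * g + c * g ^ 2) * X 11 (f + c ^ 2 * g) := by
    simp only [← mul_assoc]
    rw [mul_assoc _ (X 11 _) (X 9 d), triv (p := 11) (q := 9) (by simp), ← mul_assoc,
      triv (p := 10) (q := 9) (by simp), mul_assoc _ (X 11 _) (X 10 _),
      triv (p := 11) (q := 10) (by simp), ← mul_assoc, xadd, xadd, add_comm _ f,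
      add_comm (c * g ^ 2)]
  simp only [uN, mul_assoc] at h3 ⊢
  rw [h3]
  simp only [← mul_assoc, xadd]

theorem r6 : uN a b c d e f * X 6 g = uN (a + g) b (c + b * g) (d + b ^ 2 * g) (e + b ^ 3 * g)
    (f + e * g + c * (b ^ 2 * g)) := by
  have h1 : X 8 c * X 9 d * X 10 e * X 11 f * X 6 g =
      X 6 g * (X 8 c * X 9 d * X 10 e * X 11 (f + e * g)) := by
    rw [mul_assoc _ (X 11 f), triv (p := 11) (q := 6) (by simp), ← mul_assoc,
      mul_assoc _ (X 10 e), eA6, ← mul_assoc, ← mul_assoc, mul_assoc _ (X 9 d),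
      triv (p := 9) (q := 6) (by simp), ← mul_assoc, triv (p := 8) (q := 6) (by simp)]
    simp only [mul_assoc, good_G2.full.x_add, add_comm f]
  have h2 : uN a b c d e f * X 6 g =
      X 6 a * (X 7 b * X 6 g) * (X 8 c * X 9 d * X 10 e * X 11 (f + e * g)) := by
    simp only [uN, mul_assoc] at h1 ⊢
    rw [h1]
  rw [h2, e76]
  have h3 : ∀ p q : F, X 9 p * X 10 q * (X 8 c * X 9 d * X 10 e * X 11 (f + e * g)) =
      X 8 c * X 9 (d + p) * X 10 (e + q) * X 11 (f + e * g + c * p) := by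
    intro p q
    simp only [← mul_assoc]
    rw [mul_assoc _ (X 10 q) (X 8 c), triv (p := 10) (q := 8) (by simp), ← mul_assoc, e98,
      mul_assoc _ (X 10 q) (X 9 d), triv (p := 10) (q := 9) (by simp), ← mul_assoc,
      mul_assoc _ (X 11 _) (X 9 d), triv (p := 11) (q := 9) (by simp), ← mul_assoc, xadd,
      xadd, mul_assoc _ (X 11 _) (X 10 _),
      triv (p := 11) (q := 10) (by simp), ← mul_assoc, xadd, add_comm p d, add_comm q e,
      mul_comm p c, add_comm (c * p)]
  simp only [uN, mul_assoc] at h3 ⊢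
  rw [h3]
  simp only [← mul_assoc, good_G2.full.x_add, add_comm c]

theorem uN_mul (a' b' c' d' e' f' : F) : uN a b c d e f * uN a' b' c' d' e' f' =
    uN (a + a') (b + b') (c + b * a' + c') (d + b ^ 2 * a' + d')
      (e + b ^ 3 * a' + (d + b ^ 2 * a') * b' + (c + b * a') * b' ^ 2 + e')
      (f + e * a' + c * (b ^ 2 * a') + (c + b * a') ^ 2 * b' + (d + b ^ 2 * a') * c' + f') := by
  conv_lhs => arg 2; unfold uN
  simp only [← mul_assoc, r6, r7, r8, r9, r10, r11]

end Mul

omit [CharP F 2] in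
theorem uN_zero : uN (0 : F) 0 0 0 0 0 = 1 := by simp [uN, good_G2.full.x_zero]

omit [CharP F 2] in
theorem uN_mem (a b c d e f : F) : uN a b c d e f ∈ chevG2.group F :=
  mul_mem (mul_mem (mul_mem (mul_mem (mul_mem (good_G2.x_mem_group _ _) (good_G2.x_mem_group _ _))
    (good_G2.x_mem_group _ _)) (good_G2.x_mem_group _ _)) (good_G2.x_mem_group _ _))
    (good_G2.x_mem_group _ _)

omit [CharP F 2] in
theorem coord_eq (f : ℕ → F) : good_G2.segProd {r | IsPos chevG2 r} f 0 chevG2.nroots =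
    uN (f 6) (f 7) (f 8) (f 9) (f 10) (f 11) := by
  show good_G2.segProd {r | IsPos chevG2 r} f 0 12 = _
  simp [Good.segProd, pos_range, uN, List.mem_range'_1, mul_assoc]

omit [CharP F 2] in
theorem exists_uN {u : GL chevG2.Idx F} (hu : u ∈ chevG2.posUnipotent F) :
    ∃ a b c d e f : F, u = uN a b c d e f := by
  rw [good_G2.posUnipotent_eq, ← SetLike.mem_coe, good_G2.US_eq_range good_G2.closed_pos] at hu
  obtain ⟨f, rfl⟩ := hu
  exact ⟨_, _, _, _, _, _, coord_eq f⟩

omit [CharP F 2] in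
theorem uN_inj {a b c d e f a' b' c' d' e' f' : F}
    (h : uN a b c d e f = uN a' b' c' d' e' f') :
    a = a' ∧ b = b' ∧ c = c' ∧ d = d' ∧ e = e' ∧ f = f' := by
  let v : F → F → F → F → F → F → ℕ → F := fun a b c d e f r =>
    if r = 6 then a else if r = 7 then b else if r = 8 then c else if r = 9 then d
      else if r = 10 then e else f
  have h' : good_G2.segProd {r | IsPos chevG2 r} (v a b c d e f) 0 chevG2.nroots =
      good_G2.segProd {r | IsPos chevG2 r} (v a' b' c' d' e' f') 0 chevG2.nroots := by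
    rw [coord_eq, coord_eq]
    simpa [v] using h
  have key : ∀ r ∈ List.range' 6 6, v a b c d e f r = v a' b' c' d' e' f' r := fun r hr =>
    good_G2.segProd_injective good_G2.closed_pos chevG2.nroots 0 _ _ (zero_add _) h' r
      (pos_range.mpr hr) (Nat.zero_le _)
  exact ⟨by simpa [v] using key 6 (by simp), by simpa [v] using key 7 (by simp),
    by simpa [v] using key 8 (by simp), by simpa [v] using key 9 (by simp),
    by simpa [v] using key 10 (by simp), by simpa [v] using key 11 (by simp)⟩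

theorem two_eq : (2 : F) = 0 := CharP.cast_eq_zero F 2

/-- The condition of squaring to one. -/
theorem sq_eq_one {a b c d e f : F} (h : uN a b c d e f * uN a b c d e f = 1) :
    a * b = 0 ∧ (a = 0 → b = 0 ∨ d = b * c) ∧ (b = 0 → e * a + d * c = 0) := by
  rw [uN_mul, ← uN_zero] at h
  obtain ⟨-, -, h8, -, h10, h11⟩ := uN_inj h
  have hab : a * b = 0 := by linear_combination h8 - c * (two_eq (F := F))
  refine ⟨hab, fun ha => ?_, fun hb => ?_⟩
  · subst ha
    by_cases hb : b = 0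
    · exact Or.inl hb
    · refine Or.inr (mul_left_cancel₀ hb ?_)
      linear_combination h10 - (e + c * b ^ 2) * (two_eq (F := F))
  · subst hb
    linear_combination h11 - f * (two_eq (F := F))

/-- Conjugacy in the group. -/
def Sim (g h : GL chevG2.Idx F) : Prop := ∃ k ∈ chevG2.group F, k * g * k⁻¹ = h

omit [CharP F 2] in
theorem Sim.refl (g : GL chevG2.Idx F) : Sim g g := ⟨1, one_mem _, by simp⟩

omit [CharP F 2] in
theorem Sim.trans {g h k : GL chevG2.Idx F} (h1 : Sim g h) (h2 : Sim h k) : Sim g k := by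
  obtain ⟨x, hx, rfl⟩ := h1
  obtain ⟨y, hy, rfl⟩ := h2
  exact ⟨y * x, mul_mem hy hx, by group⟩

omit [CharP F 2] in
theorem Sim.sq {g h : GL chevG2.Idx F} (h1 : Sim g h) (hg : g * g = 1) : h * h = 1 := by
  obtain ⟨x, hx, rfl⟩ := h1
  rw [show x * g * x⁻¹ * (x * g * x⁻¹) = x * (g * g) * x⁻¹ by group, hg, mul_one, mul_inv_cancel]

omit [CharP F 2] in
theorem Sim.of_eq {g h k : GL chevG2.Idx F} (hk : k ∈ chevG2.group F) (e : k * g = h * k) :
    Sim g h := ⟨k, hk, by rw [e, mul_inv_cancel_right]⟩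

omit [CharP F 2] in
theorem sim_ns (i : Fin chevG2.rank) : ∀ r : Fin chevG2.nroots, ∀ t : F, t ≠ 0 →
    ∃ t' : F, t' ≠ 0 ∧ good_G2.full.ns F i * good_G2.full.x r.val t * (good_G2.full.ns F i)⁻¹ =
      good_G2.full.x (good_G2.full.refl i r).val t' := by
  intro r t ht
  obtain ⟨c, hc⟩ := good_G2.rootAct_ns (F := F) i
  exact ⟨(c r : F) * t, mul_ne_zero (Units.ne_zero _) ht, (hc r).2.2.2 t⟩

theorem reflTab : G2Data.tab.reflT 0 6 = 10 ∧ G2Data.tab.reflT 1 10 = 11 ∧
    G2Data.tab.reflT 1 7 = 8 ∧ G2Data.tab.reflT 0 8 = 9 ∧ G2Data.tab.reflT 0 9 = 8 ∧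
    G2Data.tab.reflT 1 8 = 7 := by decide +kernel

omit [CharP F 2] in
theorem sim_x {i r s : ℕ} (hi : i < chevG2.rank) (hr : r < chevG2.nroots)
    (e : G2Data.tab.reflT i r = s) {t : F} (ht : t ≠ 0) :
    ∃ t' : F, t' ≠ 0 ∧ Sim (good_G2.full.x r t) (good_G2.full.x s t') := by
  obtain ⟨t', ht', h⟩ := sim_ns (F := F) ⟨i, hi⟩ ⟨r, hr⟩ t ht
  refine ⟨t', ht', _, good_G2.ns_mem_group ⟨i, hi⟩, ?_⟩
  rw [h, ← e]
  rfl

omit [CharP F 2] in
/-- Two reflections applied to a product of two root elements. -/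
theorem sim_pair {i r r' s s' : ℕ} (hi : i < chevG2.rank) (hr : r < chevG2.nroots)
    (hr' : r' < chevG2.nroots) (e : G2Data.tab.reflT i r = s) (e' : G2Data.tab.reflT i r' = s')
    {t : F} (ht : t ≠ 0) (u : F) :
    ∃ t' u' : F, t' ≠ 0 ∧ Sim (good_G2.full.x r t * good_G2.full.x r' u)
      (good_G2.full.x s t' * good_G2.full.x s' u') := by
  obtain ⟨c, hc⟩ := good_G2.rootAct_ns (F := F) ⟨i, hi⟩
  refine ⟨(c ⟨r, hr⟩ : F) * t, (c ⟨r', hr'⟩ : F) * u, mul_ne_zero (Units.ne_zero _) ht, _,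
    good_G2.ns_mem_group ⟨i, hi⟩, ?_⟩
  rw [show good_G2.full.ns F i * (good_G2.full.x r t * good_G2.full.x r' u) *
    (good_G2.full.ns F i)⁻¹ = good_G2.full.ns F i * good_G2.full.x r t * (good_G2.full.ns F i)⁻¹ *
    (good_G2.full.ns F i * good_G2.full.x r' u * (good_G2.full.ns F i)⁻¹) by group,
    show good_G2.full.x r t = good_G2.full.x (⟨r, hr⟩ : Fin chevG2.nroots).val t from rfl,
    show good_G2.full.x r' u = good_G2.full.x (⟨r', hr'⟩ : Fin chevG2.nroots).val u from rfl,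
    (hc _).2.2.2 t, (hc _).2.2.2 u, ← e, ← e']
  rfl

omit [CharP F 2] in
theorem scale {r : ℕ} (hr : r < chevG2.nroots) {t : F} (ht : t ≠ 0) (c : Fin chevG2.rank → Fˣ)
    (hc : (G2Data.tab.chi (F := F) r c : F) = t⁻¹) :
    Sim (good_G2.full.x r t) (good_G2.full.x r 1) := by
  refine ⟨G2Data.tab.hT F c, good_G2.diagonal_le_group ?_, ?_⟩
  · rw [good_G2.full.diagonal_eq_range]
    exact ⟨c, rfl⟩
  · rw [good_G2.full.hT_conj hr, hc, inv_mul_cancel₀ ht]

omit [CharP F 2] in
theorem scale11 {t : F} (ht : t ≠ 0) : Sim (good_G2.full.x 11 t) (good_G2.full.x 11 1) :=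
  scale (by decide) ht (fun i : Fin chevG2.rank => if i.val = 1 then (Units.mk0 t ht)⁻¹ else 1) (by
    rw [chi_eq, carts.1.1, carts.1.2]; simp)

omit [CharP F 2] in
theorem scale9 {t : F} (ht : t ≠ 0) : Sim (good_G2.full.x 9 t) (good_G2.full.x 9 1) :=
  scale (by decide) ht (fun i : Fin chevG2.rank => if i.val = 0 then (Units.mk0 t ht)⁻¹ else 1) (by
    rw [chi_eq, carts.2.1, carts.2.2]; simp)

omit [CharP F 2] in
theorem root_long {r : ℕ} (hr : r = 6 ∨ r = 10 ∨ r = 11) {t : F} (ht : t ≠ 0) :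
    Sim (good_G2.full.x r t) (good_G2.full.x 11 1) := by
  have h10 : ∀ t : F, t ≠ 0 → Sim (good_G2.full.x 10 t) (good_G2.full.x 11 1) := fun t ht => by
    obtain ⟨t', ht', h⟩ := sim_x (i := 1) (r := 10) (by decide) (by decide) reflTab.2.1 ht
    exact h.trans (scale11 ht')
  rcases hr with rfl | rfl | rfl
  · obtain ⟨t', ht', h⟩ := sim_x (i := 0) (r := 6) (by decide) (by decide) reflTab.1 ht
    exact h.trans (h10 t' ht')
  · exact h10 t ht
  · exact scale11 ht

omit [CharP F 2] in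
theorem root_short {r : ℕ} (hr : r = 7 ∨ r = 9) {t : F} (ht : t ≠ 0) :
    Sim (good_G2.full.x r t) (good_G2.full.x 9 1) := by
  rcases hr with rfl | rfl
  · obtain ⟨t', ht', h⟩ := sim_x (i := 1) (r := 7) (by decide) (by decide) reflTab.2.2.1 ht
    obtain ⟨t'', ht'', h'⟩ := sim_x (i := 0) (r := 8) (by decide) (by decide) reflTab.2.2.2.1 ht'
    exact h.trans (h'.trans (scale9 ht''))
  · exact scale9 ht

variable [Finite F]

theorem exists_sqrt (t : F) : ∃ s : F, s ^ 2 = t := by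
  haveI := Fintype.ofFinite F
  obtain ⟨s, hs⟩ := FiniteField.isSquare_of_char_two (ringChar.eq F 2) t
  exact ⟨s, by rw [hs, sq]⟩

/-- `x_a(b) x_{3a+b}(e) x_{3a+2b}(f)`. -/
theorem caseA {b : F} (hb : b ≠ 0) (e f : F) : Sim (uN 0 b 0 0 e f) (good_G2.full.x 9 1) := by
  obtain ⟨s, hs⟩ := exists_sqrt (f / b)
  have hs' : b * s ^ 2 = f := by rw [hs]; field_simp
  have h1 : Sim (uN 0 b 0 0 e f) (uN 0 b 0 0 (e + b ^ 2 * s) 0) := by
    refine Sim.of_eq (k := uN 0 0 s 0 0 0) (uN_mem _ _ _ _ _ _) ?_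
    rw [uN_mul, uN_mul]
    congr 1 <;> first
      | ring1
      | linear_combination (0 : F) * two_eq (F := F) + hs'
      | linear_combination f * two_eq (F := F) + hs'
  refine h1.trans (Sim.trans (h := good_G2.full.x 7 b) ?_ (root_short (Or.inl rfl) hb))
  have e7 : good_G2.full.x 7 b = uN 0 b 0 0 0 0 := by simp [uN, good_G2.full.x_zero]
  rw [e7]
  refine Sim.of_eq (k := uN 0 0 0 ((e + b ^ 2 * s) / b) 0 0) (uN_mem _ _ _ _ _ _) ?_
  have hr : b * ((e + b ^ 2 * s) / b) = e + b ^ 2 * s := by field_simp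
  rw [uN_mul, uN_mul]
  congr 1 <;> first
    | ring1
    | linear_combination (e + b ^ 2 * s) * two_eq (F := F) + hr

/-- Every involution of `U` is conjugate to one of the two root involutions. -/
theorem classify {u : GL chevG2.Idx F} (hu : u ∈ chevG2.posUnipotent F) (h1 : u ≠ 1)
    (h2 : u * u = 1) :
    Sim u (good_G2.full.x 11 1) ∨ Sim u (good_G2.full.x 9 1) := by
  obtain ⟨a, b, c, d, e, f, rfl⟩ := exists_uN hu
  obtain ⟨hab, hA, hB⟩ := sq_eq_one h2
  have h20 := two_eq (F := F)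
  by_cases hb : b = 0
  swap
  · have ha : a = 0 := (mul_eq_zero.mp hab).resolve_right hb
    have hd : d = b * c := (hA ha).resolve_left hb
    subst ha
    refine Or.inr (Sim.trans (h := uN 0 b 0 0 (e + b ^ 2 * c) (f + e * (c / b) + b * c ^ 2)) ?_
      (caseA hb _ _))
    refine Sim.of_eq (k := uN (c / b) 0 0 0 0 0) (uN_mem _ _ _ _ _ _) ?_
    have hs : b * (c / b) = c := by field_simp
    rw [uN_mul, uN_mul]
    subst hd
    congr 1 <;> first
      | ring1
      | linear_combination -hs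
      | linear_combination -b * hs
      | linear_combination -b ^ 2 * hs - b ^ 2 * c * h20
      | linear_combination -(b * c) * hs - (b * c ^ 2 + e * (c / b)) * h20
  subst hb
  have hB' := hB rfl
  by_cases ha : a = 0
  swap
  · -- kill the coefficient of `a + b`
    obtain ⟨d', e', f', hs⟩ : ∃ d' e' f' : F,
        Sim (uN a 0 c d e f) (uN a 0 0 d' e' f') := by
      refine ⟨d + (c / a) ^ 2 * a, e + (c / a) ^ 3 * a + (d + (c / a) ^ 2 * a) * (c / a),
        f + (c / a) ^ 2 * a * c, Sim.of_eq (k := uN 0 (c / a) 0 0 0 0) (uN_mem _ _ _ _ _ _) ?_⟩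
      have hs : a * (c / a) = c := by field_simp
      rw [uN_mul, uN_mul]
      congr 1 <;> first
        | ring1
        | linear_combination c * h20 + hs
        | linear_combination (-((c / a) * d + (c / a) ^ 3 * a)) * h20
    have hsq := (sq_eq_one (hs.sq h2)).2.2 rfl
    simp only [mul_zero, add_zero, mul_eq_zero, ha, or_false] at hsq
    subst hsq
    have h3 : Sim (uN a 0 0 d' 0 f') (uN a 0 0 d' 0 0) := by
      refine Sim.of_eq (k := uN 0 0 0 0 (f' / a) 0) (uN_mem _ _ _ _ _ _) ?_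
      have : a * (f' / a) = f' := by field_simp
      rw [uN_mul, uN_mul]
      congr 1 <;> first
        | ring1
        | linear_combination this + f' * h20
    refine (?_ : Sim (uN a 0 0 d' 0 0) _ ∨ Sim (uN a 0 0 d' 0 0) _).imp
      (fun h => hs.trans (h3.trans h)) (fun h => hs.trans (h3.trans h))
    by_cases hd : d' = 0
    · subst hd
      refine Or.inl ?_
      rw [show uN a 0 0 0 0 0 = good_G2.full.x 6 a by simp [uN, good_G2.full.x_zero]]
      exact root_long (Or.inl rfl) ha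
    · refine Or.inr ?_
      rw [show uN a 0 0 d' 0 0 = good_G2.full.x 9 d' * good_G2.full.x 6 a by
        rw [show uN a 0 0 d' 0 0 = good_G2.full.x 6 a * good_G2.full.x 9 d' by simp [uN, good_G2.full.x_zero]]
        exact (triv (p := 9) (q := 6) (by simp) d' a).symm]
      obtain ⟨t, v, ht, g1⟩ := sim_pair (i := 0) (r := 9) (r' := 6) (by decide) (by decide)
        (by decide) reflTab.2.2.2.2.1 reflTab.1 hd a
      obtain ⟨t', v', ht', g2⟩ := sim_pair (i := 1) (r := 8) (r' := 10) (by decide) (by decide)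
        (by decide) reflTab.2.2.2.2.2 reflTab.2.1 ht v
      refine g1.trans (g2.trans ?_)
      rw [show good_G2.full.x 7 t' * good_G2.full.x 11 v' = uN 0 t' 0 0 0 v' by simp [uN, good_G2.full.x_zero]]
      exact caseA ht' _ _
  subst ha
  have hdc : d = 0 ∨ c = 0 := by simpa using hB'
  by_cases hc : c = 0
  swap
  · have hd : d = 0 := hdc.resolve_right hc
    subst hd
    refine Or.inr (Sim.trans (h := uN 0 0 c 0 e 0) ?_ ?_)
    · refine Sim.of_eq (k := uN 0 0 0 (f / c) 0 0) (uN_mem _ _ _ _ _ _) ?_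
      have : c * (f / c) = f := by field_simp
      rw [uN_mul, uN_mul]
      congr 1 <;> first
        | ring1
        | linear_combination this + f * h20
    · rw [show uN (0 : F) 0 c 0 e 0 = good_G2.full.x 8 c * good_G2.full.x 10 e by simp [uN, good_G2.full.x_zero]]
      obtain ⟨t', v', ht', g2⟩ := sim_pair (i := 1) (r := 8) (r' := 10) (by decide) (by decide)
        (by decide) reflTab.2.2.2.2.2 reflTab.2.1 hc e
      refine g2.trans ?_
      rw [show good_G2.full.x 7 t' * good_G2.full.x 11 v' = uN 0 t' 0 0 0 v' by simp [uN, good_G2.full.x_zero]]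
      exact caseA ht' _ _
  subst hc
  by_cases hd : d = 0
  swap
  · refine Or.inr (Sim.trans (h := uN 0 0 0 d 0 f) ?_ (Sim.trans (h := uN 0 0 0 d 0 0) ?_ ?_))
    · refine Sim.of_eq (k := uN 0 (e / d) 0 0 0 0) (uN_mem _ _ _ _ _ _) ?_
      have : d * (e / d) = e := by field_simp
      rw [uN_mul, uN_mul]
      congr 1 <;> first
        | ring1
        | linear_combination -this
    · refine Sim.of_eq (k := uN 0 0 (f / d) 0 0 0) (uN_mem _ _ _ _ _ _) ?_
      have : d * (f / d) = f := by field_simp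
      rw [uN_mul, uN_mul]
      congr 1 <;> first
        | ring1
        | linear_combination -this
    · rw [show uN (0 : F) 0 0 d 0 0 = good_G2.full.x 9 d by simp [uN, good_G2.full.x_zero]]
      exact root_short (Or.inr rfl) hd
  subst hd
  refine Or.inl ?_
  by_cases he : e = 0
  swap
  · refine Sim.trans (h := uN 0 0 0 0 e 0) ?_ ?_
    · refine Sim.of_eq (k := uN (f / e) 0 0 0 0 0) (uN_mem _ _ _ _ _ _) ?_
      have : e * (f / e) = f := by field_simp
      rw [uN_mul, uN_mul]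
      congr 1 <;> first
        | ring1
        | linear_combination -this
    · rw [show uN (0 : F) 0 0 0 e 0 = good_G2.full.x 10 e by simp [uN, good_G2.full.x_zero]]
      exact root_long (Or.inr (Or.inl rfl)) he
  subst he
  have hf : f ≠ 0 := fun hf => h1 (by rw [hf, uN_zero])
  rw [show uN (0 : F) 0 0 0 0 f = good_G2.full.x 11 f by simp [uN, good_G2.full.x_zero]]
  exact root_long (Or.inr (Or.inr rfl)) hf

omit [CharP F 2] [Finite F] in
theorem longClosed : ∀ i : Fin chevG2.rank, ∀ s : Fin chevG2.nroots,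
    s.val ∈ ([0, 1, 5, 6, 10, 11] : List ℕ) →
      G2Data.tab.reflT i s ∈ ([0, 1, 5, 6, 10, 11] : List ℕ) := by decide +kernel

omit [CharP F 2] [Finite F] in
theorem pw_long (L : List (Fin chevG2.rank)) {s : Fin chevG2.nroots}
    (hs : s.val ∈ ([0, 1, 5, 6, 10, 11] : List ℕ)) :
    (good_G2.full.pw L s).val ∈ ([0, 1, 5, 6, 10, 11] : List ℕ) := by
  induction L with
  | nil => simpa [Tab.Full.pw] using hs
  | cons i L ih =>
    rw [good_G2.pw_cons, Equiv.Perm.mul_apply]
    exact longClosed i _ ih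

omit [Finite F] in
/-- A long root involution is not conjugate to a short one. -/
theorem not_sim {g : GL chevG2.Idx F} (hg : g ∈ chevG2.group F)
    (e : g * good_G2.full.x 11 (1 : F) * g⁻¹ = good_G2.full.x 9 1) : False := by
  obtain ⟨b, hb, n, hn, L, hL, u, hu, rfl⟩ := good_G2.canonical_exists hg
  obtain ⟨v, hv, c, rfl⟩ := good_G2.mem_borel.mp hb
  have hu11 : u * good_G2.full.x 11 (1 : F) * u⁻¹ = good_G2.full.x 11 (1 : F) := by
    have hmem : u ∈ Subgroup.centralizer {good_G2.full.x 11 (1 : F)} := by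
      have := cent_z (F := F) ▸
        (Subgroup.mem_sup_left (good_G2.flip_le_pos _ hu) :
          u ∈ chevG2.posUnipotent F ⊔ chevG2.rootSubgroup F 4)
      exact (Subgroup.mem_inf.mp this).2
    rw [← Subgroup.mem_centralizer_iff.mp hmem _ rfl, mul_inv_cancel_right]
  obtain ⟨k, hk⟩ := hL
  obtain ⟨y, hy, ey⟩ := good_G2.conj_lead (S := {r | IsPos chevG2 r}) (fun _ hs => hs)
    (fun r hr s hs w hw => (good_G2.comm_keys hr hs hw).1) (r := 9)
    (by show (9 < 12 ∧ 12 ≤ 2 * 9); decide) (1 : F) (inv_mem hv)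
  have key : good_G2.full.x (good_G2.full.pw L ⟨11, by decide⟩).val
      ((k ⟨11, by decide⟩ : F) * 1) =
      good_G2.full.x 9 (((G2Data.tab.chi (F := F) 9 c⁻¹ : Fˣ) : F) * 1) *
        (G2Data.tab.hT F c⁻¹ * y * (G2Data.tab.hT F c⁻¹)⁻¹) := by
    rw [← (hk ⟨11, by decide⟩).2.2.2 1, ← good_G2.full.hT_conj (F := F) (s := 9) (by decide) c⁻¹ 1,
      map_inv, inv_inv]
    calc n * good_G2.full.x 11 1 * n⁻¹ = n * (u * good_G2.full.x 11 1 * u⁻¹) * n⁻¹ := by rw [hu11]
      _ = (G2Data.tab.hT F c)⁻¹ * (v⁻¹ * (v * G2Data.tab.hT F c * n * u * good_G2.full.x 11 1 *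
            (v * G2Data.tab.hT F c * n * u)⁻¹) * v⁻¹⁻¹) * G2Data.tab.hT F c := by group
      _ = _ := by rw [e, ey]; group
  have hy' : G2Data.tab.hT F c⁻¹ * y * (G2Data.tab.hT F c⁻¹)⁻¹ ∈
      good_G2.US F {s | IsPos chevG2 s ∧ 9 + 1 ≤ s} :=
    good_G2.hT_conj_US _ (fun s hs => hs.1.1) _ hy
  have hpos : IsPos chevG2 (good_G2.full.pw L ⟨11, by decide⟩).val := by
    by_contra hneg
    refine (Units.ne_zero (k ⟨11, by decide⟩)) ?_
    have h0 := good_G2.x_eq_one (Fin.isLt _) (good_G2.eq_one_of_borel_neg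
      (u := good_G2.full.x (good_G2.full.pw L ⟨11, by decide⟩).val ((k ⟨11, by decide⟩ : F) * 1))
      (c := 1) ?_ (good_G2.x_mem_neg (Fin.isLt _) hneg _) (by rw [map_one, mul_one]))
    · simpa only [mul_one] using h0
    · rw [key]
      exact mul_mem (good_G2.x_mem_pos (by show (9 < 12 ∧ 12 ≤ 2 * 9); decide) _)
        (good_G2.above_le_pos _ hy')
  have h9 := (good_G2.lead_unique hpos (b := 9) (by show (9 < 12 ∧ 12 ≤ 2 * 9); decide)
    (c := (k ⟨11, by decide⟩ : F) * 1)
    (d := ((G2Data.tab.chi (F := F) 9 c⁻¹ : Fˣ) : F) * 1) (mul_ne_zero (Units.ne_zero _) one_ne_zero)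
    (mul_ne_zero (Units.ne_zero _) one_ne_zero) (one_mem _) hy' (by rw [mul_one, key])).1
  have := pw_long L (s := ⟨11, by decide⟩) (by simp)
  rw [h9] at this
  simp at this

/-- An involution of the group is conjugate to an element of `U`. -/
theorem exists_conj_pos {g : GL chevG2.Idx F} (hg : g ∈ chevG2.group F) (h2 : orderOf g = 2) :
    ∃ u ∈ chevG2.posUnipotent F, Sim g u := by
  classical
  haveI := Fintype.ofFinite F
  obtain ⟨P, hP⟩ := good_G2.exists_sylow (F := F) 2
  set g' : chevG2.group F := ⟨g, hg⟩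
  have hp : IsPGroup 2 (Subgroup.zpowers g') :=
    IsPGroup.of_card (n := 1) (by rw [Nat.card_zpowers, ← Subgroup.orderOf_coe, h2, pow_one])
  obtain ⟨Q, hQ⟩ := hp.exists_le_sylow
  obtain ⟨x, hx⟩ := MulAction.exists_smul_eq (chevG2.group F) Q P
  have hu : x * g' * x⁻¹ ∈ (P : Subgroup (chevG2.group F)) := by
    rw [← hx, Sylow.smul_def, Sylow.pointwise_smul_def]
    exact ⟨g', hQ (Subgroup.mem_zpowers g'), rfl⟩
  rw [hP] at hu
  exact ⟨_, Subgroup.mem_subgroupOf.mp hu, x, x.2, rfl⟩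

end CfsgLib.Chev.G2Two
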