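import Cfsg.Agent.Chev.Tab

/-!
Kernel checks behind the normal form of the unipotent subgroup: indices increase along the bracket
with a positive root, and coroots are primitive.
-/

set_option autoImplicit false

namespace CfsgLib.Chev

open Cfsg.Lie

namespace Tab

variable {D : ChevalleyDatum} (T : Tab D)

/-- Every key `k` of the chain of a positive root `r` through `s` exceeds `s`; it exceeds `r` if
`s` is positive; it is positive if `r` exceeds `-s`. -/
def chkOrdPair (r s : ℕ) : Bool :=
  (T.ent r s).all fun p =>
    Nat.blt s p.1 &&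
    cond (Nat.ble D.nroots (Nat.mul 2 s)) (Nat.blt r p.1) true &&
    cond (Nat.blt (negR D s) r) (Nat.ble D.nroots (Nat.mul 2 p.1)) true

/-- The gcd of the coroot coefficients. -/
def corGcd (r : ℕ) : ℕ :=
  ((List.range D.rank).map fun j => (T.cor r j).natAbs).foldr Nat.gcd 0

/-- The order checks at the root `r`. -/
def chkOrd (r : ℕ) : Bool :=
  Nat.beq (T.corGcd r) 1 &&
  allBelow (fun j => cond (Nat.ble D.nroots (Nat.mul 2 r))
    (decide (0 ≤ T.cor r j)) (decide (T.cor r j ≤ 0))) D.rank &&
  cond (Nat.ble D.nroots (Nat.mul 2 r))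
    (allBelow (T.chkOrdPair r) D.nroots &&
      allBelow (fun s => cond (Nat.ble D.nroots (Nat.mul 2 s))
        (!(Nat.beq s (negR D r))) true) D.nroots)
    true

end Tab

end CfsgLib.Chev
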