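import Cfsg.Agent.Chev.Group
import Cfsg.Agent.Chev.UCheck

/-! Certified tables with the ordering checks. -/

set_option autoImplicit false

namespace CfsgLib.Chev

open Cfsg.Lie

namespace Tab

variable {D : ChevalleyDatum}

/-- All checks, including those on the order of the indices. -/
structure Good (T : Tab D) : Prop where
  full : T.Full
  ord : ∀ r < D.nroots, T.chkOrd r = true

end Tab

end CfsgLib.Chev
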