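import Cfsg.Agent.Chev.RootMapData
import Cfsg.Agent.Chev.SteinbergData

/-! Graph automorphisms of Chevalley groups. -/

set_option autoImplicit false

namespace CfsgLib.Chev

open Cfsg.Lie Matrix
open scoped MatrixGroups

/-- The root map sends the fundamental roots as specified by a list of nodes and exponents. -/
def chkSimple (D : ChevalleyDatum) (m : List (ℕ × ℤ × ℕ)) (spec : List (ℕ × ℕ)) : Bool :=
  allBelow (fun i =>
    decide (D.simple i < D.nroots ∧ D.neg (D.simple i) < D.nroots ∧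
      Tab.mapAt m (D.simple i) = (D.simple (spec.getD i (0, 1)).1, 1, (spec.getD i (0, 1)).2) ∧
      Tab.mapAt m (D.neg (D.simple i)) =
        (D.neg (D.simple (spec.getD i (0, 1)).1), 1, (spec.getD i (0, 1)).2))) D.rank

theorem exists_graph_auto {D : ChevalleyDatum} {T : Tab D} (G : T.Good) (hW : T.HasWit)
    {F : Type*} [Field F] {p : ℕ} (hp : (p : F) = 0)
    (hadd : 0 < p → ∀ t u : F, (t + u) ^ p = t ^ p + u ^ p)
    (hperf : 0 < p → ∀ v : F, ∃ t, t ^ p = v) {m : List (ℕ × ℤ × ℕ)}
    (hm : T.chkMap p m = true) {spec : List (ℕ × ℕ)} (hs : chkSimple D m spec = true)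
    (hbij : ∀ α : D.group F →* D.group F, Function.Surjective α → Function.Bijective α) :
    ∃ α : D.group F ≃* D.group F, ∀ (g : D.group F) (i : ℕ) (t : F), i < D.rank →
      (((g : GL D.Idx F) : Matrix D.Idx D.Idx F) = D.x F (D.simple i) t →
        ((α g : GL D.Idx F) : Matrix D.Idx D.Idx F) =
          D.x F (D.simple (spec.getD i (0, 1)).1) (t ^ (spec.getD i (0, 1)).2)) ∧
      (((g : GL D.Idx F) : Matrix D.Idx D.Idx F) = D.x F (D.neg (D.simple i)) t →
        ((α g : GL D.Idx F) : Matrix D.Idx D.Idx F) =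
          D.x F (D.neg (D.simple (spec.getD i (0, 1)).1)) (t ^ (spec.getD i (0, 1)).2)) := by
  obtain ⟨α, hα, hx⟩ := G.exists_endo hW hp hadd hperf hm
  simp only [chkSimple, allBelow_iff, decide_eq_true_eq] at hs
  refine ⟨MulEquiv.ofBijective α (hbij α hα), fun g i t hi => ⟨fun hg => ?_, fun hg => ?_⟩⟩
  · obtain ⟨h1, -, h3, -⟩ := hs i hi
    show ((α g : GL D.Idx F) : Matrix D.Idx D.Idx F) = _
    rw [hx g _ t h1 (G.full.eq_x.mp hg), Tab.Good.mapX, h3]
    simp [G.full.coe_x']
  · obtain ⟨-, h2, -, h4⟩ := hs i hi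
    show ((α g : GL D.Idx F) : Matrix D.Idx D.Idx F) = _
    rw [hx g _ t h2 (G.full.eq_x.mp hg), Tab.Good.mapX, h4]
    simp [G.full.coe_x']

theorem graphSimple_E6 : chkSimple chevE6 graphMapE6
    [(5, 1), (1, 1), (4, 1), (3, 1), (2, 1), (0, 1)] = true := by decide +kernel

theorem graphSimple_D4a : chkSimple chevD4 graphMapD4a
    [(2, 1), (1, 1), (3, 1), (0, 1)] = true := by decide +kernel

theorem graphSimple_D4b : chkSimple chevD4 graphMapD4b
    [(3, 1), (1, 1), (0, 1), (2, 1)] = true := by decide +kernel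

theorem graphSimple_B2 : chkSimple chevB2 graphMapB2 [(1, 2), (0, 1)] = true := by decide +kernel

theorem graphSimple_F4 : chkSimple chevF4 graphMapF4
    [(3, 2), (2, 2), (1, 1), (0, 1)] = true := by decide +kernel

theorem graphSimple_G2 : chkSimple chevG2 graphMapG2 [(1, 3), (0, 1)] = true := by decide +kernel

end CfsgLib.Chev
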