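import Cfsg.Agent.Chev.HomocyclicSylow
import Cfsg.Agent.Chev.FoldD4
import Cfsg.Agent.Chev.FoldE6
import Cfsg.Agent.Chev.SteinbergPerf
import Cfsg.Agent.ChevMult.CenterE6
import Cfsg.Agent.Chev.OrdG2
import Cfsg.Agent.Chev.OrdB2
import Cfsg.Agent.Chev.OrdD4
import Cfsg.Agent.Chev.OrdF4
import Cfsg.Agent.Chev.OrdE6
import Cfsg.Agent.Chev.OrdE7
import Cfsg.Agent.Chev.OrdE8
import Cfsg.Agent.S1059
import Cfsg.Agent.S1060
import Cfsg.Agent.S1061
import Cfsg.Agent.S1062
import Cfsg.Agent.S1063
import Cfsg.Agent.S1064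
import Cfsg.Agent.S1065
import Cfsg.Agent.S1054

/-!
The Sylow subgroups of the Chevalley groups for primes away from the characteristic and the Weyl
group are homocyclic.
-/

set_option autoImplicit false
set_option linter.style.haveILetI false

namespace CfsgLib.Chev.Homocyclic

open Cfsg.Lie Tab
open scoped commutatorElement
open scoped MatrixGroups

/-- The exponent of the Sylow `r`-subgroups. -/
noncomputable def expV (q r : ℕ) : ℕ :=
  padicValNat r ((Polynomial.cyclotomic (orderOf (q : ZMod r)) ℤ).eval (q : ℤ)).natAbs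

/-- The number of degrees divisible by the order of `q` modulo `r`. -/
noncomputable def rk (L : List ℕ) (q r : ℕ) : ℕ :=
  (L.filter (fun e => orderOf (q : ZMod r) ∣ e)).length

section Arith

variable {q r : ℕ} [Fact r.Prime]

theorem ord_pos (hrq : ¬ r ∣ q) : 0 < orderOf (q : ZMod r) := by
  have h : (q : ZMod r) ≠ 0 := fun h => hrq ((ZMod.natCast_eq_zero_iff q r).mp h)
  obtain ⟨u, hu⟩ := Ne.isUnit h
  rw [← hu, orderOf_units]
  exact orderOf_pos u

theorem dvd_iff_ord (hq : 1 ≤ q) (e : ℕ) : r ∣ q ^ e - 1 ↔ orderOf (q : ZMod r) ∣ e := by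
  rw [← ZMod.natCast_eq_zero_iff, Nat.cast_sub (Nat.one_le_pow _ _ hq), sub_eq_zero,
    orderOf_dvd_iff_pow_eq_one]
  simp

theorem expV_eq (hq : 1 < q) (hrq : ¬ r ∣ q) :
    expV q r = padicValNat r (q ^ orderOf (q : ZMod r) - 1) := by
  classical
  set d := orderOf (q : ZMod r) with hd
  have hd0 : 0 < d := ord_pos hrq
  have hprod : ((q ^ d - 1 : ℕ) : ℤ).natAbs =
      ∏ i ∈ d.divisors, ((Polynomial.cyclotomic i ℤ).eval (q : ℤ)).natAbs := by
    rw [← Int.natAbsHom_apply, ← Finset.prod_congr rfl (fun i _ => Int.natAbsHom_apply _),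
      ← map_prod, ← Polynomial.eval_prod, Polynomial.prod_cyclotomic_eq_X_pow_sub_one hd0]
    congr 1
    rw [Nat.cast_sub (Nat.one_le_pow _ _ (by omega))]
    simp
  have hne : ∀ i ∈ d.divisors, ((Polynomial.cyclotomic i ℤ).eval (q : ℤ)).natAbs ≠ 0 := by
    intro i hi h0
    have h := hprod
    rw [Finset.prod_eq_zero hi h0, Int.natAbs_natCast] at h
    have := Nat.one_lt_pow hd0.ne' hq
    omega
  have hrest : ¬ r ∣ ∏ i ∈ d.divisors.erase d, ((Polynomial.cyclotomic i ℤ).eval (q : ℤ)).natAbs := by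
    intro h
    obtain ⟨i, hi, hri⟩ := ((Fact.out : r.Prime).prime.dvd_finsetProd_iff _).mp h
    obtain ⟨hne', hid⟩ := Finset.mem_erase.mp hi
    have hi0 : 0 < i := Nat.pos_of_mem_divisors hid
    have h2 : (r : ℤ) ∣ ((q ^ i - 1 : ℕ) : ℤ) := by
      rw [Nat.cast_sub (Nat.one_le_pow _ _ (by omega))]
      refine (Int.natCast_dvd.mpr hri).trans ?_
      have := Polynomial.eval_dvd (x := (q : ℤ)) (Polynomial.cyclotomic.dvd_X_pow_sub_one i ℤ)
      simpa using this
    have h3 : d ∣ i := (dvd_iff_ord (by omega) i).mp (Int.natCast_dvd_natCast.mp h2)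
    have h4 := Nat.le_of_dvd hi0 h3
    have h5 := Nat.le_of_dvd hd0 (Nat.dvd_of_mem_divisors hid)
    omega
  have hself : d ∈ d.divisors := Nat.mem_divisors_self d hd0.ne'
  rw [Int.natAbs_natCast, ← Finset.mul_prod_erase _ _ hself] at hprod
  rw [hprod, padicValNat.mul (hne d hself)
    (Finset.prod_ne_zero_iff.mpr fun i hi => hne i (Finset.mem_of_mem_erase hi)),
    padicValNat.eq_zero_of_not_dvd hrest, add_zero]
  rfl

theorem expV_pos (hq : 1 < q) (hrq : ¬ r ∣ q) : 0 < expV q r := by
  have hd0 := ord_pos (r := r) hrq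
  rw [expV_eq hq hrq]
  exact one_le_padicValNat_of_dvd (by
    have := Nat.one_lt_pow hd0.ne' hq
    omega) ((dvd_iff_ord (by omega) _).mpr dvd_rfl)

theorem val_term (hq : 1 < q) (hrq : ¬ r ∣ q) {e : ℕ} (he : ¬ r ∣ e) :
    padicValNat r (q ^ e - 1) = if orderOf (q : ZMod r) ∣ e then expV q r else 0 := by
  classical
  split_ifs with h
  · obtain ⟨s, hs⟩ := h
    set Q := q ^ orderOf (q : ZMod r) with hQ
    have hQ1 : 1 < Q := Nat.one_lt_pow (ord_pos hrq).ne' hq
    have hgeom : Q ^ s - 1 = (Q - 1) * ∑ i ∈ Finset.range s, Q ^ i := by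
      have h1 : 1 ≤ Q ^ s := Nat.one_le_pow _ _ (by omega)
      zify [h1, hQ1.le]
      rw [mul_comm, geom_sum_mul]
    have hQr : (Q : ZMod r) = 1 := by
      rw [hQ, Nat.cast_pow]; exact pow_orderOf_eq_one _
    have hsum : ¬ r ∣ ∑ i ∈ Finset.range s, Q ^ i := by
      intro h
      rw [← ZMod.natCast_eq_zero_iff, Nat.cast_sum] at h
      simp only [Nat.cast_pow, hQr, one_pow, Finset.sum_const, Finset.card_range,
        nsmul_eq_mul, mul_one, ZMod.natCast_eq_zero_iff] at h
      exact he (hs ▸ dvd_mul_of_dvd_right h _)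
    rw [hs, pow_mul, ← hQ, hgeom, padicValNat.mul (by omega)
      (fun h0 => hsum (by rw [h0]; exact dvd_zero r)), padicValNat.eq_zero_of_not_dvd hsum, add_zero,
      expV_eq hq hrq]
  · exact padicValNat.eq_zero_of_not_dvd fun hd => h ((dvd_iff_ord (by omega) e).mp hd)

theorem val_prod (hq : 1 < q) (hrq : ¬ r ∣ q) : ∀ L : List ℕ, (∀ e ∈ L, 0 < e ∧ ¬ r ∣ e) →
    (L.map fun e => q ^ e - 1).prod ≠ 0 ∧
      padicValNat r (L.map fun e => q ^ e - 1).prod = rk L q r * expV q r := by
  intro L
  induction L with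
  | nil => simp [rk]
  | cons e L ih =>
    intro h
    obtain ⟨h0, h1⟩ := ih fun x hx => h x (List.mem_cons_of_mem _ hx)
    obtain ⟨he0, he⟩ := h e List.mem_cons_self
    have hne : q ^ e - 1 ≠ 0 := by
      have := Nat.one_lt_pow he0.ne' hq
      omega
    refine ⟨by rw [List.map_cons, List.prod_cons]; exact mul_ne_zero hne h0, ?_⟩
    rw [List.map_cons, List.prod_cons, padicValNat.mul hne h0, h1, val_term hq hrq he]
    by_cases hd : orderOf (q : ZMod r) ∣ e
    · simp only [hd, if_true, rk, List.filter_cons, decide_true, List.length_cons]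
      ring
    · simp [hd, rk, List.filter_cons]

theorem not_dvd_of_mem {L : List ℕ} (hW : ¬ r ∣ L.prod) {e : ℕ} (he : e ∈ L) :
    0 < e ∧ ¬ r ∣ e :=
  ⟨Nat.pos_of_ne_zero fun h0 => hW ((h0 ▸ List.dvd_prod he : (0 : ℕ) ∣ L.prod).elim
    fun c hc => by rw [hc, zero_mul]; exact dvd_zero r),
    fun h => hW (h.trans (List.dvd_prod he))⟩

end Arith

/-- The number of degrees and of eigenvalues. -/
def boundOK (n : ℕ) (L X : List ℕ) : Bool :=
  (List.range 31).all fun d =>
    !(L.any fun e => decide (d ∣ e)) || X.contains d ||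
      decide (n < ((L.filter (fun e => d ∣ e)).length + 1) * d.totient)

theorem bound_of_ok {n : ℕ} {L X : List ℕ} (h : boundOK n L X = true) {d : ℕ} (hd : d < 31)
    (he : ∃ e ∈ L, d ∣ e) (hX : d ∉ X) {k : ℕ} (hk : k * d.totient ≤ n) :
    k ≤ (L.filter (fun e => d ∣ e)).length := by
  simp only [boundOK, List.all_eq_true, List.mem_range, Bool.or_eq_true, Bool.not_eq_true',
    List.any_eq_false, decide_eq_true_eq, List.contains_iff_mem] at h
  rcases h d hd with (h1 | h1) | h1
  · obtain ⟨e, he, hde⟩ := he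
    exact absurd hde (h1 e he)
  · exact absurd h1 hX
  · by_contra hlt
    have := Nat.mul_le_mul_right d.totient
      (show (L.filter (fun e => d ∣ e)).length + 1 ≤ k by omega)
    omega

/-- The Sylow subgroups of `G` are homocyclic of the expected shape. -/
def Shape (G : Type*) [Group G] (L : List ℕ) (q r : ℕ) [Fact r.Prime] : Prop :=
  ∀ P : Sylow r G, Nonempty (↥(P : Subgroup G) ≃*
    (Fin (rk L q r) → Multiplicative (ZMod (r ^ expV q r))))

/-- Transfer of Sylow subgroups along a map with kernel of order prime to `r`. -/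
theorem sylow_iso {H G : Type*} [Group H] [Group G] [Finite H] [Finite G] {r : ℕ} [Fact r.Prime]
    (ι : H →* G) (hker : ¬ r ∣ Nat.card ι.ker)
    (hval : padicValNat r (Nat.card H) = padicValNat r (Nat.card G)) (P : Sylow r H)
    (Q : Sylow r G) : Nonempty (↥(P : Subgroup H) ≃* ↥(Q : Subgroup G)) := by
  have hinj : Function.Injective (ι.comp (P : Subgroup H).subtype) := by
    rw [injective_iff_map_eq_one]
    intro x hx
    obtain ⟨j, hj⟩ := (IsPGroup.iff_orderOf.mp P.isPGroup') x
    have h2 : orderOf (x : H) ∣ Nat.card ι.ker :=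
      Subgroup.orderOf_dvd_natCard _ (show (x : H) ∈ ι.ker from hx)
    rw [Subgroup.orderOf_coe, hj] at h2
    rcases Nat.eq_zero_or_pos j with rfl | hpos
    · exact orderOf_eq_one_iff.mp (by simpa using hj)
    · exact absurd ((dvd_pow_self r hpos.ne').trans h2) hker
  let e := MonoidHom.ofInjective hinj
  have hcard : Nat.card (ι.comp (P : Subgroup H).subtype).range =
      r ^ (Nat.card G).factorization r := by
    rw [← Nat.card_congr e.toEquiv, P.card_eq_multiplicity, Nat.factorization_def _ Fact.out,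
      Nat.factorization_def _ Fact.out, hval]
  let Q' : Sylow r G := Sylow.ofCard _ hcard
  exact ⟨(e.trans (MulEquiv.refl _)).trans (Q'.equiv Q)⟩

theorem shape_of_map {H G : Type*} [Group H] [Group G] [Finite H] [Finite G] {r q : ℕ}
    [Fact r.Prime] {L L' : List ℕ} (ι : H →* G) (hker : ¬ r ∣ Nat.card ι.ker)
    (hval : padicValNat r (Nat.card H) = padicValNat r (Nat.card G))
    (hrk : rk L q r = rk L' q r) (h : Shape H L q r) : Shape G L' q r := by
  intro Q
  obtain ⟨P⟩ : Nonempty (Sylow r H) := inferInstance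
  obtain ⟨e⟩ := sylow_iso ι hker hval P Q
  obtain ⟨e'⟩ := h P
  rw [← hrk]
  exact ⟨e.symm.trans e'⟩

theorem shape_of_cover {H G : Type*} [Group H] [Group G] [Finite H] [Finite G] {r q : ℕ}
    [Fact r.Prime] {L : List ℕ} (ι : H →* G) (hker : ¬ r ∣ Nat.card ι.ker)
    (hval : padicValNat r (Nat.card H) = padicValNat r (Nat.card G))
    (h : Shape G L q r) : Shape H L q r := by
  intro P
  obtain ⟨Q⟩ : Nonempty (Sylow r G) := inferInstance
  obtain ⟨e⟩ := sylow_iso ι hker hval P Q
  obtain ⟨e'⟩ := h Q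
  exact ⟨e.trans e'⟩

universe u

variable {F : Type u} [Field F] [Fintype F] {q r : ℕ} [Fact r.Prime]

/-- The valuation of the order of the group. -/
theorem val_card {D : ChevalleyDatum} (hqF : Fintype.card F = q) {d0 N : ℕ} {L : List ℕ}
    (hform : d0 * Nat.card (D.group F) = q ^ N * (L.map fun e => q ^ e - 1).prod)
    (hrq : ¬ r ∣ q) (hd0 : ¬ r ∣ d0) (hW : ¬ r ∣ L.prod) :
    padicValNat r (Nat.card (D.group F)) = rk L q r * expV q r := by
  have hq : 1 < q := hqF ▸ Fintype.one_lt_card
  obtain ⟨hne, hv⟩ := val_prod (r := r) hq hrq L fun e he => not_dvd_of_mem hW he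
  have h := congrArg (padicValNat r) hform
  rw [padicValNat.mul (fun h0 => hd0 (by rw [h0]; exact dvd_zero r)) Nat.card_pos.ne',
    padicValNat.mul (pow_ne_zero _ (by omega)) hne, hv,
    padicValNat.eq_zero_of_not_dvd hd0,
    padicValNat.eq_zero_of_not_dvd (fun hd => hrq ((Fact.out : r.Prime).dvd_of_dvd_pow hd))] at h
  omega

/-- The general case. -/
theorem shape_generic {D : ChevalleyDatum} {T : Tab D} (G : T.Good) (hqF : Fintype.card F = q)
    (hrq : ¬ r ∣ q) {S : SmithData} (hS : T.chkSmith S = true)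
    (hSd : ∀ e ∈ S.d, ¬ r ∣ e) (hpos : ∀ i : Fin D.rank, S.d.getD i.val 0 ≠ 0)
    {ls : List (ℕ × List (ℕ × ℕ) × List ℕ)} (hls : T.chkChain (List.range D.rank) ls = true)
    {L X : List ℕ} (hlen : (ls.map fun l => l.2.2.length).prod = L.prod) (hW : ¬ r ∣ L.prod)
    (hsmall : ∀ e ∈ L, e < 31) (hok : boundOK D.rank L X = true)
    (hX : orderOf (q : ZMod r) ∉ X)
    (hval : padicValNat r (Nat.card (D.group F)) = rk L q r * expV q r)
    (hrG : r ∣ Nat.card (D.group F)) : Shape (D.group F) L q r := by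
  classical
  have hr := (Fact.out : r.Prime)
  set d := orderOf (q : ZMod r) with hd
  have hq : 1 < q := hqF ▸ Fintype.one_lt_card
  have hd0 : 0 < d := ord_pos hrq
  obtain ⟨e, heL, hde⟩ : ∃ e ∈ L, d ∣ e := by
    by_contra hcon
    have hz : rk L q r = 0 := List.length_eq_zero_iff.mpr
      (List.filter_eq_nil_iff.mpr fun e he => by
        simpa using fun h => hcon ⟨e, he, h⟩)
    rw [hz, zero_mul] at hval
    rcases padicValNat.eq_zero_iff.mp hval with h | h | h
    · exact hr.ne_one h
    · exact Nat.card_pos.ne' h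
    · exact h hrG
  obtain ⟨he0, her⟩ := not_dvd_of_mem hW heL
  have hd31 : d < 31 := lt_of_le_of_lt (Nat.le_of_dvd he0 hde) (hsmall e heL)
  intro P
  obtain ⟨p, hp⟩ := CharP.exists F
  haveI := Fact.mk (CharP.char_is_prime F p)
  haveI : NeZero d := ⟨hd0.ne'⟩
  letI := Fintype.ofFinite (FiniteField.Extension F p d)
  obtain ⟨k, j, hk, hj⟩ := G.sylow_embeds (algebraMap F (FiniteField.Extension F p d))
    (d := d) (v := expV q r) hqF
    (by rw [← Nat.card_eq_fintype_card, FiniteField.natCard_extension, Nat.card_eq_fintype_card, hqF])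
    hd0 rfl hS hSd hpos ((G.card_weyl hls).trans hlen) hW (fun h => her (h.trans hde))
    (expV_pos hq hrq) (expV_eq hq hrq).symm P P.isPGroup'
  have hka : k ≤ rk L q r := bound_of_ok hok hd31 ⟨e, heL, hde⟩ hX hk
  haveI : NeZero (r ^ expV q r) := ⟨pow_ne_zero _ hr.ne_zero⟩
  have hP : Nat.card (P : Subgroup (D.group F)) = r ^ (rk L q r * expV q r) := by
    rw [P.card_eq_multiplicity, Nat.factorization_def _ hr, hval]
  have hcod : ∀ t, Nat.card (Multiplicative (Fin t → ZMod (r ^ expV q r))) = r ^ (t * expV q r) :=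
    fun t => by
      rw [Nat.card_congr Multiplicative.toAdd, Nat.card_pi, Finset.prod_const, Nat.card_zmod,
        Finset.card_univ, Fintype.card_fin, ← pow_mul, mul_comm]
  have hle := Nat.card_le_card_of_injective j hj
  rw [hP, hcod, Nat.pow_le_pow_iff_right hr.one_lt,
    Nat.mul_le_mul_right_iff (expV_pos hq hrq)] at hle
  obtain rfl : k = rk L q r := le_antisymm hka hle
  have hbij : Function.Bijective j :=
    (Nat.bijective_iff_injective_and_card j).mpr ⟨hj, hP.trans (hcod _).symm⟩
  exact ⟨(MulEquiv.ofBijective j hbij).trans (MulEquiv.piMultiplicative _)⟩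

theorem not_dvd_small {L : List ℕ} (hW : ¬ r ∣ L.prod) {l : List ℕ}
    (h : ∀ e ∈ l, e ∣ L.prod) : ∀ e ∈ l, ¬ r ∣ e := fun e he hd => hW (hd.trans (h e he))

theorem case_G2 (hqF : Fintype.card F = q) (hrq : ¬ r ∣ q) (hW : ¬ r ∣ [2, 6].prod) :
    padicValNat r (Nat.card (chevG2.group F)) = rk [2, 6] q r * expV q r ∧
      (r ∣ Nat.card (chevG2.group F) → Shape (chevG2.group F) [2, 6] q r) := by
  have hv := val_card (D := chevG2) hqF (d0 := 1) (N := 6) (L := [2, 6])
    (by rw [one_mul, Cfsg.Agent.S1059.result hqF]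
        simp only [List.map_cons, List.map_nil, List.prod_cons, List.prod_nil]; ring) hrq
    (Fact.out : r.Prime).not_dvd_one hW
  exact ⟨hv, shape_generic (X := []) good_G2 hqF hrq G2Data.smith_ok
    (not_dvd_small hW (by decide)) (by decide) G2Data.levels_ok (by decide) hW (by decide)
    (by decide +kernel) (by simp) hv⟩

theorem case_B2 (hqF : Fintype.card F = q) (hrq : ¬ r ∣ q) (hW : ¬ r ∣ [2, 4].prod) :
    padicValNat r (Nat.card (chevB2.group F)) = rk [2, 4] q r * expV q r ∧
      (r ∣ Nat.card (chevB2.group F) → Shape (chevB2.group F) [2, 4] q r) := by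
  have hv := val_card (D := chevB2) hqF (d0 := Nat.gcd 2 (q - 1)) (N := 4) (L := [2, 4])
    (by rw [Cfsg.Agent.S1060.result hqF]
        simp only [List.map_cons, List.map_nil, List.prod_cons, List.prod_nil]; ring) hrq
    (fun h => hW (h.trans ((Nat.gcd_dvd_left _ _).trans (by decide)))) hW
  exact ⟨hv, shape_generic (X := []) good_B2 hqF hrq B2Data.smith_ok
    (not_dvd_small hW (by decide)) (by decide) B2Data.levels_ok (by decide) hW (by decide)
    (by decide +kernel) (by simp) hv⟩

theorem case_F4 (hqF : Fintype.card F = q) (hrq : ¬ r ∣ q) (hW : ¬ r ∣ [2, 6, 8, 12].prod) :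
    padicValNat r (Nat.card (chevF4.group F)) = rk [2, 6, 8, 12] q r * expV q r ∧
      (r ∣ Nat.card (chevF4.group F) → Shape (chevF4.group F) [2, 6, 8, 12] q r) := by
  have hv := val_card (D := chevF4) hqF (d0 := 1) (N := 24) (L := [2, 6, 8, 12])
    (by rw [one_mul, Cfsg.Agent.S1062.result hqF]
        simp only [List.map_cons, List.map_nil, List.prod_cons, List.prod_nil]; ring) hrq
    (Fact.out : r.Prime).not_dvd_one hW
  exact ⟨hv, shape_generic (X := []) good_F4 hqF hrq F4Data.smith_ok
    (not_dvd_small hW (by decide)) (by decide) F4Data.levels_ok (by decide) hW (by decide)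
    (by decide +kernel) (by simp) hv⟩

theorem case_E8 (hqF : Fintype.card F = q) (hrq : ¬ r ∣ q)
    (hW : ¬ r ∣ [2, 8, 12, 14, 18, 20, 24, 30].prod) :
    padicValNat r (Nat.card (chevE8.group F)) =
        rk [2, 8, 12, 14, 18, 20, 24, 30] q r * expV q r ∧
      (r ∣ Nat.card (chevE8.group F) →
        Shape (chevE8.group F) [2, 8, 12, 14, 18, 20, 24, 30] q r) := by
  have hv := val_card (D := chevE8) hqF (d0 := 1) (N := 120)
    (L := [2, 8, 12, 14, 18, 20, 24, 30])
    (by rw [one_mul, Cfsg.Agent.S1065.result hqF]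
        simp only [List.map_cons, List.map_nil, List.prod_cons, List.prod_nil]; ring) hrq
    (Fact.out : r.Prime).not_dvd_one hW
  exact ⟨hv, shape_generic (X := []) good_E8 hqF hrq E8Data.smith_ok
    (not_dvd_small hW (by decide)) (by decide) E8Data.levels_ok (by decide +kernel) hW (by decide)
    (by decide +kernel) (by simp) hv⟩

theorem case_D4 (hqF : Fintype.card F = q) (hrq : ¬ r ∣ q) (hW : ¬ r ∣ [2, 4, 4, 6].prod) :
    padicValNat r (Nat.card (chevD4.group F)) = rk [2, 4, 4, 6] q r * expV q r ∧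
      (r ∣ Nat.card (chevD4.group F) → Shape (chevD4.group F) [2, 4, 4, 6] q r) := by
  have hv := val_card (D := chevD4) hqF (d0 := Nat.gcd 2 (q - 1) ^ 2) (N := 12) (L := [2, 4, 4, 6])
    (by rw [Cfsg.Agent.S1061.result hqF]
        simp only [List.map_cons, List.map_nil, List.prod_cons, List.prod_nil]; ring) hrq
    (fun h => hW ((Fact.out : r.Prime).dvd_of_dvd_pow h |>.trans
      ((Nat.gcd_dvd_left _ _).trans (by decide)))) hW
  refine ⟨hv, fun hrG => ?_⟩
  by_cases hX : orderOf (q : ZMod r) ∈ [3, 6]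
  · have hW' : ¬ r ∣ [2, 6].prod := fun h => hW (h.trans (by decide))
    obtain ⟨hv', hsh⟩ := case_G2 (F := F) hqF hrq hW'
    have hrk : rk [2, 6] q r = rk [2, 4, 4, 6] q r := by
      simp only [List.mem_cons, List.not_mem_nil, or_false] at hX
      rcases hX with h | h <;> simp [rk, h]
    obtain ⟨C⟩ := D4Fold.exists_ctx (F := F)
    obtain ⟨e⟩ := D4Fold.fixed_iso C
    have hle : C.Φ.Fix ≤ chevD4.group F := fun g hg => hg.1
    let ι : chevG2.group F →* chevD4.group F := (Subgroup.inclusion hle).comp e.toMonoidHom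
    have hval : padicValNat r (Nat.card (chevG2.group F)) =
        padicValNat r (Nat.card (chevD4.group F)) := by rw [hv', hv, hrk]
    refine shape_of_map ι ?_ hval hrk (hsh ?_)
    · rw [(MonoidHom.ker_eq_bot_iff ι).mpr
        ((Subgroup.inclusion_injective hle).comp e.injective), Subgroup.card_bot]
      exact (Fact.out : r.Prime).not_dvd_one
    · refine dvd_of_one_le_padicValNat ?_
      rw [hval]
      exact one_le_padicValNat_of_dvd Nat.card_pos.ne' hrG
  · exact shape_generic (X := [3, 6]) good_D4 hqF hrq D4Data.smith_ok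
      (not_dvd_small hW (by decide)) (by decide) D4Data.levels_ok (by decide) hW (by decide)
      (by decide +kernel) hX hv hrG

theorem case_E6 (hqF : Fintype.card F = q) (hrq : ¬ r ∣ q)
    (hW : ¬ r ∣ [2, 5, 6, 8, 9, 12].prod) :
    padicValNat r (Nat.card (chevE6.group F)) = rk [2, 5, 6, 8, 9, 12] q r * expV q r ∧
      (r ∣ Nat.card (chevE6.group F) → Shape (chevE6.group F) [2, 5, 6, 8, 9, 12] q r) := by
  have hv := val_card (D := chevE6) hqF (d0 := Nat.gcd 3 (q - 1)) (N := 36)
    (L := [2, 5, 6, 8, 9, 12])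
    (by rw [Cfsg.Agent.S1063.result hqF]
        simp only [List.map_cons, List.map_nil, List.prod_cons, List.prod_nil]; ring) hrq
    (fun h => hW (h.trans ((Nat.gcd_dvd_left _ _).trans (by decide)))) hW
  refine ⟨hv, fun hrG => ?_⟩
  by_cases hX : orderOf (q : ZMod r) ∈ [2, 4, 6]
  · have hW' : ¬ r ∣ [2, 6, 8, 12].prod := fun h => hW (h.trans (by decide))
    obtain ⟨hv', hsh⟩ := case_F4 (F := F) hqF hrq hW'
    have hrk : rk [2, 6, 8, 12] q r = rk [2, 5, 6, 8, 9, 12] q r := by
      simp only [List.mem_cons, List.not_mem_nil, or_false] at hX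
      rcases hX with h | h | h <;> simp [rk, h]
    obtain ⟨C⟩ := E6Fold.exists_ctx (F := F)
    obtain ⟨e⟩ := E6Fold.fixed_iso C
    have hle : C.Φ.Fix ≤ chevE6.group F := fun g hg => hg.1
    let ι : chevF4.group F →* chevE6.group F := (Subgroup.inclusion hle).comp e.toMonoidHom
    have hval : padicValNat r (Nat.card (chevF4.group F)) =
        padicValNat r (Nat.card (chevE6.group F)) := by rw [hv', hv, hrk]
    refine shape_of_map ι ?_ hval hrk (hsh ?_)
    · rw [(MonoidHom.ker_eq_bot_iff ι).mpr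
        ((Subgroup.inclusion_injective hle).comp e.injective), Subgroup.card_bot]
      exact (Fact.out : r.Prime).not_dvd_one
    · refine dvd_of_one_le_padicValNat ?_
      rw [hval]
      exact one_le_padicValNat_of_dvd Nat.card_pos.ne' hrG
  · exact shape_generic (X := [2, 4, 6]) good_E6 hqF hrq E6Data.smith_ok
      (not_dvd_small hW (by decide)) (by decide) E6Data.levels_ok (by decide) hW (by decide)
      (by decide +kernel) hX hv hrG

theorem case_E7 (hqF : Fintype.card F = q) (hrq : ¬ r ∣ q)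
    (hW : ¬ r ∣ [2, 6, 8, 10, 12, 14, 18].prod) :
    padicValNat r (Nat.card (chevE7.group F)) = rk [2, 6, 8, 10, 12, 14, 18] q r * expV q r ∧
      (r ∣ Nat.card (chevE7.group F) → Shape (chevE7.group F) [2, 6, 8, 10, 12, 14, 18] q r) := by
  have hv := val_card (D := chevE7) hqF (d0 := Nat.gcd 2 (q - 1)) (N := 63)
    (L := [2, 6, 8, 10, 12, 14, 18])
    (by rw [Cfsg.Agent.S1064.result hqF]
        simp only [List.map_cons, List.map_nil, List.prod_cons, List.prod_nil]; ring) hrq
    (fun h => hW (h.trans ((Nat.gcd_dvd_left _ _).trans (by decide)))) hW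
  refine ⟨hv, fun hrG => ?_⟩
  by_cases hX : orderOf (q : ZMod r) = 4
  · have hW' : ¬ r ∣ [2, 5, 6, 8, 9, 12].prod := fun h =>
      hW (h.trans (by decide))
    obtain ⟨hv', hsh⟩ := case_E6 (F := F) hqF hrq hW'
    have hrk : rk [2, 5, 6, 8, 9, 12] q r = rk [2, 6, 8, 10, 12, 14, 18] q r := by simp [rk, hX]
    have hperf : commutator (chevE6.SteinbergCover F) = ⊤ :=
      commutator_steinbergCover _ (by simp)
        (fun h => absurd h (by simp [chevE6, chevB2, chevG2]))
    obtain ⟨ψ, hψ⟩ := CfsgLib.ChevMult.exists_emb (F := F) good_E6 good_E7 CfsgLib.ChevMult.embE6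
    obtain ⟨eK⟩ := CfsgLib.ChevMult.scθ_ker_equiv (F := F) good_E6 good_E7 CfsgLib.ChevMult.embE6
      ⟨_, wits_E6⟩ (by simp) CfsgLib.ChevMult.kerE6 CfsgLib.ChevMult.kerE6_ok
    have hsurj : Function.Surjective (good_E6.scθ F) := by
      rintro ⟨g, hg⟩
      rw [← (good_E6.scData (good_E6.scθ F) fun r t hr => good_E6.coe_scθ hr t).θ_range] at hg
      obtain ⟨e, he⟩ := hg
      exact ⟨e, Subtype.ext he⟩
    have hkerc : Nat.card (good_E6.scθ F).ker = Nat.gcd (q - 1) 3 := by
      rw [Nat.card_congr eK.toEquiv, IsCyclic.card_powMonoidHom_ker, Nat.card_units,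
        Nat.card_eq_fintype_card, hqF]
      rfl
    have hkerr : ¬ r ∣ Nat.card (good_E6.scθ F).ker := fun h => by
      rw [hkerc] at h
      exact hW (h.trans ((Nat.gcd_dvd_right _ _).trans (by decide)))
    haveI hfin : Finite (chevE6.SteinbergCover F) := Nat.finite_of_card_ne_zero (by
      rw [← (good_E6.scθ F).ker.card_mul_index, Subgroup.index_ker,
        MonoidHom.range_eq_top.mpr hsurj]
      refine mul_ne_zero ?_ Nat.card_pos.ne'
      rw [hkerc]
      exact (Nat.gcd_pos_of_pos_right _ (by norm_num)).ne')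
    have hvalC : padicValNat r (Nat.card (chevE6.SteinbergCover F)) =
        padicValNat r (Nat.card (chevE6.group F)) := by
      rw [← (good_E6.scθ F).ker.card_mul_index, Subgroup.index_ker,
        MonoidHom.range_eq_top.mpr hsurj, Nat.card_congr Subgroup.topEquiv.toEquiv,
        padicValNat.mul Nat.card_pos.ne' Nat.card_pos.ne',
        padicValNat.eq_zero_of_not_dvd hkerr, zero_add]
    -- the kernel of the map into E7
    haveI : IsSimpleGroup (chevE6.group F) := (Cfsg.Agent.S1054.result chevE6 (by simp)).1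
    have hkle : ψ.ker ≤ (good_E6.scθ F).ker := by
      haveI : (ψ.ker.map (good_E6.scθ F)).Normal := (inferInstance : ψ.ker.Normal).map _ hsurj
      rcases (this : (ψ.ker.map (good_E6.scθ F)).Normal).eq_bot_or_eq_top with h | h
      · exact (Subgroup.map_eq_bot_iff _).mp h
      · exfalso
        have htriv : ∀ a b : chevE6.SteinbergCover F, ψ ⁅a, b⁆ = 1 := by
          intro a b
          obtain ⟨k, hk, hka⟩ : good_E6.scθ F a ∈ ψ.ker.map (good_E6.scθ F) := h ▸ Subgroup.mem_top _
          have hz : k⁻¹ * a ∈ Subgroup.center (chevE6.SteinbergCover F) := by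
            rw [← (good_E6.scData (good_E6.scθ F) fun r t hr => good_E6.coe_scθ hr t).ker_eq_center
              ⟨_, wits_E6⟩, MonoidHom.mem_ker]
            show ((good_E6.scθ F (k⁻¹ * a) : chevE6.group F) : GL chevE6.Idx F) = 1
            rw [map_mul, map_inv, hka, inv_mul_cancel]
            rfl
          have e : ψ a = ψ (k⁻¹ * a) := by rw [map_mul, map_inv, MonoidHom.mem_ker.mp hk, inv_one, one_mul]
          rw [map_commutatorElement, e, ← map_commutatorElement]
          rw [show ⁅k⁻¹ * a, b⁆ = 1 from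
            commutatorElement_eq_one_iff_mul_comm.mpr (Subgroup.mem_center_iff.mp hz b).symm,
            map_one]
        have hone : ∀ a, ψ a = 1 := fun a => by
          have hle : commutator (chevE6.SteinbergCover F) ≤ ψ.ker := by
            rw [commutator_def, Subgroup.commutator_le]
            exact fun a _ b _ => htriv a b
          exact hle (hperf ▸ Subgroup.mem_top a)
        have h0 : (0 : ℕ) < chevE6.nroots := by decide
        have hx := hψ 0 h0 1
        rw [hone] at hx
        exact one_ne_zero (good_E7.x_eq_one (by decide) hx.symm)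
    have hψG : ∀ a, ψ a ∈ chevE7.group F := fun a => by
      have hle : (⊤ : Subgroup (chevE6.SteinbergCover F)) ≤ (chevE7.group F).comap ψ := by
        rw [← PresentedGroup.closure_range_of (rels := chevE6.steinbergRelsAB F)]
        refine (Subgroup.closure_le _).mpr ?_
        rintro _ ⟨p, rfl⟩
        have e : PresentedGroup.of (rels := chevE6.steinbergRelsAB F) p =
            chevE6.scGen F p.1.val p.2 := by
          simp [ChevalleyDatum.scGen, ChevalleyDatum.stX]; rfl
        rw [SetLike.mem_coe, Subgroup.mem_comap, e, hψ _ p.1.isLt]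
        exact good_E7.x_mem_group _ _
      exact hle (Subgroup.mem_top a)
    let ι : chevE6.SteinbergCover F →* chevE7.group F := ψ.codRestrict _ hψG
    have hιker : ι.ker = ψ.ker := by
      ext a
      simp [ι, MonoidHom.mem_ker, Subtype.ext_iff]
    refine shape_of_map ι ?_ (by rw [hvalC, hv', hv, hrk]) hrk
      (shape_of_cover (good_E6.scθ F) hkerr hvalC (hsh ?_))
    · rw [hιker]
      exact fun h => hkerr (h.trans (Subgroup.card_dvd_of_le hkle))
    · refine dvd_of_one_le_padicValNat ?_
      rw [hv', hrk, ← hv]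
      exact one_le_padicValNat_of_dvd Nat.card_pos.ne' hrG
  · exact shape_generic (X := [4]) good_E7 hqF hrq E7Data.smith_ok
      (not_dvd_small hW (by decide)) (by decide) E7Data.levels_ok (by decide +kernel) hW (by decide)
      (by decide +kernel) (by simpa using hX) hv hrG

end CfsgLib.Chev.Homocyclic
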