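import Cfsg.Agent.Chev.TorusInvol
import Cfsg.Agent.Chev.Card
import Cfsg.Agent.Chev.PoincareFast
import Mathlib.Algebra.Polynomial.Inductions
import Mathlib.Algebra.Polynomial.Eval.Degree

/-!
Involutions of the torus as bit vectors, their fusion under the Weyl group, and the orders of
their centralisers.
-/

set_option autoImplicit false
set_option linter.style.haveILetI false

namespace CfsgLib.Chev

open Cfsg.Lie Matrix
open scoped MatrixGroups

/-- A complete binary tree of natural numbers. -/
inductive BTree where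
  | leaf (v : ℕ)
  | node (l r : BTree)

/-- The tree tabulating a function. -/
def BTree.mk : ℕ → (ℕ → ℕ) → BTree
  | 0, f => .leaf (f 0)
  | k + 1, f => .node (BTree.mk k fun b => f (Nat.mul 2 b))
      (BTree.mk k fun b => f (Nat.add (Nat.mul 2 b) 1))

/-- Look-up. -/
def BTree.get : BTree → ℕ → ℕ
  | .leaf v, _ => v
  | .node l r, b => cond (Nat.beq (Nat.mod b 2) 0) (l.get (Nat.div b 2)) (r.get (Nat.div b 2))

/-- Pointwise sum. -/
def BTree.add : BTree → BTree → BTree
  | .leaf a, .leaf b => .leaf (Nat.add a b)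
  | .node a b, .node c d => .node (a.add c) (b.add d)
  | a, _ => a

/-- All branches have length `k`. -/
def BTree.Depth : BTree → ℕ → Prop
  | .leaf _, k => k = 0
  | .node l r, k => ∃ j, k = j + 1 ∧ l.Depth j ∧ r.Depth j

theorem BTree.mk_depth : ∀ (k : ℕ) (f : ℕ → ℕ), (BTree.mk k f).Depth k
  | 0, _ => rfl
  | k + 1, _ => ⟨k, rfl, BTree.mk_depth k _, BTree.mk_depth k _⟩

theorem BTree.get_mk : ∀ (k : ℕ) (f : ℕ → ℕ) (b : ℕ), b < 2 ^ k → (BTree.mk k f).get b = f b := by
  intro k
  induction k with
  | zero => intro f b hb; simp only [pow_zero, Nat.lt_one_iff] at hb; subst hb; rfl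
  | succ k ih =>
    intro f b hb
    have hb2 : b / 2 < 2 ^ k := by rw [pow_succ] at hb; omega
    show cond (Nat.beq (b % 2) 0) _ _ = _
    rcases Nat.mod_two_eq_zero_or_one b with h | h
    · rw [h]
      show (BTree.mk k _).get (b / 2) = _
      rw [ih _ _ hb2]
      show f (2 * (b / 2)) = f b
      congr 1; omega
    · rw [h]
      show (BTree.mk k _).get (b / 2) = _
      rw [ih _ _ hb2]
      show f (2 * (b / 2) + 1) = f b
      congr 1; omega

theorem BTree.add_spec : ∀ (s t : BTree) (k : ℕ), s.Depth k → t.Depth k →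
    (s.add t).Depth k ∧ ∀ b, (s.add t).get b = s.get b + t.get b
  | .leaf _, .leaf _, _, h, _ => ⟨h, fun _ => rfl⟩
  | .leaf _, .node _ _, k, h, h' => by
    obtain ⟨j, rfl, -⟩ := h'
    exact absurd h (Nat.succ_ne_zero j)
  | .node _ _, .leaf _, k, h, h' => by
    obtain ⟨j, rfl, -⟩ := h
    exact absurd h' (Nat.succ_ne_zero j)
  | .node a b, .node c d, k, h, h' => by
    obtain ⟨j, rfl, ha, hb⟩ := h
    obtain ⟨i, hi, hc, hd⟩ := h'
    obtain rfl : j = i := by omega
    obtain ⟨h1, h2⟩ := BTree.add_spec a c j ha hc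
    obtain ⟨h3, h4⟩ := BTree.add_spec b d j hb hd
    refine ⟨⟨j, rfl, h1, h3⟩, fun x => ?_⟩
    show cond _ ((a.add c).get _) ((b.add d).get _) = cond _ _ _ + cond _ _ _
    rw [h2, h4]
    cases Nat.beq (Nat.mod x 2) 0 <;> rfl

/-- Parity of the bits below `k`. -/
def oddBits : ℕ → ℕ → Bool
  | 0, _ => false
  | k + 1, b => xor (Nat.beq (Nat.mod b 2) 1) (oddBits k (Nat.div b 2))

theorem oddBits_prod {R : Type*} [CommGroup R] [HasDistribNeg R] : ∀ (k b : ℕ),
    (if oddBits k b then (-1 : R) else 1) =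
      ∏ i ∈ Finset.range k, if Nat.testBit b i then (-1 : R) else 1
  | 0, b => by simp [oddBits]
  | k + 1, b => by
    rw [Finset.prod_range_succ', oddBits, show Nat.div b 2 = b / 2 from rfl]
    simp only [Nat.testBit_succ]
    rw [← oddBits_prod k (b / 2), Nat.testBit_zero]
    show (if xor (Nat.beq (b % 2) 1) (oddBits k (b / 2)) then (-1 : R) else 1) = _
    rcases Nat.mod_two_eq_zero_or_one b with h | h <;> rw [h] <;>
      cases oddBits k (b / 2) <;> simp

namespace Tab

variable {D : ChevalleyDatum}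

/-- The masks record the parity of the Cartan matrix. -/
def chkMask (T : Tab D) (ms : List ℕ) : Bool :=
  allBelow (fun j => Nat.blt (ms.getD j 0) (Nat.pow 2 D.rank) && allBelow (fun i =>
    decide (Nat.testBit (ms.getD j 0) i = decide (T.cart i (D.simple j) % 2 = 1))) D.rank) D.rank

/-- A fundamental reflection on bit vectors. -/
def stp (l : ℕ) (ms : List ℕ) (j b : ℕ) : ℕ :=
  cond (oddBits l (Nat.land b (ms.getD j 0))) (Nat.xor b (Nat.pow 2 j)) b

/-- One step of the count. -/
def stepU (B l : ℕ) (ms : List ℕ) (j : ℕ) (U : BTree) : BTree :=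
  BTree.mk l fun b => cond (oddBits l (Nat.land b (ms.getD j 0)))
    (U.get (stp l ms j b)) (Nat.mul B (U.get (stp l ms j b)))

/-- The counts of one orbit. -/
def countUs (B l : ℕ) (ms : List ℕ) (V : BTree) (par : List (ℕ × ℕ)) : List BTree :=
  par.foldl (fun O p => O ++ [stepU B l ms p.1 (O.getD p.2 V)]) [V]

/-- The counts of one level. -/
def countLevel (B l : ℕ) (ms : List ℕ) (V : BTree) (par : List (ℕ × ℕ)) : BTree :=
  (countUs B l ms V par).tail.foldl BTree.add V

/-- The counts of the whole chain. -/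
def countAll (B l : ℕ) (ms : List ℕ) (b : ℕ) (ls : List (ℕ × List (ℕ × ℕ) × List ℕ)) : BTree :=
  ls.foldr (fun x V => countLevel B l ms V x.2.1) (BTree.mk l fun s => cond (Nat.beq s b) 1 0)

/-- The bit vectors reached from `r`. -/
def orbB (l : ℕ) (ms : List ℕ) (r : ℕ) (par : List (ℕ × ℕ)) : List ℕ :=
  par.foldl (fun O p => O ++ [stp l ms p.1 (O.getD p.2 r)]) [r]

/-- Every non-zero bit vector is reached from one of two. -/
def chkCover (T : Tab D) (ms : List ℕ) (r r' : ℕ) (par par' : List (ℕ × ℕ)) : Bool :=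
  T.chkMask ms && (par ++ par').all (fun p => Nat.blt p.1 D.rank) &&
    allBelow (fun b => Nat.beq b 0 || (orbB D.rank ms r par).contains b ||
      (orbB D.rank ms r' par').contains b) (Nat.pow 2 D.rank)

open scoped Classical in
/-- The weighted count of the elements of `W_J` carrying `c` to `c'`. -/
noncomputable def Full.cpoly {T : Tab D} (H : T.Full) {F : Type*} [Field F] (J : List ℕ)
    (c c' : Fin D.rank → Fˣ) {R : Type*} [CommSemiring R] (q : R) : R :=
  ∑ σ ∈ Finset.univ.filter (fun σ => σ ∈ H.WJ J ∧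
      ∀ s : Fin D.nroots, T.chi (F := F) (σ s).val c' = T.chi s.val c),
    q ^ ((invSet σ).filter fun s => T.chi (F := F) s.val c = 1).card

/-- The torus element of a bit vector. -/
def cbit (D : ChevalleyDatum) (F : Type*) [Field F] (b : ℕ) : Fin D.rank → Fˣ :=
  fun i => if Nat.testBit b i then -1 else 1

theorem cbit_inj {F : Type*} [Field F] (h2 : (2 : F) ≠ 0) {b b' : ℕ} (hb : b < 2 ^ D.rank)
    (hb' : b' < 2 ^ D.rank) (e : cbit D F b = cbit D F b') : b = b' := by
  refine Nat.eq_of_testBit_eq fun i => ?_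
  by_cases hi : i < D.rank
  · have h := congrArg Units.val (congrFun e ⟨i, hi⟩)
    have hne : (-1 : F) ≠ 1 := fun h => h2 (by linear_combination -h)
    simp only [cbit] at h
    cases h1 : Nat.testBit b i <;> cases h3 : Nat.testBit b' i <;>
      simp [h1, h3] at h ⊢ <;> first | exact hne h | exact hne h.symm
  · have hp : 2 ^ D.rank ≤ 2 ^ i := Nat.pow_le_pow_right (by norm_num) (not_lt.mp hi)
    rw [Nat.testBit_eq_false_of_lt (lt_of_lt_of_le hb hp),
      Nat.testBit_eq_false_of_lt (lt_of_lt_of_le hb' hp)]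

theorem cbit_zero {F : Type*} [Field F] : cbit D F 0 = 1 := by
  funext i; simp [cbit]

namespace Good

variable {T : Tab D} (G : T.Good) {F : Type*} [Field F]
include G

omit G in
theorem chi_cbit {ms : List ℕ} (hms : T.chkMask ms = true) (j : Fin D.rank) (b : ℕ) :
    T.chi (F := F) (D.simple j) (cbit D F b) =
      if oddBits D.rank (Nat.land b (ms.getD j 0)) then -1 else 1 := by
  simp only [chkMask, allBelow_iff, Bool.and_eq_true, decide_eq_true_eq] at hms
  rw [oddBits_prod (R := Fˣ), ← Fin.prod_univ_eq_prod_range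
    (fun i => if Nat.testBit (Nat.land b (ms.getD j 0)) i then (-1 : Fˣ) else 1)]
  show ∏ i : Fin D.rank, cbit D F b i ^ T.cart i (D.simple j) = _
  refine Finset.prod_congr rfl fun i _ => ?_
  rw [show Nat.land b (ms.getD j 0) = b &&& ms.getD j 0 from rfl, Nat.testBit_and,
    (hms j j.isLt).2 i i.isLt]
  simp only [cbit]
  cases Nat.testBit b i
  · simp
  · simp only [if_true, Bool.true_and, decide_eq_true_eq]
    by_cases h : T.cart i (D.simple j) % 2 = 1
    · rw [if_pos h, Odd.neg_one_zpow (Int.odd_iff.mpr h)]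
    · rw [if_neg h, Even.neg_one_zpow (Int.even_iff.mpr (by omega))]

omit G in
theorem cbit_stp {ms : List ℕ} (hms : T.chkMask ms = true) (j : Fin D.rank) (b : ℕ) :
    cbit D F (stp D.rank ms j b) =
      cbit D F b * Pi.mulSingle j (T.chi (F := F) (D.simple j) (cbit D F b))⁻¹ := by
  rw [chi_cbit hms j b]
  funext i
  simp only [stp]
  cases oddBits D.rank (Nat.land b (ms.getD j 0))
  · simp [Pi.mul_apply]
  · simp only [cond_true, if_true, Pi.mul_apply, cbit]
    rw [show Nat.xor b (Nat.pow 2 j) = b ^^^ 2 ^ (j : ℕ) from rfl]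
    simp only [Nat.testBit_xor, Nat.testBit_two_pow]
    rcases eq_or_ne i j with rfl | h
    · cases Nat.testBit b i <;> simp
    · have : ¬ (j : ℕ) = i := fun e => h (Fin.ext e.symm)
      simp [h, this]

theorem chi_refl_single (j : Fin D.rank) (s : Fin D.nroots) (c : Fin D.rank → Fˣ) :
    T.chi (F := F) (G.full.refl j s).val (c * Pi.mulSingle j (T.chi (F := F) (D.simple j) c)⁻¹) =
      T.chi (F := F) s.val c := by
  show T.chi (F := F) (T.reflT j s) _ = _
  rw [G.full.chi_reflT j.isLt s.isLt, map_mul, map_mul]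
  have h1 : ∀ r, T.chi (F := F) r (Pi.mulSingle j (T.chi (F := F) (D.simple j) c)⁻¹) =
      (T.chi (F := F) (D.simple j) c)⁻¹ ^ T.cart j r := fun r => by
    show ∏ k, (Pi.mulSingle j (T.chi (F := F) (D.simple j) c)⁻¹ : Fin D.rank → Fˣ) k ^
      T.cart k r = _
    rw [Finset.prod_eq_single j (fun k _ hk => by simp [hk]) (by simp), Pi.mulSingle_eq_same]
  rw [h1, h1, (G.full.node_spec j.isLt).2.2.1, mul_assoc]
  refine mul_eq_left.mpr ?_
  rw [mul_zpow, ← _root_.zpow_mul, _root_.inv_zpow, _root_.inv_zpow, ← _root_.zpow_neg,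
    ← _root_.zpow_neg, ← _root_.zpow_add, ← _root_.zpow_add]
  convert _root_.zpow_zero (T.chi (F := F) (D.simple j) c) using 2
  ring

theorem chi_refl_stp {ms : List ℕ} (hms : T.chkMask ms = true) (j : Fin D.rank)
    (s : Fin D.nroots) (b : ℕ) :
    T.chi (F := F) (G.full.refl j s).val (cbit D F (stp D.rank ms j b)) =
      T.chi (F := F) s.val (cbit D F b) := by
  rw [cbit_stp hms]
  exact G.chi_refl_single j s _

omit G in
theorem stp_lt {ms : List ℕ} {j b : ℕ} (hj : j < D.rank) (hb : b < 2 ^ D.rank) :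
    stp D.rank ms j b < 2 ^ D.rank := by
  simp only [stp]
  cases oddBits D.rank (Nat.land b (ms.getD j 0))
  · exact hb
  · exact Nat.xor_lt_two_pow hb (Nat.pow_lt_pow_right (by norm_num) hj)

/-- Composition with a fundamental reflection, on the left. -/
theorem inv_left {σ : Equiv.Perm (Fin D.nroots)} (hσ : σ ∈ G.full.WJ (List.range D.rank))
    (j : Fin D.rank) (hp : IsPos D (σ.symm (G.full.simp' j)).val) :
    invSet (G.full.refl j * σ) = insert (σ.symm (G.full.simp' j)) (invSet σ) ∧
      σ.symm (G.full.simp' j) ∉ invSet σ := by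
  refine ⟨?_, fun h => (mem_inv.mp h).2 (by rw [Equiv.apply_symm_apply]; exact G.pos_simp j)⟩
  ext x
  rw [Finset.mem_insert, mem_inv, mem_inv, Equiv.Perm.mul_apply]
  constructor
  · rintro ⟨h1, h2⟩
    by_cases h : IsPos D (σ x).val
    · refine Or.inl ?_
      rw [eq_comm, Equiv.symm_apply_eq]
      by_contra e
      exact h2 (G.refl_pos j h (fun e' => e e'.symm)).1
    · exact Or.inr ⟨h1, h⟩
  · rintro (rfl | ⟨h1, h2⟩)
    · refine ⟨hp, ?_⟩
      rw [Equiv.apply_symm_apply, G.refl_simp, G.pos_negF, not_not]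
      exact G.pos_simp j
    · refine ⟨h1, fun h => ?_⟩
      rcases eq_or_ne (G.full.refl j (σ x)) (G.full.simp' j) with e | e
      · have e' : σ x = negF (G.full.simp' j) := by
          rw [← G.refl_inj_left j (s := σ x), e, G.refl_simp]
        have e'' : x = negF (σ.symm (G.full.simp' j)) := σ.injective (by
          rw [e', G.negF_WJ hσ, Equiv.apply_symm_apply])
        rw [e''] at h1
        exact G.pos_negF.mp h1 hp
      · have := (G.refl_pos j h e).1
        rw [G.refl_inj_left] at this
        exact h2 this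

theorem mem_full (J : List ℕ) {σ : Equiv.Perm (Fin D.nroots)} (h : σ ∈ G.full.WJ J) :
    σ ∈ G.full.WJ (List.range D.rank) := by
  refine (Subgroup.closure_mono ?_ : G.full.WJ J ≤ _) h
  rintro τ ⟨j, -, e⟩
  exact ⟨j, List.mem_range.mpr j.isLt, e⟩

open scoped Classical in
/-- The elements of `W_J` counted at one orbit point. -/
noncomputable def fibre (J : List ℕ) (k : ℕ) (μ : List ℤ) (c c' : Fin D.rank → Fˣ) (q : ℕ) : ℕ :=
  ∑ σ ∈ Finset.univ.filter (fun σ => σ ∈ G.full.WJ J ∧ G.full.wl k σ = μ ∧
      ∀ s : Fin D.nroots, T.chi (F := F) (σ s).val c' = T.chi s.val c),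
    q ^ ((invSet σ).filter fun s => T.chi (F := F) s.val c = 1).card

theorem fibre_step (h2 : (2 : F) ≠ 0) {ms : List ℕ} (hms : T.chkMask ms = true) {J : List ℕ}
    (k : Fin D.rank) {μ : List ℤ} (hμ : ∃ σ ∈ G.full.WJ J, G.full.wl k.val σ = μ) (j : Fin D.rank)
    (hj : j.val ∈ J) (hpos : 0 < μ.getD j.val 0) (c : Fin D.rank → Fˣ) (b : ℕ) (q : ℕ) :
    G.fibre J k (T.refW j μ) c (cbit D F b) q =
      cond (oddBits D.rank (Nat.land b (ms.getD j 0)))
        (G.fibre J k μ c (cbit D F (stp D.rank ms j b)) q)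
        (q * G.fibre J k μ c (cbit D F (stp D.rank ms j b)) q) := by
  classical
  set b'' := stp D.rank ms j b
  obtain ⟨σ0, hσ0, hw0⟩ := hμ
  have hinvol : T.refW j (T.refW j μ) = μ := by
    rw [← hw0, ← G.wl_mul_refl k hσ0, ← G.wl_mul_refl k (mul_mem (G.refl_mem hj) hσ0),
      ← mul_assoc, G.refl_mul_self, one_mul]
  have hchi : ∀ x : Fin D.nroots, T.chi (F := F) (G.full.refl j x).val (cbit D F b'') =
      T.chi (F := F) x.val (cbit D F b) := fun x => G.chi_refl_stp hms j x b
  -- the new root in the inversion set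
  have key : ∀ τ ∈ G.full.WJ J, G.full.wl k.val τ = μ →
      (∀ s : Fin D.nroots, T.chi (F := F) (τ s).val (cbit D F b'') = T.chi s.val c) →
      q ^ ((invSet (G.full.refl j * τ)).filter fun s => T.chi (F := F) s.val c = 1).card =
        cond (oddBits D.rank (Nat.land b (ms.getD j 0)))
          (q ^ ((invSet τ).filter fun s => T.chi (F := F) s.val c = 1).card)
          (q * q ^ ((invSet τ).filter fun s => T.chi (F := F) s.val c = 1).card) := by
    intro τ hτ hwl hc
    have hp : IsPos D (τ.symm (G.full.simp' j)).val := by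
      refine G.pos_of_cor_pos (Fin.isLt _) k.isLt ?_
      rwa [G.cor_symm_eq_dot hτ k, hwl, G.dotW_simple]
    obtain ⟨e, hn⟩ := G.inv_left (G.mem_full J hτ) j hp
    have hx : T.chi (F := F) (τ.symm (G.full.simp' j)).val c =
        if oddBits D.rank (Nat.land b (ms.getD j 0)) then -1 else 1 := by
      rw [← hc, Equiv.apply_symm_apply, ← G.refl_inj_left j (s := G.full.simp' j), hchi,
        G.refl_simp]
      show T.chi (F := F) (negR D (D.simple j)) _ = _
      rw [← G.full.simple_reflect j.isLt, G.full.chi_reflT j.isLt (G.full.simple_lt j.isLt),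
        (G.full.node_spec j.isLt).2.2.1, chi_cbit hms j b]
      split_ifs <;> simp [_root_.zpow_neg]
    have hne : (-1 : Fˣ) ≠ 1 := fun h => h2 (by
      have := congrArg Units.val h
      simp only [Units.val_neg, Units.val_one] at this
      linear_combination -this)
    rw [e, Finset.filter_insert]
    cases hb : oddBits D.rank (Nat.land b (ms.getD j 0))
    · rw [hb] at hx
      rw [if_pos (by rw [hx]; rfl), Finset.card_insert_of_notMem
        (fun h => hn (Finset.mem_filter.mp h).1), cond_false, pow_succ, mul_comm]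
    · rw [hb] at hx
      rw [if_neg (by rw [hx]; exact hne), cond_true]
  rw [Bool.cond_eq_ite_iff.mpr rfl, fibre, fibre]
  trans ∑ τ ∈ Finset.univ.filter (fun σ => σ ∈ G.full.WJ J ∧ G.full.wl k σ = μ ∧
      ∀ s : Fin D.nroots, T.chi (F := F) (σ s).val (cbit D F b'') = T.chi s.val c),
    q ^ ((invSet (G.full.refl j * τ)).filter fun s => T.chi (F := F) s.val c = 1).card
  · refine Finset.sum_nbij' (fun σ => G.full.refl j * σ) (fun σ => G.full.refl j * σ) ?_ ?_
      (fun σ _ => by rw [← mul_assoc, G.refl_mul_self, one_mul])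
      (fun σ _ => by rw [← mul_assoc, G.refl_mul_self, one_mul]) ?_
    · intro σ hσ
      simp only [Finset.mem_coe, Finset.mem_filter, Finset.mem_univ, true_and] at hσ ⊢
      refine ⟨mul_mem (G.refl_mem hj) hσ.1, by rw [G.wl_mul_refl k hσ.1, hσ.2.1, hinvol],
        fun s => ?_⟩
      rw [Equiv.Perm.mul_apply, hchi, hσ.2.2]
    · intro σ hσ
      simp only [Finset.mem_coe, Finset.mem_filter, Finset.mem_univ, true_and] at hσ ⊢
      refine ⟨mul_mem (G.refl_mem hj) hσ.1, by rw [G.wl_mul_refl k hσ.1, hσ.2.1], fun s => ?_⟩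
      rw [Equiv.Perm.mul_apply, ← hσ.2.2, ← hchi, G.refl_inj_left]
    · intro σ _
      rw [← mul_assoc, G.refl_mul_self, one_mul]
  · cases hb : oddBits D.rank (Nat.land b (ms.getD j 0))
    · simp only [Bool.false_eq_true, if_false, Finset.mul_sum]
      refine Finset.sum_congr rfl fun τ hτ => ?_
      simp only [Finset.mem_filter, Finset.mem_univ, true_and] at hτ
      rw [key τ hτ.1 hτ.2.1 hτ.2.2, hb, cond_false]
    · simp only [if_true]
      refine Finset.sum_congr rfl fun τ hτ => ?_
      simp only [Finset.mem_filter, Finset.mem_univ, true_and] at hτ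
      rw [key τ hτ.1 hτ.2.1 hτ.2.2, hb, cond_true]

theorem countUs_spec (h2 : (2 : F) ≠ 0) {ms : List ℕ} (hms : T.chkMask ms = true) {J : List ℕ}
    (k : Fin D.rank) (c : Fin D.rank → Fˣ) (q : ℕ) (V : BTree) :
    ∀ (ps : List (ℕ × ℕ)) (O : List (List ℤ)) (U : List BTree), U.length = O.length →
      chkPar D J O.length ps = true →
      (∀ (m : ℕ) (hm : m < ps.length),
        0 < ((ps.foldl (fun O p => O ++ [T.refW p.1 (O.getD p.2 [])]) O).getD (ps[m]).2 []).getD
          (ps[m]).1 0) →
      (∀ n, n < O.length → (∃ σ ∈ G.full.WJ J, G.full.wl k.val σ = O.getD n []) ∧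
        (U.getD n V).Depth D.rank ∧ ∀ b, b < 2 ^ D.rank →
          (U.getD n V).get b = G.fibre J k (O.getD n []) c (cbit D F b) q) →
      (ps.foldl (fun O p => O ++ [stepU q D.rank ms p.1 (O.getD p.2 V)]) U).length =
        (ps.foldl (fun O p => O ++ [T.refW p.1 (O.getD p.2 [])]) O).length ∧
      ∀ n, n < (ps.foldl (fun O p => O ++ [T.refW p.1 (O.getD p.2 [])]) O).length →
        ((ps.foldl (fun O p => O ++ [stepU q D.rank ms p.1 (O.getD p.2 V)]) U).getD n V).Depth
            D.rank ∧ ∀ b, b < 2 ^ D.rank →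
          ((ps.foldl (fun O p => O ++ [stepU q D.rank ms p.1 (O.getD p.2 V)]) U).getD n V).get b =
            G.fibre J k ((ps.foldl (fun O p => O ++ [T.refW p.1 (O.getD p.2 [])]) O).getD n [])
              c (cbit D F b) q := by
  intro ps
  induction ps with
  | nil => intro O U hl _ _ hinv; exact ⟨hl, fun n hn => (hinv n hn).2⟩
  | cons p ps ih =>
    intro O U hl hchk hpos hinv
    simp only [chkPar, Bool.and_eq_true, Nat.blt_eq, List.contains_iff_mem] at hchk
    obtain ⟨⟨⟨h1, hJ⟩, h3⟩, h4⟩ := hchk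
    obtain ⟨⟨σ, hσ, hw⟩, -, hU⟩ := hinv p.2 h3
    have hP : ∀ (qs : List (ℕ × ℕ)) (a : ℕ), chkPar D J a qs = true →
        ∀ (m : ℕ) (hm : m < qs.length), (qs[m]).2 < a + m := by
      intro qs
      induction qs with
      | nil => intro a _ m hm; simp at hm
      | cons x qs ih' =>
        intro a ha m hm
        simp only [chkPar, Bool.and_eq_true, Nat.blt_eq] at ha
        rcases m with _ | m
        · exact ha.1.2
        · have := ih' (a + 1) ha.2 m (by simpa using hm)
          simp only [List.getElem_cons_succ]; omega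
    have hposp : 0 < (O.getD p.2 []).getD p.1 0 := by
      have := hpos 0 (by simp)
      simp only [List.getElem_cons_zero, List.foldl_cons] at this
      rwa [(T.foldl_orbit_getD ps _ p.2 (fun m hm => by
        have := hP ps _ h4 m hm; simp only [List.length_append, List.length_singleton]; omega)
        (by simp only [List.length_append, List.length_singleton]; omega)).2.1
        (by simp only [List.length_append, List.length_singleton]; omega),
        show (O ++ [T.refW p.1 (O.getD p.2 [])]).getD p.2 [] = O.getD p.2 [] by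
          simp [List.getD_eq_getElem?_getD, List.getElem?_append_left h3]] at this
    rw [List.foldl_cons, List.foldl_cons]
    refine ih _ _ (by simp [hl]) (by simpa using h4) (fun m hm => ?_) fun n hn => ?_
    · have := hpos (m + 1) (by simp; omega)
      simpa using this
    · rcases Nat.lt_or_ge n O.length with hlt | hge
      · have hU' : n < U.length := hl ▸ hlt
        obtain ⟨e1, e2, e3⟩ := hinv n hlt
        simp only [List.getD_eq_getElem?_getD, List.getElem?_append_left hlt,
          List.getElem?_append_left hU'] at e1 e2 e3 ⊢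
        exact ⟨e1, e2, e3⟩
      · have hn' : n = O.length := by simp at hn; omega
        subst hn'
        have eO : (O ++ [T.refW p.1 (O.getD p.2 [])]).getD O.length [] =
            T.refW p.1 (O.getD p.2 []) := by
          simp [List.getD_eq_getElem?_getD]
        have eU : (U ++ [stepU q D.rank ms p.1 (U.getD p.2 V)]).getD O.length V =
            stepU q D.rank ms p.1 (U.getD p.2 V) := by
          simp [List.getD_eq_getElem?_getD, ← hl]
        rw [eO, eU]
        refine ⟨⟨G.full.refl ⟨p.1, h1⟩ * σ, mul_mem (G.refl_mem hJ) hσ, by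
          rw [G.wl_mul_refl k hσ, hw]⟩, BTree.mk_depth _ _, fun b hb => ?_⟩
        rw [stepU, BTree.get_mk _ _ _ hb,
          G.fibre_step h2 hms k ⟨σ, hσ, hw⟩ ⟨p.1, h1⟩ hJ hposp c b q,
          hU _ (stp_lt h1 hb)]
        rfl

/-- One level of the count. -/
theorem countLevel_spec (h2 : (2 : F) ≠ 0) {ms : List ℕ} (hms : T.chkMask ms = true)
    {J : List ℕ} {k : ℕ} {par : List (ℕ × ℕ)} {exps : List ℕ}
    (hchk : T.chkLevelF J k par exps = true) (c : Fin D.rank → Fˣ) (q : ℕ) (V : BTree)
    (hV : V.Depth D.rank ∧ ∀ b, b < 2 ^ D.rank → V.get b =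
      G.full.cpoly (J.filter fun j => !(Nat.beq j k)) c (cbit D F b) q) :
    (countLevel q D.rank ms V par).Depth D.rank ∧ ∀ b, b < 2 ^ D.rank →
      (countLevel q D.rank ms V par).get b = G.full.cpoly J c (cbit D F b) q := by
  classical
  have hslow := G.chkLevel_of_fast hchk
  simp only [chkLevel, Bool.and_eq_true, Nat.blt_eq, List.contains_iff_mem, decide_eq_true_eq,
    List.all_eq_true] at hslow
  obtain ⟨⟨⟨⟨⟨hk, -⟩, hpar⟩, hnd⟩, hclosed⟩, -⟩ := hslow
  simp only [chkLevelF, chkExps, Bool.and_eq_true, allBelow_iff, decide_eq_true_eq] at hchk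
  have hex := hchk.2.2
  have hJ' : ∀ σ : Equiv.Perm (Fin D.nroots), (σ ∈ G.full.WJ J ∧
      G.full.wl k σ = fundW D k) ↔ σ ∈ G.full.WJ (J.filter fun j => !(Nat.beq j k)) := by
    refine fun σ => ⟨fun h => (G.wl_eq_fund_iff (J := J) ⟨k, hk⟩ h.1).mp h.2, fun h => ?_⟩
    have hm : σ ∈ G.full.WJ J := (Subgroup.closure_mono (fun τ ⟨j, hj, e⟩ =>
      ⟨j, (List.mem_filter.mp hj).1, e⟩) : G.full.WJ _ ≤ G.full.WJ J) h
    exact ⟨hm, (G.wl_eq_fund_iff (J := J) ⟨k, hk⟩ hm).mpr h⟩
  set O := T.orbitW k par with hO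
  obtain ⟨hlen, hspec⟩ := G.countUs_spec h2 hms (J := J) ⟨k, hk⟩ c q V par [fundW D k] [V] rfl
    hpar (fun m hm => by
      have := (hex m hm).1
      simpa only [hO, orbitW, List.getD_eq_getElem?_getD, List.getElem?_eq_getElem hm,
        Option.getD_some] using this) (fun n hn => by
      simp only [List.length_singleton, Nat.lt_one_iff] at hn
      subst hn
      simp only [List.getD_cons_zero]
      refine ⟨⟨1, one_mem _, ((hJ' 1).mpr (one_mem _)).2⟩, hV.1, fun b hb => ?_⟩
      rw [hV.2 b hb, fibre, Full.cpoly]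
      refine Finset.sum_congr (Finset.filter_congr fun σ _ => ?_) fun _ _ => rfl
      rw [← hJ', and_assoc])
  set Us := countUs q D.rank ms V par with hUs
  have hUl : Us.length = O.length := hlen
  have hU : ∀ n < O.length, (Us.getD n V).Depth D.rank ∧ ∀ b, b < 2 ^ D.rank →
      (Us.getD n V).get b = G.fibre J k (O.getD n []) c (cbit D F b) q := hspec
  -- summation of the trees
  have hsum : ∀ (l : List BTree) (A : BTree), A.Depth D.rank → (∀ t ∈ l, t.Depth D.rank) →
      (l.foldl BTree.add A).Depth D.rank ∧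
        ∀ b, (l.foldl BTree.add A).get b = A.get b + (l.map fun t => t.get b).sum := by
    intro l
    induction l with
    | nil => intro A hA _; exact ⟨hA, fun b => by simp⟩
    | cons t l ih =>
      intro A hA hl
      obtain ⟨h1, h2⟩ := BTree.add_spec A t _ hA (hl t (List.mem_cons_self ..))
      obtain ⟨h3, h4⟩ := ih _ h1 fun x hx => hl x (List.mem_cons_of_mem _ hx)
      exact ⟨h3, fun b => by rw [List.foldl_cons, h4, h2, List.map_cons, List.sum_cons]; ring⟩
  have hcons : Us = V :: Us.tail := by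
    have hh : ∀ (ps : List (ℕ × ℕ)) (U : List BTree), U.head? = some V →
        (ps.foldl (fun O p => O ++ [stepU q D.rank ms p.1 (O.getD p.2 V)]) U).head? = some V := by
      intro ps
      induction ps with
      | nil => intro U h; exact h
      | cons p ps ih =>
        intro U h
        refine ih _ ?_
        rw [List.head?_append, h]
        rfl
    exact List.eq_cons_of_mem_head? (hh par [V] rfl)
  have hmemD : ∀ t ∈ Us.tail, t.Depth D.rank := fun t ht => by
    obtain ⟨n, hn, rfl⟩ := List.getElem_of_mem (List.mem_of_mem_tail ht)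
    have := (hU n (hUl ▸ hn)).1
    rwa [List.getD_eq_getElem?_getD, List.getElem?_eq_getElem hn, Option.getD_some] at this
  obtain ⟨hd, hg⟩ := hsum Us.tail V hV.1 hmemD
  refine ⟨hd, fun b hb => ?_⟩
  show (Us.tail.foldl BTree.add V).get b = _
  rw [hg]
  have e1 : V.get b + (Us.tail.map fun t => t.get b).sum = (Us.map fun t => t.get b).sum := by
    conv_rhs => rw [hcons, List.map_cons, List.sum_cons]
  have e2 : Us.map (fun t => t.get b) = O.map fun μ => G.fibre J k μ c (cbit D F b) q := by
    refine List.ext_getElem (by simp [hUl]) fun n h1 h2 => ?_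
    simp only [List.length_map] at h1 h2
    have := (hU n h2).2 b hb
    simpa [List.getD_eq_getElem?_getD, List.getElem?_eq_getElem h1,
      List.getElem?_eq_getElem h2] using this
  rw [e1, e2, ← List.sum_toFinset _ hnd, Full.cpoly]
  simp only [fibre]
  have hcomplete : ∀ σ ∈ G.full.WJ J, G.full.wl k σ ∈ O := by
    intro σ hσ
    obtain ⟨L, hL, rfl⟩ := G.exists_word_WJ hσ
    clear hσ
    induction L with
    | nil =>
      rw [show G.full.pw [] = 1 from rfl, ((hJ' 1).mpr (one_mem _)).2, hO, orbitW]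
      have : ∀ (ps : List (ℕ × ℕ)) (O' : List (List ℤ)), fundW D k ∈ O' → fundW D k ∈
          ps.foldl (fun O p => O ++ [T.refW p.1 (O.getD p.2 [])]) O' := by
        intro ps
        induction ps with
        | nil => intro O' h; exact h
        | cons p ps ih => intro O' h; exact ih _ (List.mem_append_left _ h)
      exact this par _ (List.mem_singleton_self _)
    | cons i L ih =>
      have hmem : G.full.pw L ∈ G.full.WJ J := list_prod_mem fun σ hσ => by
        obtain ⟨a, ha, rfl⟩ := List.mem_map.mp hσ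
        exact G.refl_mem (hL a (List.mem_cons_of_mem _ ha))
      rw [G.pw_cons, G.wl_mul_refl ⟨k, hk⟩ hmem]
      exact hclosed _ (ih fun a ha => hL a (List.mem_cons_of_mem _ ha)) _
        (hL i (List.mem_cons_self ..))
  rw [← Finset.sum_fiberwise_of_maps_to (s := Finset.univ.filter fun σ =>
      σ ∈ G.full.WJ J ∧ ∀ s : Fin D.nroots, T.chi (F := F) (σ s).val (cbit D F b) = T.chi s.val c)
    (t := O.toFinset) (g := G.full.wl k) (fun σ hσ => List.mem_toFinset.mpr
      (hcomplete σ (Finset.mem_filter.mp hσ).2.1))]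
  refine Finset.sum_congr rfl fun μ _ => Finset.sum_congr ?_ fun _ _ => rfl
  rw [Finset.filter_filter]
  exact Finset.filter_congr fun σ _ => by tauto

/-- The count over the whole chain. -/
theorem countAll_spec (h2 : (2 : F) ≠ 0) {M : List (List ℤ)} (hM : T.chkSC M = true)
    {ms : List ℕ} (hms : T.chkMask ms = true) {b0 : ℕ} (hb0 : b0 < 2 ^ D.rank) (q : ℕ) :
    ∀ (ls : List (ℕ × List (ℕ × ℕ) × List ℕ)) (J : List ℕ), T.chkChainF J ls = true →
      (countAll q D.rank ms b0 ls).Depth D.rank ∧ ∀ b, b < 2 ^ D.rank →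
        (countAll q D.rank ms b0 ls).get b =
          G.full.cpoly J (cbit D F b0) (cbit D F b) q := by
  classical
  intro ls
  induction ls with
  | nil =>
    intro J h
    simp only [chkChainF, List.isEmpty_iff] at h
    subst h
    refine ⟨BTree.mk_depth _ _, fun b hb => ?_⟩
    rw [countAll, List.foldr_nil, BTree.get_mk _ _ _ hb, Full.cpoly]
    have hone : ∀ σ : Equiv.Perm (Fin D.nroots), σ ∈ G.full.WJ [] → σ = 1 := fun σ h => by
      obtain ⟨L, hL, rfl⟩ := G.exists_word_WJ h
      rcases L with _ | ⟨a, L⟩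
      · rfl
      · exact absurd (hL a (List.mem_cons_self ..)) (by simp)
    by_cases e : b = b0
    · subst e
      rw [show Nat.beq b b = true from Nat.beq_refl b, cond_true,
        show (Finset.univ.filter fun σ : Equiv.Perm (Fin D.nroots) => σ ∈ G.full.WJ [] ∧
          ∀ s : Fin D.nroots, T.chi (F := F) (σ s).val (cbit D F b) = T.chi s.val (cbit D F b)) =
          {1} by
        ext σ
        simp only [Finset.mem_filter, Finset.mem_univ, true_and, Finset.mem_singleton]
        exact ⟨fun h => hone σ h.1, fun h => h ▸ ⟨one_mem _, fun _ => rfl⟩⟩,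
        Finset.sum_singleton]
      have : invSet (1 : Equiv.Perm (Fin D.nroots)) = ∅ := by ext s; simp [mem_inv]
      simp [this]
    · rw [show Nat.beq b b0 = false from Tab.beq_false e, cond_false]
      symm
      rw [Finset.sum_eq_zero]
      intro σ hσ
      obtain ⟨h, hc⟩ := (Finset.mem_filter.mp hσ).2
      obtain rfl := hone σ h
      refine absurd (cbit_inj h2 hb hb0 ?_) e
      have hd : T.hT F (cbit D F b * (cbit D F b0)⁻¹) = 1 :=
        (G.full.hT_eq_one_iff _).mpr fun j hj => by
          rw [map_mul, map_inv, show T.chi (F := F) (D.simple j) (cbit D F b) =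
            T.chi (D.simple j) (cbit D F b0) from hc ⟨_, G.full.simple_lt hj⟩, mul_inv_cancel]
      exact mul_inv_eq_one.mp (G.sc_hT_inj hM hd)
  | cons l ls ih =>
    intro J h
    simp only [chkChainF, Bool.and_eq_true] at h
    exact G.countLevel_spec h2 hms h.1 _ q _ (ih _ h.2)

end Good

end Tab

end CfsgLib.Chev
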