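import Cfsg.Agent.Chev.InvolF4Check.P0
import Cfsg.Agent.Chev.InvolF4Check.P1
import Cfsg.Agent.Chev.InvolF4Check.P2
import Cfsg.Agent.Chev.InvolF4Check.P3
import Cfsg.Agent.Chev.InvolF4Check.P4
import Cfsg.Agent.Chev.InvolF4Check.P5
import Cfsg.Agent.Chev.InvolF4Check.P6
import Cfsg.Agent.Chev.InvolF4Check.P7
import Cfsg.Agent.Chev.InvolF4Check.P8

/-!
The certificate for the involutions of `F₄(q)`, `q` even, is correct.
-/

set_option autoImplicit false

namespace CfsgLib.Chev.InvolReduce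

theorem nodesF4_ok (idx : ℕ) (hidx : idx < nodesF4.length) :
    chkNode F4Data.tab repsF4 nodesF4 idx = true := by
  rw [nodesF4_root.1] at hidx
  by_cases h0 : idx < 400
  · exact List.all_eq_true.mp nodesF4_ok_0 idx (List.mem_range'_1.mpr ⟨by omega, by omega⟩)
  by_cases h1 : idx < 600
  · exact List.all_eq_true.mp nodesF4_ok_1 idx (List.mem_range'_1.mpr ⟨by omega, by omega⟩)
  by_cases h2 : idx < 750
  · exact List.all_eq_true.mp nodesF4_ok_2 idx (List.mem_range'_1.mpr ⟨by omega, by omega⟩)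
  by_cases h3 : idx < 880
  · exact List.all_eq_true.mp nodesF4_ok_3 idx (List.mem_range'_1.mpr ⟨by omega, by omega⟩)
  by_cases h4 : idx < 1000
  · exact List.all_eq_true.mp nodesF4_ok_4 idx (List.mem_range'_1.mpr ⟨by omega, by omega⟩)
  by_cases h5 : idx < 1110
  · exact List.all_eq_true.mp nodesF4_ok_5 idx (List.mem_range'_1.mpr ⟨by omega, by omega⟩)
  by_cases h6 : idx < 1200
  · exact List.all_eq_true.mp nodesF4_ok_6 idx (List.mem_range'_1.mpr ⟨by omega, by omega⟩)
  by_cases h7 : idx < 1290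
  · exact List.all_eq_true.mp nodesF4_ok_7 idx (List.mem_range'_1.mpr ⟨by omega, by omega⟩)
  by_cases h8 : idx < 1369
  · exact List.all_eq_true.mp nodesF4_ok_8 idx (List.mem_range'_1.mpr ⟨by omega, by omega⟩)
  omega

end CfsgLib.Chev.InvolReduce
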