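import Cfsg.Agent.Chev.InvolReduce

/-!
Certificate for the involutions of `F₄(q)`, `q` even.
-/

set_option autoImplicit false
set_option maxRecDepth 100000

namespace CfsgLib.Chev.InvolReduce

/-- The representatives, as supports. -/
def repsF4 : List (List ℕ) := [[47], [44], [44, 47], [39, 45]]

/-- Part of the certificate. -/
def nodesF4_0 : List Node :=
  [([], [], .one),
   ([47], [47], .rep 0),
   ([47], [], .branch 47 0 1),
   ([46], [46], .refl 3 1),
   ([46, 47], [46], .kill 24 47 3),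
   ([46, 47], [], .branch 46 2 4),
   ([45], [45], .refl 2 3),
   ([45, 47], [45], .kill 26 47 6),
   ([45, 46, 47], [45], .kill 25 46 7),
   ([45, 46, 47], [], .branch 45 5 8),
   ([44], [44], .rep 1),
   ([44, 47], [44, 47], .rep 2),
   ([44, 47], [44], .branch 47 10 11),
   ([44, 46], [44, 46], .refl 3 11),
   ([44, 46, 47], [44, 46], .kill 24 47 13),
   ([44, 46, 47], [44], .branch 46 12 14),
   ([44, 45], [44, 45], .refl 2 13),
   ([44, 45, 47], [44, 45], .kill 26 47 16),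
   ([44, 45, 46, 47], [44, 45], .kill 25 46 17),
   ([44, 45, 46, 47], [44], .branch 45 15 18),
   ([44, 45, 46, 47], [], .branch 44 9 19),
   ([43], [43], .refl 1 6),
   ([43, 44], [43, 44], .refl 1 16),
   ([43, 44], [43], .branch 44 21 22),
   ([43, 44, 47], [43], .kill 31 47 23),
   ([43, 44, 46, 47], [43], .kill 30 46 24),
   ([43, 44, 45, 46, 47], [43], .kill 27 45 25),
   ([43, 44, 45, 46, 47], [], .branch 43 20 26),
   ([42], [42], .refl 2 21),
   ([42, 44], [42, 44], .refl 2 22),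
   ([42, 44], [42], .branch 44 28 29),
   ([42, 44, 47], [42], .kill 32 47 30),
   ([42, 44, 46, 47], [42], .kill 28 46 31),
   ([42, 44, 45, 46, 47], [42], .kill 30 45 32),
   ([42, 43, 44, 45, 46, 47], [42], .kill 25 43 33),
   ([42, 43, 44, 45, 46, 47], [], .branch 42 27 34),
   ([41], [41], .refl 3 28),
   ([41, 44], [41, 44], .refl 3 29),
   ([41, 44], [41], .branch 44 36 37),
   ([41, 44, 47], [41], .kill 29 47 38)]

/-- Part of the certificate. -/
def nodesF4_1 : List Node :=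
  [([41, 44, 46, 47], [41], .kill 32 46 39),
   ([41, 44, 45, 46, 47], [41], .kill 31 45 40),
   ([41, 43, 44, 45, 46, 47], [41], .kill 26 43 41),
   ([41, 42, 43, 44, 45, 46, 47], [41], .kill 24 42 42),
   ([41, 42, 43, 44, 45, 46, 47], [], .branch 41 35 43),
   ([40], [40], .refl 0 10),
   ([40, 47], [40, 47], .refl 0 11),
   ([40, 47], [40], .branch 47 45 46),
   ([40, 46], [40, 46], .refl 0 13),
   ([40, 46, 47], [40, 46], .kill 24 47 48),
   ([40, 46, 47], [40], .branch 46 47 49),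
   ([40, 45], [40, 45], .refl 0 16),
   ([40, 45, 47], [40, 45], .kill 26 47 51),
   ([40, 45, 46, 47], [40, 45], .kill 25 46 52),
   ([40, 45, 46, 47], [40], .branch 45 50 53),
   ([39, 45], [39, 45], .rep 3),
   ([40, 43], [40, 43], .refl 1 55),
   ([40, 43, 44], [40, 43], .kill 33 44 56),
   ([40, 43, 45], [40, 43, 45], .kill 27 45 57),
   ([40, 43, 45], [40, 43], .branch 45 56 58),
   ([40, 43, 45, 47], [40, 43], .kill 31 47 59),
   ([40, 43, 45, 46, 47], [40, 43], .kill 30 46 60),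
   ([40, 43, 45, 46, 47], [40], .branch 43 54 61),
   ([40, 42], [40, 42], .refl 2 56),
   ([40, 42, 44], [40, 42], .kill 33 44 63),
   ([40, 42, 46], [40, 42, 46], .kill 28 46 64),
   ([40, 42, 46], [40, 42], .branch 46 63 65),
   ([40, 42, 46, 47], [40, 42], .kill 32 47 66),
   ([40, 42, 45, 46, 47], [40, 42], .kill 30 45 67),
   ([40, 42, 43, 45, 46, 47], [40, 42], .kill 25 43 68),
   ([40, 42, 43, 45, 46, 47], [40], .branch 42 62 69),
   ([40, 41], [40, 41], .refl 3 63),
   ([40, 41, 44], [40, 41], .kill 33 44 71),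
   ([40, 41, 47], [40, 41, 47], .kill 29 47 72),
   ([40, 41, 47], [40, 41], .branch 47 71 73),
   ([40, 41, 46, 47], [40, 41], .kill 32 46 74),
   ([40, 41, 45, 46, 47], [40, 41], .kill 31 45 75),
   ([40, 41, 43, 45, 46, 47], [40, 41], .kill 26 43 76),
   ([40, 41, 42, 43, 45, 46, 47], [40, 41], .kill 24 42 77),
   ([40, 41, 42, 43, 45, 46, 47], [40], .branch 41 70 78)]

/-- Part of the certificate. -/
def nodesF4_2 : List Node :=
  [([40, 41, 42, 43, 44, 45, 46, 47], [40], .kill 33 44 79),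
   ([40, 41, 42, 43, 44, 45, 46, 47], [], .branch 40 44 80),
   ([39], [39], .refl 1 45),
   ([39, 47], [39, 47], .refl 1 46),
   ([39, 47], [39], .branch 47 82 83),
   ([39, 46], [39, 46], .refl 1 48),
   ([39, 46, 47], [39, 46], .kill 24 47 85),
   ([39, 46, 47], [39], .branch 46 84 86),
   ([39, 45, 47], [39, 45], .kill 26 47 55),
   ([39, 45, 46, 47], [39, 45], .kill 25 46 88),
   ([39, 45, 46, 47], [39], .branch 45 87 89),
   ([39, 43], [39, 43], .refl 1 51),
   ([39, 43, 45], [39, 43, 45], .refl 1 58),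
   ([39, 43, 45], [39, 43], .branch 45 91 92),
   ([39, 43, 45, 47], [39, 43], .kill 31 47 93),
   ([39, 43, 45, 46, 47], [39, 43], .kill 30 46 94),
   ([39, 43, 45, 46, 47], [39], .branch 43 90 95),
   ([39, 42], [39, 42], .refl 1 63),
   ([39, 42, 44], [39, 42], .kill 34 44 97),
   ([39, 42, 46], [39, 42, 46], .kill 28 46 98),
   ([39, 42, 46], [39, 42], .branch 46 97 99),
   ([39, 42, 46, 47], [39, 42], .kill 32 47 100),
   ([39, 42, 45, 46, 47], [39, 42], .kill 30 45 101),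
   ([39, 42, 43, 45, 46, 47], [39, 42], .kill 25 43 102),
   ([39, 42, 43, 45, 46, 47], [39], .branch 42 96 103),
   ([39, 41], [39, 41], .refl 1 71),
   ([39, 41, 44], [39, 41], .kill 34 44 105),
   ([39, 41, 47], [39, 41, 47], .kill 29 47 106),
   ([39, 41, 47], [39, 41], .branch 47 105 107),
   ([39, 41, 46, 47], [39, 41], .kill 32 46 108),
   ([39, 41, 45, 46, 47], [39, 41], .kill 31 45 109),
   ([39, 41, 43, 45, 46, 47], [39, 41], .kill 26 43 110),
   ([39, 41, 42, 43, 45, 46, 47], [39, 41], .kill 24 42 111),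
   ([39, 41, 42, 43, 45, 46, 47], [39], .branch 41 104 112),
   ([39, 41, 42, 43, 44, 45, 46, 47], [39], .kill 34 44 113),
   ([39, 40, 41, 42, 43, 44, 45, 46, 47], [39], .kill 27 40 114),
   ([39, 40, 41, 42, 43, 44, 45, 46, 47], [], .branch 39 81 115),
   ([38], [38], .refl 2 82),
   ([38, 47], [38, 47], .refl 2 83),
   ([38, 47], [38], .branch 47 117 118)]

/-- Part of the certificate. -/
def nodesF4_3 : List Node :=
  [([38, 46], [38, 46], .refl 2 55),
   ([38, 46, 47], [38, 46], .kill 24 47 120),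
   ([38, 46, 47], [38], .branch 46 119 121),
   ([38, 45], [38, 45], .refl 2 85),
   ([39, 45, 46], [39, 45, 46], .kill 25 46 55),
   ([38, 45, 46], [38, 45, 46], .refl 2 124),
   ([38, 45, 46], [38, 45], .branch 46 123 125),
   ([38, 45, 46, 47], [38, 45], .kill 26 47 126),
   ([38, 45, 46, 47], [38], .branch 45 122 127),
   ([36, 46], [36, 46], .refl 1 120),
   ([36, 45], [36, 45], .refl 2 129),
   ([38, 43], [38, 43], .refl 1 130),
   ([38, 43, 44], [38, 43], .kill 35 44 131),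
   ([38, 43, 45], [38, 43, 45], .kill 27 45 132),
   ([38, 43, 45], [38, 43], .branch 45 131 133),
   ([38, 43, 45, 47], [38, 43], .kill 31 47 134),
   ([38, 43, 45, 46, 47], [38, 43], .kill 30 46 135),
   ([38, 43, 45, 46, 47], [38], .branch 43 128 136),
   ([38, 42], [38, 42], .refl 2 91),
   ([38, 42, 46], [38, 42, 46], .refl 2 92),
   ([38, 42, 46], [38, 42], .branch 46 138 139),
   ([39, 42, 43], [39, 42, 43], .kill 25 43 97),
   ([38, 42, 43], [38, 42, 43], .refl 2 141),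
   ([36, 43, 45], [36, 43, 45], .refl 1 133),
   ([36, 43, 45, 46], [36, 43, 45, 46], .kill 25 46 143),
   ([36, 42, 45, 46], [36, 42, 45, 46], .refl 2 144),
   ([38, 42, 43, 46], [38, 42, 43, 46], .refl 1 145),
   ([38, 42, 43, 46], [38, 42, 43], .branch 46 142 146),
   ([38, 42, 43, 46], [38, 42], .branch 43 140 147),
   ([38, 42, 43, 46, 47], [38, 42], .kill 32 47 148),
   ([38, 42, 43, 45, 46, 47], [38, 42], .kill 30 45 149),
   ([38, 42, 43, 45, 46, 47], [38], .branch 42 137 150),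
   ([38, 41], [38, 41], .refl 2 105),
   ([38, 41, 44], [38, 41], .kill 35 44 152),
   ([38, 41, 47], [38, 41, 47], .kill 29 47 153),
   ([38, 41, 47], [38, 41], .branch 47 152 154),
   ([38, 41, 46, 47], [38, 41], .kill 32 46 155),
   ([38, 41, 45, 46, 47], [38, 41], .kill 31 45 156),
   ([38, 41, 43, 45, 46, 47], [38, 41], .kill 26 43 157),
   ([38, 41, 42, 43, 45, 46, 47], [38, 41], .kill 24 42 158)]

/-- Part of the certificate. -/
def nodesF4_4 : List Node :=
  [([38, 41, 42, 43, 45, 46, 47], [38], .branch 41 151 159),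
   ([38, 41, 42, 43, 44, 45, 46, 47], [38], .kill 35 44 160),
   ([38, 40, 41, 42, 43, 44, 45, 46, 47], [38], .kill 28 40 161),
   ([38, 39, 40, 41, 42, 43, 44, 45, 46, 47], [38], .kill 25 39 162),
   ([38, 39, 40, 41, 42, 43, 44, 45, 46, 47], [], .branch 38 116 163),
   ([37], [37], .refl 3 117),
   ([37, 47], [37, 47], .refl 3 120),
   ([37, 47], [37], .branch 47 165 166),
   ([37, 46], [37, 46], .refl 3 118),
   ([38, 46, 47], [38, 46, 47], .kill 24 47 120),
   ([37, 46, 47], [37, 46, 47], .refl 3 169),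
   ([37, 46, 47], [37, 46], .branch 47 168 170),
   ([37, 46, 47], [37], .branch 46 167 171),
   ([37, 45], [37, 45], .refl 2 168),
   ([37, 45, 47], [37, 45, 47], .refl 2 170),
   ([37, 45, 47], [37, 45], .branch 47 173 174),
   ([37, 45, 46, 47], [37, 45], .kill 25 46 175),
   ([37, 45, 46, 47], [37], .branch 45 172 176),
   ([35, 45], [35, 45], .refl 3 130),
   ([37, 43], [37, 43], .refl 1 178),
   ([37, 43, 44], [37, 43], .kill 36 44 179),
   ([37, 43, 45], [37, 43, 45], .kill 27 45 180),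
   ([37, 43, 45], [37, 43], .branch 45 179 181),
   ([37, 43, 45, 47], [37, 43], .kill 31 47 182),
   ([37, 43, 45, 46, 47], [37, 43], .kill 30 46 183),
   ([37, 43, 45, 46, 47], [37], .branch 43 177 184),
   ([37, 42], [37, 42], .refl 2 179),
   ([37, 42, 44], [37, 42], .kill 36 44 186),
   ([37, 42, 46], [37, 42, 46], .kill 28 46 187),
   ([37, 42, 46], [37, 42], .branch 46 186 188),
   ([37, 42, 46, 47], [37, 42], .kill 32 47 189),
   ([37, 42, 45, 46, 47], [37, 42], .kill 30 45 190),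
   ([37, 42, 43, 45, 46, 47], [37, 42], .kill 25 43 191),
   ([37, 42, 43, 45, 46, 47], [37], .branch 42 185 192),
   ([37, 41], [37, 41], .refl 3 138),
   ([37, 41, 47], [37, 41, 47], .refl 3 139),
   ([37, 41, 47], [37, 41], .branch 47 194 195),
   ([38, 41, 42], [38, 41, 42], .kill 24 42 152),
   ([37, 41, 42], [37, 41, 42], .refl 3 197),
   ([37, 41, 43], [37, 41, 43], .refl 2 198)]

/-- Part of the certificate. -/
def nodesF4_5 : List Node :=
  [([37, 41, 43, 44], [37, 41, 43], .kill 36 44 199),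
   ([37, 41, 43, 45], [37, 41, 43], .kill 27 45 200),
   ([37, 41, 43, 47], [37, 41, 43, 47], .kill 31 47 201),
   ([37, 41, 43, 47], [37, 41, 43], .branch 47 199 202),
   ([37, 41, 43, 47], [37, 41], .branch 43 196 203),
   ([38, 41, 46, 47], [38, 41, 46], .kill 32 46 155),
   ([38, 41, 42, 46], [38, 41, 42, 46], .kill 24 42 205),
   ([37, 41, 42, 47], [37, 41, 42, 47], .refl 3 206),
   ([37, 41, 42, 47], [37, 41, 42], .branch 47 198 207),
   ([37, 41, 42, 43, 47], [37, 41, 42], .kill 25 43 208),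
   ([37, 41, 42, 43, 47], [37, 41], .branch 42 204 209),
   ([37, 41, 42, 43, 46, 47], [37, 41], .kill 32 46 210),
   ([37, 41, 42, 43, 45, 46, 47], [37, 41], .kill 31 45 211),
   ([37, 41, 42, 43, 45, 46, 47], [37], .branch 41 193 212),
   ([37, 41, 42, 43, 44, 45, 46, 47], [37], .kill 36 44 213),
   ([37, 40, 41, 42, 43, 44, 45, 46, 47], [37], .kill 29 40 214),
   ([37, 39, 40, 41, 42, 43, 44, 45, 46, 47], [37], .kill 26 39 215),
   ([37, 38, 39, 40, 41, 42, 43, 44, 45, 46, 47], [37], .kill 24 38 216),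
   ([37, 38, 39, 40, 41, 42, 43, 44, 45, 46, 47], [], .branch 37 164 217),
   ([36], [36], .refl 1 117),
   ([36, 47], [36, 47], .refl 1 118),
   ([36, 47], [36], .branch 47 219 220),
   ([36, 46, 47], [36, 46], .kill 24 47 129),
   ([36, 46, 47], [36], .branch 46 221 222),
   ([36, 45, 47], [36, 45], .kill 26 47 130),
   ([36, 45, 46, 47], [36, 45], .kill 25 46 224),
   ([36, 45, 46, 47], [36], .branch 45 223 225),
   ([36, 43], [36, 43], .refl 1 123),
   ([36, 43, 46], [36, 43, 46], .refl 1 125),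
   ([36, 43, 46], [36, 43], .branch 46 227 228),
   ([36, 43, 45, 46], [36, 43, 45], .kill 25 46 143),
   ([36, 43, 45, 46], [36, 43], .branch 45 229 230),
   ([36, 43, 45, 46, 47], [36, 43], .kill 31 47 231),
   ([36, 43, 45, 46, 47], [36], .branch 43 226 232),
   ([36, 42], [36, 42], .refl 1 138),
   ([36, 42, 46], [36, 42, 46], .refl 2 143),
   ([36, 42, 46], [36, 42], .branch 46 234 235),
   ([36, 42, 45], [36, 42, 45], .refl 1 142),
   ([36, 42, 45, 46], [36, 42, 45], .branch 46 237 145),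
   ([36, 42, 45, 46], [36, 42], .branch 45 236 238)]

/-- Part of the certificate. -/
def nodesF4_6 : List Node :=
  [([36, 42, 45, 46, 47], [36, 42], .kill 32 47 239),
   ([36, 42, 43, 45, 46, 47], [36, 42], .kill 25 43 240),
   ([36, 42, 43, 45, 46, 47], [36], .branch 42 233 241),
   ([36, 41], [36, 41], .refl 1 152),
   ([36, 41, 44], [36, 41], .kill 37 44 243),
   ([36, 41, 47], [36, 41, 47], .kill 29 47 244),
   ([36, 41, 47], [36, 41], .branch 47 243 245),
   ([36, 41, 46, 47], [36, 41], .kill 32 46 246),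
   ([36, 41, 45, 46, 47], [36, 41], .kill 31 45 247),
   ([36, 41, 43, 45, 46, 47], [36, 41], .kill 26 43 248),
   ([36, 41, 42, 43, 45, 46, 47], [36, 41], .kill 24 42 249),
   ([36, 41, 42, 43, 45, 46, 47], [36], .branch 41 242 250),
   ([36, 41, 42, 43, 44, 45, 46, 47], [36], .kill 37 44 251),
   ([36, 40, 41, 42, 43, 44, 45, 46, 47], [36], .kill 30 40 252),
   ([36, 39, 40, 41, 42, 43, 44, 45, 46, 47], [36], .kill 28 39 253),
   ([36, 38, 39, 40, 41, 42, 43, 44, 45, 46, 47], [36], .kill 27 38 254),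
   ([36, 37, 38, 39, 40, 41, 42, 43, 44, 45, 46, 47], [36], .zero 44 37 255),
   ([36, 37, 38, 39, 40, 41, 42, 43, 44, 45, 46, 47], [], .branch 36 218 256),
   ([35], [35], .refl 1 165),
   ([35, 47], [35, 47], .refl 1 166),
   ([35, 47], [35], .branch 47 258 259),
   ([35, 46], [35, 46], .refl 1 168),
   ([36, 46, 47], [36, 46, 47], .kill 24 47 129),
   ([35, 46, 47], [35, 46, 47], .refl 3 262),
   ([35, 46, 47], [35, 46], .branch 47 261 263),
   ([35, 46, 47], [35], .branch 46 260 264),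
   ([35, 45, 47], [35, 45], .kill 26 47 178),
   ([35, 45, 46, 47], [35, 45], .kill 25 46 266),
   ([35, 45, 46, 47], [35], .branch 45 265 267),
   ([35, 43], [35, 43], .refl 1 173),
   ([35, 43, 47], [35, 43, 47], .refl 1 174),
   ([35, 43, 47], [35, 43], .branch 47 269 270),
   ([35, 43, 45], [35, 43, 45], .refl 1 181),
   ([35, 43, 45, 47], [35, 43, 45], .kill 26 47 272),
   ([35, 43, 45, 47], [35, 43], .branch 45 271 273),
   ([35, 43, 45, 46, 47], [35, 43], .kill 30 46 274),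
   ([35, 43, 45, 46, 47], [35], .branch 43 268 275),
   ([35, 42], [35, 42], .refl 1 186),
   ([35, 42, 44], [35, 42], .kill 38 44 277),
   ([35, 42, 46], [35, 42, 46], .kill 28 46 278)]

/-- Part of the certificate. -/
def nodesF4_7 : List Node :=
  [([35, 42, 46], [35, 42], .branch 46 277 279),
   ([35, 42, 46, 47], [35, 42], .kill 32 47 280),
   ([35, 42, 45, 46, 47], [35, 42], .kill 30 45 281),
   ([35, 42, 43, 45, 46, 47], [35, 42], .kill 25 43 282),
   ([35, 42, 43, 45, 46, 47], [35], .branch 42 276 283),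
   ([35, 41], [35, 41], .refl 1 194),
   ([35, 41, 47], [35, 41, 47], .refl 3 235),
   ([35, 41, 47], [35, 41], .branch 47 285 286),
   ([35, 41, 45], [35, 41, 45], .refl 1 199),
   ([34, 42, 46], [34, 42, 46], .refl 2 272),
   ([34, 42, 46, 47], [34, 42, 46, 47], .kill 24 47 289),
   ([34, 41, 46, 47], [34, 41, 46, 47], .refl 3 290),
   ([35, 41, 45, 47], [35, 41, 45, 47], .refl 2 291),
   ([35, 41, 45, 47], [35, 41, 45], .branch 47 288 292),
   ([35, 41, 45, 47], [35, 41], .branch 45 287 293),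
   ([36, 41, 42], [36, 41, 42], .kill 24 42 243),
   ([35, 41, 42], [35, 41, 42], .refl 3 295),
   ([36, 41, 46, 47], [36, 41, 46], .kill 32 46 246),
   ([36, 41, 42, 46], [36, 41, 42, 46], .kill 24 42 297),
   ([35, 41, 42, 47], [35, 41, 42, 47], .refl 3 298),
   ([35, 41, 42, 47], [35, 41, 42], .branch 47 296 299),
   ([35, 41, 42, 45, 47], [35, 41, 42], .kill 30 45 300),
   ([35, 41, 42, 45, 47], [35, 41], .branch 42 294 301),
   ([35, 41, 42, 45, 46, 47], [35, 41], .kill 32 46 302),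
   ([35, 41, 42, 43, 45, 46, 47], [35, 41], .kill 26 43 303),
   ([35, 41, 42, 43, 45, 46, 47], [35], .branch 41 284 304),
   ([35, 41, 42, 43, 44, 45, 46, 47], [35], .kill 38 44 305),
   ([35, 40, 41, 42, 43, 44, 45, 46, 47], [35], .kill 31 40 306),
   ([35, 39, 40, 41, 42, 43, 44, 45, 46, 47], [35], .kill 29 39 307),
   ([35, 37, 39, 40, 41, 42, 43, 44, 45, 46, 47], [35], .kill 27 37 308),
   ([35, 37, 38, 39, 40, 41, 42, 43, 44, 45, 46, 47], [35], .zero 44 38 309),
   ([35, 36, 37, 38, 39, 40, 41, 42, 43, 44, 45, 46, 47], [35], .kill 24 36 310),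
   ([35, 36, 37, 38, 39, 40, 41, 42, 43, 44, 45, 46, 47], [], .branch 35 257 311),
   ([34], [34], .refl 2 258),
   ([34, 47], [34, 47], .refl 2 259),
   ([34, 47], [34], .branch 47 313 314),
   ([34, 46], [34, 46], .refl 2 178),
   ([34, 46, 47], [34, 46], .kill 24 47 316),
   ([34, 46, 47], [34], .branch 46 315 317),
   ([34, 45], [34, 45], .refl 2 261)]

/-- Part of the certificate. -/
def nodesF4_8 : List Node :=
  [([34, 45, 47], [34, 45, 47], .refl 2 263),
   ([34, 45, 47], [34, 45], .branch 47 319 320),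
   ([35, 45, 46], [35, 45, 46], .kill 25 46 178),
   ([34, 45, 46], [34, 45, 46], .refl 2 322),
   ([34, 45, 46, 47], [34, 45, 46], .kill 24 47 323),
   ([34, 45, 46, 47], [34, 45], .branch 46 321 324),
   ([34, 45, 46, 47], [34], .branch 45 318 325),
   ([33, 46], [33, 46], .refl 1 316),
   ([33, 45], [33, 45], .refl 2 327),
   ([34, 43], [34, 43], .refl 1 328),
   ([34, 43, 44], [34, 43], .kill 39 44 329),
   ([34, 43, 45], [34, 43, 45], .kill 27 45 330),
   ([34, 43, 45], [34, 43], .branch 45 329 331),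
   ([34, 43, 45, 47], [34, 43], .kill 31 47 332),
   ([34, 43, 45, 46, 47], [34, 43], .kill 30 46 333),
   ([34, 43, 45, 46, 47], [34], .branch 43 326 334),
   ([34, 42], [34, 42], .refl 2 269),
   ([34, 42, 47], [34, 42, 47], .refl 2 270),
   ([34, 42, 47], [34, 42], .branch 47 336 337),
   ([34, 42, 46, 47], [34, 42, 46], .kill 24 47 289),
   ([34, 42, 46, 47], [34, 42], .branch 46 338 339),
   ([35, 42, 43], [35, 42, 43], .kill 25 43 277),
   ([34, 42, 43], [34, 42, 43], .refl 2 341),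
   ([33, 43, 45], [33, 43, 45], .refl 1 331),
   ([33, 43, 45, 46], [33, 43, 45, 46], .kill 25 46 343),
   ([33, 42, 45, 46], [33, 42, 45, 46], .refl 2 344),
   ([34, 42, 43, 46], [34, 42, 43, 46], .refl 1 345),
   ([34, 42, 43, 46], [34, 42, 43], .branch 46 342 346),
   ([34, 42, 43, 46, 47], [34, 42, 43], .kill 31 47 347),
   ([34, 42, 43, 46, 47], [34, 42], .branch 43 340 348),
   ([34, 42, 43, 45, 46, 47], [34, 42], .kill 30 45 349),
   ([34, 42, 43, 45, 46, 47], [34], .branch 42 335 350),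
   ([34, 41], [34, 41], .refl 2 285),
   ([34, 41, 47], [34, 41, 47], .refl 3 289),
   ([34, 41, 47], [34, 41], .branch 47 352 353),
   ([34, 41, 46], [34, 41, 46], .refl 2 288),
   ([34, 41, 46, 47], [34, 41, 46], .branch 47 355 291),
   ([34, 41, 46, 47], [34, 41], .branch 46 354 356),
   ([34, 41, 43], [34, 41, 43], .refl 2 296),
   ([34, 41, 43, 44], [34, 41, 43], .kill 39 44 358)]

/-- Part of the certificate. -/
def nodesF4_9 : List Node :=
  [([34, 41, 43, 45], [34, 41, 43], .kill 27 45 359),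
   ([34, 41, 43, 47], [34, 41, 43, 47], .kill 31 47 360),
   ([34, 41, 43, 47], [34, 41, 43], .branch 47 358 361),
   ([34, 41, 43, 46, 47], [34, 41, 43], .kill 30 46 362),
   ([34, 41, 43, 46, 47], [34, 41], .branch 43 357 363),
   ([34, 41, 43, 45, 46, 47], [34, 41], .kill 31 45 364),
   ([34, 41, 42, 43, 45, 46, 47], [34, 41], .kill 24 42 365),
   ([34, 41, 42, 43, 45, 46, 47], [34], .branch 41 351 366),
   ([34, 41, 42, 43, 44, 45, 46, 47], [34], .kill 39 44 367),
   ([34, 40, 41, 42, 43, 44, 45, 46, 47], [34], .kill 32 40 368),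
   ([34, 38, 40, 41, 42, 43, 44, 45, 46, 47], [34], .kill 29 38 369),
   ([34, 37, 38, 40, 41, 42, 43, 44, 45, 46, 47], [34], .kill 28 37 370),
   ([34, 37, 38, 39, 40, 41, 42, 43, 44, 45, 46, 47], [34], .zero 44 39 371),
   ([34, 36, 37, 38, 39, 40, 41, 42, 43, 44, 45, 46, 47], [34], .kill 26 36 372),
   ([34, 35, 36, 37, 38, 39, 40, 41, 42, 43, 44, 45, 46, 47], [34], .kill 25 35 373),
   ([34, 35, 36, 37, 38, 39, 40, 41, 42, 43, 44, 45, 46, 47], [], .branch 34 312 374),
   ([33], [33], .refl 1 313),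
   ([33, 47], [33, 47], .refl 1 314),
   ([33, 47], [33], .branch 47 376 377),
   ([33, 46, 47], [33, 46], .kill 24 47 327),
   ([33, 46, 47], [33], .branch 46 378 379),
   ([33, 45, 47], [33, 45], .kill 26 47 328),
   ([33, 45, 46, 47], [33, 45], .kill 25 46 381),
   ([33, 45, 46, 47], [33], .branch 45 380 382),
   ([33, 43], [33, 43], .refl 1 319),
   ([33, 43, 47], [33, 43, 47], .refl 1 320),
   ([33, 43, 47], [33, 43], .branch 47 384 385),
   ([33, 43, 46], [33, 43, 46], .refl 1 323),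
   ([33, 43, 46, 47], [33, 43, 46], .kill 24 47 387),
   ([33, 43, 46, 47], [33, 43], .branch 46 386 388),
   ([33, 43, 45, 47], [33, 43, 45], .kill 26 47 343),
   ([33, 43, 45, 46, 47], [33, 43, 45], .kill 25 46 390),
   ([33, 43, 45, 46, 47], [33, 43], .branch 45 389 391),
   ([33, 43, 45, 46, 47], [33], .branch 43 383 392),
   ([33, 42], [33, 42], .refl 1 336),
   ([33, 42, 47], [33, 42, 47], .refl 2 385),
   ([33, 42, 47], [33, 42], .branch 47 394 395),
   ([33, 42, 46], [33, 42, 46], .refl 2 343),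
   ([33, 42, 46, 47], [33, 42, 46], .kill 24 47 397),
   ([33, 42, 46, 47], [33, 42], .branch 46 396 398)]

/-- Part of the certificate. -/
def nodesF4_10 : List Node :=
  [([33, 42, 45], [33, 42, 45], .refl 1 342),
   ([33, 42, 45, 46], [33, 42, 45], .branch 46 400 345),
   ([33, 42, 45, 46, 47], [33, 42, 45], .kill 26 47 401),
   ([33, 42, 45, 46, 47], [33, 42], .branch 45 399 402),
   ([33, 42, 43, 45, 46, 47], [33, 42], .kill 25 43 403),
   ([33, 42, 43, 45, 46, 47], [33], .branch 42 393 404),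
   ([33, 41], [33, 41], .refl 1 352),
   ([33, 41, 47], [33, 41, 47], .refl 3 397),
   ([33, 41, 47], [33, 41], .branch 47 406 407),
   ([33, 41, 45], [33, 41, 45], .refl 1 358),
   ([33, 41, 46], [33, 41, 46], .refl 2 409),
   ([33, 42, 46, 47], [33, 42, 46, 47], .kill 24 47 397),
   ([33, 41, 46, 47], [33, 41, 46, 47], .refl 3 411),
   ([33, 41, 46, 47], [33, 41, 46], .branch 47 410 412),
   ([33, 41, 46, 47], [33, 41], .branch 46 408 413),
   ([33, 41, 45, 47], [33, 41, 45, 47], .refl 2 412),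
   ([33, 41, 45, 47], [33, 41, 45], .branch 47 409 415),
   ([33, 41, 45, 46, 47], [33, 41, 45], .kill 25 46 416),
   ([33, 41, 45, 46, 47], [33, 41], .branch 45 414 417),
   ([33, 41, 43, 45, 46, 47], [33, 41], .kill 26 43 418),
   ([33, 41, 42, 43, 45, 46, 47], [33, 41], .kill 24 42 419),
   ([33, 41, 42, 43, 45, 46, 47], [33], .branch 41 405 420),
   ([33, 41, 42, 43, 44, 45, 46, 47], [33], .kill 40 44 421),
   ([33, 39, 41, 42, 43, 44, 45, 46, 47], [33], .kill 32 39 422),
   ([33, 38, 39, 41, 42, 43, 44, 45, 46, 47], [33], .kill 31 38 423),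
   ([33, 37, 38, 39, 41, 42, 43, 44, 45, 46, 47], [33], .kill 30 37 424),
   ([33, 37, 38, 39, 40, 41, 42, 43, 44, 45, 46, 47], [33], .zero 44 40 425),
   ([33, 36, 37, 38, 39, 40, 41, 42, 43, 44, 45, 46, 47], [33], .kill 29 36 426),
   ([33, 35, 36, 37, 38, 39, 40, 41, 42, 43, 44, 45, 46, 47], [33], .kill 28 35 427),
   ([33, 34, 35, 36, 37, 38, 39, 40, 41, 42, 43, 44, 45, 46, 47], [33], .kill 27 34 428),
   ([33, 34, 35, 36, 37, 38, 39, 40, 41, 42, 43, 44, 45, 46, 47], [], .branch 33 375 429),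
   ([32], [32], .refl 0 21),
   ([32, 44], [32, 44], .refl 0 56),
   ([32, 44], [32], .branch 44 431 432),
   ([32, 40], [32, 40], .refl 0 22),
   ([32, 44, 45], [32, 44, 45], .refl 0 58),
   ([32, 44, 45], [32, 44], .branch 45 432 435),
   ([32, 40, 44], [32, 40, 44], .kill 34 40 436),
   ([32, 40, 44], [32, 40], .branch 44 434 437),
   ([32, 40, 44], [32], .branch 40 433 438)]

/-- Part of the certificate. -/
def nodesF4_11 : List Node :=
  [([32, 39], [32, 39], .refl 0 91),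
   ([32, 43, 44], [32, 43, 44], .refl 1 435),
   ([32, 43, 44], [32, 44], .branch 43 432 441),
   ([32, 39, 44], [32, 39, 44], .kill 33 39 442),
   ([32, 39, 44], [32, 39], .branch 44 440 443),
   ([32, 39, 40, 44], [32, 39], .kill 27 40 444),
   ([32, 39, 40, 44], [32], .branch 39 439 445),
   ([32, 38], [32, 38], .refl 0 131),
   ([32, 38, 47], [32, 38], .kill 42 47 447),
   ([32, 38, 39], [32, 38], .kill 25 39 448),
   ([32, 38, 39, 44], [32, 38], .kill 35 44 449),
   ([32, 38, 39, 40, 44], [32, 38], .kill 28 40 450),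
   ([32, 38, 39, 40, 44], [32], .branch 38 446 451),
   ([32, 37], [32, 37], .refl 0 179),
   ([32, 37, 40], [32, 37], .kill 29 40 453),
   ([32, 37, 45], [32, 37, 45], .kill 34 45 454),
   ([32, 37, 45], [32, 37], .branch 45 453 455),
   ([32, 37, 46], [32, 37], .kill 41 46 453),
   ([32, 37, 39], [32, 37], .kill 26 39 457),
   ([32, 37, 43], [32, 37, 43], .kill 33 43 458),
   ([32, 37, 43, 44], [32, 37, 43], .kill 36 44 459),
   ([32, 37, 43, 45], [32, 37, 43, 45], .kill 27 45 460),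
   ([32, 37, 43, 45], [32, 37, 43], .branch 45 459 461),
   ([32, 37, 43, 45], [32, 37], .branch 43 456 462),
   ([32, 37, 39, 45], [32, 37], .kill 33 39 463),
   ([32, 37, 38, 39], [32, 37], .kill 24 38 464),
   ([32, 37, 38, 39, 44], [32, 37], .kill 36 44 465),
   ([32, 37, 38, 39, 40, 44], [32, 37], .kill 29 40 466),
   ([32, 37, 38, 39, 40, 44], [32], .branch 37 452 467),
   ([29, 45], [29, 45], .refl 0 130),
   ([29, 43], [29, 43], .refl 1 469),
   ([32, 36], [32, 36], .refl 0 470),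
   ([32, 36, 47], [32, 36], .kill 42 47 471),
   ([32, 36, 40], [32, 36], .kill 30 40 472),
   ([32, 36, 40, 44], [32, 36], .kill 37 44 473),
   ([32, 36, 39, 40, 44], [32, 36], .kill 28 39 474),
   ([32, 36, 38, 39, 40, 44], [32, 36], .kill 27 38 475),
   ([32, 36, 37, 38, 39, 40, 44], [32, 36], .zero 44 37 476),
   ([32, 36, 37, 38, 39, 40, 44], [32], .branch 36 468 477),
   ([28, 45], [28, 45], .refl 0 178)]

/-- Part of the certificate. -/
def nodesF4_12 : List Node :=
  [([28, 43], [28, 43], .refl 1 479),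
   ([32, 35], [32, 35], .refl 0 480),
   ([32, 35, 46], [32, 35], .kill 41 46 481),
   ([32, 35, 40], [32, 35], .kill 31 40 482),
   ([32, 35, 45], [32, 35, 45], .kill 34 45 483),
   ([32, 35, 45], [32, 35], .branch 45 481 484),
   ([32, 35, 39], [32, 35], .kill 29 39 481),
   ([32, 35, 43], [32, 35, 43], .kill 33 43 486),
   ([32, 35, 39, 45], [32, 35, 45], .kill 29 39 484),
   ([32, 35, 43, 45], [32, 35, 43, 45], .kill 33 43 488),
   ([32, 35, 43, 45], [32, 35, 43], .branch 45 487 489),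
   ([32, 35, 43, 45], [32, 35], .branch 43 485 490),
   ([32, 35, 40, 43], [32, 35], .kill 34 40 491),
   ([32, 35, 36, 40], [32, 35], .kill 24 36 492),
   ([32, 35, 36, 40, 44], [32, 35], .kill 38 44 493),
   ([32, 35, 36, 39, 40, 44], [32, 35], .kill 29 39 494),
   ([32, 35, 36, 38, 39, 40, 44], [32, 35], .zero 44 38 495),
   ([32, 35, 36, 37, 38, 39, 40, 44], [32, 35], .kill 27 37 496),
   ([32, 35, 36, 37, 38, 39, 40, 44], [32], .branch 35 478 497),
   ([32, 35, 36, 37, 38, 39, 40, 44, 47], [32], .kill 42 47 498),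
   ([32, 35, 36, 37, 38, 39, 40, 44, 46, 47], [32], .kill 41 46 499),
   ([32, 35, 36, 37, 38, 39, 40, 44, 45, 46, 47], [32], .kill 34 45 500),
   ([32, 35, 36, 37, 38, 39, 40, 43, 44, 45, 46, 47], [32], .kill 33 43 501),
   ([32, 35, 36, 37, 38, 39, 40, 42, 43, 44, 45, 46, 47], [32], .zero 47 42 502),
   ([32, 35, 36, 37, 38, 39, 40, 41, 42, 43, 44, 45, 46, 47], [32], .zero 46 41 503),
   ([32, 34, 35, 36, 37, 38, 39, 40, 41, 42, 43, 44, 45, 46, 47], [32], .zero 40 34 504),
   ([32, 33, 34, 35, 36, 37, 38, 39, 40, 41, 42, 43, 44, 45, 46, 47], [32], .zero 39 33 505),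
   ([32, 33, 34, 35, 36, 37, 38, 39, 40, 41, 42, 43, 44, 45, 46, 47], [], .branch 32 430 506),
   ([31], [31], .refl 0 28),
   ([31, 44], [31, 44], .refl 0 63),
   ([31, 44], [31], .branch 44 508 509),
   ([31, 40], [31, 40], .refl 0 29),
   ([31, 44, 46], [31, 44, 46], .refl 0 65),
   ([31, 44, 46], [31, 44], .branch 46 509 512),
   ([31, 40, 44], [31, 40, 44], .kill 35 40 513),
   ([31, 40, 44], [31, 40], .branch 44 511 514),
   ([31, 40, 44], [31], .branch 40 510 515),
   ([31, 39], [31, 39], .refl 0 97),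
   ([31, 39, 44], [31, 39], .kill 34 44 517),
   ([31, 39, 40, 44], [31, 39], .kill 27 40 518)]

/-- Part of the certificate. -/
def nodesF4_13 : List Node :=
  [([31, 39, 40, 44], [31], .branch 39 516 519),
   ([31, 38], [31, 38], .refl 0 138),
   ([31, 42, 44], [31, 42, 44], .refl 2 441),
   ([31, 42, 44], [31, 44], .branch 42 509 522),
   ([31, 38, 44], [31, 38, 44], .kill 33 38 523),
   ([31, 38, 44], [31, 38], .branch 44 521 524),
   ([32, 38, 43], [32, 38, 43], .kill 33 43 449),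
   ([31, 39, 42], [31, 39, 42], .refl 2 526),
   ([31, 39, 42], [31, 39], .branch 42 517 527),
   ([31, 38, 39], [31, 38, 39], .kill 33 38 528),
   ([31, 38, 39, 44], [31, 38, 39], .kill 34 44 529),
   ([31, 38, 39, 44], [31, 38], .branch 39 525 530),
   ([31, 38, 39, 40, 44], [31, 38], .kill 28 40 531),
   ([31, 38, 39, 40, 44], [31], .branch 38 520 532),
   ([31, 37], [31, 37], .refl 0 186),
   ([31, 37, 40], [31, 37], .kill 29 40 534),
   ([31, 37, 46], [31, 37, 46], .kill 35 46 535),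
   ([31, 37, 46], [31, 37], .branch 46 534 536),
   ([31, 37, 39], [31, 37], .kill 26 39 537),
   ([31, 37, 39, 45], [31, 37], .kill 41 45 538),
   ([31, 37, 38, 39], [31, 37], .kill 24 38 539),
   ([31, 37, 38, 39, 44], [31, 37], .kill 36 44 540),
   ([31, 37, 38, 39, 40, 44], [31, 37], .kill 29 40 541),
   ([31, 37, 38, 39, 40, 44], [31], .branch 37 533 542),
   ([29, 42], [29, 42], .refl 2 470),
   ([31, 36], [31, 36], .refl 0 544),
   ([31, 36, 47], [31, 36], .kill 43 47 545),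
   ([31, 36, 40], [31, 36], .kill 30 40 546),
   ([31, 36, 40, 44], [31, 36], .kill 37 44 547),
   ([31, 36, 39, 40, 44], [31, 36], .kill 28 39 548),
   ([31, 36, 38, 39, 40, 44], [31, 36], .kill 27 38 549),
   ([31, 36, 37, 38, 39, 40, 44], [31, 36], .zero 44 37 550),
   ([31, 36, 37, 38, 39, 40, 44], [31], .branch 36 543 551),
   ([27, 42], [27, 42], .refl 2 480),
   ([31, 34], [31, 34], .refl 0 553),
   ([31, 34, 45], [31, 34], .kill 41 45 554),
   ([31, 34, 40], [31, 34], .kill 32 40 555),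
   ([31, 34, 46], [31, 34, 46], .kill 35 46 556),
   ([31, 34, 46], [31, 34], .branch 46 554 557),
   ([31, 34, 38], [31, 34], .kill 29 38 554)]

/-- Part of the certificate. -/
def nodesF4_14 : List Node :=
  [([31, 34, 42], [31, 34, 42], .kill 33 42 559),
   ([31, 34, 38, 46], [31, 34, 46], .kill 29 38 557),
   ([31, 34, 42, 46], [31, 34, 42, 46], .kill 33 42 561),
   ([31, 34, 42, 46], [31, 34, 42], .branch 46 560 562),
   ([31, 34, 42, 46], [31, 34], .branch 42 558 563),
   ([31, 34, 40, 42], [31, 34], .kill 35 40 564),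
   ([31, 34, 36, 40], [31, 34], .kill 26 36 565),
   ([31, 34, 36, 40, 44], [31, 34], .kill 39 44 566),
   ([31, 34, 36, 38, 40, 44], [31, 34], .kill 29 38 567),
   ([31, 34, 36, 38, 39, 40, 44], [31, 34], .zero 44 39 568),
   ([31, 34, 36, 37, 38, 39, 40, 44], [31, 34], .kill 28 37 569),
   ([31, 34, 36, 37, 38, 39, 40, 44], [31], .branch 34 552 570),
   ([31, 34, 36, 37, 38, 39, 40, 44, 47], [31], .kill 43 47 571),
   ([31, 34, 36, 37, 38, 39, 40, 44, 46, 47], [31], .kill 35 46 572),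
   ([31, 34, 36, 37, 38, 39, 40, 44, 45, 46, 47], [31], .kill 41 45 573),
   ([31, 34, 36, 37, 38, 39, 40, 42, 44, 45, 46, 47], [31], .kill 33 42 574),
   ([31, 34, 36, 37, 38, 39, 40, 42, 43, 44, 45, 46, 47], [31], .zero 47 43 575),
   ([31, 34, 36, 37, 38, 39, 40, 41, 42, 43, 44, 45, 46, 47], [31], .zero 45 41 576),
   ([31, 34, 35, 36, 37, 38, 39, 40, 41, 42, 43, 44, 45, 46, 47], [31], .zero 40 35 577),
   ([31, 32, 34, 35, 36, 37, 38, 39, 40, 41, 42, 43, 44, 45, 46, 47], [31], .kill 25 32 578),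
   ([31, 32, 33, 34, 35, 36, 37, 38, 39, 40, 41, 42, 43, 44, 45, 46, 47], [31], .zero 38 33 579),
   ([31, 32, 33, 34, 35, 36, 37, 38, 39, 40, 41, 42, 43, 44, 45, 46, 47], [], .branch 31 507 580),
   ([30], [30], .refl 0 36),
   ([30, 44], [30, 44], .refl 0 71),
   ([30, 44], [30], .branch 44 582 583),
   ([30, 40], [30, 40], .refl 0 37),
   ([30, 44, 47], [30, 44, 47], .refl 0 73),
   ([30, 44, 47], [30, 44], .branch 47 583 586),
   ([30, 40, 44], [30, 40, 44], .kill 36 40 587),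
   ([30, 40, 44], [30, 40], .branch 44 585 588),
   ([30, 40, 44], [30], .branch 40 584 589),
   ([30, 39], [30, 39], .refl 0 105),
   ([30, 39, 44], [30, 39], .kill 34 44 591),
   ([30, 39, 40, 44], [30, 39], .kill 27 40 592),
   ([30, 39, 40, 44], [30], .branch 39 590 593),
   ([30, 38], [30, 38], .refl 0 152),
   ([30, 38, 40], [30, 38], .kill 28 40 595),
   ([30, 38, 47], [30, 38, 47], .kill 36 47 596),
   ([30, 38, 47], [30, 38], .branch 47 595 597),
   ([30, 38, 39], [30, 38], .kill 25 39 598)]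

/-- Part of the certificate. -/
def nodesF4_15 : List Node :=
  [([30, 38, 39, 44], [30, 38], .kill 35 44 599),
   ([30, 38, 39, 40, 44], [30, 38], .kill 28 40 600),
   ([30, 38, 39, 40, 44], [30], .branch 38 594 601),
   ([30, 37], [30, 37], .refl 0 194),
   ([30, 41, 44], [30, 41, 44], .refl 3 522),
   ([30, 41, 44], [30, 44], .branch 41 583 604),
   ([30, 37, 44], [30, 37, 44], .kill 33 37 605),
   ([30, 37, 44], [30, 37], .branch 44 603 606),
   ([31, 37, 45], [31, 37], .kill 41 45 534),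
   ([31, 37, 38], [31, 37], .kill 24 38 608),
   ([31, 37, 42], [31, 37, 42], .kill 33 42 609),
   ([30, 38, 41], [30, 38, 41], .refl 3 610),
   ([30, 39, 41], [30, 39, 41], .refl 2 611),
   ([30, 39, 41], [30, 39], .branch 41 591 612),
   ([30, 37, 39], [30, 37, 39], .kill 33 37 613),
   ([30, 37, 39, 44], [30, 37, 39], .kill 34 44 614),
   ([30, 37, 39, 44], [30, 37], .branch 39 607 615),
   ([30, 38, 41, 44], [30, 38, 41], .kill 35 44 611),
   ([30, 38, 41, 47], [30, 38, 41, 47], .kill 29 47 617),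
   ([30, 38, 41, 47], [30, 38, 41], .branch 47 611 618),
   ([30, 38, 41, 47], [30, 38], .branch 41 598 619),
   ([30, 38, 39, 41], [30, 38], .kill 25 39 620),
   ([30, 37, 38, 39], [30, 37, 38], .kill 33 37 621),
   ([30, 37, 38, 39, 44], [30, 37, 38], .kill 35 44 622),
   ([30, 37, 38, 39, 44], [30, 37], .branch 38 616 623),
   ([30, 37, 38, 39, 40, 44], [30, 37], .kill 29 40 624),
   ([30, 37, 38, 39, 40, 44], [30], .branch 37 602 625),
   ([28, 41], [28, 41], .refl 3 544),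
   ([30, 35], [30, 35], .refl 0 627),
   ([30, 35, 46], [30, 35], .kill 43 46 628),
   ([30, 35, 40], [30, 35], .kill 31 40 629),
   ([30, 35, 40, 44], [30, 35], .kill 38 44 630),
   ([30, 35, 39, 40, 44], [30, 35], .kill 29 39 631),
   ([30, 35, 37, 39, 40, 44], [30, 35], .kill 27 37 632),
   ([30, 35, 37, 38, 39, 40, 44], [30, 35], .zero 44 38 633),
   ([30, 35, 37, 38, 39, 40, 44], [30], .branch 35 626 634),
   ([27, 41], [27, 41], .refl 2 627),
   ([30, 34], [30, 34], .refl 0 636),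
   ([30, 34, 45], [30, 34], .kill 42 45 637),
   ([30, 34, 40], [30, 34], .kill 32 40 638)]

/-- Part of the certificate. -/
def nodesF4_16 : List Node :=
  [([30, 34, 47], [30, 34, 47], .kill 36 47 639),
   ([30, 34, 47], [30, 34], .branch 47 637 640),
   ([30, 34, 37], [30, 34], .kill 28 37 637),
   ([30, 34, 41], [30, 34, 41], .kill 33 41 642),
   ([30, 34, 37, 47], [30, 34, 47], .kill 28 37 640),
   ([30, 34, 41, 47], [30, 34, 41, 47], .kill 33 41 644),
   ([30, 34, 41, 47], [30, 34, 41], .branch 47 643 645),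
   ([30, 34, 41, 47], [30, 34], .branch 41 641 646),
   ([30, 34, 40, 41], [30, 34], .kill 36 40 647),
   ([30, 34, 35, 40], [30, 34], .kill 25 35 648),
   ([30, 34, 35, 40, 44], [30, 34], .kill 39 44 649),
   ([30, 34, 35, 39, 40, 44], [30, 34], .zero 44 39 650),
   ([30, 34, 35, 38, 39, 40, 44], [30, 34], .kill 29 38 651),
   ([30, 34, 35, 37, 38, 39, 40, 44], [30, 34], .kill 28 37 652),
   ([30, 34, 35, 37, 38, 39, 40, 44], [30], .branch 34 635 653),
   ([30, 34, 35, 37, 38, 39, 40, 44, 47], [30], .kill 36 47 654),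
   ([30, 34, 35, 37, 38, 39, 40, 44, 46, 47], [30], .kill 43 46 655),
   ([30, 34, 35, 37, 38, 39, 40, 44, 45, 46, 47], [30], .kill 42 45 656),
   ([30, 34, 35, 37, 38, 39, 40, 41, 44, 45, 46, 47], [30], .kill 33 41 657),
   ([30, 34, 35, 37, 38, 39, 40, 41, 43, 44, 45, 46, 47], [30], .zero 46 43 658),
   ([30, 34, 35, 37, 38, 39, 40, 41, 42, 43, 44, 45, 46, 47], [30], .zero 45 42 659),
   ([30, 34, 35, 36, 37, 38, 39, 40, 41, 42, 43, 44, 45, 46, 47], [30], .zero 40 36 660),
   ([30, 32, 34, 35, 36, 37, 38, 39, 40, 41, 42, 43, 44, 45, 46, 47], [30], .kill 26 32 661),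
   ([30, 31, 32, 34, 35, 36, 37, 38, 39, 40, 41, 42, 43, 44, 45, 46, 47], [30], .kill 24 31 662),
   ([30, 31, 32, 33, 34, 35, 36, 37, 38, 39, 40, 41, 42, 43, 44, 45, 46, 47], [30], .zero 37 33 663),
   ([30, 31, 32, 33, 34, 35, 36, 37, 38, 39, 40, 41, 42, 43, 44, 45, 46, 47], [], .branch 30 581 664),
   ([29], [29], .refl 0 219),
   ([29, 47], [29, 47], .refl 0 220),
   ([29, 47], [29], .branch 47 666 667),
   ([29, 46], [29, 46], .refl 0 129),
   ([29, 46, 47], [29, 46], .kill 24 47 669),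
   ([29, 46, 47], [29], .branch 46 668 670),
   ([29, 45, 47], [29, 45], .kill 26 47 469),
   ([29, 45, 46, 47], [29, 45], .kill 25 46 672),
   ([29, 45, 46, 47], [29], .branch 45 671 673),
   ([29, 43, 47], [29, 43], .kill 31 47 470),
   ([29, 43, 44], [29, 43], .kill 41 44 675),
   ([29, 43, 45], [29, 43, 45], .kill 27 45 676),
   ([29, 43, 45], [29, 43], .branch 45 470 677),
   ([29, 43, 45, 47], [29, 43], .kill 31 47 678)]

/-- Part of the certificate. -/
def nodesF4_17 : List Node :=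
  [([29, 43, 45, 46, 47], [29, 43], .kill 30 46 679),
   ([29, 43, 45, 46, 47], [29], .branch 43 674 680),
   ([29, 42, 47], [29, 42], .kill 32 47 544),
   ([29, 42, 44], [29, 42], .kill 41 44 682),
   ([29, 42, 46], [29, 42, 46], .kill 28 46 683),
   ([29, 42, 46], [29, 42], .branch 46 544 684),
   ([29, 42, 46, 47], [29, 42], .kill 32 47 685),
   ([29, 42, 45, 46, 47], [29, 42], .kill 30 45 686),
   ([29, 42, 43, 45, 46, 47], [29, 42], .kill 25 43 687),
   ([29, 42, 43, 45, 46, 47], [29], .branch 42 681 688),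
   ([29, 32], [29, 32], .refl 0 227),
   ([29, 32, 46], [29, 32, 46], .refl 0 228),
   ([29, 32, 46], [29, 32], .branch 46 690 691),
   ([29, 32, 45], [29, 32, 45], .refl 0 143),
   ([29, 32, 45, 46], [29, 32, 45], .kill 25 46 693),
   ([29, 32, 45, 46], [29, 32], .branch 45 692 694),
   ([32, 36, 39], [32, 36], .kill 28 39 471),
   ([32, 36, 43], [32, 36, 43], .kill 33 43 696),
   ([29, 32, 43], [29, 32, 43], .refl 0 697),
   ([32, 36, 45], [32, 36, 45], .kill 34 45 473),
   ([32, 36, 39, 45], [32, 36, 45], .kill 28 39 699),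
   ([32, 36, 43, 45], [32, 36, 43, 45], .kill 33 43 700),
   ([29, 32, 43, 45], [29, 32, 43, 45], .refl 0 701),
   ([29, 32, 43, 45], [29, 32, 43], .branch 45 698 702),
   ([29, 32, 43, 45, 46], [29, 32, 43], .kill 30 46 703),
   ([29, 32, 43, 45, 46], [29, 32], .branch 43 695 704),
   ([29, 32, 43, 45, 46, 47], [29, 32], .kill 42 47 705),
   ([29, 32, 42, 43, 45, 46, 47], [29, 32], .zero 47 42 706),
   ([29, 32, 42, 43, 45, 46, 47], [29], .branch 32 689 707),
   ([29, 31], [29, 31], .refl 0 234),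
   ([29, 31, 46], [29, 31, 46], .refl 0 235),
   ([29, 31, 46], [29, 31], .branch 46 709 710),
   ([29, 31, 45], [29, 31, 45], .refl 0 237),
   ([29, 32, 45, 46], [29, 32, 45, 46], .kill 25 46 693),
   ([29, 31, 45, 46], [29, 31, 45, 46], .refl 2 713),
   ([29, 31, 45, 46], [29, 31, 45], .branch 46 712 714),
   ([29, 31, 45, 46], [29, 31], .branch 45 711 715),
   ([31, 36, 38], [31, 36], .kill 27 38 545),
   ([31, 36, 42], [31, 36, 42], .kill 33 42 717),
   ([29, 31, 42], [29, 31, 42], .refl 0 718)]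

/-- Part of the certificate. -/
def nodesF4_18 : List Node :=
  [([31, 36, 46], [31, 36, 46], .kill 35 46 547),
   ([31, 36, 38, 46], [31, 36, 46], .kill 27 38 720),
   ([31, 36, 42, 46], [31, 36, 42, 46], .kill 33 42 721),
   ([29, 31, 42, 46], [29, 31, 42, 46], .refl 0 722),
   ([29, 31, 42, 46], [29, 31, 42], .branch 46 719 723),
   ([29, 31, 42, 45, 46], [29, 31, 42], .kill 30 45 724),
   ([29, 31, 42, 45, 46], [29, 31], .branch 42 716 725),
   ([29, 31, 42, 45, 46, 47], [29, 31], .kill 43 47 726),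
   ([29, 31, 42, 43, 45, 46, 47], [29, 31], .zero 47 43 727),
   ([29, 31, 32, 42, 43, 45, 46, 47], [29, 31], .kill 25 32 728),
   ([29, 31, 32, 42, 43, 45, 46, 47], [29], .branch 31 708 729),
   ([29, 30], [29, 30], .refl 0 243),
   ([29, 30, 40], [29, 30], .kill 37 40 731),
   ([29, 30, 47], [29, 30, 47], .kill 36 47 732),
   ([29, 30, 47], [29, 30], .branch 47 731 733),
   ([29, 30, 46, 47], [29, 30], .kill 43 46 734),
   ([29, 30, 45, 46, 47], [29, 30], .kill 42 45 735),
   ([29, 30, 32, 45, 46, 47], [29, 30], .kill 26 32 736),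
   ([29, 30, 31, 32, 45, 46, 47], [29, 30], .kill 24 31 737),
   ([29, 30, 31, 32, 43, 45, 46, 47], [29, 30], .zero 46 43 738),
   ([29, 30, 31, 32, 42, 43, 45, 46, 47], [29, 30], .zero 45 42 739),
   ([29, 30, 31, 32, 42, 43, 45, 46, 47], [29], .branch 30 730 740),
   ([29, 30, 31, 32, 42, 43, 44, 45, 46, 47], [29], .kill 41 44 741),
   ([29, 30, 31, 32, 40, 42, 43, 44, 45, 46, 47], [29], .kill 37 40 742),
   ([29, 30, 31, 32, 39, 40, 42, 43, 44, 45, 46, 47], [29], .kill 35 39 743),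
   ([29, 30, 31, 32, 38, 39, 40, 42, 43, 44, 45, 46, 47], [29], .kill 34 38 744),
   ([29, 30, 31, 32, 38, 39, 40, 41, 42, 43, 44, 45, 46, 47], [29], .zero 44 41 745),
   ([29, 30, 31, 32, 37, 38, 39, 40, 41, 42, 43, 44, 45, 46, 47], [29], .zero 40 37 746),
   ([29, 30, 31, 32, 36, 37, 38, 39, 40, 41, 42, 43, 44, 45, 46, 47], [29], .kill 33 36 747),
   ([29, 30, 31, 32, 35, 36, 37, 38, 39, 40, 41, 42, 43, 44, 45, 46, 47], [29], .zero 39 35 748),
   ([29, 30, 31, 32, 34, 35, 36, 37, 38, 39, 40, 41, 42, 43, 44, 45, 46, 47], [29], .zero 38 34 749),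
   ([29, 30, 31, 32, 33, 34, 35, 36, 37, 38, 39, 40, 41, 42, 43, 44, 45, 46, 47], [29], .zero 36 33 750),
   ([29, 30, 31, 32, 33, 34, 35, 36, 37, 38, 39, 40, 41, 42, 43, 44, 45, 46, 47], [], .branch 29 665 751),
   ([28], [28], .refl 0 258),
   ([28, 47], [28, 47], .refl 0 259),
   ([28, 47], [28], .branch 47 753 754),
   ([28, 46], [28, 46], .refl 0 261),
   ([29, 46, 47], [29, 46, 47], .kill 24 47 669),
   ([28, 46, 47], [28, 46, 47], .refl 3 757),
   ([28, 46, 47], [28, 46], .branch 47 756 758)]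

/-- Part of the certificate. -/
def nodesF4_19 : List Node :=
  [([28, 46, 47], [28], .branch 46 755 759),
   ([28, 45, 47], [28, 45], .kill 26 47 479),
   ([28, 45, 46, 47], [28, 45], .kill 25 46 761),
   ([28, 45, 46, 47], [28], .branch 45 760 762),
   ([28, 43, 46], [28, 43], .kill 30 46 480),
   ([28, 43, 44], [28, 43], .kill 42 44 764),
   ([28, 43, 45], [28, 43, 45], .kill 27 45 765),
   ([28, 43, 45], [28, 43], .branch 45 480 766),
   ([28, 43, 45, 47], [28, 43], .kill 31 47 767),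
   ([28, 43, 45, 46, 47], [28, 43], .kill 30 46 768),
   ([28, 43, 45, 46, 47], [28], .branch 43 763 769),
   ([28, 41, 46], [28, 41], .kill 32 46 627),
   ([28, 41, 44], [28, 41], .kill 42 44 771),
   ([28, 41, 47], [28, 41, 47], .kill 29 47 772),
   ([28, 41, 47], [28, 41], .branch 47 627 773),
   ([28, 41, 46, 47], [28, 41], .kill 32 46 774),
   ([28, 41, 45, 46, 47], [28, 41], .kill 31 45 775),
   ([28, 41, 43, 45, 46, 47], [28, 41], .kill 26 43 776),
   ([28, 41, 43, 45, 46, 47], [28], .branch 41 770 777),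
   ([28, 32], [28, 32], .refl 0 269),
   ([28, 32, 47], [28, 32, 47], .refl 0 270),
   ([28, 32, 47], [28, 32], .branch 47 779 780),
   ([28, 32, 45], [28, 32, 45], .refl 0 272),
   ([28, 32, 45, 47], [28, 32, 45], .kill 26 47 782),
   ([28, 32, 45, 47], [28, 32], .branch 45 781 783),
   ([28, 32, 43], [28, 32, 43], .refl 0 487),
   ([28, 32, 43, 45], [28, 32, 43, 45], .refl 0 489),
   ([28, 32, 43, 45], [28, 32, 43], .branch 45 785 786),
   ([28, 32, 43, 45, 47], [28, 32, 43], .kill 31 47 787),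
   ([28, 32, 43, 45, 47], [28, 32], .branch 43 784 788),
   ([28, 32, 43, 45, 46, 47], [28, 32], .kill 41 46 789),
   ([28, 32, 41, 43, 45, 46, 47], [28, 32], .zero 46 41 790),
   ([28, 32, 41, 43, 45, 46, 47], [28], .branch 32 778 791),
   ([28, 31], [28, 31], .refl 0 277),
   ([28, 31, 40], [28, 31], .kill 38 40 793),
   ([28, 31, 46], [28, 31, 46], .kill 35 46 794),
   ([28, 31, 46], [28, 31], .branch 46 793 795),
   ([28, 31, 46, 47], [28, 31], .kill 43 47 796),
   ([28, 31, 45, 46, 47], [28, 31], .kill 41 45 797),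
   ([28, 31, 32, 45, 46, 47], [28, 31], .kill 25 32 798)]

/-- Part of the certificate. -/
def nodesF4_20 : List Node :=
  [([28, 31, 32, 43, 45, 46, 47], [28, 31], .zero 47 43 799),
   ([28, 31, 32, 41, 43, 45, 46, 47], [28, 31], .zero 45 41 800),
   ([28, 31, 32, 41, 43, 45, 46, 47], [28], .branch 31 792 801),
   ([28, 30], [28, 30], .refl 0 285),
   ([28, 30, 47], [28, 30, 47], .refl 0 286),
   ([28, 30, 47], [28, 30], .branch 47 803 804),
   ([28, 30, 45], [28, 30, 45], .refl 0 288),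
   ([27, 31, 46], [27, 31, 46], .refl 0 289),
   ([27, 31, 46, 47], [27, 31, 46, 47], .kill 24 47 807),
   ([27, 30, 46, 47], [27, 30, 46, 47], .refl 3 808),
   ([28, 30, 45, 47], [28, 30, 45, 47], .refl 2 809),
   ([28, 30, 45, 47], [28, 30, 45], .branch 47 806 810),
   ([28, 30, 45, 47], [28, 30], .branch 45 805 811),
   ([30, 35, 37], [30, 35], .kill 27 37 628),
   ([30, 35, 41], [30, 35, 41], .kill 33 41 813),
   ([28, 30, 41], [28, 30, 41], .refl 0 814),
   ([30, 35, 47], [30, 35, 47], .kill 36 47 630),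
   ([30, 35, 37, 47], [30, 35, 47], .kill 27 37 816),
   ([30, 35, 41, 47], [30, 35, 41, 47], .kill 33 41 817),
   ([28, 30, 41, 47], [28, 30, 41, 47], .refl 0 818),
   ([28, 30, 41, 47], [28, 30, 41], .branch 47 815 819),
   ([28, 30, 41, 45, 47], [28, 30, 41], .kill 31 45 820),
   ([28, 30, 41, 45, 47], [28, 30], .branch 41 812 821),
   ([29, 30, 31], [29, 30, 31], .kill 24 31 731),
   ([28, 30, 31], [28, 30, 31], .refl 3 823),
   ([29, 30, 46, 47], [29, 30, 46], .kill 43 46 734),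
   ([29, 30, 31, 46], [29, 30, 31, 46], .kill 24 31 825),
   ([28, 30, 31, 47], [28, 30, 31, 47], .refl 3 826),
   ([28, 30, 31, 47], [28, 30, 31], .branch 47 824 827),
   ([28, 30, 31, 45, 47], [28, 30, 31], .kill 41 45 828),
   ([28, 30, 31, 41, 45, 47], [28, 30, 31], .zero 45 41 829),
   ([28, 30, 31, 41, 45, 47], [28, 30], .branch 31 822 830),
   ([28, 30, 31, 41, 45, 46, 47], [28, 30], .kill 43 46 831),
   ([28, 30, 31, 41, 43, 45, 46, 47], [28, 30], .zero 46 43 832),
   ([28, 30, 31, 32, 41, 43, 45, 46, 47], [28, 30], .kill 26 32 833),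
   ([28, 30, 31, 32, 41, 43, 45, 46, 47], [28], .branch 30 802 834),
   ([28, 30, 31, 32, 41, 43, 44, 45, 46, 47], [28], .kill 42 44 835),
   ([28, 30, 31, 32, 40, 41, 43, 44, 45, 46, 47], [28], .kill 38 40 836),
   ([28, 30, 31, 32, 39, 40, 41, 43, 44, 45, 46, 47], [28], .kill 36 39 837),
   ([28, 30, 31, 32, 37, 39, 40, 41, 43, 44, 45, 46, 47], [28], .kill 34 37 838)]

/-- Part of the certificate. -/
def nodesF4_21 : List Node :=
  [([28, 30, 31, 32, 37, 39, 40, 41, 42, 43, 44, 45, 46, 47], [28], .zero 44 42 839),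
   ([28, 30, 31, 32, 37, 38, 39, 40, 41, 42, 43, 44, 45, 46, 47], [28], .zero 40 38 840),
   ([28, 30, 31, 32, 35, 37, 38, 39, 40, 41, 42, 43, 44, 45, 46, 47], [28], .kill 33 35 841),
   ([28, 30, 31, 32, 35, 36, 37, 38, 39, 40, 41, 42, 43, 44, 45, 46, 47], [28], .zero 39 36 842),
   ([28, 29, 30, 31, 32, 35, 36, 37, 38, 39, 40, 41, 42, 43, 44, 45, 46, 47], [28], .kill 24 29 843),
   ([28, 29, 30, 31, 32, 34, 35, 36, 37, 38, 39, 40, 41, 42, 43, 44, 45, 46, 47], [28], .zero 37 34 844),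
   ([28, 29, 30, 31, 32, 33, 34, 35, 36, 37, 38, 39, 40, 41, 42, 43, 44, 45, 46, 47], [28], .zero 35 33 845),
   ([28, 29, 30, 31, 32, 33, 34, 35, 36, 37, 38, 39, 40, 41, 42, 43, 44, 45, 46, 47], [], .branch 28 752 846),
   ([27], [27], .refl 0 313),
   ([27, 47], [27, 47], .refl 0 314),
   ([27, 47], [27], .branch 47 848 849),
   ([27, 46], [27, 46], .refl 0 316),
   ([27, 46, 47], [27, 46], .kill 24 47 851),
   ([27, 46, 47], [27], .branch 46 850 852),
   ([27, 45], [27, 45], .refl 0 319),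
   ([27, 45, 47], [27, 45, 47], .refl 2 758),
   ([27, 45, 47], [27, 45], .branch 47 854 855),
   ([28, 45, 46], [28, 45, 46], .kill 25 46 479),
   ([27, 45, 46], [27, 45, 46], .refl 2 857),
   ([27, 45, 46, 47], [27, 45, 46], .kill 24 47 858),
   ([27, 45, 46, 47], [27, 45], .branch 46 856 859),
   ([27, 45, 46, 47], [27], .branch 45 853 860),
   ([27, 42, 45], [27, 42], .kill 30 45 553),
   ([27, 42, 44], [27, 42], .kill 43 44 862),
   ([27, 42, 46], [27, 42, 46], .kill 28 46 863),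
   ([27, 42, 46], [27, 42], .branch 46 553 864),
   ([27, 42, 46, 47], [27, 42], .kill 32 47 865),
   ([27, 42, 45, 46, 47], [27, 42], .kill 30 45 866),
   ([27, 42, 45, 46, 47], [27], .branch 42 861 867),
   ([27, 41, 45], [27, 41], .kill 31 45 636),
   ([27, 41, 44], [27, 41], .kill 43 44 869),
   ([27, 41, 47], [27, 41, 47], .kill 29 47 870),
   ([27, 41, 47], [27, 41], .branch 47 636 871),
   ([27, 41, 46, 47], [27, 41], .kill 32 46 872),
   ([27, 41, 45, 46, 47], [27, 41], .kill 31 45 873),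
   ([27, 41, 42, 45, 46, 47], [27, 41], .kill 24 42 874),
   ([27, 41, 42, 45, 46, 47], [27], .branch 41 868 875),
   ([27, 32], [27, 32], .refl 0 329),
   ([27, 32, 40], [27, 32], .kill 39 40 877),
   ([27, 32, 45], [27, 32, 45], .kill 34 45 878)]

/-- Part of the certificate. -/
def nodesF4_22 : List Node :=
  [([27, 32, 45], [27, 32], .branch 45 877 879),
   ([27, 32, 45, 47], [27, 32], .kill 42 47 880),
   ([27, 32, 45, 46, 47], [27, 32], .kill 41 46 881),
   ([27, 32, 42, 45, 46, 47], [27, 32], .zero 47 42 882),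
   ([27, 32, 41, 42, 45, 46, 47], [27, 32], .zero 46 41 883),
   ([27, 32, 41, 42, 45, 46, 47], [27], .branch 32 876 884),
   ([27, 31], [27, 31], .refl 0 336),
   ([27, 31, 47], [27, 31, 47], .refl 0 337),
   ([27, 31, 47], [27, 31], .branch 47 886 887),
   ([27, 31, 46, 47], [27, 31, 46], .kill 24 47 807),
   ([27, 31, 46, 47], [27, 31], .branch 46 888 889),
   ([27, 31, 42], [27, 31, 42], .refl 0 560),
   ([27, 31, 42, 46], [27, 31, 42, 46], .refl 0 562),
   ([27, 31, 42, 46], [27, 31, 42], .branch 46 891 892),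
   ([27, 31, 42, 46, 47], [27, 31, 42], .kill 32 47 893),
   ([27, 31, 42, 46, 47], [27, 31], .branch 42 890 894),
   ([28, 31, 32], [28, 31, 32], .kill 25 32 793),
   ([27, 31, 32], [27, 31, 32], .refl 2 896),
   ([28, 31, 45, 46], [28, 31, 45], .kill 41 45 796),
   ([28, 31, 32, 45], [28, 31, 32, 45], .kill 25 32 898),
   ([27, 31, 32, 46], [27, 31, 32, 46], .refl 2 899),
   ([27, 31, 32, 46], [27, 31, 32], .branch 46 897 900),
   ([27, 31, 32, 46, 47], [27, 31, 32], .kill 42 47 901),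
   ([27, 31, 32, 42, 46, 47], [27, 31, 32], .zero 47 42 902),
   ([27, 31, 32, 42, 46, 47], [27, 31], .branch 32 895 903),
   ([27, 31, 32, 42, 45, 46, 47], [27, 31], .kill 41 45 904),
   ([27, 31, 32, 41, 42, 45, 46, 47], [27, 31], .zero 45 41 905),
   ([27, 31, 32, 41, 42, 45, 46, 47], [27], .branch 31 885 906),
   ([27, 30], [27, 30], .refl 0 352),
   ([27, 30, 47], [27, 30, 47], .refl 0 353),
   ([27, 30, 47], [27, 30], .branch 47 908 909),
   ([27, 30, 46], [27, 30, 46], .refl 0 355),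
   ([27, 30, 46, 47], [27, 30, 46], .branch 47 911 809),
   ([27, 30, 46, 47], [27, 30], .branch 46 910 912),
   ([27, 30, 41], [27, 30, 41], .refl 0 643),
   ([27, 30, 41, 47], [27, 30, 41, 47], .refl 0 645),
   ([27, 30, 41, 47], [27, 30, 41], .branch 47 914 915),
   ([27, 30, 41, 46, 47], [27, 30, 41], .kill 32 46 916),
   ([27, 30, 41, 46, 47], [27, 30], .branch 41 913 917),
   ([27, 30, 32], [27, 30, 32], .refl 2 824)]

/-- Part of the certificate. -/
def nodesF4_23 : List Node :=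
  [([27, 30, 32, 40], [27, 30, 32], .kill 39 40 919),
   ([27, 30, 32, 45], [27, 30, 32], .kill 34 45 920),
   ([27, 30, 32, 47], [27, 30, 32, 47], .kill 42 47 921),
   ([27, 30, 32, 47], [27, 30, 32], .branch 47 919 922),
   ([27, 30, 32, 46, 47], [27, 30, 32], .kill 41 46 923),
   ([27, 30, 32, 41, 46, 47], [27, 30, 32], .zero 46 41 924),
   ([27, 30, 32, 41, 46, 47], [27, 30], .branch 32 918 925),
   ([27, 30, 32, 41, 45, 46, 47], [27, 30], .kill 42 45 926),
   ([27, 30, 32, 41, 42, 45, 46, 47], [27, 30], .zero 45 42 927),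
   ([27, 30, 31, 32, 41, 42, 45, 46, 47], [27, 30], .kill 24 31 928),
   ([27, 30, 31, 32, 41, 42, 45, 46, 47], [27], .branch 30 907 929),
   ([27, 30, 31, 32, 41, 42, 44, 45, 46, 47], [27], .kill 43 44 930),
   ([27, 30, 31, 32, 40, 41, 42, 44, 45, 46, 47], [27], .kill 39 40 931),
   ([27, 30, 31, 32, 38, 40, 41, 42, 44, 45, 46, 47], [27], .kill 36 38 932),
   ([27, 30, 31, 32, 37, 38, 40, 41, 42, 44, 45, 46, 47], [27], .kill 35 37 933),
   ([27, 30, 31, 32, 37, 38, 40, 41, 42, 43, 44, 45, 46, 47], [27], .zero 44 43 934),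
   ([27, 30, 31, 32, 37, 38, 39, 40, 41, 42, 43, 44, 45, 46, 47], [27], .zero 40 39 935),
   ([27, 30, 31, 32, 34, 37, 38, 39, 40, 41, 42, 43, 44, 45, 46, 47], [27], .kill 33 34 936),
   ([27, 30, 31, 32, 34, 36, 37, 38, 39, 40, 41, 42, 43, 44, 45, 46, 47], [27], .zero 38 36 937),
   ([27, 29, 30, 31, 32, 34, 36, 37, 38, 39, 40, 41, 42, 43, 44, 45, 46, 47], [27], .kill 26 29 938),
   ([27, 29, 30, 31, 32, 34, 35, 36, 37, 38, 39, 40, 41, 42, 43, 44, 45, 46, 47], [27], .zero 37 35 939),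
   ([27, 28, 29, 30, 31, 32, 34, 35, 36, 37, 38, 39, 40, 41, 42, 43, 44, 45, 46, 47], [27], .kill 25 28 940),
   ([27, 28, 29, 30, 31, 32, 33, 34, 35, 36, 37, 38, 39, 40, 41, 42, 43, 44, 45, 46, 47], [27], .zero 34 33 941),
   ([27, 28, 29, 30, 31, 32, 33, 34, 35, 36, 37, 38, 39, 40, 41, 42, 43, 44, 45, 46, 47], [], .branch 27 847 942),
   ([26], [26], .refl 1 508),
   ([26, 44], [26, 44], .refl 1 509),
   ([26, 44], [26], .branch 44 944 945),
   ([26, 40], [26, 40], .refl 0 945),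
   ([26, 40, 44], [26, 40], .kill 33 44 947),
   ([26, 40, 44], [26], .branch 40 946 948),
   ([26, 39], [26, 39], .refl 1 511),
   ([31, 39, 40], [31, 39], .kill 27 40 517),
   ([31, 39, 46], [31, 39, 46], .kill 35 46 951),
   ([26, 40, 46], [26, 40, 46], .refl 1 952),
   ([26, 44, 46], [26, 44, 46], .refl 0 953),
   ([26, 44, 46], [26, 44], .branch 46 945 954),
   ([26, 39, 44], [26, 39, 44], .kill 37 39 955),
   ([26, 39, 44], [26, 39], .branch 44 950 956),
   ([26, 40, 46], [26, 40], .branch 46 947 953),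
   ([26, 39, 40], [26, 39, 40], .kill 37 39 958)]

/-- Part of the certificate. -/
def nodesF4_24 : List Node :=
  [([26, 39, 40, 44], [26, 39, 40], .kill 33 44 959),
   ([26, 39, 40, 44], [26, 39], .branch 40 957 960),
   ([26, 39, 40, 44], [26], .branch 39 949 961),
   ([26, 38], [26, 38], .refl 1 545),
   ([26, 38, 47], [26, 38], .kill 45 47 963),
   ([26, 38, 39], [26, 38], .kill 25 39 964),
   ([26, 38, 39, 44], [26, 38], .kill 35 44 965),
   ([26, 38, 39, 40, 44], [26, 38], .kill 28 40 966),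
   ([26, 38, 39, 40, 44], [26], .branch 38 962 967),
   ([26, 36], [26, 36], .refl 1 521),
   ([26, 42, 44], [26, 42, 44], .refl 1 522),
   ([26, 42, 44], [26, 44], .branch 42 945 970),
   ([26, 36, 44], [26, 36, 44], .kill 34 36 971),
   ([26, 36, 44], [26, 36], .branch 44 969 972),
   ([26, 40, 42], [26, 40, 42], .refl 1 527),
   ([26, 40, 42], [26, 40], .branch 42 947 974),
   ([26, 36, 40], [26, 36, 40], .kill 34 36 975),
   ([26, 36, 40, 44], [26, 36, 40], .kill 33 44 976),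
   ([26, 36, 40, 44], [26, 36], .branch 40 973 977),
   ([26, 38, 46], [26, 38, 46], .kill 37 46 965),
   ([26, 38, 46], [26, 38], .branch 46 963 979),
   ([26, 38, 42], [26, 38, 42], .refl 1 718),
   ([26, 38, 42, 46], [26, 38, 42, 46], .refl 1 722),
   ([26, 38, 42, 46], [26, 38, 42], .branch 46 981 982),
   ([26, 38, 42, 46], [26, 38], .branch 42 980 983),
   ([26, 38, 42, 44, 46], [26, 38], .kill 35 44 984),
   ([26, 38, 40, 42], [26, 38], .kill 28 40 985),
   ([26, 36, 38, 40], [26, 36, 38], .kill 34 36 986),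
   ([26, 36, 38, 40, 44], [26, 36, 38], .kill 35 44 987),
   ([26, 36, 38, 40, 44], [26, 36], .branch 38 978 988),
   ([26, 36, 38, 39, 40, 44], [26, 36], .kill 28 39 989),
   ([26, 36, 38, 39, 40, 44], [26], .branch 36 968 990),
   ([26, 35], [26, 35], .refl 1 534),
   ([26, 35, 39], [26, 35], .kill 29 39 992),
   ([26, 35, 46], [26, 35, 46], .kill 37 46 993),
   ([26, 35, 46], [26, 35], .branch 46 992 994),
   ([26, 35, 40], [26, 35], .kill 31 40 995),
   ([26, 35, 40, 43], [26, 35], .kill 41 43 996),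
   ([26, 35, 36, 40], [26, 35], .kill 24 36 997),
   ([26, 35, 36, 40, 44], [26, 35], .kill 38 44 998)]

/-- Part of the certificate. -/
def nodesF4_25 : List Node :=
  [([26, 35, 36, 39, 40, 44], [26, 35], .kill 29 39 999),
   ([26, 35, 36, 38, 39, 40, 44], [26, 35], .zero 44 38 1000),
   ([26, 35, 36, 38, 39, 40, 44], [26], .branch 35 991 1001),
   ([26, 33], [26, 33], .refl 1 554),
   ([26, 33, 43], [26, 33], .kill 41 43 1003),
   ([26, 33, 39], [26, 33], .kill 32 39 1004),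
   ([26, 33, 46], [26, 33, 46], .kill 37 46 1005),
   ([26, 33, 46], [26, 33], .branch 46 1003 1006),
   ([26, 33, 36], [26, 33], .kill 29 36 1003),
   ([26, 33, 42], [26, 33, 42], .kill 34 42 1008),
   ([26, 33, 36, 46], [26, 33, 46], .kill 29 36 1006),
   ([26, 33, 42, 46], [26, 33, 42, 46], .kill 34 42 1010),
   ([26, 33, 42, 46], [26, 33, 42], .branch 46 1009 1011),
   ([26, 33, 42, 46], [26, 33], .branch 42 1007 1012),
   ([26, 33, 39, 42], [26, 33], .kill 37 39 1013),
   ([26, 33, 38, 39], [26, 33], .kill 31 38 1014),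
   ([26, 33, 38, 39, 44], [26, 33], .kill 40 44 1015),
   ([26, 33, 36, 38, 39, 44], [26, 33], .kill 29 36 1016),
   ([26, 33, 36, 38, 39, 40, 44], [26, 33], .zero 44 40 1017),
   ([26, 33, 35, 36, 38, 39, 40, 44], [26, 33], .kill 28 35 1018),
   ([26, 33, 35, 36, 38, 39, 40, 44], [26], .branch 33 1002 1019),
   ([26, 29], [26, 29], .refl 0 969),
   ([26, 31, 44], [26, 31, 44], .refl 0 974),
   ([26, 31, 44], [26, 44], .branch 31 945 1022),
   ([26, 29, 44], [26, 29, 44], .kill 27 29 1023),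
   ([26, 29, 44], [26, 29], .branch 44 1021 1024),
   ([36, 38, 45], [36, 45], .kill 27 38 130),
   ([36, 38, 43], [38, 43], .refl 1 1026),
   ([36, 39, 42], [39, 42], .refl 2 1027),
   ([29, 31, 39], [31, 39], .refl 0 1028),
   ([26, 29, 40], [26, 40], .refl 1 1029),
   ([26, 31, 40], [26, 31, 40], .kill 27 31 1030),
   ([26, 40, 42, 44], [26, 40, 42], .kill 33 44 974),
   ([26, 40, 42, 46], [26, 40, 42, 46], .kill 28 46 1032),
   ([26, 31, 44, 46], [26, 31, 44, 46], .refl 0 1033),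
   ([26, 31, 44, 46], [26, 31, 44], .branch 46 1022 1034),
   ([26, 31, 40, 44], [26, 31, 40, 44], .kill 35 40 1035),
   ([26, 31, 40, 44], [26, 31, 40], .branch 44 1031 1036),
   ([26, 31, 40, 44], [26, 40], .branch 31 948 1037),
   ([26, 29, 40, 44], [26, 29, 40], .kill 27 29 1038)]

/-- Part of the certificate. -/
def nodesF4_26 : List Node :=
  [([26, 29, 40, 44], [26, 29], .branch 40 1025 1039),
   ([26, 38, 44], [26, 38], .kill 35 44 963),
   ([26, 31, 38], [26, 31, 38], .refl 0 981),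
   ([24, 39, 45], [24, 39, 45], .refl 2 979),
   ([24, 40, 43], [24, 40, 43], .refl 1 1043),
   ([24, 40, 43, 44], [24, 40, 43], .kill 33 44 1044),
   ([24, 40, 43, 45], [24, 40, 43, 45], .kill 27 45 1045),
   ([24, 32, 44, 45], [24, 32, 44, 45], .refl 0 1046),
   ([24, 32, 43, 44], [24, 32, 43, 44], .refl 1 1047),
   ([26, 31, 42, 44], [26, 31, 42, 44], .refl 2 1048),
   ([26, 31, 42, 44], [26, 31, 44], .branch 42 1022 1049),
   ([26, 31, 38, 44], [26, 31, 38, 44], .kill 33 38 1050),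
   ([26, 31, 38, 44], [26, 31, 38], .branch 44 1042 1051),
   ([26, 31, 38, 44], [26, 38], .branch 31 1041 1052),
   ([26, 29, 38, 44], [26, 29, 38], .kill 27 29 1053),
   ([26, 29, 38, 40, 44], [26, 29, 38], .kill 28 40 1054),
   ([26, 29, 38, 40, 44], [26, 29], .branch 38 1040 1055),
   ([26, 29, 38, 39, 40, 44], [26, 29], .kill 35 39 1056),
   ([26, 29, 36, 38, 39, 40, 44], [26, 29], .kill 33 36 1057),
   ([26, 29, 35, 36, 38, 39, 40, 44], [26, 29], .zero 39 35 1058),
   ([26, 29, 33, 35, 36, 38, 39, 40, 44], [26, 29], .zero 36 33 1059),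
   ([26, 29, 33, 35, 36, 38, 39, 40, 44], [26], .branch 29 1020 1060),
   ([26, 28], [26, 28], .refl 0 992),
   ([26, 28, 39], [26, 28], .kill 36 39 1062),
   ([26, 28, 46], [26, 28, 46], .kill 37 46 1063),
   ([26, 28, 46], [26, 28], .branch 46 1062 1064),
   ([26, 28, 44], [26, 28], .kill 42 44 1065),
   ([26, 28, 32, 44], [26, 28], .kill 30 32 1066),
   ([26, 28, 29, 44], [26, 28], .kill 24 29 1067),
   ([26, 28, 29, 40, 44], [26, 28], .kill 38 40 1068),
   ([26, 28, 29, 39, 40, 44], [26, 28], .kill 36 39 1069),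
   ([26, 28, 29, 36, 39, 40, 44], [26, 28], .zero 39 36 1070),
   ([26, 28, 29, 35, 36, 39, 40, 44], [26, 28], .kill 33 35 1071),
   ([26, 28, 29, 35, 36, 38, 39, 40, 44], [26, 28], .zero 40 38 1072),
   ([26, 28, 29, 33, 35, 36, 38, 39, 40, 44], [26, 28], .zero 35 33 1073),
   ([26, 28, 29, 33, 35, 36, 38, 39, 40, 44], [26], .branch 28 1061 1074),
   ([26, 28, 29, 33, 35, 36, 38, 39, 40, 44, 47], [26], .kill 45 47 1075),
   ([26, 28, 29, 33, 35, 36, 38, 39, 40, 44, 46, 47], [26], .kill 37 46 1076),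
   ([26, 28, 29, 33, 35, 36, 38, 39, 40, 43, 44, 46, 47], [26], .kill 41 43 1077),
   ([26, 28, 29, 33, 35, 36, 37, 38, 39, 40, 43, 44, 46, 47], [26], .zero 46 37 1078)]

/-- Part of the certificate. -/
def nodesF4_27 : List Node :=
  [([26, 28, 29, 33, 35, 36, 37, 38, 39, 40, 42, 43, 44, 46, 47], [26], .kill 34 42 1079),
   ([26, 28, 29, 33, 35, 36, 37, 38, 39, 40, 42, 43, 44, 45, 46, 47], [26], .zero 47 45 1080),
   ([26, 28, 29, 33, 35, 36, 37, 38, 39, 40, 41, 42, 43, 44, 45, 46, 47], [26], .zero 43 41 1081),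
   ([26, 28, 29, 32, 33, 35, 36, 37, 38, 39, 40, 41, 42, 43, 44, 45, 46, 47], [26], .kill 30 32 1082),
   ([26, 28, 29, 32, 33, 34, 35, 36, 37, 38, 39, 40, 41, 42, 43, 44, 45, 46, 47], [26], .zero 42 34 1083),
   ([26, 28, 29, 31, 32, 33, 34, 35, 36, 37, 38, 39, 40, 41, 42, 43, 44, 45, 46, 47], [26], .kill 27 31 1084),
   ([26, 28, 29, 30, 31, 32, 33, 34, 35, 36, 37, 38, 39, 40, 41, 42, 43, 44, 45, 46, 47], [26], .zero 32 30 1085),
   ([26, 27, 28, 29, 30, 31, 32, 33, 34, 35, 36, 37, 38, 39, 40, 41, 42, 43, 44, 45, 46, 47], [26], .zero 29 27 1086),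
   ([26, 27, 28, 29, 30, 31, 32, 33, 34, 35, 36, 37, 38, 39, 40, 41, 42, 43, 44, 45, 46, 47], [], .branch 26 943 1087),
   ([25], [25], .refl 1 582),
   ([25, 44], [25, 44], .refl 1 583),
   ([25, 44], [25], .branch 44 1089 1090),
   ([25, 40], [25, 40], .refl 0 1090),
   ([25, 40, 44], [25, 40], .kill 33 44 1092),
   ([25, 40, 44], [25], .branch 40 1091 1093),
   ([25, 39], [25, 39], .refl 1 585),
   ([30, 39, 40], [30, 39], .kill 27 40 591),
   ([30, 39, 47], [30, 39, 47], .kill 36 47 1096),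
   ([25, 40, 47], [25, 40, 47], .refl 1 1097),
   ([25, 44, 47], [25, 44, 47], .refl 0 1098),
   ([25, 44, 47], [25, 44], .branch 47 1090 1099),
   ([25, 39, 44], [25, 39, 44], .kill 38 39 1100),
   ([25, 39, 44], [25, 39], .branch 44 1095 1101),
   ([25, 40, 47], [25, 40], .branch 47 1092 1098),
   ([25, 39, 40], [25, 39, 40], .kill 38 39 1103),
   ([25, 39, 40, 44], [25, 39, 40], .kill 33 44 1104),
   ([25, 39, 40, 44], [25, 39], .branch 40 1102 1105),
   ([25, 39, 40, 44], [25], .branch 39 1094 1106),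
   ([25, 37], [25, 37], .refl 1 628),
   ([25, 37, 46], [25, 37], .kill 45 46 1108),
   ([25, 37, 39], [25, 37], .kill 26 39 1109),
   ([25, 37, 39, 44], [25, 37], .kill 36 44 1110),
   ([25, 37, 39, 40, 44], [25, 37], .kill 29 40 1111),
   ([25, 37, 39, 40, 44], [25], .branch 37 1107 1112),
   ([25, 36], [25, 36], .refl 1 595),
   ([25, 36, 39], [25, 36], .kill 28 39 1114),
   ([25, 36, 47], [25, 36, 47], .kill 38 47 1115),
   ([25, 36, 47], [25, 36], .branch 47 1114 1116),
   ([25, 36, 40], [25, 36], .kill 30 40 1117),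
   ([25, 36, 40, 44], [25, 36], .kill 37 44 1118)]

/-- Part of the certificate. -/
def nodesF4_28 : List Node :=
  [([25, 36, 39, 40, 44], [25, 36], .kill 28 39 1119),
   ([25, 36, 37, 39, 40, 44], [25, 36], .zero 44 37 1120),
   ([25, 36, 37, 39, 40, 44], [25], .branch 36 1113 1121),
   ([25, 35], [25, 35], .refl 1 603),
   ([25, 41, 44], [25, 41, 44], .refl 1 604),
   ([25, 41, 44], [25, 44], .branch 41 1090 1124),
   ([25, 35, 44], [25, 35, 44], .kill 34 35 1125),
   ([25, 35, 44], [25, 35], .branch 44 1123 1126),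
   ([25, 40, 41], [25, 40, 41], .refl 1 612),
   ([25, 40, 41], [25, 40], .branch 41 1092 1128),
   ([25, 35, 40], [25, 35, 40], .kill 34 35 1129),
   ([25, 35, 40, 44], [25, 35, 40], .kill 33 44 1130),
   ([25, 35, 40, 44], [25, 35], .branch 40 1127 1131),
   ([25, 37, 47], [25, 37, 47], .kill 38 47 1110),
   ([25, 37, 47], [25, 37], .branch 47 1108 1133),
   ([25, 37, 41], [25, 37, 41], .refl 1 814),
   ([25, 37, 41, 47], [25, 37, 41, 47], .refl 1 818),
   ([25, 37, 41, 47], [25, 37, 41], .branch 47 1135 1136),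
   ([25, 37, 41, 47], [25, 37], .branch 41 1134 1137),
   ([25, 37, 41, 44, 47], [25, 37], .kill 36 44 1138),
   ([25, 37, 40, 41], [25, 37], .kill 29 40 1139),
   ([25, 35, 37, 40], [25, 35, 37], .kill 34 35 1140),
   ([25, 35, 37, 40, 44], [25, 35, 37], .kill 36 44 1141),
   ([25, 35, 37, 40, 44], [25, 35], .branch 37 1132 1142),
   ([26, 35, 43], [26, 35], .kill 41 43 992),
   ([26, 35, 36], [26, 35], .kill 24 36 1144),
   ([26, 35, 42], [26, 35, 42], .kill 34 42 1145),
   ([25, 36, 41], [25, 36, 41], .refl 3 1146),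
   ([25, 36, 41, 44], [25, 36, 41], .kill 37 44 1147),
   ([25, 36, 41, 47], [25, 36, 41, 47], .kill 29 47 1148),
   ([25, 36, 41, 47], [25, 36, 41], .branch 47 1147 1149),
   ([25, 36, 41, 47], [25, 36], .branch 41 1117 1150),
   ([25, 36, 40, 41], [25, 36], .kill 30 40 1151),
   ([25, 35, 36, 40], [25, 35, 36], .kill 34 35 1152),
   ([25, 35, 36, 40, 44], [25, 35, 36], .kill 37 44 1153),
   ([25, 35, 36, 37, 40, 44], [25, 35, 36], .zero 44 37 1154),
   ([25, 35, 36, 37, 40, 44], [25, 35], .branch 36 1143 1155),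
   ([25, 35, 36, 37, 39, 40, 44], [25, 35], .kill 29 39 1156),
   ([25, 35, 36, 37, 39, 40, 44], [25], .branch 35 1122 1157),
   ([25, 33], [25, 33], .refl 1 637)]

/-- Part of the certificate. -/
def nodesF4_29 : List Node :=
  [([25, 33, 43], [25, 33], .kill 42 43 1159),
   ([25, 33, 39], [25, 33], .kill 32 39 1160),
   ([25, 33, 47], [25, 33, 47], .kill 38 47 1161),
   ([25, 33, 47], [25, 33], .branch 47 1159 1162),
   ([25, 33, 35], [25, 33], .kill 28 35 1159),
   ([25, 33, 41], [25, 33, 41], .kill 34 41 1164),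
   ([25, 33, 35, 47], [25, 33, 47], .kill 28 35 1162),
   ([25, 33, 41, 47], [25, 33, 41, 47], .kill 34 41 1166),
   ([25, 33, 41, 47], [25, 33, 41], .branch 47 1165 1167),
   ([25, 33, 41, 47], [25, 33], .branch 41 1163 1168),
   ([25, 33, 39, 41], [25, 33], .kill 38 39 1169),
   ([25, 33, 37, 39], [25, 33], .kill 30 37 1170),
   ([25, 33, 37, 39, 44], [25, 33], .kill 40 44 1171),
   ([25, 33, 37, 39, 40, 44], [25, 33], .zero 44 40 1172),
   ([25, 33, 36, 37, 39, 40, 44], [25, 33], .kill 29 36 1173),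
   ([25, 33, 35, 36, 37, 39, 40, 44], [25, 33], .kill 28 35 1174),
   ([25, 33, 35, 36, 37, 39, 40, 44], [25], .branch 33 1158 1175),
   ([25, 29], [25, 29], .refl 0 1114),
   ([25, 29, 39], [25, 29], .kill 35 39 1177),
   ([25, 29, 47], [25, 29, 47], .kill 38 47 1178),
   ([25, 29, 47], [25, 29], .branch 47 1177 1179),
   ([25, 29, 44], [25, 29], .kill 41 44 1180),
   ([25, 29, 40, 44], [25, 29], .kill 37 40 1181),
   ([25, 29, 39, 40, 44], [25, 29], .kill 35 39 1182),
   ([25, 29, 36, 39, 40, 44], [25, 29], .kill 33 36 1183),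
   ([25, 29, 36, 37, 39, 40, 44], [25, 29], .zero 40 37 1184),
   ([25, 29, 35, 36, 37, 39, 40, 44], [25, 29], .zero 39 35 1185),
   ([25, 29, 33, 35, 36, 37, 39, 40, 44], [25, 29], .zero 36 33 1186),
   ([25, 29, 33, 35, 36, 37, 39, 40, 44], [25], .branch 29 1176 1187),
   ([25, 28], [25, 28], .refl 0 1123),
   ([25, 30, 44], [25, 30, 44], .refl 0 1128),
   ([25, 30, 44], [25, 44], .branch 30 1090 1190),
   ([25, 28, 44], [25, 28, 44], .kill 27 28 1191),
   ([25, 28, 44], [25, 28], .branch 44 1189 1192),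
   ([25, 30, 40], [25, 30, 40], .refl 3 1031),
   ([25, 40, 41, 44], [25, 40, 41], .kill 33 44 1128),
   ([25, 40, 41, 47], [25, 40, 41, 47], .kill 29 47 1195),
   ([25, 30, 44, 47], [25, 30, 44, 47], .refl 0 1196),
   ([25, 30, 44, 47], [25, 30, 44], .branch 47 1190 1197),
   ([25, 30, 40, 44], [25, 30, 40, 44], .kill 36 40 1198)]

/-- Part of the certificate. -/
def nodesF4_30 : List Node :=
  [([25, 30, 40, 44], [25, 30, 40], .branch 44 1194 1199),
   ([25, 30, 40, 44], [25, 40], .branch 30 1093 1200),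
   ([25, 28, 40, 44], [25, 28, 40], .kill 27 28 1201),
   ([25, 28, 40, 44], [25, 28], .branch 40 1193 1202),
   ([25, 37, 44], [25, 37], .kill 36 44 1108),
   ([25, 30, 37], [25, 30, 37], .refl 0 1135),
   ([25, 30, 41, 44], [25, 30, 41, 44], .refl 3 1049),
   ([25, 30, 41, 44], [25, 30, 44], .branch 41 1190 1206),
   ([25, 30, 37, 44], [25, 30, 37, 44], .kill 33 37 1207),
   ([25, 30, 37, 44], [25, 30, 37], .branch 44 1205 1208),
   ([25, 30, 37, 44], [25, 37], .branch 30 1204 1209),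
   ([25, 28, 37, 44], [25, 28, 37], .kill 27 28 1210),
   ([25, 28, 37, 40, 44], [25, 28, 37], .kill 29 40 1211),
   ([25, 28, 37, 40, 44], [25, 28], .branch 37 1203 1212),
   ([26, 28, 32], [26, 28], .kill 30 32 1062),
   ([26, 28, 29], [26, 28], .kill 24 29 1214),
   ([26, 28, 31], [26, 28, 31], .kill 27 31 1215),
   ([25, 29, 30], [25, 29, 30], .refl 3 1216),
   ([25, 29, 30, 40], [25, 29, 30], .kill 37 40 1217),
   ([25, 29, 30, 47], [25, 29, 30, 47], .kill 36 47 1218),
   ([25, 29, 30, 47], [25, 29, 30], .branch 47 1217 1219),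
   ([25, 29, 30, 47], [25, 29], .branch 30 1180 1220),
   ([25, 29, 30, 44], [25, 29], .kill 41 44 1221),
   ([25, 28, 29, 44], [25, 28, 29], .kill 27 28 1222),
   ([25, 28, 29, 40, 44], [25, 28, 29], .kill 37 40 1223),
   ([25, 28, 29, 37, 40, 44], [25, 28, 29], .zero 40 37 1224),
   ([25, 28, 29, 37, 40, 44], [25, 28], .branch 29 1213 1225),
   ([25, 28, 29, 37, 39, 40, 44], [25, 28], .kill 36 39 1226),
   ([25, 28, 29, 36, 37, 39, 40, 44], [25, 28], .zero 39 36 1227),
   ([25, 28, 29, 35, 36, 37, 39, 40, 44], [25, 28], .kill 33 35 1228),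
   ([25, 28, 29, 33, 35, 36, 37, 39, 40, 44], [25, 28], .zero 35 33 1229),
   ([25, 28, 29, 33, 35, 36, 37, 39, 40, 44], [25], .branch 28 1188 1230),
   ([25, 28, 29, 33, 35, 36, 37, 39, 40, 44, 47], [25], .kill 38 47 1231),
   ([25, 28, 29, 33, 35, 36, 37, 39, 40, 44, 46, 47], [25], .kill 45 46 1232),
   ([25, 28, 29, 33, 35, 36, 37, 39, 40, 43, 44, 46, 47], [25], .kill 42 43 1233),
   ([25, 28, 29, 33, 35, 36, 37, 38, 39, 40, 43, 44, 46, 47], [25], .zero 47 38 1234),
   ([25, 28, 29, 33, 35, 36, 37, 38, 39, 40, 41, 43, 44, 46, 47], [25], .kill 34 41 1235),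
   ([25, 28, 29, 33, 35, 36, 37, 38, 39, 40, 41, 43, 44, 45, 46, 47], [25], .zero 46 45 1236),
   ([25, 28, 29, 33, 35, 36, 37, 38, 39, 40, 41, 42, 43, 44, 45, 46, 47], [25], .zero 43 42 1237),
   ([25, 28, 29, 32, 33, 35, 36, 37, 38, 39, 40, 41, 42, 43, 44, 45, 46, 47], [25], .kill 31 32 1238)]

/-- Part of the certificate. -/
def nodesF4_31 : List Node :=
  [([25, 28, 29, 32, 33, 34, 35, 36, 37, 38, 39, 40, 41, 42, 43, 44, 45, 46, 47], [25], .zero 41 34 1239),
   ([25, 28, 29, 30, 32, 33, 34, 35, 36, 37, 38, 39, 40, 41, 42, 43, 44, 45, 46, 47], [25], .kill 27 30 1240),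
   ([25, 28, 29, 30, 31, 32, 33, 34, 35, 36, 37, 38, 39, 40, 41, 42, 43, 44, 45, 46, 47], [25], .zero 32 31 1241),
   ([25, 26, 28, 29, 30, 31, 32, 33, 34, 35, 36, 37, 38, 39, 40, 41, 42, 43, 44, 45, 46, 47], [25], .kill 24 26 1242),
   ([25, 26, 27, 28, 29, 30, 31, 32, 33, 34, 35, 36, 37, 38, 39, 40, 41, 42, 43, 44, 45, 46, 47], [25], .zero 28 27 1243),
   ([25, 26, 27, 28, 29, 30, 31, 32, 33, 34, 35, 36, 37, 38, 39, 40, 41, 42, 43, 44, 45, 46, 47], [], .branch 25 1088 1244),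
   ([24], [24], .refl 2 944),
   ([24, 44], [24, 44], .refl 2 945),
   ([24, 44], [24], .branch 44 1246 1247),
   ([24, 40], [24, 40], .refl 0 1247),
   ([24, 40, 44], [24, 40], .kill 33 44 1249),
   ([24, 40, 44], [24], .branch 40 1248 1250),
   ([24, 39], [24, 39], .refl 1 1249),
   ([24, 39, 44], [24, 39], .kill 34 44 1252),
   ([24, 39, 40, 44], [24, 39], .kill 27 40 1253),
   ([24, 39, 40, 44], [24], .branch 39 1251 1254),
   ([24, 38], [24, 38], .refl 2 950),
   ([24, 40, 45], [24, 40, 45], .refl 2 953),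
   ([24, 44, 45], [24, 44, 45], .refl 0 1257),
   ([24, 44, 45], [24, 44], .branch 45 1247 1258),
   ([24, 38, 44], [24, 38, 44], .kill 37 38 1259),
   ([24, 38, 44], [24, 38], .branch 44 1256 1260),
   ([24, 40, 45], [24, 40], .branch 45 1249 1257),
   ([24, 38, 40], [24, 38, 40], .kill 37 38 1262),
   ([24, 38, 40, 44], [24, 38, 40], .kill 33 44 1263),
   ([24, 38, 40, 44], [24, 38], .branch 40 1261 1264),
   ([24, 39, 45], [24, 39], .branch 45 1252 1043),
   ([24, 38, 39], [24, 38, 39], .kill 37 38 1266),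
   ([24, 38, 39, 44], [24, 38, 39], .kill 34 44 1267),
   ([24, 38, 39, 40, 44], [24, 38, 39], .kill 27 40 1268),
   ([24, 38, 39, 40, 44], [24, 38], .branch 39 1265 1269),
   ([24, 38, 39, 40, 44], [24], .branch 38 1255 1270),
   ([24, 36], [24, 36], .refl 1 1256),
   ([24, 43, 44], [24, 43, 44], .refl 1 1258),
   ([24, 43, 44], [24, 44], .branch 43 1247 1273),
   ([24, 36, 44], [24, 36, 44], .kill 35 36 1274),
   ([24, 36, 44], [24, 36], .branch 44 1272 1275),
   ([24, 40, 43], [24, 40], .branch 43 1249 1044),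
   ([24, 36, 40], [24, 36, 40], .kill 35 36 1277),
   ([24, 36, 40, 44], [24, 36, 40], .kill 33 44 1278)]

/-- Part of the certificate. -/
def nodesF4_32 : List Node :=
  [([24, 36, 40, 44], [24, 36], .branch 40 1276 1279),
   ([24, 39, 43], [24, 39, 43], .refl 2 981),
   ([24, 39, 43, 45], [24, 39, 43, 45], .refl 1 1046),
   ([24, 39, 43, 45], [24, 39, 43], .branch 45 1281 1282),
   ([24, 39, 43, 45], [24, 39], .branch 43 1266 1283),
   ([24, 39, 43, 44, 45], [24, 39], .kill 34 44 1284),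
   ([24, 39, 40, 43], [24, 39], .kill 27 40 1285),
   ([24, 36, 39, 40], [24, 36, 39], .kill 35 36 1286),
   ([24, 36, 39, 40, 44], [24, 36, 39], .kill 34 44 1287),
   ([24, 36, 39, 40, 44], [24, 36], .branch 39 1280 1288),
   ([24, 36, 38, 39, 40, 44], [24, 36], .kill 27 38 1289),
   ([24, 36, 38, 39, 40, 44], [24], .branch 36 1271 1290),
   ([24, 34], [24, 34], .refl 2 992),
   ([24, 34, 38], [24, 34], .kill 29 38 1292),
   ([24, 34, 45], [24, 34, 45], .kill 37 45 1293),
   ([24, 34, 45], [24, 34], .branch 45 1292 1294),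
   ([24, 34, 40], [24, 34], .kill 32 40 1295),
   ([24, 34, 40, 42], [24, 34], .kill 41 42 1296),
   ([24, 34, 36, 40], [24, 34], .kill 26 36 1297),
   ([24, 34, 36, 40, 44], [24, 34], .kill 39 44 1298),
   ([24, 34, 36, 38, 40, 44], [24, 34], .kill 29 38 1299),
   ([24, 34, 36, 38, 39, 40, 44], [24, 34], .zero 44 39 1300),
   ([24, 34, 36, 38, 39, 40, 44], [24], .branch 34 1291 1301),
   ([24, 33], [24, 33], .refl 1 1292),
   ([24, 33, 36], [24, 33], .kill 29 36 1303),
   ([24, 33, 43], [24, 33, 43], .kill 35 43 1304),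
   ([24, 33, 43], [24, 33], .branch 43 1303 1305),
   ([24, 33, 39], [24, 33], .kill 32 39 1306),
   ([24, 33, 39, 42], [24, 33], .kill 41 42 1307),
   ([24, 33, 38, 39], [24, 33], .kill 31 38 1308),
   ([24, 33, 38, 39, 44], [24, 33], .kill 40 44 1309),
   ([24, 33, 36, 38, 39, 44], [24, 33], .kill 29 36 1310),
   ([24, 33, 36, 38, 39, 40, 44], [24, 33], .zero 44 40 1311),
   ([24, 33, 34, 36, 38, 39, 40, 44], [24, 33], .kill 27 34 1312),
   ([24, 33, 34, 36, 38, 39, 40, 44], [24], .branch 33 1302 1313),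
   ([24, 29], [24, 29], .refl 0 1272),
   ([24, 32, 44], [24, 32, 44], .refl 0 1044),
   ([24, 32, 44], [24, 44], .branch 32 1247 1316),
   ([24, 29, 44], [24, 29, 44], .kill 28 29 1317),
   ([24, 29, 44], [24, 29], .branch 44 1315 1318)]

/-- Part of the certificate. -/
def nodesF4_33 : List Node :=
  [([24, 32, 39], [24, 32, 39], .refl 0 1281),
   ([24, 32, 40], [24, 32, 40], .refl 1 1320),
   ([24, 32, 44, 45], [24, 32, 44], .branch 45 1316 1047),
   ([24, 32, 40, 44], [24, 32, 40, 44], .kill 34 40 1322),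
   ([24, 32, 40, 44], [24, 32, 40], .branch 44 1321 1323),
   ([24, 32, 40, 44], [24, 40], .branch 32 1250 1324),
   ([24, 29, 40, 44], [24, 29, 40], .kill 28 29 1325),
   ([24, 29, 40, 44], [24, 29], .branch 40 1319 1326),
   ([24, 32, 43, 44], [24, 32, 44], .branch 43 1316 1048),
   ([24, 32, 39, 44], [24, 32, 39, 44], .kill 33 39 1328),
   ([24, 32, 39, 44], [24, 32, 39], .branch 44 1320 1329),
   ([24, 32, 39, 44], [24, 39], .branch 32 1253 1330),
   ([24, 29, 39, 44], [24, 29, 39], .kill 28 29 1331),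
   ([24, 29, 39, 40, 44], [24, 29, 39], .kill 27 40 1332),
   ([24, 29, 39, 40, 44], [24, 29], .branch 39 1327 1333),
   ([24, 29, 38, 39, 40, 44], [24, 29], .kill 34 38 1334),
   ([24, 29, 36, 38, 39, 40, 44], [24, 29], .kill 33 36 1335),
   ([24, 29, 34, 36, 38, 39, 40, 44], [24, 29], .zero 38 34 1336),
   ([24, 29, 33, 34, 36, 38, 39, 40, 44], [24, 29], .zero 36 33 1337),
   ([24, 29, 33, 34, 36, 38, 39, 40, 44], [24], .branch 29 1314 1338),
   ([24, 27], [24, 27], .refl 0 1292),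
   ([24, 27, 38], [24, 27], .kill 36 38 1340),
   ([24, 27, 45], [24, 27, 45], .kill 37 45 1341),
   ([24, 27, 45], [24, 27], .branch 45 1340 1342),
   ([24, 27, 44], [24, 27], .kill 43 44 1343),
   ([24, 27, 31, 44], [24, 27], .kill 30 31 1344),
   ([24, 27, 29, 44], [24, 27], .kill 26 29 1345),
   ([24, 27, 29, 40, 44], [24, 27], .kill 39 40 1346),
   ([24, 27, 29, 38, 40, 44], [24, 27], .kill 36 38 1347),
   ([24, 27, 29, 36, 38, 40, 44], [24, 27], .zero 38 36 1348),
   ([24, 27, 29, 34, 36, 38, 40, 44], [24, 27], .kill 33 34 1349),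
   ([24, 27, 29, 34, 36, 38, 39, 40, 44], [24, 27], .zero 40 39 1350),
   ([24, 27, 29, 33, 34, 36, 38, 39, 40, 44], [24, 27], .zero 34 33 1351),
   ([24, 27, 29, 33, 34, 36, 38, 39, 40, 44], [24], .branch 27 1339 1352),
   ([24, 27, 29, 33, 34, 36, 38, 39, 40, 44, 47], [24], .kill 46 47 1353),
   ([24, 27, 29, 33, 34, 36, 38, 39, 40, 44, 45, 47], [24], .kill 37 45 1354),
   ([24, 27, 29, 33, 34, 36, 37, 38, 39, 40, 44, 45, 47], [24], .zero 45 37 1355),
   ([24, 27, 29, 33, 34, 36, 37, 38, 39, 40, 43, 44, 45, 47], [24], .kill 35 43 1356),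
   ([24, 27, 29, 33, 34, 36, 37, 38, 39, 40, 42, 43, 44, 45, 47], [24], .kill 41 42 1357),
   ([24, 27, 29, 33, 34, 36, 37, 38, 39, 40, 42, 43, 44, 45, 46, 47], [24], .zero 47 46 1358)]

/-- Part of the certificate. -/
def nodesF4_34 : List Node :=
  [([24, 27, 29, 33, 34, 35, 36, 37, 38, 39, 40, 42, 43, 44, 45, 46, 47], [24], .zero 43 35 1359),
   ([24, 27, 29, 32, 33, 34, 35, 36, 37, 38, 39, 40, 42, 43, 44, 45, 46, 47], [24], .kill 28 32 1360),
   ([24, 27, 29, 32, 33, 34, 35, 36, 37, 38, 39, 40, 41, 42, 43, 44, 45, 46, 47], [24], .zero 42 41 1361),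
   ([24, 27, 29, 31, 32, 33, 34, 35, 36, 37, 38, 39, 40, 41, 42, 43, 44, 45, 46, 47], [24], .kill 30 31 1362),
   ([24, 27, 29, 30, 31, 32, 33, 34, 35, 36, 37, 38, 39, 40, 41, 42, 43, 44, 45, 46, 47], [24], .zero 31 30 1363),
   ([24, 27, 28, 29, 30, 31, 32, 33, 34, 35, 36, 37, 38, 39, 40, 41, 42, 43, 44, 45, 46, 47], [24], .zero 29 28 1364),
   ([24, 26, 27, 28, 29, 30, 31, 32, 33, 34, 35, 36, 37, 38, 39, 40, 41, 42, 43, 44, 45, 46, 47], [24], .kill 25 26 1365),
   ([24, 25, 26, 27, 28, 29, 30, 31, 32, 33, 34, 35, 36, 37, 38, 39, 40, 41, 42, 43, 44, 45, 46, 47], [24], .zero 26 25 1366),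
   ([24, 25, 26, 27, 28, 29, 30, 31, 32, 33, 34, 35, 36, 37, 38, 39, 40, 41, 42, 43, 44, 45, 46, 47], [], .branch 24 1245 1367)]

/-- The certificate. -/
def nodesF4 : List Node :=
  nodesF4_0 ++ nodesF4_1 ++ nodesF4_2 ++ nodesF4_3 ++ nodesF4_4 ++ nodesF4_5 ++ nodesF4_6 ++ nodesF4_7 ++ nodesF4_8 ++ nodesF4_9 ++ nodesF4_10 ++ nodesF4_11 ++ nodesF4_12 ++ nodesF4_13 ++ nodesF4_14 ++ nodesF4_15 ++ nodesF4_16 ++ nodesF4_17 ++ nodesF4_18 ++ nodesF4_19 ++ nodesF4_20 ++ nodesF4_21 ++ nodesF4_22 ++ nodesF4_23 ++ nodesF4_24 ++ nodesF4_25 ++ nodesF4_26 ++ nodesF4_27 ++ nodesF4_28 ++ nodesF4_29 ++ nodesF4_30 ++ nodesF4_31 ++ nodesF4_32 ++ nodesF4_33 ++ nodesF4_34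

theorem nodesF4_root : nodesF4.length = 1369 ∧ (nodesF4.getD 1368 ([], [], .one)).1 = [24, 25, 26, 27, 28, 29, 30, 31, 32, 33, 34, 35, 36, 37, 38, 39, 40, 41, 42, 43, 44, 45, 46, 47] ∧ (nodesF4.getD 1368 ([], [], .one)).2.1 = [] ∧ chkOrd F4Data.tab = true := by
  decide +kernel

end CfsgLib.Chev.InvolReduce
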