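import Cfsg.Agent.Chev.CharTwoCollect
import Cfsg.Agent.Chev.Card
import Mathlib.FieldTheory.Perfect

/-!
Certificates reducing every involution of a Chevalley group in characteristic two to given
representatives: nodes are sets of positive roots, some of whose coefficients are known to be
non-zero; a node is reduced by branching on a coefficient, by an equation of the square, by
conjugation with a root element killing a coefficient, or by a simple reflection.
-/

set_option autoImplicit false
set_option linter.unusedSectionVars false
set_option linter.style.haveILetI false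

namespace CfsgLib.Chev.InvolReduce

open Cfsg.Lie Tab Matrix CfsgLib.Chev.CharTwo
open scoped MatrixGroups

/-- The justification of a node; the numbers refer to earlier nodes. -/
inductive Step where
  | rep (k : ℕ)
  | one
  | zero (r v next : ℕ)
  | branch (v next0 next1 : ℕ)
  | kill (s r next : ℕ)
  | refl (i next : ℕ)

/-- A node: the roots, the roots with non-zero coefficient, and the justification. -/
abbrev Node := List ℕ × List ℕ × Step

/-- The exponent list of one variable. -/
def uni (i : ℕ) : List ℕ := List.replicate i 0 ++ [1]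

variable {D : ChevalleyDatum}

/-- All positive roots in increasing order. -/
def posList (D : ChevalleyDatum) : List ℕ := List.range' (D.nroots / 2) (D.nroots / 2)

/-- The word of a node. -/
def wordS (S : List ℕ) : List (ℕ × List ℕ) := S.zipIdx.map fun x => (x.1, uni x.2)

/-- All variables occurring in a monomial are non-zero. -/
def safe (S N : List ℕ) : ℕ → List ℕ → Bool
  | _, [] => true
  | i, n :: e =>
    (Nat.beq n 0 || (Nat.blt i S.length && N.contains (S.getD i 0))) && safe S N (i + 1) e

/-- The monomials at a root. -/
def mons (L : List (ℕ × List ℕ)) (r : ℕ) : List (List ℕ) :=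
  (L.filter fun x => Nat.beq x.1 r).map Prod.snd

/-- The roots `S'` contain every root of `L` except `om`, and those in `N'` have one safe monomial. -/
def fits (D : ChevalleyDatum) (S N : List ℕ) (L : List (ℕ × List ℕ)) (om : List ℕ)
    (S' N' : List ℕ) : Bool :=
  decide (S' = (posList D).filter fun r => S'.contains r) &&
    L.all (fun x => S'.contains x.1 || om.contains x.1) &&
    N'.all fun r => match mons L r with
      | [e] => safe S N 0 e
      | _ => false

/-- The two monomials at a killed coefficient: the coefficient itself and a power of the parameter. -/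
def killPair (S N : List ℕ) (r : ℕ) (e1 e2 : List ℕ) : Bool :=
  Nat.blt (S.idxOf r) S.length && e1 == uni (S.idxOf r) &&
    Nat.beq e2.length (S.length + 1) && safe S N 0 e2.dropLast &&
    (List.range 5).any fun k => Nat.beq (e2.getD S.length 0) (2 ^ k)

/-- The check of a node. -/
def chkNode (T : Tab D) (reps : List (List ℕ)) (nodes : List Node) (idx : ℕ) : Bool :=
  match nodes.getD idx ([], [], .one) with
  | (S, N, .rep k) => decide (S = reps.getD k [] ∧ k < reps.length) && S.all fun r => N.contains r
  | (S, _, .one) => S.isEmpty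
  | (S, N, .zero r v next) =>
    let t := nodes.getD next ([], [], .one)
    Nat.blt next idx && Nat.blt (S.idxOf v) S.length &&
      decide (t.1 = S.erase v) && t.2.1.all (fun x => N.contains x) &&
      match norm T (posList D) 100000 (wordS S ++ wordS S) with
      | some L => (posList D).contains r && match mons L r with
        | [e] => safe S (v :: N) 0 e
        | _ => false
      | none => false
  | (S, N, .branch v next0 next1) =>
    let t0 := nodes.getD next0 ([], [], .one)
    let t1 := nodes.getD next1 ([], [], .one)
    Nat.blt next0 idx && Nat.blt next1 idx && Nat.blt (S.idxOf v) S.length &&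
      decide (t0.1 = S.erase v) && t0.2.1.all (fun x => N.contains x) &&
      decide (t1.1 = S) && t1.2.1.all (fun x => N.contains x || Nat.beq x v)
  | (S, N, .kill s r next) =>
    let t := nodes.getD next ([], [], .one)
    Nat.blt next idx &&
      match norm T (posList D) 100000 ((s, uni S.length) :: (wordS S ++ [(s, uni S.length)])) with
      | some L => fits D S N L [r] t.1 t.2.1 && !(t.1.contains r) && match mons L r with
        | [e1, e2] => killPair S N r e1 e2 || killPair S N r e2 e1
        | _ => false
      | none => false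
  | (S, N, .refl i next) =>
    let t := nodes.getD next ([], [], .one)
    Nat.blt next idx && Nat.blt i D.rank && S.all (fun r => Nat.blt r D.nroots) &&
      match norm T (posList D) 100000 ((wordS S).map fun x => (T.reflT i x.1, x.2)) with
      | some L => fits D S N L [] t.1 t.2.1
      | none => false

/-- The tails of the increasing order of the positive roots are closed. -/
def chkOrd (T : Tab D) : Bool :=
  decide ((posList D).Nodup) &&
    (List.range (posList D).length).all (fun i => ((posList D).drop i).all fun r =>
      decide (r < D.nroots ∧ D.nroots ≤ 2 * r) && ((posList D).drop i).all fun s =>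
        (T.commT r s).all fun c => ((posList D).drop i).contains c.1) &&
    (posList D).all fun r => (T.commT r r).all fun c => Nat.beq c.1 r

theorem mval_safe {F : Type*} [Field F] (S N : List ℕ) (env : List F)
    (hN : ∀ i < S.length, S.getD i 0 ∈ N → env.getD i 1 ≠ 0) :
    ∀ (e : List ℕ) (i : ℕ), safe S N i e = true → mval (env.drop i) e ≠ 0
  | [], i, _ => by cases h : env.drop i <;> simp [mval]
  | n :: e, i, h => by
    simp only [safe, Bool.and_eq_true, Bool.or_eq_true, Nat.blt_eq, List.contains_iff_mem] at h
    obtain ⟨h1, h2⟩ := h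
    have ih := mval_safe S N env hN e (i + 1) h2
    rcases lt_or_ge i env.length with hi | hi
    · rw [List.drop_eq_getElem_cons hi, mval]
      refine mul_ne_zero ?_ ih
      rcases h1 with h1 | ⟨h3, h4⟩
      · rw [Nat.eq_of_beq_eq_true h1, pow_zero]; exact one_ne_zero
      · have := hN i h3 h4
        rw [List.getD_eq_getElem _ _ hi] at this
        exact pow_ne_zero _ this
    · rw [List.drop_eq_nil_of_le hi]
      simp [mval]

theorem mval_uni {F : Type*} [Field F] : ∀ (xs : List F) (r : ℕ), mval xs (uni r) = xs.getD r 1
  | [], 0 => by simp [uni, mval]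
  | [], r + 1 => by simp [uni, mval, List.replicate_succ]
  | x :: xs, 0 => by cases xs <;> simp [uni, mval]
  | x :: xs, r + 1 => by
    have h := mval_uni xs r
    rw [uni] at h
    simp [uni, mval, List.replicate_succ, h]

theorem mval_last {F : Type*} [Field F] (y : F) (c : ℕ) : ∀ (xs : List F) (a : List ℕ),
    a.length = xs.length → mval (xs ++ [y]) (a ++ [c]) = mval xs a * y ^ c
  | [], [], _ => by simp [mval]
  | [], _ :: _, h => by simp at h
  | _ :: _, [], h => by simp at h
  | x :: xs, n :: a, h => by
    simp only [List.cons_append, mval, mval_last y c xs a (by simpa using h), mul_assoc]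

section Sound

variable {T : Tab D} (G : T.Good) {F : Type*} [Field F] [Finite F] [CharP F 2]
include G

theorem two0 : (2 : F) = 0 := CharP.cast_eq_zero F 2

/-- The element with coefficients `f` along `S`. -/
noncomputable def el (S : List ℕ) (f : ℕ → F) : GL D.Idx F :=
  (S.map fun r => G.full.x r (f r)).prod

/-- Conjugacy in the group. -/
def Cj (_G : T.Good) (g h : GL D.Idx F) : Prop := ∃ k ∈ D.group F, k * g * k⁻¹ = h

omit [Finite F] [CharP F 2] in
theorem cj_trans {g h k : GL D.Idx F} (h1 : Cj G g h) (h2 : Cj G h k) : Cj G g k := by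
  obtain ⟨a, ha, rfl⟩ := h1
  obtain ⟨b, hb, rfl⟩ := h2
  exact ⟨b * a, mul_mem hb ha, by group⟩

omit [Finite F] [CharP F 2] in
theorem wv_wordS (S : List ℕ) (f : ℕ → F) (ext : List F) :
    wv G (S.map f ++ ext) (wordS S) = el G S f := by
  rw [wv, el, wordS, List.map_map]
  have h : ∀ (pre l : List ℕ), S = pre ++ l →
      ((l.zipIdx pre.length).map
        ((fun x => G.full.x x.1 (mval (S.map f ++ ext) x.2)) ∘ fun x => (x.1, uni x.2))).prod =
      (l.map fun r => G.full.x r (f r)).prod := by
    intro pre l
    induction l generalizing pre with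
    | nil => intro _; rfl
    | cons r l ih =>
      intro hS
      have hg : (S.map f ++ ext).getD pre.length 1 = f r := by
        subst hS
        simp [List.getD_eq_getElem?_getD]
      have ih' := ih (pre ++ [r]) (by simp [hS])
      rw [List.length_append, List.length_singleton] at ih'
      simp only [List.zipIdx_cons, List.map_cons, List.prod_cons, Function.comp_apply, mval_uni, hg,
        ih']
  exact h [] S rfl

omit [Finite F] [CharP F 2] in
theorem el_congr {S : List ℕ} {f g : ℕ → F} (h : ∀ r ∈ S, f r = g r) : el G S f = el G S g := by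
  rw [el, el]
  exact congrArg List.prod (List.map_congr_left fun r hr => by rw [h r hr])

omit [Finite F] [CharP F 2] in
theorem el_erase {f : ℕ → F} {v : ℕ} (hv : f v = 0) : ∀ S : List ℕ,
    el G (S.erase v) f = el G S f
  | [] => rfl
  | r :: S => by
    by_cases h : r = v
    · subst h
      simp [el, hv, G.full.x_zero]
    · rw [List.erase_cons_tail (by simpa using h)]
      have ih := el_erase hv S
      simp only [el, List.map_cons, List.prod_cons] at ih ⊢
      rw [ih]

omit [Finite F] [CharP F 2] in
theorem el_filter (f : ℕ → F) (p : ℕ → Bool) : ∀ (l : List ℕ),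
    (∀ r ∈ l, p r = false → f r = 0) → el G (l.filter p) f = el G l f
  | [], _ => rfl
  | r :: l, h => by
    have ih := el_filter f p l fun s hs => h s (List.mem_cons_of_mem _ hs)
    by_cases hp : p r
    · rw [List.filter_cons_of_pos hp]
      simp only [el, List.map_cons, List.prod_cons] at ih ⊢
      rw [ih]
    · rw [List.filter_cons_of_neg hp, ih]
      simp [el, h r (List.mem_cons_self ..) (by simpa using hp), G.full.x_zero]

/-- The nodes already shown to reduce to the representatives. -/
def Covered (_G : T.Good) (R : List (GL D.Idx F)) (S N : List ℕ) : Prop :=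
  ∀ f : ℕ → F, (∀ r ∈ N, f r ≠ 0) → el _G S f * el _G S f = 1 → el _G S f ≠ 1 →
    ∃ y ∈ R, Cj _G (el _G S f) y

omit [Finite F] in
theorem safe_env {S N : List ℕ} {f : ℕ → F} (hN : ∀ r ∈ N, f r ≠ 0) (ext : List F) {e : List ℕ}
    (h : safe S N 0 e = true) : mval (S.map f ++ ext) e ≠ 0 := by
  have := mval_safe S N (S.map f ++ ext) (fun i hi hm => ?_) e 0 h
  · rwa [List.drop_zero] at this
  · have e : (S.map f ++ ext).getD i 1 = f (S.getD i 0) := by
      simp [List.getD_eq_getElem?_getD, List.getElem?_append, hi]
    rw [e]
    exact hN _ hm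

omit [Finite F] in
theorem pv_mons (env : List F) (L : List (ℕ × List ℕ)) (r : ℕ) :
    pv env L r = ((mons L r).map (mval env)).sum := by
  rw [pv, mons, List.map_map]; rfl

/-- Apply a covered node to a collected element. -/
theorem use_fits {R : List (GL D.Idx F)} {S N S' N' om : List ℕ} {L : List (ℕ × List ℕ)}
    (hc : Covered G R S' N') (hfit : fits D S N L om S' N' = true) {f : ℕ → F}
    (hN : ∀ r ∈ N, f r ≠ 0) (ext : List F) (hom : ∀ r ∈ om, pv (S.map f ++ ext) L r = 0)
    {g : GL D.Idx F} (hg : g = el G (posList D) (pv (S.map f ++ ext) L)) (h2 : g * g = 1)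
    (h1 : g ≠ 1) : ∃ y ∈ R, Cj G g y := by
  simp only [fits, Bool.and_eq_true, decide_eq_true_eq, List.all_eq_true, Bool.or_eq_true,
    List.contains_iff_mem] at hfit
  obtain ⟨⟨hS, hL⟩, hN'⟩ := hfit
  have he : g = el G S' (pv (S.map f ++ ext) L) := by
    rw [hg, hS, el_filter G _ _ _ fun r _ hr => ?_]
    by_cases ho : r ∈ om
    · exact hom r ho
    · rw [pv_mons G, show mons L r = [] from ?_]
      · rfl
      · rw [mons, List.map_eq_nil_iff, List.filter_eq_nil_iff]
        intro x hx hxr
        rcases hL x hx with h | h
        · rw [Nat.eq_of_beq_eq_true hxr] at h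
          simp [h] at hr
        · rw [Nat.eq_of_beq_eq_true hxr] at h
          exact ho h
  refine he ▸ hc _ (fun r hr => ?_) (he ▸ h2) (he ▸ h1)
  have hm := hN' r hr
  rw [pv_mons G]
  split at hm
  · next e heq =>
    rw [heq]
    simpa using safe_env G hN ext hm
  · simp at hm

omit [Finite F] in
theorem el_mem_group (S : List ℕ) (f : ℕ → F) : el G S f ∈ D.group F :=
  Subgroup.list_prod_mem _ fun x hx => by
    obtain ⟨r, -, rfl⟩ := List.mem_map.1 hx
    exact G.x_mem_group r _

omit [Finite F] in
theorem conj_props {g k : GL D.Idx F} (h2 : g * g = 1) (h1 : g ≠ 1) :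
    k * g * k⁻¹ * (k * g * k⁻¹) = 1 ∧ k * g * k⁻¹ ≠ 1 :=
  ⟨by rw [show k * g * k⁻¹ * (k * g * k⁻¹) = k * (g * g) * k⁻¹ by group, h2]; group,
    fun e => h1 (conj_eq_one_iff.mp e)⟩

theorem exists_two_pow_root (k : ℕ) (c : F) : ∃ y : F, y ^ (2 ^ k) = c := by
  obtain ⟨y, hy⟩ := (iterateFrobeniusEquiv F 2 k).surjective c
  exact ⟨y, hy⟩

/-- The check of a node is sound. -/
theorem node_covered {reps : List (List ℕ)} {R : List (GL D.Idx F)} {nodes : List Node} {idx : ℕ}
    (hord : chkOrd T = true)
    (hrep : ∀ k < reps.length, ∀ f : ℕ → F, (∀ r ∈ reps.getD k [], f r ≠ 0) →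
      ∃ y ∈ R, Cj G (el G (reps.getD k []) f) y)
    (h : chkNode T reps nodes idx = true)
    (hprev : ∀ j < idx, Covered G R (nodes.getD j ([], [], .one)).1 (nodes.getD j ([], [], .one)).2.1) :
    Covered G R (nodes.getD idx ([], [], .one)).1 (nodes.getD idx ([], [], .one)).2.1 := by
  have h20 : (2 : F) = 0 := two0 G
  unfold chkNode at h
  generalize nodes.getD idx ([], [], Step.one) = node at h ⊢
  obtain ⟨S, N, st⟩ := node
  intro f hN hsq hne
  cases st with
  | rep k =>
    simp only [Bool.and_eq_true, decide_eq_true_eq, List.all_eq_true, List.contains_iff_mem] at h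
    obtain ⟨⟨hS, hk⟩, hall⟩ := h
    subst hS
    exact hrep k hk f fun r hr => hN r (hall r hr)
  | one =>
    simp only [List.isEmpty_iff] at h
    subst h
    exact absurd rfl hne
  | zero r v next =>
    simp only [Bool.and_eq_true, decide_eq_true_eq, Nat.blt_eq, List.all_eq_true,
      List.contains_iff_mem] at h
    obtain ⟨⟨⟨⟨hn, hv⟩, ht⟩, htN⟩, hm⟩ := h
    split at hm
    swap
    · simp at hm
    next L hL =>
    simp only [Bool.and_eq_true, List.contains_iff_mem] at hm
    obtain ⟨hr, hm⟩ := hm
    split at hm
    swap
    · simp at hm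
    next e heq =>
    have hfv : f v = 0 := by
      by_contra hfv
      simp only [chkOrd, Bool.and_eq_true, decide_eq_true_eq, List.all_eq_true, List.mem_range,
        List.contains_iff_mem] at hord
      obtain ⟨⟨hnd, hdrop⟩, hone⟩ := hord
      have hpos : ∀ s ∈ posList D, IsPos D s := fun s hs => by
        have h0 : 0 < (posList D).length := List.length_pos_of_mem hs
        exact (hdrop 0 h0 s (by rwa [List.drop_zero])).1
      have key := prod_inj G (posList D)
        (fun i hi => ⟨fun s hs => hpos s (List.mem_of_mem_drop hs),
          fun a ha b hb c hc => (hdrop i hi a ha).2 b hb c hc⟩)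
        (fun s hs => ⟨fun t (ht : t = s) => ht ▸ hpos s hs, fun a (ha : a = s) b (hb : b = s) c hc => by
          subst ha hb
          exact Nat.eq_of_beq_eq_true (hone _ hs c hc)⟩) hnd
        (pv (S.map f ++ []) L) (fun _ => 0) (by
          rw [← norm_sound G h20 hL, wv_append, wv_wordS G, hsq]
          simp [G.full.x_zero, List.map_const']) r hr
      rw [pv_mons G, heq] at key
      simp only [List.map_cons, List.map_nil, List.sum_cons, List.sum_nil, add_zero] at key
      exact safe_env G (N := v :: N) (fun s hs => by
        rcases List.mem_cons.1 hs with rfl | hs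
        · exact hfv
        · exact hN s hs) [] hm key
    have e : el G (nodes.getD next ([], [], .one)).1 f = el G S f := by
      rw [ht, el_erase G hfv]
    have := hprev next hn f (fun s hs => hN s (htN s hs))
    rw [e] at this
    exact this hsq hne
  | branch v next0 next1 =>
    simp only [Bool.and_eq_true, decide_eq_true_eq, Nat.blt_eq, List.all_eq_true,
      List.contains_iff_mem, Bool.or_eq_true] at h
    obtain ⟨⟨⟨⟨⟨⟨h0, h1⟩, -⟩, ht0⟩, hN0⟩, ht1⟩, hN1⟩ := h
    by_cases hfv : f v = 0
    · have e : el G (nodes.getD next0 ([], [], .one)).1 f = el G S f := by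
        rw [ht0, el_erase G hfv]
      have := hprev next0 h0 f (fun s hs => hN s (hN0 s hs))
      rw [e] at this
      exact this hsq hne
    · have := hprev next1 h1 f (fun s hs => by
        rcases hN1 s hs with h | h
        · exact hN s h
        · exact (Nat.eq_of_beq_eq_true h).symm ▸ hfv)
      rw [ht1] at this
      exact this hsq hne
  | kill s r next =>
    simp only [Bool.and_eq_true, Nat.blt_eq] at h
    obtain ⟨hn, hm⟩ := h
    split at hm
    swap
    · simp at hm
    next L hL =>
    simp only [Bool.and_eq_true, Bool.not_eq_true'] at hm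
    obtain ⟨⟨hfit, -⟩, hm⟩ := hm
    split at hm
    swap
    · simp at hm
    next e1 e2 heq =>
    obtain ⟨y, hy⟩ : ∃ y : F, mval (S.map f ++ [y]) e1 + mval (S.map f ++ [y]) e2 = 0 := by
      have key : ∀ a b : List ℕ, killPair S N r a b = true →
          ∃ y : F, mval (S.map f ++ [y]) a + mval (S.map f ++ [y]) b = 0 := by
        intro a b hab
        simp only [killPair, Bool.and_eq_true, Nat.blt_eq, beq_iff_eq, List.any_eq_true] at hab
        obtain ⟨⟨⟨⟨hr, rfl⟩, hlen⟩, hsafe⟩, k, -, hk⟩ := hab
        have hlen' : b.length = S.length + 1 := Nat.eq_of_beq_eq_true hlen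
        have hb : b = b.dropLast ++ [2 ^ k] := by
          have hne : b ≠ [] := fun e => by simp [e] at hlen'
          conv_lhs => rw [← List.dropLast_concat_getLast hne]
          rw [List.getLast_eq_getElem]
          congr 2
          have := Nat.eq_of_beq_eq_true hk
          rw [List.getD_eq_getElem _ _ (by omega)] at this
          rw [← this]
          simp [hlen']
        have hM : mval (S.map f) b.dropLast ≠ 0 := by
          have := safe_env G hN [] hsafe
          rwa [List.append_nil] at this
        obtain ⟨y, hy⟩ := exists_two_pow_root G k (f r / mval (S.map f) b.dropLast)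
        refine ⟨y, ?_⟩
        rw [mval_uni, hb, mval_last y _ _ _ (by simp [hlen']), hy, mul_div_cancel₀ _ hM]
        have hg : (S.map f ++ [y]).getD (S.idxOf r) 1 = f r := by
          simp [List.getD_eq_getElem?_getD, List.getElem?_append, hr, List.getElem_idxOf]
        rw [hg, ← two_mul, h20, zero_mul]
      rw [Bool.or_eq_true] at hm
      rcases hm with hm | hm
      · exact key _ _ hm
      · obtain ⟨y, hy⟩ := key _ _ hm
        exact ⟨y, by rw [add_comm]; exact hy⟩
    have hxinv : ∀ t : F, (G.full.x s t)⁻¹ = G.full.x s t := fun t => by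
      rw [G.full.x_inv, neg_self h20]
    have hconj : G.full.x s y * el G S f * (G.full.x s y)⁻¹ =
        el G (posList D) (pv (S.map f ++ [y]) L) := by
      rw [el, el, ← norm_sound G h20 hL, wv_cons, wv_append, wv_cons, hxinv]
      have e2 : (S.map f ++ [y]).getD S.length 1 = y := by
        simp [List.getD_eq_getElem?_getD]
      rw [mval_uni, e2, wv_wordS G S f [y]]
      simp [el, wv, mul_assoc]
    obtain ⟨h2', h1'⟩ := conj_props G (k := G.full.x s y) hsq hne
    obtain ⟨z, hz, hcj⟩ := use_fits G (hprev next hn) hfit hN [y] (fun t ht => by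
      rw [List.mem_singleton.1 ht, pv_mons G, heq]
      simpa using hy) hconj h2' h1'
    exact ⟨z, hz, cj_trans G ⟨_, G.x_mem_group _ _, rfl⟩ hcj⟩
  | refl i next =>
    simp only [Bool.and_eq_true, Nat.blt_eq, List.all_eq_true] at h
    obtain ⟨⟨⟨hn, hi⟩, hlt⟩, hm⟩ := h
    split at hm
    swap
    · simp at hm
    next L hL =>
    set ν := G.full.ns F i
    have hact : ∀ l : List (ℕ × List ℕ), (∀ x ∈ l, x.1 < D.nroots) →
        wv G (S.map f ++ []) (l.map fun x => (T.reflT i x.1, x.2)) =
          ν * wv G (S.map f ++ []) l * ν⁻¹ := by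
      intro l
      induction l with
      | nil => intro _; simp [wv]
      | cons x l ih =>
        intro hl
        have hx : x.1 < D.nroots := hl x (List.mem_cons_self ..)
        have e : ν * G.full.x x.1 (mval (S.map f ++ []) x.2) * ν⁻¹ =
            G.full.x (T.reflT i x.1) (mval (S.map f ++ []) x.2) := by
          rw [G.full.ns_conj hi hx]
          rcases (G.full.reflT_spec hi hx).2.2.2.2.2.2.1 with hs | hs <;>
            simp [hs, neg_self h20]
        rw [List.map_cons, wv_cons, wv_cons, ih fun z hz => hl z (List.mem_cons_of_mem _ hz), ← e]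
        group
    have hwS : ∀ x ∈ wordS S, x.1 < D.nroots := fun x hx => by
      rw [wordS, List.mem_map] at hx
      obtain ⟨⟨a, b⟩, hab, rfl⟩ := hx
      exact hlt a (List.fst_mem_of_mem_zipIdx hab)
    have hconj : ν * el G S f * ν⁻¹ = el G (posList D) (pv (S.map f ++ []) L) := by
      rw [el, el, ← norm_sound G h20 hL, hact _ hwS, wv_wordS G]
      rfl
    obtain ⟨h2', h1'⟩ := conj_props G (k := ν) hsq hne
    obtain ⟨z, hz, hcj⟩ := use_fits G (hprev next hn) hm hN [] (fun t ht => absurd ht List.not_mem_nil)
      hconj h2' h1'
    exact ⟨z, hz, cj_trans G ⟨_, G.ns_mem_group ⟨i, hi⟩, rfl⟩ hcj⟩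

/-- Every checked node is covered. -/
theorem covered {reps : List (List ℕ)} {R : List (GL D.Idx F)} {nodes : List Node}
    (hord : chkOrd T = true)
    (hrep : ∀ k < reps.length, ∀ f : ℕ → F, (∀ r ∈ reps.getD k [], f r ≠ 0) →
      ∃ y ∈ R, Cj G (el G (reps.getD k []) f) y)
    (h : ∀ idx < nodes.length, chkNode T reps nodes idx = true) :
    ∀ idx < nodes.length,
      Covered G R (nodes.getD idx ([], [], .one)).1 (nodes.getD idx ([], [], .one)).2.1 := by
  intro idx
  induction idx using Nat.strong_induction_on with
  | _ idx ih =>
    intro hidx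
    exact node_covered G hord hrep (h idx hidx) fun j hj => ih j hj (by omega)

end Sound

end CfsgLib.Chev.InvolReduce
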