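import Cfsg.Agent.Chev.InvolData

/-!
Consequences for the groups of odd characteristic.
-/

set_option autoImplicit false
set_option linter.style.haveILetI false

namespace CfsgLib.Chev

open Cfsg.Lie Matrix
open scoped MatrixGroups

theorem card_centralizer_subtype {X : Type*} [Group X] {H : Subgroup X} (s : H) :
    Nat.card (Subgroup.centralizer ({s} : Set H)) =
      Nat.card ↥(H ⊓ Subgroup.centralizer {(s : X)}) :=
  Nat.card_congr
    { toFun := fun x => ⟨(x : H), Subgroup.mem_inf.mpr ⟨(x : H).2,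
        Subgroup.mem_centralizer_iff.mpr fun y hy => by
          rw [Set.mem_singleton_iff.mp hy]
          exact congrArg Subtype.val (Subgroup.mem_centralizer_iff.mp x.2 s rfl)⟩⟩
      invFun := fun x => ⟨⟨x, (Subgroup.mem_inf.mp x.2).1⟩,
        Subgroup.mem_centralizer_iff.mpr fun y hy => by
          rw [Set.mem_singleton_iff.mp hy]
          exact Subtype.ext (Subgroup.mem_centralizer_iff.mp (Subgroup.mem_inf.mp x.2).2 _ rfl)⟩
      left_inv := fun x => rfl
      right_inv := fun x => rfl }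

theorem card_centralizer_conj {X : Type*} [Group X] {a b : X} (h : IsConj a b) :
    Nat.card (Subgroup.centralizer ({a} : Set X)) =
      Nat.card (Subgroup.centralizer ({b} : Set X)) := by
  obtain ⟨c, rfl⟩ := isConj_iff.mp h
  refine Nat.card_congr ((MulAut.conj c).toEquiv.subtypeEquiv fun x => ?_)
  show x ∈ Subgroup.centralizer {a} ↔ c * x * c⁻¹ ∈ Subgroup.centralizer {c * a * c⁻¹}
  simp only [Subgroup.mem_centralizer_iff, Set.mem_singleton_iff, forall_eq]
  constructor
  · intro h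
    rw [show c * a * c⁻¹ * (c * x * c⁻¹) = c * (a * x) * c⁻¹ by group, h]
    group
  · intro h
    have := congrArg (fun y => c⁻¹ * y * c) h
    simpa [mul_assoc] using this

theorem two_ne_zero_of_odd {F : Type*} [Field F] [Fintype F] (hF : Odd (Fintype.card F)) :
    (2 : F) ≠ 0 :=
  Ring.two_ne_zero fun h => Nat.not_even_iff_odd.mpr hF
    (Nat.even_iff.mpr (FiniteField.even_card_iff_char_two.mp h))

theorem pow_mul_prod_ne {q : ℕ} (hq : 2 ≤ q) {a b : ℕ} (hab : a < b) {ds : List ℕ}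
    (hds : ∀ d ∈ ds, 1 ≤ d) (x : ℕ) : q ^ a * (ds.map fun d => q ^ d - 1).prod ≠ q ^ b * x := by
  intro h
  obtain ⟨j, rfl⟩ : ∃ j, b = a + (j + 1) := ⟨b - a - 1, by omega⟩
  rw [pow_add, mul_assoc] at h
  have h' := Nat.eq_of_mul_eq_mul_left (by positivity) h
  have hdvd : q ∣ (ds.map fun d => q ^ d - 1).prod := by
    rw [h', pow_succ', mul_assoc]
    exact dvd_mul_right _ _
  obtain ⟨p, hp, hpq⟩ := Nat.exists_prime_and_dvd (n := q) (by omega)
  obtain ⟨y, hy, hpy⟩ := (Nat.prime_iff.mp hp).dvd_prod_iff.mp (hpq.trans hdvd)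
  obtain ⟨d, hd, rfl⟩ := List.mem_map.mp hy
  have h1 : p ∣ q ^ d := hpq.trans (dvd_pow_self q (by have := hds d hd; omega))
  have h2 : 1 ≤ q ^ d := Nat.one_le_pow _ _ (by omega)
  have := Nat.dvd_sub h1 hpy
  rw [Nat.sub_sub_self h2, Nat.dvd_one] at this
  exact hp.ne_one this

namespace Tab.Good

variable {D : ChevalleyDatum} {T : Tab D} (G : T.Good) {F : Type*} [Field F]
include G

/-- A non-zero bit vector as an element of the group. -/
def bitInv (F : Type*) [Field F] (b : ℕ) : ↥(D.group F) :=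
  ⟨T.hT F (cbit D F b), G.diagonal_le_group (by rw [G.full.diagonal_eq_range]; exact ⟨_, rfl⟩)⟩

theorem orderOf_bitInv (h2 : (2 : F) ≠ 0) {M : List (List ℤ)} (hM : T.chkSC M = true) {b : ℕ}
    (hb : b < 2 ^ D.rank) (hb0 : b ≠ 0) : orderOf (G.bitInv F b) = 2 := by
  refine orderOf_eq_prime (Subtype.ext ?_) fun h => hb0 (cbit_inj h2 hb (Nat.two_pow_pos _) ?_)
  · show (T.hT F (cbit D F b)) ^ 2 = 1
    rw [← map_pow, show cbit D F b ^ 2 = 1 from funext fun i => by
      simp only [Pi.pow_apply, cbit, Pi.one_apply]; split_ifs <;> simp, map_one]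
  · rw [cbit_zero]
    exact G.sc_hT_inj hM (congrArg Subtype.val h)

theorem classes_subtype [Finite F] (h2 : (2 : F) ≠ 0) {M : List (List ℤ)}
    (hM : T.chkSC M = true) {ms : List ℕ} {r r' : ℕ} {par par' : List (ℕ × ℕ)}
    (hcov : T.chkCover ms r r' par par' = true) (u : ↥(D.group F)) (hu : orderOf u = 2) :
    IsConj u (G.bitInv F r) ∨ IsConj u (G.bitInv F r') := by
  have h1 : (u : GL D.Idx F) ≠ 1 := fun h => by
    rw [show u = 1 from Subtype.ext h, orderOf_one] at hu; omega
  have h2' : (u : GL D.Idx F) * u = 1 := by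
    have := pow_orderOf_eq_one u
    rw [hu, pow_two] at this
    exact congrArg Subtype.val this
  rcases G.classes h2 hM hcov u.2 h2' h1 with ⟨h, hh, e⟩ | ⟨h, hh, e⟩
  · exact Or.inl (isConj_iff.mpr ⟨⟨h, hh⟩, Subtype.ext e⟩)
  · exact Or.inr (isConj_iff.mpr ⟨⟨h, hh⟩, Subtype.ext e⟩)

theorem card_bitInv [Fintype F] (h2 : (2 : F) ≠ 0) {M : List (List ℤ)} (hM : T.chkSC M = true)
    {ms : List ℕ} (hms : T.chkMask ms = true) {ls : List (ℕ × List (ℕ × ℕ) × List ℕ)}
    (hls : T.chkChainF (List.range D.rank) ls = true) {b N : ℕ} {ds : List ℕ}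
    (hcount : chkCount D ms b ds ls = true) (hnum : T.chkNum b N = true) :
    Nat.card (Subgroup.centralizer ({G.bitInv F b} : Set ↥(D.group F))) =
      Fintype.card F ^ N * (ds.map fun d => Fintype.card F ^ d - 1).prod := by
  rw [card_centralizer_subtype]
  exact G.card_cent_bit h2 hM hms hls hcount hnum

end Tab.Good

end CfsgLib.Chev
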