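import Cfsg.Agent.Chev.Steinberg

/-!
The Bruhat decomposition in a group with Steinberg's relations; the kernel of the map to matrices.
-/

set_option autoImplicit false

namespace CfsgLib.Chev

open Cfsg.Lie Matrix
open scoped MatrixGroups

namespace Tab

variable {D : ChevalleyDatum}

/-- The witnesses for conjugating the fundamental root elements exist. -/
def HasWit (T : Tab D) : Prop := ∃ ws, T.chkWits ws = true

/-- The positive roots. -/
abbrev posR (D : ChevalleyDatum) : Set ℕ := {r | IsPos D r}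

namespace Good

variable {T : Tab D} (G : T.Good) {F : Type*} [Field F]
include G

theorem chi_negR {s : ℕ} (hs : s < D.nroots) (c : Fin D.rank → Fˣ) :
    T.chi (negR D s) c = (T.chi s c)⁻¹ := by
  simp only [chi, MonoidHom.coe_mk, OneHom.coe_mk, ← Finset.prod_inv_distrib, ← _root_.zpow_neg]
  refine Finset.prod_congr rfl fun i _ => ?_
  rw [((G.full.cert.root_spec hs).2.2.2.1 i i.isLt).1]

theorem exists_word_simple {r : ℕ} (hr : r < D.nroots) :
    ∃ (L : List (Fin D.rank)) (j : Fin D.rank), G.full.pw L (G.full.simp' j) = ⟨r, hr⟩ := by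
  obtain ⟨g, hg, j, hj, η, hη, h1, -⟩ := G.full.exists_conj (F := ℚ) hr
  obtain ⟨c, L, rfl⟩ := G.exists_of_mem_closure_ns hg
  obtain ⟨a, ha⟩ := G.rootAct_mul (G.rootAct_hT c) (G.rootAct_nw (F := ℚ) L)
  refine ⟨L, ⟨j, hj⟩, ?_⟩
  have e := (ha (G.full.simp' ⟨j, hj⟩)).2.2.2 1
  rw [show (G.full.simp' ⟨j, hj⟩).val = D.simple j from rfl, h1 1, one_mul, mul_one, mul_one] at e
  exact Fin.ext (G.x_inj_root hr (Fin.isLt _) (fun h0 => by simp [h0] at hη) e).symm

theorem nw_mem_borel_imp {L : List (Fin D.rank)} (h : G.full.nw F L ∈ D.borelSubgroup F) :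
    G.full.pw L = 1 := by
  have h' : G.full.nw F L ∈ D.diagonalSubgroup F := by
    rw [← G.borel_inf_monomial]; exact ⟨h, G.nw_mem_monomial L⟩
  rw [G.full.diagonal_eq_range] at h'
  obtain ⟨c, hc⟩ := h'
  exact G.rootAct_unique (G.rootAct_nw L) (hc ▸ G.rootAct_hT c)

namespace StData

variable {G} {E : Type*} [Group E] (S : G.StData F E) (hW : T.HasWit)
include S

/-- The torus in the group. -/
def HB : Subgroup E :=
  Subgroup.closure {g | ∃ (j : Fin D.rank) (t : Fˣ), g = S.hb j (t : F)}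

/-- A product of the `n_i(1)`. -/
def nbw (L : List (Fin D.rank)) : E := (L.map fun i => S.nb i 1).prod

theorem θ_nbw (L : List (Fin D.rank)) : S.θ (S.nbw L) = G.full.nw F L := by
  induction L with
  | nil => simp [nbw, Full.nw]
  | cons i L ih =>
    rw [G.nw_cons, ← ih]
    simp [nbw, θ_nb, Full.ns]

theorem nbw_cons (i : Fin D.rank) (L : List (Fin D.rank)) :
    S.nbw (i :: L) = S.nb i 1 * S.nbw L := by simp [nbw]

theorem pos_eq : (posR D) = posSet (G.full.pw []) := by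
  ext r
  exact ⟨fun h => ⟨h.1, h⟩, fun ⟨_, h⟩ => h⟩

theorem injOn_pos {u v : E} (hu : u ∈ S.UE (posR D)) (hv : v ∈ S.UE (posR D)) (h : S.θ u = S.θ v) :
    u = v := by
  rw [S.pos_eq] at hu hv
  exact S.θ_injOn [] hu hv h

include hW in
theorem nb_conj (j : Fin D.rank) {s : ℕ} (hs : s < D.nroots) {t : F} (ht : t ≠ 0) (u : F) :
    S.nb j t * S.xb s u * (S.nb j t)⁻¹ =
      S.xb (T.reflT j s) (t ^ (-(T.cart j s)) * (T.sgn j s : F) * u) := by
  obtain ⟨ws, hws⟩ := hW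
  simp only [chkWits, allBelow_iff, Bool.and_eq_true] at hws
  rcases eq_or_ne s (D.simple j) with rfl | h1
  · exact S.nb_conj_pm j (Or.inl rfl) (hws j j.isLt).1 ht u
  rcases eq_or_ne s (negR D (D.simple j)) with rfl | h2
  · exact S.nb_conj_pm j (Or.inr rfl) (hws j j.isLt).2 ht u
  exact S.nb_conj_away j hs h1 h2 ht u

include hW in
theorem nbw_conj : ∀ (L : List (Fin D.rank)) (s : Fin D.nroots) (u : F),
    ∃ c, S.nbw L * S.xb s.val u * (S.nbw L)⁻¹ = S.xb (G.full.pw L s).val c := by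
  intro L
  induction L with
  | nil => exact fun s u => ⟨u, by simp [nbw, Full.pw]⟩
  | cons i L ih =>
    intro s u
    obtain ⟨c, hc⟩ := ih s u
    refine ⟨?w, ?_⟩
    rotate_left
    rw [nbw_cons, show S.nb i 1 * S.nbw L * S.xb s.val u * (S.nb i 1 * S.nbw L)⁻¹ =
      S.nb i 1 * (S.nbw L * S.xb s.val u * (S.nbw L)⁻¹) * (S.nb i 1)⁻¹ by group, hc,
      S.nb_conj hW i (Fin.isLt _) one_ne_zero]
    rfl

include hW in
theorem exists_HB {h : E} (hh : h ∈ S.HB) :
    ∃ c : Fin D.rank → Fˣ, S.θ h = T.hT F c ∧ ∀ s < D.nroots, ∀ u,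
      h * S.xb s u * h⁻¹ = S.xb s ((T.chi s c : F) * u) := by
  induction hh using Subgroup.closure_induction with
  | mem g hg =>
    obtain ⟨j, t, rfl⟩ := hg
    have hθ : S.θ (S.hb j (t : F)) = T.hT F (Pi.mulSingle j t) := by
      rw [S.θ_hb, G.full.hT_single]
    refine ⟨_, hθ, fun s hs u => ?_⟩
    obtain ⟨hlt, hinv, -⟩ := G.full.reflT_spec j.isLt hs
    obtain ⟨v, hv⟩ : ∃ v, S.hb j (t : F) * S.xb s u * (S.hb j (t : F))⁻¹ = S.xb s v := by
      refine ⟨?w, ?_⟩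
      rotate_left
      rw [hb, show S.nb j (t : F) * S.nb j (-1) * S.xb s u * (S.nb j (t : F) * S.nb j (-1))⁻¹ =
        S.nb j (t : F) * (S.nb j (-1) * S.xb s u * (S.nb j (-1))⁻¹) * (S.nb j (t : F))⁻¹ by group,
        S.nb_conj hW j hs (by simp), S.nb_conj hW j hlt t.ne_zero, hinv]
    have e := congrArg S.θ hv
    rw [map_mul, map_mul, map_inv, hθ, S.θ_x, S.θ_x, G.full.hT_conj hs] at e
    rw [hv, G.x_inj hs e]
  | one => exact ⟨1, by simp, fun s _ u => by simp⟩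
  | mul a b _ _ iha ihb =>
    obtain ⟨c, hc, hc'⟩ := iha
    obtain ⟨d, hd, hd'⟩ := ihb
    refine ⟨c * d, by rw [map_mul, map_mul, hc, hd], fun s hs u => ?_⟩
    rw [show a * b * S.xb s u * (a * b)⁻¹ = a * (b * S.xb s u * b⁻¹) * a⁻¹ by group, hd' s hs,
      hc' s hs, map_mul, Units.val_mul, mul_assoc]
  | inv a _ iha =>
    obtain ⟨c, hc, hc'⟩ := iha
    refine ⟨c⁻¹, by rw [map_inv, map_inv, hc], fun s hs u => ?_⟩
    have e := hc' s hs ((T.chi s c⁻¹ : Fˣ) * u)
    rw [← mul_assoc, ← Units.val_mul, map_inv, mul_inv_cancel, Units.val_one, one_mul] at e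
    rw [inv_inv, ← e, map_inv]
    group

include hW in
theorem HB_conj_UE {A : Set ℕ} (hA : ∀ s ∈ A, s < D.nroots) {h u : E} (hh : h ∈ S.HB)
    (hu : u ∈ S.UE A) : h * u * h⁻¹ ∈ S.UE A := by
  obtain ⟨c, -, hc⟩ := S.exists_HB hW hh
  induction hu using Subgroup.closure_induction with
  | mem g hg =>
    obtain ⟨r, hr, t, rfl⟩ := hg
    rw [hc r (hA r hr)]
    exact S.xb_mem hr _
  | one => simp
  | mul a b _ _ ha hb =>
    rw [show h * (a * b) * h⁻¹ = h * a * h⁻¹ * (h * b * h⁻¹) by group]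
    exact mul_mem ha hb
  | inv a _ ha =>
    rw [show h * a⁻¹ * h⁻¹ = (h * a * h⁻¹)⁻¹ by group]
    exact inv_mem ha

theorem hb_mem (j : Fin D.rank) {t : F} (ht : t ≠ 0) : S.hb j t ∈ S.HB :=
  Subgroup.subset_closure ⟨j, Units.mk0 t ht, rfl⟩

theorem nb_mul_nb (j : Fin D.rank) {v w : F} (hv : v ≠ 0) (hw : w ≠ 0) :
    S.nb j v * S.nb j w ∈ S.HB := by
  have e : S.nb j v * S.nb j w = S.hb j v * (S.hb j (-w))⁻¹ := by
    rw [hb, hb, _root_.mul_inv_rev, S.nb_inv, S.nb_inv, neg_neg, neg_neg, ← S.nb_inv j 1]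
    group
  rw [e]
  exact mul_mem (S.hb_mem j hv) (inv_mem (S.hb_mem j (neg_ne_zero.mpr hw)))

theorem nb_eq (j : Fin D.rank) (t : F) : S.nb j t = S.hb j t * S.nb j 1 := by
  rw [hb, ← S.nb_inv j 1, inv_mul_cancel_right]

theorem nb_inv_one (j : Fin D.rank) : (S.nb j 1)⁻¹ = S.hb j (-1) * S.nb j 1 := by
  rw [← S.nb_eq, S.nb_inv]

include hW in
theorem HB_conj_nb (j : Fin D.rank) {v : F} (hv : v ≠ 0) {h : E} (hh : h ∈ S.HB) :
    S.nb j v * h * (S.nb j v)⁻¹ ∈ S.HB := by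
  obtain ⟨c, -, hc⟩ := S.exists_HB hW hh
  have hp := G.full.simple_lt j.isLt
  set χ := T.chi (F := F) (D.simple j) c
  have e : h * S.nb j (-v) * h⁻¹ = S.nb j ((χ : F) * -v) := by
    have h1 := hc _ hp (-v)
    have h2 := hc _ (Cert.negR_lt hp) (-(-v)⁻¹)
    rw [G.chi_negR hp, Units.val_inv_eq_inv_val,
      show ((χ : F))⁻¹ * -(-v)⁻¹ = -((χ : F) * -v)⁻¹ by rw [_root_.mul_inv]; ring] at h2
    rw [nb, nb, ← h1, ← h2]
    group
  have e2 : S.nb j v * h * (S.nb j v)⁻¹ = S.nb j v * S.nb j ((χ : F) * -v) * h := by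
    rw [S.nb_inv, ← e]
    group
  rw [e2]
  exact mul_mem (S.nb_mul_nb j hv (mul_ne_zero χ.ne_zero (neg_ne_zero.mpr hv))) hh

include hW in
theorem HB_conj_nbw (L : List (Fin D.rank)) {h : E} (hh : h ∈ S.HB) :
    S.nbw L * h * (S.nbw L)⁻¹ ∈ S.HB := by
  induction L with
  | nil => simpa [nbw] using hh
  | cons i L ih =>
    rw [nbw_cons, show S.nb i 1 * S.nbw L * h * (S.nb i 1 * S.nbw L)⁻¹ =
      S.nb i 1 * (S.nbw L * h * (S.nbw L)⁻¹) * (S.nb i 1)⁻¹ by group]
    exact S.HB_conj_nb hW i one_ne_zero ih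

include hW in
theorem deletion : ∀ (L : List (Fin D.rank)) (i : Fin D.rank),
    ¬ IsPos D (G.full.pw L (G.full.simp' i)).val →
    ∃ L' : List (Fin D.rank), L'.length + 1 = L.length ∧
      ∃ h ∈ S.HB, S.nbw L * S.nb i 1 = h * S.nbw L' := by
  intro L
  induction L with
  | nil => intro i h; exact absurd (G.pos_simp i) h
  | cons k L ih =>
    intro i hneg
    by_cases hp : IsPos D (G.full.pw L (G.full.simp' i)).val
    · have hs : G.full.pw L (G.full.simp' i) = G.full.simp' k := by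
        by_contra hne
        exact hneg (by rw [G.pw_cons]; exact (G.refl_pos k hp hne).1)
      have hpi := G.full.simple_lt i.isLt
      have hpk := G.full.simple_lt k.isLt
      obtain ⟨a, ha⟩ := S.nbw_conj hW L (G.full.simp' i) 1
      obtain ⟨b, hb'⟩ := S.nbw_conj hW L (negF (G.full.simp' i)) (-(1 : F)⁻¹)
      rw [hs] at ha
      rw [G.negF_pw, hs] at hb'
      obtain ⟨c, hc⟩ := G.rootAct_nw (F := F) L
      have ha' := congrArg S.θ ha
      rw [map_mul, map_mul, map_inv, S.θ_nbw, S.θ_x, S.θ_x, (hc _).2.2.2, hs, mul_one] at ha'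
      have hb2 := congrArg S.θ hb'
      rw [map_mul, map_mul, map_inv, S.θ_nbw, S.θ_x, S.θ_x, (hc _).2.2.2, (hc _).1, hs,
        (hc _).2.1] at hb2
      have ea : a = (c (G.full.simp' i) : F) := (G.x_inj hpk ha').symm
      have eb : b = -a⁻¹ := by
        rw [← G.x_inj (Cert.negR_lt hpk) hb2, ea]; simp
      have e : S.nbw L * S.nb i 1 * (S.nbw L)⁻¹ = S.nb k a := by
        rw [eb] at hb'
        have ha2 : S.nbw L * S.xb (D.simple i) 1 * (S.nbw L)⁻¹ = S.xb (D.simple k) a := ha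
        have hb3 : S.nbw L * S.xb (negR D (D.simple i)) (-(1 : F)⁻¹) * (S.nbw L)⁻¹ =
            S.xb (negR D (D.simple k)) (-a⁻¹) := hb'
        rw [nb, nb, ← ha2, ← hb3]
        group
      have ha0 : a ≠ 0 := by rw [ea]; exact Units.ne_zero _
      refine ⟨L, by simp, _, S.nb_mul_nb k one_ne_zero ha0, ?_⟩
      rw [← e, nbw_cons]
      group
    · obtain ⟨L', hlen, h, hh, he⟩ := ih i hp
      refine ⟨k :: L', by simp [hlen], _, S.HB_conj_nb hW k one_ne_zero hh, ?_⟩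
      rw [nbw_cons, nbw_cons, mul_assoc, he]
      group

include hW in
theorem nbw_mem_HB : ∀ (n : ℕ) (L : List (Fin D.rank)), L.length = n →
    (∀ s, IsPos D s.val → IsPos D (G.full.pw L s).val) → S.nbw L ∈ S.HB := by
  intro n
  induction n using Nat.strong_induction_on with
  | _ n ih =>
    intro L hn hpos
    rcases List.eq_nil_or_concat L with rfl | ⟨M, i, rfl⟩
    · simpa [nbw] using one_mem _
    rw [List.concat_eq_append] at hn hpos ⊢
    have hneg : ¬ IsPos D (G.full.pw M (G.full.simp' i)).val := by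
      have h := hpos _ (G.pos_simp i)
      rw [G.pw_append, Equiv.Perm.mul_apply, G.pw_singleton, G.refl_simp, G.negF_pw,
        G.pos_negF] at h
      exact h
    obtain ⟨L', hlen, h, hh, he⟩ := S.deletion hW M i hneg
    have e : S.nbw (M ++ [i]) = h * S.nbw L' := by
      rw [← he]; simp [nbw]
    obtain ⟨c, hc, -⟩ := S.exists_HB hW hh
    have hpw : G.full.pw (M ++ [i]) = G.full.pw L' := by
      refine G.pw_eq_of_nw (F := F) (c := c) ?_
      rw [← S.θ_nbw, ← S.θ_nbw, e, map_mul, hc]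
    rw [e]
    exact mul_mem hh (ih L'.length (by simp at hn; omega) L' rfl (by rw [← hpw]; exact hpos))

/-- The set `U H N U`. -/
def big : Set E :=
  {g | ∃ u ∈ S.UE (posR D), ∃ h ∈ S.HB, ∃ L, ∃ v ∈ S.UE (posR D), g = u * h * S.nbw L * v}

theorem big_UE {w g : E} (hw : w ∈ S.UE (posR D)) (hg : g ∈ S.big) : w * g ∈ S.big := by
  obtain ⟨u, hu, h, hh, L, v, hv, rfl⟩ := hg
  exact ⟨w * u, mul_mem hw hu, h, hh, L, v, hv, by group⟩

include hW in
theorem big_HB {k g : E} (hk : k ∈ S.HB) (hg : g ∈ S.big) : k * g ∈ S.big := by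
  obtain ⟨u, hu, h, hh, L, v, hv, rfl⟩ := hg
  exact ⟨k * u * k⁻¹, S.HB_conj_UE hW (fun s hs => hs.1) hk hu, k * h, mul_mem hk hh, L, v, hv,
    by group⟩

include hW in
theorem move_right (j : Fin D.rank) {L : List (Fin D.rank)} {s : Fin D.nroots}
    (hs : G.full.pw L s = G.full.simp' j) (hpos : IsPos D s.val) (t : F) :
    ∃ v ∈ S.UE (posR D), S.xb (D.simple j) t * S.nbw L = S.nbw L * v := by
  obtain ⟨c, hc⟩ := G.rootAct_nw (F := F) L
  obtain ⟨b, hb'⟩ := S.nbw_conj hW L s (t / (c s : F))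
  rw [hs] at hb'
  have e := congrArg S.θ hb'
  rw [map_mul, map_mul, map_inv, S.θ_nbw, S.θ_x, S.θ_x, (hc s).2.2.2, hs,
    mul_div_cancel₀ _ (c s).ne_zero] at e
  have := G.x_inj (G.full.simple_lt j.isLt) e
  subst this
  refine ⟨_, S.xb_mem (A := posR D) hpos (t / (c s : F)), ?_⟩
  rw [show D.simple j.val = (G.full.simp' j).val from rfl, ← hb']
  group

include hW in
theorem big_nb (j : Fin D.rank) {g : E} (hg : g ∈ S.big) : S.nb j 1 * g ∈ S.big := by
  obtain ⟨u, hu, h, hh, L, v, hv, rfl⟩ := hg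
  have hp := G.full.simple_lt j.isLt
  have hP : (posR D) = {s | IsPos D s ∧ s ≠ D.simple j} ∪ {D.simple j} := by
    ext s
    simp only [Set.mem_setOf_eq, Set.mem_union, Set.mem_singleton_iff]
    refine ⟨fun h => by tauto, ?_⟩
    rintro (h | rfl)
    exacts [h.1, G.pos_simp j]
  have hθu : S.θ u ∈ D.posUnipotent F := by
    rw [G.posUnipotent_eq]; exact S.θ_UE_le ⟨u, hu, rfl⟩
  obtain ⟨a', ha', t, et⟩ := G.pos_split_simple j hθu
  obtain ⟨a, ha, rfl⟩ := S.exists_lift ha'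
  have hau : u = a * S.xb (D.simple j) t :=
    S.injOn_pos hu (mul_mem (S.UE_mono (fun s hs => hs.1) ha) (S.xb_mem (A := posR D) (G.pos_simp j) t))
      (by rw [map_mul, S.θ_x, et])
  subst hau
  have hna : S.nb j 1 * a * (S.nb j 1)⁻¹ ∈ S.UE (posR D) := by
    clear et hu hθu ha'
    induction ha using Subgroup.closure_induction with
    | mem g hg =>
      obtain ⟨r, ⟨hr, hne⟩, w, rfl⟩ := hg
      rw [S.nb_conj hW j hr.1 one_ne_zero]
      exact S.xb_mem (A := posR D)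
        (G.refl_pos j (s := ⟨r, hr.1⟩) hr fun e => hne (congrArg Fin.val e)).1 _
    | one => simp
    | mul a b _ _ ha hb =>
      rw [show S.nb j 1 * (a * b) * (S.nb j 1)⁻¹ =
        S.nb j 1 * a * (S.nb j 1)⁻¹ * (S.nb j 1 * b * (S.nb j 1)⁻¹) by group]
      exact mul_mem ha hb
    | inv a _ ha =>
      rw [show S.nb j 1 * a⁻¹ * (S.nb j 1)⁻¹ = (S.nb j 1 * a * (S.nb j 1)⁻¹)⁻¹ by group]
      exact inv_mem ha
  obtain ⟨c, -, hc⟩ := S.exists_HB hW (inv_mem hh)
  set t' := (T.chi (D.simple j) c : F) * t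
  have hh' := S.HB_conj_nb hW j one_ne_zero hh
  rw [show S.nb j 1 * (a * S.xb (D.simple j) t * h * S.nbw L * v) =
      (S.nb j 1 * a * (S.nb j 1)⁻¹) * ((S.nb j 1 * h * (S.nb j 1)⁻¹) *
        (S.nb j 1 * (h⁻¹ * S.xb (D.simple j) t * h⁻¹⁻¹) * S.nbw L * v)) by group, hc _ hp]
  refine S.big_UE hna (S.big_HB hW hh' ?_)
  change S.nb j 1 * S.xb (D.simple j) t' * S.nbw L * v ∈ S.big
  set s := (G.full.pw L).symm (G.full.simp' j) with hsdef
  have hs : G.full.pw L s = G.full.simp' j := Equiv.apply_symm_apply _ _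
  by_cases hpos : IsPos D s.val
  · obtain ⟨v', hv', e⟩ := S.move_right hW j hs hpos t'
    refine ⟨1, one_mem _, 1, one_mem _, j :: L, v' * v, mul_mem hv' hv, ?_⟩
    rw [mul_assoc (S.nb j 1), e, nbw_cons]
    group
  rcases eq_or_ne t' 0 with h0 | h0
  · refine ⟨1, one_mem _, 1, one_mem _, j :: L, v, hv, ?_⟩
    rw [h0, S.xb_zero hp, nbw_cons]
    group
  -- the hard case
  set w := (1 : F) ^ (-(T.cart j (D.simple j))) * (T.sgn j (D.simple j) : F) * t' with hw
  have hw0 : w ≠ 0 := by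
    rw [hw, _root_.one_zpow, one_mul]
    refine mul_ne_zero ?_ h0
    rw [(G.full.node_spec j.isLt).2.2.2.1]
    simp
  set a₀ := -w⁻¹ with ha₀
  have ha0 : a₀ ≠ 0 := neg_ne_zero.mpr (inv_ne_zero hw0)
  have e1 : S.nb j 1 * S.xb (D.simple j) t' =
      S.xb (D.simple j) (-a₀) * S.nb j a₀ * S.xb (D.simple j) (-a₀) * S.nb j 1 := by
    have := S.nb_conj hW j hp one_ne_zero t'
    rw [G.full.simple_reflect j.isLt, ← hw] at this
    rw [show S.nb j 1 * S.xb (D.simple j) t' =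
      (S.nb j 1 * S.xb (D.simple j) t' * (S.nb j 1)⁻¹) * S.nb j 1 by group, this]
    congr 1
    rw [nb, ← S.xb_inv hp]
    rw [show -a₀⁻¹ = w by rw [ha₀, inv_neg, neg_neg, inv_inv]]
    group
  have hs' : G.full.pw (j :: L) (negF s) = G.full.simp' j := by
    rw [G.negF_pw, G.pw_cons, Equiv.Perm.mul_apply, hs, G.refl_simp, negF_negF]
  obtain ⟨v', hv', e2⟩ := S.move_right hW j hs' (G.pos_negF.mpr hpos) (-a₀)
  refine ⟨S.xb (D.simple j) (-a₀), S.xb_mem (A := posR D) (G.pos_simp j) _, S.hb j a₀,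
    S.hb_mem j ha0, j :: j :: L, v' * v, mul_mem hv' hv, ?_⟩
  rw [e1, S.nb_eq j a₀]
  simp only [mul_assoc]
  rw [← mul_assoc (S.nb j 1) (S.nbw L), ← nbw_cons, ← mul_assoc (S.xb (D.simple j) (-a₀)) _ v, e2]
  simp only [nbw_cons, mul_assoc]

include hW in
theorem big_xb_neg (j : Fin D.rank) (t : F) {g : E} (hg : g ∈ S.big) :
    S.xb (negR D (D.simple j)) t * g ∈ S.big := by
  have hp := G.full.simple_lt j.isLt
  have hpos := G.pos_simp j
  set t' := (1 : F) ^ (-(T.cart j (negR D (D.simple j)))) *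
    (T.sgn j (negR D (D.simple j)) : F) * t
  have e := S.nb_conj hW j (Cert.negR_lt hp) one_ne_zero t
  rw [G.full.neg_simple_reflect j.isLt] at e
  have e' : S.xb (negR D (D.simple j)) t * g = S.hb j (-1) *
      (S.nb j 1 * (S.xb (D.simple j) t' * (S.nb j 1 * g))) := by
    rw [← e, ← mul_assoc (S.hb j (-1)), ← S.nb_inv_one]
    group
  rw [e']
  exact S.big_HB hW (S.hb_mem j (by simp))
    (S.big_nb hW j (S.big_UE (S.xb_mem (A := posR D) hpos _) (S.big_nb hW j hg)))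

include hW in
theorem big_eq_univ (g : E) : g ∈ S.big := by
  -- the generators for simple roots suffice
  let X : Set E := {g | ∃ (j : Fin D.rank) (t : F),
    g = S.xb (D.simple j) t ∨ g = S.xb (negR D (D.simple j)) t}
  have htop : Subgroup.closure X = ⊤ := by
    rw [eq_top_iff, ← S.gen, Subgroup.closure_le]
    rintro _ ⟨r, hr, t, rfl⟩
    obtain ⟨L, j, hL⟩ := G.exists_word_simple hr
    have hnb : ∀ i, S.nb i 1 ∈ Subgroup.closure X := fun i =>
      mul_mem (mul_mem (Subgroup.subset_closure ⟨i, _, Or.inl rfl⟩)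
        (Subgroup.subset_closure ⟨i, _, Or.inr rfl⟩)) (Subgroup.subset_closure ⟨i, _, Or.inl rfl⟩)
    have hN : S.nbw L ∈ Subgroup.closure X := list_prod_mem fun x hx => by
      obtain ⟨i, -, rfl⟩ := List.mem_map.mp hx
      exact hnb i
    obtain ⟨c, hc⟩ := G.rootAct_nw (F := F) L
    obtain ⟨b, hb'⟩ := S.nbw_conj hW L (G.full.simp' j) (t / (c (G.full.simp' j) : F))
    have e := congrArg S.θ hb'
    rw [map_mul, map_mul, map_inv, S.θ_nbw, S.θ_x, S.θ_x, (hc _).2.2.2,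
      mul_div_cancel₀ _ (c _).ne_zero] at e
    have := G.x_inj (Fin.isLt _) e
    subst this
    rw [hL] at hb'
    show S.xb r _ ∈ Subgroup.closure X
    rw [← hb']
    exact mul_mem (mul_mem hN (Subgroup.subset_closure ⟨j, _, Or.inl rfl⟩)) (inv_mem hN)
  have hg : g ∈ Subgroup.closure X := htop ▸ Subgroup.mem_top g
  suffices h : ∀ a ∈ S.big, g * a ∈ S.big by
    simpa using h 1 ⟨1, one_mem _, 1, one_mem _, [], 1, one_mem _, by simp [nbw]⟩
  induction hg using Subgroup.closure_induction'' with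
  | mem x hx =>
    obtain ⟨j, t, rfl | rfl⟩ := hx
    · exact fun a ha => S.big_UE (S.xb_mem (A := posR D) (G.pos_simp j) t) ha
    · exact fun a ha => S.big_xb_neg hW j t ha
  | inv_mem x hx =>
    obtain ⟨j, t, rfl | rfl⟩ := hx
    · exact fun a ha => S.big_UE (inv_mem (S.xb_mem (A := posR D) (G.pos_simp j) t)) ha
    · rw [S.xb_inv (Cert.negR_lt (G.full.simple_lt j.isLt))]
      exact fun a ha => S.big_xb_neg hW j (-t) ha
  | one => simp
  | mul x y _ _ hx hy => exact fun a ha => by rw [mul_assoc]; exact hx _ (hy a ha)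

include hW in
theorem ker_le_HB : S.θ.ker ≤ S.HB := by
  intro g hg
  obtain ⟨u, hu, h, hh, L, v, hv, rfl⟩ := S.big_eq_univ hW g
  obtain ⟨c, hc, hc'⟩ := S.exists_HB hW hh
  rw [MonoidHom.mem_ker, map_mul, map_mul, map_mul, hc, S.θ_nbw] at hg
  have hu' : S.θ u ∈ D.posUnipotent F := by
    rw [G.posUnipotent_eq]; exact S.θ_UE_le ⟨u, hu, rfl⟩
  have hv' : S.θ v ∈ D.posUnipotent F := by
    rw [G.posUnipotent_eq]; exact S.θ_UE_le ⟨v, hv, rfl⟩
  have hB : G.full.nw F L ∈ D.borelSubgroup F := by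
    have e : G.full.nw F L = (S.θ u * T.hT F c)⁻¹ * (S.θ v)⁻¹ := by
      rw [eq_mul_inv_iff_mul_eq]
      exact eq_inv_of_mul_eq_one_right (by rw [← mul_assoc]; exact hg)
    rw [e]
    exact mul_mem (inv_mem (G.mem_borel.mpr ⟨_, hu', c, rfl⟩))
      (inv_mem (Subgroup.mem_sup_left hv'))
  have hN := S.nbw_mem_HB hW _ L rfl (by rw [G.nw_mem_borel_imp hB]; exact fun s hs => hs)
  obtain ⟨d, hd, hd'⟩ := S.exists_HB hW (mul_mem hh hN)
  have hg' : u * (h * S.nbw L * v * (h * S.nbw L)⁻¹) * (h * S.nbw L) = u * h * S.nbw L * v := by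
    group
  rw [← hg']
  set v₁ := h * S.nbw L * v * (h * S.nbw L)⁻¹
  have hv₁ : v₁ ∈ S.UE (posR D) := S.HB_conj_UE hW (fun s hs => hs.1) (mul_mem hh hN) hv
  have h1 : S.θ (u * v₁) * T.hT F d = 1 := by
    rw [← hd, ← map_mul, hg', map_mul, map_mul, map_mul, hc, S.θ_nbw]
    exact hg
  have hθ : S.θ (u * v₁) = 1 := by
    have hmem : S.θ (u * v₁) ∈ D.posUnipotent F ⊓ D.diagonalSubgroup F := by
      refine ⟨?_, ?_⟩
      · rw [G.posUnipotent_eq]; exact S.θ_UE_le ⟨_, mul_mem hu hv₁, rfl⟩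
      · rw [eq_inv_of_mul_eq_one_left h1, G.full.diagonal_eq_range, ← map_inv]
        exact ⟨_, rfl⟩
    rwa [G.pos_inf_diagonal, Subgroup.mem_bot] at hmem
  rw [S.injOn_pos (mul_mem hu hv₁) (one_mem _) (by rw [hθ, map_one]), one_mul]
  exact mul_mem hh hN

include hW in
theorem ker_le_center : S.θ.ker ≤ Subgroup.center E := by
  intro g hg
  obtain ⟨c, hc, hc'⟩ := S.exists_HB hW (S.ker_le_HB hW hg)
  rw [MonoidHom.mem_ker] at hg
  rw [Subgroup.mem_center_iff]
  intro k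
  have hk : k ∈ Subgroup.closure {g | ∃ r < D.nroots, ∃ t, g = S.xb r t} := by
    rw [S.gen]; exact Subgroup.mem_top k
  have hk' : k ∈ Subgroup.centralizer {g} := by
    refine (Subgroup.closure_le _).mpr ?_ hk
    rintro _ ⟨r, hr, t, rfl⟩
    have e1 := hc' r hr t
    have e2 := congrArg S.θ e1
    rw [map_mul, map_mul, map_inv, hg, S.θ_x, S.θ_x, one_mul, inv_one, mul_one] at e2
    rw [← G.x_inj hr e2] at e1
    refine Subgroup.mem_centralizer_singleton_iff.mpr ?_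
    exact (mul_inv_eq_iff_eq_mul.mp e1).symm
  exact Subgroup.mem_centralizer_singleton_iff.mp hk'

end StData

end Good

end Tab

end CfsgLib.Chev
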