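import Cfsg.Agent.Chev.TwistedSpec

/-!
Orders of twisted groups.
-/

set_option autoImplicit false

namespace CfsgLib.Chev

open Cfsg.Lie Matrix
open scoped MatrixGroups

namespace Tab

variable {D : ChevalleyDatum}

/-- The sum of the coordinates in `K` of a root. -/
def corK (T : Tab D) (K : List ℕ) (s : ℕ) : ℤ :=
  ((List.range D.rank).map fun i => cond (K.contains i) (T.cor s i) 0).sum

/-- A word in the orbits as a word in the fundamental reflections. -/
def flatW (words : List (List ℕ)) (R : List ℕ) : List ℕ := R.flatMap fun J => words.getD J []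

/-- The weight attached to a word. -/
def wtW (T : Tab D) (words : List (List ℕ)) (K : List ℕ) (R : List ℕ) : List ℤ :=
  (List.range D.rank).map fun l => T.corK K (T.wordT (flatW words R).reverse (D.simple l))

/-- The number of positive roots made negative. -/
def flipW (T : Tab D) (words : List (List ℕ)) (R : List ℕ) : ℕ :=
  (List.range D.nroots).countP fun s =>
    Nat.ble D.nroots (Nat.mul 2 s) && Nat.blt (Nat.mul 2 (T.wordT (flatW words R) s)) D.nroots

/-- One level of the factorisation of the fixed Weyl group. -/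
def chkLevelT (T : Tab D) (orbs words : List (List ℕ)) (d : ℕ) (S : List ℕ) (K : ℕ)
    (R : List (List ℕ)) (exps : List ℕ) : Bool :=
  S.contains K && R.all (fun t => t.all fun J => S.contains J) &&
    decide (R.map (T.wtW words (orbs.getD K []))).Nodup &&
    (R.map (T.wtW words (orbs.getD K []))).contains (T.wtW words (orbs.getD K []) []) &&
    (R.all fun t => S.all fun J =>
      (R.map (T.wtW words (orbs.getD K []))).contains (T.wtW words (orbs.getD K []) (J :: t))) &&
    (R.all fun t => S.all fun J => Nat.beq J K || (orbs.getD J []).all fun i =>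
      Nat.ble D.nroots (Nat.mul 2 (T.wordT (flatW words t) (D.simple i)))) &&
    decide (R.map (T.flipW words) = exps.map fun e => d * e)

/-- All levels. -/
def chkChainT (T : Tab D) (orbs words : List (List ℕ)) (d : ℕ) :
    List ℕ → List (ℕ × List (List ℕ) × List ℕ) → Bool
  | S, [] => S.isEmpty
  | S, l :: ls => S.all (fun J => Nat.blt J orbs.length) &&
      T.chkLevelT orbs words d S l.1 l.2.1 l.2.2 &&
      chkChainT T orbs words d (S.filter fun J => !(Nat.beq J l.1)) ls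

namespace Good.Twisted

variable {T : Tab D} {G : T.Good} {F : Type*} [Field F] {Φ : G.Graph F} (Z : Twisted Φ)
include Z

/-- The numerical data of a certificate agree with the twisted group. -/
structure HasData (orbs words : List (List ℕ)) : Prop where
  length_eq : orbs.length = Z.nJ
  orb_eq : ∀ (J : Fin Z.nJ) (i : Fin D.rank), i ∈ Z.orb J ↔ i.val ∈ orbs.getD J []
  word_eq : ∀ J : Fin Z.nJ, (Z.word J).map Fin.val = words.getD J []
  word_mem : ∀ (J : Fin Z.nJ), ∀ i ∈ Z.word J, i ∈ Z.orb J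

open scoped Classical in
/-- The fixed Weyl group of a set of orbits. -/
noncomputable def WS (S : List ℕ) : Finset (Equiv.Perm (Fin D.nroots)) :=
  Finset.univ.filter fun σ => ∃ L : List (Fin Z.nJ), (∀ J ∈ L, J.val ∈ S) ∧ Z.pwT L = σ

theorem mem_WS {S : List ℕ} {σ : Equiv.Perm (Fin D.nroots)} :
    σ ∈ Z.WS S ↔ ∃ L : List (Fin Z.nJ), (∀ J ∈ L, J.val ∈ S) ∧ Z.pwT L = σ := by
  simp [WS]

theorem pwT_rev (L : List (Fin Z.nJ)) :
    G.full.pw (L.flatMap Z.word).reverse = (Z.pwT L)⁻¹ := by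
  rw [pwT]
  generalize L.flatMap Z.word = M
  induction M with
  | nil => simp [Full.pw]
  | cons i M ih =>
    rw [List.reverse_cons, G.pw_append, G.pw_singleton, ih, G.pw_cons, _root_.mul_inv_rev,
      inv_eq_of_mul_eq_one_right (G.refl_mul_self i)]

theorem flatW_eq {orbs words : List (List ℕ)} (hd : Z.HasData orbs words) (L : List (Fin Z.nJ)) :
    flatW words (L.map Fin.val) = (L.flatMap Z.word).map Fin.val := by
  induction L with
  | nil => rfl
  | cons J L ih =>
    rw [List.flatMap_cons, List.map_append, ← ih, hd.word_eq J]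
    rfl

/-- The sum of the `K`-coordinates, as a function on roots. -/
def cK (K : Fin Z.nJ) (s : Fin D.nroots) : ℤ :=
  ∑ i : Fin D.rank, if i ∈ Z.orb K then T.cor s.val i.val else 0

theorem cK_linear (K : Fin Z.nJ) (L : List (Fin D.rank)) (s : Fin D.nroots) :
    Z.cK K (G.full.pw L s) = ∑ l : Fin D.rank, T.cor s.val l.val *
      Z.cK K (G.full.pw L (G.full.simp' l)) := by
  simp only [cK, Finset.mul_sum]
  rw [Finset.sum_comm]
  refine Finset.sum_congr rfl fun i _ => ?_
  split_ifs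
  · rw [G.cor_linear (G.pw_mem_full L)]
  · simp

theorem corK_eq {orbs words : List (List ℕ)} (hd : Z.HasData orbs words) (K : Fin Z.nJ)
    (s : Fin D.nroots) : T.corK (orbs.getD K []) s.val = Z.cK K s := by
  rw [corK, list_sum_range, cK]
  refine Finset.sum_congr rfl fun i _ => ?_
  by_cases h : i ∈ Z.orb K
  · rw [if_pos h, show (orbs.getD K []).contains i.val = true from
      List.contains_iff_mem.mpr ((hd.orb_eq K i).mp h), cond_true]
  · rw [if_neg h, show (orbs.getD K []).contains i.val = false from by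
      rw [← Bool.not_eq_true, List.contains_iff_mem]; exact fun e => h ((hd.orb_eq K i).mpr e),
      cond_false]

theorem wtW_eq_iff {orbs words : List (List ℕ)} (hd : Z.HasData orbs words) (K : Fin Z.nJ)
    (L L' : List (Fin Z.nJ)) :
    T.wtW words (orbs.getD K []) (L.map Fin.val) = T.wtW words (orbs.getD K []) (L'.map Fin.val) ↔
      ∀ s, Z.cK K ((Z.pwT L)⁻¹ s) = Z.cK K ((Z.pwT L')⁻¹ s) := by
  have key : ∀ (M : List (Fin Z.nJ)) (l : Fin D.rank),
      T.corK (orbs.getD K []) (T.wordT (flatW words (M.map Fin.val)).reverse (D.simple l)) =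
        Z.cK K ((Z.pwT M)⁻¹ (G.full.simp' l)) := fun M l => by
    rw [← Z.pwT_rev, ← Z.corK_eq hd, G.pw_apply, Z.flatW_eq hd, List.map_reverse]
    rfl
  constructor
  · intro h s
    rw [← Z.pwT_rev, ← Z.pwT_rev, Z.cK_linear, Z.cK_linear K _ s]
    refine Finset.sum_congr rfl fun l _ => ?_
    congr 1
    have e := congrArg (fun v => v[l.val]?) h
    simp only [wtW, List.getElem?_map, List.getElem?_range l.isLt, Option.map_some,
      Option.some_inj, key] at e
    rw [Z.pwT_rev, Z.pwT_rev]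
    exact e
  · intro h
    refine List.map_congr_left fun l hl => ?_
    have h' := h (G.full.simp' ⟨l, List.mem_range.mp hl⟩)
    rwa [← key, ← key] at h'

theorem cor_w_out {orbs words : List (List ℕ)} (hd : Z.HasData orbs words) (J : Fin Z.nJ)
    (s : Fin D.nroots) {i : Fin D.rank} (hi : i ∉ Z.orb J) :
    T.cor (Z.w J s).val i.val = T.cor s.val i.val := by
  refine G.cor_out (J := (Z.orb J).map Fin.val) ?_ s ?_
  · refine list_prod_mem fun σ hσ => ?_
    obtain ⟨a, ha, rfl⟩ := List.mem_map.mp hσ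
    exact G.refl_mem (List.mem_map.mpr ⟨a, hd.word_mem J a ha, rfl⟩)
  · intro h
    obtain ⟨a, ha, e⟩ := List.mem_map.mp h
    exact hi (Fin.ext e ▸ ha)

theorem cK_w {orbs words : List (List ℕ)} (hd : Z.HasData orbs words) {J K : Fin Z.nJ}
    (hJK : J ≠ K) (s : Fin D.nroots) : Z.cK K (Z.w J s) = Z.cK K s := by
  refine Finset.sum_congr rfl fun i _ => ?_
  split_ifs with h
  · exact Z.cor_w_out hd J s fun h' => hJK (Z.orb_disj J K i h' h)
  · rfl

/-- Roots supported in the orbits of `S`. -/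
def supp (S : List ℕ) (s : Fin D.nroots) : Prop :=
  ∀ i : Fin D.rank, (∀ J : Fin Z.nJ, J.val ∈ S → i ∉ Z.orb J) → T.cor s.val i.val = 0

theorem cor_out_S {orbs words : List (List ℕ)} (hd : Z.HasData orbs words) {S : List ℕ}
    {L : List (Fin Z.nJ)} (hL : ∀ J ∈ L, J.val ∈ S) (s : Fin D.nroots) {i : Fin D.rank}
    (hi : ∀ J : Fin Z.nJ, J.val ∈ S → i ∉ Z.orb J) :
    T.cor (Z.pwT L s).val i.val = T.cor s.val i.val := by
  induction L with
  | nil => rw [Z.pwT_nil]; rfl
  | cons J L ih =>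
    rw [Z.pwT_cons, Equiv.Perm.mul_apply,
      Z.cor_w_out hd J _ (hi J (hL J (List.mem_cons_self ..))),
      ih fun J' hJ' => hL J' (List.mem_cons_of_mem _ hJ')]

theorem supp_of_flip {orbs words : List (List ℕ)} (hd : Z.HasData orbs words) {S : List ℕ}
    {L : List (Fin Z.nJ)} (hL : ∀ J ∈ L, J.val ∈ S) {s : Fin D.nroots}
    (hs : s ∈ invSet (Z.pwT L)) : Z.supp S s := by
  intro i hi
  obtain ⟨h1, h2⟩ := mem_inv.mp hs
  refine le_antisymm ?_ ((G.pos_iff_cor s.isLt).mp h1 i)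
  by_contra hn
  exact h2 (G.pos_of_cor_pos (Fin.isLt _) i.isLt (by rw [Z.cor_out_S hd hL s hi]; omega))

theorem exists_flip_orb {orbs words : List (List ℕ)} (hd : Z.HasData orbs words) {S : List ℕ}
    {L : List (Fin Z.nJ)} (hL : ∀ J ∈ L, J.val ∈ S) {s : Fin D.nroots}
    (hs : s ∈ invSet (Z.pwT L)) :
    ∃ J : Fin Z.nJ, J.val ∈ S ∧ ∀ i ∈ Z.orb J, ¬ IsPos D (Z.pwT L (G.full.simp' i)).val := by
  obtain ⟨l, hl, hneg⟩ := G.exists_flip_simple (G.pw_mem_full _) hs
  obtain ⟨J, hJ⟩ := Z.cover l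
  refine ⟨J, ?_, (Z.same_sign (Z.pwT_comm L) J).resolve_left fun h => hneg (h l hJ)⟩
  by_contra hJS
  exact hl (Z.supp_of_flip hd hL hs l fun J' hJ' hl' => hJS (Z.orb_disj J J' l hJ hl' ▸ hJ'))

/-- An element fixing the weight of `K` needs no letter `K`. -/
theorem stab {orbs words : List (List ℕ)} (hd : Z.HasData orbs words) {S : List ℕ} (K : Fin Z.nJ) :
    ∀ L : List (Fin Z.nJ), (∀ J ∈ L, J.val ∈ S) →
      (∀ s, Z.cK K (Z.pwT L s) = Z.cK K s) →
      Z.pwT L ∈ Z.WS (S.filter fun J => !(Nat.beq J K.val)) := by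
  intro L
  induction hn : (invSet (Z.pwT L)).card using Nat.strong_induction_on generalizing L with
  | _ n ih =>
    subst hn
    intro hL hfix
    rcases (invSet (Z.pwT L)).eq_empty_or_nonempty with hz | ⟨s, hs⟩
    · refine Z.mem_WS.mpr ⟨[], by simp, ?_⟩
      rw [Z.pwT_nil]
      refine (G.eq_one_of_pw_pos fun s hs => ?_).symm
      by_contra hn'
      have h0 : s ∈ invSet (Z.pwT L) := mem_inv.mpr ⟨hs, hn'⟩
      rw [hz] at h0
      exact Finset.notMem_empty _ h0
    obtain ⟨J, hJS, hneg⟩ := Z.exists_flip_orb hd hL hs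
    have hJK : J ≠ K := by
      rintro rfl
      obtain ⟨i, hi⟩ := List.exists_mem_of_ne_nil _ (Z.orb_ne J)
      have h1 : Z.cK J (G.full.simp' i) = 1 := by
        rw [cK, Finset.sum_eq_single i (fun b _ hb => by
          rw [G.cor_simple, if_neg hb]; simp) (fun h => absurd (Finset.mem_univ i) h),
          if_pos hi, G.cor_simple, if_pos rfl]
      have h2 : Z.cK J (Z.pwT L (G.full.simp' i)) ≤ 0 := by
        refine Finset.sum_nonpos fun l _ => ?_
        split_ifs
        · exact (G.cor_sign (Fin.isLt _) l.isLt).2 fun e => hneg i hi ⟨Fin.isLt _, e⟩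
        · exact le_rfl
      rw [hfix, h1] at h2
      omega
    have e₁ : Z.pwT (L ++ [J]) = Z.pwT L * Z.w J := by rw [Z.pwT_append, Z.pwT_single]
    have hpos : ∀ i ∈ Z.orb J, IsPos D (Z.pwT (L ++ [J]) (G.full.simp' i)).val := fun i hi => by
      rw [e₁, Equiv.Perm.mul_apply]
      by_contra hn'
      have hf := Z.neg_of_all_neg hneg (Z.neg_w_mem_flip (Z.simp_mem_flip hi))
      rw [G.negF_pw, G.pos_negF, not_not] at hf
      exact hn' hf
    have e₂ : Z.pwT (L ++ [J]) * Z.w J = Z.pwT L := by rw [e₁, mul_assoc, w, Z.invol, mul_one]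
    have hcard := Z.invSet_mul (L := (L ++ [J]).flatMap Z.word) hpos
    change (invSet (Z.pwT (L ++ [J]) * Z.w J)).card = _ at hcard
    rw [e₂] at hcard
    have := (Z.invSet_w_nonempty J).card_pos
    have hlt : (invSet (Z.pwT (L ++ [J]))).card < (invSet (Z.pwT L)).card := by
      change (invSet (Z.pwT L)).card = (invSet (Z.pwT (L ++ [J]))).card + _ at hcard
      omega
    obtain ⟨L', hL', e'⟩ := Z.mem_WS.mp (ih _ hlt (L ++ [J]) rfl
      (fun J' hJ' => by
        rcases List.mem_append.mp hJ' with h | h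
        · exact hL J' h
        · rw [List.mem_singleton] at h; exact h ▸ hJS)
      (fun s => by rw [e₁, Equiv.Perm.mul_apply, hfix, Z.cK_w hd hJK]))
    refine Z.mem_WS.mpr ⟨L' ++ [J], fun J' hJ' => ?_, ?_⟩
    · rcases List.mem_append.mp hJ' with h | h
      · exact hL' J' h
      · rw [List.mem_singleton] at h
        subst h
        refine List.mem_filter.mpr ⟨hJS, ?_⟩
        simp [Tab.beq_false (Fin.val_ne_of_ne hJK)]
    · rw [Z.pwT_append, Z.pwT_single, e', e₂]

/-- The generating function of the lengths, in units of `d`. -/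
noncomputable def polyT (S : List ℕ) (d q : ℕ) : ℕ :=
  ∑ σ ∈ Z.WS S, q ^ ((invSet σ).card / d)

theorem poly_level {orbs words : List (List ℕ)} (hd : Z.HasData orbs words) {d : ℕ} (hd0 : 0 < d)
    {S : List ℕ} (hS : ∀ J ∈ S, J < Z.nJ) {K : ℕ} {R : List (List ℕ)} {exps : List ℕ}
    (hchk : T.chkLevelT orbs words d S K R exps = true) (q : ℕ) :
    Z.polyT S d q =
      (exps.map fun e => q ^ e).sum * Z.polyT (S.filter fun J => !(Nat.beq J K)) d q := by
  classical
  simp only [chkLevelT, Bool.and_eq_true, List.all_eq_true, List.contains_iff_mem,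
    decide_eq_true_eq, Bool.or_eq_true, Nat.beq_eq, Nat.ble_eq] at hchk
  obtain ⟨⟨⟨⟨⟨⟨hKS, hR⟩, hnd⟩, hone⟩, hclosed⟩, hpos⟩, hexp⟩ := hchk
  obtain ⟨Kf, rfl⟩ : ∃ Kf : Fin Z.nJ, Kf.val = K := ⟨⟨K, hS K hKS⟩, rfl⟩
  set S' := S.filter fun J => !(Nat.beq J Kf.val) with hS'
  have hS'S : ∀ J ∈ S', J ∈ S := fun J hJ => (List.mem_filter.mp hJ).1
  -- representatives
  let toL : List ℕ → List (Fin Z.nJ) := toFins Z.nJ
  have hmap : ∀ t ∈ R, (toL t).map Fin.val = t := fun t ht =>
    map_toFins fun J hJ => hS J (hR t ht J hJ)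
  have hletters : ∀ t ∈ R, ∀ J ∈ toL t, J.val ∈ S := fun t ht J hJ =>
    hR t ht J.val ((mem_toFins J).mp hJ)
  let τ : List ℕ → Equiv.Perm (Fin D.nroots) := fun t => Z.pwT (toL t)
  have hwt : ∀ t ∈ R, ∀ L : List (Fin Z.nJ),
      T.wtW words (orbs.getD Kf []) t = T.wtW words (orbs.getD Kf []) (L.map Fin.val) ↔
        ∀ s, Z.cK Kf ((τ t)⁻¹ s) = Z.cK Kf ((Z.pwT L)⁻¹ s) := fun t ht L => by
    rw [← Z.wtW_eq_iff hd, hmap t ht]
  -- minimality
  have hτpos : ∀ t ∈ R, ∀ s : Fin D.nroots, IsPos D s.val → Z.supp S' s →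
      IsPos D (τ t s).val := by
    intro t ht s hs hsupp
    refine (G.pos_iff_cor (Fin.isLt _)).mpr fun j => ?_
    show 0 ≤ T.cor (G.full.pw _ s).val j.val
    rw [G.cor_linear (G.pw_mem_full _)]
    refine Finset.sum_nonneg fun l _ => ?_
    by_cases hl : ∃ J : Fin Z.nJ, J.val ∈ S' ∧ l ∈ Z.orb J
    · obtain ⟨J, hJ, hlJ⟩ := hl
      refine mul_nonneg ((G.pos_iff_cor s.isLt).mp hs l) ((G.pos_iff_cor (Fin.isLt _)).mp ?_ j)
      have h2 := List.mem_filter.mp hJ
      rcases hpos t ht J.val h2.1 with h | h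
      · rw [h] at h2; simp at h2
      · refine ⟨Fin.isLt _, ?_⟩
        have := h l.val ((hd.orb_eq J l).mp hlJ)
        rw [G.pw_apply, ← Z.flatW_eq hd, hmap t ht]
        exact this
    · rw [hsupp l fun J hJ hlJ => hl ⟨J, hJ, hlJ⟩, zero_mul]
  have hfix : ∀ L : List (Fin Z.nJ), (∀ J ∈ L, J.val ∈ S') →
      ∀ s, Z.cK Kf (Z.pwT L s) = Z.cK Kf s := by
    intro L
    induction L with
    | nil => intro _ s; rw [Z.pwT_nil]; rfl
    | cons J L ih =>
      intro hL s
      rw [Z.pwT_cons, Equiv.Perm.mul_apply, Z.cK_w hd ?_,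
        ih fun J' hJ' => hL J' (List.mem_cons_of_mem _ hJ')]
      intro e
      have := (List.mem_filter.mp (hL J (List.mem_cons_self ..))).2
      rw [e] at this
      simp at this
  -- additivity
  have hadd : ∀ t ∈ R, ∀ σ ∈ Z.WS S',
      (invSet (τ t * σ)).card = (invSet (τ t)).card + (invSet σ).card := by
    intro t ht σ hσ
    obtain ⟨L, hL, rfl⟩ := Z.mem_WS.mp hσ
    set σ := Z.pwT L
    have hneg : ∀ s, σ (negF s) = negF (σ s) := fun s => G.negF_pw _ s
    have hneg' : ∀ s, τ t (negF s) = negF (τ t s) := fun s => G.negF_pw _ s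
    have h1 : ∀ s ∈ invSet σ, IsPos D (τ t (negF (σ s))).val := fun s hs => by
      obtain ⟨hs1, hs2⟩ := mem_inv.mp hs
      refine hτpos t ht _ (G.pos_negF.mpr hs2) fun i hi => ?_
      show T.cor (negR D (σ s).val) i.val = 0
      rw [((G.full.cert.root_spec (Fin.isLt _)).2.2.2.1 i i.isLt).2, Z.cor_out_S hd hL s hi,
        Z.supp_of_flip hd hL hs i hi, neg_zero]
    have h2 : ∀ r ∈ invSet (τ t), IsPos D (σ.symm r).val := fun r hr => by
      obtain ⟨hr1, hr2⟩ := mem_inv.mp hr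
      by_contra hn
      have hmem : negF (σ.symm r) ∈ invSet σ := mem_inv.mpr ⟨G.pos_negF.mpr hn, by
        rw [hneg, G.pos_negF, Equiv.apply_symm_apply, not_not]; exact hr1⟩
      have := h1 _ hmem
      rw [hneg, negF_negF, Equiv.apply_symm_apply] at this
      exact hr2 this
    have e : invSet (τ t * σ) = invSet σ ∪ (invSet (τ t)).map σ.symm.toEmbedding := by
      ext s
      rw [Finset.mem_union, Finset.mem_map_equiv, Equiv.symm_symm, mem_inv, mem_inv,
        Equiv.Perm.mul_apply]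
      constructor
      · rintro ⟨hs1, hs2⟩
        by_cases h : IsPos D (σ s).val
        · exact Or.inr (mem_inv.mpr ⟨h, hs2⟩)
        · exact Or.inl ⟨hs1, h⟩
      · rintro (⟨hs1, hs2⟩ | h)
        · refine ⟨hs1, ?_⟩
          have := h1 s (mem_inv.mpr ⟨hs1, hs2⟩)
          rwa [hneg', G.pos_negF] at this
        · have := h2 _ h
          rw [Equiv.symm_apply_apply] at this
          exact ⟨this, (mem_inv.mp h).2⟩
    rw [e, Finset.card_union_of_disjoint, Finset.card_map, add_comm]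
    rw [Finset.disjoint_left]
    intro s hs hs'
    rw [Finset.mem_map_equiv, Equiv.symm_symm] at hs'
    exact (mem_inv.mp hs).2 (mem_inv.mp hs').1
  -- surjectivity
  have hcomplete : ∀ L : List (Fin Z.nJ), (∀ J ∈ L, J.val ∈ S) →
      ∃ t ∈ R, ∀ s, Z.cK Kf ((τ t)⁻¹ s) = Z.cK Kf ((Z.pwT L)⁻¹ s) := by
    intro L
    induction L with
    | nil =>
      intro _
      obtain ⟨t, ht, e⟩ := List.mem_map.mp hone
      exact ⟨t, ht, (hwt t ht []).mp e⟩
    | cons J L ih =>
      intro hL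
      obtain ⟨t, ht, et⟩ := ih fun J' hJ' => hL J' (List.mem_cons_of_mem _ hJ')
      obtain ⟨t', ht', e⟩ := List.mem_map.mp (hclosed t ht J.val (hL J (List.mem_cons_self ..)))
      refine ⟨t', ht', fun s => ?_⟩
      have e' : T.wtW words (orbs.getD Kf []) t' =
          T.wtW words (orbs.getD Kf []) ((J :: toL t).map Fin.val) := by
        rw [List.map_cons, hmap t ht]; exact e
      rw [(hwt t' ht' _).mp e' s, Z.pwT_cons, Z.pwT_cons, _root_.mul_inv_rev, _root_.mul_inv_rev,
        Equiv.Perm.mul_apply, Equiv.Perm.mul_apply]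
      exact et _
  have hWS : Z.WS S = (R.toFinset ×ˢ Z.WS S').image fun p => τ p.1 * p.2 := by
    ext σ
    simp only [Finset.mem_image, Finset.mem_product, List.mem_toFinset, Prod.exists]
    constructor
    · intro hσ
      obtain ⟨L, hL, rfl⟩ := Z.mem_WS.mp hσ
      obtain ⟨t, ht, et⟩ := hcomplete L hL
      have e : Z.pwT ((toL t).reverse ++ L) = (τ t)⁻¹ * Z.pwT L := by
        rw [Z.pwT_append]
        congr 1
        refine eq_inv_of_mul_eq_one_left ?_
        show Z.pwT (toL t).reverse * Z.pwT (toL t) = 1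
        generalize toL t = M
        induction M with
        | nil => simp [Z.pwT_nil]
        | cons a M ih =>
          rw [List.reverse_cons, Z.pwT_append, Z.pwT_single, Z.pwT_cons, mul_assoc,
            ← mul_assoc (Z.w a), w, Z.invol, one_mul, ih]
      refine ⟨t, (τ t)⁻¹ * Z.pwT L, ⟨ht, ?_⟩, mul_inv_cancel_left _ _⟩
      rw [← e]
      refine Z.stab hd Kf _ (fun J hJ => ?_) fun s => ?_
      · rcases List.mem_append.mp hJ with h | h
        · exact hletters t ht J (List.mem_reverse.mp h)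
        · exact hL J h
      · rw [e, Equiv.Perm.mul_apply, et, Equiv.Perm.inv_def, Equiv.symm_apply_apply]
    · rintro ⟨t, σ', ⟨ht, hσ'⟩, rfl⟩
      obtain ⟨L, hL, rfl⟩ := Z.mem_WS.mp hσ'
      exact Z.mem_WS.mpr ⟨toL t ++ L, fun J hJ => (List.mem_append.mp hJ).elim
        (hletters t ht J) fun h => hS'S _ (hL J h), Z.pwT_append _ _⟩
  have hinj : Set.InjOn (fun p : List ℕ × Equiv.Perm (Fin D.nroots) => τ p.1 * p.2)
      ↑(R.toFinset ×ˢ Z.WS S') := by
    rintro ⟨t, σ⟩ hp ⟨t', σ'⟩ hp' e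
    simp only [Finset.coe_product, Set.mem_prod, Finset.mem_coe, List.mem_toFinset] at hp hp'
    obtain ⟨L, hL, rfl⟩ := Z.mem_WS.mp hp.2
    obtain ⟨L', hL', rfl⟩ := Z.mem_WS.mp hp'.2
    have e' : τ t * Z.pwT L = τ t' * Z.pwT L' := e
    have hinvfix : ∀ M : List (Fin Z.nJ), (∀ J ∈ M, J.val ∈ S') → ∀ s,
        Z.cK Kf ((Z.pwT M)⁻¹ s) = Z.cK Kf s := fun M hM s => by
      conv_rhs => rw [← Equiv.apply_symm_apply (Z.pwT M) s]
      rw [hfix M hM, Equiv.Perm.inv_def]
    have hw : T.wtW words (orbs.getD Kf []) t = T.wtW words (orbs.getD Kf []) t' := by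
      rw [← hmap t' hp'.1, hwt t hp.1]
      intro s
      show _ = Z.cK Kf ((τ t')⁻¹ s)
      calc Z.cK Kf ((τ t)⁻¹ s) = Z.cK Kf ((τ t * Z.pwT L)⁻¹ s) := by
            rw [_root_.mul_inv_rev, Equiv.Perm.mul_apply, hinvfix L hL]
        _ = Z.cK Kf ((τ t')⁻¹ s) := by
            rw [e', _root_.mul_inv_rev, Equiv.Perm.mul_apply, hinvfix L' hL']
    have ht : t = t' := List.inj_on_of_nodup_map hnd hp.1 hp'.1 hw
    subst ht
    exact Prod.ext rfl (mul_left_cancel e')
  have hflip : ∀ t ∈ R, (invSet (τ t)).card = T.flipW words t := fun t ht => by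
    rw [flipW, List.countP_eq_length_filter, ← List.toFinset_card_of_nodup
      (List.Nodup.filter _ List.nodup_range), ← Finset.card_map Fin.valEmbedding]
    congr 1
    ext s
    simp only [Finset.mem_map, mem_inv, Fin.valEmbedding_apply, List.mem_toFinset, List.mem_filter,
      List.mem_range, Bool.and_eq_true, Nat.ble_eq, Nat.blt_eq]
    have hv : ∀ a : Fin D.nroots, (τ t a).val = T.wordT (flatW words t) a.val := fun a => by
      show (G.full.pw _ a).val = _
      rw [G.pw_apply, ← Z.flatW_eq hd, hmap t ht]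
    constructor
    · rintro ⟨a, ⟨h1, h2⟩, rfl⟩
      exact ⟨a.isLt, h1.2, by
        rw [← hv]; exact Nat.lt_of_not_le fun h => h2 ⟨Fin.isLt _, h⟩⟩
    · rintro ⟨hs, h1, h2⟩
      exact ⟨⟨s, hs⟩, ⟨⟨hs, h1⟩, fun h => by
        have := h.2; rw [hv] at this; exact absurd this (Nat.not_le.mpr h2)⟩, rfl⟩
  have hdvd : ∀ t ∈ R, ∃ e, T.flipW words t = d * e := fun t ht => by
    have hm : T.flipW words t ∈ exps.map fun e => d * e :=
      hexp ▸ List.mem_map.mpr ⟨t, ht, rfl⟩
    obtain ⟨e, -, he⟩ := List.mem_map.mp hm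
    exact ⟨e, he.symm⟩
  show ∑ σ ∈ Z.WS S, q ^ ((invSet σ).card / d) = _
  rw [hWS, Finset.sum_image hinj, Finset.sum_product]
  have hexps' : exps = R.map fun t => T.flipW words t / d := by
    have := congrArg (List.map fun n => n / d) hexp
    rw [List.map_map, List.map_map] at this
    rw [show ((fun n => n / d) ∘ fun e => d * e) = id from
      funext fun e => Nat.mul_div_cancel_left e hd0, List.map_id] at this
    exact this.symm
  rw [hexps', List.map_map, polyT, ← List.sum_toFinset _ (List.Nodup.of_map _ hnd),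
    Finset.sum_mul]
  refine Finset.sum_congr rfl fun t ht => ?_
  rw [Finset.mul_sum]
  refine Finset.sum_congr rfl fun σ hσ => ?_
  have ht' := List.mem_toFinset.mp ht
  obtain ⟨e, he⟩ := hdvd t ht'
  rw [hadd t ht' σ hσ, hflip t ht', Function.comp_apply, Nat.add_div_of_dvd_right ⟨e, he⟩, pow_add]

theorem poly_chain {orbs words : List (List ℕ)} (hd : Z.HasData orbs words) {d : ℕ} (hd0 : 0 < d) :
    ∀ (ls : List (ℕ × List (List ℕ) × List ℕ)) (S : List ℕ),
      T.chkChainT orbs words d S ls = true →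
      ∀ q : ℕ, Z.polyT S d q = (ls.map fun l => (l.2.2.map fun e => q ^ e).sum).prod := by
  intro ls
  induction ls with
  | nil =>
    intro S h q
    simp only [chkChainT, List.isEmpty_iff] at h
    subst h
    have : Z.WS [] = {1} := by
      ext σ
      rw [Z.mem_WS, Finset.mem_singleton]
      constructor
      · rintro ⟨L, hL, rfl⟩
        rcases L with _ | ⟨J, L⟩
        · exact Z.pwT_nil
        · exact absurd (hL J (List.mem_cons_self ..)) List.not_mem_nil
      · rintro rfl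
        exact ⟨[], by simp, Z.pwT_nil⟩
    rw [polyT, this, Finset.sum_singleton, List.map_nil, List.prod_nil]
    have h0 : invSet (1 : Equiv.Perm (Fin D.nroots)) = ∅ := by
      ext s; simp [mem_inv]
    rw [h0, Finset.card_empty, Nat.zero_div, pow_zero]
  | cons l ls ih =>
    intro S h q
    simp only [chkChainT, Bool.and_eq_true, List.all_eq_true, Nat.blt_eq] at h
    rw [Z.poly_level hd hd0 (fun J hJ => hd.length_eq ▸ h.1.1 J hJ) h.1.2, ih _ h.2,
      List.map_cons, List.prod_cons]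

/-! ### Cardinalities -/

theorem card_UT_step {L : List (Fin Z.nJ)} {J : Fin Z.nJ}
    (h : ∀ i ∈ Z.orb J, IsPos D (Z.pwT L (G.full.simp' i)).val) :
    Nat.card (Z.UT (L ++ [J])) = Nat.card (Z.UT L) * Nat.card (Z.XJ J) := by
  obtain ⟨hsub, hconj⟩ := Z.UT_step h
  have hmem : ∀ (a : Z.UT L) (b : Z.XJ J),
      (Z.n J)⁻¹ * (a : GL D.Idx F) * Z.n J * (b : GL D.Idx F) ∈ Z.UT (L ++ [J]) ∧
        (Z.n J)⁻¹ * (a : GL D.Idx F) * Z.n J ∈ G.US F (keepSet (Z.w J)) := by
    intro a b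
    obtain ⟨ha1, ha2⟩ := Subgroup.mem_inf.mp a.2
    obtain ⟨hb1, hb2⟩ := Subgroup.mem_inf.mp b.2
    have hact := G.rootAct_inv (Z.n_mono J) (Z.n_act J)
    have hinv : (G.full.pw (Z.word J))⁻¹ = G.full.pw (Z.word J) :=
      inv_eq_of_mul_eq_one_right (Z.invol J)
    rw [hinv] at hact
    have hS : (Z.n J)⁻¹ * (a : GL D.Idx F) * Z.n J ∈
        G.US F (flipSet (Z.pwT (L ++ [J])) ∩ keepSet (Z.w J)) := by
      have := G.conj_x_act hact (S' := flipSet (Z.pwT (L ++ [J])) ∩ keepSet (Z.w J))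
        (fun s hs => by
          obtain ⟨hlt, h1, h2⟩ := hs
          have hw : (G.full.pw (Z.word J) (⟨s, hlt⟩ : Fin D.nroots)) = Z.w J ⟨s, hlt⟩ := rfl
          have hp : IsPos D (Z.w J ⟨s, hlt⟩).val := by
            by_contra hn
            exact h2 (Z.pos_of_all_pos h (s := ⟨s, hlt⟩) ⟨hlt, h1, hn⟩)
          refine ⟨hlt, ⟨Fin.isLt _, by rw [hw]; exact hp, ?_⟩, Fin.isLt _,
            by rw [hw]; exact hp, ?_⟩
          · rw [Z.pwT_append, Z.pwT_single, Equiv.Perm.mul_apply, Fin.eta, hw, Z.w_sq]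
            exact h2
          · rw [Fin.eta, hw, Z.w_sq]
            exact h1) ha2
      rwa [inv_inv] at this
    refine ⟨Subgroup.mem_inf.mpr ⟨?_, ?_⟩, G.US_mono (fun s hs => hs.2) hS⟩
    · exact mul_mem (mul_mem (mul_mem (inv_mem (Z.n_fix J)) ha1) (Z.n_fix J)) hb1
    · exact mul_mem (G.US_mono (fun s hs => hs.1) hS) (G.US_mono (fun s hs => hsub hs) hb2)
  rw [← Nat.card_prod]
  refine (Nat.card_congr (Equiv.ofBijective
    (fun p : Z.UT L × Z.XJ J => (⟨_, (hmem p.1 p.2).1⟩ : Z.UT (L ++ [J]))) ⟨?_, ?_⟩)).symm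
  · rintro ⟨a, b⟩ ⟨a', b'⟩ e
    have e' := congrArg Subtype.val e
    obtain ⟨ea, eb⟩ := G.split_unique (Z.n_act J) (hmem a b).2 (hmem a' b').2
      (Subgroup.mem_inf.mp b.2).2 (Subgroup.mem_inf.mp b'.2).2 e'
    exact Prod.ext (Subtype.ext (mul_left_cancel (mul_right_cancel ea))) (Subtype.ext eb)
  · rintro ⟨u, hu⟩
    obtain ⟨hu1, hu2⟩ := Subgroup.mem_inf.mp hu
    obtain ⟨a, ha, b, hb, rfl⟩ := Z.split_fix J (G.closed_flip _) hu1 hu2 hsub
    exact ⟨(⟨_, hconj a ha⟩, ⟨b, hb⟩), Subtype.ext (by group)⟩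

theorem card_UT {d Q : ℕ} (hd0 : 0 < d) {kJ : Fin Z.nJ → ℕ}
    (hk : ∀ J, (invSet (Z.w J)).card = d * kJ J) (hX : ∀ J, Nat.card (Z.XJ J) = Q ^ kJ J)
    {L : List (Fin Z.nJ)} (hL : Z.Red L) :
    Nat.card (Z.UT L) = Q ^ ((invSet (Z.pwT L)).card / d) ∧ d ∣ (invSet (Z.pwT L)).card := by
  induction hL with
  | nil =>
    have h0 : invSet (Z.pwT []) = ∅ := by ext s; simp [Z.pwT_nil, mem_inv]
    have e : flipSet (Z.pwT []) = ∅ := by
      ext s
      rw [Z.pwT_nil]
      exact ⟨fun ⟨_, h1, h2⟩ => h2 h1, False.elim⟩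
    have hbot : Z.UT [] = ⊥ := by
      refine le_bot_iff.mp (inf_le_right.trans ?_)
      rw [e]
      exact (Subgroup.closure_le _).mpr fun _ ⟨r, hr, _⟩ => hr.elim
    rw [hbot, h0, Subgroup.card_bot]
    simp
  | step L J _ h ih =>
    have hc : (invSet (Z.pwT (L ++ [J]))).card = (invSet (Z.pwT L)).card + d * kJ J := by
      rw [Z.pwT_append, Z.pwT_single, ← hk J]
      exact Z.invSet_mul h
    refine ⟨?_, by rw [hc]; exact dvd_add ih.2 (dvd_mul_right _ _)⟩
    rw [Z.card_UT_step h, ih.1, hX, hc, Nat.add_div_of_dvd_right ih.2,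
      Nat.mul_div_cancel_left _ hd0, pow_add]

theorem card_U1 {d Q : ℕ} (hd0 : 0 < d) {kJ : Fin Z.nJ → ℕ}
    (hk : ∀ J, (invSet (Z.w J)).card = d * kJ J) (hX : ∀ J, Nat.card (Z.XJ J) = Q ^ kJ J)
    {N : ℕ} (hN : D.nroots = 2 * (d * N)) : Nat.card Z.U1 = Q ^ N := by
  classical
  obtain ⟨L, hL, hneg⟩ := Z.exists_longest_red
  rw [← Z.UT_longest hneg, (Z.card_UT hd0 hk hX hL).1]
  congr 1
  have e : (invSet (Z.pwT L)) = Finset.univ.filter fun s : Fin D.nroots => IsPos D s.val := by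
    ext s
    simp only [mem_inv, Finset.mem_filter, Finset.mem_univ, true_and]
    exact ⟨fun h => h.1, fun h => ⟨h, hneg s h⟩⟩
  have h2 : (Finset.univ.filter fun s : Fin D.nroots => IsPos D s.val).card * 2 = D.nroots := by
    have hcompl : (Finset.univ.filter fun s : Fin D.nroots => IsPos D s.val).card =
        (Finset.univ.filter fun s : Fin D.nroots => ¬ IsPos D s.val).card := by
      refine Finset.card_nbij' negF negF ?_ ?_ (fun s _ => negF_negF s) (fun s _ => negF_negF s) <;>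
        · intro s hs
          simp only [Finset.coe_filter, Finset.mem_univ, true_and, Set.mem_setOf_eq] at hs ⊢
          simp only [G.pos_negF, not_not]
          exact hs
    have hsum := Finset.card_filter_add_card_filter_not
      (s := (Finset.univ : Finset (Fin D.nroots))) (fun s => IsPos D s.val)
    rw [Finset.card_univ, Fintype.card_fin, ← hcompl] at hsum
    omega
  have h3 : (invSet (Z.pwT L)).card = d * N := by rw [e]; omega
  rw [h3, Nat.mul_div_cancel_left _ hd0]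

/-- The order of a twisted group. -/
theorem card_G1 [Finite F] {d Q : ℕ} (hd0 : 0 < d) {kJ : Fin Z.nJ → ℕ}
    (hk : ∀ J, (invSet (Z.w J)).card = d * kJ J) (hX : ∀ J, Nat.card (Z.XJ J) = Q ^ kJ J) :
    Nat.card Z.G1 = Nat.card Z.U1 * Nat.card Z.H0 * Z.polyT (List.range Z.nJ) d Q := by
  classical
  let W := Z.WS (List.range Z.nJ)
  have hred : ∀ σ : W, ∃ L, Z.Red L ∧ Z.pwT L = σ.1 := fun σ => by
    obtain ⟨L, -, hL⟩ := Z.mem_WS.mp σ.2
    obtain ⟨L', h1, h2⟩ := Z.exists_red_eq L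
    exact ⟨L', h1, h2.trans hL⟩
  choose L hLred hL using hred
  let f : (Σ σ : W, (Z.U1 × Z.H0) × Z.UT (L σ)) → Z.G1 := fun p =>
    ⟨p.2.1.1.1 * p.2.1.2.1 * Z.nT (L p.1) * p.2.2.1,
      mul_mem (mul_mem (mul_mem (Z.U1_le p.2.1.1.2) (Z.H0_le p.2.1.2.2)) (Z.nT_mem _))
        (Z.UT_le (hLred p.1) p.2.2.2)⟩
  have hinj : Function.Injective f := by
    rintro ⟨σ, ⟨u, h⟩, v⟩ ⟨σ', ⟨u', h'⟩, v'⟩ e
    have e' := congrArg Subtype.val e
    have hb : ∀ (u : Z.U1) (h : Z.H0), (u : GL D.Idx F) * h ∈ D.borelSubgroup F := fun u h =>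
      mul_mem (Subgroup.mem_sup_left (Subgroup.mem_inf.mp u.2).2)
        (Subgroup.mem_sup_right (Z.H0_diag h.2))
    have key := G.canonical_unique (hb u h) (hb u' h') (Z.nT_mono (L σ)) (Z.nT_mono (L σ'))
      (Z.nT_act (L σ)) (Z.nT_act (L σ')) (Subgroup.mem_inf.mp v.2).2 (Subgroup.mem_inf.mp v'.2).2 e'
    have hσ : σ = σ' := by
      have hd' := key.1
      rw [G.full.diagonal_eq_range] at hd'
      obtain ⟨c, hc⟩ := hd'
      have h1 := G.rootAct_mul (Z.nT_act (L σ)) (hc ▸ G.rootAct_hT c :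
        G.full.RootAct ((Z.nT (L σ))⁻¹ * Z.nT (L σ')) 1)
      rw [mul_inv_cancel_left, mul_one] at h1
      have := G.rootAct_unique (Z.nT_act (L σ')) h1
      rw [hL, hL] at this
      exact Subtype.ext this.symm
    subst hσ
    obtain ⟨eb, ev⟩ := key.2 rfl
    have hu : (u' : GL D.Idx F)⁻¹ * u ∈ D.posUnipotent F ⊓ D.diagonalSubgroup F := by
      refine Subgroup.mem_inf.mpr ⟨mul_mem (inv_mem (Subgroup.mem_inf.mp u'.2).2)
        (Subgroup.mem_inf.mp u.2).2, ?_⟩
      have : (u' : GL D.Idx F)⁻¹ * u = h' * (h : GL D.Idx F)⁻¹ := by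
        rw [eq_mul_inv_iff_mul_eq, mul_assoc, eb, inv_mul_cancel_left]
      rw [this]
      exact mul_mem (Z.H0_diag h'.2) (inv_mem (Z.H0_diag h.2))
    rw [G.pos_inf_diagonal, Subgroup.mem_bot, inv_mul_eq_one] at hu
    have huu : u = u' := Subtype.ext hu.symm
    subst huu
    have hhh : h = h' := Subtype.ext (mul_left_cancel eb)
    subst hhh
    have hvv : v = v' := Subtype.ext ev
    subst hvv
    rfl
  have hsurj : Function.Surjective f := by
    rintro ⟨g, hg⟩
    obtain ⟨u, hu, h, hh, L₀, -, v, hv, rfl⟩ := Z.canonical hg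
    let σ : W := ⟨Z.pwT L₀, Z.mem_WS.mpr ⟨L₀, fun J _ => List.mem_range.mpr J.isLt, rfl⟩⟩
    obtain ⟨k, hk', ek⟩ := Z.nT_congr (show Z.pwT L₀ = Z.pwT (L σ) from (hL σ).symm)
    have hv' : v ∈ Z.UT (L σ) := by
      obtain ⟨h1, h2⟩ := Subgroup.mem_inf.mp hv
      refine Subgroup.mem_inf.mpr ⟨h1, ?_⟩
      rwa [hL σ]
    exact ⟨⟨σ, (⟨u, hu⟩, ⟨h * k, mul_mem hh hk'⟩), ⟨v, hv'⟩⟩,
      Subtype.ext (by simp only [f]; rw [ek]; group)⟩
  rw [← Nat.card_eq_of_bijective f ⟨hinj, hsurj⟩, Nat.card_sigma, polyT, Finset.mul_sum,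
    ← Finset.sum_coe_sort W]
  refine Finset.sum_congr rfl fun σ _ => ?_
  rw [Nat.card_prod, Nat.card_prod, (Z.card_UT hd0 hk hX (hLred σ)).1, hL σ]

end Good.Twisted

end Tab

end CfsgLib.Chev
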