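import Cfsg.Agent.Chev.TwistedBN
import Cfsg.Agent.Chev.TwistedCard
import Cfsg.Agent.Chev.RankOne
import Cfsg.Agent.Chev.SteinbergExt

/-!
Twisted groups whose orbits of fundamental roots consist of pairwise orthogonal roots.
-/

set_option autoImplicit false


namespace CfsgLib.Chev

open Cfsg.Lie Matrix
open scoped MatrixGroups

section Lists

variable {ι M : Type*}

theorem prod_map_mul' [Monoid M] {l : List ι} (hl : l.Nodup) {f g : ι → M}
    (h : ∀ i ∈ l, ∀ j ∈ l, i ≠ j → Commute (g i) (f j)) :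
    (l.map fun i => f i * g i).prod = (l.map f).prod * (l.map g).prod := by
  induction l with
  | nil => simp
  | cons a l ih =>
    obtain ⟨ha, hl'⟩ := List.nodup_cons.mp hl
    simp only [List.map_cons, List.prod_cons]
    rw [ih hl' fun i hi j hj => h i (List.mem_cons_of_mem _ hi) j (List.mem_cons_of_mem _ hj)]
    have hc : Commute (g a) (l.map f).prod := Commute.list_prod_right _ _ fun x hx => by
      obtain ⟨j, hj, rfl⟩ := List.mem_map.mp hx
      exact h a (List.mem_cons_self ..) j (List.mem_cons_of_mem _ hj) fun e => ha (e ▸ hj)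
    calc f a * g a * ((l.map f).prod * (l.map g).prod)
        = f a * (g a * (l.map f).prod) * (l.map g).prod := by simp only [mul_assoc]
      _ = f a * ((l.map f).prod * g a) * (l.map g).prod := by rw [hc.eq]
      _ = f a * (l.map f).prod * (g a * (l.map g).prod) := by simp only [mul_assoc]

theorem conj_list_prod' [Group M] (a : M) (l : List M) :
    a * l.prod * a⁻¹ = (l.map fun x => a * x * a⁻¹).prod := by
  induction l with
  | nil => simp
  | cons x l ih =>
    rw [List.map_cons, List.prod_cons, List.prod_cons, ← ih]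
    group

end Lists

namespace Tab

variable {D : ChevalleyDatum}

/-- The commutator of two root elements is trivial. -/
def chkComm0 (T : Tab D) (a b : ℕ) : Bool :=
  !(Nat.beq b a) && !(Nat.beq b (negR D a)) && (T.commT a b).isEmpty

/-- The roots of an orbit are orthogonal and they are the roots made negative. -/
def chkA1Orb (T : Tab D) (rho orb : List ℕ) : Bool :=
  decide orb.Nodup && orb.all (fun i => orb.contains (rho.getD i 0)) &&
    (orb.all fun i => orb.all fun j => Nat.beq i j ||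
      [D.simple i, negR D (D.simple i)].all fun a =>
        [D.simple j, negR D (D.simple j)].all fun b => T.chkComm0 a b) &&
    allBelow (fun s => Nat.blt (Nat.mul 2 s) D.nroots ||
      (Nat.blt (Nat.mul 2 (T.wordT orb s)) D.nroots ==
        orb.any fun i => Nat.beq s (D.simple i))) D.nroots

/-- All orbits consist of orthogonal roots. -/
def chkA1 (T : Tab D) (rho : List ℕ) (orbs : List (List ℕ)) : Bool :=
  orbs.all fun orb => T.chkA1Orb rho orb

namespace Good

variable {T : Tab D} (G : T.Good) {F : Type*} [Field F]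

/-- The orbit as a list of fundamental roots. -/
def oJ (_G : T.Good) (orbs : List (List ℕ)) (J : Fin orbs.length) : List (Fin D.rank) :=
  toFins D.rank (orbs.getD J [])

/-- The group generated by two opposite fundamental root groups. -/
def K1 (F : Type*) [Field F] (i : Fin D.rank) : Subgroup (GL D.Idx F) :=
  Subgroup.closure (Set.range (fun t => G.full.x (D.simple i) t) ∪
    Set.range (fun t => G.full.x (negR D (D.simple i)) t))

/-- A product over an orbit of fundamental root elements. -/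
noncomputable def PX (l : List (Fin D.rank)) (t : Fin D.rank → F) : GL D.Idx F :=
  (l.map fun i : Fin D.rank => G.full.x (D.simple i) (t i)).prod

/-- A product over an orbit of negative root elements. -/
noncomputable def PN (l : List (Fin D.rank)) (t : Fin D.rank → F) : GL D.Idx F :=
  (l.map fun i : Fin D.rank => G.full.x (negR D (D.simple i)) (t i)).prod

include G

theorem x_mem_K1 (i : Fin D.rank) (t : F) : G.full.x (D.simple i) t ∈ G.K1 F i :=
  Subgroup.subset_closure (Or.inl ⟨t, rfl⟩)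

theorem xneg_mem_K1 (i : Fin D.rank) (t : F) : G.full.x (negR D (D.simple i)) t ∈ G.K1 F i :=
  Subgroup.subset_closure (Or.inr ⟨t, rfl⟩)

theorem nr_mem_K1 (i : Fin D.rank) (t : F) : G.full.nr (D.simple i) t ∈ G.K1 F i :=
  mul_mem (mul_mem (G.x_mem_K1 i _) (G.xneg_mem_K1 i _)) (G.x_mem_K1 i _)

theorem ns_mem_K1 (i : Fin D.rank) : G.full.ns F i ∈ G.K1 F i := G.nr_mem_K1 i 1

theorem hr_mem_K1 (i : Fin D.rank) (t : F) : G.full.hr (D.simple i) t ∈ G.K1 F i :=
  mul_mem (G.nr_mem_K1 i _) (G.nr_mem_K1 i _)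

theorem K1_le_group (i : Fin D.rank) : G.K1 F i ≤ D.group F := by
  refine (Subgroup.closure_le _).mpr ?_
  rintro g (⟨t, rfl⟩ | ⟨t, rfl⟩) <;> exact G.x_mem_group _ _

theorem ns_conj_x (i : Fin D.rank) (u : F) :
    G.full.ns F i * G.full.x (D.simple i) u * (G.full.ns F i)⁻¹ =
      G.full.x (negR D (D.simple i)) (-u) := by
  rw [G.full.ns_conj i.isLt (G.full.simple_lt i.isLt), G.full.simple_reflect i.isLt,
    (G.full.node_spec i.isLt).2.2.2.1]
  simp

theorem ns_x_rankOne (i : Fin D.rank) {q : F} (hq : q ≠ 0) :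
    G.full.ns F i * G.full.x (D.simple i) q * (G.full.ns F i)⁻¹ =
      G.full.x (D.simple i) (-q⁻¹) * G.full.hr (D.simple i) q⁻¹ * G.full.ns F i *
        G.full.x (D.simple i) (-q⁻¹) := by
  set R := G.rankOne F i with hR
  have ha : -q⁻¹ ≠ 0 := neg_ne_zero.mpr (inv_ne_zero hq)
  have h1 : (-1 : F) ≠ 0 := neg_ne_zero.mpr one_ne_zero
  have e1 : R.n * R.x q * R.n = R.x (-q⁻¹) * R.h (-q⁻¹) * R.n * R.x (-q⁻¹) := R.opp q hq
  have h2 : R.h (-1) * R.h (-1) = 1 := by
    rw [R.h_mul _ _ h1 h1, neg_one_mul, neg_neg, R.h_one]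
  have e2 : R.n⁻¹ = R.n * R.h (-1) := by
    rw [inv_eq_iff_mul_eq_one, ← mul_assoc, R.nn, h2]
  have e3 : R.x (-q⁻¹) * R.h (-1) = R.h (-1) * R.x (-q⁻¹) := by
    have := R.hx (-1) (-q⁻¹) h1
    rw [neg_one_sq, one_mul] at this
    exact this.symm
  have e4 : R.n * R.h (-1) = R.h (-1) * R.n := by
    have := R.nh (-1) h1
    rwa [inv_neg, inv_one] at this
  have e5 : R.h (-q⁻¹) * R.h (-1) = R.h q⁻¹ := by
    rw [R.h_mul _ _ ha h1]; simp
  show R.n * R.x q * R.n⁻¹ = R.x (-q⁻¹) * R.h q⁻¹ * R.n * R.x (-q⁻¹)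
  rw [e2, ← mul_assoc, e1, mul_assoc _ (R.x (-q⁻¹)) (R.h (-1)), e3, ← mul_assoc,
    mul_assoc _ R.n (R.h (-1)), e4, ← mul_assoc, mul_assoc _ (R.h (-q⁻¹)) (R.h (-1)), e5]

theorem hT_conj_ns (i : Fin D.rank) (c : Fin D.rank → Fˣ) :
    T.hT F c * G.full.ns F i * (T.hT F c)⁻¹ =
      G.full.hr (D.simple i) (T.chi (D.simple i) c : F) * G.full.ns F i := by
  have hp := G.full.simple_lt i.isLt
  rw [← G.full.nr_simple_eq i.isLt, Full.ns, Full.nr,
    show T.hT F c * (G.full.x (D.simple i) 1 * G.full.x (negR D (D.simple i)) (-(1 : F)⁻¹) *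
      G.full.x (D.simple i) 1) * (T.hT F c)⁻¹ =
      T.hT F c * G.full.x (D.simple i) 1 * (T.hT F c)⁻¹ *
      (T.hT F c * G.full.x (negR D (D.simple i)) (-(1 : F)⁻¹) * (T.hT F c)⁻¹) *
      (T.hT F c * G.full.x (D.simple i) 1 * (T.hT F c)⁻¹) by group,
    G.full.hT_conj hp, G.full.hT_conj (Cert.negR_lt hp), G.chi_negR hp, Full.nr,
    Units.val_inv_eq_inv_val, inv_one, mul_one, mul_neg, mul_one]

theorem simple_inj {i j : Fin D.rank} (e : D.simple i = D.simple j) : i = j := by
  have h1 := G.cor_simple i i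
  rw [show G.full.simp' i = G.full.simp' j from Fin.ext e, G.cor_simple, if_pos rfl] at h1
  by_contra hne
  rw [if_neg hne] at h1
  exact zero_ne_one h1

theorem conj_x_sign {s : ℕ} (hs : s < D.nroots) (L : List (Fin D.rank)) :
    ∃ ε : F, (ε = 1 ∨ ε = -1) ∧ G.full.nw F L * G.full.x s 1 * (G.full.nw F L)⁻¹ =
      G.full.x (G.full.pw L ⟨s, hs⟩).val ε := by
  induction L with
  | nil => exact ⟨1, Or.inl rfl, by simp [Full.nw, Full.pw]⟩
  | cons i L ih =>
    obtain ⟨ε, hε, e⟩ := ih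
    refine ⟨(T.sgn i (G.full.pw L ⟨s, hs⟩).val : F) * ε, ?_, ?_⟩
    · rcases (G.full.reflT_spec i.isLt (Fin.isLt (G.full.pw L ⟨s, hs⟩))).2.2.2.2.2.2.1 with h | h <;>
        rcases hε with rfl | rfl <;> rw [h] <;> simp
    · rw [G.nw_cons, show G.full.ns F i * G.full.nw F L * G.full.x s 1 *
        (G.full.ns F i * G.full.nw F L)⁻¹ = G.full.ns F i *
          (G.full.nw F L * G.full.x s 1 * (G.full.nw F L)⁻¹) * (G.full.ns F i)⁻¹ by group, e,
        G.full.ns_conj i.isLt (Fin.isLt _), G.pw_cons, Equiv.Perm.mul_apply]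
      rfl

theorem nw_eq (L : List (Fin D.rank)) :
    G.full.nw F L = (L.map fun i : Fin D.rank => G.full.ns F i).prod := by
  induction L with
  | nil => simp [Full.nw]
  | cons i L ih => rw [G.nw_cons, List.map_cons, List.prod_cons, ih]

end Good

theorem Good.Graph.f_add {T : Tab D} {G : T.Good} {F : Type*} [Field F] (Φ : G.Graph F)
    (r : Fin D.nroots) (t u : F) : Φ.f r (t + u) = Φ.f r t + Φ.f r u := by
  have e := Φ.A_mul (G.x_mem_group r.val t) (G.x_mem_group r.val u)
  rw [G.full.x_add, Φ.A_x, Φ.A_x, Φ.A_x, G.full.x_add] at e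
  exact G.x_inj (Fin.isLt _) e

theorem Good.Graph.f_sub {T : Tab D} {G : T.Good} {F : Type*} [Field F] (Φ : G.Graph F)
    (r : Fin D.nroots) (t u : F) : Φ.f r (t - u) = Φ.f r t - Φ.f r u := by
  rw [sub_eq_add_neg, Φ.f_add, Φ.f_neg, ← sub_eq_add_neg]

/-- The data of orbits of orthogonal fundamental roots. -/
structure Good.A1Data {T : Tab D} {G : T.Good} {F : Type*} [Field F] (Φ : G.Graph F)
    (orbs : List (List ℕ)) : Prop where
  spec : G.TwSpec Φ orbs orbs
  nodup : ∀ J, (G.oJ orbs J).Nodup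
  rho_mem : ∀ J, ∀ i ∈ G.oJ orbs J, Φ.ρ i ∈ G.oJ orbs J
  comm : ∀ J, ∀ i ∈ G.oJ orbs J, ∀ j ∈ G.oJ orbs J, i ≠ j →
    ∀ a ∈ G.K1 F i, ∀ b ∈ G.K1 F j, Commute a b
  flip_eq : ∀ J, flipSet (G.full.pw (G.oJ orbs J)) =
    Set.range fun i : {i // i ∈ G.oJ orbs J} => D.simple i.1

theorem Good.a1Data {T : Tab D} {G : T.Good} {F : Type*} [Field F] (Φ : G.Graph F)
    {pi : ℕ → ℕ} (hpi : ∀ s, (Φ.π s).val = pi s.val) {rho : List ℕ}
    (hrho : ∀ i, (Φ.ρ i).val = rho.getD i.val 0) {orbs : List (List ℕ)}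
    (h : T.chkOrbits pi rho orbs orbs = true) (h' : T.chkA1 rho orbs = true) :
    G.A1Data Φ orbs := by
  have hs := G.twSpec Φ hpi hrho h
  simp only [chkA1, chkA1Orb, chkComm0, allBelow_iff, Bool.and_eq_true, Bool.or_eq_true,
    Nat.beq_eq, List.all_eq_true, List.any_eq_true, Nat.blt_eq, List.contains_iff_mem,
    Bool.not_eq_true', beq_iff_eq, decide_eq_true_eq, List.mem_cons, List.not_mem_nil,
    or_false] at h'
  have hJ : ∀ J : Fin orbs.length, orbs.getD J [] ∈ orbs := fun J => by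
    rw [List.getD_eq_getElem _ _ J.isLt]
    exact List.getElem_mem _
  refine
    { spec := hs
      nodup := fun J => List.Nodup.of_map Fin.val (by
        rw [oJ, hs.map_word J]; exact (h' _ (hJ J)).1.1.1)
      rho_mem := fun J i hi => by
        rw [oJ, mem_toFins] at hi ⊢
        rw [hrho]
        exact (h' _ (hJ J)).1.1.2 _ hi
      comm := fun J i hi j hj hne => ?_
      flip_eq := fun J => ?_ }
  · rw [oJ, mem_toFins] at hi hj
    have hc := ((h' _ (hJ J)).1.2 _ hi _ hj).resolve_left fun e => hne (Fin.ext e)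
    have hgen : ∀ a, (a = D.simple i ∨ a = negR D (D.simple i)) → ∀ b,
        (b = D.simple j ∨ b = negR D (D.simple j)) → ∀ t u : F,
        Commute (G.full.x a t) (G.full.x b u) := by
      intro a ha b hb t u
      obtain ⟨⟨h1, h2⟩, h3⟩ := hc a ha b hb
      have ha' : a < D.nroots := by
        rcases ha with rfl | rfl
        exacts [G.full.simple_lt i.isLt, Cert.negR_lt (G.full.simple_lt i.isLt)]
      have hb' : b < D.nroots := by
        rcases hb with rfl | rfl
        exacts [G.full.simple_lt j.isLt, Cert.negR_lt (G.full.simple_lt j.isLt)]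
      have e := G.full.x_comm ha' hb' (fun e => by rw [Tab.beq_true e] at h1; simp at h1)
        (fun e => by rw [Tab.beq_true e] at h2; simp at h2) t u
      rw [G.full.cert.commWord_eq ha' hb', List.isEmpty_iff.mp h3] at e
      simp only [rhsWord, List.map_nil, List.prod_nil, mul_one] at e
      exact e.symm
    have step : ∀ b, (b = D.simple j ∨ b = negR D (D.simple j)) → ∀ u : F,
        ∀ a ∈ G.K1 F i, Commute a (G.full.x b u) := by
      intro b hb u a ha
      induction ha using Subgroup.closure_induction with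
      | mem a ha =>
        rcases ha with ⟨t, rfl⟩ | ⟨t, rfl⟩
        · exact hgen _ (Or.inl rfl) b hb t u
        · exact hgen _ (Or.inr rfl) b hb t u
      | one => exact Commute.one_left _
      | mul a c _ _ h1 h2 => exact h1.mul_left h2
      | inv a _ h1 => exact h1.inv_left
    intro a ha b hb
    induction hb using Subgroup.closure_induction with
    | mem b hb =>
      rcases hb with ⟨u, rfl⟩ | ⟨u, rfl⟩
      · exact step _ (Or.inl rfl) u a ha
      · exact step _ (Or.inr rfl) u a ha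
    | one => exact Commute.one_right _
    | mul b c _ _ h1 h2 => exact h1.mul_right h2
    | inv b _ h1 => exact h1.inv_right
  · have hw : ∀ s : Fin D.nroots,
        (G.full.pw (G.oJ orbs J) s).val = T.wordT (orbs.getD J []) s.val := fun s => by
      rw [G.pw_apply, oJ, hs.map_word J]
    ext s
    constructor
    · rintro ⟨hlt, h1, h2⟩
      rcases (h' _ (hJ J)).2 s hlt with h3 | h3
      · have h4 : 2 * s < D.nroots := h3
        exact absurd h1.2 (by omega)
      · have h4 : Nat.blt (Nat.mul 2 (T.wordT (orbs.getD J []) s)) D.nroots = true := by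
          rw [Nat.blt_eq, ← hw ⟨s, hlt⟩]
          exact Nat.lt_of_not_le fun h => h2 ⟨Fin.isLt _, h⟩
        rw [h4] at h3
        obtain ⟨i, hi, e⟩ := List.any_eq_true.mp h3.symm
        have e' : s = D.simple i := Nat.beq_eq.mp e
        have hir : i < D.rank := by
          have := hs.map_word J ▸ hi
          obtain ⟨x, -, rfl⟩ := List.mem_map.mp this
          exact x.isLt
        exact ⟨⟨⟨i, hir⟩, (mem_toFins _).mpr hi⟩, e'.symm⟩
    · rintro ⟨⟨i, hi⟩, rfl⟩
      have hi' := (mem_toFins i).mp hi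
      refine ⟨G.full.simple_lt i.isLt, G.pos_simp i, fun hpos => ?_⟩
      rcases (h' _ (hJ J)).2 _ (G.full.simple_lt i.isLt) with h3 | h3
      · have h4 : 2 * D.simple i.val < D.nroots := h3
        exact absurd (G.pos_simp i).2 (not_le.mpr h4)
      · rw [show (List.any (orbs.getD J []) fun l => Nat.beq (D.simple i) (D.simple l)) = true from
          List.any_eq_true.mpr ⟨_, hi', Nat.beq_refl _⟩, Nat.blt_eq, ← hw ⟨D.simple i, G.full.simple_lt i.isLt⟩] at h3
        exact absurd hpos.2 (not_le.mpr h3)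

namespace Good.A1Data

variable {T : Tab D} {G : T.Good} {F : Type*} [Field F] {Φ : G.Graph F} {orbs : List (List ℕ)}
  (A : G.A1Data Φ orbs)
include A

local notation "o" => G.oJ orbs

theorem perm (J : Fin orbs.length) : ((o J).map Φ.ρ).Perm (o J) := by
  have h1 : ((o J).map Φ.ρ).Nodup := (A.nodup J).map Φ.ρ.injective
  refine (List.subperm_of_subset h1 ?_).perm_of_length_le (by simp)
  intro a ha
  obtain ⟨i, hi, rfl⟩ := List.mem_map.mp ha
  exact A.rho_mem J i hi

theorem mem_of_rho {J : Fin orbs.length} {i : Fin D.rank} (h : Φ.ρ i ∈ o J) : i ∈ o J := by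
  obtain ⟨a, ha, e⟩ := List.mem_map.mp ((A.perm J).mem_iff.mpr h)
  rwa [← Φ.ρ.injective e]

theorem prod_mul (J : Fin orbs.length) {f g : Fin D.rank → GL D.Idx F}
    (hf : ∀ i, f i ∈ G.K1 F i) (hg : ∀ i, g i ∈ G.K1 F i) :
    ((o J).map fun i : Fin D.rank => f i * g i).prod = ((o J).map f).prod * ((o J).map g).prod :=
  prod_map_mul' (A.nodup J) fun i hi j hj hne =>
    A.comm J i hi j hj hne _ (hg i) _ (hf j)

theorem A_prod (J : Fin orbs.length) {f g : Fin D.rank → GL D.Idx F}
    (hf : ∀ i, f i ∈ G.K1 F i) (hg : ∀ i, g i ∈ G.K1 F i)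
    (h : ∀ i ∈ o J, Φ.A (f i) = g (Φ.ρ i)) :
    Φ.A ((o J).map f).prod = ((o J).map g).prod := by
  have e : ∀ l : List (Fin D.rank), (∀ i ∈ l, i ∈ o J) →
      Φ.A (l.map f).prod = ((l.map Φ.ρ).map g).prod := by
    intro l
    induction l with
    | nil => intro _; simp [Φ.A_one]
    | cons a l ih =>
      intro hl
      simp only [List.map_cons, List.prod_cons]
      rw [Φ.A_mul (G.K1_le_group _ (hf a)) (list_prod_mem fun x hx => by
        obtain ⟨i, -, rfl⟩ := List.mem_map.mp hx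
        exact G.K1_le_group _ (hf i)), h a (hl a (List.mem_cons_self ..)),
        ih fun i hi => hl i (List.mem_cons_of_mem _ hi)]
  rw [e _ fun _ hi => hi]
  refine ((A.perm J).map g).prod_eq' (List.pairwise_map.mpr ?_)
  have hn : ((o J).map Φ.ρ).Nodup := (A.nodup J).map Φ.ρ.injective
  exact List.Pairwise.imp_of_mem (fun {a b} ha hb hne => A.comm J a ((A.perm J).mem_iff.mp ha) b
    ((A.perm J).mem_iff.mp hb) hne _ (hg a) _ (hg b)) hn

theorem prod_group (J : Fin orbs.length) {f : Fin D.rank → GL D.Idx F}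
    (hf : ∀ i, f i ∈ G.K1 F i) : ((o J).map f).prod ∈ D.group F :=
  list_prod_mem fun x hx => by
    obtain ⟨i, -, rfl⟩ := List.mem_map.mp hx
    exact G.K1_le_group _ (hf i)

/-- The tuples of parameters of the fixed elements of an orbit. -/
def Tup (_A : G.A1Data Φ orbs) (J : Fin orbs.length) (t : Fin D.rank → F) : Prop :=
  ∀ i ∈ o J, t (Φ.ρ i) = Φ.f (G.full.simp' i) (t i)

theorem tup_neg {J : Fin orbs.length} {t : Fin D.rank → F} (h : A.Tup J t) :
    A.Tup J fun i => -t i := fun i hi => by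
  show -t (Φ.ρ i) = Φ.f (G.full.simp' i) (-t i)
  rw [Φ.f_neg, h i hi]

theorem tup_one (J : Fin orbs.length) : A.Tup J fun _ => 1 := fun i _ => (Φ.f_one i).symm

theorem tup_inv {J : Fin orbs.length} {t : Fin D.rank → F} (ht : ∀ i ∈ o J, t i ≠ 0)
    (h : A.Tup J t) : A.Tup J fun i => (t i)⁻¹ := fun i hi => by
  show (t (Φ.ρ i))⁻¹ = Φ.f (G.full.simp' i) (t i)⁻¹
  rw [h i hi, Φ.f_inv i (ht i hi)]

theorem PX_mem_fix {J : Fin orbs.length} {t : Fin D.rank → F} (h : A.Tup J t) :
    G.PX (o J) t ∈ Φ.Fix := by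
  refine ⟨A.prod_group J fun i => G.x_mem_K1 i _,
    A.A_prod J (fun i => G.x_mem_K1 i _) (fun i => G.x_mem_K1 i _) fun i hi => ?_⟩
  rw [show D.simple i.val = (G.full.simp' i).val from rfl, Φ.A_x, Φ.simp, h i hi]
  rfl

theorem PN_mem_fix {J : Fin orbs.length} {t : Fin D.rank → F} (h : A.Tup J t) :
    G.PN (o J) t ∈ Φ.Fix := by
  refine ⟨A.prod_group J fun i => G.xneg_mem_K1 i _,
    A.A_prod J (fun i => G.xneg_mem_K1 i _) (fun i => G.xneg_mem_K1 i _) fun i hi => ?_⟩
  rw [show negR D (D.simple i.val) = (negF (G.full.simp' i)).val from rfl, Φ.A_x, Φ.neg, Φ.simp,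
    Φ.f_negF, h i hi]
  rfl

/-- The twisted group. -/
noncomputable def grp (A : G.A1Data Φ orbs) : Subgroup (GL D.Idx F) :=
  Subgroup.closure {g | ∃ J, ∃ t, A.Tup J t ∧ (g = G.PX (o J) t ∨ g = G.PN (o J) t)}

theorem PX_mem {J : Fin orbs.length} {t : Fin D.rank → F} (h : A.Tup J t) :
    G.PX (o J) t ∈ A.grp := Subgroup.subset_closure ⟨J, t, h, Or.inl rfl⟩

theorem PN_mem {J : Fin orbs.length} {t : Fin D.rank → F} (h : A.Tup J t) :
    G.PN (o J) t ∈ A.grp := Subgroup.subset_closure ⟨J, t, h, Or.inr rfl⟩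

theorem grp_le_fix : A.grp ≤ Φ.Fix := by
  refine (Subgroup.closure_le _).mpr ?_
  rintro g ⟨J, t, h, rfl | rfl⟩
  exacts [A.PX_mem_fix h, A.PN_mem_fix h]

theorem nr_prod (J : Fin orbs.length) (c : Fin D.rank → F) :
    ((o J).map fun i : Fin D.rank => G.full.nr (D.simple i) (c i)).prod =
      G.PX (o J) c * G.PN (o J) (fun i => -(c i)⁻¹) * G.PX (o J) c := by
  rw [show (fun i : Fin D.rank => G.full.nr (D.simple i) (c i)) = fun i : Fin D.rank =>
    (G.full.x (D.simple i) (c i) * G.full.x (negR D (D.simple i)) (-(c i)⁻¹)) *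
      G.full.x (D.simple i) (c i) from rfl,
    A.prod_mul J (fun i => mul_mem (G.x_mem_K1 i _) (G.xneg_mem_K1 i _))
      (fun i => G.x_mem_K1 i _),
    A.prod_mul J (fun i => G.x_mem_K1 i _) (fun i => G.xneg_mem_K1 i _)]
  rfl

theorem nr_prod_mem {J : Fin orbs.length} {c : Fin D.rank → F} (hc : ∀ i ∈ o J, c i ≠ 0)
    (h : A.Tup J c) : ((o J).map fun i : Fin D.rank => G.full.nr (D.simple i) (c i)).prod ∈ A.grp := by
  rw [A.nr_prod]
  exact mul_mem (mul_mem (A.PX_mem h) (A.PN_mem (A.tup_neg (A.tup_inv hc h)))) (A.PX_mem h)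

theorem n_eq (J : Fin orbs.length) :
    G.full.nw F (o J) = ((o J).map fun i : Fin D.rank => G.full.nr (D.simple i) (1 : F)).prod := G.nw_eq _

theorem n_mem (J : Fin orbs.length) : G.full.nw F (o J) ∈ A.grp := by
  rw [A.n_eq]
  exact A.nr_prod_mem (fun _ _ => one_ne_zero) (A.tup_one J)

theorem n_conj_prod (J : Fin orbs.length) {f : Fin D.rank → GL D.Idx F}
    (hf : ∀ i, f i ∈ G.K1 F i) :
    G.full.nw F (o J) * ((o J).map f).prod * (G.full.nw F (o J))⁻¹ =
      ((o J).map fun i : Fin D.rank => G.full.ns F i * f i * (G.full.ns F i)⁻¹).prod := by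
  rw [mul_inv_eq_iff_eq_mul, G.nw_eq,
    ← A.prod_mul J (fun i => G.ns_mem_K1 i) hf,
    ← A.prod_mul J (fun i => mul_mem (mul_mem (G.ns_mem_K1 i) (hf i)) (inv_mem (G.ns_mem_K1 i)))
      (fun i => G.ns_mem_K1 i)]
  exact congrArg List.prod (List.map_congr_left fun i _ => by group)

theorem n_conj_PX (J : Fin orbs.length) (t : Fin D.rank → F) :
    G.full.nw F (o J) * G.PX (o J) t * (G.full.nw F (o J))⁻¹ = G.PN (o J) fun i => -t i := by
  rw [PX, A.n_conj_prod J fun i => G.x_mem_K1 i _]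
  exact congrArg List.prod (List.map_congr_left fun i _ => G.ns_conj_x i _)

/-- The restriction of a torus parameter to an orbit. -/
def res (_A : G.A1Data Φ orbs) (J : Fin orbs.length) (c : Fin D.rank → Fˣ) :
    Fin D.rank → Fˣ := fun i => if i ∈ o J then c i else 1

theorem hT_res (J : Fin orbs.length) (c : Fin D.rank → Fˣ) :
    T.hT F (A.res J c) = ((o J).map fun i : Fin D.rank => G.full.hr (D.simple i) (c i : F)).prod := by
  have e : ∀ l : List (Fin D.rank), l.Nodup →
      (fun i => if i ∈ l then c i else 1) = (l.map fun i : Fin D.rank => Pi.mulSingle i (c i)).prod := by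
    intro l
    induction l with
    | nil => intro _; funext i; simp
    | cons a l ih =>
      intro hl
      obtain ⟨ha, hl'⟩ := List.nodup_cons.mp hl
      rw [List.map_cons, List.prod_cons, ← ih hl']
      funext i
      rcases eq_or_ne i a with rfl | hne
      · simp [ha]
      · simp [hne]
  unfold res
  rw [e _ (A.nodup J), map_list_prod, List.map_map]
  exact congrArg List.prod (List.map_congr_left fun i _ => G.full.hT_single (c i))

/-- The fixed parameters of the torus. -/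
def Cσ (_A : G.A1Data Φ orbs) : Subgroup (Fin D.rank → Fˣ) where
  carrier := {c | Φ.σc c = c}
  mul_mem' := fun {a b} (ha : Φ.σc a = a) (hb : Φ.σc b = b) => show Φ.σc (a * b) = a * b by
    conv_rhs => rw [← ha, ← hb]
    funext j
    exact map_mul _ _ _
  one_mem' := show Φ.σc 1 = 1 from funext fun j => map_one _
  inv_mem' := fun {a} (ha : Φ.σc a = a) => show Φ.σc a⁻¹ = a⁻¹ by
    conv_rhs => rw [← ha]
    funext j
    exact map_inv _ _

theorem mem_Cσ {c : Fin D.rank → Fˣ} :
    c ∈ A.Cσ ↔ ∀ i, (c (Φ.ρ i) : F) = Φ.f (G.full.simp' i) (c i) := by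
  constructor
  · intro h i
    have := congrArg (fun g : Fin D.rank → Fˣ => ((g (Φ.ρ i) : Fˣ) : F)) (show Φ.σc c = c from h)
    simp only [Good.Graph.σc, Equiv.symm_apply_apply] at this
    exact this.symm
  · intro h
    refine funext fun j => Units.ext ?_
    have := h (Φ.ρ.symm j)
    rw [Equiv.apply_symm_apply] at this
    exact this.symm

theorem res_mem {J : Fin orbs.length} {c : Fin D.rank → Fˣ}
    (h : ∀ i ∈ o J, (c (Φ.ρ i) : F) = Φ.f (G.full.simp' i) (c i)) : A.res J c ∈ A.Cσ := by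
  rw [A.mem_Cσ]
  intro i
  by_cases hi : i ∈ o J
  · simp only [res, if_pos hi, if_pos (A.rho_mem J i hi)]
    exact h i hi
  · simp only [res, if_neg hi, if_neg fun e => hi (A.mem_of_rho e), Units.val_one, Φ.f_one]

/-- The torus. -/
noncomputable def torus (A : G.A1Data Φ orbs) : Subgroup (GL D.Idx F) := A.Cσ.map (T.hT F)

theorem hT_mem_torus {c : Fin D.rank → Fˣ} (h : c ∈ A.Cσ) : T.hT F c ∈ A.torus := ⟨c, h, rfl⟩

theorem torus_le : A.torus ≤ A.grp := by
  classical
  rintro g ⟨c, hc, rfl⟩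
  have hc' := A.mem_Cσ.mp hc
  have e : c = ∏ J : Fin orbs.length, A.res J c := by
    funext i
    obtain ⟨J, hJ⟩ := A.spec.cover i
    rw [Finset.prod_apply, Finset.prod_eq_single (f := fun J => A.res J c i) J
      (fun J' _ hne => if_neg fun h => hne (A.spec.orb_disj J' J i h hJ))
      (fun h => absurd (Finset.mem_univ J) h)]
    exact (if_pos hJ).symm
  rw [e]
  refine (A.grp.comap (T.hT F)).prod_mem (fun J _ => ?_)
  · rw [Subgroup.mem_comap, A.hT_res]
    have e2 : ((o J).map fun i : Fin D.rank => G.full.hr (D.simple i) (c i : F)).prod =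
        ((o J).map fun i : Fin D.rank => G.full.nr (D.simple i) (c i : F)).prod * (G.full.nw F (o J))⁻¹ := by
      rw [eq_mul_inv_iff_mul_eq, G.nw_eq, ← A.prod_mul J (fun i => G.hr_mem_K1 i _)
        fun i => G.ns_mem_K1 i]
      exact congrArg List.prod (List.map_congr_left fun i _ =>
        (G.full.nr_simple_eq i.isLt _).symm)
    rw [e2]
    exact mul_mem (A.nr_prod_mem (fun i _ => (c i).ne_zero) fun i _ => hc' i)
      (inv_mem (A.n_mem J))

theorem chi_fixed {c : Fin D.rank → Fˣ} (h : c ∈ A.Cσ) (i : Fin D.rank) :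
    ((T.chi (D.simple (Φ.ρ i)) c : Fˣ) : F) =
      Φ.f (G.full.simp' i) ((T.chi (D.simple i) c : Fˣ) : F) := by
  have e1 := G.full.hT_conj (G.full.simple_lt i.isLt) c (1 : F)
  rw [mul_one] at e1
  have e2 := congrArg Φ.A e1
  have hg := Φ.hT_mem_group c
  have hx : ∀ v : F, Φ.A (G.full.x (D.simple i) v) =
      G.full.x (D.simple (Φ.ρ i)) (Φ.f (G.full.simp' i) v) := fun v => by
    rw [show D.simple i.val = (G.full.simp' i).val from rfl, Φ.A_x, Φ.simp]
    rfl
  rw [Φ.A_mul (mul_mem hg (G.x_mem_group _ _)) (inv_mem hg), Φ.A_mul hg (G.x_mem_group _ _),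
    Φ.A_inv hg, Φ.A_hT, (show Φ.σc c = c from h), hx, hx, Φ.f_one,
    G.full.hT_conj (G.full.simple_lt (Φ.ρ i).isLt), mul_one] at e2
  exact G.x_inj (G.full.simple_lt (Φ.ρ i).isLt) e2

theorem n_conj_torus (J : Fin orbs.length) {h : GL D.Idx F} (hh : h ∈ A.torus) :
    G.full.nw F (o J) * h * (G.full.nw F (o J))⁻¹ ∈ A.torus := by
  obtain ⟨c, hc, rfl⟩ := hh
  set d : Fin D.rank → Fˣ := fun i => T.chi (D.simple i) c with hd
  have e : T.hT F c * G.full.nw F (o J) * (T.hT F c)⁻¹ =
      T.hT F (A.res J d) * G.full.nw F (o J) := by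
    rw [G.nw_eq, conj_list_prod', List.map_map, A.hT_res,
      ← A.prod_mul J (fun i => G.hr_mem_K1 i _) fun i => G.ns_mem_K1 i]
    exact congrArg List.prod (List.map_congr_left fun i _ => G.hT_conj_ns i c)
  have hmem : A.res J d ∈ A.Cσ := A.res_mem fun i _ => A.chi_fixed hc i
  refine ⟨(A.res J d)⁻¹ * c, mul_mem (inv_mem hmem) hc, ?_⟩
  rw [map_mul, map_inv, inv_mul_eq_iff_eq_mul, ← mul_assoc, ← mul_assoc, ← e]
  group

theorem n_sq_mem (J : Fin orbs.length) :
    G.full.nw F (o J) * G.full.nw F (o J) ∈ A.torus := by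
  have e : G.full.nw F (o J) * G.full.nw F (o J) = T.hT F (A.res J fun _ => -1) := by
    rw [G.nw_eq, ← A.prod_mul J (fun i => G.ns_mem_K1 i) (fun i => G.ns_mem_K1 i), A.hT_res]
    exact congrArg List.prod (List.map_congr_left fun i _ => by
      rw [G.full.ns_sq i.isLt, Units.val_neg, Units.val_one])
  rw [e]
  exact A.hT_mem_torus (A.res_mem fun i _ => by
    rw [Units.val_neg, Units.val_one, Φ.f_neg, Φ.f_one])

theorem flip_subset {J : Fin orbs.length} {i : Fin D.rank} (hi : i ∈ o J) :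
    D.simple i ∈ flipSet (G.full.pw (o J)) := by
  rw [A.flip_eq]; exact ⟨⟨i, hi⟩, rfl⟩

theorem PX_mem_US (J : Fin orbs.length) (t : Fin D.rank → F) :
    G.PX (o J) t ∈ G.US F (flipSet (G.full.pw (o J))) :=
  list_prod_mem fun x hx => by
    obtain ⟨i, hi, rfl⟩ := List.mem_map.mp hx
    exact G.x_mem_US (A.flip_subset hi) _

theorem exists_PX {J : Fin orbs.length} {u : GL D.Idx F}
    (hu : u ∈ G.US F (flipSet (G.full.pw (o J)))) : ∃ t, u = G.PX (o J) t := by
  induction hu using Subgroup.closure_induction with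
  | mem u hu =>
    obtain ⟨r, hr, v, rfl⟩ := hu
    rw [A.flip_eq] at hr
    obtain ⟨⟨i, hi⟩, rfl⟩ := hr
    show ∃ t, G.full.x (D.simple i) v = G.PX (o J) t
    refine ⟨Pi.single i v, ?_⟩
    obtain ⟨l₁, l₂, e⟩ := List.append_of_mem hi
    have hn := A.nodup J
    rw [e] at hn
    have h0 : ∀ l : List (Fin D.rank), i ∉ l → G.PX l (Pi.single i v) = 1 := fun l hl =>
      List.prod_eq_one fun x hx => by
        obtain ⟨j, hj, rfl⟩ := List.mem_map.mp hx
        rw [Pi.single_eq_of_ne (fun h => hl (by rwa [← h])), G.full.x_zero]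
    simp only [List.nodup_append, List.nodup_cons, List.mem_cons, forall_eq_or_imp] at hn
    rw [e, PX, List.map_append, List.map_cons, List.prod_append, List.prod_cons]
    show _ = G.PX l₁ _ * (_ * G.PX l₂ _)
    rw [h0 l₁ (fun h => (hn.2.2 i h).1 rfl), h0 l₂ hn.2.1.1, Pi.single_eq_same, one_mul, mul_one]
  | one =>
    exact ⟨0, (List.prod_eq_one fun x hx => by
      obtain ⟨j, -, rfl⟩ := List.mem_map.mp hx
      exact G.full.x_zero _).symm⟩
  | mul a b _ _ ha hb =>
    obtain ⟨t, rfl⟩ := ha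
    obtain ⟨t', rfl⟩ := hb
    refine ⟨t + t', ?_⟩
    rw [PX, PX, PX, ← A.prod_mul J (fun i => G.x_mem_K1 i _) (fun i => G.x_mem_K1 i _)]
    exact congrArg List.prod (List.map_congr_left fun i _ => G.full.x_add _ _ _)
  | inv a _ ha =>
    obtain ⟨t, rfl⟩ := ha
    refine ⟨-t, inv_eq_of_mul_eq_one_right ?_⟩
    rw [PX, PX, ← A.prod_mul J (fun i => G.x_mem_K1 i _) (fun i => G.x_mem_K1 i _)]
    exact List.prod_eq_one fun x hx => by
      obtain ⟨j, -, rfl⟩ := List.mem_map.mp hx
      rw [G.full.x_add, Pi.neg_apply, add_neg_cancel, G.full.x_zero]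

theorem card_flip (J : Fin orbs.length) :
    Nat.card (flipSet (G.full.pw (o J))) = (o J).length := by
  classical
  rw [A.flip_eq, Nat.card_range_of_injective]
  · rw [← Nat.card_congr (Equiv.subtypeEquivRight fun i => List.mem_toFinset (l := o J)),
      Nat.card_eq_finsetCard, List.toFinset_card_of_nodup (A.nodup J)]
  · rintro ⟨i, hi⟩ ⟨j, hj⟩ e
    exact Subtype.ext (G.simple_inj e)

theorem PX_inj [Finite F] {J : Fin orbs.length} {t t' : Fin D.rank → F}
    (h : G.PX (o J) t = G.PX (o J) t') : ∀ i ∈ o J, t i = t' i := by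
  classical
  let P : (Fin (o J).length → F) → GL D.Idx F := fun g =>
    ((List.finRange (o J).length).map fun k => G.full.x (D.simple ((o J).get k)) (g k)).prod
  have he : ∀ s : Fin D.rank → F, G.PX (o J) s = P fun k => s ((o J).get k) := fun s => by
    show _ = ((List.finRange (o J).length).map
      ((fun i : Fin D.rank => G.full.x (D.simple i) (s i)) ∘ (o J).get)).prod
    rw [← List.map_map, List.map_get_finRange]
    rfl
  have hP : ∀ g, P g ∈ G.US F (flipSet (G.full.pw (o J))) := fun g =>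
    list_prod_mem fun x hx => by
      obtain ⟨k, -, rfl⟩ := List.mem_map.mp hx
      exact G.x_mem_US (A.flip_subset (List.get_mem _ _)) _
  have hsurj : Function.Surjective (fun g => (⟨P g, hP g⟩ : G.US F (flipSet (G.full.pw (o J))))) := by
    intro u
    obtain ⟨s, hs⟩ := A.exists_PX u.2
    exact ⟨fun k => s ((o J).get k), Subtype.ext ((he s).symm.trans hs.symm)⟩
  have hcard : Nat.card (Fin (o J).length → F) =
      Nat.card (G.US F (flipSet (G.full.pw (o J)))) := by
    rw [G.card_US (G.closed_flip _), Nat.card_fun, A.card_flip, Nat.card_eq_fintype_card (α := Fin _),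
      Fintype.card_fin]
  have hb := (Nat.bijective_iff_surjective_and_card _).mpr ⟨hsurj, hcard⟩
  intro i hi
  obtain ⟨k, hk⟩ := List.mem_iff_get.mp hi
  have hh := @hb.1 (fun k => t ((o J).get k)) (fun k => t' ((o J).get k))
    (Subtype.ext ((he t).symm.trans (h.trans (he t'))))
  have := congrFun hh k
  rwa [hk] at this

theorem mem_XJ [Finite F] {J : Fin orbs.length} {u : GL D.Idx F} :
    u ∈ Φ.Fix ⊓ G.US F (flipSet (G.full.pw (o J))) ↔ ∃ t, A.Tup J t ∧ u = G.PX (o J) t := by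
  constructor
  · rintro ⟨hfix, hu⟩
    obtain ⟨t, rfl⟩ := A.exists_PX hu
    refine ⟨t, fun i hi => ?_, rfl⟩
    let t' : Fin D.rank → F := fun j => Φ.f (G.full.simp' (Φ.ρ.symm j)) (t (Φ.ρ.symm j))
    have e : Φ.A (G.PX (o J) t) = G.PX (o J) t' :=
      A.A_prod J (fun i => G.x_mem_K1 i _) (fun i => G.x_mem_K1 i _) fun i _ => by
        rw [show D.simple i.val = (G.full.simp' i).val from rfl, Φ.A_x, Φ.simp]
        simp only [t', Equiv.symm_apply_apply]
        rfl
    have := A.PX_inj (hfix.2.symm.trans e) (Φ.ρ i) (A.rho_mem J i hi)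
    simpa only [t', Equiv.symm_apply_apply] using this
  · rintro ⟨t, ht, rfl⟩
    exact ⟨A.PX_mem_fix ht, A.PX_mem_US J t⟩

theorem tup_ne_zero {J : Fin orbs.length} {t : Fin D.rank → F} (ht : A.Tup J t) {i : Fin D.rank}
    (hi : i ∈ o J) (h : t i ≠ 0) : ∀ j ∈ o J, t j ≠ 0 := by
  intro j hj
  obtain ⟨k, hk⟩ := A.spec.orb_trans J i hi j hj
  rw [← hk]
  have : ∀ k : ℕ, (Φ.ρ ^ k) i ∈ o J ∧ t ((Φ.ρ ^ k) i) ≠ 0 := by
    intro k
    induction k with
    | zero => exact ⟨hi, h⟩
    | succ k ih =>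
      rw [pow_succ', Equiv.Perm.mul_apply]
      exact ⟨A.rho_mem J _ ih.1, by rw [ht _ ih.1]; exact Φ.f_ne_zero _ ih.2⟩
  exact (this k).2

theorem tup_determined {J : Fin orbs.length} {t t' : Fin D.rank → F} (ht : A.Tup J t)
    (ht' : A.Tup J t') {i : Fin D.rank} (hi : i ∈ o J) (h : t i = t' i) :
    ∀ j ∈ o J, t j = t' j := by
  intro j hj
  obtain ⟨k, hk⟩ := A.spec.orb_trans J i hi j hj
  rw [← hk]
  have : ∀ k : ℕ, (Φ.ρ ^ k) i ∈ o J ∧ t ((Φ.ρ ^ k) i) = t' ((Φ.ρ ^ k) i) := by
    intro k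
    induction k with
    | zero => exact ⟨hi, h⟩
    | succ k ih =>
      rw [pow_succ', Equiv.Perm.mul_apply]
      exact ⟨A.rho_mem J _ ih.1, by rw [ht _ ih.1, ht' _ ih.1, ih.2]⟩
  exact (this k).2

/-- The order of a fixed root group is the number of possible parameters at one root. -/
theorem card_XJ [Finite F] (J : Fin orbs.length) {a : Fin D.rank} (ha : a ∈ o J) :
    Nat.card (Φ.Fix ⊓ G.US F (flipSet (G.full.pw (o J))) : Subgroup (GL D.Idx F)) =
      Nat.card {x : F // ∃ t, A.Tup J t ∧ t a = x} := by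
  choose t ht e using fun u : (Φ.Fix ⊓ G.US F (flipSet (G.full.pw (o J))) :
    Subgroup (GL D.Idx F)) => A.mem_XJ.mp u.2
  refine Nat.card_eq_of_bijective (fun u => ⟨t u a, t u, ht u, rfl⟩) ⟨fun u v h => ?_, ?_⟩
  · refine Subtype.ext ?_
    rw [e u, e v]
    have h' := A.tup_determined (ht u) (ht v) ha (congrArg Subtype.val h)
    exact congrArg List.prod (List.map_congr_left fun i hi => by rw [h' i hi])
  · rintro ⟨x, s, hs, rfl⟩
    let u : (Φ.Fix ⊓ G.US F (flipSet (G.full.pw (o J))) : Subgroup (GL D.Idx F)) :=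
      ⟨G.PX (o J) s, A.mem_XJ.mpr ⟨s, hs, rfl⟩⟩
    exact ⟨u, Subtype.ext (A.PX_inj (e u).symm a ha)⟩

theorem word_prod (L : List (Fin orbs.length)) :
    (L.map fun J => G.full.nw F (o J)).prod = G.full.nw F (L.flatMap o) := by
  induction L with
  | nil => simp [Full.nw]
  | cons J L ih => rw [List.map_cons, List.prod_cons, ih, List.flatMap_cons, G.nw_append]

theorem torus_word_mem
    (htor : ∀ c, T.hT F (Φ.σc c) = T.hT F c → T.hT F (c * c) = 1 → T.hT F c ∈ A.torus)
    (L : List (Fin orbs.length)) (h : G.full.pw (L.flatMap o) = 1) :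
    (L.map fun J => G.full.nw F (o J)).prod ∈ A.torus := by
  rw [A.word_prod]
  have hd : G.full.nw F (L.flatMap o) ∈ D.diagonalSubgroup F :=
    G.mem_diagonal_of_pos (G.nw_mem_monomial _) (G.rootAct_nw _) fun s hs => by rw [h]; exact hs
  rw [G.full.diagonal_eq_range] at hd
  obtain ⟨c, hc⟩ := hd
  rw [← hc]
  refine htor c ?_ ?_
  · have hfix : G.full.nw F (L.flatMap o) ∈ Φ.Fix := by
      rw [← A.word_prod]
      exact list_prod_mem fun x hx => by
        obtain ⟨J, -, rfl⟩ := List.mem_map.mp hx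
        exact A.grp_le_fix (A.n_mem J)
    rw [← hc] at hfix
    rw [← Φ.A_hT]
    exact hfix.2
  · rw [G.full.hT_eq_one_iff]
    intro j hj
    obtain ⟨ε, hε, e⟩ := G.conj_x_sign (F := F) (G.full.simple_lt hj) (L.flatMap o)
    rw [← hc, G.full.hT_conj (G.full.simple_lt hj), h, Equiv.Perm.one_apply, mul_one] at e
    have hv := G.x_inj (G.full.simple_lt hj) e
    rw [map_mul]
    refine Units.ext ?_
    rw [Units.val_mul, hv]
    rcases hε with rfl | rfl <;> simp

/-- The twisted group of orbits of orthogonal roots. -/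
noncomputable def twisted [Finite F]
    (htor : ∀ c, T.hT F (Φ.σc c) = T.hT F c → T.hT F (c * c) = 1 → T.hT F c ∈ A.torus) :
    Good.Twisted Φ where
  nJ := orbs.length
  orb := o
  word := o
  cover := A.spec.cover
  orb_trans := A.spec.orb_trans
  orb_ne := A.spec.orb_ne
  orb_disj := A.spec.orb_disj
  flip := A.spec.flip
  comm := A.spec.comm
  invol := A.spec.invol
  G1 := A.grp
  le_fix := A.grp_le_fix
  H0 := A.torus
  H0_le := A.torus_le
  H0_diag := by
    rintro g ⟨c, -, rfl⟩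
    rw [G.full.diagonal_eq_range]
    exact ⟨c, rfl⟩
  n J := G.full.nw F (o J)
  n_mem := A.n_mem
  n_mono _ := G.nw_mem_monomial _
  n_act _ := G.rootAct_nw _
  X_le J u hu := by
    obtain ⟨t, ht, rfl⟩ := A.mem_XJ.mp hu
    exact A.PX_mem ht
  gen := by
    refine (Subgroup.closure_le _).mpr ?_
    rintro g ⟨J, t, ht, rfl | rfl⟩
    · exact Subgroup.subset_closure
        (Or.inl (Set.mem_iUnion.mpr ⟨J, A.mem_XJ.mpr ⟨t, ht, rfl⟩⟩))
    · rw [show t = fun i => -(fun i => -t i) i from funext fun i => (neg_neg _).symm,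
        ← A.n_conj_PX]
      exact mul_mem (mul_mem (Subgroup.subset_closure (Or.inr ⟨J, rfl⟩))
        (Subgroup.subset_closure (Or.inl (Set.mem_iUnion.mpr
          ⟨J, A.mem_XJ.mpr ⟨_, A.tup_neg ht, rfl⟩⟩))))
        (inv_mem (Subgroup.subset_closure (Or.inr ⟨J, rfl⟩)))
  n_sq := A.n_sq_mem
  n_conj J _ hh := A.n_conj_torus J hh
  torus_word := A.torus_word_mem htor
  rank_one J u hu hne := by
    obtain ⟨t, ht, rfl⟩ := A.mem_XJ.mp hu
    obtain ⟨i, hi, hti⟩ : ∃ i ∈ o J, t i ≠ 0 := by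
      by_contra hc
      refine hne (List.prod_eq_one fun x hx => ?_)
      obtain ⟨j, hj, rfl⟩ := List.mem_map.mp hx
      rw [show t j = 0 by by_contra h; exact hc ⟨j, hj, h⟩, G.full.x_zero]
    have h0 := A.tup_ne_zero ht hi hti
    have hinv := A.tup_inv h0 ht
    classical
    let c : Fin D.rank → Fˣ := fun j =>
      if h : t j ≠ 0 then Units.mk0 (t j)⁻¹ (inv_ne_zero h) else 1
    have hcv : ∀ j ∈ o J, (c j : F) = (t j)⁻¹ := fun j hj => by simp [c, h0 j hj]
    have hX : G.PX (o J) (fun j => -(t j)⁻¹) ∈ Φ.Fix ⊓ G.US F (flipSet (G.full.pw (o J))) :=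
      A.mem_XJ.mpr ⟨_, A.tup_neg hinv, rfl⟩
    refine ⟨G.PX (o J) (fun j => -(t j)⁻¹),
      ⟨hX.1, G.flip_le_pos _ hX.2⟩,
      T.hT F (A.res J c), A.hT_mem_torus (A.res_mem fun j hj => ?_), _, hX, ?_⟩
    · rw [hcv j hj, hcv _ (A.rho_mem J j hj)]
      exact hinv j hj
    · unfold Good.PX
      rw [A.n_conj_prod J fun i => G.x_mem_K1 i _, A.hT_res, G.nw_eq,
        ← A.prod_mul J (fun i => G.x_mem_K1 i _) (fun i => G.hr_mem_K1 i _),
        ← A.prod_mul J (fun i => mul_mem (G.x_mem_K1 i _) (G.hr_mem_K1 i _))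
          (fun i => G.ns_mem_K1 i),
        ← A.prod_mul J (fun i => mul_mem (mul_mem (G.x_mem_K1 i _) (G.hr_mem_K1 i _))
          (G.ns_mem_K1 i)) (fun i => G.x_mem_K1 i _)]
      exact congrArg List.prod (List.map_congr_left fun j hj => by
        rw [hcv j hj, G.ns_x_rankOne j (h0 j hj)])

variable [Finite F]
  {htor : ∀ c, T.hT F (Φ.σc c) = T.hT F c → T.hT F (c * c) = 1 → T.hT F c ∈ A.torus}

theorem hasData : (A.twisted htor).HasData orbs orbs where
  length_eq := rfl
  orb_eq _ _ := mem_toFins _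
  word_eq := A.spec.map_word
  word_mem := A.spec.word_mem

theorem card_inv (J : Fin orbs.length) :
    (invSet ((A.twisted htor).w J)).card = (orbs.getD J []).length := by
  rw [← G.invSet_card, show (A.twisted htor).w J = G.full.pw (o J) from rfl, ← A.spec.map_word J,
    List.length_map]
  exact A.card_flip J

theorem xNontrivial : (A.twisted htor).XNontrivial := by
  intro J
  refine ⟨G.PX (o J) fun _ => 1, A.mem_XJ.mpr ⟨_, A.tup_one J, rfl⟩, fun h => ?_⟩
  obtain ⟨i, hi⟩ := List.exists_mem_of_ne_nil _ (A.spec.orb_ne J)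
  have e : G.PX (o J) (fun _ => (1 : F)) = G.PX (o J) fun _ => 0 :=
    h.trans (List.prod_eq_one fun x hx => by
      obtain ⟨j, -, rfl⟩ := List.mem_map.mp hx
      exact G.full.x_zero _).symm
  exact one_ne_zero (A.PX_inj e i hi)

theorem conj_torus_PX (J : Fin orbs.length) (c : Fin D.rank → Fˣ) (t : Fin D.rank → F) :
    T.hT F c * G.PX (o J) t * (T.hT F c)⁻¹ =
      G.PX (o J) fun i => (T.chi (D.simple i) c : F) * t i := by
  rw [PX, conj_list_prod', List.map_map]
  exact congrArg List.prod (List.map_congr_left fun i _ =>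
    G.full.hT_conj (G.full.simple_lt i.isLt) c (t i))

theorem faithful : (A.twisted htor).Faithful := by
  rintro h ⟨c, -, rfl⟩ hcomm
  rw [G.full.hT_eq_one_iff]
  intro j hj
  obtain ⟨J, hJ⟩ := A.spec.cover ⟨j, hj⟩
  have e := hcomm J _ (A.mem_XJ.mpr ⟨_, A.tup_one J, rfl⟩)
  rw [A.conj_torus_PX] at e
  have := A.PX_inj e ⟨j, hj⟩ hJ
  exact Units.ext (by simpa using this)

theorem XJ_le_commutator_of_torus (J : Fin orbs.length) {c : Fin D.rank → Fˣ} (hc : c ∈ A.Cσ)
    (hne : ∀ i ∈ o J, (T.chi (D.simple i) c : F) ≠ 1) :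
    (A.twisted htor).XJ J ≤ ⁅A.grp, A.grp⁆ := by
  intro u hu
  obtain ⟨t, ht, rfl⟩ := A.mem_XJ.mp hu
  let t' : Fin D.rank → F := fun i => t i / ((T.chi (D.simple i) c : F) - 1)
  have hneg : ∀ i ∈ o J, (T.chi (D.simple i) c : F) - 1 ≠ 0 := fun i hi => sub_ne_zero.mpr (hne i hi)
  have ht' : A.Tup J t' := fun i hi => by
    show t (Φ.ρ i) / ((T.chi (D.simple (Φ.ρ i)) c : F) - 1) = _
    rw [div_eq_iff (hneg _ (A.rho_mem J i hi)), A.chi_fixed hc i, ht i hi, ← Φ.f_one i,
      ← Φ.f_sub, ← Φ.f_mul, div_mul_cancel₀ _ (hneg i hi)]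
  have hm := Subgroup.commutator_mem_commutator (A.torus_le (A.hT_mem_torus hc)) (A.PX_mem ht')
  convert hm using 1
  rw [commutatorElement_def, A.conj_torus_PX]
  symm
  rw [mul_inv_eq_iff_eq_mul, PX, PX, PX,
    ← A.prod_mul J (fun i => G.x_mem_K1 i _) (fun i => G.x_mem_K1 i _)]
  exact congrArg List.prod (List.map_congr_left fun i hi => by
    rw [G.full.x_add]
    congr 1
    have := div_mul_cancel₀ (t i) (hneg i hi)
    simp only [t']
    linear_combination this)

theorem n_mem_commutator (J : Fin orbs.length)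
    (h : (A.twisted htor).XJ J ≤ ⁅A.grp, A.grp⁆) :
    G.full.nw F (o J) ∈ ⁅A.grp, A.grp⁆ := by
  rw [A.n_eq, A.nr_prod]
  have h1 : G.PX (o J) (fun _ => (1 : F)) ∈ ⁅A.grp, A.grp⁆ :=
    h (A.mem_XJ.mpr ⟨_, A.tup_one J, rfl⟩)
  refine mul_mem (mul_mem h1 ?_) h1
  rw [inv_one, ← A.n_conj_PX]
  set g := G.full.nw F (o J)
  set k := G.PX (o J) fun _ => (1 : F)
  rw [show g * k * g⁻¹ = g * k * g⁻¹ * k⁻¹ * k by group]
  exact mul_mem (Subgroup.commutator_mem_commutator (A.n_mem J)
    (A.PX_mem (A.tup_one J))) h1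

end Good.A1Data

end Tab

end CfsgLib.Chev
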