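import Cfsg.Agent.Chev.CharTwoCollect
import Cfsg.Agent.Chev.CharTwoTrunc
import Cfsg.Agent.Chev.InvolReduce
import Cfsg.Agent.Chev.TwistedA1
import Mathlib.FieldTheory.Finite.Basic
import Mathlib.RingTheory.IntegralDomain
import Mathlib.Tactic.LinearCombination

/-!
Certificates reducing the involutions of a twisted group with orbits of at most two roots, in
characteristic two: the fixed elements of the unipotent group are described by coefficients with
`f (π r) = f r ^ q`; nodes are stable sets of roots with some coefficients known to be non-zero.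
-/

set_option autoImplicit false
set_option linter.unusedSectionVars false
set_option linter.style.haveILetI false

namespace CfsgLib.Chev.InvolTwist

open Cfsg.Lie Tab Matrix CfsgLib.Chev.CharTwo
open CfsgLib.Chev.InvolReduce (el uni wordS mons el_congr el_filter pv_mons mval_uni wv_wordS)
open scoped MatrixGroups

/-- The combinatorial data of a twist: the permutation of the roots, the order of collection, the
permutation of the nodes and its orbits. -/
structure Pat where
  pi : List ℕ
  ord : List ℕ
  rho : List ℕ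
  orbs : List (List ℕ)

/-- The kinds of elimination of a coefficient. -/
inductive Kind where
  | pp (conjugate : Bool)
  | ff
  | fp (t : ℕ)
  | pf
  | norm

/-- An elementary operation on elements with unit coefficients. -/
inductive Op where
  | x (s : ℕ)
  | n (J : ℕ)

/-- The justification of a node; the numbers refer to earlier nodes. -/
inductive Step where
  | rep (k : ℕ)
  | one
  | zero (r v next : ℕ)
  | branch (v next0 next1 : ℕ)
  | kill (kd : Kind) (s r next : ℕ)
  | refl (J next : ℕ)
  | ones (ops : List Op) (next : ℕ)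

/-- A node: the roots, the roots with non-zero coefficient, and the justification. -/
abbrev Node := List ℕ × List ℕ × Step

namespace Pat

variable (P : Pat)

/-- The permutation of the roots. -/
def p (r : ℕ) : ℕ := P.pi.getD r 0

/-- The orbit of a root. -/
def orbOf (s : ℕ) : List ℕ := if Nat.beq (P.p s) s then [s] else [s, P.p s]

/-- The roots in the order of collection. -/
def sorted (S : List ℕ) : List ℕ := P.ord.filter fun r => S.contains r

/-- A stable set in the order of collection. -/
def okS (S : List ℕ) : Bool := decide (S = P.sorted S) && S.all fun r => S.contains (P.p r)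

end Pat

variable {D : ChevalleyDatum}

/-- The letters of a list of roots with consecutive variables from `k` on. -/
def wordAt (k : ℕ) (S : List ℕ) : List (ℕ × List ℕ) := (S.zipIdx k).map fun x => (x.1, uni x.2)

/-- All variables of a monomial are known to be non-zero. -/
def safeP (p : ℕ → Bool) : ℕ → List ℕ → Bool
  | _, [] => true
  | i, n :: e => (Nat.beq n 0 || p i) && safeP p (i + 1) e

/-- The variables known to be non-zero: those in `N`, and the additional ones if `yok`. -/
def nz (S N : List ℕ) (yok : Bool) (i : ℕ) : Bool :=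
  if Nat.blt i S.length then N.contains (S.getD i 0) else yok

/-- The check that the collection works for the twist. -/
def chkPat (T : Tab D) (P : Pat) : Bool :=
  decide P.ord.Nodup && P.ord.all (fun r => decide (r < D.nroots ∧ D.nroots ≤ 2 * r)) &&
    decide (P.ord.length = D.nroots / 2) &&
    (List.range P.ord.length).all (fun i => (P.ord.drop i).all fun r =>
      (P.ord.drop i).all fun s => (T.commT r s).all fun c => (P.ord.drop i).contains c.1) &&
    P.ord.all (fun r => (T.commT r r).all fun c => Nat.beq c.1 r) &&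
    P.ord.all (fun r => P.ord.contains (P.p r) && Nat.beq (P.p (P.p r)) r) &&
    P.orbs.all (fun o => o.all fun i => Nat.blt i D.rank) &&
    (P.ord.all fun a => P.ord.all fun s => (T.commT a s).all fun c =>
      P.ord.contains c.1 && Nat.ble (P.ord.idxOf s) (P.ord.idxOf c.1)) &&
    match norm T P.ord 100000 (wordAt 0 (P.ord.map P.p)) with
    | some L => P.ord.all fun r => mons L r == [uni ((P.ord.map P.p).idxOf r)]
    | none => false

/-- The roots `S'` contain every root of `L` except `om`, and those in `N'` have one safe monomial. -/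
def fits (P : Pat) (p : ℕ → Bool) (L : List (ℕ × List ℕ)) (om S' N' : List ℕ) : Bool :=
  P.okS S' && L.all (fun x => S'.contains x.1 || om.contains x.1) &&
    N'.all fun r => match mons L r with
      | [e] => safeP p 0 e
      | _ => false

/-- Padding by zeros. -/
def pad (n : ℕ) (e : List ℕ) : List ℕ := comb 1 1 e (List.replicate n 0)

/-- The check of an elimination at the root `r` by the orbit of `s`. -/
def killOk (T : Tab D) (P : Pat) (S N : List ℕ) (L : List (ℕ × List ℕ)) (s r : ℕ) : Kind → Bool
  | .pp b => !(Nat.beq (P.p s) s) && match (mons L r).erase (uni (S.idxOf r)) with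
    | [e] => e.drop S.length == (if b then [0, 1] else [1]) &&
        safeP (nz S N false) 0 (e.take S.length)
    | _ => false
  | .ff => Nat.beq (P.p s) s && Nat.beq (P.p r) r &&
    match (mons L r).erase (uni (S.idxOf r)) with
    | [e] => e.drop S.length == [1] && safeP (nz S N false) 0 (e.take S.length)
    | _ => false
  | .fp t => Nat.beq (P.p s) s && (mons L (P.p r)).contains (uni (S.idxOf (P.p r))) &&
    match (mons L r).erase (uni (S.idxOf r)),
        (mons L (P.p r)).erase (uni (S.idxOf (P.p r))),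
        normU T P.ord (P.ord.idxOf t + 1) 100000 (wordS S ++ wordS S) with
    | [e], [e'], some L2 => e.drop S.length == [1] && e'.drop S.length == [1] &&
        safeP (nz S N false) 0 (e.take S.length) && P.ord.contains t &&
        (match mons L2 t with
          | [a, b] => safeP (nz S N false) 0 a &&
              let X := comb 1 1 (uni (S.idxOf r)) (e'.take S.length)
              let Y := comb 1 1 (uni (S.idxOf (P.p r))) (e.take S.length)
              (pad S.length (comb 1 1 a X) == pad S.length (comb 1 1 b Y) ||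
                pad S.length (comb 1 1 a Y) == pad S.length (comb 1 1 b X))
          | _ => false)
    | _, _, _ => false
  | .pf => !(Nat.beq (P.p s) s) && Nat.beq (P.p r) r &&
    match (mons L r).erase (uni (S.idxOf r)) with
    | [a, b] =>
        (a.drop S.length == [1] && b.drop S.length == [0, 1] &&
          safeP (nz S N false) 0 (a.take S.length)) ||
        (b.drop S.length == [1] && a.drop S.length == [0, 1] &&
          safeP (nz S N false) 0 (b.take S.length))
    | _ => false
  | .norm => !(Nat.beq (P.p s) s) && Nat.beq (P.p r) r &&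
    match (mons L r).erase (uni (S.idxOf r)) with
    | [e] => e.drop S.length == [1, 1] && safeP (nz S N false) 0 (e.take S.length)
    | _ => false

/-- The roots of a collected word whose coefficients are all one. -/
def red (T : Tab D) (P : Pat) (w : List ℕ) : Option (List ℕ) :=
  let r := coll T P.ord 100000 [] (w.map fun a => (a, []))
  if r.2.isEmpty then some (r.1.reverse.map Prod.fst) else none

/-- Apply an operation to an element with unit coefficients. -/
def act1 (T : Tab D) (P : Pat) (w : List ℕ) : Op → Option (List ℕ)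
  | .x s => if P.orbOf s == P.sorted (P.orbOf s) && P.ord.contains s then
      red T P (P.orbOf s ++ w ++ (P.orbOf s).reverse) else none
  | .n J => if Nat.blt J P.orbs.length && w.all (fun a => Nat.blt a D.nroots) then
      red T P (w.map fun a => T.wordT (P.orbs.getD J []) a) else none

/-- Apply operations to an element with unit coefficients. -/
def run (T : Tab D) (P : Pat) : List ℕ → List Op → Option (List ℕ)
  | w, [] => some w
  | w, o :: os => match act1 T P w o with
    | some w' => run T P w' os
    | none => none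

/-- The roots are stable and pairwise orthogonal, so that their coefficients can be normalised. -/
def orthS (T : Tab D) (P : Pat) (S : List ℕ) : Bool :=
  P.okS S && S.all fun r => S.all (fun r' => decide
      (((List.range D.rank).map fun i => T.cor r' i * T.cart i r).sum =
        if Nat.beq r' r then 2 else 0)) &&
    allBelow (fun i => decide (T.cor (P.p r) (P.rho.getD i 0) = T.cor r i)) D.rank

/-- The check of a node. -/
def chkNode (T : Tab D) (P : Pat) (reps : List (List ℕ)) (nodes : List Node) (idx : ℕ) : Bool :=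
  match nodes.getD idx ([], [], .one) with
  | (S, N, .rep k) => orthS T P S && S.all (fun r => N.contains r) && Nat.blt k reps.length &&
      decide (red T P (reps.getD k []) = some S)
  | (S, _, .one) => S.isEmpty
  | (S, N, .zero r v next) =>
    let t := nodes.getD next ([], [], .one)
    Nat.blt next idx && P.okS S && S.contains v && P.ord.contains r &&
      decide (t.1 = S.filter fun x => !(Nat.beq x v) && !(Nat.beq x (P.p v))) && P.okS t.1 &&
      t.2.1.all (fun x => N.contains x) &&
      (match normU T P.ord (P.ord.idxOf r + 1) 100000 (wordS S ++ wordS S) with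
        | some L => match mons L r with
          | [e] => safeP (nz S (v :: P.p v :: N) false) 0 e
          | _ => false
        | none => false)
  | (S, N, .branch v next0 next1) =>
    let t0 := nodes.getD next0 ([], [], .one)
    let t1 := nodes.getD next1 ([], [], .one)
    Nat.blt next0 idx && Nat.blt next1 idx && P.okS S && S.contains v &&
      decide (t0.1 = S.filter fun x => !(Nat.beq x v) && !(Nat.beq x (P.p v))) && P.okS t0.1 &&
      t0.2.1.all (fun x => N.contains x) && decide (t1.1 = S) &&
      t1.2.1.all (fun x => N.contains x || Nat.beq x v || Nat.beq x (P.p v))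
  | (S, N, .kill kd s r next) =>
    let t := nodes.getD next ([], [], .one)
    Nat.blt next idx && P.okS S && P.ord.contains s &&
      P.orbOf s == P.sorted (P.orbOf s) && S.contains r &&
      (match norm T P.ord 100000
          (wordAt S.length (P.orbOf s) ++ wordS S ++ (wordAt S.length (P.orbOf s)).reverse) with
        | some L => fits P (nz S N (N.contains r)) L [r, P.p r] t.1 t.2.1 &&
            (mons L r).contains (uni (S.idxOf r)) && killOk T P S N L s r kd
        | none => false)
  | (S, N, .refl J next) =>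
    let t := nodes.getD next ([], [], .one)
    Nat.blt next idx && P.okS S && Nat.blt J P.orbs.length &&
      S.all (fun r => Nat.blt r D.nroots) &&
      (match norm T P.ord 100000 ((wordS S).map fun x => (T.wordT (P.orbs.getD J []) x.1, x.2)) with
        | some L => fits P (nz S N false) L [] t.1 t.2.1
        | none => false)
  | (S, N, .ones ops next) =>
    let t := nodes.getD next ([], [], .one)
    Nat.blt next idx && orthS T P S && S.all (fun r => N.contains r) && P.okS t.1 &&
      decide (run T P S ops = some t.1)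

/-- The hypotheses: a graph automorphism acting on parameters by the power `q`, and a group
containing the fixed unipotent elements, the reflections of the orbits and the fixed torus. -/
structure Setup (T : Tab D) (G : T.Good) (F : Type*) [Field F] [Fintype F] (P : Pat) where
  Φ : G.Graph F
  q : ℕ
  hpat : chkPat T P = true
  hπ : ∀ r, (Φ.π r).val = P.p r.val
  hρ : ∀ i, (Φ.ρ i).val = P.rho.getD i.val 0
  hf : ∀ r t, Φ.f r t = t ^ q
  hK : Fintype.card F = q ^ 2
  H : Subgroup (GL D.Idx F)
  hU : Φ.Fix ⊓ D.posUnipotent F ≤ H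
  hn : ∀ J < P.orbs.length, G.full.nw F (toFins D.rank (P.orbs.getD J [])) ∈ H
  hH : H ≤ Φ.Fix
  htor : ∀ c : Fin D.rank → Fˣ, (∀ i, c (Φ.ρ i) = c i ^ q) → T.hT F c ∈ H

section Sound

variable {T : Tab D} {G : T.Good} {F : Type*} [Field F] [Fintype F] [CharP F 2] {P : Pat}
  (W : Setup T G F P)
include W

namespace Setup

theorem two0 : (2 : F) = 0 := CharP.cast_eq_zero F 2

theorem pat : P.ord.Nodup ∧ (∀ r ∈ P.ord, IsPos D r) ∧ P.ord.length = D.nroots / 2 ∧
    (∀ i < P.ord.length, T.Closed {r | r ∈ P.ord.drop i}) ∧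
    (∀ r ∈ P.ord, T.Closed {s | s = r}) ∧
    (∀ r ∈ P.ord, P.p r ∈ P.ord ∧ P.p (P.p r) = r) ∧
    ∀ o ∈ P.orbs, ∀ i ∈ o, i < D.rank := by
  have h := W.hpat
  simp only [chkPat, Bool.and_eq_true, decide_eq_true_eq, List.all_eq_true, List.mem_range,
    List.contains_iff_mem, Nat.blt_eq] at h
  obtain ⟨⟨⟨⟨⟨⟨⟨⟨hnd, hp⟩, hlen⟩, hcl⟩, hone⟩, hpi⟩, horb⟩, -⟩, -⟩ := h
  refine ⟨hnd, hp, hlen, fun i hi => ⟨fun s hs => hp s (List.mem_of_mem_drop hs),
      fun a ha b hb c hc => hcl i hi a ha b hb c hc⟩,
    fun r hr => ⟨fun t (ht : t = r) => ht ▸ hp r hr, fun a (ha : a = r) b (hb : b = r) c hc => by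
      subst ha hb
      exact Nat.eq_of_beq_eq_true (hone _ hr c hc)⟩,
    fun r hr => ⟨(hpi r hr).1, Nat.eq_of_beq_eq_true (hpi r hr).2⟩, horb⟩

theorem inj {f g : ℕ → F} (h : el G P.ord f = el G P.ord g) : ∀ r ∈ P.ord, f r = g r :=
  prod_inj G P.ord W.pat.2.2.2.1 W.pat.2.2.2.2.1 W.pat.1 f g h

theorem sq_coeff {S : List ℕ} {f : ℕ → F} (hsq : el G S f * el G S f = 1) {m : ℕ}
    {L : List (ℕ × List ℕ)}
    (hL : normU T P.ord m 100000 (wordS S ++ wordS S) = some L) :
    ∀ r ∈ P.ord.take m, pv (S.map f ++ []) L r = 0 := by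
  obtain ⟨hnd, hpos, -, hcl, hone, -, -⟩ := W.pat
  refine normU_zero G W.two0 hpos hnd hcl hone (fun a ha s hs c hc => ?_) hL _ (by
    rw [wv_append, wv_wordS G, hsq])
  have h := W.hpat
  simp only [chkPat, Bool.and_eq_true, List.all_eq_true, List.contains_iff_mem, Nat.ble_eq] at h
  have hc' := h.1.2 a ha s (List.mem_of_mem_drop hs) c hc
  obtain ⟨i, hi, rfl⟩ := List.getElem_of_mem hs
  rw [List.getElem_drop] at hc'
  have hlt : m + i < P.ord.length := by rw [List.length_drop] at hi; omega
  have hidx : P.ord.idxOf (P.ord[m + i]) = m + i := hnd.idxOf_getElem (m + i) hlt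
  rw [hidx] at hc'
  rw [List.mem_iff_getElem]
  have hj := List.idxOf_lt_length_of_mem hc'.1
  refine ⟨P.ord.idxOf c.1 - m, by rw [List.length_drop]; omega, ?_⟩
  rw [List.getElem_drop]
  simp only [show m + (P.ord.idxOf c.1 - m) = P.ord.idxOf c.1 by omega]
  exact List.getElem_idxOf hj

theorem mem_take_idx {r : ℕ} (hr : r ∈ P.ord) : r ∈ P.ord.take (P.ord.idxOf r + 1) := by
  have hi := List.idxOf_lt_length_of_mem hr
  rw [List.mem_take_iff_getElem]
  exact ⟨P.ord.idxOf r, by omega, List.getElem_idxOf hi⟩

theorem swap (g : ℕ → F) : el G (P.ord.map P.p) g = el G P.ord g := by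
  have h := W.hpat
  simp only [chkPat, Bool.and_eq_true] at h
  have hm := h.2
  split at hm
  swap
  · simp at hm
  next L hL =>
  simp only [List.all_eq_true, beq_iff_eq] at hm
  have e := norm_sound G W.two0 hL ((P.ord.map P.p).map g ++ [])
  rw [show wordAt 0 (P.ord.map P.p) = wordS (P.ord.map P.p) from rfl, wv_wordS G] at e
  refine e.trans (el_congr G fun r hr => ?_)
  have hmem : r ∈ P.ord.map P.p :=
    List.mem_map.mpr ⟨P.p r, (W.pat.2.2.2.2.2.1 r hr).1, (W.pat.2.2.2.2.2.1 r hr).2⟩
  have hi := List.idxOf_lt_length_of_mem hmem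
  rw [pv_mons G, hm r hr]
  simp only [List.map_cons, List.map_nil, List.sum_cons, List.sum_nil, add_zero, mval_uni,
    List.append_nil]
  rw [List.getD_eq_getElem _ _ (by simpa using hi), List.getElem_map, List.getElem_idxOf]

theorem powq_powq (x : F) : (x ^ W.q) ^ W.q = x := by
  rw [← pow_mul, ← pow_two, ← W.hK, FiniteField.pow_card]

theorem one_lt_q : 1 < W.q := by
  by_contra h
  have : W.q ^ 2 ≤ 1 := by
    calc W.q ^ 2 ≤ 1 ^ 2 := Nat.pow_le_pow_left (by omega) 2
      _ = 1 := one_pow 2
  have := Fintype.one_lt_card (α := F)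
  rw [W.hK] at this
  omega

theorem zero_powq : (0 : F) ^ W.q = 0 := zero_pow (by have := W.one_lt_q; omega)

theorem exists_moved : ∃ x : F, x ^ W.q ≠ x := by
  classical
  by_contra h
  push Not at h
  have hq := W.one_lt_q
  have hne : (Polynomial.X ^ W.q - Polynomial.X : Polynomial F) ≠ 0 :=
    FiniteField.X_pow_card_sub_X_ne_zero F hq
  have h1 : (Finset.univ : Finset F) ⊆
      (Polynomial.X ^ W.q - Polynomial.X : Polynomial F).roots.toFinset := fun x _ => by
    simp [Polynomial.mem_roots hne, h x]
  have h2 := (Finset.card_le_card h1).trans ((Multiset.toFinset_card_le _).trans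
    (Polynomial.card_roots' _))
  rw [Finset.card_univ, W.hK, FiniteField.X_pow_card_sub_X_natDegree_eq F hq, pow_two] at h2
  nlinarith

theorem exists_pos_root (h : P.ord ≠ []) : ∃ r, IsPos D r := by
  obtain ⟨r, hr⟩ := List.exists_mem_of_ne_nil _ h
  exact ⟨r, W.pat.2.1 r hr⟩

theorem powq_add (r : Fin D.nroots) (x y : F) : (x + y) ^ W.q = x ^ W.q + y ^ W.q := by
  simpa only [W.hf] using W.Φ.f_add r x y

/-- The coefficients of a fixed element. -/
def Inv (_W : Setup T G F P) (f : ℕ → F) : Prop := ∀ r ∈ P.ord, f (P.p r) = f r ^ _W.q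

theorem A_el (l : List ℕ) (hl : ∀ r ∈ l, r ∈ P.ord) (f : ℕ → F) :
    W.Φ.A (el G l f) = el G (l.map P.p) fun s => f (P.p s) ^ W.q := by
  induction l with
  | nil => simp [el, W.Φ.A_one]
  | cons r l ih =>
    have hr := hl r (List.mem_cons_self ..)
    have hlt := (W.pat.2.1 r hr).1
    have ih' := ih fun s hs => hl s (List.mem_cons_of_mem _ hs)
    simp only [el, List.map_cons, List.prod_cons] at ih' ⊢
    rw [W.Φ.A_mul (G.x_mem_group _ _)
      (show (l.map fun r => G.full.x r (f r)).prod ∈ D.group F from InvolReduce.el_mem_group G l f),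
      ih',
      show G.full.x r (f r) = G.full.x (⟨r, hlt⟩ : Fin D.nroots).val (f r) from rfl, W.Φ.A_x,
      W.hπ, W.hf, (W.pat.2.2.2.2.2.1 r hr).2]

theorem fix_iff (f : ℕ → F) : el G P.ord f ∈ W.Φ.Fix ↔ W.Inv f := by
  have key : W.Φ.A (el G P.ord f) = el G P.ord fun s => f (P.p s) ^ W.q := by
    rw [W.A_el P.ord (fun _ h => h), W.swap]
  constructor
  · intro h r hr
    have hpr := W.pat.2.2.2.2.2.1 r hr
    have e := W.inj (key.symm.trans h.2) (P.p r) hpr.1
    simp only [hpr.2] at e
    exact e.symm
  · intro h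
    refine ⟨InvolReduce.el_mem_group G _ _, key.trans (el_congr G fun r hr => ?_)⟩
    have hpr := W.pat.2.2.2.2.2.1 r hr
    rw [← h (P.p r) hpr.1, hpr.2]

theorem el_pos (f : ℕ → F) : el G P.ord f ∈ D.posUnipotent F := by
  rw [G.posUnipotent_eq]
  exact Subgroup.list_prod_mem _ fun x hx => by
    obtain ⟨r, hr, rfl⟩ := List.mem_map.1 hx
    exact G.x_mem_US (S := {r | IsPos D r}) (W.pat.2.1 r hr) _

/-- The coefficients restricted to a set. -/
def mask (_W : Setup T G F P) (S : List ℕ) (f : ℕ → F) (r : ℕ) : F :=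
  if r ∈ S then f r else 0

theorem el_mask {S : List ℕ} (hS : S = P.sorted S) (f : ℕ → F) :
    el G P.ord (W.mask S f) = el G S f := by
  have e1 : el G S f = el G S (W.mask S f) :=
    el_congr G fun r hr => by simp [mask, hr]
  have e2 : el G (P.sorted S) (W.mask S f) = el G P.ord (W.mask S f) :=
    el_filter G _ _ _ fun r _ hr => by
      have : r ∉ S := fun h => by simp [h] at hr
      simp [mask, this]
  rw [e1, ← e2, ← hS]

theorem okS_spec {S : List ℕ} (h : P.okS S = true) :
    S = P.sorted S ∧ S.Nodup ∧ (∀ r ∈ S, r ∈ P.ord) ∧ ∀ r ∈ P.ord, P.p r ∈ S ↔ r ∈ S := by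
  simp only [Pat.okS, Bool.and_eq_true, decide_eq_true_eq, List.all_eq_true,
    List.contains_iff_mem] at h
  obtain ⟨h1, h2⟩ := h
  have hsub : ∀ r ∈ S, r ∈ P.ord := fun r hr => by
    rw [h1] at hr; exact List.mem_of_mem_filter hr
  refine ⟨h1, h1 ▸ W.pat.1.filter _, hsub, fun r hr => ⟨fun hp => ?_, h2 r⟩⟩
  have := h2 _ hp
  rwa [(W.pat.2.2.2.2.2.1 r hr).2] at this

theorem inv_mask {S : List ℕ} (h : P.okS S = true) {f : ℕ → F}
    (hf : ∀ r ∈ S, f (P.p r) = f r ^ W.q) : W.Inv (W.mask S f) := fun r hr => by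
  have hiff := (W.okS_spec h).2.2.2 r hr
  by_cases hrS : r ∈ S
  · simp [mask, hrS, hiff.mpr hrS, hf r hrS]
  · simp [mask, hrS, mt hiff.mp hrS, W.zero_powq]

theorem el_S_fix {S : List ℕ} (h : P.okS S = true) {f : ℕ → F}
    (hf : ∀ r ∈ S, f (P.p r) = f r ^ W.q) :
    el G S f ∈ W.Φ.Fix ⊓ D.posUnipotent F := by
  rw [← W.el_mask (W.okS_spec h).1 f]
  exact ⟨(W.fix_iff _).mpr (W.inv_mask h hf), W.el_pos _⟩

/-- Conjugacy in the twisted group. -/
def Cj (_W : Setup T G F P) (g h : GL D.Idx F) : Prop := ∃ k ∈ _W.H, k * g * k⁻¹ = h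

theorem cj_trans {g h k : GL D.Idx F} (h1 : W.Cj g h) (h2 : W.Cj h k) : W.Cj g k := by
  obtain ⟨a, ha, rfl⟩ := h1
  obtain ⟨b, hb, rfl⟩ := h2
  exact ⟨b * a, mul_mem hb ha, by group⟩

/-- The node reduces to the representatives. -/
def Covered (_W : Setup T G F P) (R : List (GL D.Idx F)) (S N : List ℕ) : Prop :=
  ∀ f : ℕ → F, _W.Inv f → (∀ r ∈ N, f r ≠ 0) → el G S f * el G S f = 1 → el G S f ≠ 1 →
    ∃ y ∈ R, _W.Cj (el G S f) y

end Setup

theorem mval_safeP (p : ℕ → Bool) (env : List F)
    (hp : ∀ i, p i = true → env.getD i 1 ≠ 0) :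
    ∀ (e : List ℕ) (i : ℕ), safeP p i e = true → mval (env.drop i) e ≠ 0
  | [], i, _ => by cases h : env.drop i <;> simp [mval]
  | n :: e, i, h => by
    simp only [safeP, Bool.and_eq_true, Bool.or_eq_true] at h
    have ih := mval_safeP p env hp e (i + 1) h.2
    rcases lt_or_ge i env.length with hi | hi
    · rw [List.drop_eq_getElem_cons hi, mval]
      refine mul_ne_zero ?_ ih
      rcases h.1 with h1 | h1
      · rw [Nat.eq_of_beq_eq_true h1, pow_zero]; exact one_ne_zero
      · have := hp i h1
        rw [List.getD_eq_getElem _ _ hi] at this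
        exact pow_ne_zero _ this
    · rw [List.drop_eq_nil_of_le hi]
      simp [mval]

theorem mval_append : ∀ (xs ys : List F) (e : List ℕ),
    mval (xs ++ ys) e = mval xs (e.take xs.length) * mval ys (e.drop xs.length)
  | [], ys, e => by cases ys <;> simp [mval]
  | x :: xs, ys, [] => by cases ys <;> simp [mval]
  | x :: xs, ys, n :: e => by simp [mval, mval_append xs ys e, mul_assoc]

theorem mval_replicate : ∀ (env : List F) (n : ℕ), mval env (List.replicate n 0) = 1
  | env, 0 => by cases env <;> simp [mval]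
  | [], n + 1 => by simp [List.replicate_succ, mval]
  | x :: xs, n + 1 => by simp [List.replicate_succ, mval, mval_replicate xs n]

theorem mval_pad (env : List F) (n : ℕ) (e : List ℕ) : mval env (pad n e) = mval env e := by
  rw [pad, mval_comb, mval_replicate W]; simp

theorem mval_nil (e : List ℕ) : mval ([] : List F) e = 1 := by cases e <;> simp [mval]

theorem wv_wordAt (k : ℕ) (o : List ℕ) (g : ℕ → F) (pre : List F) (hk : pre.length = k) :
    wv G (pre ++ o.map g) (wordAt k o) = el G o g := by
  subst hk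
  induction o generalizing pre with
  | nil => rfl
  | cons a o ih =>
    have ih' := ih (pre ++ [g a])
    rw [List.length_append, List.length_singleton, List.append_assoc, List.singleton_append] at ih'
    simp only [wordAt, List.zipIdx_cons, List.map_cons, wv_cons, el, List.prod_cons, mval_uni] at ih' ⊢
    rw [ih']
    simp [List.getD_eq_getElem?_getD]

theorem wv_reverse (env : List F) : ∀ l : List (ℕ × List ℕ),
    wv G env l.reverse = (wv G env l)⁻¹
  | [] => by simp [wv]
  | x :: l => by
    rw [List.reverse_cons, wv_append, wv_reverse env l, wv_cons G env x l, _root_.mul_inv_rev,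
      G.full.x_inv, neg_self W.two0]
    exact congrArg _ (by simp [wv])

theorem env_nz {S N : List ℕ} {f : ℕ → F} (hN : ∀ r ∈ N, f r ≠ 0) {ext : List F} {yok : Bool}
    (hy : yok = true → ∀ y ∈ ext, y ≠ 0) (i : ℕ) (h : nz S N yok i = true) :
    (S.map f ++ ext).getD i 1 ≠ 0 := by
  by_cases hi : i < S.length
  · rw [nz, if_pos (by simpa using hi)] at h
    have e : (S.map f ++ ext).getD i 1 = f (S.getD i 0) := by
      simp [List.getD_eq_getElem?_getD, List.getElem?_append, hi]
    rw [e]
    exact hN _ (by simpa using h)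
  · rw [nz, if_neg (by simpa using hi)] at h
    rw [List.getD_eq_getElem?_getD, List.getElem?_append_right (by simpa using hi)]
    rcases lt_or_ge (i - (S.map f).length) ext.length with hj | hj
    · rw [List.getElem?_eq_getElem hj]
      exact hy h _ (List.getElem_mem hj)
    · rw [List.getElem?_eq_none hj]
      exact one_ne_zero

theorem safe_take {S N : List ℕ} {f : ℕ → F} (hN : ∀ r ∈ N, f r ≠ 0) {e : List ℕ}
    (h : safeP (nz S N false) 0 e = true) : mval (S.map f) e ≠ 0 := by
  have := mval_safeP W _ (S.map f ++ []) (env_nz W hN (ext := []) (fun e => by simp at e)) e 0 h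
  simpa using this

namespace Setup

theorem use_fits {R : List (GL D.Idx F)} {S' N' om : List ℕ} {L : List (ℕ × List ℕ)}
    {p : ℕ → Bool} (hc : W.Covered R S' N') (hfit : fits P p L om S' N' = true) {env : List F}
    (hp : ∀ i, p i = true → env.getD i 1 ≠ 0) (hom : ∀ r ∈ om, pv env L r = 0)
    {g : GL D.Idx F} (hg : g = el G P.ord (pv env L)) (hinv : W.Inv (pv env L)) (h2 : g * g = 1)
    (h1 : g ≠ 1) : ∃ y ∈ R, W.Cj g y := by
  simp only [fits, Bool.and_eq_true, List.all_eq_true, Bool.or_eq_true,
    List.contains_iff_mem] at hfit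
  obtain ⟨⟨hS, hL⟩, hN'⟩ := hfit
  have he : g = el G S' (pv env L) := by
    rw [hg]
    conv_rhs => rw [(W.okS_spec hS).1]
    rw [Pat.sorted, el_filter G _ _ _ fun r _ hr => ?_]
    by_cases ho : r ∈ om
    · exact hom r ho
    · rw [pv_mons G, show mons L r = [] from ?_]
      · rfl
      · rw [mons, List.map_eq_nil_iff, List.filter_eq_nil_iff]
        intro x hx hxr
        rcases hL x hx with h | h
        · rw [Nat.eq_of_beq_eq_true hxr] at h
          simp [h] at hr
        · rw [Nat.eq_of_beq_eq_true hxr] at h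
          exact ho h
  refine he ▸ hc _ hinv (fun r hr => ?_) (he ▸ h2) (he ▸ h1)
  have hm := hN' r hr
  rw [pv_mons G]
  split at hm
  · next e heq =>
    rw [heq]
    simpa using mval_safeP W p env hp e 0 hm
  · simp at hm

theorem conj_step {R : List (GL D.Idx F)} {S' N' om : List ℕ} {L : List (ℕ × List ℕ)}
    {p : ℕ → Bool} (hc : W.Covered R S' N') (hfit : fits P p L om S' N' = true) {env : List F}
    (hp : ∀ i, p i = true → env.getD i 1 ≠ 0) (hom : ∀ r ∈ om, pv env L r = 0)
    {g k : GL D.Idx F} (hk : k ∈ W.H) (hg : k * g * k⁻¹ = el G P.ord (pv env L))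
    (hinv : W.Inv (pv env L)) (h2 : g * g = 1) (h1 : g ≠ 1) : ∃ y ∈ R, W.Cj g y := by
  obtain ⟨h2', h1'⟩ := InvolReduce.conj_props G (k := k) h2 h1
  obtain ⟨z, hz, hcj⟩ := W.use_fits hc hfit hp hom hg hinv h2' h1'
  exact ⟨z, hz, W.cj_trans ⟨k, hk, rfl⟩ hcj⟩

/-- The parameters of an element of the orbit of `s`. -/
def orbVal (_W : Setup T G F P) (s : ℕ) (y : F) (z : ℕ) : F := if z = s then y else y ^ _W.q

theorem orbit_elem {s : ℕ} (hs : s ∈ P.ord) (ho : P.orbOf s = P.sorted (P.orbOf s)) {y : F}
    (hy : P.p s = s → y ^ W.q = y) :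
    el G (P.orbOf s) (W.orbVal s y) ∈ W.Φ.Fix ⊓ D.posUnipotent F := by
  have hpr := W.pat.2.2.2.2.2.1 s hs
  by_cases hb : P.p s = s
  · have e : P.orbOf s = [s] := by simp [Pat.orbOf, hb]
    refine W.el_S_fix ?_ fun r hr => ?_
    · simp only [Pat.okS, Bool.and_eq_true, decide_eq_true_eq]
      exact ⟨ho, by simp [e, hb]⟩
    · rw [e, List.mem_singleton] at hr
      subst hr
      rw [hb]
      simp [orbVal, hy hb]
  · have e : P.orbOf s = [s, P.p s] := by simp [Pat.orbOf, hb]
    refine W.el_S_fix ?_ fun r hr => ?_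
    · simp only [Pat.okS, Bool.and_eq_true, decide_eq_true_eq]
      exact ⟨ho, by simp [e, hpr.2]⟩
    · rw [e] at hr
      simp only [List.mem_cons, List.not_mem_nil, or_false] at hr
      rcases hr with rfl | rfl
      · simp [orbVal, hb]
      · simp [hpr.2, orbVal, hb, W.powq_powq]

/-- The additional parameters of an orbit element. -/
theorem map_orbVal (s : ℕ) (y : F) :
    (P.orbOf s).map (W.orbVal s y) = if P.p s = s then [y] else [y, y ^ W.q] := by
  by_cases hb : P.p s = s
  · simp [Pat.orbOf, hb, orbVal]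
  · simp [Pat.orbOf, hb, orbVal]

theorem conj_orbit {S : List ℕ} (hS : P.okS S = true) {f : ℕ → F} (hf : W.Inv f) {s : ℕ}
    (hs : s ∈ P.ord) (ho : P.orbOf s = P.sorted (P.orbOf s)) {L : List (ℕ × List ℕ)}
    (hL : norm T P.ord 100000
      (wordAt S.length (P.orbOf s) ++ wordS S ++ (wordAt S.length (P.orbOf s)).reverse) = some L)
    {y : F} (hy : P.p s = s → y ^ W.q = y) :
    el G (P.orbOf s) (W.orbVal s y) * el G S f * (el G (P.orbOf s) (W.orbVal s y))⁻¹ =
        el G P.ord (pv (S.map f ++ (P.orbOf s).map (W.orbVal s y)) L) ∧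
      el G (P.orbOf s) (W.orbVal s y) ∈ W.H ∧
      W.Inv (pv (S.map f ++ (P.orbOf s).map (W.orbVal s y)) L) := by
  have hk := W.orbit_elem hs ho hy
  have e : el G (P.orbOf s) (W.orbVal s y) * el G S f * (el G (P.orbOf s) (W.orbVal s y))⁻¹ =
      el G P.ord (pv (S.map f ++ (P.orbOf s).map (W.orbVal s y)) L) := by
    have h := norm_sound G W.two0 hL (S.map f ++ (P.orbOf s).map (W.orbVal s y))
    rw [wv_append, wv_append, wv_reverse W, wv_wordS G,
      wv_wordAt W _ _ _ _ (List.length_map ..)] at h
    exact h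
  refine ⟨e, W.hU hk, (W.fix_iff _).mp ?_⟩
  rw [← e]
  exact mul_mem (mul_mem hk.1 (W.el_S_fix hS fun r hr => hf r ((W.okS_spec hS).2.2.1 r hr)).1)
    (inv_mem hk.1)

theorem exists_trace {s : ℕ} (hs : s ∈ P.ord) : ∃ c : F, c + c ^ W.q = 1 := by
  obtain ⟨x, hx⟩ := W.exists_moved
  obtain ⟨r, hr⟩ := W.exists_pos_root (List.ne_nil_of_mem hs)
  set r' : Fin D.nroots := ⟨r, hr.1⟩
  have hd : x + x ^ W.q ≠ 0 := fun h => hx (by
    rw [add_eq_zero_iff_eq_neg, neg_self W.two0] at h
    exact h.symm)
  have hdq : (x + x ^ W.q) ^ W.q = x + x ^ W.q := by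
    rw [W.powq_add r', W.powq_powq, add_comm]
  refine ⟨x / (x + x ^ W.q), ?_⟩
  rw [div_pow, hdq, ← add_div, div_self hd]

theorem exists_norm {c : F} (hc : c ^ W.q = c) : ∃ y : F, y * y ^ W.q = c := by
  classical
  rcases eq_or_ne c 0 with rfl | hc0
  · exact ⟨0, by simp⟩
  have hq := W.one_lt_q
  obtain ⟨g, hg⟩ := IsCyclic.exists_generator (α := Fˣ)
  obtain ⟨k, hk⟩ := Subgroup.mem_zpowers_iff.mp (hg (Units.mk0 c hc0))
  have hg' : orderOf g = W.q ^ 2 - 1 := by
    rw [orderOf_eq_card_of_forall_mem_zpowers hg, Nat.card_eq_fintype_card, Fintype.card_units,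
      W.hK]
  have hcu : (Units.mk0 c hc0) ^ W.q = Units.mk0 c hc0 := Units.ext (by simpa using hc)
  rw [← hk, ← zpow_natCast (g ^ k), ← _root_.zpow_mul] at hcu
  have hdvd : ((W.q ^ 2 - 1 : ℕ) : ℤ) ∣ k * (W.q : ℤ) - k := by
    rw [← hg']
    exact orderOf_dvd_iff_zpow_eq_one.mpr (by rw [_root_.zpow_sub, hcu, mul_inv_cancel])
  have h1 : 1 ≤ W.q ^ 2 := Nat.one_le_pow _ _ (by omega)
  rw [Nat.cast_sub h1, Nat.cast_pow, Nat.cast_one,
    show k * (W.q : ℤ) - k = k * ((W.q : ℤ) - 1) by ring,
    show (W.q : ℤ) ^ 2 - 1 = ((W.q : ℤ) + 1) * ((W.q : ℤ) - 1) by ring] at hdvd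
  obtain ⟨j, hj⟩ := Int.dvd_of_mul_dvd_mul_right (by omega) hdvd
  refine ⟨((g ^ j : Fˣ) : F), ?_⟩
  rw [← pow_succ', ← Units.val_pow_eq_pow_val, ← zpow_natCast (g ^ j), ← _root_.zpow_mul,
    show j * ((W.q + 1 : ℕ) : ℤ) = k by rw [hj]; push_cast; ring, hk, Units.val_mk0]

/-! ### Elements with unit coefficients -/

theorem red_sound {w S : List ℕ} (h : red T P w = some S) :
    el G S (fun _ => (1 : F)) = el G w fun _ => 1 := by
  simp only [red] at h
  split_ifs at h with hc
  cases h
  have e := coll_sound G (T := T) W.two0 P.ord ([] : List F) 100000 [] (w.map fun a => (a, []))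
  rw [List.isEmpty_iff.mp hc, List.append_nil, List.reverse_nil, List.nil_append] at e
  simp only [wv, List.map_map, Function.comp_def, mval_nil W] at e
  simpa [el, List.map_map, Function.comp_def] using e

theorem orb_lt {J : ℕ} (hJ : J < P.orbs.length) : ∀ i ∈ P.orbs.getD J [], i < D.rank :=
  W.pat.2.2.2.2.2.2 _ (by rw [List.getD_eq_getElem _ _ hJ]; exact List.getElem_mem _)

theorem nw_x : ∀ (l : List (Fin D.rank)) {a : ℕ}, a < D.nroots → ∀ t : F,
    G.full.nw F l * G.full.x a t * (G.full.nw F l)⁻¹ = G.full.x (T.wordT (l.map Fin.val) a) t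
  | [], a, _, t => by simp [Full.nw, wordT]
  | i :: l, a, ha, t => by
    have hlt : T.wordT (l.map Fin.val) a < D.nroots := by
      rw [← G.pw_apply l ⟨a, ha⟩]; exact Fin.isLt _
    rw [G.nw_cons, show G.full.ns F i * G.full.nw F l * G.full.x a t *
        (G.full.ns F i * G.full.nw F l)⁻¹ = G.full.ns F i *
          (G.full.nw F l * G.full.x a t * (G.full.nw F l)⁻¹) * (G.full.ns F i)⁻¹ by group,
      nw_x l ha t, G.full.ns_conj i.isLt hlt, List.map_cons, wordT]
    rcases (G.full.reflT_spec i.isLt hlt).2.2.2.2.2.2.1 with hs | hs <;>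
      simp [hs, neg_self W.two0]

theorem orbit_conj {J : ℕ} (hJ : J < P.orbs.length) (env : List F) :
    ∀ l : List (ℕ × List ℕ), (∀ x ∈ l, x.1 < D.nroots) →
      wv G env (l.map fun x => (T.wordT (P.orbs.getD J []) x.1, x.2)) =
        G.full.nw F (toFins D.rank (P.orbs.getD J [])) * wv G env l *
          (G.full.nw F (toFins D.rank (P.orbs.getD J [])))⁻¹
  | [], _ => by simp [wv]
  | x :: l, hl => by
    rw [List.map_cons, wv_cons, wv_cons,
      orbit_conj hJ env l fun z hz => hl z (List.mem_cons_of_mem _ hz)]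
    have e := nw_x W (toFins D.rank (P.orbs.getD J [])) (hl x (List.mem_cons_self ..))
      (mval env x.2)
    rw [map_toFins (W.orb_lt hJ)] at e
    rw [← e]
    group

theorem fix_nw {J : ℕ} {u : GL D.Idx F}
    (hG : G.full.nw F (toFins D.rank (P.orbs.getD J [])) ∈ W.Φ.Fix) (hu : u ∈ W.Φ.Fix) :
    G.full.nw F (toFins D.rank (P.orbs.getD J [])) * u *
      (G.full.nw F (toFins D.rank (P.orbs.getD J [])))⁻¹ ∈ W.Φ.Fix :=
  mul_mem (mul_mem hG hu) (inv_mem hG)

theorem act1_sound {w w' : List ℕ} {o : Op} (h : act1 T P w o = some w') :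
    W.Cj (el G w fun _ => 1) (el G w' fun _ => 1) := by
  cases o with
  | x s =>
    simp only [act1, Bool.and_eq_true, beq_iff_eq, List.contains_iff_mem] at h
    split_ifs at h with hc
    have hk := W.orbit_elem hc.2 hc.1 (y := 1) (fun _ => one_pow _)
    have e1 : el G (P.orbOf s) (W.orbVal s 1) = el G (P.orbOf s) fun _ => 1 :=
      el_congr G fun r _ => by simp [orbVal]
    rw [e1] at hk
    refine ⟨_, W.hU hk, ?_⟩
    rw [W.red_sound h]
    have hr : el G (P.orbOf s).reverse (fun _ => (1 : F)) =
        (el G (P.orbOf s) fun _ => (1 : F))⁻¹ := by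
      have := wv_reverse W ([] : List F) ((P.orbOf s).map fun a => (a, []))
      simpa [wv, el, ← List.map_reverse, List.map_map, Function.comp_def, mval_nil W] using this
    rw [← hr]
    simp [el, mul_assoc]
  | n J =>
    simp only [act1, Bool.and_eq_true, Nat.blt_eq, List.all_eq_true] at h
    split_ifs at h with hc
    refine ⟨_, W.hn J hc.1, ?_⟩
    rw [W.red_sound h]
    have := orbit_conj W hc.1 ([] : List F) (w.map fun a => (a, [])) fun x hx => by
      obtain ⟨a, ha, rfl⟩ := List.mem_map.mp hx
      exact hc.2 a ha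
    simpa [wv, el, List.map_map, Function.comp_def, mval_nil W] using this.symm

theorem run_sound : ∀ (os : List Op) {w w' : List ℕ}, run T P w os = some w' →
    W.Cj (el G w fun _ => 1) (el G w' fun _ => 1)
  | [], w, w', h => by
    simp only [run, Option.some_inj] at h
    subst h
    exact ⟨1, one_mem _, by simp⟩
  | o :: os, w, w', h => by
    simp only [run] at h
    split at h
    · next w1 h1 => exact W.cj_trans (W.act1_sound h1) (run_sound os h)
    · simp at h

theorem chi_pow (r : ℕ) (s : Fˣ) (a : ℕ → ℤ) :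
    T.chi (F := F) r (fun i : Fin D.rank => s ^ a i) =
      s ^ ((List.range D.rank).map fun i => a i * T.cart i r).sum := by
  show ∏ i : Fin D.rank, (s ^ a i) ^ T.cart i r = _
  rw [← List.map_coe_finRange_eq_range, List.map_map, Function.comp_def,
    Finset.prod_congr rfl fun i _ => (_root_.zpow_mul s _ _).symm]
  rw [show ((List.finRange D.rank).map fun i : Fin D.rank => a i * T.cart i r).sum =
    ∑ i : Fin D.rank, a i * T.cart i r by rw [← List.ofFn_eq_map, List.sum_ofFn]]
  generalize (Finset.univ : Finset (Fin D.rank)) = t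
  induction t using Finset.cons_induction with
  | empty => simp
  | cons i t hi ih => rw [Finset.prod_cons, Finset.sum_cons, ih, _root_.zpow_add]

theorem list_prod_powq {M : Type*} [CommMonoid M] (n : ℕ) (g : ℕ → M) :
    ∀ l : List ℕ, (l.map fun r => g r ^ n).prod = (l.map g).prod ^ n
  | [] => by simp
  | a :: l => by simp [list_prod_powq n g l, mul_pow]

theorem prod_single {M : Type*} [Monoid M] (r : ℕ) (x : M) : ∀ l : List ℕ, l.Nodup →
    (l.map fun a => if a = r then x else 1).prod = if r ∈ l then x else 1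
  | [], _ => by simp
  | a :: l, h => by
    obtain ⟨hal, hl⟩ := List.nodup_cons.mp h
    rw [List.map_cons, List.prod_cons, prod_single r x l hl]
    by_cases e : a = r
    · subst e; simp [hal]
    · simp [e, Ne.symm e]

theorem hT_el (c : Fin D.rank → Fˣ) (f g : ℕ → F) : ∀ l : List ℕ, (∀ r ∈ l, r < D.nroots) →
    (∀ r ∈ l, (T.chi (F := F) r c : F) * f r = g r) →
    T.hT F c * el G l f * (T.hT F c)⁻¹ = el G l g
  | [], _, _ => by simp [el]
  | r :: l, hl, h => by
    have ih := hT_el c f g l (fun x hx => hl x (List.mem_cons_of_mem _ hx))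
      fun x hx => h x (List.mem_cons_of_mem _ hx)
    simp only [el, List.map_cons, List.prod_cons] at ih ⊢
    rw [← conj_mul, G.full.hT_conj (hl r (List.mem_cons_self ..)), h r (List.mem_cons_self ..), ih]

/-- Orthogonal stable roots: the coefficients become one under the fixed torus. -/
theorem scale {S : List ℕ} (h : orthS T P S = true) {f : ℕ → F} (hf : W.Inv f)
    (hne : ∀ r ∈ S, f r ≠ 0) : W.Cj (el G S f) (el G S fun _ => 1) := by
  classical
  simp only [orthS, Bool.and_eq_true, List.all_eq_true, decide_eq_true_eq, allBelow_iff] at h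
  obtain ⟨hok, h⟩ := h
  obtain ⟨-, hnd, hord, hst⟩ := W.okS_spec hok
  have hsq : ∀ x : F, ∃ y : F, y ^ 2 = x := fun x => by
    obtain ⟨y, hy⟩ := InvolReduce.exists_two_pow_root G 1 x
    exact ⟨y, by simpa using hy⟩
  choose rt hrt using hsq
  let s : ℕ → Fˣ := fun r =>
    if hr : r ∈ S then Units.mk0 (rt (f r)⁻¹) (fun e => inv_ne_zero (hne r hr) (by
      rw [← hrt (f r)⁻¹, e]; simp)) else 1
  have hs : ∀ r ∈ S, (s r : F) ^ 2 = (f r)⁻¹ := fun r hr => by simp [s, hr, hrt]
  have hinj : ∀ a b : Fˣ, (a : F) ^ 2 = (b : F) ^ 2 → a = b := fun a b e => Units.ext <| by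
    have : ((a : F) - b) ^ 2 = 0 := by linear_combination e + (b * b - a * b) * W.two0
    exact sub_eq_zero.mp (pow_eq_zero_iff two_ne_zero |>.mp this)
  have hsp : ∀ r ∈ S, s (P.p r) = s r ^ W.q := fun r hr => hinj _ _ (by
    rw [hs _ ((hst r (hord r hr)).mpr hr), hf r (hord r hr), Units.val_pow_eq_pow_val, ← pow_mul,
      mul_comm, pow_mul, hs r hr, inv_pow])
  set c : Fin D.rank → Fˣ := (S.map fun r => fun i : Fin D.rank => s r ^ T.cor r i).prod with hcd
  have hci : ∀ i : Fin D.rank, c i = (S.map fun r => s r ^ T.cor r i).prod := fun i => by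
    rw [hcd, Pi.list_prod_apply, List.map_map]; rfl
  have hperm : (S.map P.p).Perm S := by
    refine (List.perm_ext_iff_of_nodup (List.Nodup.map_on (fun a ha b hb e => ?_) hnd) hnd).mpr
      fun r => ⟨fun hr => ?_, fun hr => ?_⟩
    · rw [← (W.pat.2.2.2.2.2.1 a (hord a ha)).2, e, (W.pat.2.2.2.2.2.1 b (hord b hb)).2]
    · obtain ⟨a, ha, rfl⟩ := List.mem_map.mp hr
      exact (hst a (hord a ha)).mpr ha
    · exact List.mem_map.mpr ⟨P.p r, (hst r (hord r hr)).mpr hr,
        (W.pat.2.2.2.2.2.1 r (hord r hr)).2⟩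
  have hT : T.hT F c ∈ W.H := W.htor c fun i => by
    rw [hci, hci, ← (hperm.map fun r => s r ^ T.cor r (W.Φ.ρ i)).prod_eq, List.map_map]
    have e : ∀ r ∈ S, s (P.p r) ^ T.cor (P.p r) (W.Φ.ρ i) = (s r ^ T.cor r i) ^ W.q :=
      fun r hr => by
        rw [hsp r hr, W.hρ, (h r hr).2 i i.isLt, ← zpow_natCast, ← zpow_natCast,
          ← _root_.zpow_mul, ← _root_.zpow_mul, mul_comm]
    simp only [Function.comp_def]
    rw [List.map_congr_left (g := fun r => (s r ^ T.cor r i) ^ W.q) e, list_prod_powq W]
  refine ⟨_, hT, hT_el W c f _ S (fun r hr => (W.pat.2.1 r (hord r hr)).1) fun r hr => ?_⟩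
  have e : T.chi (F := F) r c = s r ^ (2 : ℤ) := by
    rw [hcd, map_list_prod, List.map_map,
      List.map_congr_left (g := fun r' => if r' = r then s r ^ (2 : ℤ) else 1) fun r' hr' => ?_,
      prod_single W r _ S hnd, if_pos hr]
    show T.chi (F := F) r (fun i : Fin D.rank => s r' ^ T.cor r' i) = _
    rw [chi_pow W, (h r hr).1 r' hr']
    by_cases e : r' = r
    · subst e; simp
    · simp [e]
  rw [e, zpow_ofNat, Units.val_pow_eq_pow_val, hs r hr, inv_mul_cancel₀ (hne r hr)]

/-! ### Soundness of the nodes -/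

theorem pv_split {S : List ℕ} {f : ℕ → F} (ys : List F) {L : List (ℕ × List ℕ)} {t r : ℕ}
    (hr : r ∈ S) (hm : uni (S.idxOf r) ∈ mons L t) :
    pv (S.map f ++ ys) L t = f r + (((mons L t).erase (uni (S.idxOf r))).map fun e =>
      mval (S.map f) (e.take S.length) * mval ys (e.drop S.length)).sum := by
  have hi := List.idxOf_lt_length_of_mem hr
  rw [pv_mons G, ((List.perm_cons_erase hm).map (mval (S.map f ++ ys))).sum_eq, List.map_cons,
    List.sum_cons, mval_uni]
  congr 1
  · rw [List.getD_eq_getElem _ _ (by simp; omega), List.getElem_append_left (by simpa using hi),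
      List.getElem_map, List.getElem_idxOf]
  · refine congrArg List.sum (List.map_congr_left fun e _ => ?_)
    rw [mval_append W, List.length_map]

theorem mval_var {S : List ℕ} {f : ℕ → F} {r : ℕ} (hr : r ∈ S) :
    mval (S.map f) (uni (S.idxOf r)) = f r := by
  have hi := List.idxOf_lt_length_of_mem hr
  rw [mval_uni, List.getD_eq_getElem _ _ (by simpa using hi), List.getElem_map, List.getElem_idxOf]

theorem add0 {a b : F} (h : a = b) : a + b = 0 := by
  linear_combination h + b * W.two0

theorem eq_of_add {a b : F} (h : a + b = 0) : a = b := by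
  linear_combination h - b * W.two0

theorem exists_kill {S N : List ℕ} (hS : P.okS S = true) {f : ℕ → F} (hf : W.Inv f)
    (hN : ∀ r ∈ N, f r ≠ 0) (hsq : el G S f * el G S f = 1) {s r : ℕ} (hs : s ∈ P.ord)
    (ho : P.orbOf s = P.sorted (P.orbOf s)) {L : List (ℕ × List ℕ)}
    (hL : norm T P.ord 100000
      (wordAt S.length (P.orbOf s) ++ wordS S ++ (wordAt S.length (P.orbOf s)).reverse) = some L)
    (hr : r ∈ S) (hu : uni (S.idxOf r) ∈ mons L r) {kd : Kind}
    (hk : killOk T P S N L s r kd = true) :
    ∃ y : F, (P.p s = s → y ^ W.q = y) ∧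
      pv (S.map f ++ (P.orbOf s).map (W.orbVal s y)) L r = 0 ∧ (y = 0 → f r = 0) := by
  obtain ⟨-, -, hord, hst⟩ := W.okS_spec hS
  have hr' := hord r hr
  have h1q : (1 : F) ^ W.q = 1 := one_pow _
  have hinv : ∀ y : F, (P.p s = s → y ^ W.q = y) → ∀ t ∈ P.ord,
      pv (S.map f ++ (P.orbOf s).map (W.orbVal s y)) L (P.p t) =
        pv (S.map f ++ (P.orbOf s).map (W.orbVal s y)) L t ^ W.q := fun y hy =>
    (W.conj_orbit hS hf hs ho hL hy).2.2
  obtain ⟨r0, hr0⟩ := W.exists_pos_root (List.ne_nil_of_mem hs)
  have hadd := W.powq_add ⟨r0, hr0.1⟩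
  have hfr : P.p r = r → f r ^ W.q = f r := fun e => by
    have := hf r hr'
    rw [e] at this
    exact this.symm
  cases kd with
  | pp b =>
    simp only [killOk, Bool.and_eq_true, Bool.not_eq_true'] at hk
    obtain ⟨hps, hk⟩ := hk
    have hps' : P.p s ≠ s := fun e => by rw [e] at hps; simp at hps
    split at hk
    swap
    · simp at hk
    next e he =>
    simp only [Bool.and_eq_true, beq_iff_eq] at hk
    obtain ⟨hd, hsafe⟩ := hk
    have hM := safe_take W hN hsafe
    set M := mval (S.map f) (e.take S.length)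
    have hval : ∀ y, pv (S.map f ++ (P.orbOf s).map (W.orbVal s y)) L r =
        f r + M * (if b then y ^ W.q else y) := fun y => by
      rw [W.pv_split _ hr hu, he, W.map_orbVal, if_neg hps']
      cases b <;> simp [hd, mval, M]
    cases b with
    | false =>
      refine ⟨f r / M, fun h => absurd h hps', ?_, fun h => ?_⟩
      · rw [hval]
        exact W.add0 (by simp [mul_div_cancel₀ _ hM])
      · simpa [hM] using h
    | true =>
      refine ⟨(f r / M) ^ W.q, fun h => absurd h hps', ?_, fun h => ?_⟩
      · rw [hval]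
        exact W.add0 (by simp [W.powq_powq, mul_div_cancel₀ _ hM])
      · have : f r / M = 0 := by
          rw [← W.powq_powq (f r / M), h, W.zero_powq]
        simpa [hM] using this
  | ff =>
    simp only [killOk, Bool.and_eq_true, Nat.beq_eq] at hk
    obtain ⟨⟨hps, hpr⟩, hk⟩ := hk
    split at hk
    swap
    · simp at hk
    next e he =>
    simp only [Bool.and_eq_true, beq_iff_eq] at hk
    obtain ⟨hd, hsafe⟩ := hk
    have hM := safe_take W hN hsafe
    set M := mval (S.map f) (e.take S.length)
    have hval : ∀ y, pv (S.map f ++ (P.orbOf s).map (W.orbVal s y)) L r = f r + M * y := fun y => by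
      rw [W.pv_split _ hr hu, he, W.map_orbVal, if_pos hps]
      simp [hd, mval, M]
    have hMq : M ^ W.q = M := by
      have e1 := hinv 1 (fun _ => h1q) r hr'
      rw [hpr, hval, mul_one, hadd, hfr hpr] at e1
      exact (add_left_cancel e1).symm
    refine ⟨f r / M, fun _ => by rw [div_pow, hfr hpr, hMq], ?_, fun h => ?_⟩
    · rw [hval]; exact W.add0 (by rw [mul_div_cancel₀ _ hM])
    · simpa [hM] using h
  | fp t =>
    simp only [killOk, Bool.and_eq_true, Nat.beq_eq, List.contains_iff_mem] at hk
    obtain ⟨⟨hps, hu'⟩, hk⟩ := hk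
    split at hk
    swap
    · simp at hk
    next e e' L2 he he' hL2 =>
    simp only [Bool.and_eq_true, beq_iff_eq, List.contains_iff_mem] at hk
    obtain ⟨⟨⟨⟨hd, hd'⟩, hsafe⟩, ht⟩, hk⟩ := hk
    split at hk
    swap
    · simp at hk
    next a b hab =>
    simp only [Bool.and_eq_true, Bool.or_eq_true, beq_iff_eq] at hk
    obtain ⟨ha, hk⟩ := hk
    have hpr' := (hst r hr').mpr hr
    have hM := safe_take W hN hsafe
    have ha0 := safe_take W hN ha
    set M := mval (S.map f) (e.take S.length)
    have hval : ∀ y, pv (S.map f ++ (P.orbOf s).map (W.orbVal s y)) L r = f r + M * y := fun y => by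
      rw [W.pv_split _ hr hu, he, W.map_orbVal, if_pos hps]
      simp [hd, mval, M]
    have hM' : mval (S.map f) (e'.take S.length) = M ^ W.q := by
      have e1 := hinv 1 (fun _ => h1q) r hr'
      rw [hval, mul_one, hadd, W.pv_split _ hpr' hu', he', W.map_orbVal, if_pos hps,
        hf r hr'] at e1
      simpa [hd', mval] using add_left_cancel e1
    have hsum : mval (S.map f) a = mval (S.map f) b := by
      refine W.eq_of_add ?_
      have key := W.sq_coeff hsq hL2 t (W.mem_take_idx ht)
      rw [pv_mons G, hab] at key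
      simpa using key
    have hXY : f r * M ^ W.q = f r ^ W.q * M := by
      refine mul_left_cancel₀ ha0 ?_
      rcases hk with hk | hk <;>
        have e2 := congrArg (mval (S.map f)) hk <;>
        simp only [mval_pad W, mval_comb, pow_one, mval_var W hr, mval_var W hpr', hM', hf r hr',
          ← hsum] at e2 <;>
        first | exact e2 | exact e2.symm
    refine ⟨f r / M, fun _ => ?_, ?_, fun h => ?_⟩
    · rw [div_pow, div_eq_div_iff (pow_ne_zero _ hM) hM]
      exact hXY.symm
    · rw [hval]; exact W.add0 (by rw [mul_div_cancel₀ _ hM])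
    · simpa [hM] using h
  | pf =>
    simp only [killOk, Bool.and_eq_true, Bool.not_eq_true', Nat.beq_eq] at hk
    obtain ⟨⟨hps, hpr⟩, hk⟩ := hk
    have hps' : P.p s ≠ s := fun e => by rw [e] at hps; simp at hps
    split at hk
    swap
    · simp at hk
    next a b hab =>
    simp only [Bool.and_eq_true, Bool.or_eq_true, beq_iff_eq] at hk
    obtain ⟨M, M', hM, hval⟩ : ∃ M M' : F, M ≠ 0 ∧ ∀ y,
        pv (S.map f ++ (P.orbOf s).map (W.orbVal s y)) L r = f r + (M * y + M' * y ^ W.q) := by
      rcases hk with ⟨⟨hda, hdb⟩, hsafe⟩ | ⟨⟨hdb, hda⟩, hsafe⟩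
      · refine ⟨_, mval (S.map f) (b.take S.length), safe_take W hN hsafe, fun y => ?_⟩
        rw [W.pv_split _ hr hu, hab, W.map_orbVal, if_neg hps']
        simp [hda, hdb, mval]
      · refine ⟨_, mval (S.map f) (a.take S.length), safe_take W hN hsafe, fun y => ?_⟩
        rw [W.pv_split _ hr hu, hab, W.map_orbVal, if_neg hps']
        simp [hda, hdb, mval, add_comm]
    have hrel : ∀ y : F, M * y + M' * y ^ W.q = M ^ W.q * y ^ W.q + M' ^ W.q * y := fun y => by
      have e1 := hinv y (fun h => absurd h hps') r hr'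
      rw [hpr, hval, hadd, hfr hpr, hadd, mul_pow, mul_pow, W.powq_powq] at e1
      exact add_left_cancel e1
    have hMM : M' = M ^ W.q := by
      obtain ⟨x, hx⟩ := W.exists_moved
      have e1 := hrel 1
      have e2 := hrel x
      rw [h1q] at e1
      have h3 : (M' - M ^ W.q) * (x ^ W.q - x) = 0 := by linear_combination e2 - x * e1
      rcases mul_eq_zero.mp h3 with h3 | h3
      · exact sub_eq_zero.mp h3
      · exact absurd (sub_eq_zero.mp h3) hx
    obtain ⟨c, hc⟩ := W.exists_trace hs
    refine ⟨c * f r / M, fun h => absurd h hps', ?_, fun h => ?_⟩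
    · rw [hval, hMM, ← mul_pow, mul_div_cancel₀ _ hM, mul_pow, hfr hpr, ← add_mul, hc, one_mul]
      exact W.add0 rfl
    · by_contra hne
      have hc0 : c = 0 := by simpa [hne, hM] using h
      simp [hc0, W.zero_powq] at hc
  | norm =>
    simp only [killOk, Bool.and_eq_true, Bool.not_eq_true', Nat.beq_eq] at hk
    obtain ⟨⟨hps, hpr⟩, hk⟩ := hk
    have hps' : P.p s ≠ s := fun e => by rw [e] at hps; simp at hps
    split at hk
    swap
    · simp at hk
    next e he =>
    simp only [Bool.and_eq_true, beq_iff_eq] at hk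
    obtain ⟨hd, hsafe⟩ := hk
    have hM := safe_take W hN hsafe
    set M := mval (S.map f) (e.take S.length)
    have hval : ∀ y, pv (S.map f ++ (P.orbOf s).map (W.orbVal s y)) L r =
        f r + M * (y * y ^ W.q) := fun y => by
      rw [W.pv_split _ hr hu, he, W.map_orbVal, if_neg hps']
      simp [hd, mval, M]
    have hMq : M ^ W.q = M := by
      have e1 := hinv 1 (fun _ => h1q) r hr'
      rw [hpr, hval, h1q, mul_one, mul_one, hadd, hfr hpr] at e1
      exact (add_left_cancel e1).symm
    obtain ⟨y, hy⟩ := W.exists_norm (c := f r / M) (by rw [div_pow, hfr hpr, hMq])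
    refine ⟨y, fun h => absurd h hps', ?_, fun h => ?_⟩
    · rw [hval, hy]; exact W.add0 (by rw [mul_div_cancel₀ _ hM])
    · simpa [h, hM] using hy.symm

/-- The check of a node is sound. -/
theorem node_covered {reps : List (List ℕ)} {R : List (GL D.Idx F)} {nodes : List Node} {idx : ℕ}
    (hrep : ∀ k < reps.length, (el G (reps.getD k []) fun _ => 1) ∈ R)
    (h : chkNode T P reps nodes idx = true)
    (hprev : ∀ j < idx,
      W.Covered R (nodes.getD j ([], [], .one)).1 (nodes.getD j ([], [], .one)).2.1) :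
    W.Covered R (nodes.getD idx ([], [], .one)).1 (nodes.getD idx ([], [], .one)).2.1 := by
  unfold chkNode at h
  generalize nodes.getD idx ([], [], Step.one) = node at h ⊢
  obtain ⟨S, N, st⟩ := node
  intro f hf hN hsq hne
  cases st with
  | rep k =>
    simp only [Bool.and_eq_true, decide_eq_true_eq, List.all_eq_true, List.contains_iff_mem,
      Nat.blt_eq] at h
    obtain ⟨⟨⟨ho, hall⟩, hk⟩, hred⟩ := h
    refine ⟨_, hrep k hk, ?_⟩
    rw [← W.red_sound hred]
    exact W.scale ho hf fun r hr => hN r (hall r hr)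
  | one =>
    simp only [List.isEmpty_iff] at h
    subst h
    exact absurd rfl hne
  | zero r v next =>
    simp only [Bool.and_eq_true, decide_eq_true_eq, Nat.blt_eq, List.all_eq_true,
      List.contains_iff_mem] at h
    obtain ⟨⟨⟨⟨⟨⟨⟨hn, hS⟩, hv⟩, hr⟩, ht⟩, htok⟩, htN⟩, hm⟩ := h
    split at hm
    swap
    · simp at hm
    next L hL =>
    split at hm
    swap
    · simp at hm
    next e heq =>
    have hvo := (W.okS_spec hS).2.2.1 v hv
    have hfv : f v = 0 := by
      by_contra hfv
      have key := W.sq_coeff hsq hL r (W.mem_take_idx hr)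
      rw [pv_mons G, heq] at key
      simp only [List.map_cons, List.map_nil, List.sum_cons, List.sum_nil, add_zero,
        List.append_nil] at key
      refine safe_take W (N := v :: P.p v :: N) (fun s hs => ?_) hm key
      rcases List.mem_cons.1 hs with rfl | hs
      · exact hfv
      rcases List.mem_cons.1 hs with rfl | hs
      · rw [hf v hvo]; exact pow_ne_zero _ hfv
      · exact hN s hs
    have e : el G (nodes.getD next ([], [], .one)).1 f = el G S f := by
      rw [ht, el_filter G _ _ _ fun s _ hs => ?_]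
      simp only [Bool.and_eq_false_iff, Bool.not_eq_false', Nat.beq_eq] at hs
      rcases hs with rfl | rfl
      · exact hfv
      · rw [hf v hvo, hfv, W.zero_powq]
    have := hprev next hn f hf (fun s hs => hN s (htN s hs))
    rw [e] at this
    exact this hsq hne
  | branch v next0 next1 =>
    simp only [Bool.and_eq_true, decide_eq_true_eq, Nat.blt_eq, List.all_eq_true,
      List.contains_iff_mem, Bool.or_eq_true, Nat.beq_eq] at h
    obtain ⟨⟨⟨⟨⟨⟨⟨⟨h0, h1⟩, hS⟩, hv⟩, ht0⟩, -⟩, hN0⟩, ht1⟩, hN1⟩ := h
    have hvo := (W.okS_spec hS).2.2.1 v hv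
    by_cases hfv : f v = 0
    · have e : el G (nodes.getD next0 ([], [], .one)).1 f = el G S f := by
        rw [ht0, el_filter G _ _ _ fun s _ hs => ?_]
        simp only [Bool.and_eq_false_iff, Bool.not_eq_false', Nat.beq_eq] at hs
        rcases hs with rfl | rfl
        · exact hfv
        · rw [hf v hvo, hfv, W.zero_powq]
      have := hprev next0 h0 f hf (fun s hs => hN s (hN0 s hs))
      rw [e] at this
      exact this hsq hne
    · have := hprev next1 h1 f hf (fun s hs => by
        rcases hN1 s hs with (h | rfl) | rfl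
        · exact hN s h
        · exact hfv
        · rw [hf v hvo]; exact pow_ne_zero _ hfv)
      rw [ht1] at this
      exact this hsq hne
  | kill kd s r next =>
    simp only [Bool.and_eq_true, Nat.blt_eq, List.contains_iff_mem, beq_iff_eq] at h
    obtain ⟨⟨⟨⟨⟨hn, hS⟩, hs⟩, ho⟩, hr⟩, hm⟩ := h
    split at hm
    swap
    · simp at hm
    next L hL =>
    simp only [Bool.and_eq_true, List.contains_iff_mem] at hm
    obtain ⟨⟨hfit, hu⟩, hk⟩ := hm
    obtain ⟨y, hy, hy0, hyr⟩ := W.exists_kill hS hf hN hsq hs ho hL hr hu hk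
    obtain ⟨hconj, hkH, hinv⟩ := W.conj_orbit hS hf hs ho hL hy
    refine W.conj_step (hprev next hn) hfit (fun i hi => env_nz W hN (fun hyok z hz => ?_) i hi)
      (fun t ht => ?_) hkH hconj hinv hsq hne
    · have hy1 : y ≠ 0 := fun e => hN r (List.contains_iff_mem.mp hyok) (hyr e)
      rw [W.map_orbVal] at hz
      split_ifs at hz <;> simp only [List.mem_cons, List.not_mem_nil, or_false] at hz
      · exact hz ▸ hy1
      · rcases hz with rfl | rfl
        exacts [hy1, pow_ne_zero _ hy1]
    · simp only [List.mem_cons, List.not_mem_nil, or_false] at ht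
      rcases ht with rfl | rfl
      · exact hy0
      · rw [hinv r ((W.okS_spec hS).2.2.1 r hr), hy0, W.zero_powq]
  | refl J next =>
    simp only [Bool.and_eq_true, Nat.blt_eq, List.all_eq_true] at h
    obtain ⟨⟨⟨⟨hn, hS⟩, hJ⟩, hlt⟩, hm⟩ := h
    split at hm
    swap
    · simp at hm
    next L hL =>
    have hconj : G.full.nw F (toFins D.rank (P.orbs.getD J [])) * el G S f *
        (G.full.nw F (toFins D.rank (P.orbs.getD J [])))⁻¹ =
          el G P.ord (pv (S.map f ++ []) L) := by
      rw [el, el, ← norm_sound G W.two0 hL, orbit_conj W hJ, wv_wordS G]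
      · rfl
      · intro x hx
        rw [wordS, List.mem_map] at hx
        obtain ⟨⟨a, b⟩, hab, rfl⟩ := hx
        exact hlt a (List.fst_mem_of_mem_zipIdx hab)
    refine W.conj_step (hprev next hn) hm (fun i hi => env_nz W hN (fun e => by simp at e) i hi)
      (fun t ht => absurd ht List.not_mem_nil) (W.hn J hJ) hconj ((W.fix_iff _).mp ?_) hsq hne
    rw [← hconj]
    exact fix_nw W (W.hH (W.hn J hJ)) (W.el_S_fix hS fun r hr => hf r ((W.okS_spec hS).2.2.1 r hr)).1
  | ones ops next =>
    simp only [Bool.and_eq_true, decide_eq_true_eq, Nat.blt_eq, List.all_eq_true,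
      List.contains_iff_mem] at h
    obtain ⟨⟨⟨⟨hn, ho⟩, hall⟩, htok⟩, hrun⟩ := h
    have hc := W.cj_trans (W.scale ho hf fun r hr => hN r (hall r hr)) (W.run_sound ops hrun)
    obtain ⟨k, hk, e⟩ := hc
    have := InvolReduce.conj_props G (k := k) hsq hne
    rw [e] at this
    obtain ⟨z, hz, hcj⟩ := hprev next hn (fun _ => 1) (fun r _ => (one_pow _).symm)
      (fun r _ => one_ne_zero) this.1 this.2
    exact ⟨z, hz, W.cj_trans ⟨k, hk, e⟩ hcj⟩

/-- Every checked node is covered. -/
theorem covered {reps : List (List ℕ)} {R : List (GL D.Idx F)} {nodes : List Node}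
    (hrep : ∀ k < reps.length, (el G (reps.getD k []) fun _ => 1) ∈ R)
    (h : ∀ idx < nodes.length, chkNode T P reps nodes idx = true) :
    ∀ idx < nodes.length,
      W.Covered R (nodes.getD idx ([], [], .one)).1 (nodes.getD idx ([], [], .one)).2.1 := by
  intro idx
  induction idx using Nat.strong_induction_on with
  | _ idx ih =>
    intro hidx
    exact W.node_covered hrep (h idx hidx) fun j hj => ih j hj (by omega)

end Setup

end Sound

end CfsgLib.Chev.InvolTwist
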