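import Cfsg.Agent.Chev.InvolTwistE6Ok5

/-! The certificate for `²E₆(q)`, `q` even, is correct. -/

set_option autoImplicit false
set_option maxRecDepth 100000

namespace CfsgLib.Chev.InvolTwist

theorem nodesE6_ok : ∀ idx < nodesE6.length, chkNode E6Data.tab patE6 repsE6 nodesE6 idx = true := by
  intro idx h
  have hl : nodesE6.length = 917 := by decide +kernel
  rw [hl] at h
  rcases lt_or_ge idx 50 with h0 | h0
  · exact List.all_eq_true.mp nodesE6_ok0 idx (List.mem_range'_1.mpr (by omega))
  rcases lt_or_ge idx 100 with h1 | h1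
  · exact List.all_eq_true.mp nodesE6_ok1 idx (List.mem_range'_1.mpr (by omega))
  rcases lt_or_ge idx 150 with h2 | h2
  · exact List.all_eq_true.mp nodesE6_ok2 idx (List.mem_range'_1.mpr (by omega))
  rcases lt_or_ge idx 200 with h3 | h3
  · exact List.all_eq_true.mp nodesE6_ok3 idx (List.mem_range'_1.mpr (by omega))
  rcases lt_or_ge idx 250 with h4 | h4
  · exact List.all_eq_true.mp nodesE6_ok4 idx (List.mem_range'_1.mpr (by omega))
  rcases lt_or_ge idx 300 with h5 | h5
  · exact List.all_eq_true.mp nodesE6_ok5 idx (List.mem_range'_1.mpr (by omega))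
  rcases lt_or_ge idx 350 with h6 | h6
  · exact List.all_eq_true.mp nodesE6_ok6 idx (List.mem_range'_1.mpr (by omega))
  rcases lt_or_ge idx 400 with h7 | h7
  · exact List.all_eq_true.mp nodesE6_ok7 idx (List.mem_range'_1.mpr (by omega))
  rcases lt_or_ge idx 450 with h8 | h8
  · exact List.all_eq_true.mp nodesE6_ok8 idx (List.mem_range'_1.mpr (by omega))
  rcases lt_or_ge idx 500 with h9 | h9
  · exact List.all_eq_true.mp nodesE6_ok9 idx (List.mem_range'_1.mpr (by omega))
  rcases lt_or_ge idx 550 with h10 | h10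
  · exact List.all_eq_true.mp nodesE6_ok10 idx (List.mem_range'_1.mpr (by omega))
  rcases lt_or_ge idx 600 with h11 | h11
  · exact List.all_eq_true.mp nodesE6_ok11 idx (List.mem_range'_1.mpr (by omega))
  rcases lt_or_ge idx 650 with h12 | h12
  · exact List.all_eq_true.mp nodesE6_ok12 idx (List.mem_range'_1.mpr (by omega))
  rcases lt_or_ge idx 700 with h13 | h13
  · exact List.all_eq_true.mp nodesE6_ok13 idx (List.mem_range'_1.mpr (by omega))
  rcases lt_or_ge idx 750 with h14 | h14
  · exact List.all_eq_true.mp nodesE6_ok14 idx (List.mem_range'_1.mpr (by omega))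
  rcases lt_or_ge idx 800 with h15 | h15
  · exact List.all_eq_true.mp nodesE6_ok15 idx (List.mem_range'_1.mpr (by omega))
  rcases lt_or_ge idx 850 with h16 | h16
  · exact List.all_eq_true.mp nodesE6_ok16 idx (List.mem_range'_1.mpr (by omega))
  rcases lt_or_ge idx 900 with h17 | h17
  · exact List.all_eq_true.mp nodesE6_ok17 idx (List.mem_range'_1.mpr (by omega))
  rcases lt_or_ge idx 917 with h18 | h18
  · exact List.all_eq_true.mp nodesE6_ok18 idx (List.mem_range'_1.mpr (by omega))
  omega

theorem patE6_ok : chkPat E6Data.tab patE6 = true := by decide +kernel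

theorem nodesE6_root : nodesE6.length = 917 ∧ (nodesE6.getD 916 ([], [], .one)).1 = patE6.ord ∧
    (nodesE6.getD 916 ([], [], .one)).2.1 = [] := by
  decide +kernel

end CfsgLib.Chev.InvolTwist
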