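import Cfsg.Agent.Chev.InvolTwist
import Cfsg.Agent.Chev.GoodAll

/-! Certificate for the involutions of `²E₆(q)`, `q` even. -/

set_option autoImplicit false
set_option maxRecDepth 100000

namespace CfsgLib.Chev.InvolTwist

/-- The twist of type `E₆`. -/
def patE6 : Pat where
  pi := [0, 1, 2, 5, 16, 3, 6, 17, 8, 19, 22, 11, 26, 30, 33, 35, 4, 7, 18, 9, 20, 23, 10, 21, 24, 25, 12, 27, 31, 34, 13, 28, 32, 14, 29, 15, 56, 42, 57, 39, 43, 58, 37, 40, 44, 59, 46, 47, 50, 61, 48, 51, 62, 53, 64, 67, 36, 38, 41, 45, 60, 49, 52, 63, 54, 65, 68, 55, 66, 69, 70, 71]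
  ord := [36, 56, 37, 42, 39, 46, 38, 57, 40, 43, 47, 41, 58, 44, 48, 50, 45, 59, 49, 61, 51, 52, 62, 53, 60, 54, 64, 63, 55, 67, 65, 66, 68, 69, 70, 71]
  rho := [5, 1, 4, 3, 2, 0]
  orbs := [[1], [3], [2, 4], [0, 5]]

/-- The representatives. -/
def repsE6 : List (List ℕ) := [[71], [68, 66], [55, 65, 67]]

/-- Part of the certificate. -/
def nodesE6_0 : List Node :=
  [([], [], .one),
   ([71], [71], .rep 0),
   ([71], [], .branch 71 0 1),
   ([70], [70], .ones [.n 0] 1),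
   ([70, 71], [70], .kill .ff 46 71 3),
   ([70, 71], [], .branch 70 2 4),
   ([69], [69], .ones [.n 1, .n 0] 1),
   ([69, 71], [69], .kill .ff 47 71 6),
   ([69, 70, 71], [69], .kill .ff 39 70 7),
   ([69, 70, 71], [], .branch 69 5 8),
   ([66, 68], [66, 68], .rep 1),
   ([66, 68, 71], [66, 68], .kill .pf 48 71 10),
   ([66, 68, 70, 71], [66, 68], .kill .pf 40 70 11),
   ([66, 68, 69, 70, 71], [66, 68], .kill .pf 37 69 12),
   ([66, 68, 69, 70, 71], [], .branch 66 9 13),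
   ([65], [65], .ones [.n 2, .n 1, .n 0] 1),
   ([66, 68, 69], [66, 68, 69], .kill .pf 37 69 10),
   ([65, 66, 68], [65, 66, 68], .refl 2 16),
   ([65, 69], [65, 69], .kill .norm 37 69 17),
   ([65, 69], [65], .branch 69 15 18),
   ([65, 69, 71], [65], .kill .ff 51 71 19),
   ([65, 69, 70, 71], [65], .kill .ff 44 70 20),
   ([65, 66, 68, 69, 70, 71], [65], .kill (.pp false) 37 66 21),
   ([65, 66, 68, 69, 70, 71], [], .branch 65 14 22),
   ([55, 67], [55, 67], .ones [.n 3] 10),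
   ([55, 67, 65], [55, 67, 65], .rep 2),
   ([55, 67, 65], [55, 67], .branch 65 24 25),
   ([55, 67, 65, 71], [55, 67], .kill .pf 49 71 26),
   ([55, 67, 65, 70, 71], [55, 67], .kill .pf 41 70 27),
   ([55, 67, 65, 69, 70, 71], [55, 67], .kill .pf 38 69 28),
   ([55, 67, 65, 66, 68, 69, 70, 71], [55, 67], .kill (.pp true) 36 66 29),
   ([55, 67, 65, 66, 68, 69, 70, 71], [], .branch 55 23 30),
   ([63], [63], .ones [.n 1, .n 2, .n 1, .n 0] 1),
   ([63, 70], [63, 70], .refl 1 18),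
   ([63, 70], [63], .branch 70 32 33),
   ([63, 55, 67], [63, 55, 67], .ones [.n 1] 25),
   ([63, 55, 67, 70], [63, 55, 67], .kill .pf 41 70 35),
   ([63, 55, 67, 70], [63], .branch 55 34 36),
   ([63, 55, 67, 70, 71], [63], .kill .ff 53 71 37),
   ([63, 55, 67, 69, 70, 71], [63], .kill .ff 44 69 38)]

/-- Part of the certificate. -/
def nodesE6_1 : List Node :=
  [([63, 55, 67, 66, 68, 69, 70, 71], [63], .kill (.pp false) 40 66 39),
   ([63, 55, 67, 65, 66, 68, 69, 70, 71], [63], .kill .ff 39 65 40),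
   ([63, 55, 67, 65, 66, 68, 69, 70, 71], [], .branch 63 31 41),
   ([54, 64], [54, 64], .ones [.n 2, .n 3] 10),
   ([54, 64, 69], [54, 64, 69], .ones [.n 2] 25),
   ([54, 64, 69], [54, 64], .branch 69 43 44),
   ([54, 64, 63], [54, 64, 63], .ones [.n 2, .n 1] 25),
   ([54, 64, 63, 69], [54, 64, 63], .kill .ff 44 69 46),
   ([54, 64, 63, 69], [54, 64], .branch 63 45 47),
   ([54, 64, 63, 69, 71], [54, 64], .kill .pf 52 71 48),
   ([54, 64, 63, 69, 70, 71], [54, 64], .kill .pf 45 70 49),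
   ([54, 64, 63, 66, 68, 69, 70, 71], [54, 64], .kill (.pp false) 38 66 50),
   ([54, 64, 63, 65, 66, 68, 69, 70, 71], [54, 64], .kill .pf 36 65 51),
   ([54, 64, 63, 55, 67, 65, 66, 68, 69, 70, 71], [54, 64], .kill (.pp false) 37 55 52),
   ([54, 64, 63, 55, 67, 65, 66, 68, 69, 70, 71], [], .branch 54 42 53),
   ([60], [60], .ones [.n 0, .n 1, .n 2, .n 1, .n 0] 1),
   ([60, 71], [60, 71], .refl 0 33),
   ([60, 71], [60], .branch 71 55 56),
   ([60, 55, 67], [60, 55, 67], .ones [.n 0, .n 1] 25),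
   ([60, 55, 67, 71], [60, 55, 67], .kill .pf 49 71 58),
   ([60, 55, 67, 71], [60], .branch 55 57 59),
   ([60, 54, 64], [60, 54, 64], .ones [.n 0, .n 2, .n 1] 25),
   ([60, 54, 64, 71], [60, 54, 64], .kill .pf 52 71 61),
   ([60, 54, 64, 55, 67, 71], [60, 54, 64], .kill (.pp false) 37 55 62),
   ([60, 54, 64, 55, 67, 71], [60], .branch 54 60 63),
   ([60, 54, 64, 55, 67, 70, 71], [60], .kill .ff 53 70 64),
   ([60, 54, 64, 55, 67, 69, 70, 71], [60], .kill .ff 51 69 65),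
   ([60, 54, 64, 55, 67, 66, 68, 69, 70, 71], [60], .kill (.pp false) 48 66 66),
   ([60, 54, 64, 55, 67, 65, 66, 68, 69, 70, 71], [60], .kill .ff 47 65 67),
   ([60, 54, 64, 63, 55, 67, 65, 66, 68, 69, 70, 71], [60], .kill .ff 46 63 68),
   ([60, 54, 64, 63, 55, 67, 65, 66, 68, 69, 70, 71], [], .branch 60 54 69),
   ([53], [53], .ones [.n 3, .n 2, .n 1, .n 0] 1),
   ([53, 69], [53, 69], .ones [.n 1, .n 0, .n 3] 56),
   ([53, 69], [53], .branch 69 71 72),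
   ([53, 66, 68], [53, 66, 68], .ones [.n 3] 25),
   ([53, 66, 68, 69], [53, 66, 68], .kill .pf 37 69 74),
   ([53, 66, 68, 69], [53], .branch 66 73 75),
   ([53, 65], [53, 65], .ones [.n 2, .n 1, .n 0, .n 3] 56),
   ([53, 65, 69], [53, 65, 69], .ones [.n 1, .n 0, .n 0, .n 1, .x 36, .n 3, .n 2, .x 36, .x 37] 25),
   ([53, 65, 69], [53, 65], .branch 69 77 78)]

/-- Part of the certificate. -/
def nodesE6_2 : List Node :=
  [([53, 65, 66, 68, 69], [53, 65], .kill (.pp false) 37 66 79),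
   ([53, 65, 66, 68, 69], [53], .branch 65 76 80),
   ([53, 65, 66, 68, 69, 71], [53], .kill .ff 63 71 81),
   ([53, 65, 66, 68, 69, 70, 71], [53], .kill .ff 60 70 82),
   ([53, 55, 67, 65, 66, 68, 69, 70, 71], [53], .kill (.pp false) 38 55 83),
   ([53, 54, 64, 55, 67, 65, 66, 68, 69, 70, 71], [53], .kill (.pp false) 36 54 84),
   ([53, 54, 64, 63, 55, 67, 65, 66, 68, 69, 70, 71], [53], .zero 71 63 85),
   ([53, 60, 54, 64, 63, 55, 67, 65, 66, 68, 69, 70, 71], [53], .zero 70 60 86),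
   ([53, 60, 54, 64, 63, 55, 67, 65, 66, 68, 69, 70, 71], [], .branch 53 70 87),
   ([52, 62], [52, 62], .ones [.n 1, .n 2, .n 3] 10),
   ([52, 62, 70], [52, 62, 70], .ones [.n 1, .n 2] 25),
   ([52, 62, 70], [52, 62], .branch 70 89 90),
   ([52, 62, 65], [52, 62, 65], .ones [.n 1, .n 2, .n 1] 25),
   ([52, 62, 65, 70], [52, 62, 65], .kill .ff 44 70 92),
   ([52, 62, 65, 70], [52, 62], .branch 65 91 93),
   ([52, 62, 65, 70, 71], [52, 62, 71], .kill .pf 54 71 94),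
   ([52, 62, 54, 64, 65, 70], [52, 62, 54, 64], .kill (.fp 71) 39 54 95),
   ([52, 62, 54, 64, 65, 70], [52, 62], .branch 54 94 96),
   ([52, 62, 60], [52, 62, 60], .ones [.n 1, .n 0, .n 2, .n 1] 25),
   ([52, 62, 60, 71], [52, 62, 60, 71], .kill .pf 54 71 98),
   ([52, 62, 60, 54, 64], [52, 62, 60, 54, 64], .kill (.fp 71) 39 54 99),
   ([52, 62, 60, 54, 64], [52, 62, 60], .branch 54 98 100),
   ([52, 62, 60, 54, 64, 70], [52, 62, 60], .kill .ff 53 70 101),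
   ([52, 62, 60, 54, 64, 65, 70], [52, 62, 60], .kill .ff 47 65 102),
   ([52, 62, 60, 54, 64, 65, 70], [52, 62], .branch 60 97 103),
   ([52, 62, 60, 54, 64, 63, 65, 70], [52, 62], .kill .pf 36 63 104),
   ([52, 62, 53], [52, 62, 53], .ones [.n 1, .n 3, .n 2, .n 1] 25),
   ([52, 62, 53, 65], [52, 62, 53, 65], .ones [.n 2, .n 1, .n 0, .n 3, .n 0, .n 1, .n 3, .n 2, .x 36, .n 3, .x 39, .n 1, .n 2, .n 1, .x 51] 25),
   ([52, 62, 53, 65], [52, 62, 53], .branch 65 106 107),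
   ([52, 62, 53, 65, 71], [52, 62, 53], .kill .pf 54 71 108),
   ([52, 62, 53, 65, 70, 71], [52, 62, 53], .kill .ff 60 70 109),
   ([52, 62, 53, 63, 65, 70, 71], [52, 62, 53], .zero 71 63 110),
   ([52, 62, 53, 54, 64, 63, 65, 70], [52, 62, 53], .kill (.pp false) 36 54 111),
   ([52, 62, 53, 60, 54, 64, 63, 65, 70], [52, 62, 53], .zero 70 60 112),
   ([52, 62, 53, 60, 54, 64, 63, 65, 70], [52, 62], .branch 53 105 113),
   ([52, 62, 53, 60, 54, 64, 63, 65, 70, 71], [52, 62], .kill .pf 54 71 114),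
   ([52, 62, 53, 60, 54, 64, 63, 65, 69, 70, 71], [52, 62], .kill .pf 45 69 115),
   ([52, 62, 53, 60, 54, 64, 63, 65, 66, 68, 69, 70, 71], [52, 62], .kill (.pp false) 41 66 116),
   ([52, 62, 53, 60, 54, 64, 63, 55, 67, 65, 66, 68, 69, 70, 71], [52, 62], .kill (.pp false) 40 55 117),
   ([52, 62, 53, 60, 54, 64, 63, 55, 67, 65, 66, 68, 69, 70, 71], [], .branch 52 88 118)]

/-- Part of the certificate. -/
def nodesE6_3 : List Node :=
  [([51], [51], .ones [.n 1, .n 3, .n 2, .n 1, .n 0] 1),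
   ([51, 70], [51, 70], .ones [.n 0, .n 3] 56),
   ([51, 70], [51], .branch 70 120 121),
   ([51, 66, 68], [51, 66, 68], .ones [.n 1, .n 3] 25),
   ([51, 66, 68, 70], [51, 66, 68], .kill .pf 40 70 123),
   ([51, 66, 68, 70], [51], .branch 66 122 124),
   ([51, 63], [51, 63], .ones [.n 1, .n 2, .n 1, .n 0, .n 3] 56),
   ([51, 63, 70], [51, 63, 70], .ones [.n 0, .n 0, .n 1, .x 36, .n 3, .n 2, .x 36, .x 37] 25),
   ([51, 63, 70], [51, 63], .branch 70 126 127),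
   ([51, 63, 66, 68, 70], [51, 63], .kill (.pp false) 40 66 128),
   ([51, 63, 66, 68, 70], [51], .branch 63 125 129),
   ([51, 54, 64], [51, 54, 64], .ones [.n 3, .n 2, .n 1] 25),
   ([51, 54, 64, 63], [51, 54, 64, 63], .ones [.n 1, .n 2, .n 1, .n 0, .n 3, .n 0, .n 1, .n 3, .n 2, .x 36, .n 3, .x 39, .n 1, .n 2, .n 1, .x 51] 25),
   ([51, 54, 64, 63], [51, 54, 64], .branch 63 131 132),
   ([51, 54, 64, 63, 70], [51, 54, 64], .kill .pf 45 70 133),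
   ([51, 54, 64, 63, 66, 68, 70], [51, 54, 64], .kill (.pp false) 38 66 134),
   ([51, 54, 64, 63, 66, 68, 70], [51], .branch 54 130 135),
   ([51, 54, 64, 63, 66, 68, 70, 71], [51], .kill .ff 65 71 136),
   ([51, 54, 64, 63, 66, 68, 69, 70, 71], [51], .kill .ff 60 69 137),
   ([51, 54, 64, 63, 55, 67, 66, 68, 69, 70, 71], [51], .kill (.pp false) 41 55 138),
   ([51, 54, 64, 63, 55, 67, 65, 66, 68, 69, 70, 71], [51], .zero 71 65 139),
   ([51, 53, 54, 64, 63, 55, 67, 65, 66, 68, 69, 70, 71], [51], .kill .ff 39 53 140),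
   ([51, 52, 62, 53, 54, 64, 63, 55, 67, 65, 66, 68, 69, 70, 71], [51], .kill (.pp false) 36 52 141),
   ([51, 52, 62, 53, 60, 54, 64, 63, 55, 67, 65, 66, 68, 69, 70, 71], [51], .zero 69 60 142),
   ([51, 52, 62, 53, 60, 54, 64, 63, 55, 67, 65, 66, 68, 69, 70, 71], [], .branch 51 119 143),
   ([49, 61], [49, 61], .ones [.n 2, .n 1, .n 2, .n 3] 10),
   ([49, 61, 70], [49, 61, 70], .ones [.n 2, .n 1, .n 2] 25),
   ([49, 61, 70], [49, 61], .branch 70 145 146),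
   ([49, 61, 69], [49, 61, 69], .ones [.n 1, .n 2, .n 1, .n 2] 25),
   ([49, 61, 69, 70], [49, 61, 69], .kill .ff 39 70 148),
   ([49, 61, 69, 70], [49, 61], .branch 69 147 149),
   ([49, 61, 69, 70, 71], [49, 61, 71], .kill .pf 55 71 150),
   ([49, 61, 55, 67, 69, 70], [49, 61, 55, 67], .kill (.fp 71) 44 55 151),
   ([49, 61, 55, 67, 69, 70], [49, 61], .branch 55 150 152),
   ([49, 61, 60], [49, 61, 60], .ones [.n 2, .n 1, .n 0, .n 2, .n 1] 25),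
   ([49, 61, 60, 71], [49, 61, 60, 71], .kill .pf 55 71 154),
   ([49, 61, 60, 55, 67], [49, 61, 60, 55, 67], .kill (.fp 71) 44 55 155),
   ([49, 61, 60, 55, 67], [49, 61, 60], .branch 55 154 156),
   ([49, 61, 60, 55, 67, 70], [49, 61, 60], .kill .ff 53 70 157),
   ([49, 61, 60, 55, 67, 69, 70], [49, 61, 60], .kill .ff 51 69 158)]

/-- Part of the certificate. -/
def nodesE6_4 : List Node :=
  [([49, 61, 60, 55, 67, 69, 70], [49, 61], .branch 60 153 159),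
   ([49, 61, 53], [49, 61, 53], .ones [.n 2, .n 1, .n 3, .n 2, .n 1] 25),
   ([49, 61, 53, 69], [49, 61, 53, 69], .ones [.n 1, .n 0, .n 3, .n 0, .n 1, .n 3, .n 2, .x 36, .n 3, .x 39, .n 1, .n 2, .n 1, .x 51] 25),
   ([49, 61, 53, 69], [49, 61, 53], .branch 69 161 162),
   ([49, 61, 53, 69, 71], [49, 61, 53, 71], .kill .ff 63 71 163),
   ([49, 61, 53, 55, 67, 69], [49, 61, 53, 55, 67], .kill (.fp 71) 44 55 164),
   ([49, 61, 53, 55, 67, 69], [49, 61, 53], .branch 55 163 165),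
   ([49, 61, 53, 55, 67, 69, 70], [49, 61, 53], .kill .ff 60 70 166),
   ([49, 61, 53, 60, 55, 67, 69, 70], [49, 61, 53], .zero 70 60 167),
   ([49, 61, 53, 60, 55, 67, 69, 70], [49, 61], .branch 53 160 168),
   ([49, 61, 53, 60, 55, 67, 65, 69, 70], [49, 61], .kill .pf 41 65 169),
   ([49, 61, 51], [49, 61, 51], .ones [.n 1, .n 2, .n 1, .n 3, .n 2, .n 1] 25),
   ([49, 61, 51, 70], [49, 61, 51, 70], .ones [.n 0, .n 3, .n 0, .n 1, .n 3, .n 2, .x 36, .n 3, .x 39, .n 1, .n 2, .n 1, .x 51] 25),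
   ([49, 61, 51, 70], [49, 61, 51], .branch 70 171 172),
   ([49, 61, 51, 70, 71], [49, 61, 51], .kill .pf 55 71 173),
   ([49, 61, 51, 69, 70, 71], [49, 61, 51], .kill .ff 60 69 174),
   ([49, 61, 51, 65, 69, 70, 71], [49, 61, 51], .zero 71 65 175),
   ([49, 61, 51, 55, 67, 65, 69, 70], [49, 61, 51], .kill (.pp false) 41 55 176),
   ([49, 61, 51, 53, 55, 67, 65, 69, 70], [49, 61, 51], .kill .ff 39 53 177),
   ([49, 61, 51, 53, 60, 55, 67, 65, 69, 70], [49, 61, 51], .zero 69 60 178),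
   ([49, 61, 51, 53, 60, 55, 67, 65, 69, 70], [49, 61], .branch 51 170 179),
   ([49, 61, 51, 53, 60, 55, 67, 65, 69, 70, 71], [49, 61], .kill .pf 55 71 180),
   ([49, 61, 51, 53, 60, 55, 67, 65, 66, 68, 69, 70, 71], [49, 61], .kill (.pp true) 45 66 181),
   ([49, 61, 51, 53, 60, 63, 55, 67, 65, 66, 68, 69, 70, 71], [49, 61], .kill .pf 38 63 182),
   ([49, 61, 51, 53, 60, 54, 64, 63, 55, 67, 65, 66, 68, 69, 70, 71], [49, 61], .kill (.pp true) 40 54 183),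
   ([49, 61, 51, 52, 62, 53, 60, 54, 64, 63, 55, 67, 65, 66, 68, 69, 70, 71], [49, 61], .kill (.pp true) 37 52 184),
   ([49, 61, 51, 52, 62, 53, 60, 54, 64, 63, 55, 67, 65, 66, 68, 69, 70, 71], [], .branch 49 144 185),
   ([45, 59], [45, 59], .ones [.n 0, .n 1, .n 2, .n 3] 10),
   ([45, 59, 71], [45, 59, 71], .ones [.n 0, .n 1, .n 2] 25),
   ([45, 59, 71], [45, 59], .branch 71 187 188),
   ([45, 59, 65], [45, 59, 65], .ones [.n 0, .n 1, .n 2, .n 1] 25),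
   ([45, 59, 65, 71], [45, 59, 65], .kill .ff 51 71 190),
   ([45, 59, 65, 71], [45, 59], .branch 65 189 191),
   ([45, 59, 63], [45, 59, 63], .ones [.n 0, .n 1, .n 0, .n 2, .n 1] 25),
   ([45, 59, 63, 71], [45, 59, 63], .kill .ff 53 71 193),
   ([45, 59, 63, 65, 71], [45, 59, 63], .kill .ff 39 65 194),
   ([45, 59, 63, 65, 71], [45, 59], .branch 63 192 195),
   ([45, 59, 63, 65, 70, 71], [45, 59, 70], .kill .pf 54 70 196),
   ([45, 59, 54, 64, 63, 65, 71], [45, 59, 54, 64], .kill (.fp 70) 47 54 197),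
   ([45, 59, 54, 64, 63, 65, 71], [45, 59], .branch 54 196 198)]

/-- Part of the certificate. -/
def nodesE6_5 : List Node :=
  [([45, 59, 53], [45, 59, 53], .ones [.n 0, .n 1, .n 3, .n 2, .n 1] 25),
   ([45, 59, 53, 65], [45, 59, 53, 65], .ones [.n 0, .n 2, .n 1, .n 0, .n 3, .n 0, .n 1, .n 3, .n 2, .x 36, .n 3, .x 39, .n 1, .n 2, .n 1, .x 51] 25),
   ([45, 59, 53, 65], [45, 59, 53], .branch 65 200 201),
   ([45, 59, 53, 65, 70], [45, 59, 53, 70], .kill .ff 60 70 202),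
   ([45, 59, 53, 54, 64, 65], [45, 59, 53, 54, 64], .kill (.fp 70) 47 54 203),
   ([45, 59, 53, 54, 64, 65], [45, 59, 53], .branch 54 202 204),
   ([45, 59, 53, 54, 64, 65, 71], [45, 59, 53], .kill .ff 63 71 205),
   ([45, 59, 53, 54, 64, 63, 65, 71], [45, 59, 53], .zero 71 63 206),
   ([45, 59, 53, 54, 64, 63, 65, 71], [45, 59], .branch 53 199 207),
   ([45, 59, 53, 54, 64, 63, 65, 69, 71], [45, 59, 69], .kill .pf 52 69 208),
   ([45, 59, 52, 62, 53, 54, 64, 63, 65, 71], [45, 59, 52, 62], .kill (.fp 69) 46 52 209),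
   ([45, 59, 52, 62, 53, 54, 64, 63, 65, 71], [45, 59], .branch 52 208 210),
   ([45, 59, 52, 62, 53, 54, 64, 63, 65, 70, 71], [45, 59], .kill .pf 54 70 211),
   ([45, 59, 52, 62, 53, 60, 54, 64, 63, 65, 71], [45, 59], .kill .pf 36 60 212),
   ([45, 59, 51], [45, 59, 51], .ones [.n 0, .n 1, .n 0, .n 3, .n 2, .n 1] 25),
   ([45, 59, 51, 63], [45, 59, 51, 63], .ones [.n 1, .n 0, .n 2, .n 1, .n 0, .n 3, .n 0, .n 1, .n 3, .n 2, .x 36, .n 3, .x 39, .n 1, .n 2, .n 1, .x 51] 25),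
   ([45, 59, 51, 63], [45, 59, 51], .branch 63 214 215),
   ([45, 59, 51, 63, 70], [45, 59, 51, 70], .kill .pf 54 70 216),
   ([45, 59, 51, 54, 64, 63], [45, 59, 51, 54, 64], .kill (.fp 70) 47 54 217),
   ([45, 59, 51, 54, 64, 63], [45, 59, 51], .branch 54 216 218),
   ([45, 59, 51, 54, 64, 63, 71], [45, 59, 51], .kill .ff 65 71 219),
   ([45, 59, 51, 54, 64, 63, 70, 71], [45, 59, 51], .kill .pf 54 70 220),
   ([45, 59, 51, 54, 64, 63, 69, 70, 71], [45, 59, 51], .kill .pf 52 69 221),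
   ([45, 59, 51, 54, 64, 63, 65, 69, 70, 71], [45, 59, 51], .zero 71 65 222),
   ([45, 59, 51, 53, 54, 64, 63, 65, 69, 70, 71], [45, 59, 51], .kill .ff 39 53 223),
   ([45, 59, 51, 53, 60, 54, 64, 63, 65, 69, 70, 71], [45, 59, 51], .zero 69 60 224),
   ([45, 59, 51, 52, 62, 53, 60, 54, 64, 63, 65, 71], [45, 59, 51], .kill (.pp false) 36 52 225),
   ([45, 59, 51, 52, 62, 53, 60, 54, 64, 63, 65, 71], [45, 59], .branch 51 213 226),
   ([45, 59, 51, 52, 62, 53, 60, 54, 64, 63, 65, 70, 71], [45, 59], .kill .pf 54 70 227),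
   ([45, 59, 51, 52, 62, 53, 60, 54, 64, 63, 65, 69, 70, 71], [45, 59], .kill .pf 52 69 228),
   ([45, 59, 51, 52, 62, 53, 60, 54, 64, 63, 65, 66, 68, 69, 70, 71], [45, 59], .kill (.pp false) 49 66 229),
   ([45, 59, 51, 52, 62, 53, 60, 54, 64, 63, 55, 67, 65, 66, 68, 69, 70, 71], [45, 59], .kill (.pp false) 48 55 230),
   ([45, 59, 49, 61, 51, 52, 62, 53, 60, 54, 64, 63, 55, 67, 65, 66, 68, 69, 70, 71], [45, 59], .zero 66 49 231),
   ([45, 59, 49, 61, 51, 52, 62, 53, 60, 54, 64, 63, 55, 67, 65, 66, 68, 69, 70, 71], [], .branch 45 186 232),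
   ([48, 50], [48, 50], .ones [.n 3, .n 2, .n 1, .n 2, .n 3] 10),
   ([48, 50, 70], [48, 50, 70], .ones [.n 3, .n 2, .n 1, .n 2] 25),
   ([48, 50, 70], [48, 50], .branch 70 234 235),
   ([48, 50, 69], [48, 50, 69], .ones [.n 1, .n 3, .n 2, .n 1, .n 2] 25),
   ([48, 50, 69, 70], [48, 50, 69], .kill .ff 39 70 237),
   ([48, 50, 69, 70], [48, 50], .branch 69 236 238)]

/-- Part of the certificate. -/
def nodesE6_6 : List Node :=
  [([48, 50, 69, 70, 71], [48, 50, 71], .kill .pf 66 71 239),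
   ([48, 50, 66, 68, 69, 70], [48, 50, 66, 68], .kill (.fp 71) 60 66 240),
   ([48, 50, 66, 68, 69, 70], [48, 50], .branch 66 239 241),
   ([48, 50, 65], [48, 50, 65], .ones [.n 2, .n 1, .n 3, .n 2, .n 1, .n 2] 25),
   ([48, 50, 65, 69], [48, 50, 65, 69], .ones [.n 1, .n 0, .n 0, .n 1, .n 3, .n 2, .x 36, .n 3, .x 39, .n 1, .n 2, .n 1, .x 51] 25),
   ([48, 50, 65, 69], [48, 50, 65], .branch 69 243 244),
   ([48, 50, 65, 69, 71], [48, 50, 65, 71], .kill .ff 51 71 245),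
   ([48, 50, 65, 66, 68, 69], [48, 50, 65, 66, 68], .kill (.fp 71) 60 66 246),
   ([48, 50, 65, 66, 68, 69], [48, 50, 65], .branch 66 245 247),
   ([48, 50, 65, 66, 68, 69, 70], [48, 50, 65], .kill .ff 44 70 248),
   ([48, 50, 65, 66, 68, 69, 70], [48, 50], .branch 65 242 249),
   ([48, 50, 63], [48, 50, 63], .ones [.n 1, .n 2, .n 1, .n 3, .n 2, .n 1, .n 2] 25),
   ([48, 50, 63, 70], [48, 50, 63, 70], .ones [.n 0, .n 0, .n 1, .n 3, .n 2, .x 36, .n 3, .x 39, .n 1, .n 2, .n 1, .x 51] 25),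
   ([48, 50, 63, 70], [48, 50, 63], .branch 70 251 252),
   ([48, 50, 63, 70, 71], [48, 50, 63, 71], .kill .ff 53 71 253),
   ([48, 50, 63, 66, 68, 70], [48, 50, 63, 66, 68], .kill (.fp 71) 60 66 254),
   ([48, 50, 63, 66, 68, 70], [48, 50, 63], .branch 66 253 255),
   ([48, 50, 63, 66, 68, 69, 70], [48, 50, 63], .kill .ff 44 69 256),
   ([48, 50, 63, 65, 66, 68, 69, 70], [48, 50, 63], .kill .ff 39 65 257),
   ([48, 50, 63, 65, 66, 68, 69, 70], [48, 50], .branch 63 250 258),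
   ([48, 50, 63, 65, 66, 68, 69, 70, 71], [48, 50], .kill .pf 66 71 259),
   ([48, 50, 63, 55, 67, 65, 66, 68, 69, 70, 71], [48, 50], .kill (.pp false) 45 55 260),
   ([48, 50, 54, 64, 63, 55, 67, 65, 66, 68, 69, 70, 71], [48, 50], .kill (.pp false) 41 54 261),
   ([48, 50, 53, 54, 64, 63, 55, 67, 65, 66, 68, 69, 70, 71], [48, 50], .kill .pf 40 53 262),
   ([48, 50, 52, 62, 53, 54, 64, 63, 55, 67, 65, 66, 68, 69, 70, 71], [48, 50], .kill (.pp false) 38 52 263),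
   ([48, 50, 51, 52, 62, 53, 54, 64, 63, 55, 67, 65, 66, 68, 69, 70, 71], [48, 50], .kill .pf 37 51 264),
   ([48, 50, 49, 61, 51, 52, 62, 53, 54, 64, 63, 55, 67, 65, 66, 68, 69, 70, 71], [48, 50], .kill (.pp false) 36 49 265),
   ([48, 50, 49, 61, 51, 52, 62, 53, 60, 54, 64, 63, 55, 67, 65, 66, 68, 69, 70, 71], [48, 50], .zero 66 60 266),
   ([48, 50, 45, 59, 49, 61, 51, 52, 62, 53, 60, 54, 64, 63, 55, 67, 65, 66, 68, 69, 70, 71], [48, 50], .zero 55 45 267),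
   ([48, 50, 45, 59, 49, 61, 51, 52, 62, 53, 60, 54, 64, 63, 55, 67, 65, 66, 68, 69, 70, 71], [], .branch 48 233 268),
   ([44], [44], .ones [.n 0, .n 1, .n 3, .n 2, .n 1, .n 0] 1),
   ([44, 71], [44, 71], .ones [.n 3] 56),
   ([44, 71], [44], .branch 71 270 271),
   ([44, 66, 68], [44, 66, 68], .ones [.n 0, .n 1, .n 3] 25),
   ([44, 66, 68, 71], [44, 66, 68], .kill .pf 48 71 273),
   ([44, 66, 68, 71], [44], .branch 66 272 274),
   ([44, 54, 64], [44, 54, 64], .ones [.n 0, .n 3, .n 2, .n 1] 25),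
   ([44, 54, 64, 71], [44, 54, 64], .kill .pf 52 71 276),
   ([44, 54, 64, 66, 68, 71], [44, 54, 64], .kill (.pp false) 38 66 277),
   ([44, 54, 64, 66, 68, 71], [44], .branch 54 275 278)]

/-- Part of the certificate. -/
def nodesE6_7 : List Node :=
  [([44, 60], [44, 60], .ones [.n 0, .n 1, .n 2, .n 1, .n 0, .n 3] 56),
   ([44, 60, 71], [44, 60, 71], .ones [.n 0, .n 1, .x 36, .n 3, .n 2, .x 36, .x 37] 25),
   ([44, 60, 71], [44, 60], .branch 71 280 281),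
   ([44, 60, 54, 64], [44, 60, 54, 64], .ones [.n 0, .n 1, .n 2, .n 1, .n 0, .n 3, .n 0, .n 1, .n 3, .n 2, .x 36, .n 3, .x 39, .n 1, .n 2, .n 1, .x 51] 25),
   ([44, 60, 54, 64, 71], [44, 60, 54, 64], .kill .pf 52 71 283),
   ([44, 60, 54, 64, 71], [44, 60], .branch 54 282 284),
   ([44, 60, 54, 64, 66, 68, 71], [44, 60], .kill (.pp false) 48 66 285),
   ([44, 60, 54, 64, 66, 68, 71], [44], .branch 60 279 286),
   ([44, 52, 62], [44, 52, 62], .ones [.n 1, .n 0, .n 3, .n 2, .n 1] 25),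
   ([44, 52, 62, 71], [44, 52, 62, 71], .kill .pf 54 71 288),
   ([44, 52, 62, 54, 64], [44, 52, 62, 54, 64], .kill (.fp 71) 39 54 289),
   ([44, 52, 62, 54, 64], [44, 52, 62], .branch 54 288 290),
   ([44, 52, 62, 60], [44, 52, 62, 60], .ones [.n 0, .n 1, .n 0, .n 2, .n 1, .n 0, .n 3, .n 0, .n 1, .n 3, .n 2, .x 36, .n 3, .x 39, .n 1, .n 2, .n 1, .x 51] 25),
   ([44, 52, 62, 60, 71], [44, 52, 62, 60, 71], .kill .pf 54 71 292),
   ([44, 52, 62, 60, 54, 64], [44, 52, 62, 60, 54, 64], .kill (.fp 71) 39 54 293),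
   ([44, 52, 62, 60, 54, 64], [44, 52, 62, 60], .branch 54 292 294),
   ([44, 52, 62, 60, 54, 64], [44, 52, 62], .branch 60 291 295),
   ([44, 52, 62, 60, 54, 64, 71], [44, 52, 62], .kill .pf 54 71 296),
   ([44, 52, 62, 60, 54, 64, 66, 68, 71], [44, 52, 62], .kill (.pp false) 41 66 297),
   ([44, 52, 62, 60, 54, 64, 66, 68, 71], [44], .branch 52 287 298),
   ([44, 48, 50], [44, 48, 50], .ones [.n 3, .n 2, .n 1, .n 0, .n 2, .n 1] 25),
   ([44, 48, 50, 71], [44, 48, 50, 71], .kill .pf 66 71 300),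
   ([44, 48, 50, 66, 68], [44, 48, 50, 66, 68], .kill (.fp 71) 60 66 301),
   ([44, 48, 50, 66, 68], [44, 48, 50], .branch 66 300 302),
   ([44, 48, 50, 66, 68, 71], [44, 48, 50], .kill .pf 66 71 303),
   ([44, 48, 50, 54, 64, 66, 68, 71], [44, 48, 50], .kill (.pp false) 41 54 304),
   ([44, 48, 50, 52, 62, 54, 64, 66, 68, 71], [44, 48, 50], .kill (.pp false) 38 52 305),
   ([44, 48, 50, 52, 62, 60, 54, 64, 66, 68, 71], [44, 48, 50], .zero 66 60 306),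
   ([44, 48, 50, 52, 62, 60, 54, 64, 66, 68, 71], [44], .branch 48 299 307),
   ([44, 48, 50, 52, 62, 60, 54, 64, 66, 68, 70, 71], [44], .kill .ff 65 70 308),
   ([44, 48, 50, 52, 62, 60, 54, 64, 66, 68, 69, 70, 71], [44], .kill .ff 63 69 309),
   ([44, 48, 50, 52, 62, 60, 54, 64, 55, 67, 66, 68, 69, 70, 71], [44], .kill (.pp false) 49 55 310),
   ([44, 48, 50, 52, 62, 60, 54, 64, 55, 67, 65, 66, 68, 69, 70, 71], [44], .zero 70 65 311),
   ([44, 48, 50, 52, 62, 53, 60, 54, 64, 55, 67, 65, 66, 68, 69, 70, 71], [44], .kill .ff 47 53 312),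
   ([44, 48, 50, 52, 62, 53, 60, 54, 64, 63, 55, 67, 65, 66, 68, 69, 70, 71], [44], .zero 69 63 313),
   ([44, 48, 50, 51, 52, 62, 53, 60, 54, 64, 63, 55, 67, 65, 66, 68, 69, 70, 71], [44], .kill .ff 46 51 314),
   ([44, 48, 50, 49, 61, 51, 52, 62, 53, 60, 54, 64, 63, 55, 67, 65, 66, 68, 69, 70, 71], [44], .zero 55 49 315),
   ([44, 48, 50, 45, 59, 49, 61, 51, 52, 62, 53, 60, 54, 64, 63, 55, 67, 65, 66, 68, 69, 70, 71], [44], .kill (.pp false) 36 45 316),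
   ([44, 48, 50, 45, 59, 49, 61, 51, 52, 62, 53, 60, 54, 64, 63, 55, 67, 65, 66, 68, 69, 70, 71], [], .branch 44 269 317),
   ([41, 58], [41, 58], .ones [.n 0, .n 2, .n 1, .n 2, .n 3] 10)]

/-- Part of the certificate. -/
def nodesE6_8 : List Node :=
  [([41, 58, 71], [41, 58, 71], .ones [.n 0, .n 2, .n 1, .n 2] 25),
   ([41, 58, 71], [41, 58], .branch 71 319 320),
   ([41, 58, 69], [41, 58, 69], .ones [.n 0, .n 1, .n 2, .n 1, .n 2] 25),
   ([41, 58, 69, 71], [41, 58, 69], .kill .ff 47 71 322),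
   ([41, 58, 69, 71], [41, 58], .branch 69 321 323),
   ([41, 58, 69, 70, 71], [41, 58, 70], .kill .pf 55 70 324),
   ([41, 58, 55, 67, 69, 71], [41, 58, 55, 67], .kill (.fp 70) 51 55 325),
   ([41, 58, 55, 67, 69, 71], [41, 58], .branch 55 324 326),
   ([41, 58, 63], [41, 58, 63], .ones [.n 0, .n 2, .n 1, .n 0, .n 2, .n 1] 25),
   ([41, 58, 63, 70], [41, 58, 63, 70], .kill .pf 55 70 328),
   ([41, 58, 63, 55, 67], [41, 58, 63, 55, 67], .kill (.fp 70) 51 55 329),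
   ([41, 58, 63, 55, 67], [41, 58, 63], .branch 55 328 330),
   ([41, 58, 63, 55, 67, 71], [41, 58, 63], .kill .ff 53 71 331),
   ([41, 58, 63, 55, 67, 69, 71], [41, 58, 63], .kill .ff 44 69 332),
   ([41, 58, 63, 55, 67, 69, 71], [41, 58], .branch 63 327 333),
   ([41, 58, 53], [41, 58, 53], .ones [.n 0, .n 2, .n 1, .n 3, .n 2, .n 1] 25),
   ([41, 58, 53, 69], [41, 58, 53, 69], .ones [.n 0, .n 1, .n 0, .n 3, .n 0, .n 1, .n 3, .n 2, .x 36, .n 3, .x 39, .n 1, .n 2, .n 1, .x 51] 25),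
   ([41, 58, 53, 69], [41, 58, 53], .branch 69 335 336),
   ([41, 58, 53, 69, 70], [41, 58, 53, 70], .kill .ff 60 70 337),
   ([41, 58, 53, 55, 67, 69], [41, 58, 53, 55, 67], .kill (.fp 70) 51 55 338),
   ([41, 58, 53, 55, 67, 69], [41, 58, 53], .branch 55 337 339),
   ([41, 58, 53, 55, 67, 69, 71], [41, 58, 53], .kill .ff 63 71 340),
   ([41, 58, 53, 63, 55, 67, 69, 71], [41, 58, 53], .zero 71 63 341),
   ([41, 58, 53, 63, 55, 67, 69, 71], [41, 58], .branch 53 334 342),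
   ([41, 58, 53, 63, 55, 67, 65, 69, 71], [41, 58, 65], .kill .pf 49 65 343),
   ([41, 58, 49, 61, 53, 63, 55, 67, 69, 71], [41, 58, 49, 61], .kill (.fp 65) 46 49 344),
   ([41, 58, 49, 61, 53, 63, 55, 67, 69, 71], [41, 58], .branch 49 343 345),
   ([41, 58, 49, 61, 53, 63, 55, 67, 65, 69, 71], [41, 58], .kill .pf 49 65 346),
   ([41, 58, 49, 61, 51, 53, 63, 55, 67, 65, 69, 71], [41, 58], .zero 55 51 347),
   ([41, 58, 44], [41, 58, 44], .ones [.n 0, .n 1, .n 2, .n 1, .n 3, .n 2, .n 1] 25),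
   ([41, 58, 44, 71], [41, 58, 44, 71], .ones [.n 3, .n 0, .n 1, .n 3, .n 2, .x 36, .n 3, .x 39, .n 1, .n 2, .n 1, .x 51] 25),
   ([41, 58, 44, 71], [41, 58, 44], .branch 71 349 350),
   ([41, 58, 44, 65, 71], [41, 58, 44], .zero 70 65 351),
   ([41, 58, 44, 51, 65, 71], [41, 58, 44], .zero 55 51 352),
   ([41, 58, 44, 70, 71], [41, 58, 44], .kill .pf 55 70 351),
   ([41, 58, 44, 65, 70, 71], [41, 58, 44], .zero 70 65 354),
   ([41, 58, 44, 55, 67, 65, 70, 71], [41, 58, 44, 55, 67, 70], .kill (.pp false) 49 55 355),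
   ([41, 58, 44, 51, 55, 67, 65, 70, 71], [41, 58, 44, 55, 67, 70], .zero 55 51 356),
   ([41, 58, 44, 49, 61, 51, 65, 71], [41, 58, 44, 49, 61], .kill (.fp 65) 46 49 357),
   ([41, 58, 44, 49, 61, 51, 65, 71], [41, 58, 44], .branch 49 353 358)]

/-- Part of the certificate. -/
def nodesE6_9 : List Node :=
  [([41, 58, 44, 49, 61, 51, 65, 70, 71], [41, 58, 44], .kill .pf 55 70 359),
   ([41, 58, 44, 49, 61, 51, 65, 69, 70, 71], [41, 58, 44], .kill .ff 63 69 360),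
   ([41, 58, 44, 49, 61, 51, 55, 67, 65, 69, 71], [41, 58, 44], .kill (.pp false) 49 55 361),
   ([41, 58, 44, 49, 61, 51, 53, 55, 67, 65, 69, 71], [41, 58, 44], .kill .ff 47 53 362),
   ([41, 58, 44, 49, 61, 51, 53, 63, 55, 67, 65, 69, 71], [41, 58, 44], .zero 69 63 363),
   ([41, 58, 44, 49, 61, 51, 53, 63, 55, 67, 65, 69, 71], [41, 58], .branch 44 348 364),
   ([41, 58, 44, 49, 61, 51, 53, 63, 55, 67, 65, 69, 70, 71], [41, 58], .kill .pf 55 70 365),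
   ([41, 58, 44, 49, 61, 51, 53, 63, 55, 67, 65, 66, 68, 69, 70, 71], [41, 58], .kill (.pp true) 52 66 366),
   ([41, 58, 44, 49, 61, 51, 53, 54, 64, 63, 55, 67, 65, 66, 68, 69, 70, 71], [41, 58], .kill (.pp true) 48 54 367),
   ([41, 58, 44, 49, 61, 51, 53, 60, 54, 64, 63, 55, 67, 65, 66, 68, 69, 70, 71], [41, 58], .kill .pf 38 60 368),
   ([41, 58, 44, 49, 61, 51, 52, 62, 53, 60, 54, 64, 63, 55, 67, 65, 66, 68, 69, 70, 71], [41, 58], .zero 66 62 369),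
   ([41, 58, 44, 45, 59, 49, 61, 51, 52, 62, 53, 60, 54, 64, 63, 55, 67, 65, 66, 68, 69, 70, 71], [41, 58], .kill (.pp true) 37 45 370),
   ([41, 58, 44, 48, 50, 45, 59, 49, 61, 51, 52, 62, 53, 60, 54, 64, 63, 55, 67, 65, 66, 68, 69, 70, 71], [41, 58], .zero 54 50 371),
   ([41, 58, 44, 48, 50, 45, 59, 49, 61, 51, 52, 62, 53, 60, 54, 64, 63, 55, 67, 65, 66, 68, 69, 70, 71], [], .branch 41 318 372),
   ([47], [47], .ones [.n 2, .n 1, .n 3, .n 2, .n 1, .n 0] 1),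
   ([47, 70], [47, 70], .ones [.n 0, .n 2, .n 3] 56),
   ([47, 70], [47], .branch 70 374 375),
   ([47, 66, 68], [47, 66, 68], .ones [.n 2, .n 1, .n 3] 25),
   ([47, 66, 68, 70], [47, 66, 68], .kill .pf 40 70 377),
   ([47, 66, 68, 70], [47], .branch 66 376 378),
   ([47, 55, 67], [47, 55, 67], .ones [.n 2, .n 3, .n 2, .n 1] 25),
   ([47, 55, 67, 70], [47, 55, 67], .kill .pf 41 70 380),
   ([47, 55, 67, 66, 68, 70], [47, 55, 67], .kill (.pp true) 36 66 381),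
   ([47, 55, 67, 66, 68, 70], [47], .branch 55 379 382),
   ([47, 63], [47, 63], .ones [.n 1, .n 2, .n 1, .n 0, .n 2, .n 3] 56),
   ([47, 63, 70], [47, 63, 70], .ones [.n 0, .n 2, .n 0, .n 1, .x 36, .n 3, .n 2, .x 36, .x 37] 25),
   ([47, 63, 70], [47, 63], .branch 70 384 385),
   ([47, 63, 55, 67], [47, 63, 55, 67], .ones [.n 1, .n 2, .n 1, .n 0, .n 2, .n 3, .n 0, .n 1, .n 3, .n 2, .x 36, .n 3, .x 39, .n 1, .n 2, .n 1, .x 51] 25),
   ([47, 63, 55, 67, 70], [47, 63, 55, 67], .kill .pf 41 70 387),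
   ([47, 63, 55, 67, 70], [47, 63], .branch 55 386 388),
   ([47, 63, 55, 67, 66, 68, 70], [47, 63], .kill (.pp false) 40 66 389),
   ([47, 63, 55, 67, 66, 68, 70], [47], .branch 63 383 390),
   ([47, 52, 62], [47, 52, 62], .ones [.n 1, .n 2, .n 1, .n 2, .n 3, .n 2, .n 1] 25),
   ([47, 52, 62, 70], [47, 52, 62, 70], .ones [.n 0, .n 2, .n 3, .n 0, .n 1, .n 3, .n 2, .x 36, .n 3, .x 39, .n 1, .n 2, .n 1, .x 51] 25),
   ([47, 52, 62, 70], [47, 52, 62], .branch 70 392 393),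
   ([47, 52, 62, 66, 68, 70], [47, 52, 62], .kill (.pp false) 41 66 394),
   ([47, 52, 62, 55, 67, 66, 68, 70], [47, 52, 62], .kill (.pp false) 40 55 395),
   ([47, 52, 62, 63, 55, 67, 66, 68, 70], [47, 52, 62], .kill .pf 36 63 396),
   ([47, 52, 62, 63, 55, 67, 66, 68, 70], [47], .branch 52 391 397),
   ([47, 51], [47, 51], .ones [.n 1, .n 3, .n 2, .n 1, .n 0, .n 2, .n 3] 56)]

/-- Part of the certificate. -/
def nodesE6_10 : List Node :=
  [([47, 51, 70], [47, 51, 70], .ones [.n 0, .n 3, .n 2, .n 0, .n 1, .x 36, .n 3, .n 2, .x 36, .x 37] 25),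
   ([47, 51, 70], [47, 51], .branch 70 399 400),
   ([47, 51, 66, 68], [47, 51, 66, 68], .ones [.n 1, .n 3, .n 2, .n 1, .n 0, .n 2, .n 3, .n 0, .n 1, .n 3, .n 2, .x 36, .n 3, .x 39, .n 1, .n 2, .n 1, .x 51] 25),
   ([47, 51, 66, 68, 70], [47, 51, 66, 68], .kill .pf 40 70 402),
   ([47, 51, 66, 68, 70], [47, 51], .branch 66 401 403),
   ([47, 51, 63], [47, 51, 63], .ones [.n 1, .n 2, .n 1, .n 0, .n 3, .n 2, .n 0, .n 1, .x 36, .n 3, .n 2, .x 36, .x 37] 25),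
   ([47, 51, 63, 70], [47, 51, 63, 70], .ones [.n 0, .n 0, .x 36, .n 3, .n 2, .n 1, .n 2, .x 37, .x 36, .n 3, .x 39, .n 1, .x 37, .n 2, .n 1, .x 51] 25),
   ([47, 51, 63, 70], [47, 51, 63], .branch 70 405 406),
   ([47, 51, 63, 66, 68, 70], [47, 51, 63], .kill (.pp false) 40 66 407),
   ([47, 51, 63, 66, 68, 70], [47, 51], .branch 63 404 408),
   ([47, 51, 63, 55, 67, 66, 68, 70], [47, 51], .kill (.pp false) 41 55 409),
   ([47, 51, 52, 62, 63, 55, 67, 66, 68, 70], [47, 51], .kill (.pp false) 36 52 410),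
   ([47, 51, 52, 62, 63, 55, 67, 66, 68, 70], [47], .branch 51 398 411),
   ([47, 41, 58], [47, 41, 58], .ones [.n 0, .n 2, .n 1, .n 0, .n 3, .n 2, .n 1] 25),
   ([47, 41, 58, 70], [47, 41, 58, 70], .kill .pf 55 70 413),
   ([47, 41, 58, 55, 67], [47, 41, 58, 55, 67], .kill (.fp 70) 51 55 414),
   ([47, 41, 58, 55, 67], [47, 41, 58], .branch 55 413 415),
   ([47, 41, 58, 63], [47, 41, 58, 63], .ones [.n 1, .n 2, .n 1, .n 0, .n 2, .n 1, .n 3, .n 0, .n 1, .n 3, .n 2, .x 36, .n 3, .x 39, .n 1, .n 2, .n 1, .x 51] 25),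
   ([47, 41, 58, 63, 70], [47, 41, 58, 63, 70], .kill .pf 55 70 417),
   ([47, 41, 58, 63, 55, 67], [47, 41, 58, 63, 55, 67], .kill (.fp 70) 51 55 418),
   ([47, 41, 58, 63, 55, 67], [47, 41, 58, 63], .branch 55 417 419),
   ([47, 41, 58, 63, 55, 67], [47, 41, 58], .branch 63 416 420),
   ([47, 41, 58, 63, 55, 67, 70], [47, 41, 58], .kill .pf 55 70 421),
   ([47, 41, 58, 63, 55, 67, 66, 68, 70], [47, 41, 58], .kill (.pp true) 52 66 422),
   ([47, 41, 58, 52, 62, 63, 55, 67, 66, 68, 70], [47, 41, 58], .zero 66 62 423),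
   ([47, 41, 58, 51, 52, 62, 63, 55, 67, 66, 68, 70], [47, 41, 58], .zero 55 51 424),
   ([47, 41, 58, 51, 52, 62, 63, 55, 67, 66, 68, 70], [47], .branch 41 412 425),
   ([47, 41, 58, 51, 52, 62, 63, 55, 67, 66, 68, 70, 71], [47], .kill .ff 69 71 426),
   ([47, 41, 58, 51, 52, 62, 63, 55, 67, 66, 68, 69, 70, 71], [47], .zero 71 69 427),
   ([47, 41, 58, 51, 52, 62, 63, 55, 67, 65, 66, 68, 69, 70, 71], [47], .kill .ff 60 65 428),
   ([47, 41, 58, 51, 52, 62, 54, 64, 63, 55, 67, 65, 66, 68, 69, 70, 71], [47], .kill (.pp false) 45 54 429),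
   ([47, 41, 58, 51, 52, 62, 53, 54, 64, 63, 55, 67, 65, 66, 68, 69, 70, 71], [47], .kill .ff 44 53 430),
   ([47, 41, 58, 51, 52, 62, 53, 60, 54, 64, 63, 55, 67, 65, 66, 68, 69, 70, 71], [47], .zero 65 60 431),
   ([47, 41, 58, 49, 61, 51, 52, 62, 53, 60, 54, 64, 63, 55, 67, 65, 66, 68, 69, 70, 71], [47], .kill (.pp false) 38 49 432),
   ([47, 41, 58, 45, 59, 49, 61, 51, 52, 62, 53, 60, 54, 64, 63, 55, 67, 65, 66, 68, 69, 70, 71], [47], .zero 54 45 433),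
   ([47, 41, 58, 48, 50, 45, 59, 49, 61, 51, 52, 62, 53, 60, 54, 64, 63, 55, 67, 65, 66, 68, 69, 70, 71], [47], .kill (.pp false) 37 48 434),
   ([47, 41, 58, 44, 48, 50, 45, 59, 49, 61, 51, 52, 62, 53, 60, 54, 64, 63, 55, 67, 65, 66, 68, 69, 70, 71], [47], .zero 53 44 435),
   ([47, 41, 58, 44, 48, 50, 45, 59, 49, 61, 51, 52, 62, 53, 60, 54, 64, 63, 55, 67, 65, 66, 68, 69, 70, 71], [], .branch 47 373 436),
   ([40, 43], [40, 43], .ones [.n 0, .n 3, .n 2, .n 1, .n 2, .n 3] 10),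
   ([40, 43, 71], [40, 43, 71], .ones [.n 0, .n 3, .n 2, .n 1, .n 2] 25)]

/-- Part of the certificate. -/
def nodesE6_11 : List Node :=
  [([40, 43, 71], [40, 43], .branch 71 438 439),
   ([40, 43, 69], [40, 43, 69], .ones [.n 0, .n 1, .n 3, .n 2, .n 1, .n 2] 25),
   ([40, 43, 69, 71], [40, 43, 69], .kill .ff 47 71 441),
   ([40, 43, 69, 71], [40, 43], .branch 69 440 442),
   ([40, 43, 69, 70, 71], [40, 43, 70], .kill .pf 66 70 443),
   ([40, 43, 66, 68, 69, 71], [40, 43, 66, 68], .kill (.fp 70) 63 66 444),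
   ([40, 43, 66, 68, 69, 71], [40, 43], .branch 66 443 445),
   ([40, 43, 65], [40, 43, 65], .ones [.n 0, .n 2, .n 1, .n 3, .n 2, .n 1, .n 2] 25),
   ([40, 43, 65, 69], [40, 43, 65, 69], .ones [.n 0, .n 1, .n 0, .n 0, .n 1, .n 3, .n 2, .x 36, .n 3, .x 39, .n 1, .n 2, .n 1, .x 51] 25),
   ([40, 43, 65, 69], [40, 43, 65], .branch 69 447 448),
   ([40, 43, 65, 69, 70], [40, 43, 65, 70], .kill .ff 44 70 449),
   ([40, 43, 65, 66, 68, 69], [40, 43, 65, 66, 68], .kill (.fp 70) 63 66 450),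
   ([40, 43, 65, 66, 68, 69], [40, 43, 65], .branch 66 449 451),
   ([40, 43, 65, 66, 68, 69, 71], [40, 43, 65], .kill .ff 51 71 452),
   ([40, 43, 65, 66, 68, 69, 71], [40, 43], .branch 65 446 453),
   ([40, 43, 60], [40, 43, 60], .ones [.n 0, .n 1, .n 2, .n 1, .n 3, .n 2, .n 1, .n 2] 25),
   ([40, 43, 60, 71], [40, 43, 60, 71], .ones [.n 0, .n 1, .n 3, .n 2, .x 36, .n 3, .x 39, .n 1, .n 2, .n 1, .x 51] 25),
   ([40, 43, 60, 71], [40, 43, 60], .branch 71 455 456),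
   ([40, 43, 60, 70, 71], [40, 43, 60, 70], .kill .ff 53 70 457),
   ([40, 43, 60, 66, 68, 71], [40, 43, 60, 66, 68], .kill (.fp 70) 63 66 458),
   ([40, 43, 60, 66, 68, 71], [40, 43, 60], .branch 66 457 459),
   ([40, 43, 60, 66, 68, 69, 71], [40, 43, 60], .kill .ff 51 69 460),
   ([40, 43, 60, 65, 66, 68, 69, 71], [40, 43, 60], .kill .ff 47 65 461),
   ([40, 43, 60, 65, 66, 68, 69, 71], [40, 43], .branch 60 454 462),
   ([40, 43, 51], [40, 43, 51], .ones [.n 0, .n 3, .n 2, .n 1, .n 0, .n 2, .n 1] 25),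
   ([40, 43, 51, 70], [40, 43, 51, 70], .kill .pf 66 70 464),
   ([40, 43, 51, 66, 68], [40, 43, 51, 66, 68], .kill (.fp 70) 63 66 465),
   ([40, 43, 51, 66, 68], [40, 43, 51], .branch 66 464 466),
   ([40, 43, 51, 66, 68, 71], [40, 43, 51], .kill .ff 65 71 467),
   ([40, 43, 51, 66, 68, 69, 71], [40, 43, 51], .kill .ff 60 69 468),
   ([40, 43, 51, 65, 66, 68, 69, 71], [40, 43, 51], .zero 71 65 469),
   ([40, 43, 51, 60, 65, 66, 68, 69, 71], [40, 43, 51], .zero 69 60 470),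
   ([40, 43, 51, 60, 65, 66, 68, 69, 71], [40, 43], .branch 51 463 471),
   ([40, 43, 51, 60, 63, 65, 66, 68, 69, 71], [40, 43], .zero 66 63 472),
   ([40, 43, 51, 53, 60, 65, 66, 68, 69, 71], [40, 43, 53], .kill .pf 48 53 472),
   ([40, 43, 51, 53, 60, 63, 65, 66, 68, 69, 71], [40, 43, 53], .zero 66 63 474),
   ([40, 43, 48, 50, 51, 60, 63, 65, 66, 68, 69, 71], [40, 43, 48, 50], .kill (.fp 53) 46 48 475),
   ([40, 43, 48, 50, 51, 60, 63, 65, 66, 68, 69, 71], [40, 43], .branch 48 473 476),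
   ([40, 43, 47], [40, 43, 47], .ones [.n 0, .n 2, .n 3, .n 2, .n 1, .n 0, .n 2, .n 1] 25),
   ([40, 43, 47, 70], [40, 43, 47, 70], .kill .pf 66 70 478)]

/-- Part of the certificate. -/
def nodesE6_12 : List Node :=
  [([40, 43, 47, 66, 68], [40, 43, 47, 66, 68], .kill (.fp 70) 63 66 479),
   ([40, 43, 47, 66, 68], [40, 43, 47], .branch 66 478 480),
   ([40, 43, 47, 51], [40, 43, 47, 51], .ones [.n 1, .n 3, .n 2, .n 1, .n 0, .n 2, .n 1, .n 3, .n 0, .n 1, .n 3, .n 2, .x 36, .n 3, .x 39, .n 1, .n 2, .n 1, .x 51] 25),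
   ([40, 43, 47, 51, 70], [40, 43, 47, 51, 70], .kill .pf 66 70 482),
   ([40, 43, 47, 51, 66, 68], [40, 43, 47, 51, 66, 68], .kill (.fp 70) 63 66 483),
   ([40, 43, 47, 51, 66, 68], [40, 43, 47, 51], .branch 66 482 484),
   ([40, 43, 47, 51, 66, 68], [40, 43, 47], .branch 51 481 485),
   ([40, 43, 47, 51, 66, 68, 69], [40, 43, 47], .zero 71 69 486),
   ([40, 43, 47, 51, 53, 66, 68], [40, 43, 47, 53], .kill .ff 44 53 486),
   ([40, 43, 47, 51, 53, 66, 68, 69], [40, 43, 47, 53], .zero 71 69 488),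
   ([40, 43, 47, 48, 50, 51, 66, 68, 69], [40, 43, 47, 48, 50], .kill (.fp 53) 46 48 489),
   ([40, 43, 47, 48, 50, 51, 66, 68, 69], [40, 43, 47], .branch 48 487 490),
   ([40, 43, 47, 48, 50, 51, 66, 68, 69, 71], [40, 43, 47], .kill .ff 69 71 491),
   ([40, 43, 47, 48, 50, 51, 65, 66, 68, 69, 71], [40, 43, 47], .kill .ff 60 65 492),
   ([40, 43, 47, 48, 50, 51, 63, 65, 66, 68, 69, 71], [40, 43, 47], .zero 66 63 493),
   ([40, 43, 47, 48, 50, 51, 60, 63, 65, 66, 68, 69, 71], [40, 43, 47], .zero 65 60 494),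
   ([40, 43, 47, 48, 50, 51, 60, 63, 65, 66, 68, 69, 71], [40, 43], .branch 47 477 495),
   ([40, 43, 47, 48, 50, 51, 60, 63, 65, 66, 68, 69, 70, 71], [40, 43], .kill .pf 66 70 496),
   ([40, 43, 47, 48, 50, 51, 60, 63, 55, 67, 65, 66, 68, 69, 70, 71], [40, 43], .kill (.pp false) 52 55 497),
   ([40, 43, 47, 48, 50, 51, 60, 54, 64, 63, 55, 67, 65, 66, 68, 69, 70, 71], [40, 43], .kill (.pp false) 49 54 498),
   ([40, 43, 47, 48, 50, 51, 53, 60, 54, 64, 63, 55, 67, 65, 66, 68, 69, 70, 71], [40, 43], .kill .pf 48 53 499),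
   ([40, 43, 47, 48, 50, 51, 52, 62, 53, 60, 54, 64, 63, 55, 67, 65, 66, 68, 69, 70, 71], [40, 43], .zero 55 52 500),
   ([40, 43, 47, 48, 50, 49, 61, 51, 52, 62, 53, 60, 54, 64, 63, 55, 67, 65, 66, 68, 69, 70, 71], [40, 43], .zero 54 49 501),
   ([40, 43, 47, 48, 50, 45, 59, 49, 61, 51, 52, 62, 53, 60, 54, 64, 63, 55, 67, 65, 66, 68, 69, 70, 71], [40, 43], .kill (.pp false) 38 45 502),
   ([40, 43, 47, 44, 48, 50, 45, 59, 49, 61, 51, 52, 62, 53, 60, 54, 64, 63, 55, 67, 65, 66, 68, 69, 70, 71], [40, 43], .kill .pf 37 44 503),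
   ([40, 43, 47, 41, 58, 44, 48, 50, 45, 59, 49, 61, 51, 52, 62, 53, 60, 54, 64, 63, 55, 67, 65, 66, 68, 69, 70, 71], [40, 43], .kill (.pp false) 36 41 504),
   ([40, 43, 47, 41, 58, 44, 48, 50, 45, 59, 49, 61, 51, 52, 62, 53, 60, 54, 64, 63, 55, 67, 65, 66, 68, 69, 70, 71], [], .branch 40 437 505),
   ([38, 57], [38, 57], .ones [.n 1, .n 0, .n 2, .n 1, .n 2, .n 3] 10),
   ([38, 57, 71], [38, 57, 71], .ones [.n 1, .n 0, .n 2, .n 1, .n 2] 25),
   ([38, 57, 71], [38, 57], .branch 71 507 508),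
   ([38, 57, 70], [38, 57, 70], .ones [.n 0, .n 1, .n 0, .n 2, .n 1, .n 2] 25),
   ([38, 57, 70, 71], [38, 57, 70], .kill .ff 46 71 510),
   ([38, 57, 70, 71], [38, 57], .branch 70 509 511),
   ([38, 57, 65], [38, 57, 65], .ones [.n 1, .n 0, .n 2, .n 1, .n 0, .n 2, .n 1] 25),
   ([38, 57, 65, 71], [38, 57, 65], .kill .ff 51 71 513),
   ([38, 57, 65, 70, 71], [38, 57, 65], .kill .ff 44 70 514),
   ([38, 57, 65, 70, 71], [38, 57], .branch 65 512 515),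
   ([38, 57, 65, 69, 70, 71], [38, 57, 69], .kill .pf 55 69 516),
   ([38, 57, 55, 67, 65, 70, 71], [38, 57, 55, 67], .kill (.fp 69) 53 55 517),
   ([38, 57, 55, 67, 65, 70, 71], [38, 57], .branch 55 516 518)]

/-- Part of the certificate. -/
def nodesE6_13 : List Node :=
  [([38, 57, 51], [38, 57, 51], .ones [.n 1, .n 0, .n 2, .n 1, .n 3, .n 2, .n 1] 25),
   ([38, 57, 51, 70], [38, 57, 51, 70], .ones [.n 0, .n 1, .n 3, .n 0, .n 1, .n 3, .n 2, .x 36, .n 3, .x 39, .n 1, .n 2, .n 1, .x 51] 25),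
   ([38, 57, 51, 70], [38, 57, 51], .branch 70 520 521),
   ([38, 57, 51, 69, 70], [38, 57, 51, 69], .kill .ff 60 69 522),
   ([38, 57, 51, 55, 67, 70], [38, 57, 51, 55, 67], .kill (.fp 69) 53 55 523),
   ([38, 57, 51, 55, 67, 70], [38, 57, 51], .branch 55 522 524),
   ([38, 57, 51, 55, 67, 70, 71], [38, 57, 51], .kill .ff 65 71 525),
   ([38, 57, 51, 55, 67, 65, 70, 71], [38, 57, 51], .zero 71 65 526),
   ([38, 57, 51, 55, 67, 65, 70, 71], [38, 57], .branch 51 519 527),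
   ([38, 57, 51, 63, 55, 67, 65, 70, 71], [38, 57, 63], .kill .pf 49 63 528),
   ([38, 57, 49, 61, 51, 55, 67, 65, 70, 71], [38, 57, 49, 61], .kill (.fp 63) 47 49 529),
   ([38, 57, 49, 61, 51, 55, 67, 65, 70, 71], [38, 57], .branch 49 528 530),
   ([38, 57, 49, 61, 51, 53, 55, 67, 65, 70, 71], [38, 57], .zero 55 53 531),
   ([38, 57, 44], [38, 57, 44], .ones [.n 0, .n 1, .n 0, .n 2, .n 1, .n 3, .n 2, .n 1] 25),
   ([38, 57, 44, 71], [38, 57, 44, 71], .ones [.n 1, .n 3, .n 0, .n 1, .n 3, .n 2, .x 36, .n 3, .x 39, .n 1, .n 2, .n 1, .x 51] 25),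
   ([38, 57, 44, 71], [38, 57, 44], .branch 71 533 534),
   ([38, 57, 44, 69, 71], [38, 57, 44, 69], .kill .ff 63 69 535),
   ([38, 57, 44, 55, 67, 71], [38, 57, 44, 55, 67], .kill (.fp 69) 53 55 536),
   ([38, 57, 44, 55, 67, 71], [38, 57, 44], .branch 55 535 537),
   ([38, 57, 44, 53, 55, 67, 71], [38, 57, 44], .zero 55 53 538),
   ([38, 57, 44, 55, 67, 69, 71], [38, 57, 44], .kill .ff 63 69 538),
   ([38, 57, 44, 63, 55, 67, 69, 71], [38, 57, 44, 63, 69], .kill .pf 49 63 540),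
   ([38, 57, 44, 53, 63, 55, 67, 69, 71], [38, 57, 44, 63, 69], .zero 55 53 541),
   ([38, 57, 44, 49, 61, 53, 55, 67, 71], [38, 57, 44, 49, 61], .kill (.fp 63) 47 49 542),
   ([38, 57, 44, 49, 61, 53, 55, 67, 71], [38, 57, 44], .branch 49 539 543),
   ([38, 57, 44, 49, 61, 53, 55, 67, 70, 71], [38, 57, 44], .kill .ff 65 70 544),
   ([38, 57, 44, 49, 61, 51, 53, 55, 67, 70, 71], [38, 57, 44], .kill .ff 46 51 545),
   ([38, 57, 44, 49, 61, 51, 53, 55, 67, 65, 70, 71], [38, 57, 44], .zero 70 65 546),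
   ([38, 57, 44, 49, 61, 51, 53, 55, 67, 65, 70, 71], [38, 57], .branch 44 532 547),
   ([38, 57, 44, 49, 61, 51, 53, 55, 67, 65, 69, 70, 71], [38, 57], .kill .pf 55 69 548),
   ([38, 57, 44, 49, 61, 51, 53, 60, 55, 67, 65, 69, 70, 71], [38, 57, 60], .kill .pf 41 60 549),
   ([38, 57, 41, 58, 44, 49, 61, 51, 53, 55, 67, 65, 70, 71], [38, 57, 41, 58], .kill (.fp 60) 39 41 550),
   ([38, 57, 41, 58, 44, 49, 61, 51, 53, 55, 67, 65, 70, 71], [38, 57], .branch 41 548 551),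
   ([38, 57, 41, 58, 44, 49, 61, 51, 53, 55, 67, 65, 69, 70, 71], [38, 57], .kill .pf 55 69 552),
   ([38, 57, 41, 58, 44, 49, 61, 51, 53, 55, 67, 65, 66, 68, 69, 70, 71], [38, 57], .kill (.pp true) 54 66 553),
   ([38, 57, 41, 58, 44, 49, 61, 51, 53, 63, 55, 67, 65, 66, 68, 69, 70, 71], [38, 57], .kill .pf 49 63 554),
   ([38, 57, 41, 58, 44, 49, 61, 51, 53, 60, 63, 55, 67, 65, 66, 68, 69, 70, 71], [38, 57], .kill .pf 41 60 555),
   ([38, 57, 41, 58, 44, 49, 61, 51, 53, 60, 54, 64, 63, 55, 67, 65, 66, 68, 69, 70, 71], [38, 57], .zero 66 64 556),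
   ([38, 57, 41, 58, 44, 49, 61, 51, 52, 62, 53, 60, 54, 64, 63, 55, 67, 65, 66, 68, 69, 70, 71], [38, 57], .kill (.pp true) 48 52 557),
   ([38, 57, 41, 58, 44, 45, 59, 49, 61, 51, 52, 62, 53, 60, 54, 64, 63, 55, 67, 65, 66, 68, 69, 70, 71], [38, 57], .kill (.pp true) 40 45 558)]

/-- Part of the certificate. -/
def nodesE6_14 : List Node :=
  [([38, 57, 41, 58, 44, 48, 50, 45, 59, 49, 61, 51, 52, 62, 53, 60, 54, 64, 63, 55, 67, 65, 66, 68, 69, 70, 71], [38, 57], .zero 52 50 559),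
   ([38, 57, 47, 41, 58, 44, 48, 50, 45, 59, 49, 61, 51, 52, 62, 53, 60, 54, 64, 63, 55, 67, 65, 66, 68, 69, 70, 71], [38, 57], .zero 49 47 560),
   ([38, 57, 40, 43, 47, 41, 58, 44, 48, 50, 45, 59, 49, 61, 51, 52, 62, 53, 60, 54, 64, 63, 55, 67, 65, 66, 68, 69, 70, 71], [38, 57], .zero 45 43 561),
   ([38, 57, 40, 43, 47, 41, 58, 44, 48, 50, 45, 59, 49, 61, 51, 52, 62, 53, 60, 54, 64, 63, 55, 67, 65, 66, 68, 69, 70, 71], [], .branch 38 506 562),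
   ([46], [46], .ones [.n 1, .n 2, .n 1, .n 3, .n 2, .n 1, .n 0] 1),
   ([46, 69], [46, 69], .ones [.n 1, .n 0, .n 2, .n 3] 56),
   ([46, 69], [46], .branch 69 564 565),
   ([46, 66, 68], [46, 66, 68], .ones [.n 1, .n 2, .n 1, .n 3] 25),
   ([46, 66, 68, 69], [46, 66, 68], .kill .pf 37 69 567),
   ([46, 66, 68, 69], [46], .branch 66 566 568),
   ([46, 65], [46, 65], .ones [.n 2, .n 1, .n 0, .n 2, .n 3] 56),
   ([46, 65, 69], [46, 65, 69], .ones [.n 1, .n 0, .n 2, .n 0, .n 1, .x 36, .n 3, .n 2, .x 36, .x 37] 25),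
   ([46, 65, 69], [46, 65], .branch 69 570 571),
   ([46, 65, 66, 68, 69], [46, 65], .kill (.pp false) 37 66 572),
   ([46, 65, 66, 68, 69], [46], .branch 65 569 573),
   ([46, 55, 67], [46, 55, 67], .ones [.n 1, .n 2, .n 3, .n 2, .n 1] 25),
   ([46, 55, 67, 65], [46, 55, 67, 65], .ones [.n 2, .n 1, .n 0, .n 2, .n 3, .n 0, .n 1, .n 3, .n 2, .x 36, .n 3, .x 39, .n 1, .n 2, .n 1, .x 51] 25),
   ([46, 55, 67, 65], [46, 55, 67], .branch 65 575 576),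
   ([46, 55, 67, 65, 69], [46, 55, 67], .kill .pf 38 69 577),
   ([46, 55, 67, 65, 66, 68, 69], [46, 55, 67], .kill (.pp true) 36 66 578),
   ([46, 55, 67, 65, 66, 68, 69], [46], .branch 55 574 579),
   ([46, 54, 64], [46, 54, 64], .ones [.n 2, .n 1, .n 2, .n 3, .n 2, .n 1] 25),
   ([46, 54, 64, 69], [46, 54, 64, 69], .ones [.n 1, .n 0, .n 2, .n 3, .n 0, .n 1, .n 3, .n 2, .x 36, .n 3, .x 39, .n 1, .n 2, .n 1, .x 51] 25),
   ([46, 54, 64, 69], [46, 54, 64], .branch 69 581 582),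
   ([46, 54, 64, 66, 68, 69], [46, 54, 64], .kill (.pp false) 38 66 583),
   ([46, 54, 64, 65, 66, 68, 69], [46, 54, 64], .kill .pf 36 65 584),
   ([46, 54, 64, 55, 67, 65, 66, 68, 69], [46, 54, 64], .kill (.pp false) 37 55 585),
   ([46, 54, 64, 55, 67, 65, 66, 68, 69], [46], .branch 54 580 586),
   ([46, 53], [46, 53], .ones [.n 3, .n 2, .n 1, .n 0, .n 2, .n 3] 56),
   ([46, 53, 69], [46, 53, 69], .ones [.n 1, .n 0, .n 3, .n 2, .n 0, .n 1, .x 36, .n 3, .n 2, .x 36, .x 37] 25),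
   ([46, 53, 69], [46, 53], .branch 69 588 589),
   ([46, 53, 66, 68], [46, 53, 66, 68], .ones [.n 3, .n 2, .n 1, .n 0, .n 2, .n 3, .n 0, .n 1, .n 3, .n 2, .x 36, .n 3, .x 39, .n 1, .n 2, .n 1, .x 51] 25),
   ([46, 53, 66, 68, 69], [46, 53, 66, 68], .kill .pf 37 69 591),
   ([46, 53, 66, 68, 69], [46, 53], .branch 66 590 592),
   ([46, 53, 65], [46, 53, 65], .ones [.n 2, .n 1, .n 0, .n 3, .n 2, .n 0, .n 1, .x 36, .n 3, .n 2, .x 36, .x 37] 25),
   ([46, 53, 65, 69], [46, 53, 65, 69], .ones [.n 1, .n 0, .n 0, .x 36, .n 3, .n 2, .n 1, .n 2, .x 37, .x 36, .n 3, .x 39, .n 1, .x 37, .n 2, .n 1, .x 51] 25),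
   ([46, 53, 65, 69], [46, 53, 65], .branch 69 594 595),
   ([46, 53, 65, 66, 68, 69], [46, 53, 65], .kill (.pp false) 37 66 596),
   ([46, 53, 65, 66, 68, 69], [46, 53], .branch 65 593 597),
   ([46, 53, 55, 67, 65, 66, 68, 69], [46, 53], .kill (.pp false) 38 55 598)]

/-- Part of the certificate. -/
def nodesE6_15 : List Node :=
  [([46, 53, 54, 64, 55, 67, 65, 66, 68, 69], [46, 53], .kill (.pp false) 36 54 599),
   ([46, 53, 54, 64, 55, 67, 65, 66, 68, 69], [46], .branch 53 587 600),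
   ([46, 38, 57], [46, 38, 57], .ones [.n 1, .n 0, .n 2, .n 1, .n 0, .n 3, .n 2, .n 1] 25),
   ([46, 38, 57, 65], [46, 38, 57, 65], .ones [.n 2, .n 1, .n 0, .n 2, .n 1, .n 3, .n 0, .n 1, .n 3, .n 2, .x 36, .n 3, .x 39, .n 1, .n 2, .n 1, .x 51] 25),
   ([46, 38, 57, 65], [46, 38, 57], .branch 65 602 603),
   ([46, 38, 57, 65, 69], [46, 38, 57, 69], .kill .pf 55 69 604),
   ([46, 38, 57, 55, 67, 65], [46, 38, 57, 55, 67], .kill (.fp 69) 53 55 605),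
   ([46, 38, 57, 55, 67, 65], [46, 38, 57], .branch 55 604 606),
   ([46, 38, 57, 55, 67, 65, 69], [46, 38, 57], .kill .pf 55 69 607),
   ([46, 38, 57, 55, 67, 65, 66, 68, 69], [46, 38, 57], .kill (.pp true) 54 66 608),
   ([46, 38, 57, 54, 64, 55, 67, 65, 66, 68, 69], [46, 38, 57], .zero 66 64 609),
   ([46, 38, 57, 53, 54, 64, 55, 67, 65, 66, 68, 69], [46, 38, 57], .zero 55 53 610),
   ([46, 38, 57, 53, 54, 64, 55, 67, 65, 66, 68, 69], [46], .branch 38 601 611),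
   ([46, 38, 57, 53, 54, 64, 55, 67, 65, 66, 68, 69, 71], [46], .kill .ff 70 71 612),
   ([46, 38, 57, 53, 54, 64, 55, 67, 65, 66, 68, 69, 70, 71], [46], .zero 71 70 613),
   ([46, 38, 57, 53, 54, 64, 63, 55, 67, 65, 66, 68, 69, 70, 71], [46], .kill .ff 60 63 614),
   ([46, 38, 57, 52, 62, 53, 54, 64, 63, 55, 67, 65, 66, 68, 69, 70, 71], [46], .kill (.pp false) 45 52 615),
   ([46, 38, 57, 51, 52, 62, 53, 54, 64, 63, 55, 67, 65, 66, 68, 69, 70, 71], [46], .kill .ff 44 51 616),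
   ([46, 38, 57, 51, 52, 62, 53, 60, 54, 64, 63, 55, 67, 65, 66, 68, 69, 70, 71], [46], .zero 63 60 617),
   ([46, 38, 57, 49, 61, 51, 52, 62, 53, 60, 54, 64, 63, 55, 67, 65, 66, 68, 69, 70, 71], [46], .kill (.pp false) 41 49 618),
   ([46, 38, 57, 45, 59, 49, 61, 51, 52, 62, 53, 60, 54, 64, 63, 55, 67, 65, 66, 68, 69, 70, 71], [46], .zero 52 45 619),
   ([46, 38, 57, 48, 50, 45, 59, 49, 61, 51, 52, 62, 53, 60, 54, 64, 63, 55, 67, 65, 66, 68, 69, 70, 71], [46], .kill (.pp false) 40 48 620),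
   ([46, 38, 57, 41, 58, 48, 50, 45, 59, 49, 61, 51, 52, 62, 53, 60, 54, 64, 63, 55, 67, 65, 66, 68, 69, 70, 71], [46], .zero 49 41 621),
   ([46, 38, 57, 47, 41, 58, 48, 50, 45, 59, 49, 61, 51, 52, 62, 53, 60, 54, 64, 63, 55, 67, 65, 66, 68, 69, 70, 71], [46], .kill .ff 39 47 622),
   ([46, 38, 57, 47, 41, 58, 44, 48, 50, 45, 59, 49, 61, 51, 52, 62, 53, 60, 54, 64, 63, 55, 67, 65, 66, 68, 69, 70, 71], [46], .zero 51 44 623),
   ([46, 38, 57, 40, 43, 47, 41, 58, 44, 48, 50, 45, 59, 49, 61, 51, 52, 62, 53, 60, 54, 64, 63, 55, 67, 65, 66, 68, 69, 70, 71], [46], .zero 48 40 624),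
   ([46, 38, 57, 40, 43, 47, 41, 58, 44, 48, 50, 45, 59, 49, 61, 51, 52, 62, 53, 60, 54, 64, 63, 55, 67, 65, 66, 68, 69, 70, 71], [], .branch 46 563 625),
   ([39], [39], .ones [.n 0, .n 2, .n 1, .n 3, .n 2, .n 1, .n 0] 1),
   ([39, 71], [39, 71], .ones [.n 2, .n 3] 56),
   ([39, 71], [39], .branch 71 627 628),
   ([39, 66, 68], [39, 66, 68], .ones [.n 0, .n 2, .n 1, .n 3] 25),
   ([39, 66, 68, 71], [39, 66, 68], .kill .pf 48 71 630),
   ([39, 66, 68, 71], [39], .branch 66 629 631),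
   ([39, 55, 67], [39, 55, 67], .ones [.n 0, .n 2, .n 3, .n 2, .n 1] 25),
   ([39, 55, 67, 71], [39, 55, 67], .kill .pf 49 71 633),
   ([39, 55, 67, 66, 68, 71], [39, 55, 67], .kill (.pp true) 36 66 634),
   ([39, 55, 67, 66, 68, 71], [39], .branch 55 632 635),
   ([39, 60], [39, 60], .ones [.n 0, .n 1, .n 2, .n 1, .n 0, .n 2, .n 3] 56),
   ([39, 60, 71], [39, 60, 71], .ones [.n 2, .n 0, .n 1, .x 36, .n 3, .n 2, .x 36, .x 37] 25),
   ([39, 60, 71], [39, 60], .branch 71 637 638)]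

/-- Part of the certificate. -/
def nodesE6_16 : List Node :=
  [([39, 60, 55, 67], [39, 60, 55, 67], .ones [.n 0, .n 1, .n 2, .n 1, .n 0, .n 2, .n 3, .n 0, .n 1, .n 3, .n 2, .x 36, .n 3, .x 39, .n 1, .n 2, .n 1, .x 51] 25),
   ([39, 60, 55, 67, 71], [39, 60, 55, 67], .kill .pf 49 71 640),
   ([39, 60, 55, 67, 71], [39, 60], .branch 55 639 641),
   ([39, 60, 55, 67, 66, 68, 71], [39, 60], .kill (.pp false) 48 66 642),
   ([39, 60, 55, 67, 66, 68, 71], [39], .branch 60 636 643),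
   ([39, 49, 61], [39, 49, 61], .ones [.n 2, .n 1, .n 0, .n 3, .n 2, .n 1] 25),
   ([39, 49, 61, 71], [39, 49, 61, 71], .kill .pf 55 71 645),
   ([39, 49, 61, 55, 67], [39, 49, 61, 55, 67], .kill (.fp 71) 44 55 646),
   ([39, 49, 61, 55, 67], [39, 49, 61], .branch 55 645 647),
   ([39, 49, 61, 60], [39, 49, 61, 60], .ones [.n 0, .n 1, .n 2, .n 1, .n 0, .n 2, .n 1, .n 3, .n 0, .n 1, .n 3, .n 2, .x 36, .n 3, .x 39, .n 1, .n 2, .n 1, .x 51] 25),
   ([39, 49, 61, 60, 71], [39, 49, 61, 60, 71], .kill .pf 55 71 649),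
   ([39, 49, 61, 60, 55, 67], [39, 49, 61, 60, 55, 67], .kill (.fp 71) 44 55 650),
   ([39, 49, 61, 60, 55, 67], [39, 49, 61, 60], .branch 55 649 651),
   ([39, 49, 61, 60, 55, 67], [39, 49, 61], .branch 60 648 652),
   ([39, 49, 61, 60, 55, 67, 71], [39, 49, 61], .kill .pf 55 71 653),
   ([39, 49, 61, 60, 55, 67, 66, 68, 71], [39, 49, 61], .kill (.pp true) 45 66 654),
   ([39, 49, 61, 60, 55, 67, 66, 68, 71], [39], .branch 49 644 655),
   ([39, 45, 59], [39, 45, 59], .ones [.n 0, .n 1, .n 2, .n 1, .n 2, .n 3, .n 2, .n 1] 25),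
   ([39, 45, 59, 71], [39, 45, 59, 71], .ones [.n 2, .n 3, .n 0, .n 1, .n 3, .n 2, .x 36, .n 3, .x 39, .n 1, .n 2, .n 1, .x 51] 25),
   ([39, 45, 59, 71], [39, 45, 59], .branch 71 657 658),
   ([39, 45, 59, 66, 68, 71], [39, 45, 59], .kill (.pp false) 49 66 659),
   ([39, 45, 59, 55, 67, 66, 68, 71], [39, 45, 59], .kill (.pp false) 48 55 660),
   ([39, 45, 59, 60, 55, 67, 66, 68, 71], [39, 45, 59], .kill .pf 36 60 661),
   ([39, 45, 59, 49, 61, 60, 55, 67, 66, 68, 71], [39, 45, 59], .zero 66 49 662),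
   ([39, 45, 59, 49, 61, 60, 55, 67, 66, 68, 71], [39], .branch 45 656 663),
   ([39, 48, 50], [39, 48, 50], .ones [.n 2, .n 3, .n 2, .n 1, .n 0, .n 2, .n 1] 25),
   ([39, 48, 50, 71], [39, 48, 50, 71], .kill .pf 66 71 665),
   ([39, 48, 50, 66, 68], [39, 48, 50, 66, 68], .kill (.fp 71) 60 66 666),
   ([39, 48, 50, 66, 68], [39, 48, 50], .branch 66 665 667),
   ([39, 48, 50, 66, 68, 71], [39, 48, 50], .kill .pf 66 71 668),
   ([39, 48, 50, 55, 67, 66, 68, 71], [39, 48, 50], .kill (.pp false) 45 55 669),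
   ([39, 48, 50, 49, 61, 55, 67, 66, 68, 71], [39, 48, 50], .kill (.pp false) 36 49 670),
   ([39, 48, 50, 49, 61, 60, 55, 67, 66, 68, 71], [39, 48, 50], .zero 66 60 671),
   ([39, 48, 50, 45, 59, 49, 61, 60, 55, 67, 66, 68, 71], [39, 48, 50], .zero 55 45 672),
   ([39, 48, 50, 45, 59, 49, 61, 60, 55, 67, 66, 68, 71], [39], .branch 48 664 673),
   ([39, 44], [39, 44], .ones [.n 0, .n 1, .n 3, .n 2, .n 1, .n 0, .n 2, .n 3] 56),
   ([39, 44, 71], [39, 44, 71], .ones [.n 3, .n 2, .n 0, .n 1, .x 36, .n 3, .n 2, .x 36, .x 37] 25),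
   ([39, 44, 71], [39, 44], .branch 71 675 676),
   ([39, 44, 66, 68], [39, 44, 66, 68], .ones [.n 0, .n 1, .n 3, .n 2, .n 1, .n 0, .n 2, .n 3, .n 0, .n 1, .n 3, .n 2, .x 36, .n 3, .x 39, .n 1, .n 2, .n 1, .x 51] 25),
   ([39, 44, 66, 68, 71], [39, 44, 66, 68], .kill .pf 48 71 678)]

/-- Part of the certificate. -/
def nodesE6_17 : List Node :=
  [([39, 44, 66, 68, 71], [39, 44], .branch 66 677 679),
   ([39, 44, 60], [39, 44, 60], .ones [.n 0, .n 1, .n 2, .n 1, .n 0, .n 3, .n 2, .n 0, .n 1, .x 36, .n 3, .n 2, .x 36, .x 37] 25),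
   ([39, 44, 60, 71], [39, 44, 60, 71], .ones [.n 0, .x 36, .n 3, .n 2, .n 1, .n 2, .x 37, .x 36, .n 3, .x 39, .n 1, .x 37, .n 2, .n 1, .x 51] 25),
   ([39, 44, 60, 71], [39, 44, 60], .branch 71 681 682),
   ([39, 44, 60, 66, 68, 71], [39, 44, 60], .kill (.pp false) 48 66 683),
   ([39, 44, 60, 66, 68, 71], [39, 44], .branch 60 680 684),
   ([39, 44, 48, 50], [39, 44, 48, 50], .ones [.n 0, .n 1, .n 3, .n 2, .n 1, .n 0, .n 2, .n 1, .n 3, .n 0, .n 1, .n 3, .n 2, .x 36, .n 3, .x 39, .n 1, .n 2, .n 1, .x 51] 25),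
   ([39, 44, 48, 50, 71], [39, 44, 48, 50, 71], .kill .pf 66 71 686),
   ([39, 44, 48, 50, 66, 68], [39, 44, 48, 50, 66, 68], .kill (.fp 71) 60 66 687),
   ([39, 44, 48, 50, 66, 68], [39, 44, 48, 50], .branch 66 686 688),
   ([39, 44, 48, 50, 66, 68, 71], [39, 44, 48, 50], .kill .pf 66 71 689),
   ([39, 44, 48, 50, 60, 66, 68, 71], [39, 44, 48, 50], .zero 66 60 690),
   ([39, 44, 48, 50, 60, 66, 68, 71], [39, 44], .branch 48 685 691),
   ([39, 44, 48, 50, 60, 55, 67, 66, 68, 71], [39, 44], .kill (.pp false) 49 55 692),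
   ([39, 44, 48, 50, 49, 61, 60, 55, 67, 66, 68, 71], [39, 44], .zero 55 49 693),
   ([39, 44, 48, 50, 45, 59, 49, 61, 60, 55, 67, 66, 68, 71], [39, 44], .kill (.pp false) 36 45 694),
   ([39, 44, 48, 50, 45, 59, 49, 61, 60, 55, 67, 66, 68, 71], [39], .branch 44 674 695),
   ([39, 44, 48, 50, 45, 59, 49, 61, 60, 55, 67, 66, 68, 70, 71], [39], .kill .ff 69 70 696),
   ([39, 44, 48, 50, 45, 59, 49, 61, 60, 55, 67, 66, 68, 69, 70, 71], [39], .zero 70 69 697),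
   ([39, 44, 48, 50, 45, 59, 49, 61, 60, 55, 67, 65, 66, 68, 69, 70, 71], [39], .kill .ff 63 65 698),
   ([39, 44, 48, 50, 45, 59, 49, 61, 60, 54, 64, 55, 67, 65, 66, 68, 69, 70, 71], [39], .kill (.pp false) 52 54 699),
   ([39, 44, 48, 50, 45, 59, 49, 61, 53, 60, 54, 64, 55, 67, 65, 66, 68, 69, 70, 71], [39], .kill .ff 51 53 700),
   ([39, 44, 48, 50, 45, 59, 49, 61, 53, 60, 54, 64, 63, 55, 67, 65, 66, 68, 69, 70, 71], [39], .zero 65 63 701),
   ([39, 44, 48, 50, 45, 59, 49, 61, 52, 62, 53, 60, 54, 64, 63, 55, 67, 65, 66, 68, 69, 70, 71], [39], .zero 54 52 702),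
   ([39, 41, 58, 44, 48, 50, 45, 59, 49, 61, 52, 62, 53, 60, 54, 64, 63, 55, 67, 65, 66, 68, 69, 70, 71], [39], .kill (.pp false) 38 41 703),
   ([39, 41, 58, 44, 48, 50, 45, 59, 49, 61, 51, 52, 62, 53, 60, 54, 64, 63, 55, 67, 65, 66, 68, 69, 70, 71], [39], .zero 53 51 704),
   ([39, 47, 41, 58, 44, 48, 50, 45, 59, 49, 61, 51, 52, 62, 53, 60, 54, 64, 63, 55, 67, 65, 66, 68, 69, 70, 71], [39], .kill .ff 46 47 705),
   ([39, 40, 43, 47, 41, 58, 44, 48, 50, 45, 59, 49, 61, 51, 52, 62, 53, 60, 54, 64, 63, 55, 67, 65, 66, 68, 69, 70, 71], [39], .kill (.pp false) 37 40 706),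
   ([39, 38, 57, 40, 43, 47, 41, 58, 44, 48, 50, 45, 59, 49, 61, 51, 52, 62, 53, 60, 54, 64, 63, 55, 67, 65, 66, 68, 69, 70, 71], [39], .zero 41 38 707),
   ([39, 46, 38, 57, 40, 43, 47, 41, 58, 44, 48, 50, 45, 59, 49, 61, 51, 52, 62, 53, 60, 54, 64, 63, 55, 67, 65, 66, 68, 69, 70, 71], [39], .zero 47 46 708),
   ([39, 46, 38, 57, 40, 43, 47, 41, 58, 44, 48, 50, 45, 59, 49, 61, 51, 52, 62, 53, 60, 54, 64, 63, 55, 67, 65, 66, 68, 69, 70, 71], [], .branch 39 626 709),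
   ([37, 42], [37, 42], .ones [.n 1, .n 0, .n 3, .n 2, .n 1, .n 2, .n 3] 10),
   ([37, 42, 71], [37, 42, 71], .ones [.n 1, .n 0, .n 3, .n 2, .n 1, .n 2] 25),
   ([37, 42, 71], [37, 42], .branch 71 711 712),
   ([37, 42, 70], [37, 42, 70], .ones [.n 0, .n 1, .n 0, .n 3, .n 2, .n 1, .n 2] 25),
   ([37, 42, 70, 71], [37, 42, 70], .kill .ff 46 71 714),
   ([37, 42, 70, 71], [37, 42], .branch 70 713 715),
   ([37, 42, 69, 70, 71], [37, 42, 69], .kill .pf 66 69 716),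
   ([37, 42, 66, 68, 70, 71], [37, 42, 66, 68], .kill (.fp 69) 65 66 717),
   ([37, 42, 66, 68, 70, 71], [37, 42], .branch 66 716 718)]

/-- Part of the certificate. -/
def nodesE6_18 : List Node :=
  [([37, 42, 63], [37, 42, 63], .ones [.n 1, .n 0, .n 2, .n 1, .n 3, .n 2, .n 1, .n 2] 25),
   ([37, 42, 63, 70], [37, 42, 63, 70], .ones [.n 0, .n 1, .n 0, .n 1, .n 3, .n 2, .x 36, .n 3, .x 39, .n 1, .n 2, .n 1, .x 51] 25),
   ([37, 42, 63, 70], [37, 42, 63], .branch 70 720 721),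
   ([37, 42, 63, 69, 70], [37, 42, 63, 69], .kill .ff 44 69 722),
   ([37, 42, 63, 66, 68, 70], [37, 42, 63, 66, 68], .kill (.fp 69) 65 66 723),
   ([37, 42, 63, 66, 68, 70], [37, 42, 63], .branch 66 722 724),
   ([37, 42, 63, 66, 68, 70, 71], [37, 42, 63], .kill .ff 53 71 725),
   ([37, 42, 63, 66, 68, 70, 71], [37, 42], .branch 63 719 726),
   ([37, 42, 60], [37, 42, 60], .ones [.n 0, .n 1, .n 0, .n 2, .n 1, .n 3, .n 2, .n 1, .n 2] 25),
   ([37, 42, 60, 71], [37, 42, 60, 71], .ones [.n 1, .n 0, .n 1, .n 3, .n 2, .x 36, .n 3, .x 39, .n 1, .n 2, .n 1, .x 51] 25),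
   ([37, 42, 60, 71], [37, 42, 60], .branch 71 728 729),
   ([37, 42, 60, 69, 71], [37, 42, 60, 69], .kill .ff 51 69 730),
   ([37, 42, 60, 66, 68, 71], [37, 42, 60, 66, 68], .kill (.fp 69) 65 66 731),
   ([37, 42, 60, 66, 68, 71], [37, 42, 60], .branch 66 730 732),
   ([37, 42, 60, 66, 68, 70, 71], [37, 42, 60], .kill .ff 53 70 733),
   ([37, 42, 60, 63, 66, 68, 70, 71], [37, 42, 60], .kill .ff 46 63 734),
   ([37, 42, 60, 63, 66, 68, 70, 71], [37, 42], .branch 60 727 735),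
   ([37, 42, 53], [37, 42, 53], .ones [.n 1, .n 0, .n 3, .n 2, .n 1, .n 0, .n 2, .n 1] 25),
   ([37, 42, 53, 69], [37, 42, 53, 69], .kill .pf 66 69 737),
   ([37, 42, 53, 66, 68], [37, 42, 53, 66, 68], .kill (.fp 69) 65 66 738),
   ([37, 42, 53, 66, 68], [37, 42, 53], .branch 66 737 739),
   ([37, 42, 53, 66, 68, 71], [37, 42, 53], .kill .ff 63 71 740),
   ([37, 42, 53, 66, 68, 70, 71], [37, 42, 53], .kill .ff 60 70 741),
   ([37, 42, 53, 63, 66, 68, 70, 71], [37, 42, 53], .zero 71 63 742),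
   ([37, 42, 53, 60, 63, 66, 68, 70, 71], [37, 42, 53], .zero 70 60 743),
   ([37, 42, 53, 60, 63, 66, 68, 70, 71], [37, 42], .branch 53 736 744),
   ([37, 42, 53, 60, 63, 65, 66, 68, 70, 71], [37, 42], .zero 66 65 745),
   ([37, 42, 51, 53, 60, 63, 66, 68, 70, 71], [37, 42, 51], .kill .pf 48 51 745),
   ([37, 42, 51, 53, 60, 63, 65, 66, 68, 70, 71], [37, 42, 51], .zero 66 65 747),
   ([37, 42, 48, 50, 53, 60, 63, 65, 66, 68, 70, 71], [37, 42, 48, 50], .kill (.fp 51) 47 48 748),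
   ([37, 42, 48, 50, 53, 60, 63, 65, 66, 68, 70, 71], [37, 42], .branch 48 746 749),
   ([37, 42, 44, 48, 50, 53, 60, 63, 65, 66, 68, 70, 71], [37, 42, 44], .kill .pf 40 44 750),
   ([37, 42, 40, 43, 48, 50, 53, 60, 63, 65, 66, 68, 70, 71], [37, 42, 40, 43], .kill (.fp 44) 39 40 751),
   ([37, 42, 40, 43, 48, 50, 53, 60, 63, 65, 66, 68, 70, 71], [37, 42], .branch 40 750 752),
   ([37, 42, 40, 43, 48, 50, 53, 60, 63, 55, 67, 65, 66, 68, 70, 71], [37, 42], .kill (.pp false) 54 55 753),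
   ([37, 42, 40, 43, 48, 50, 53, 60, 54, 64, 63, 55, 67, 65, 66, 68, 70, 71], [37, 42], .zero 55 54 754),
   ([37, 42, 40, 43, 48, 50, 45, 59, 53, 60, 54, 64, 63, 65, 66, 68, 70, 71], [37, 42], .kill (.pp false) 41 45 755),
   ([37, 42, 40, 43, 48, 50, 45, 59, 49, 61, 53, 60, 54, 64, 63, 65, 66, 68, 70, 71], [37, 42], .zero 52 49 756),
   ([37, 42, 40, 43, 47, 48, 50, 45, 59, 49, 61, 53, 60, 54, 64, 63, 65, 66, 68, 70, 71], [37, 42], .zero 48 47 757),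
   ([37, 42, 46], [37, 42, 46], .ones [.n 1, .n 0, .n 2, .n 3, .n 2, .n 1, .n 0, .n 2, .n 1] 25)]

/-- Part of the certificate. -/
def nodesE6_19 : List Node :=
  [([37, 42, 46, 69], [37, 42, 46, 69], .kill .pf 66 69 759),
   ([37, 42, 46, 66, 68], [37, 42, 46, 66, 68], .kill (.fp 69) 65 66 760),
   ([37, 42, 46, 66, 68], [37, 42, 46], .branch 66 759 761),
   ([37, 42, 46, 53], [37, 42, 46, 53], .ones [.n 3, .n 2, .n 1, .n 0, .n 2, .n 1, .n 3, .n 0, .n 1, .n 3, .n 2, .x 36, .n 3, .x 39, .n 1, .n 2, .n 1, .x 51] 25),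
   ([37, 42, 46, 53, 69], [37, 42, 46, 53, 69], .kill .pf 66 69 763),
   ([37, 42, 46, 53, 66, 68], [37, 42, 46, 53, 66, 68], .kill (.fp 69) 65 66 764),
   ([37, 42, 46, 53, 66, 68], [37, 42, 46, 53], .branch 66 763 765),
   ([37, 42, 46, 53, 66, 68], [37, 42, 46], .branch 53 762 766),
   ([37, 42, 46, 53, 66, 68, 70], [37, 42, 46], .zero 71 70 767),
   ([37, 42, 46, 51, 53, 66, 68], [37, 42, 46, 51], .kill .ff 44 51 767),
   ([37, 42, 46, 51, 53, 66, 68, 70], [37, 42, 46, 51], .zero 71 70 769),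
   ([37, 42, 46, 48, 50, 53, 66, 68, 70], [37, 42, 46, 48, 50], .kill (.fp 51) 47 48 770),
   ([37, 42, 46, 48, 50, 53, 66, 68, 70], [37, 42, 46], .branch 48 768 771),
   ([37, 42, 46, 47, 48, 50, 53, 66, 68, 70], [37, 42, 46], .zero 48 47 772),
   ([37, 42, 46, 48, 50, 51, 53, 66, 68, 70], [37, 42, 46], .kill .ff 44 51 772),
   ([37, 42, 46, 44, 48, 50, 51, 53, 66, 68, 70], [37, 42, 46, 44, 51], .kill .pf 40 44 774),
   ([37, 42, 46, 47, 44, 48, 50, 51, 53, 66, 68, 70], [37, 42, 46, 44, 51], .zero 48 47 775),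
   ([37, 42, 46, 40, 43, 47, 48, 50, 53, 66, 68, 70], [37, 42, 46, 40, 43], .kill (.fp 44) 39 40 776),
   ([37, 42, 46, 40, 43, 47, 48, 50, 53, 66, 68, 70], [37, 42, 46], .branch 40 773 777),
   ([37, 42, 46, 40, 43, 47, 48, 50, 53, 66, 68, 70, 71], [37, 42, 46], .kill .ff 70 71 778),
   ([37, 42, 46, 40, 43, 47, 48, 50, 53, 66, 68, 69, 70, 71], [37, 42, 46], .kill .pf 66 69 779),
   ([37, 42, 46, 40, 43, 47, 48, 50, 53, 55, 67, 66, 68, 69, 70, 71], [37, 42, 46], .kill (.pp false) 54 55 780),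
   ([37, 42, 46, 40, 43, 47, 48, 50, 53, 54, 64, 55, 67, 66, 68, 69, 70, 71], [37, 42, 46], .zero 55 54 781),
   ([37, 42, 46, 40, 43, 47, 48, 50, 52, 62, 53, 54, 64, 55, 67, 66, 68, 69, 70, 71], [37, 42, 46], .kill (.pp false) 45 52 782),
   ([37, 42, 46, 40, 43, 47, 48, 50, 52, 62, 53, 54, 64, 55, 67, 65, 66, 68, 69, 70, 71], [37, 42, 46], .zero 66 65 783),
   ([37, 42, 46, 40, 43, 47, 48, 50, 49, 61, 52, 62, 53, 54, 64, 55, 67, 65, 66, 68, 69, 70, 71], [37, 42, 46], .zero 52 49 784),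
   ([37, 42, 46, 40, 43, 47, 48, 50, 45, 59, 49, 61, 53, 54, 64, 65, 66, 68, 70, 71], [37, 42, 46], .kill (.pp false) 41 45 785),
   ([37, 42, 46, 40, 43, 47, 48, 50, 45, 59, 49, 61, 53, 54, 64, 63, 65, 66, 68, 70, 71], [37, 42, 46], .kill .ff 60 63 786),
   ([37, 42, 46, 40, 43, 47, 48, 50, 45, 59, 49, 61, 53, 60, 54, 64, 63, 65, 66, 68, 70, 71], [37, 42, 46], .zero 63 60 787),
   ([37, 42, 46, 40, 43, 47, 48, 50, 45, 59, 49, 61, 53, 60, 54, 64, 63, 65, 66, 68, 70, 71], [37, 42], .branch 46 758 788),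
   ([37, 42, 46, 40, 43, 47, 48, 50, 45, 59, 49, 61, 53, 60, 54, 64, 63, 65, 66, 68, 69, 70, 71], [37, 42], .kill .pf 66 69 789),
   ([37, 42, 46, 40, 43, 47, 48, 50, 45, 59, 49, 61, 53, 60, 54, 64, 63, 55, 67, 65, 66, 68, 69, 70, 71], [37, 42], .kill (.pp false) 54 55 790),
   ([37, 42, 46, 40, 43, 47, 48, 50, 45, 59, 49, 61, 52, 62, 53, 60, 54, 64, 63, 55, 67, 65, 66, 68, 69, 70, 71], [37, 42], .kill (.pp false) 49 52 791),
   ([37, 42, 46, 40, 43, 47, 48, 50, 45, 59, 49, 61, 51, 52, 62, 53, 60, 54, 64, 63, 55, 67, 65, 66, 68, 69, 70, 71], [37, 42], .kill .pf 48 51 792),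
   ([37, 42, 46, 40, 43, 47, 44, 48, 50, 45, 59, 49, 61, 51, 52, 62, 53, 60, 54, 64, 63, 55, 67, 65, 66, 68, 69, 70, 71], [37, 42], .kill .pf 40 44 793),
   ([37, 42, 46, 40, 43, 47, 41, 58, 44, 48, 50, 45, 59, 49, 61, 51, 52, 62, 53, 60, 54, 64, 63, 55, 67, 65, 66, 68, 69, 70, 71], [37, 42], .zero 45 41 794),
   ([37, 42, 46, 38, 57, 40, 43, 47, 41, 58, 44, 48, 50, 45, 59, 49, 61, 51, 52, 62, 53, 60, 54, 64, 63, 55, 67, 65, 66, 68, 69, 70, 71], [37, 42], .kill (.pp false) 36 38 795),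
   ([37, 42, 39, 46, 38, 57, 40, 43, 47, 41, 58, 44, 48, 50, 45, 59, 49, 61, 51, 52, 62, 53, 60, 54, 64, 63, 55, 67, 65, 66, 68, 69, 70, 71], [37, 42], .zero 40 39 796),
   ([37, 42, 39, 46, 38, 57, 40, 43, 47, 41, 58, 44, 48, 50, 45, 59, 49, 61, 51, 52, 62, 53, 60, 54, 64, 63, 55, 67, 65, 66, 68, 69, 70, 71], [], .branch 37 710 797),
   ([36, 56], [36, 56], .ones [.n 2, .n 1, .n 0, .n 2, .n 1, .n 2, .n 3] 10)]

/-- Part of the certificate. -/
def nodesE6_20 : List Node :=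
  [([36, 56, 71], [36, 56, 71], .ones [.n 2, .n 1, .n 0, .n 2, .n 1, .n 2] 25),
   ([36, 56, 71], [36, 56], .branch 71 799 800),
   ([36, 56, 70], [36, 56, 70], .ones [.n 0, .n 2, .n 1, .n 0, .n 2, .n 1, .n 2] 25),
   ([36, 56, 70, 71], [36, 56, 70], .kill .ff 46 71 802),
   ([36, 56, 70, 71], [36, 56], .branch 70 801 803),
   ([36, 56, 69], [36, 56, 69], .ones [.n 1, .n 0, .n 2, .n 1, .n 0, .n 2, .n 1, .n 2] 25),
   ([36, 56, 69, 71], [36, 56, 69], .kill .ff 47 71 805),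
   ([36, 56, 69, 70, 71], [36, 56, 69], .kill .ff 39 70 806),
   ([36, 56, 69, 70, 71], [36, 56], .branch 69 804 807),
   ([36, 56, 65, 69, 70, 71], [36, 56, 65], .kill .pf 54 65 808),
   ([36, 56, 54, 64, 69, 70, 71], [36, 56, 54, 64], .kill (.fp 65) 53 54 809),
   ([36, 56, 54, 64, 69, 70, 71], [36, 56], .branch 54 808 810),
   ([36, 56, 54, 64, 63, 69, 70, 71], [36, 56, 63], .kill .pf 52 63 811),
   ([36, 56, 52, 62, 54, 64, 69, 70, 71], [36, 56, 52, 62], .kill (.fp 63) 51 52 812),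
   ([36, 56, 52, 62, 54, 64, 69, 70, 71], [36, 56], .branch 52 811 813),
   ([36, 56, 52, 62, 60, 54, 64, 69, 70, 71], [36, 56, 60], .kill .pf 45 60 814),
   ([36, 56, 45, 59, 52, 62, 54, 64, 69, 70, 71], [36, 56, 45, 59], .kill (.fp 60) 44 45 815),
   ([36, 56, 45, 59, 52, 62, 54, 64, 69, 70, 71], [36, 56], .branch 45 814 816),
   ([36, 56, 45, 59, 52, 62, 53, 54, 64, 69, 70, 71], [36, 56], .zero 54 53 817),
   ([36, 56, 47], [36, 56, 47], .ones [.n 2, .n 1, .n 0, .n 2, .n 1, .n 3, .n 2, .n 1] 25),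
   ([36, 56, 47, 70], [36, 56, 47, 70], .ones [.n 0, .n 2, .n 1, .n 3, .n 0, .n 1, .n 3, .n 2, .x 36, .n 3, .x 39, .n 1, .n 2, .n 1, .x 51] 25),
   ([36, 56, 47, 70], [36, 56, 47], .branch 70 819 820),
   ([36, 56, 47, 65, 70], [36, 56, 47, 65], .kill .ff 60 65 821),
   ([36, 56, 47, 54, 64, 70], [36, 56, 47, 54, 64], .kill (.fp 65) 53 54 822),
   ([36, 56, 47, 54, 64, 70], [36, 56, 47], .branch 54 821 823),
   ([36, 56, 47, 54, 64, 69, 70], [36, 56, 47], .zero 71 69 824),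
   ([36, 56, 47, 54, 64, 70, 71], [36, 56, 47], .kill .ff 69 71 824),
   ([36, 56, 47, 54, 64, 63, 70], [36, 56, 47, 63], .kill .pf 52 63 826),
   ([36, 56, 47, 54, 64, 63, 69, 70], [36, 56, 47, 63], .zero 71 69 827),
   ([36, 56, 47, 52, 62, 54, 64, 69, 70], [36, 56, 47, 52, 62], .kill (.fp 63) 51 52 828),
   ([36, 56, 47, 52, 62, 54, 64, 69, 70], [36, 56, 47], .branch 52 825 829),
   ([36, 56, 47, 52, 62, 53, 54, 64, 69, 70], [36, 56, 47], .zero 54 53 830),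
   ([36, 56, 47, 52, 62, 54, 64, 69, 70, 71], [36, 56, 47], .kill .ff 69 71 830),
   ([36, 56, 47, 52, 62, 54, 64, 65, 69, 70, 71], [36, 56, 47], .kill .ff 60 65 832),
   ([36, 56, 47, 52, 62, 60, 54, 64, 65, 69, 70, 71], [36, 56, 47, 60, 65], .kill .pf 45 60 833),
   ([36, 56, 47, 52, 62, 53, 60, 54, 64, 65, 69, 70, 71], [36, 56, 47, 60, 65], .zero 54 53 834),
   ([36, 56, 47, 45, 59, 52, 62, 53, 54, 64, 69, 70], [36, 56, 47, 45, 59], .kill (.fp 60) 44 45 835),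
   ([36, 56, 47, 45, 59, 52, 62, 53, 54, 64, 69, 70], [36, 56, 47], .branch 45 831 836),
   ([36, 56, 47, 45, 59, 52, 62, 53, 54, 64, 69, 70, 71], [36, 56, 47], .kill .ff 69 71 837),
   ([36, 56, 47, 45, 59, 52, 62, 53, 54, 64, 69, 70, 71], [36, 56], .branch 47 818 838)]

/-- Part of the certificate. -/
def nodesE6_21 : List Node :=
  [([36, 56, 47, 45, 59, 52, 62, 53, 54, 64, 65, 69, 70, 71], [36, 56], .kill .pf 54 65 839),
   ([36, 56, 47, 45, 59, 52, 62, 53, 60, 54, 64, 69, 70, 71], [36, 56], .kill .pf 45 60 840),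
   ([36, 56, 47, 45, 59, 51, 52, 62, 53, 60, 54, 64, 69, 70, 71], [36, 56], .zero 52 51 841),
   ([36, 56, 46], [36, 56, 46], .ones [.n 1, .n 2, .n 1, .n 0, .n 2, .n 1, .n 3, .n 2, .n 1] 25),
   ([36, 56, 46, 69], [36, 56, 46, 69], .ones [.n 1, .n 0, .n 2, .n 1, .n 3, .n 0, .n 1, .n 3, .n 2, .x 36, .n 3, .x 39, .n 1, .n 2, .n 1, .x 51] 25),
   ([36, 56, 46, 69], [36, 56, 46], .branch 69 843 844),
   ([36, 56, 46, 65, 69], [36, 56, 46, 65], .kill .pf 54 65 845),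
   ([36, 56, 46, 54, 64, 69], [36, 56, 46, 54, 64], .kill (.fp 65) 53 54 846),
   ([36, 56, 46, 54, 64, 69], [36, 56, 46], .branch 54 845 847),
   ([36, 56, 46, 54, 64, 69, 70], [36, 56, 46], .zero 71 70 848),
   ([36, 56, 46, 60, 54, 64, 69, 70], [36, 56, 46], .zero 63 60 849),
   ([36, 56, 46, 51, 60, 54, 64, 69, 70], [36, 56, 46], .zero 52 51 850),
   ([36, 56, 46, 54, 64, 63, 69], [36, 56, 46], .kill .ff 60 63 848),
   ([36, 56, 46, 54, 64, 63, 69, 70], [36, 56, 46], .zero 71 70 852),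
   ([36, 56, 46, 60, 54, 64, 63, 69, 70], [36, 56, 46], .zero 63 60 853),
   ([36, 56, 46, 52, 62, 60, 54, 64, 63, 69, 70], [36, 56, 46, 52, 62, 63], .kill (.pp false) 45 52 854),
   ([36, 56, 46, 51, 52, 62, 60, 54, 64, 63, 69, 70], [36, 56, 46, 52, 62, 63], .zero 52 51 855),
   ([36, 56, 46, 45, 59, 51, 60, 54, 64, 69, 70], [36, 56, 46, 45, 59], .kill (.fp 60) 44 45 856),
   ([36, 56, 46, 45, 59, 51, 60, 54, 64, 69, 70], [36, 56, 46], .branch 45 851 857),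
   ([36, 56, 46, 45, 59, 51, 60, 54, 64, 69, 70, 71], [36, 56, 46], .kill .ff 70 71 858),
   ([36, 56, 46, 45, 59, 51, 60, 54, 64, 63, 69, 70, 71], [36, 56, 46], .kill .pf 52 63 859),
   ([36, 56, 46, 45, 59, 51, 52, 62, 60, 54, 64, 69, 70, 71], [36, 56, 46], .kill (.pp false) 45 52 860),
   ([36, 56, 46, 45, 59, 51, 52, 62, 53, 60, 54, 64, 69, 70, 71], [36, 56, 46], .zero 54 53 861),
   ([36, 56, 46, 47, 45, 59, 51, 52, 62, 53, 60, 54, 64, 69, 70, 71], [36, 56, 46], .kill .ff 39 47 862),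
   ([36, 56, 46, 47, 45, 59, 51, 52, 62, 53, 60, 54, 64, 69, 70, 71], [36, 56], .branch 46 842 863),
   ([36, 56, 46, 47, 45, 59, 51, 52, 62, 53, 60, 54, 64, 66, 68, 69, 70, 71], [36, 56], .kill (.pp false) 55 66 864),
   ([36, 56, 46, 47, 45, 59, 51, 52, 62, 53, 60, 54, 64, 65, 66, 68, 69, 70, 71], [36, 56], .kill .pf 54 65 865),
   ([36, 56, 46, 47, 45, 59, 51, 52, 62, 53, 60, 54, 64, 63, 65, 66, 68, 69, 70, 71], [36, 56], .kill .pf 52 63 866),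
   ([36, 56, 46, 47, 45, 59, 51, 52, 62, 53, 60, 54, 64, 63, 55, 67, 65, 66, 68, 69, 70, 71], [36, 56], .zero 66 55 867),
   ([36, 56, 46, 47, 45, 59, 49, 61, 51, 52, 62, 53, 60, 54, 64, 63, 55, 67, 65, 66, 68, 69, 70, 71], [36, 56], .kill (.pp false) 48 49 868),
   ([36, 56, 46, 47, 48, 50, 45, 59, 49, 61, 51, 52, 62, 53, 60, 54, 64, 63, 55, 67, 65, 66, 68, 69, 70, 71], [36, 56], .zero 49 48 869),
   ([36, 56, 46, 47, 41, 58, 48, 50, 45, 59, 49, 61, 51, 52, 62, 53, 60, 54, 64, 63, 55, 67, 69, 70, 71], [36, 56], .kill (.pp false) 40 41 870),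
   ([36, 56, 46, 38, 57, 47, 41, 58, 48, 50, 45, 59, 49, 61, 51, 52, 62, 53, 60, 54, 64, 63, 55, 67, 69, 70, 71], [36, 56], .kill (.pp false) 37 38 871),
   ([36, 56, 46, 38, 57, 47, 41, 58, 44, 48, 50, 45, 59, 49, 61, 51, 52, 62, 53, 60, 54, 64, 63, 55, 67, 69, 70, 71], [36, 56], .zero 45 44 872),
   ([36, 56, 46, 38, 57, 40, 43, 47, 41, 58, 44, 48, 50, 45, 59, 49, 61, 51, 52, 62, 53, 60, 54, 64, 63, 55, 67, 69, 70, 71], [36, 56], .zero 41 40 873),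
   ([36, 56, 39], [36, 56, 39], .ones [.n 0, .n 2, .n 1, .n 0, .n 2, .n 1, .n 3, .n 2, .n 1] 25),
   ([36, 56, 39, 71], [36, 56, 39, 71], .ones [.n 2, .n 1, .n 3, .n 0, .n 1, .n 3, .n 2, .x 36, .n 3, .x 39, .n 1, .n 2, .n 1, .x 51] 25),
   ([36, 56, 39, 71], [36, 56, 39], .branch 71 875 876),
   ([36, 56, 39, 63, 71], [36, 56, 39], .zero 65 63 877),
   ([36, 56, 39, 53, 63, 71], [36, 56, 39], .zero 54 53 878)]

/-- Part of the certificate. -/
def nodesE6_22 : List Node :=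
  [([36, 56, 39, 65, 71], [36, 56, 39], .kill .pf 54 65 877),
   ([36, 56, 39, 63, 65, 71], [36, 56, 39], .zero 65 63 880),
   ([36, 56, 39, 54, 64, 63, 65, 71], [36, 56, 39, 54, 64, 65], .kill (.pp false) 52 54 881),
   ([36, 56, 39, 53, 54, 64, 63, 65, 71], [36, 56, 39, 54, 64, 65], .zero 54 53 882),
   ([36, 56, 39, 52, 62, 53, 63, 71], [36, 56, 39, 52, 62], .kill (.fp 63) 51 52 883),
   ([36, 56, 39, 52, 62, 53, 63, 71], [36, 56, 39], .branch 52 879 884),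
   ([36, 56, 39, 52, 62, 53, 63, 69, 71], [36, 56, 39], .zero 70 69 885),
   ([36, 56, 39, 52, 62, 53, 63, 70, 71], [36, 56, 39], .kill .ff 69 70 885),
   ([36, 56, 39, 52, 62, 53, 63, 69, 70, 71], [36, 56, 39], .zero 70 69 887),
   ([36, 56, 39, 52, 62, 53, 60, 63, 69, 70, 71], [36, 56, 39, 60], .kill .pf 45 60 888),
   ([36, 56, 39, 45, 59, 52, 62, 53, 63, 69, 71], [36, 56, 39, 45, 59], .kill (.fp 60) 44 45 889),
   ([36, 56, 39, 45, 59, 52, 62, 53, 63, 69, 71], [36, 56, 39], .branch 45 886 890),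
   ([36, 56, 39, 45, 59, 52, 62, 53, 63, 69, 70, 71], [36, 56, 39], .kill .ff 69 70 891),
   ([36, 56, 39, 45, 59, 52, 62, 53, 63, 66, 68, 69, 70, 71], [36, 56, 39], .kill (.pp false) 55 66 892),
   ([36, 56, 39, 45, 59, 52, 62, 53, 63, 65, 66, 68, 69, 70, 71], [36, 56, 39], .kill .pf 54 65 893),
   ([36, 56, 39, 45, 59, 52, 62, 53, 54, 64, 63, 65, 66, 68, 69, 70, 71], [36, 56, 39], .kill (.pp false) 52 54 894),
   ([36, 56, 39, 45, 59, 52, 62, 53, 60, 54, 64, 63, 65, 66, 68, 69, 70, 71], [36, 56, 39], .kill .pf 45 60 895),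
   ([36, 56, 39, 45, 59, 52, 62, 53, 60, 54, 64, 63, 55, 67, 65, 66, 68, 69, 70, 71], [36, 56, 39], .zero 66 55 896),
   ([36, 56, 39, 45, 59, 49, 61, 52, 62, 53, 60, 54, 64, 63, 55, 67, 65, 66, 68, 69, 70, 71], [36, 56, 39], .kill (.pp false) 48 49 897),
   ([36, 56, 39, 41, 58, 45, 59, 49, 61, 52, 62, 53, 60, 54, 64, 63, 55, 67, 65, 66, 68, 69, 70, 71], [36, 56, 39], .kill (.pp false) 38 41 898),
   ([36, 56, 39, 41, 58, 44, 45, 59, 49, 61, 52, 62, 53, 60, 54, 64, 63, 55, 67, 65, 66, 68, 69, 70, 71], [36, 56, 39], .zero 45 44 899),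
   ([36, 56, 39, 40, 43, 41, 58, 44, 45, 59, 49, 61, 52, 62, 53, 60, 54, 64, 63, 55, 67, 65, 66, 68, 69, 70, 71], [36, 56, 39], .zero 41 40 900),
   ([36, 56, 39, 38, 57, 40, 43, 44, 45, 59, 49, 61, 52, 62, 53, 60, 54, 64, 63, 55, 67, 65, 66, 68, 69, 70, 71], [36, 56, 39], .kill (.pp false) 37 38 901),
   ([36, 56, 39, 38, 57, 40, 43, 44, 45, 59, 49, 61, 51, 52, 62, 53, 60, 54, 64, 63, 55, 67, 65, 66, 68, 69, 70, 71], [36, 56, 39], .zero 52 51 902),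
   ([36, 56, 39, 38, 57, 40, 43, 44, 48, 50, 45, 59, 49, 61, 51, 52, 62, 53, 60, 54, 64, 63, 55, 67, 65, 66, 68, 69, 70, 71], [36, 56, 39], .zero 49 48 903),
   ([36, 56, 39, 38, 57, 40, 43, 47, 44, 48, 50, 45, 59, 49, 61, 51, 52, 62, 53, 60, 54, 64, 63, 55, 67, 65, 66, 68, 69, 70, 71], [36, 56, 39], .kill .ff 46 47 904),
   ([36, 56, 39, 38, 57, 40, 43, 47, 41, 58, 44, 48, 50, 45, 59, 49, 61, 51, 52, 62, 53, 54, 64, 63, 55, 67, 69, 71], [36, 56, 39], .kill (.pp false) 40 41 905),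
   ([36, 56, 39, 38, 57, 40, 43, 47, 41, 58, 44, 48, 50, 45, 59, 49, 61, 51, 52, 62, 53, 54, 64, 63, 55, 67, 69, 70, 71], [36, 56, 39], .kill .ff 69 70 906),
   ([36, 56, 39, 38, 57, 40, 43, 47, 41, 58, 44, 48, 50, 45, 59, 49, 61, 51, 52, 62, 53, 54, 64, 63, 55, 67, 66, 68, 69, 70, 71], [36, 56, 39], .kill (.pp false) 55 66 907),
   ([36, 56, 39, 38, 57, 40, 43, 47, 41, 58, 44, 48, 50, 45, 59, 49, 61, 51, 52, 62, 53, 54, 64, 63, 55, 67, 65, 66, 68, 69, 70, 71], [36, 56, 39], .kill .pf 54 65 908),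
   ([36, 56, 39, 38, 57, 40, 43, 47, 41, 58, 44, 48, 50, 45, 59, 49, 61, 51, 52, 62, 53, 60, 54, 64, 63, 55, 67, 69, 70, 71], [36, 56, 39], .kill .pf 45 60 909),
   ([36, 56, 39, 46, 38, 57, 40, 43, 47, 41, 58, 44, 48, 50, 45, 59, 49, 61, 51, 52, 62, 53, 60, 54, 64, 63, 55, 67, 69, 70, 71], [36, 56, 39], .zero 47 46 910),
   ([36, 56, 39, 46, 38, 57, 40, 43, 47, 41, 58, 44, 48, 50, 45, 59, 49, 61, 51, 52, 62, 53, 60, 54, 64, 63, 55, 67, 69, 70, 71], [36, 56], .branch 39 874 911),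
   ([36, 56, 39, 46, 38, 57, 40, 43, 47, 41, 58, 44, 48, 50, 45, 59, 49, 61, 51, 52, 62, 53, 60, 54, 64, 63, 55, 67, 66, 68, 69, 70, 71], [36, 56], .kill (.pp false) 55 66 912),
   ([36, 56, 39, 46, 38, 57, 40, 43, 47, 41, 58, 44, 48, 50, 45, 59, 49, 61, 51, 52, 62, 53, 60, 54, 64, 63, 55, 67, 65, 66, 68, 69, 70, 71], [36, 56], .kill .pf 54 65 913),
   ([36, 56, 37, 42, 39, 46, 38, 57, 40, 43, 47, 41, 58, 44, 48, 50, 45, 59, 49, 61, 51, 52, 62, 53, 60, 54, 64, 63, 55, 67, 65, 66, 68, 69, 70, 71], [36, 56], .zero 38 37 914),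
   ([36, 56, 37, 42, 39, 46, 38, 57, 40, 43, 47, 41, 58, 44, 48, 50, 45, 59, 49, 61, 51, 52, 62, 53, 60, 54, 64, 63, 55, 67, 65, 66, 68, 69, 70, 71], [], .branch 36 798 915)]

/-- The certificate. -/
def nodesE6 : List Node :=
  nodesE6_0 ++
    nodesE6_1 ++
    nodesE6_2 ++
    nodesE6_3 ++
    nodesE6_4 ++
    nodesE6_5 ++
    nodesE6_6 ++
    nodesE6_7 ++
    nodesE6_8 ++
    nodesE6_9 ++
    nodesE6_10 ++
    nodesE6_11 ++
    nodesE6_12 ++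
    nodesE6_13 ++
    nodesE6_14 ++
    nodesE6_15 ++
    nodesE6_16 ++
    nodesE6_17 ++
    nodesE6_18 ++
    nodesE6_19 ++
    nodesE6_20 ++
    nodesE6_21 ++
    nodesE6_22

end CfsgLib.Chev.InvolTwist
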