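import Cfsg.Agent.Chev.InvolTwistE6Ok0

/-! Check of part 1 of the certificate for `²E₆(q)`, `q` even. -/

set_option autoImplicit false
set_option maxRecDepth 100000

namespace CfsgLib.Chev.InvolTwist

theorem nodesE6_ok5 :
    (List.range' 250 50).all (chkNode E6Data.tab patE6 repsE6 nodesE6) = true := by
  decide +kernel

theorem nodesE6_ok6 :
    (List.range' 300 50).all (chkNode E6Data.tab patE6 repsE6 nodesE6) = true := by
  decide +kernel

theorem nodesE6_ok7 :
    (List.range' 350 50).all (chkNode E6Data.tab patE6 repsE6 nodesE6) = true := by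
  decide +kernel

theorem nodesE6_ok8 :
    (List.range' 400 50).all (chkNode E6Data.tab patE6 repsE6 nodesE6) = true := by
  decide +kernel

end CfsgLib.Chev.InvolTwist
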