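import Cfsg.Agent.Chev.InvolTwistE6Ok3

/-! Check of part 4 of the certificate for `²E₆(q)`, `q` even. -/

set_option autoImplicit false
set_option maxRecDepth 100000

namespace CfsgLib.Chev.InvolTwist

theorem nodesE6_ok14 :
    (List.range' 700 50).all (chkNode E6Data.tab patE6 repsE6 nodesE6) = true := by
  decide +kernel

theorem nodesE6_ok15 :
    (List.range' 750 50).all (chkNode E6Data.tab patE6 repsE6 nodesE6) = true := by
  decide +kernel

end CfsgLib.Chev.InvolTwist
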