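import Cfsg.Agent.Chev.InvolTwist

/-!
The start of a reduction: every element of the positive unipotent group has coordinates in the order
of collection, and every involution of the group is conjugate into the fixed unipotent group.
-/

set_option autoImplicit false
set_option linter.unusedSectionVars false

namespace CfsgLib.Chev.InvolTwist

open Cfsg.Lie Tab Matrix CfsgLib.Chev.CharTwo
open CfsgLib.Chev.InvolReduce (el wordS wv_wordS)
open scoped MatrixGroups

variable {D : ChevalleyDatum} {T : Tab D} {G : T.Good} {F : Type*} [Field F]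

theorem segProd_eq_el (S : Set ℕ) (f : ℕ → F) (p : ℕ → Bool) : ∀ m k,
    (∀ r, k ≤ r → r < k + m → (r ∈ S ↔ p r = true)) →
      G.segProd S f k m = el G ((List.range' k m).filter p) f
  | 0, _, _ => by simp [Tab.Good.segProd, el]
  | m + 1, k, h => by
    rw [Tab.Good.segProd, segProd_eq_el S f p m (k + 1) fun r h1 h2 => h r (by omega) (by omega),
      List.range'_succ, List.filter_cons]
    by_cases hk : p k = true
    · rw [if_pos ((h k le_rfl (by omega)).mpr hk), if_pos hk]
      simp [el]
    · rw [if_neg (mt (h k le_rfl (by omega)).mp hk), if_neg hk, one_mul]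

/-- The positive roots in increasing order can be collected. -/
def chkStart (T : Tab D) (P : Pat) : Bool :=
  (norm T P.ord 100000
    (wordS ((List.range' 0 D.nroots).filter fun r => decide (IsPos D r)))).isSome

theorem exists_coords [CharP F 2] {P : Pat} (hs : chkStart T P = true) {u : GL D.Idx F}
    (hu : u ∈ D.posUnipotent F) : ∃ f : ℕ → F, u = el G P.ord f := by
  have hc : T.Closed {r | IsPos D r} := G.closed_pos
  rw [G.posUnipotent_eq, ← SetLike.mem_coe, G.US_eq_range hc] at hu
  obtain ⟨f, rfl⟩ := hu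
  show ∃ g, G.segProd {r | IsPos D r} f 0 D.nroots = el G P.ord g
  rw [segProd_eq_el {r | IsPos D r} f (fun r => decide (IsPos D r)) _ _
    (fun r _ _ => (decide_eq_true_iff).symm)]
  obtain ⟨L, hL⟩ := Option.isSome_iff_exists.mp hs
  refine ⟨_, (wv_wordS G _ f []).symm.trans (norm_sound G (CharP.cast_eq_zero F 2) hL _)⟩

/-- An element of order two is conjugate into the fixed unipotent group. -/
theorem Setup.exists_conj [Fintype F] [CharP F 2] {P : Pat} (W : Setup T G F P)
    (hs : chkStart T P = true) {S : Sylow 2 W.H}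
    (hS : (S : Subgroup W.H) ≤ (W.Φ.Fix ⊓ D.posUnipotent F).subgroupOf W.H) {g : W.H}
    (hg : orderOf g = 2) : ∃ c : W.H, ∃ f : ℕ → F, W.Inv f ∧
      ((c * g * c⁻¹ : W.H) : GL D.Idx F) = el G P.ord f := by
  haveI : Fact (Nat.Prime 2) := ⟨Nat.prime_two⟩
  have hp : IsPGroup 2 (Subgroup.zpowers g) :=
    IsPGroup.of_card (n := 1) (by rw [Nat.card_zpowers, hg, pow_one])
  obtain ⟨Q, hQ⟩ := hp.exists_le_sylow
  obtain ⟨c, hc⟩ := MulAction.exists_smul_eq W.H Q S
  have hmem : c * g * c⁻¹ ∈ (S : Subgroup W.H) := by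
    rw [← hc, Sylow.coe_subgroup_smul, Subgroup.mem_smul_pointwise_iff_exists]
    exact ⟨_, hQ (Subgroup.mem_zpowers _), rfl⟩
  have hU := Subgroup.mem_subgroupOf.mp (hS hmem)
  obtain ⟨f, hf⟩ := exists_coords (G := G) hs hU.2
  exact ⟨c, f, (W.fix_iff f).mp (hf ▸ hU.1), hf⟩

end CfsgLib.Chev.InvolTwist
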