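import Cfsg.Agent.Chev.RootMap
import Cfsg.Agent.Chev.BNP
import Cfsg.Agent.Chev.GoodAll
import Mathlib.Algebra.CharP.Two

/-!
Checks for simply laced tables (ordering by coefficient vectors, single-term commutator formula)
and the resulting conjugation rules in characteristic two.
-/

set_option autoImplicit false
set_option linter.style.haveILetI false

namespace CfsgLib.Chev

open Cfsg.Lie Matrix
open scoped MatrixGroups

namespace Tab

variable {D : ChevalleyDatum}

/-- The root `r + s`. -/
def upR (T : Tab D) (r s : ℕ) : ℕ := (T.rootT r s 1).getD 0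

/-- The root `t - r`. -/
def dnR (T : Tab D) (r t : ℕ) : ℕ := (T.rootT (negR D r) t 1).getD 0

/-- The coefficient vector read as a number in base eight. -/
def keyR (T : Tab D) (r : ℕ) : ℤ :=
  ((List.range D.rank).map fun j => T.cor r j * (8 : ℤ) ^ (D.rank - 1 - j)).sum

/-- Positivity as a Boolean. -/
def posB (D : ChevalleyDatum) (r : ℕ) : Bool := Nat.blt r D.nroots && Nat.ble D.nroots (Nat.mul 2 r)

theorem posB_iff (D : ChevalleyDatum) (r : ℕ) : posB D r = true ↔ IsPos D r := by
  simp [posB, IsPos, Nat.blt_eq, Nat.ble_eq]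

/-- The pair `(r, s)` of positive roots behaves as in a simply laced system. -/
def chkSLPair (T : Tab D) (r s : ℕ) : Bool :=
  decide (T.pairT r s = T.pairT s r) && (Nat.beq r s ||
    cond (decide (T.pairT r s = -1))
      (match T.commT r s with
        | [(k, c, a, b)] => (decide (c = 1) || decide (c = -1)) && Nat.beq a 1 && Nat.beq b 1 &&
            Nat.beq k (T.upR r s) && Nat.beq (T.dnR r k) s &&
            allBelow (fun j => decide (T.cor k j = T.cor r j + T.cor s j)) D.rank
        | _ => false)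
      ((T.commT r s).isEmpty &&
        cond (decide (T.pairT r s = 1))
          (cond (Nat.blt r s)
            (posB D (T.dnR r s) && decide (T.pairT r (T.dnR r s) = -1) &&
              Nat.beq (T.upR r (T.dnR r s)) s)
            (allBelow (fun j => decide (T.cor s j ≤ T.cor r j)) D.rank))
          (decide (T.pairT r s = 0))))

/-- All pairs of positive roots, and increasing keys. -/
def chkSL (T : Tab D) : Bool :=
  allBelow (fun r => Nat.blt (Nat.mul 2 r) D.nroots ||
    (allBelow (fun s => Nat.blt (Nat.mul 2 s) D.nroots || T.chkSLPair r s) D.nroots &&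
      (Nat.ble D.nroots (r + 1) || decide (T.keyR r < T.keyR (r + 1))))) D.nroots

/-- A table with all checks, of simply laced type. -/
structure SL (T : Tab D) : Prop where
  good : T.Good
  chk : T.chkSL = true

namespace SL

variable {T : Tab D} (S : T.SL)
include S

theorem pair_chk {r s : ℕ} (hr : IsPos D r) (hs : IsPos D s) : T.chkSLPair r s = true := by
  have h := S.chk
  simp only [chkSL, allBelow_iff, Bool.or_eq_true, Bool.and_eq_true, Nat.blt_eq, Nat.mul_eq] at h
  have h1 := ((h r hr.1).resolve_left (by have := hr.2; omega)).1 s hs.1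
  exact h1.resolve_left (by have := hs.2; omega)

theorem key_lt {r s : ℕ} (hr : IsPos D r) (hs : IsPos D s) (h : r < s) :
    T.keyR r < T.keyR s := by
  have h' := S.chk
  simp only [chkSL, allBelow_iff, Bool.or_eq_true, Bool.and_eq_true, Nat.blt_eq, Nat.mul_eq,
    Nat.ble_eq, decide_eq_true_eq] at h'
  have step : ∀ k, IsPos D k → IsPos D (k + 1) → T.keyR k < T.keyR (k + 1) := fun k hk hk' =>
    (((h' k hk.1).resolve_left (by have := hk.2; omega)).2).resolve_left
      (by have := hk'.1; omega)
  obtain ⟨d, rfl⟩ := Nat.exists_eq_add_of_le (Nat.succ_le_of_lt h)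
  clear h
  induction d with
  | zero => exact step r hr hs
  | succ d ih =>
    have hm : IsPos D (r.succ + d) := ⟨by have := hs.1; omega, by have := hr.2; omega⟩
    exact lt_trans (ih hm) (step _ hm hs)

theorem le_of_key_le {r s : ℕ} (hr : IsPos D r) (hs : IsPos D s) (h : T.keyR r ≤ T.keyR s) :
    r ≤ s := by
  by_contra hc
  exact absurd (S.key_lt hs hr (by omega)) (not_lt.mpr h)

theorem eq_of_key_eq {r s : ℕ} (hr : IsPos D r) (hs : IsPos D s) (h : T.keyR r = T.keyR s) :
    r = s :=
  le_antisymm (S.le_of_key_le hr hs h.le) (S.le_of_key_le hs hr h.ge)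

theorem pair_self {r : ℕ} (hr : IsPos D r) : T.pairT r r = 2 :=
  (S.good.full.cert.root_spec hr.1).2.2.2.2

theorem pair_symm {r s : ℕ} (hr : IsPos D r) (hs : IsPos D s) : T.pairT r s = T.pairT s r := by
  have h := S.pair_chk hr hs
  simp only [chkSLPair, Bool.and_eq_true, decide_eq_true_eq] at h
  exact h.1

theorem up_spec {r s : ℕ} (hr : IsPos D r) (hs : IsPos D s) (h : T.pairT r s = -1) :
    IsPos D (T.upR r s) ∧ T.dnR r (T.upR r s) = s ∧
      (∀ j < D.rank, T.cor (T.upR r s) j = T.cor r j + T.cor s j) ∧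
      ∃ c : ℤ, (c = 1 ∨ c = -1) ∧ T.commT r s = [(T.upR r s, c, 1, 1)] := by
  have hne : r ≠ s := fun e => by rw [e, S.pair_self hs] at h; omega
  have h' := S.pair_chk hr hs
  simp only [chkSLPair, Bool.and_eq_true, Bool.or_eq_true, Nat.beq_eq, hne, false_or, h,
    decide_true, cond_true] at h'
  obtain ⟨-, h'⟩ := h'
  split at h'
  next k c a b heq =>
    simp only [Bool.and_eq_true, Bool.or_eq_true, Nat.beq_eq, decide_eq_true_eq,
      allBelow_iff] at h'
    obtain ⟨⟨⟨⟨⟨hc, rfl⟩, rfl⟩, rfl⟩, hdn⟩, hcor⟩ := h'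
    exact ⟨(S.good.comm_keys hr hs (c := (T.upR r s, c, 1, 1)) (by simp [heq])).1, hdn, hcor, c,
      hc, heq⟩
  next => exact absurd h' Bool.false_ne_true

theorem comm_nil {r s : ℕ} (hr : IsPos D r) (hs : IsPos D s) (hne : r ≠ s)
    (h : T.pairT r s ≠ -1) : T.commT r s = [] ∧ (T.pairT r s = 0 ∨ T.pairT r s = 1) := by
  have h' := S.pair_chk hr hs
  simp only [chkSLPair, Bool.and_eq_true, Bool.or_eq_true, Nat.beq_eq, hne, false_or, h,
    decide_false, cond_false, List.isEmpty_iff] at h'
  obtain ⟨-, h1, h2⟩ := h'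
  refine ⟨h1, ?_⟩
  by_cases e : T.pairT r s = 1
  · exact Or.inr e
  · simp only [e, decide_false, cond_false, decide_eq_true_eq] at h2
    exact Or.inl h2

theorem pair_cases {r s : ℕ} (hr : IsPos D r) (hs : IsPos D s) (hne : r ≠ s) :
    T.pairT r s = -1 ∨ T.pairT r s = 0 ∨ T.pairT r s = 1 := by
  by_cases h : T.pairT r s = -1
  · exact Or.inl h
  · exact Or.inr (S.comm_nil hr hs hne h).2

theorem one_spec {r t : ℕ} (hr : IsPos D r) (ht : IsPos D t) (h : T.pairT r t = 1) :
    (r < t → IsPos D (T.dnR r t) ∧ T.pairT r (T.dnR r t) = -1 ∧ T.upR r (T.dnR r t) = t) ∧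
      (¬ r < t → ∀ j < D.rank, T.cor t j ≤ T.cor r j) := by
  have hne : r ≠ t := fun e => by rw [e, S.pair_self ht] at h; omega
  have h' := S.pair_chk hr ht
  simp only [chkSLPair, Bool.and_eq_true, Bool.or_eq_true, Nat.beq_eq, hne, false_or, h,
    show ¬ ((1 : ℤ) = -1) by decide, decide_false, cond_false, decide_true, cond_true] at h'
  refine ⟨fun hlt => ?_, fun hlt => ?_⟩
  · have e : Nat.blt r t = true := by simpa [Nat.blt_eq] using hlt
    simp only [e, cond_true, Bool.and_eq_true, decide_eq_true_eq, Nat.beq_eq, posB_iff] at h'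
    exact ⟨h'.2.2.1.1, h'.2.2.1.2, h'.2.2.2⟩
  · have e : Nat.blt r t = false := by simpa [← Bool.not_eq_true, Nat.blt_eq] using hlt
    simp only [e, cond_false, allBelow_iff, decide_eq_true_eq] at h'
    exact h'.2.2

theorem lin {r s : ℕ} (hr : IsPos D r) (hs : IsPos D s) (h : T.pairT r s = -1) (w : ℕ) :
    T.pairT (T.upR r s) w = T.pairT r w + T.pairT s w := by
  simp only [pairT_eq_sum, ← Finset.sum_add_distrib]
  refine Finset.sum_congr rfl fun j _ => ?_
  rw [(S.up_spec hr hs h).2.2.1 j j.isLt]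
  ring

theorem lin_right {r s w : ℕ} (hr : IsPos D r) (hs : IsPos D s) (hw : IsPos D w)
    (h : T.pairT r s = -1) : T.pairT w (T.upR r s) = T.pairT w r + T.pairT w s := by
  rw [S.pair_symm hw (S.up_spec hr hs h).1, S.lin hr hs h, S.pair_symm hw hr, S.pair_symm hw hs]

theorem key_up {r s : ℕ} (hr : IsPos D r) (hs : IsPos D s) (h : T.pairT r s = -1) :
    T.keyR (T.upR r s) = T.keyR r + T.keyR s := by
  simp only [keyR, list_sum_range (fun j => T.cor _ j * (8 : ℤ) ^ (D.rank - 1 - j))]
  rw [← Finset.sum_add_distrib]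
  refine Finset.sum_congr rfl fun j _ => ?_
  rw [(S.up_spec hr hs h).2.2.1 j j.isLt]
  ring

theorem up_comm {r s : ℕ} (hr : IsPos D r) (hs : IsPos D s) (h : T.pairT r s = -1) :
    T.upR r s = T.upR s r := by
  have h' : T.pairT s r = -1 := (S.pair_symm hs hr).trans h
  refine S.eq_of_key_eq (S.up_spec hr hs h).1 (S.up_spec hs hr h').1 ?_
  rw [S.key_up hr hs h, S.key_up hs hr h', add_comm]

theorem cor_nonneg {r : ℕ} (hr : IsPos D r) {j : ℕ} (hj : j < D.rank) : 0 ≤ T.cor r j :=
  (S.good.cor_sign hr.1 hj).1 hr.2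

/-! ### Characteristic two -/

variable {F : Type*} [Field F] [CharP F 2]

omit S in
theorem sign_cast {c : ℤ} (h : c = 1 ∨ c = -1) : (c : F) = 1 := by
  rcases h with rfl | rfl
  · simp
  · simp [CharTwo.neg_eq]

/-- Conjugation of positive root elements: the commuting case. -/
theorem commute {r s : ℕ} (hr : IsPos D r) (hs : IsPos D s) (h : T.pairT r s ≠ -1) (t u : F) :
    Commute (S.good.full.x r t) (S.good.full.x s u) := by
  refine S.good.x_commute (F := F) (p := 2) (CharP.cast_eq_zero F 2) ?_ t u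
  simp only [chkCommute, Bool.and_eq_true, Bool.or_eq_true, Nat.blt_eq, Nat.beq_eq,
    List.all_eq_true]
  refine ⟨⟨hr.1, hs.1⟩, ?_⟩
  by_cases e : s = r
  · exact Or.inl e
  · refine Or.inr ⟨?_, ?_⟩
    · simp only [Bool.not_eq_true', ← Bool.not_eq_true, Nat.beq_eq]
      exact (S.good.ord_spec hr).2 s hs
    · rw [(S.comm_nil hr hs (Ne.symm e) h).1]
      exact fun _ hm => absurd hm List.not_mem_nil

/-- Conjugation of positive root elements: the non-commuting case. -/
theorem conj_up {r s : ℕ} (hr : IsPos D r) (hs : IsPos D s) (h : T.pairT r s = -1) (t u : F) :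
    S.good.full.x r t * S.good.full.x s u * (S.good.full.x r t)⁻¹ =
      S.good.full.x s u * S.good.full.x (T.upR r s) (t * u) := by
  have hne : s ≠ r := fun e => by rw [e, S.pair_self hr] at h; omega
  obtain ⟨-, -, -, c, hc, hcomm⟩ := S.up_spec hr hs h
  have e := S.good.full.x_comm hr.1 hs.1 hne ((S.good.ord_spec hr).2 s hs) t u
  rw [S.good.full.cert.commWord_eq hr.1 hs.1, hcomm] at e
  simp only [rhsWord, List.map_cons, List.map_nil, List.prod_cons, List.prod_nil, mul_one,
    pow_one, sign_cast (F := F) hc, one_mul, CharTwo.neg_eq] at e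
  rw [S.good.full.x_inv, CharTwo.neg_eq]
  have e' : S.good.full.x r t * S.good.full.x s u =
      S.good.full.x s u * S.good.full.x r t * S.good.full.x (T.upR r s) (t * u) := by
    rw [e]
    simp only [mul_assoc, S.good.full.x_add, CharTwo.add_self_eq_zero, S.good.full.x_zero, mul_one]
  have hk : Commute (S.good.full.x r t) (S.good.full.x (T.upR r s) (t * u)) := by
    refine S.commute hr (S.up_spec hr hs h).1 ?_ _ _
    rw [S.lin_right hr hs hr h, S.pair_self hr, h]
    decide
  rw [e', mul_assoc (_ * S.good.full.x r t), ← hk.eq]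
  simp only [mul_assoc]
  rw [← mul_assoc (S.good.full.x r t) (S.good.full.x r t), S.good.full.x_add,
    CharTwo.add_self_eq_zero, S.good.full.x_zero, one_mul]

end SL

end Tab

end CfsgLib.Chev
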