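import Cfsg.Agent.Chev.InvolTwoRad
import Mathlib.FieldTheory.Finite.Basic

/-!
The induction along a chain of abelian radicals.
-/

set_option autoImplicit false
set_option linter.style.haveILetI false

namespace CfsgLib.Chev

open Cfsg.Lie Matrix
open scoped MatrixGroups Classical

namespace Tab

variable {D : ChevalleyDatum}

/-- The positive roots with coefficient zero at the given nodes. -/
def Sset (T : Tab D) (ks : List ℕ) : Set ℕ := {r | IsPos D r ∧ ∀ i ∈ ks, T.cor r i = 0}

/-- The nodes of `rest` successively cut out radicals of level one and exhaust the roots. -/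
def chkLvls (T : Tab D) : List ℕ → List ℕ → Bool
  | done, [] => allBelow (fun r => !(posB D r) || done.any fun i => decide (T.cor r i ≠ 0)) D.nroots
  | done, k :: rest => Nat.blt k D.rank &&
      allBelow (fun r => !(posB D r) || (done.any fun i => decide (T.cor r i ≠ 0)) ||
        decide (T.cor r k ≤ 1)) D.nroots &&
      done.all (fun i => Nat.blt i D.rank) && chkLvls T (done ++ [k]) rest

namespace SL

variable {T : Tab D} (S : T.SL) {F : Type*} [Field F]
include S

theorem hr_conj_x {r s : ℕ} (hr : r < D.nroots) (hs : s < D.nroots) {t : F} (ht : t ≠ 0) (u : F) :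
    S.good.full.hr r t * S.good.full.x s u * (S.good.full.hr r t)⁻¹ =
      S.good.full.x s (t ^ (T.pairT r s) * u) := by
  have e : T.chi (F := F) s (fun i => Units.mk0 t ht ^ T.cor r i) =
      Units.mk0 t ht ^ T.pairT r s := by
    rw [pairT_eq_sum, zpow_sum_eq_prod]
    simp only [chi, MonoidHom.coe_mk, OneHom.coe_mk, ← _root_.zpow_mul]
  rw [S.good.full.hr_eq_hT hr ht, S.good.full.hT_conj hs, e, Units.val_zpow_eq_zpow_val]
  rfl

theorem segProd_sub {A B : Set ℕ} (hAB : ∀ r ∈ A, r ∈ B) (f : ℕ → F) :
    ∀ m j, S.good.segProd A f j m =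
      S.good.segProd B (fun r => if r ∈ A then f r else 0) j m := by
  intro m
  induction m with
  | zero => intro j; rfl
  | succ m ih =>
    intro j
    simp only [Good.segProd, ih (j + 1)]
    by_cases h : j ∈ A
    · simp [h, hAB j h]
    · simp [h, S.good.full.x_zero]

theorem inter_trivial {A B C : Set ℕ} (hA : T.Closed A) (hB : T.Closed B) (hC : T.Closed C)
    (hAC : ∀ r ∈ A, r ∈ C) (hBC : ∀ r ∈ B, r ∈ C) (hAB : ∀ r ∈ A, r ∉ B) {g : GL D.Idx F}
    (ha : g ∈ S.good.US F A) (hb : g ∈ S.good.US F B) : g = 1 := by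
  obtain ⟨f, hf⟩ : g ∈ Set.range fun f => S.good.segProd A f 0 D.nroots := by
    rw [← S.good.US_eq_range hA]; exact ha
  obtain ⟨f', hf'⟩ : g ∈ Set.range fun f => S.good.segProd B f 0 D.nroots := by
    rw [← S.good.US_eq_range hB]; exact hb
  simp only [S.segProd_sub hAC, S.segProd_sub hBC] at hf hf'
  have h := S.good.segProd_injective hC D.nroots 0 _ _ (zero_add _) (hf.trans hf'.symm)
  rw [← hf]
  have e : ∀ r ∈ C, 0 ≤ r → (if r ∈ A then f r else 0) = (0 : F) := fun r hr h0 => by
    have h1 := h r hr h0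
    by_cases hrA : r ∈ A
    · rw [h1, if_neg (hAB r hrA)]
    · rw [if_neg hrA]
  rw [S.good.segProd_congr (g := fun _ => (0 : F)) C D.nroots 0 e]
  suffices hz : ∀ m j, S.good.segProd C (fun _ => (0 : F)) j m = 1 from hz _ _
  intro m
  induction m with
  | zero => intro j; rfl
  | succ m ih => intro j; simp [Good.segProd, ih, S.good.full.x_zero]

variable [CharP F 2] {P : Set ℕ} {k : ℕ} (R : T.RadSet P k)
include R

theorem clear_row {α : ℕ} (L : List ℕ) (hL : ∀ a ∈ L, a ∈ P) : ∀ n : ℕ, ∀ f : ℕ → F,
    SuppIn (T.radQ P k) f → (∀ t ∈ T.radQ P k, ∀ a ∈ L, T.pairT a t ≠ 0 → f t = 0) →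
    (∀ t, t < α → f t = 0) → f α ≠ 0 →
    (∀ t, t < D.nroots - n → t ≠ α → T.pairT α t ≠ 0 → f t = 0) →
    ∃ f' : ℕ → F, SuppIn (T.radQ P k) f' ∧
      (∀ t ∈ T.radQ P k, ∀ a ∈ L, T.pairT a t ≠ 0 → f' t = 0) ∧
      (∀ t, t < α → f' t = 0) ∧ f' α ≠ 0 ∧ (∀ t, t ≠ α → T.pairT α t ≠ 0 → f' t = 0) ∧
      ConjIn (S.bp F P) (S.xG F L * S.phi (T.radQ P k) f)
        (S.xG F L * S.phi (T.radQ P k) f') := by
  intro n
  induction n with
  | zero =>
    intro f hf h1 h2 h3 h4
    refine ⟨f, hf, h1, h2, h3, fun t ht htp => ?_, ConjIn.refl _ _⟩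
    by_cases hN : t < D.nroots
    · exact h4 t (by omega) ht htp
    · exact hf t fun hm => hN (R.pos t hm.1).1
  | succ n ih =>
    intro f hf h1 h2 h3 h4
    set i := D.nroots - (n + 1) with hi
    by_cases hz : f i = 0 ∨ i = α ∨ T.pairT α i = 0
    · refine ih f hf h1 h2 h3 fun t ht hta htp => ?_
      rcases eq_or_ne t i with rfl | hti
      · rcases hz with hz | hz | hz
        · exact hz
        · exact absurd hz hta
        · exact absurd hz htp
      · exact h4 t (by omega) hta htp
    · simp only [not_or] at hz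
      obtain ⟨hfi, hne, hp⟩ := hz
      have hαQ : α ∈ T.radQ P k := by by_contra hc; exact h3 (hf α hc)
      have hiQ : i ∈ T.radQ P k := by by_contra hc; exact hfi (hf i hc)
      have hαp := R.pos α hαQ.1
      have hip := R.pos i hiQ.1
      have hαi : α < i := lt_of_le_of_ne (not_lt.mp fun hc => hfi (h2 i hc)) (Ne.symm hne)
      have hp1 : T.pairT α i = 1 := by
        rcases S.pair_cases hαp hip (Ne.symm hne) with h | h | h
        · exact absurd h (S.qq R hαQ hiQ)
        · exact absurd h hp
        · exact h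
      obtain ⟨hr, hr1, hr2⟩ := (S.one_spec hαp hip hp1).1 hαi
      set r := T.dnR α i with hrdef
      have hr1' : T.pairT r α = -1 := (S.pair_symm hr hαp).trans hr1
      have hup : T.upR r α = i := (S.up_comm hr hαp hr1').trans hr2
      have hrL : r ∈ T.radL P k := by
        refine ⟨R.dn α hαQ.1 i hiQ.1 hαi hp1, ?_⟩
        have := (S.up_spec hαp hr hr1).2.2.1 k R.klt
        rw [hr2, hiQ.2, hαQ.2] at this
        omega
      obtain ⟨-, hri, hdn⟩ := S.lq_up R hrL hαQ hr1'
      rw [hup] at hri hdn
      set t := f i / f α with ht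
      set f2 := T.conjA (T.radQ P k) r t f with hf2
      have hlow : ∀ b, b < i → f2 b = f b := by
        intro b hb
        simp only [hf2, conjA]
        rw [add_eq_left]
        split_ifs with hc
        · obtain ⟨g1, g2, g3⟩ := S.lq_dn R hrL hc.1 hc.2
          have hgp := R.pos _ g1.1
          by_cases hlt : T.dnR r b < α
          · rw [h2 _ hlt, mul_zero]
          · exfalso
            have k1 := S.key_up hr hαp hr1'
            have k2 := S.key_up hr hgp g2
            rw [hup] at k1
            rw [g3] at k2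
            have k3 : T.keyR α ≤ T.keyR (T.dnR r b) := by
              rcases (not_lt.mp hlt).eq_or_lt with e | e
              · rw [← e]
              · exact (S.key_lt hαp hgp e).le
            have := S.le_of_key_le hip (R.pos b hc.1.1) (by omega)
            omega
        · rfl
      have hLr : ∀ a ∈ L, T.pairT a r = 0 := by
        intro a ha
        have ha' := R.pos a (hL a ha)
        have e1 : T.pairT a i = 0 := by by_contra hc; exact hfi (h1 i hiQ a ha hc)
        have e2 : T.pairT a α = 0 := by by_contra hc; exact h3 (h1 α hαQ a ha hc)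
        have e := S.lin_right hr hαp ha' hr1'
        rw [hup, e1, e2, add_zero] at e
        exact e.symm
      have hperp : ∀ b ∈ T.radQ P k, ∀ a ∈ L, T.pairT a b ≠ 0 → f2 b = 0 := by
        intro b hb a ha hab
        simp only [hf2, conjA, h1 b hb a ha hab, zero_add]
        split_ifs with hc
        · obtain ⟨g1, g2, g3⟩ := S.lq_dn R hrL hc.1 hc.2
          have e := S.lin_right hr (R.pos _ g1.1) (R.pos a (hL a ha)) g2
          rw [g3, hLr a ha, zero_add] at e
          rw [h1 _ g1 a ha (e ▸ hab), mul_zero]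
        · rfl
      obtain ⟨f', a1, a2, a3, a4, a5, a6⟩ := ih f2 (conjA_supp r t hf) hperp
        (fun b hb => by rw [hlow b (lt_trans hb hαi), h2 b hb])
        (by rw [hlow α hαi]; exact h3)
        (fun b hb hba hbp => by
          rcases eq_or_ne b i with rfl | hbi
          · simp only [hf2, conjA, hiQ, hri, and_self, if_true, hdn, ht]
            rw [div_mul_cancel₀ _ h3, CharTwo.add_self_eq_zero]
          · rw [hlow b (by omega)]
            exact h4 b (by omega) hba hbp)
      refine ⟨f', a1, a2, a3, a4, a5, ConjIn.trans ?_ a6⟩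
      refine ⟨S.good.full.x r t, Subgroup.mem_sup_right (S.good.x_mem_US hrL.1 t), ?_⟩
      have hc : Commute (S.good.full.x r t) (S.xG F L) :=
        S.commute_xG hr (fun a ha => R.pos a (hL a ha))
          (fun a ha => by
            rw [S.pair_symm hr (R.pos a (hL a ha)), hLr a ha]
            decide) t
      rw [← mul_assoc, hc.eq, mul_assoc (S.xG F L), mul_assoc (S.xG F L), S.conj_phi R hrL t hf]

/-- The second step: the radical part becomes a product over orthogonal roots. -/
theorem step_two [Finite F] : ∀ m : ℕ, ∀ L : List ℕ, (∀ a ∈ L, a ∈ P) → T.OrthL L →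
    ∀ f : ℕ → F, SuppIn (T.radQ P k) f →
      (∀ t ∈ T.radQ P k, ∀ a ∈ L, T.pairT a t ≠ 0 → f t = 0) →
      (∀ t, t < D.nroots - m → f t = 0) →
      ∃ L' : List ℕ, (∀ a ∈ L', a ∈ P) ∧ T.OrthL L' ∧
        ConjIn (S.bp F P) (S.xG F L * S.phi (T.radQ P k) f) (S.xG F L') := by
  intro m
  induction m with
  | zero =>
    intro L hL ho f hf _ h2
    refine ⟨L, hL, ho, ?_⟩
    rw [show f = 0 from funext fun t => by
      by_cases hN : t < D.nroots
      · exact h2 t (by omega)
      · exact hf t fun hm => hN (R.pos t hm.1).1]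
    rw [S.phi_zero R, mul_one]
    exact ConjIn.refl _ _
  | succ m ih =>
    intro L hL ho f hf h1 h2
    set α := D.nroots - (m + 1) with hα
    by_cases hfa : f α = 0
    · refine ih L hL ho f hf h1 fun t ht => ?_
      rcases eq_or_ne t α with rfl | hta
      · exact hfa
      · exact h2 t (by omega)
    · have hαQ : α ∈ T.radQ P k := by by_contra hc; exact hfa (hf α hc)
      have hαp := R.pos α hαQ.1
      obtain ⟨f', a1, a2, a3, a4, a5, a6⟩ := S.clear_row R L hL D.nroots f hf h1 h2 hfa
        (fun t ht => absurd ht (by omega))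
      set rest := Function.update f' α 0 with hrest
      have hsplit : f' = Pi.single α (f' α) + rest := by
        funext t
        rcases eq_or_ne t α with rfl | h
        · simp [hrest]
        · simp [hrest, h]
      have hrestS : SuppIn (T.radQ P k) rest := fun t ht => by
        rcases eq_or_ne t α with rfl | h
        · simp [hrest]
        · simp [hrest, h, a1 t ht]
      have hrest_perp : ∀ t ∈ T.radQ P k, T.pairT α t ≠ 0 → rest t = 0 := fun t _ htp => by
        rcases eq_or_ne t α with rfl | h
        · simp [hrest]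
        · simp [hrest, h, a5 t h htp]
      have hLα : ∀ a ∈ L, T.pairT a α = 0 := fun a ha => by
        by_contra hc; exact a4 (a2 α hαQ a ha hc)
      obtain ⟨s, hs⟩ := FiniteField.isSquare_of_char_two
        (ringChar.eq F 2) (f' α)⁻¹
      have hs0 : s ≠ 0 := fun e => inv_ne_zero a4 (by rw [hs, e, zero_mul])
      set h := S.good.full.hr α s with hh
      have hcL : h * S.xG F L * h⁻¹ = S.xG F L := by
        have key : ∀ M : List ℕ, (∀ a ∈ M, a ∈ L) → h * S.xG F M * h⁻¹ = S.xG F M := by
          intro M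
          induction M with
          | nil => intro _; simp [S.xG_nil]
          | cons a M ihM =>
            intro hM
            obtain ⟨ha, hM'⟩ := List.forall_mem_cons.mp hM
            have e := hLα a ha
            rw [← S.pair_symm hαp (R.pos a (hL a ha))] at e
            rw [S.xG_cons, show h * (S.good.full.x a 1 * S.xG F M) * h⁻¹ =
              h * S.good.full.x a 1 * h⁻¹ * (h * S.xG F M * h⁻¹) by group,
              hh, S.hr_conj_x hαp.1 (R.pos a (hL a ha)).1 hs0, e, zpow_zero, one_mul, ← hh,
              ihM hM']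
        exact key L fun a ha => ha
      have hcα : h * S.good.full.x α (f' α) * h⁻¹ = S.good.full.x α 1 := by
        rw [hh, S.hr_conj_x hαp.1 hαp.1 hs0, S.pair_self hαp, zpow_two, ← hs,
          inv_mul_cancel₀ a4]
      have hcr : h * S.phi (T.radQ P k) rest * h⁻¹ = S.phi (T.radQ P k) rest := by
        have key : ∀ g : ℕ → F, SuppIn (T.radQ P k) g →
            h * S.phi (T.radQ P k) g * h⁻¹ =
              S.phi (T.radQ P k) (fun b => s ^ (T.pairT α b) * g b) := by
          intro g hg
          refine S.supp_induction R (p := fun g => h * S.phi (T.radQ P k) g * h⁻¹ =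
            S.phi (T.radQ P k) (fun b => s ^ (T.pairT α b) * g b)) ?_ ?_ ?_ hg
          · rw [show (fun b => s ^ (T.pairT α b) * (0 : ℕ → F) b) = (0 : ℕ → F) from
              funext fun b => mul_zero _, S.phi_zero R, mul_one, mul_inv_cancel]
          · intro g g' _ _ e1 e2
            rw [show (fun b => s ^ (T.pairT α b) * (g + g') b) =
              (fun b => s ^ (T.pairT α b) * g b) + fun b => s ^ (T.pairT α b) * g' b from
                funext fun b => mul_add _ _ _, S.phi_add R, S.phi_add R, ← e1, ← e2]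
            group
          · intro b hb u
            rw [S.phi_single R hb, hh, S.hr_conj_x hαp.1 (R.pos b hb.1).1 hs0,
              ← S.phi_single R hb]
            congr 1
            funext c
            rcases eq_or_ne c b with rfl | hc
            · simp
            · simp [hc]
        rw [key rest hrestS]
        congr 1
        funext b
        by_cases hb : b ∈ T.radQ P k
        · by_cases e : T.pairT α b = 0
          · rw [e, zpow_zero, one_mul]
          · rw [hrest_perp b hb e, mul_zero]
        · rw [hrestS b hb, mul_zero]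
      obtain ⟨L', c1, c2, c3⟩ := ih (L ++ [α]) (fun a ha => by
          rcases List.mem_append.mp ha with ha | ha
          · exact hL a ha
          · simp only [List.mem_singleton] at ha; exact ha ▸ hαQ.1)
        (List.pairwise_append.mpr ⟨ho, List.pairwise_singleton _ _, fun a ha b hb => by
          simp only [List.mem_singleton] at hb; exact hb ▸ hLα a ha⟩) rest hrestS
        (fun t ht a ha htp => by
          rcases List.mem_append.mp ha with ha | ha
          · rcases eq_or_ne t α with rfl | h
            · simp [hrest]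
            · simp [hrest, h, a2 t ht a ha htp]
          · simp only [List.mem_singleton] at ha
            exact hrest_perp t ht (ha ▸ htp))
        (fun t ht => by
          rcases eq_or_ne t α with rfl | h
          · simp [hrest]
          · simp [hrest, h, a3 t (by omega)])
      refine ⟨L', c1, c2, a6.trans (ConjIn.trans ⟨h, ?_, ?_⟩ c3)⟩
      · exact Subgroup.mem_sup_left (S.good.full.hr_mem hαp.1 hs0)
      · rw [S.xG_append, S.xG_cons, S.xG_nil, mul_one, hsplit, S.phi_add R, S.phi_single R hαQ]
        calc h * (S.xG F L * (S.good.full.x α (f' α) * S.phi (T.radQ P k) rest)) * h⁻¹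
            = h * S.xG F L * h⁻¹ * (h * S.good.full.x α (f' α) * h⁻¹) *
                (h * S.phi (T.radQ P k) rest * h⁻¹) := by group
          _ = _ := by rw [hcL, hcα, hcr]

theorem bp_normalizes {c : GL D.Idx F} (hc : c ∈ S.bp F (T.radL P k)) {v : GL D.Idx F}
    (hv : v ∈ S.good.US F (T.radQ P k)) : c * v * c⁻¹ ∈ S.good.US F (T.radQ P k) := by
  have hgen : ∀ r ∈ T.radL P k, ∀ (t : F) {v : GL D.Idx F}, v ∈ S.good.US F (T.radQ P k) →
      S.good.full.x r t * v * (S.good.full.x r t)⁻¹ ∈ S.good.US F (T.radQ P k) := by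
    intro r hr t v hv
    obtain ⟨f, hf, rfl⟩ := S.phi_surj R hv
    rw [S.conj_phi R hr t hf]
    exact S.phi_mem R _
  have hle : S.bp F (T.radL P k) ≤
      Subgroup.normalizer (S.good.US F (T.radQ P k) : Set (GL D.Idx F)) := by
    refine sup_le ?_ ((Subgroup.closure_le _).mpr ?_)
    · rintro g ⟨d, rfl⟩
      rw [Subgroup.mem_normalizer_iff]
      refine fun u => ⟨fun hu => S.good.hT_conj_US _ (fun s hs => (R.pos s hs.1).1) d hu, fun hu => ?_⟩
      have := S.good.hT_conj_US _ (fun s hs => (R.pos s hs.1).1) d⁻¹ hu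
      rw [map_inv, inv_inv] at this
      simpa [mul_assoc] using this
    · rintro g ⟨r, hr, t, rfl⟩
      rw [SetLike.mem_coe, Subgroup.mem_normalizer_iff]
      refine fun u => ⟨fun hu => hgen r hr t hu, fun hu => ?_⟩
      have := hgen r hr t hu
      rw [S.x_inv_two] at this
      simp only [mul_assoc, S.x_sq, mul_one] at this
      rwa [← mul_assoc, S.x_sq, one_mul] at this
  exact (Subgroup.mem_normalizer_iff.mp (hle hc) v).mp hv

/-- One level of the induction. -/
theorem level [Finite F]
    (ih : ∀ a ∈ S.good.US F (T.radL P k), a * a = 1 → ∃ L : List ℕ, (∀ x ∈ L, x ∈ T.radL P k) ∧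
      T.OrthL L ∧ ConjIn (S.bp F (T.radL P k)) a (S.xG F L))
    {u : GL D.Idx F} (hu : u ∈ S.good.US F P) (h2 : u * u = 1) :
    ∃ L : List ℕ, (∀ x ∈ L, x ∈ P) ∧ T.OrthL L ∧ ConjIn (S.bp F P) u (S.xG F L) := by
  have hun : P = T.radL P k ∪ T.radQ P k := by
    ext r
    exact ⟨fun hr => (S.cor_cases R hr).imp (fun h => ⟨hr, h⟩) (fun h => ⟨hr, h⟩),
      fun hr => hr.elim (fun h => h.1) (fun h => h.1)⟩
  obtain ⟨a, ha, v, hv, rfl⟩ :=
    S.good.US_split (S.closed_L R) (S.closed_Q R) (S.closed_P R) hun hu
  have hnormA : a⁻¹ * v * a⁻¹⁻¹ ∈ S.good.US F (T.radQ P k) :=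
    S.bp_normalizes R (Subgroup.mem_sup_right (inv_mem ha)) hv
  have haa : a * a = 1 := by
    refine S.inter_trivial (S.closed_L R) (S.closed_Q R) (S.closed_P R) (fun r hr => hr.1)
      (fun r hr => hr.1) (fun r hr hr' => by have := hr.2.symm.trans hr'.2; omega)
      (mul_mem ha ha) ?_
    have e : a * a = (a⁻¹ * v * a⁻¹⁻¹ * v)⁻¹ := by
      rw [eq_inv_iff_mul_eq_one, ← h2]
      group
    rw [e]
    exact inv_mem (mul_mem hnormA hv)
  obtain ⟨L, hL, ho, c, hc, hca⟩ := ih a ha haa
  obtain ⟨f, hf, hfe⟩ := S.phi_surj R (S.bp_normalizes R hc hv)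
  have hcu : c * (a * v) * c⁻¹ = S.xG F L * S.phi (T.radQ P k) f := by
    rw [← hca, ← hfe]; group
  have hsq : (S.xG F L * S.phi (T.radQ P k) f) * (S.xG F L * S.phi (T.radQ P k) f) = 1 := by
    rw [← hcu, show c * (a * v) * c⁻¹ * (c * (a * v) * c⁻¹) = c * (a * v * (a * v)) * c⁻¹ by group,
      h2, mul_one, mul_inv_cancel]
  have hfix : T.conjM (T.radQ P k) L f = f := by
    refine S.phi_inj R (conjM_supp L hf) hf ?_
    rw [← S.conjM_eq R hL hf,
      inv_eq_iff_mul_eq_one.mpr (S.xG_sq (F := F) (fun x hx => R.pos x (hL x hx).1) ho)]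
    have hphi : S.phi (T.radQ P k) f * S.phi (T.radQ P k) f = 1 := by
      rw [← S.phi_add R, show f + f = 0 from funext fun t => CharTwo.add_self_eq_zero (f t),
        S.phi_zero R]
    calc S.xG F L * S.phi (T.radQ P k) f * S.xG F L
        = (S.xG F L * S.phi (T.radQ P k) f * (S.xG F L * S.phi (T.radQ P k) f)) *
            (S.phi (T.radQ P k) f)⁻¹ := by group
      _ = _ := by rw [hsq, one_mul, inv_eq_iff_mul_eq_one.mpr hphi]
  obtain ⟨f', hf', hperp, hconj1⟩ := S.step_one R L [] (by simpa using hL) (by simpa using ho) f hf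
    (fun _ _ a ha => absurd ha List.not_mem_nil) (by simpa using hfix)
  obtain ⟨L', hL', ho', hconj2⟩ := S.step_two R D.nroots L (fun x hx => (hL x hx).1) ho f' hf'
    (by simpa using hperp) (fun t ht => absurd ht (by omega))
  refine ⟨L', hL', ho', ConjIn.trans ⟨c, ?_, hcu⟩ (ConjIn.trans (by simpa using hconj1) hconj2)⟩
  exact sup_le_sup le_rfl (S.good.US_mono fun r hr => hr.1) hc

omit R in
/-- Theorem A. -/
theorem exists_orth [Finite F] : ∀ (rest done : List ℕ), T.chkLvls done rest = true →
    ∀ u ∈ S.good.US F (T.Sset done), u * u = 1 →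
      ∃ L : List ℕ, (∀ x ∈ L, x ∈ T.Sset done) ∧ T.OrthL L ∧
        ConjIn (S.bp F (T.Sset done)) u (S.xG F L) := by
  intro rest
  induction rest with
  | nil =>
    intro done hchk u hu _
    simp only [chkLvls, allBelow_iff, Bool.or_eq_true, List.any_eq_true, decide_eq_true_eq,
      Bool.not_eq_true', ← Bool.not_eq_true, posB_iff] at hchk
    refine ⟨[], fun x hx => absurd hx List.not_mem_nil, List.Pairwise.nil, 1, one_mem _, ?_⟩
    have h1 : S.good.US F (T.Sset done) = ⊥ := by
      rw [eq_bot_iff, Good.US, Subgroup.closure_le]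
      rintro g ⟨r, hr, -⟩
      obtain ⟨i, hi, hne⟩ := (hchk r hr.1.1).resolve_left (not_not.mpr hr.1)
      exact absurd (hr.2 i hi) hne
    rw [h1, Subgroup.mem_bot] at hu
    simp [hu, S.xG_nil]
  | cons k rest ih =>
    intro done hchk u hu h2
    simp only [chkLvls, Bool.and_eq_true, Nat.blt_eq, allBelow_iff, Bool.or_eq_true,
      List.any_eq_true, List.all_eq_true, decide_eq_true_eq, Bool.not_eq_true',
      ← Bool.not_eq_true, posB_iff] at hchk
    obtain ⟨⟨⟨hk, hle⟩, hdone⟩, hrec⟩ := hchk
    have R : T.RadSet (T.Sset done) k := by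
      refine ⟨fun r hr => hr.1, hk, fun r hr => ?_, fun r hr s hs h => ?_,
        fun r hr t ht hlt h => ?_⟩
      · rcases hle r hr.1.1 with (h | ⟨i, hi, hne⟩) | h
        · exact absurd hr.1 h
        · exact absurd (hr.2 i hi) hne
        · exact h
      · obtain ⟨h1, -, h3, -⟩ := S.up_spec hr.1 hs.1 h
        exact ⟨h1, fun i hi => by rw [h3 i (hdone i hi), hr.2 i hi, hs.2 i hi, add_zero]⟩
      · obtain ⟨h1, h3, h4⟩ := (S.one_spec hr.1 ht.1 h).1 hlt
        refine ⟨h1, fun i hi => ?_⟩
        have := (S.up_spec hr.1 h1 h3).2.2.1 i (hdone i hi)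
        rw [h4, ht.2 i hi, hr.2 i hi, zero_add] at this
        exact this.symm
    have e : T.radL (T.Sset done) k = T.Sset (done ++ [k]) := by
      ext r
      constructor
      · rintro ⟨⟨h1, h3⟩, h4⟩
        exact ⟨h1, fun i hi => by
          rcases List.mem_append.mp hi with hi | hi
          · exact h3 i hi
          · simp only [List.mem_singleton] at hi; exact hi ▸ h4⟩
      · rintro ⟨h1, h3⟩
        exact ⟨⟨h1, fun i hi => h3 i (List.mem_append_left _ hi)⟩, h3 k (by simp)⟩
    refine S.level R (fun a ha haa => ?_) hu h2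
    rw [e] at ha ⊢
    exact ih (done ++ [k]) hrec a ha haa

end SL

end Tab

end CfsgLib.Chev
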