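import Cfsg.Agent.Chev.InvolTwoSets

/-!
A last level with a Heisenberg radical: involutions of `U` in characteristic two are again
conjugate to products over orthogonal roots.  Coordinates on the radical are used modulo its centre.
-/

set_option autoImplicit false
set_option linter.style.haveILetI false

namespace CfsgLib.Chev

open Cfsg.Lie Matrix
open scoped MatrixGroups Classical

namespace Tab

variable {D : ChevalleyDatum}

/-- The node `k` cuts out a Heisenberg radical with centre the root `th`. -/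
def chkHeis (T : Tab D) (k th : ℕ) : Bool :=
  Nat.blt k D.rank && posB D th && decide (T.cor th k = 2) && Nat.beq (th + 1) D.nroots &&
  allBelow (fun r => !(posB D r) ||
    ((decide (T.cor r k = 0) || decide (T.cor r k = 1) || Nat.beq r th) &&
      decide (T.pairT r th = T.cor r k))) D.nroots

/-- The data of a Heisenberg level. -/
structure Heis (T : Tab D) (k th : ℕ) : Prop where
  klt : k < D.rank
  thpos : IsPos D th
  thcor : T.cor th k = 2
  cases : ∀ r, IsPos D r → T.cor r k = 0 ∨ T.cor r k = 1 ∨ r = th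
  last : th + 1 = D.nroots
  pair_th : ∀ r, IsPos D r → T.pairT r th = T.cor r k

theorem heis_of_chk (T : Tab D) {k th : ℕ} (h : T.chkHeis k th = true) : T.Heis k th := by
  simp only [chkHeis, Bool.and_eq_true, Bool.or_eq_true, Nat.blt_eq, decide_eq_true_eq,
    allBelow_iff, Bool.not_eq_true', ← Bool.not_eq_true, posB_iff, Nat.beq_eq] at h
  obtain ⟨⟨⟨⟨h1, h2⟩, h3⟩, h5⟩, h4⟩ := h
  refine ⟨h1, h2, h3, fun r hr => ?_, h5, fun r hr => ?_⟩
  · have := ((h4 r hr.1).resolve_left (not_not.mpr hr)).1
    tauto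
  · exact ((h4 r hr.1).resolve_left (not_not.mpr hr)).2

/-- The non-central roots of the radical. -/
def heisQ (T : Tab D) (k : ℕ) : Set ℕ := {r | IsPos D r ∧ T.cor r k = 1}

/-- The roots of the Levi part. -/
def heisL (T : Tab D) (k : ℕ) : Set ℕ := {r | IsPos D r ∧ T.cor r k = 0}

/-- Equality up to an element of the central root subgroup. -/
def SL.EqZ {T : Tab D} (S : T.SL) {F : Type*} [Field F] (th : ℕ) (g h : GL D.Idx F) : Prop :=
  ∃ z : F, g = h * S.good.full.x th z

namespace SL

variable {T : Tab D} (S : T.SL) {F : Type*} [Field F] [CharP F 2] {k th : ℕ} (R : T.Heis k th)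
include S R

omit [CharP F 2] in
theorem heis_two {r : ℕ} (hr : IsPos D r) (h : T.cor r k = 2) : r = th := by
  rcases R.cases r hr with h' | h' | h'
  · omega
  · omega
  · exact h'

omit [CharP F 2] in
theorem heis_pair_nonneg {r : ℕ} (hr : IsPos D r) : 0 ≤ T.pairT r th := by
  rw [R.pair_th r hr]; exact S.cor_nonneg hr R.klt

omit [CharP F 2] in
theorem heis_qq {r s : ℕ} (hr : r ∈ T.heisQ k) (hs : s ∈ T.heisQ k) (h : T.pairT r s = -1) :
    T.upR r s = th := by
  obtain ⟨h1, -, h3, -⟩ := S.up_spec hr.1 hs.1 h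
  exact S.heis_two R h1 (by rw [h3 k R.klt, hr.2, hs.2]; rfl)

omit [CharP F 2] in
theorem heis_up {r s : ℕ} (hr : r ∈ T.heisL k) (hs : s ∈ T.heisQ k) (h : T.pairT r s = -1) :
    T.upR r s ∈ T.heisQ k ∧ T.pairT r (T.upR r s) = 1 ∧ T.dnR r (T.upR r s) = s := by
  obtain ⟨h1, h2, h3, -⟩ := S.up_spec hr.1 hs.1 h
  refine ⟨⟨h1, ?_⟩, ?_, h2⟩
  · rw [h3 k R.klt, hr.2, hs.2, zero_add]
  · rw [S.lin_right hr.1 hs.1 hr.1 h, S.pair_self hr.1, h]
    decide

omit [CharP F 2] in
theorem heis_dn {r t : ℕ} (hr : r ∈ T.heisL k) (ht : t ∈ T.heisQ k) (h : T.pairT r t = 1) :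
    T.dnR r t ∈ T.heisQ k ∧ T.pairT r (T.dnR r t) = -1 ∧ T.upR r (T.dnR r t) = t := by
  have hlt : r < t := by
    by_contra hc
    have := (S.one_spec hr.1 ht.1 h).2 hc k R.klt
    rw [hr.2, ht.2] at this
    omega
  obtain ⟨h1, h2, h3⟩ := (S.one_spec hr.1 ht.1 h).1 hlt
  refine ⟨⟨h1, ?_⟩, h2, h3⟩
  have := (S.up_spec hr.1 h1 h2).2.2.1 k R.klt
  rw [h3, ht.2, hr.2, zero_add] at this
  exact this.symm

/-! ### The centre -/

theorem th_commute {r : ℕ} (hr : IsPos D r) (t z : F) :
    Commute (S.good.full.x r t) (S.good.full.x th z) :=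
  S.commute hr R.thpos (by have := S.heis_pair_nonneg R hr; omega) t z

theorem th_commute_pos {u : GL D.Idx F} (hu : u ∈ S.good.US F {r | IsPos D r}) (z : F) :
    Commute u (S.good.full.x th z) := by
  induction hu using Subgroup.closure_induction with
  | mem u hu => obtain ⟨r, hr, t, rfl⟩ := hu; exact S.th_commute R hr t z
  | one => exact Commute.one_left _
  | mul a b _ _ ha hb => exact ha.mul_left hb
  | inv a _ ha => exact ha.inv_left

omit R [CharP F 2] in
theorem EqZ.refl (g : GL D.Idx F) : S.EqZ th g g := ⟨0, by rw [S.good.full.x_zero, mul_one]⟩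

omit R [CharP F 2] in
theorem EqZ.trans {g h l : GL D.Idx F} (h1 : S.EqZ th g h) (h2 : S.EqZ th h l) :
    S.EqZ th g l := by
  obtain ⟨z, rfl⟩ := h1
  obtain ⟨w, rfl⟩ := h2
  exact ⟨w + z, by rw [mul_assoc, S.good.full.x_add]⟩

omit R in
theorem EqZ.symm {g h : GL D.Idx F} (h1 : S.EqZ th g h) : S.EqZ th h g := by
  obtain ⟨z, rfl⟩ := h1
  exact ⟨z, by rw [mul_assoc, S.x_sq, mul_one]⟩

theorem EqZ.mul {g g' h h' : GL D.Idx F} (h1 : S.EqZ th g g') (h2 : S.EqZ th h h')
    (hh : h' ∈ S.good.US F {r | IsPos D r}) : S.EqZ th (g * h) (g' * h') := by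
  obtain ⟨z, rfl⟩ := h1
  obtain ⟨w, rfl⟩ := h2
  refine ⟨z + w, ?_⟩
  rw [← S.good.full.x_add]
  calc g' * S.good.full.x th z * (h' * S.good.full.x th w)
      = g' * (S.good.full.x th z * h') * S.good.full.x th w := by group
    _ = _ := by rw [← (S.th_commute_pos R hh z).eq]; group

/-! ### Coordinates -/

omit [CharP F 2] in
theorem heis_closed : T.Closed {r | IsPos D r ∧ T.cor r k ≠ 0} := by
  refine ⟨fun r hr => hr.1, fun r hr s hs c hc => ?_⟩
  obtain ⟨hc1, hr', -⟩ := S.good.comm_keys hr.1 hs.1 hc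
  by_cases h : T.pairT r s = -1
  · obtain ⟨-, -, h3, e, -, he⟩ := S.up_spec hr.1 hs.1 h
    rw [he, List.mem_singleton] at hc
    subst hc
    refine ⟨hc1, ?_⟩
    have := S.cor_nonneg hr.1 R.klt
    have := S.cor_nonneg hs.1 R.klt
    have := hr.2
    rw [h3 k R.klt]
    omega
  · exfalso
    by_cases hne : r = s
    · have h0 : T.ent r r = [] := by
        by_contra hne'
        have hroot := S.good.full.cert.root r hr.1.1
        simp only [chkRoot, Bool.and_eq_true, allBelow_iff] at hroot
        have hp := hroot.1.1.1.1.1.1 r hr.1.1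
        unfold chkPair at hp
        split at hp
        next h0 => exact hne' h0
        next h0 => simp at hp
      rw [← hne] at hc
      simp [commT, rootT, h0] at hc
    · rw [(S.comm_nil hr.1 hs.1 hne h).1] at hc
      exact absurd hc List.not_mem_nil

omit [CharP F 2] in
theorem hphi_mem (f : ℕ → F) :
    S.phi (T.heisQ k) f ∈ S.good.US F (T.heisQ k) :=
  S.good.US_mono (fun _ hs => hs.1) (S.good.segProd_mem (T.heisQ k) f D.nroots 0)

omit [CharP F 2] in
theorem hphi_pos (f : ℕ → F) : S.phi (T.heisQ k) f ∈ S.good.US F {r | IsPos D r} :=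
  S.good.US_mono (fun _ hs => hs.1) (S.hphi_mem R f)

theorem hcommute_Q {r : ℕ} (hr : r ∈ T.heisQ k) (t : F) {u : GL D.Idx F}
    (hu : u ∈ S.good.US F (T.heisQ k)) :
    S.EqZ th (S.good.full.x r t * u) (u * S.good.full.x r t) := by
  induction hu using Subgroup.closure_induction with
  | mem u hu =>
    obtain ⟨s, hs, v, rfl⟩ := hu
    by_cases h : T.pairT r s = -1
    · have e := S.conj_up hr.1 hs.1 h t v
      rw [S.heis_qq R hr hs h, mul_inv_eq_iff_eq_mul] at e
      refine ⟨t * v, ?_⟩
      rw [e, mul_assoc, mul_assoc, (S.th_commute R hr.1 t _).eq]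
    · rw [(S.commute hr.1 hs.1 h t v).eq]; exact EqZ.refl S _
  | one => simpa using EqZ.refl S _
  | mul a b hma hmb ha hb =>
    have hb' : b ∈ S.good.US F {r | IsPos D r} := S.good.US_mono (fun _ hs => hs.1) hmb
    rw [← mul_assoc]
    refine EqZ.trans S (EqZ.mul S R ha (EqZ.refl S b) hb') ?_
    obtain ⟨w, hw⟩ := hb
    exact ⟨w, by rw [mul_assoc, hw]; group⟩
  | inv a hma ha =>
    obtain ⟨z, hz⟩ := EqZ.symm S ha
    have ha' : a ∈ S.good.US F {r | IsPos D r} := S.good.US_mono (fun _ hs => hs.1) hma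
    refine ⟨z, ?_⟩
    rw [mul_assoc a⁻¹, eq_inv_mul_iff_mul_eq, ← mul_assoc]
    calc a * S.good.full.x r t * a⁻¹
        = S.good.full.x r t * (a * S.good.full.x th z) * a⁻¹ := by rw [hz]; group
      _ = _ := by rw [(S.th_commute_pos R ha' z).eq]; group

theorem hphi_add (f g : ℕ → F) : S.EqZ th (S.phi (T.heisQ k) (f + g))
    (S.phi (T.heisQ k) f * S.phi (T.heisQ k) g) := by
  unfold phi
  suffices h : ∀ m j, S.EqZ th (S.good.segProd (T.heisQ k) (f + g) j m)
      (S.good.segProd (T.heisQ k) f j m * S.good.segProd (T.heisQ k) g j m) from h _ _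
  intro m
  induction m with
  | zero => intro j; simpa [Good.segProd] using EqZ.refl S _
  | succ m ih =>
    intro j
    have hmem : ∀ (e : ℕ → F), S.good.segProd (T.heisQ k) e (j + 1) m ∈
        S.good.US F (T.heisQ k) := fun e =>
      S.good.US_mono (fun _ hs => hs.1) (S.good.segProd_mem (T.heisQ k) e m (j + 1))
    simp only [Good.segProd]
    split_ifs with hj
    · rw [Pi.add_apply, ← S.good.full.x_add]
      obtain ⟨z, hz⟩ := S.hcommute_Q R hj (g j) (hmem f)
      obtain ⟨w, hw⟩ := ih (j + 1)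
      have hgpos : S.good.segProd (T.heisQ k) g (j + 1) m ∈ S.good.US F {r | IsPos D r} :=
        S.good.US_mono (fun _ hs => hs.1) (hmem g)
      refine ⟨z + w, ?_⟩
      rw [hw, ← S.good.full.x_add]
      calc S.good.full.x j (f j) * S.good.full.x j (g j) *
            (S.good.segProd (T.heisQ k) f (j + 1) m * S.good.segProd (T.heisQ k) g (j + 1) m *
              S.good.full.x th w)
          = S.good.full.x j (f j) * (S.good.full.x j (g j) *
              S.good.segProd (T.heisQ k) f (j + 1) m) *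
              (S.good.segProd (T.heisQ k) g (j + 1) m) * S.good.full.x th w := by group
        _ = S.good.full.x j (f j) * (S.good.segProd (T.heisQ k) f (j + 1) m *
              S.good.full.x j (g j)) *
              (S.good.full.x th z * S.good.segProd (T.heisQ k) g (j + 1) m) *
              S.good.full.x th w := by rw [hz]; group
        _ = _ := by rw [← (S.th_commute_pos R hgpos z).eq]; group
    · simpa using ih (j + 1)

omit [CharP F 2] in
theorem hphi_zero : S.phi (T.heisQ k) (0 : ℕ → F) = 1 := by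
  unfold phi
  suffices h : ∀ m j, S.good.segProd (T.heisQ k) (0 : ℕ → F) j m = 1 from h _ _
  intro m
  induction m with
  | zero => intro j; rfl
  | succ m ih => intro j; simp [Good.segProd, ih, S.good.full.x_zero]

omit [CharP F 2] in
theorem hphi_single {s : ℕ} (hs : s ∈ T.heisQ k) (t : F) :
    S.phi (T.heisQ k) (Pi.single s t) = S.good.full.x s t := by
  unfold phi
  suffices h : ∀ m j, S.good.segProd (T.heisQ k) (Pi.single s t : ℕ → F) j m =
      if j ≤ s ∧ s < j + m then S.good.full.x s t else 1 by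
    rw [h, if_pos ⟨Nat.zero_le _, by have := hs.1.1; omega⟩]
  intro m
  induction m with
  | zero => intro j; rw [if_neg (by omega)]; rfl
  | succ m ih =>
    intro j
    simp only [Good.segProd, ih (j + 1)]
    rcases eq_or_ne j s with e | e
    · subst e
      rw [if_pos hs, Pi.single_eq_same, if_neg (by omega), mul_one, if_pos (by omega)]
    · rw [Pi.single_eq_of_ne e, S.good.full.x_zero, ite_self, one_mul]
      exact if_congr (by omega) rfl rfl

omit [CharP F 2] in
theorem hsupp_induction {p : (ℕ → F) → Prop} (h0 : p 0)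
    (hadd : ∀ f g, SuppIn (T.heisQ k) f → SuppIn (T.heisQ k) g → p f → p g → p (f + g))
    (hs : ∀ s ∈ T.heisQ k, ∀ t : F, p (Pi.single s t)) {f : ℕ → F}
    (hf : SuppIn (T.heisQ k) f) : p f := by
  suffices h : ∀ n, ∀ g : ℕ → F, SuppIn (T.heisQ k) g → (∀ t, n ≤ t → g t = 0) → p g by
    refine h D.nroots f hf fun t ht => hf t fun hm => ?_
    have := hm.1.1
    omega
  intro n
  induction n with
  | zero =>
    intro g _ hg
    rw [show g = 0 from funext fun t => hg t (Nat.zero_le _)]
    exact h0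
  | succ n ih =>
    intro g hg hg'
    by_cases hn : n ∈ T.heisQ k
    · have e : g = Pi.single n (g n) + Function.update g n 0 := by
        funext t
        rcases eq_or_ne t n with rfl | h
        · simp
        · simp [h]
      have h1 : SuppIn (T.heisQ k) (Function.update g n 0) := fun t ht => by
        rcases eq_or_ne t n with rfl | h
        · simp
        · simp [h, hg t ht]
      rw [e]
      refine hadd _ _ (fun t ht => Pi.single_eq_of_ne (fun e => ht (by rw [e]; exact hn)) _) h1
        (hs n hn _) (ih _ h1 fun t ht => ?_)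
      rcases eq_or_ne t n with rfl | h
      · simp
      · simp [h, hg' t (by omega)]
    · refine ih g hg fun t ht => ?_
      rcases eq_or_ne t n with rfl | h
      · exact hg t hn
      · exact hg' t (by omega)

omit [CharP F 2] in
theorem hphi_inj {f g : ℕ → F} (hf : SuppIn (T.heisQ k) f) (hg : SuppIn (T.heisQ k) g)
    (h : S.EqZ th (S.phi (T.heisQ k) f) (S.phi (T.heisQ k) g)) : f = g := by
  obtain ⟨z, hz⟩ := h
  set A := {r | IsPos D r ∧ T.cor r k ≠ 0} with hA
  have hsub : ∀ r ∈ T.heisQ k, r ∈ A := fun r hr => ⟨hr.1, by rw [hr.2]; decide⟩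
  have hmA : S.good.full.x th z ∈ S.good.US F A :=
    S.good.x_mem_US (S := A) ⟨R.thpos, by rw [R.thcor]; decide⟩ z
  -- both sides as ordered products over `A`
  unfold phi at hz
  rw [S.segProd_sub hsub, S.segProd_sub hsub] at hz
  have key : ∀ m j (e : ℕ → F), (∀ r ∈ A, j ≤ r → r = th → e r = 0) →
      S.good.segProd A e j m * S.good.full.x th z =
        if j ≤ th ∧ th < j + m then S.good.segProd A (Function.update e th z) j m
        else S.good.segProd A e j m * S.good.full.x th z := by
    intro m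
    induction m with
    | zero => intro j e _; rw [if_neg (by omega)]
    | succ m ih =>
      intro j e he
      split_ifs with hj
      · simp only [Good.segProd]
        rcases eq_or_ne j th with rfl | hne
        · have hjA : j ∈ A := ⟨R.thpos, by rw [R.thcor]; decide⟩
          rw [if_pos hjA, if_pos hjA, he j hjA le_rfl rfl, S.good.full.x_zero, one_mul,
            Function.update_self,
            S.good.segProd_congr A (f := Function.update e j z) (g := e) m (j + 1)
              fun r _ hr => Function.update_of_ne (by omega) _ _]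
          have hcomm : Commute (S.good.segProd A e (j + 1) m) (S.good.full.x j z) := by
            suffices hall : ∀ u ∈ S.good.US F {r | r ∈ A ∧ j + 1 ≤ r},
                Commute u (S.good.full.x j z) from hall _ (S.good.segProd_mem A e m (j + 1))
            intro u hmem
            induction hmem using Subgroup.closure_induction with
            | mem u hu =>
              obtain ⟨r, ⟨⟨hr, hr'⟩, hjr⟩, t, rfl⟩ := hu
              exfalso
              have := hr.1
              have := R.last
              omega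
            | one => exact Commute.one_left _
            | mul a b _ _ ha hb => exact ha.mul_left hb
            | inv a _ ha => exact ha.inv_left
          exact hcomm.eq
        · rw [mul_assoc, ih (j + 1) e (fun r hr hjr hr' => he r hr (by omega) hr'),
            if_pos (show j + 1 ≤ th ∧ th < j + 1 + m by omega), Function.update_of_ne hne]
      · rfl
  rw [key D.nroots 0 _ (fun r _ _ e => by
      subst e
      rw [if_neg (fun hm => by have := hm.2; rw [R.thcor] at this; omega)]),
    if_pos ⟨Nat.zero_le _, by have := R.thpos.1; omega⟩] at hz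
  funext t
  by_cases ht : t ∈ T.heisQ k
  · have h1 := S.good.segProd_injective (S.heis_closed R) D.nroots 0 _ _ (zero_add _) hz t
      (hsub t ht) (Nat.zero_le _)
    have hne : t ≠ th := fun e => by have := ht.2; rw [e, R.thcor] at this; omega
    simpa [ht, hne] using h1
  · rw [hf t ht, hg t ht]

omit R [CharP F 2] in
theorem hconjA_supp (r : ℕ) (t : F) {f : ℕ → F} (hf : SuppIn (T.heisQ k) f) :
    SuppIn (T.heisQ k) (T.conjA (T.heisQ k) r t f) := by
  intro b hb
  simp [conjA, hb, hf b hb]

omit R [CharP F 2] in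
theorem hconjM_supp (L : List ℕ) {f : ℕ → F} (hf : SuppIn (T.heisQ k) f) :
    SuppIn (T.heisQ k) (T.conjM (T.heisQ k) L f) := by
  induction L with
  | nil => exact hf
  | cons a L ih => exact hconjA_supp S a 1 ih

/-- Conjugation of the radical by a root element of the Levi part. -/
theorem hconj_phi {r : ℕ} (hr : r ∈ T.heisL k) (t : F) {f : ℕ → F}
    (hf : SuppIn (T.heisQ k) f) :
    S.EqZ th (S.good.full.x r t * S.phi (T.heisQ k) f * (S.good.full.x r t)⁻¹)
      (S.phi (T.heisQ k) (T.conjA (T.heisQ k) r t f)) := by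
  revert f
  intro f hf
  refine S.hsupp_induction R (p := fun f => S.EqZ th (S.good.full.x r t * S.phi (T.heisQ k) f *
    (S.good.full.x r t)⁻¹) (S.phi (T.heisQ k) (T.conjA (T.heisQ k) r t f))) ?_ ?_ ?_ hf
  · rw [S.hphi_zero R, mul_one, mul_inv_cancel,
      show T.conjA (T.heisQ k) r t (0 : ℕ → F) = 0 from funext fun b => by simp [conjA],
      S.hphi_zero R]
    exact EqZ.refl S _
  · intro f g _ _ h1 h2
    rw [conjA_add]
    obtain ⟨w, hw⟩ := S.hphi_add R f g
    have hpos : S.phi (T.heisQ k) (T.conjA (T.heisQ k) r t g) ∈ S.good.US F {r | IsPos D r} :=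
      S.hphi_pos R _
    refine EqZ.trans S ⟨w, ?_⟩ (EqZ.trans S (EqZ.mul S R h1 h2 hpos)
      (EqZ.symm S (S.hphi_add R _ _)))
    rw [hw]
    calc S.good.full.x r t * (S.phi (T.heisQ k) f * S.phi (T.heisQ k) g * S.good.full.x th w) *
          (S.good.full.x r t)⁻¹
        = S.good.full.x r t * (S.phi (T.heisQ k) f * S.phi (T.heisQ k) g) *
            (S.good.full.x th w * (S.good.full.x r t)⁻¹) := by group
      _ = _ := by rw [← (S.th_commute R hr.1 t w).inv_left.eq]; group
  · intro s hs u
    rw [S.hphi_single R hs]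
    have hp := hr.1
    have hq := hs.1
    by_cases h : T.pairT r s = -1
    · obtain ⟨hk, hk1, hk2⟩ := S.heis_up R hr hs h
      rw [S.conj_up hp hq h, ← S.hphi_single R hs, ← S.hphi_single R hk]
      refine EqZ.trans S (EqZ.symm S (S.hphi_add R _ _)) ?_
      rw [show (Pi.single s u + Pi.single (T.upR r s) (t * u) : ℕ → F) =
        T.conjA (T.heisQ k) r t (Pi.single s u) from ?_]
      · exact EqZ.refl S _
      funext b
      simp only [conjA, Pi.add_apply]
      congr 1
      rcases eq_or_ne b (T.upR r s) with rfl | hb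
      · rw [Pi.single_eq_same, if_pos ⟨hk, hk1⟩, hk2, Pi.single_eq_same]
      · rw [Pi.single_eq_of_ne hb]
        split_ifs with hc
        · obtain ⟨-, -, h3⟩ := S.heis_dn R hr hc.1 hc.2
          rw [Pi.single_eq_of_ne, mul_zero]
          intro e
          exact hb (by rw [← h3, e])
        · rfl
    · rw [(S.commute hp hq h t u).eq, mul_inv_cancel_right, ← S.hphi_single R hs,
        show T.conjA (T.heisQ k) r t (Pi.single s u : ℕ → F) = Pi.single s u from ?_]
      · exact EqZ.refl S _
      funext b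
      simp only [conjA]
      split_ifs with hc
      · obtain ⟨-, h2, -⟩ := S.heis_dn R hr hc.1 hc.2
        rw [Pi.single_eq_of_ne (show T.dnR r b ≠ s from fun e => h (e ▸ h2)), mul_zero, add_zero]
      · rw [add_zero]

theorem hconjM_eq {L : List ℕ} (hL : ∀ a ∈ L, a ∈ T.heisL k) {f : ℕ → F}
    (hf : SuppIn (T.heisQ k) f) :
    S.EqZ th (S.xG F L * S.phi (T.heisQ k) f * (S.xG F L)⁻¹)
      (S.phi (T.heisQ k) (T.conjM (T.heisQ k) L f)) := by
  induction L with
  | nil => simpa [S.xG_nil, conjM_nil] using EqZ.refl S _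
  | cons a L ih =>
    obtain ⟨ha, hL'⟩ := List.forall_mem_cons.mp hL
    rw [S.xG_cons, conjM_cons]
    obtain ⟨z, hz⟩ := ih hL'
    refine EqZ.trans S ⟨z, ?_⟩ (S.hconj_phi R ha 1 (S.hconjM_supp L hf))
    calc S.good.full.x a 1 * S.xG F L * S.phi (T.heisQ k) f *
          (S.good.full.x a 1 * S.xG F L)⁻¹
        = S.good.full.x a 1 * (S.xG F L * S.phi (T.heisQ k) f * (S.xG F L)⁻¹) *
            (S.good.full.x a 1)⁻¹ := by group
      _ = S.good.full.x a 1 * S.phi (T.heisQ k) (T.conjM (T.heisQ k) L f) *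
            (S.good.full.x th z * (S.good.full.x a 1)⁻¹) := by rw [hz]; group
      _ = _ := by rw [← (S.th_commute R ha.1 1 z).inv_left.eq]; group

theorem hconjM_invol {L : List ℕ} (hL : ∀ a ∈ L, a ∈ T.heisL k) (ho : T.OrthL L) {f : ℕ → F}
    (hf : SuppIn (T.heisQ k) f) :
    T.conjM (T.heisQ k) L (T.conjM (T.heisQ k) L f) = f := by
  refine S.hphi_inj R (S.hconjM_supp L (S.hconjM_supp L hf)) hf ?_
  obtain ⟨z, hz⟩ := EqZ.symm S (S.hconjM_eq R hL hf)
  refine EqZ.trans S (EqZ.symm S (S.hconjM_eq R hL (S.hconjM_supp L hf))) ⟨z, ?_⟩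
  have h := S.xG_sq (F := F) (fun a ha => (hL a ha).1) ho
  have hinv : (S.xG F L)⁻¹ = S.xG F L := inv_eq_iff_mul_eq_one.mpr h
  have hpos : S.xG F L ∈ S.good.US F {r | IsPos D r} :=
    Subgroup.list_prod_mem _ fun g hg => by
      obtain ⟨r, hr, rfl⟩ := List.mem_map.mp hg
      exact S.good.x_mem_US (S := {r | IsPos D r}) (hL r hr).1 1
  rw [hz, hinv]
  calc S.xG F L * (S.xG F L * S.phi (T.heisQ k) f * S.xG F L * S.good.full.x th z) * S.xG F L
      = (S.xG F L * S.xG F L) * S.phi (T.heisQ k) f * S.xG F L *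
          (S.good.full.x th z * S.xG F L) := by group
    _ = _ := by
      rw [← (S.th_commute_pos R hpos z).eq, h, one_mul, mul_assoc (S.phi _ f),
        ← mul_assoc (S.xG F L), h, one_mul]

omit [CharP F 2] in
theorem hconjM_class {L : List ℕ} (hL : ∀ a ∈ L, a ∈ T.heisL k) {δ : ℕ} (hδ : IsPos D δ)
    (h : ∀ a ∈ L, T.pairT δ a = 0) (c : ℤ) {f : ℕ → F}
    (hf : ∀ t ∈ T.heisQ k, T.pairT δ t = c → f t = 0) :
    ∀ t ∈ T.heisQ k, T.pairT δ t = c → T.conjM (T.heisQ k) L f t = 0 := by
  induction L with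
  | nil => exact hf
  | cons a L ih =>
    obtain ⟨ha, hL'⟩ := List.forall_mem_cons.mp hL
    obtain ⟨h1, h'⟩ := List.forall_mem_cons.mp h
    intro t ht htc
    rw [conjM_cons]
    simp only [conjA, ih hL' h' t ht htc, zero_add]
    split_ifs with hc
    · obtain ⟨g1, g2, g3⟩ := S.heis_dn R ha hc.1 hc.2
      rw [ih hL' h' _ g1, mul_zero]
      rw [← htc]
      conv_rhs => rw [← g3]
      rw [S.lin_right ha.1 g1.1 hδ g2, h1, zero_add]
    · rfl

omit [CharP F 2] in
theorem hconjA_fix {a : ℕ} (ha : a ∈ T.heisL k) (t : F) {f : ℕ → F}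
    (hf : ∀ s ∈ T.heisQ k, T.pairT a s = -1 → f s = 0) :
    T.conjA (T.heisQ k) a t f = f := by
  funext b
  simp only [conjA]
  split_ifs with hc
  · obtain ⟨g1, g2, -⟩ := S.heis_dn R ha hc.1 hc.2
    rw [hf _ g1 g2, mul_zero, add_zero]
  · rw [add_zero]

omit [CharP F 2] in
theorem hconjM_fix {L : List ℕ} (hL : ∀ a ∈ L, a ∈ T.heisL k) {f : ℕ → F}
    (hf : ∀ a ∈ L, ∀ s ∈ T.heisQ k, T.pairT a s = -1 → f s = 0) :
    T.conjM (T.heisQ k) L f = f := by
  induction L with
  | nil => rfl
  | cons a L ih =>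
    rw [conjM_cons, ih (List.forall_mem_cons.mp hL).2 (List.forall_mem_cons.mp hf).2,
      S.hconjA_fix R (List.forall_mem_cons.mp hL).1 1 (List.forall_mem_cons.mp hf).1]

end SL

end Tab

end CfsgLib.Chev
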