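import Cfsg.Agent.Chev.InvolTwoHeis

/-!
The last, Heisenberg, step of the reduction of involutions to orthogonal root products.
-/

set_option autoImplicit false
set_option linter.style.haveILetI false

namespace CfsgLib.Chev

open Cfsg.Lie Matrix
open scoped MatrixGroups Classical

namespace Tab

variable {D : ChevalleyDatum}

/-- Conjugacy in `B` up to the centre of the radical. -/
def SL.ConjZ {T : Tab D} (S : T.SL) {F : Type*} [Field F] (th : ℕ) (g h : GL D.Idx F) : Prop :=
  ∃ c ∈ S.bp F {r | IsPos D r}, S.EqZ th (c * g * c⁻¹) h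

namespace SL

variable {T : Tab D} (S : T.SL) {F : Type*} [Field F] [CharP F 2] {k th : ℕ} (R : T.Heis k th)
include S R

omit [CharP F 2] in
theorem xG_pos {L : List ℕ} (hL : ∀ a ∈ L, IsPos D a) :
    S.xG F L ∈ S.good.US F {r | IsPos D r} :=
  Subgroup.list_prod_mem _ fun g hg => by
    obtain ⟨r, hr, rfl⟩ := List.mem_map.mp hg
    exact S.good.x_mem_US (S := {r | IsPos D r}) (hL r hr) 1

theorem bp_conj_th {c : GL D.Idx F} (hc : c ∈ S.bp F {r | IsPos D r}) :
    ∀ z : F, ∃ w : F, c * S.good.full.x th z = S.good.full.x th w * c := by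
  unfold bp at hc
  rw [Subgroup.sup_eq_closure] at hc
  induction hc using Subgroup.closure_induction_left with
  | one => exact fun z => ⟨z, by simp⟩
  | mul_left g hg d _ hd =>
    intro z
    obtain ⟨w, hw⟩ := hd z
    rcases hg with hg | hg
    · obtain ⟨e, rfl⟩ := hg
      refine ⟨(T.chi (F := F) th e : F) * w, ?_⟩
      rw [mul_assoc, hw, ← S.good.full.hT_conj R.thpos.1]
      group
    · refine ⟨w, ?_⟩
      rw [mul_assoc, hw, ← mul_assoc, ← mul_assoc, (S.th_commute_pos R hg w).eq]
  | inv_mul_cancel g hg d _ hd =>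
    intro z
    obtain ⟨w, hw⟩ := hd z
    rcases hg with hg | hg
    · obtain ⟨e, rfl⟩ := hg
      refine ⟨(T.chi (F := F) th e⁻¹ : F) * w, ?_⟩
      rw [mul_assoc, hw, ← S.good.full.hT_conj R.thpos.1, map_inv, inv_inv]
      group
    · refine ⟨w, ?_⟩
      rw [mul_assoc, hw, ← mul_assoc, ← mul_assoc, (S.th_commute_pos R hg w).inv_left.eq]

omit R [CharP F 2] in
theorem ConjZ.refl (g : GL D.Idx F) : S.ConjZ th g g :=
  ⟨1, one_mem _, by simpa using EqZ.refl S g⟩

omit R [CharP F 2] in
theorem ConjZ.of_eqZ {g h : GL D.Idx F} (e : S.EqZ th g h) : S.ConjZ th g h :=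
  ⟨1, one_mem _, by simpa using e⟩

theorem ConjZ.trans {g h l : GL D.Idx F} (h1 : S.ConjZ th g h) (h2 : S.ConjZ th h l) :
    S.ConjZ th g l := by
  obtain ⟨c, hc, z, e1⟩ := h1
  obtain ⟨d, hd, w, e2⟩ := h2
  obtain ⟨z', hz'⟩ := S.bp_conj_th R hd z
  refine ⟨d * c, mul_mem hd hc, w + z', ?_⟩
  rw [← S.good.full.x_add, ← mul_assoc l, ← e2,
    show d * c * g * (d * c)⁻¹ = d * (c * g * c⁻¹) * d⁻¹ by group, e1,
    show d * (h * S.good.full.x th z) * d⁻¹ = d * h * d⁻¹ * (d * S.good.full.x th z * d⁻¹) by group,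
    hz', mul_inv_cancel_right]

theorem ConjZ.sq {g h : GL D.Idx F} (h1 : S.ConjZ th g h)
    (hh : h ∈ S.good.US F {r | IsPos D r}) (hg : g * g = 1) : h * h = 1 := by
  obtain ⟨c, -, z, e⟩ := h1
  have h2 : c * g * c⁻¹ * (c * g * c⁻¹) = 1 := by
    rw [show c * g * c⁻¹ * (c * g * c⁻¹) = c * (g * g) * c⁻¹ by group, hg, mul_one, mul_inv_cancel]
  rw [e] at h2
  calc h * h = h * h * (S.good.full.x th z * S.good.full.x th z) := by rw [S.x_sq, mul_one]
    _ = h * (h * S.good.full.x th z) * S.good.full.x th z := by group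
    _ = h * (S.good.full.x th z * h) * S.good.full.x th z := by
        rw [(S.th_commute_pos R hh z).eq]
    _ = 1 := by rw [← h2]; group

omit R in
theorem commute_seg {r : ℕ} (hr : IsPos D r) (u : F) {Q : Set ℕ} (hQ : ∀ t ∈ Q, IsPos D t)
    (e : ℕ → F) (h : ∀ t ∈ Q, e t ≠ 0 → T.pairT r t ≠ -1) : ∀ m j,
    Commute (S.good.full.x r u) (S.good.segProd Q e j m) := by
  intro m
  induction m with
  | zero => intro j; exact Commute.one_right _
  | succ m ih =>
    intro j
    simp only [Good.segProd]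
    refine Commute.mul_right ?_ (ih (j + 1))
    split_ifs with hj
    · rcases eq_or_ne (e j) 0 with he | he
      · rw [he, S.good.full.x_zero]; exact Commute.one_right _
      · exact S.commute hr (hQ j hj) (h j hj he) u _
    · exact Commute.one_right _

omit R in
theorem seg_sq {Q : Set ℕ} (hQ : ∀ t ∈ Q, IsPos D t) (e : ℕ → F)
    (h : ∀ s ∈ Q, ∀ t ∈ Q, e s ≠ 0 → e t ≠ 0 → T.pairT s t ≠ -1) : ∀ m j,
    S.good.segProd Q e j m * S.good.segProd Q e j m = 1 := by
  intro m
  induction m with
  | zero => intro j; exact one_mul 1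
  | succ m ih =>
    intro j
    simp only [Good.segProd]
    split_ifs with hj
    · rcases eq_or_ne (e j) 0 with he | he
      · rw [he, S.good.full.x_zero, one_mul]; exact ih (j + 1)
      · have hc := S.commute_seg (hQ j hj) (e j) hQ e (fun t ht het => h j hj t ht he het) m (j + 1)
        rw [mul_assoc, ← mul_assoc (S.good.segProd Q e (j + 1) m), ← hc.eq,
          mul_assoc (S.good.full.x j (e j)) (S.good.segProd Q e (j + 1) m), ih (j + 1), mul_one,
          S.x_sq]
    · rw [one_mul]; exact ih (j + 1)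

omit R [CharP F 2] in
theorem conj_seg {g : GL D.Idx F} {Q : Set ℕ} (e : ℕ → F)
    (h : ∀ t ∈ Q, g * S.good.full.x t (e t) * g⁻¹ = S.good.full.x t (e t)) : ∀ m j,
    g * S.good.segProd Q e j m * g⁻¹ = S.good.segProd Q e j m := by
  intro m
  induction m with
  | zero => intro j; simp [Good.segProd]
  | succ m ih =>
    intro j
    simp only [Good.segProd]
    rw [show g * ((if j ∈ Q then S.good.full.x j (e j) else 1) *
        S.good.segProd Q e (j + 1) m) * g⁻¹ =
      (g * (if j ∈ Q then S.good.full.x j (e j) else 1) * g⁻¹) *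
        (g * S.good.segProd Q e (j + 1) m * g⁻¹) by group, ih (j + 1)]
    split_ifs with hj
    · rw [h j hj]
    · simp

/-- Step one at the Heisenberg level. -/
theorem hstep_one : ∀ (L2 L1 : List ℕ), (∀ a ∈ L1 ++ L2, a ∈ T.heisL k) → T.OrthL (L1 ++ L2) →
    ∀ f : ℕ → F, SuppIn (T.heisQ k) f →
      (∀ t ∈ T.heisQ k, ∀ a ∈ L1, T.pairT a t ≠ 0 → f t = 0) →
      T.conjM (T.heisQ k) (L1 ++ L2) f = f →
      ∃ f' : ℕ → F, SuppIn (T.heisQ k) f' ∧
        (∀ t ∈ T.heisQ k, ∀ a ∈ L1 ++ L2, T.pairT a t ≠ 0 → f' t = 0) ∧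
        S.ConjZ th (S.xG F (L1 ++ L2) * S.phi (T.heisQ k) f)
          (S.xG F (L1 ++ L2) * S.phi (T.heisQ k) f') := by
  intro L2
  induction L2 with
  | nil =>
    intro L1 _ _ f hf h1 _
    exact ⟨f, hf, by simpa using h1, ConjZ.refl S _⟩
  | cons γ L2 ih =>
    intro L1 hL ho f hf h1 hfix
    have hγ : γ ∈ T.heisL k := hL γ (by simp)
    have hgp := hγ.1
    have hL1 : ∀ a ∈ L1, a ∈ T.heisL k := fun a ha => hL a (List.mem_append_left _ ha)
    have hL2 : ∀ a ∈ L2, a ∈ T.heisL k := fun a ha => hL a (by simp [ha])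
    obtain ⟨ho1, ho2, ho12⟩ := List.pairwise_append.mp ho
    obtain ⟨hγ2, ho2'⟩ := List.pairwise_cons.mp ho2
    have h21 : ∀ d ∈ L1, ∀ a ∈ L2, T.pairT d a = 0 := fun d hd a ha =>
      ho12 d hd a (List.mem_cons_of_mem _ ha)
    have h1γ : ∀ d ∈ L1, T.pairT d γ = 0 := fun d hd => ho12 d hd γ (List.mem_cons_self ..)
    have keep : ∀ {e : ℕ → F}, (∀ t ∈ T.heisQ k, ∀ a ∈ L1, T.pairT a t ≠ 0 → e t = 0) →
        ∀ t ∈ T.heisQ k, ∀ a ∈ L1, T.pairT a t ≠ 0 → T.conjM (T.heisQ k) L2 e t = 0 :=
      fun he t ht a ha hne =>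
      S.hconjM_class R hL2 (hL1 a ha).1 (h21 a ha) _
        (fun t' ht' e' => he t' ht' a ha (e' ▸ hne)) t ht rfl
    have keepA : ∀ {e : ℕ → F}, (∀ t ∈ T.heisQ k, ∀ a ∈ L1, T.pairT a t ≠ 0 → e t = 0) →
        ∀ t ∈ T.heisQ k, ∀ a ∈ L1, T.pairT a t ≠ 0 → T.conjA (T.heisQ k) γ 1 e t = 0 :=
      fun he t ht a ha hne =>
      S.hconjM_class R (L := [γ]) (fun b hb => by simp only [List.mem_singleton] at hb; exact hb ▸ hγ)
        (hL1 a ha).1
        (fun b hb => by simp only [List.mem_singleton] at hb; exact hb ▸ h1γ a ha) _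
        (fun t' ht' e' => he t' ht' a ha (e' ▸ hne)) t ht rfl
    have fix1 : ∀ {e : ℕ → F}, (∀ t ∈ T.heisQ k, ∀ a ∈ L1, T.pairT a t ≠ 0 → e t = 0) →
        T.conjM (T.heisQ k) L1 e = e := fun he =>
      S.hconjM_fix R hL1 fun a ha s hs h => he s hs a ha (by rw [h]; decide)
    let g : ℕ → F := fun s =>
      if s ∈ T.heisQ k ∧ T.pairT γ s = -1 then f (T.upR γ s) else 0
    have hg : SuppIn (T.heisQ k) g := fun t ht => by simp [g, ht]
    have hg1 : ∀ t ∈ T.heisQ k, ∀ a ∈ L1, T.pairT a t ≠ 0 → g t = 0 := by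
      intro t ht a ha hne
      simp only [g]
      split_ifs with hc
      · refine h1 _ (S.heis_up R hγ hc.1 hc.2).1 a ha ?_
        rw [S.lin_right hgp ht.1 (hL1 a ha).1 hc.2, h1γ a ha, zero_add]
        exact hne
      · rfl
    set h := T.conjM (T.heisQ k) L2 g with hh
    have hhs : SuppIn (T.heisQ k) h := S.hconjM_supp L2 hg
    have hh1 : ∀ t ∈ T.heisQ k, ∀ a ∈ L1, T.pairT a t ≠ 0 → h t = 0 := keep hg1
    have hMh : T.conjM (T.heisQ k) (L1 ++ γ :: L2) h = T.conjA (T.heisQ k) γ 1 g := by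
      rw [conjM_append, conjM_cons, S.hconjM_invol R hL2 ho2' hg]
      exact fix1 (keepA hg1)
    set f' := f + h + T.conjA (T.heisQ k) γ 1 g with hf'
    have hA : SuppIn (T.heisQ k) (T.conjA (T.heisQ k) γ 1 g) := S.hconjA_supp γ 1 hg
    have hf's : SuppIn (T.heisQ k) f' := fun t ht => by
      simp [hf', hf t ht, hhs t ht, hA t ht]
    have hf'1 : ∀ t ∈ T.heisQ k, ∀ a ∈ L1, T.pairT a t ≠ 0 → f' t = 0 := fun t ht a ha hne => by
      simp [hf', h1 t ht a ha hne, hh1 t ht a ha hne, keepA hg1 t ht a ha hne]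
    have hxpos := S.xG_pos (F := F) R (fun a ha => (hL a ha).1)
    have hsim : S.ConjZ th (S.xG F (L1 ++ γ :: L2) * S.phi (T.heisQ k) f)
        (S.xG F (L1 ++ γ :: L2) * S.phi (T.heisQ k) f') := by
      refine ⟨S.phi (T.heisQ k) h, Subgroup.mem_sup_right (S.hphi_pos R h), ?_⟩
      have hinv : S.EqZ th (S.phi (T.heisQ k) h)⁻¹ (S.phi (T.heisQ k) h) := by
        obtain ⟨z, hz⟩ := S.hphi_add R h h
        rw [show h + h = 0 from funext fun t => CharTwo.add_self_eq_zero (h t), S.hphi_zero R] at hz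
        refine ⟨z, ?_⟩
        rw [inv_eq_iff_mul_eq_one, ← mul_assoc, ← hz]
      have hsq := S.xG_sq (F := F) (fun a ha => (hL a ha).1) ho
      have e := S.hconjM_eq R hL hhs
      rw [hMh, inv_eq_iff_mul_eq_one.mpr hsq] at e
      have e1 : S.EqZ th (S.phi (T.heisQ k) h * (S.xG F (L1 ++ γ :: L2) * S.phi (T.heisQ k) f) *
          (S.phi (T.heisQ k) h)⁻¹)
          (S.xG F (L1 ++ γ :: L2) * (S.phi (T.heisQ k) (T.conjA (T.heisQ k) γ 1 g) *
            S.phi (T.heisQ k) f * S.phi (T.heisQ k) h)) := by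
        rw [show S.phi (T.heisQ k) h * (S.xG F (L1 ++ γ :: L2) * S.phi (T.heisQ k) f) *
              (S.phi (T.heisQ k) h)⁻¹ =
            S.xG F (L1 ++ γ :: L2) * (S.xG F (L1 ++ γ :: L2) * S.phi (T.heisQ k) h *
              S.xG F (L1 ++ γ :: L2) * S.phi (T.heisQ k) f * (S.phi (T.heisQ k) h)⁻¹) by
          simp only [← mul_assoc, hsq, one_mul]]
        refine EqZ.mul S R (EqZ.refl S _) (EqZ.mul S R (EqZ.mul S R e (EqZ.refl S _)
          (S.hphi_pos R _)) hinv (S.hphi_pos R _))
          (mul_mem (mul_mem (S.hphi_pos R _) (S.hphi_pos R _)) (S.hphi_pos R _))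
      refine EqZ.trans S e1 (EqZ.mul S R (EqZ.refl S _) ?_ (S.hphi_pos R _))
      refine EqZ.trans S (EqZ.mul S R (EqZ.symm S (S.hphi_add R _ _)) (EqZ.refl S _)
        (S.hphi_pos R _)) (EqZ.trans S (EqZ.symm S (S.hphi_add R _ _)) ?_)
      rw [show T.conjA (T.heisQ k) γ 1 g + f + h = f' from funext fun t => by
        simp only [hf', Pi.add_apply]; ring]
      exact EqZ.refl S _
    have hfix' : T.conjM (T.heisQ k) (L1 ++ γ :: L2) f' = f' := by
      have e2 : T.conjM (T.heisQ k) (L1 ++ γ :: L2) (T.conjA (T.heisQ k) γ 1 g) = h := by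
        rw [← hMh]; exact S.hconjM_invol R hL ho hhs
      rw [hf', conjM_add, conjM_add, hfix, hMh, e2, add_right_comm]
    have hup : ∀ t ∈ T.heisQ k, T.pairT γ t = 1 → f' t = 0 := by
      intro t ht h1t
      have hcls : h t = 0 := S.hconjM_class R hL2 hgp (fun a ha => hγ2 a ha) 1
        (fun s hs e => by simp [g, e]) t ht h1t
      obtain ⟨g1, g2, g3⟩ := S.heis_dn R hγ ht h1t
      simp [hf', hcls, conjA, ht, h1t, g, g1, g2, g3, CharTwo.add_self_eq_zero]
    set e := T.conjM (T.heisQ k) L2 f' with he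
    have hec : T.conjA (T.heisQ k) γ 1 e = f' := by
      conv_rhs => rw [← hfix']
      rw [conjM_append, conjM_cons, fix1 (keepA (keep hf'1))]
    have heup : ∀ t ∈ T.heisQ k, T.pairT γ t = 1 → e t = 0 :=
      S.hconjM_class R hL2 hgp (fun a ha => hγ2 a ha) 1 hup
    have helow : ∀ s ∈ T.heisQ k, T.pairT γ s = -1 → e s = 0 := by
      intro s hs h1s
      obtain ⟨k1, k2, k3⟩ := S.heis_up R hγ hs h1s
      have := congrFun hec (T.upR γ s)
      simp only [conjA, k1, k2, and_self, if_true, k3, heup _ k1 k2, hup _ k1 k2, one_mul,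
        zero_add] at this
      exact this
    have hef : e = f' := by rw [← hec, S.hconjA_fix R hγ 1 helow]
    have hγ0 : ∀ t ∈ T.heisQ k, T.pairT γ t ≠ 0 → f' t = 0 := by
      intro t ht hne
      rcases S.pair_cases hgp ht.1 (fun e' => by
        have h2 := ht.2; rw [← e', hγ.2] at h2; omega) with h3 | h3 | h3
      · rw [← hef]; exact helow t ht h3
      · exact absurd h3 hne
      · exact hup t ht h3
    obtain ⟨f'', a1, a2, a3⟩ := ih (L1 ++ [γ]) (by simpa using hL) (by simpa using ho) f' hf's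
      (fun t ht a ha hne => by
        rcases List.mem_append.mp ha with ha | ha
        · exact hf'1 t ht a ha hne
        · simp only [List.mem_singleton] at ha
          subst ha
          exact hγ0 t ht hne) (by simpa using hfix')
    refine ⟨f'', a1, by simpa using a2, ConjZ.trans S R hsim ?_⟩
    simpa using a3

theorem hclear_row {α : ℕ} (L : List ℕ) (hL : ∀ a ∈ L, IsPos D a) : ∀ n : ℕ, ∀ f : ℕ → F,
    SuppIn (T.heisQ k) f → (∀ t ∈ T.heisQ k, ∀ a ∈ L, T.pairT a t ≠ 0 → f t = 0) →
    (∀ t, t < α → f t = 0) → f α ≠ 0 →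
    (∀ t, t < D.nroots - n → T.pairT α t = 1 → f t = 0) →
    ∃ f' : ℕ → F, SuppIn (T.heisQ k) f' ∧
      (∀ t ∈ T.heisQ k, ∀ a ∈ L, T.pairT a t ≠ 0 → f' t = 0) ∧
      (∀ t, t < α → f' t = 0) ∧ f' α ≠ 0 ∧ (∀ t, T.pairT α t = 1 → f' t = 0) ∧
      S.ConjZ th (S.xG F L * S.phi (T.heisQ k) f) (S.xG F L * S.phi (T.heisQ k) f') := by
  intro n
  induction n with
  | zero =>
    intro f hf h1 h2 h3 h4
    refine ⟨f, hf, h1, h2, h3, fun t htp => ?_, ConjZ.refl S _⟩
    by_cases hN : t < D.nroots
    · exact h4 t (by omega) htp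
    · exact hf t fun hm => hN hm.1.1
  | succ n ih =>
    intro f hf h1 h2 h3 h4
    set i := D.nroots - (n + 1) with hi
    by_cases hz : f i = 0 ∨ T.pairT α i ≠ 1
    · refine ih f hf h1 h2 h3 fun t ht htp => ?_
      rcases eq_or_ne t i with rfl | hti
      · rcases hz with hz | hz
        · exact hz
        · exact absurd htp hz
      · exact h4 t (by omega) htp
    · simp only [not_or, not_not] at hz
      obtain ⟨hfi, hp1⟩ := hz
      have hαQ : α ∈ T.heisQ k := by by_contra hc; exact h3 (hf α hc)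
      have hiQ : i ∈ T.heisQ k := by by_contra hc; exact hfi (hf i hc)
      have hαp := hαQ.1
      have hip := hiQ.1
      have hne : α ≠ i := fun e => by rw [← e, S.pair_self hαp] at hp1; omega
      have hαi : α < i := lt_of_le_of_ne (not_lt.mp fun hc => hfi (h2 i hc)) hne
      obtain ⟨hr, hr1, hr2⟩ := (S.one_spec hαp hip hp1).1 hαi
      set r := T.dnR α i with hrdef
      have hr1' : T.pairT r α = -1 := (S.pair_symm hr hαp).trans hr1
      have hup : T.upR r α = i := (S.up_comm hr hαp hr1').trans hr2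
      have hrL : r ∈ T.heisL k := by
        refine ⟨hr, ?_⟩
        have := (S.up_spec hαp hr hr1).2.2.1 k R.klt
        rw [hr2, hiQ.2, hαQ.2] at this
        omega
      obtain ⟨-, hri, hdn⟩ := S.heis_up R hrL hαQ hr1'
      rw [hup] at hri hdn
      set t := f i / f α with ht
      set f2 := T.conjA (T.heisQ k) r t f with hf2
      have hlow : ∀ b, b < i → f2 b = f b := by
        intro b hb
        simp only [hf2, conjA]
        rw [add_eq_left]
        split_ifs with hc
        · obtain ⟨g1, g2, g3⟩ := S.heis_dn R hrL hc.1 hc.2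
          have hgp := g1.1
          by_cases hlt : T.dnR r b < α
          · rw [h2 _ hlt, mul_zero]
          · exfalso
            have k1 := S.key_up hr hαp hr1'
            have k2 := S.key_up hr hgp g2
            rw [hup] at k1
            rw [g3] at k2
            have k3 : T.keyR α ≤ T.keyR (T.dnR r b) := by
              rcases (not_lt.mp hlt).eq_or_lt with e | e
              · rw [← e]
              · exact (S.key_lt hαp hgp e).le
            have := S.le_of_key_le hip hc.1.1 (by omega)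
            omega
        · rfl
      have hLr : ∀ a ∈ L, T.pairT a r = 0 := by
        intro a ha
        have ha' := hL a ha
        have e1 : T.pairT a i = 0 := by by_contra hc; exact hfi (h1 i hiQ a ha hc)
        have e2 : T.pairT a α = 0 := by by_contra hc; exact h3 (h1 α hαQ a ha hc)
        have e := S.lin_right hr hαp ha' hr1'
        rw [hup, e1, e2, add_zero] at e
        exact e.symm
      have hperp : ∀ b ∈ T.heisQ k, ∀ a ∈ L, T.pairT a b ≠ 0 → f2 b = 0 := by
        intro b hb a ha hab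
        simp only [hf2, conjA, h1 b hb a ha hab, zero_add]
        split_ifs with hc
        · obtain ⟨g1, g2, g3⟩ := S.heis_dn R hrL hc.1 hc.2
          have e := S.lin_right hr g1.1 (hL a ha) g2
          rw [g3, hLr a ha, zero_add] at e
          rw [h1 _ g1 a ha (e ▸ hab), mul_zero]
        · rfl
      obtain ⟨f', a1, a2, a3, a4, a5, a6⟩ := ih f2 (S.hconjA_supp r t hf) hperp
        (fun b hb => by rw [hlow b (lt_trans hb hαi), h2 b hb])
        (by rw [hlow α hαi]; exact h3)
        (fun b hb hbp => by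
          rcases eq_or_ne b i with rfl | hbi
          · simp only [hf2, conjA, hiQ, hri, and_self, if_true, hdn, ht]
            rw [div_mul_cancel₀ _ h3, CharTwo.add_self_eq_zero]
          · rw [hlow b (by omega)]
            exact h4 b (by omega) hbp)
      refine ⟨f', a1, a2, a3, a4, a5, ConjZ.trans S R ?_ a6⟩
      refine ⟨S.good.full.x r t,
        Subgroup.mem_sup_right (S.good.x_mem_US (S := {r | IsPos D r}) hr t), ?_⟩
      have hc : Commute (S.good.full.x r t) (S.xG F L) :=
        S.commute_xG hr hL (fun a ha => by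
          rw [S.pair_symm hr (hL a ha), hLr a ha]
          decide) t
      rw [← mul_assoc, hc.eq, mul_assoc (S.xG F L), mul_assoc (S.xG F L)]
      exact EqZ.mul S R (EqZ.refl S _) (S.hconj_phi R hrL t hf) (S.hphi_pos R _)

/-- Step two at the Heisenberg level. -/
theorem hstep_two [Finite F] : ∀ m : ℕ, ∀ L : List ℕ,
    (∀ a ∈ L, a ∈ T.heisL k ∨ a ∈ T.heisQ k) → T.OrthL L →
    ∀ f : ℕ → F, SuppIn (T.heisQ k) f →
      (∀ t ∈ T.heisQ k, ∀ a ∈ L, T.pairT a t ≠ 0 → f t = 0) →
      (∀ t, t < D.nroots - m → f t = 0) →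
      (S.xG F L * S.phi (T.heisQ k) f) * (S.xG F L * S.phi (T.heisQ k) f) = 1 →
      ∃ L' : List ℕ, (∀ a ∈ L', a ∈ T.heisL k ∨ a ∈ T.heisQ k) ∧ T.OrthL L' ∧
        S.ConjZ th (S.xG F L * S.phi (T.heisQ k) f) (S.xG F L') := by
  intro m
  induction m with
  | zero =>
    intro L hL ho f hf _ h2 _
    refine ⟨L, hL, ho, ?_⟩
    rw [show f = 0 from funext fun t => by
      by_cases hN : t < D.nroots
      · exact h2 t (by omega)
      · exact hf t fun hm => hN hm.1.1]
    rw [S.hphi_zero R, mul_one]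
    exact ConjZ.refl S _
  | succ m ih =>
    intro L hL ho f hf h1 h2 hW
    set α := D.nroots - (m + 1) with hα
    by_cases hfa : f α = 0
    · refine ih L hL ho f hf h1 (fun t ht => ?_) hW
      rcases eq_or_ne t α with rfl | hta
      · exact hfa
      · exact h2 t (by omega)
    · have hαQ : α ∈ T.heisQ k := by by_contra hc; exact hfa (hf α hc)
      have hαp := hαQ.1
      have hLp : ∀ a ∈ L, IsPos D a := fun a ha => (hL a ha).elim (·.1) (·.1)
      obtain ⟨f', a1, a2, a3, a4, a5, a6⟩ := S.hclear_row R L hLp D.nroots f hf h1 h2 hfa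
        (fun t ht => absurd ht (by omega))
      have hWpos : S.xG F L * S.phi (T.heisQ k) f' ∈ S.good.US F {r | IsPos D r} :=
        mul_mem (S.xG_pos R hLp) (S.hphi_pos R _)
      have hW' := ConjZ.sq S R a6 hWpos hW
      have hLt : ∀ a ∈ L, ∀ t ∈ T.heisQ k, f' t ≠ 0 → T.pairT a t = 0 := fun a ha t ht hne => by
        by_contra hc; exact hne (a2 t ht a ha hc)
      have hcLphi : Commute (S.xG F L) (S.phi (T.heisQ k) f') := by
        refine Commute.list_prod_left _ _ fun g hg => ?_
        obtain ⟨a, ha, rfl⟩ := List.mem_map.mp hg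
        exact S.commute_seg (hLp a ha) 1 (fun t ht => ht.1) f'
          (fun t ht hne => by rw [hLt a ha t ht hne]; decide) _ _
      have hphisq : S.phi (T.heisQ k) f' * S.phi (T.heisQ k) f' = 1 := by
        rw [← hW', mul_assoc, ← mul_assoc (S.phi (T.heisQ k) f'), ← hcLphi.eq, mul_assoc,
          ← mul_assoc, S.xG_sq hLp ho, one_mul]
      -- the partner of `α` in the centre
      have hαth : α < th := by
        have := hαp.1
        have := R.last
        have : α ≠ th := fun e => by have := hαQ.2; rw [e, R.thcor] at this; omega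
        omega
      have hpth : T.pairT α th = 1 := by rw [R.pair_th α hαp]; exact hαQ.2
      obtain ⟨hb, hb1, hb2⟩ := (S.one_spec hαp R.thpos hpth).1 hαth
      set β := T.dnR α th with hβ
      have hβQ : β ∈ T.heisQ k := by
        refine ⟨hb, ?_⟩
        have := (S.up_spec hαp hb hb1).2.2.1 k R.klt
        rw [hb2, R.thcor, hαQ.2] at this
        omega
      have honly : ∀ t ∈ T.heisQ k, T.pairT α t = -1 → t = β := by
        intro t ht h
        rw [hβ, ← S.heis_qq R hαQ ht h]
        exact ((S.up_spec hαp ht.1 h).2.1).symm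
      have hβα : β ≠ α := fun e => by rw [e, S.pair_self hαp] at hb1; omega
      set rest := Function.update (Function.update f' α 0) β 0 with hrest
      have hrest0 : ∀ t, rest t ≠ 0 → t ≠ α ∧ t ≠ β ∧ f' t ≠ 0 := by
        intro t ht
        rcases eq_or_ne t β with rfl | h
        · simp [hrest] at ht
        rcases eq_or_ne t α with rfl | h'
        · simp [hrest, h] at ht
        exact ⟨h', h, by simpa [hrest, h, h'] using ht⟩
      have hrestS : SuppIn (T.heisQ k) rest := fun t ht => by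
        by_contra hc
        exact (hrest0 t hc).2.2 (a1 t ht)
      have hrest_perp : ∀ t ∈ T.heisQ k, rest t ≠ 0 → T.pairT α t = 0 := by
        intro t ht hne
        obtain ⟨n1, n2, n3⟩ := hrest0 t hne
        rcases S.pair_cases hαp ht.1 n1.symm with h | h | h
        · exact absurd (honly t ht h) n2
        · exact h
        · exact absurd (a5 t h) n3
      have hrest_beta : ∀ t ∈ T.heisQ k, rest t ≠ 0 → T.pairT β t = 1 := by
        intro t ht hne
        have e := S.lin_right hαp hb ht.1 hb1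
        rw [hb2, R.pair_th t ht.1, ht.2, S.pair_symm ht.1 hαp, hrest_perp t ht hne, zero_add,
          S.pair_symm ht.1 hb] at e
        exact e.symm
      have hsplit : f' = Pi.single α (f' α) + Pi.single β (f' β) + rest := by
        funext t
        rcases eq_or_ne t β with rfl | h
        · simp [hrest, hβα]
        rcases eq_or_ne t α with rfl | h'
        · simp [hrest, h]
        · simp [hrest, h, h']
      obtain ⟨z, hz⟩ : S.EqZ th (S.phi (T.heisQ k) f')
          (S.good.full.x α (f' α) * S.good.full.x β (f' β) * S.phi (T.heisQ k) rest) := by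
        conv_lhs => rw [hsplit]
        refine EqZ.trans S (S.hphi_add R _ _) (EqZ.mul S R ?_ (EqZ.refl S _) (S.hphi_pos R _))
        refine EqZ.trans S (S.hphi_add R _ _) ?_
        rw [S.hphi_single R hαQ, S.hphi_single R hβQ]
        exact EqZ.refl S _
      have hRsq : S.phi (T.heisQ k) rest * S.phi (T.heisQ k) rest = 1 := by
        refine S.seg_sq (fun t ht => ht.1) rest (fun s hs t ht hse hte h => ?_) _ _
        have e := S.lin_right hs.1 ht.1 hαp h
        rw [S.heis_qq R hs ht h, hpth, hrest_perp s hs hse, hrest_perp t ht hte] at e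
        omega
      have hRα : Commute (S.good.full.x α (f' α)) (S.phi (T.heisQ k) rest) :=
        S.commute_seg hαp _ (fun t ht => ht.1) rest
          (fun t ht hne => by rw [hrest_perp t ht hne]; decide) _ _
      have hRβ : Commute (S.good.full.x β (f' β)) (S.phi (T.heisQ k) rest) :=
        S.commute_seg hb _ (fun t ht => ht.1) rest
          (fun t ht hne => by rw [hrest_beta t ht hne]; decide) _ _
      have hb0 : f' β = 0 := by
        have hsq' : (S.good.full.x α (f' α) * S.good.full.x β (f' β) * S.phi (T.heisQ k) rest) *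
            (S.good.full.x α (f' α) * S.good.full.x β (f' β) * S.phi (T.heisQ k) rest) = 1 :=
          ConjZ.sq S R (ConjZ.of_eqZ S ⟨z, hz⟩)
            (mul_mem (mul_mem (S.good.x_mem_US (S := {r | IsPos D r}) hαp _)
              (S.good.x_mem_US (S := {r | IsPos D r}) hb _)) (S.hphi_pos R _)) hphisq
        have hc := S.conj_up hαp hb hb1 (f' α) (f' β)
        rw [S.x_inv_two, hb2] at hc
        have e2 : (S.good.full.x α (f' α) * S.good.full.x β (f' β)) *
            (S.good.full.x α (f' α) * S.good.full.x β (f' β)) = 1 := by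
          rw [← hsq', mul_assoc (S.good.full.x α (f' α) * S.good.full.x β (f' β)) _
            (S.good.full.x α (f' α) * S.good.full.x β (f' β) * S.phi (T.heisQ k) rest),
            ← mul_assoc (S.phi (T.heisQ k) rest),
            ← (hRα.mul_left hRβ).eq, mul_assoc (S.good.full.x α (f' α) * S.good.full.x β (f' β))
              (S.phi (T.heisQ k) rest), hRsq, mul_one]
        rw [mul_assoc, ← mul_assoc (S.good.full.x β (f' β)), ← mul_assoc, ← mul_assoc, hc,
          mul_assoc, ← (S.th_commute R hb (f' β) (f' α * f' β)).eq, ← mul_assoc, S.x_sq,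
          one_mul] at e2
        exact (mul_eq_zero.mp (S.good.x_eq_one R.thpos.1 e2)).resolve_left a4
      rw [hb0, S.good.full.x_zero, mul_one] at hz
      obtain ⟨s, hs⟩ := FiniteField.isSquare_of_char_two (ringChar.eq F 2) (f' α)⁻¹
      have hs0 : s ≠ 0 := fun e => inv_ne_zero a4 (by rw [hs, e, zero_mul])
      set h := S.good.full.hr α s with hh
      have hfix : ∀ b, IsPos D b → T.pairT α b = 0 → ∀ u : F,
          h * S.good.full.x b u * h⁻¹ = S.good.full.x b u := fun b hb e u => by
        rw [hh, S.hr_conj_x hαp.1 hb.1 hs0, e, zpow_zero, one_mul]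
      have hLα : ∀ a ∈ L, T.pairT a α = 0 := fun a ha => hLt a ha α hαQ a4
      have hcL : h * S.xG F L * h⁻¹ = S.xG F L := by
        have := S.conj_xG (g := h) (f := id) L fun a ha =>
          hfix a (hLp a ha) (by rw [S.pair_symm hαp (hLp a ha)]; exact hLα a ha) 1
        simpa using this
      have hcα : h * S.good.full.x α (f' α) * h⁻¹ = S.good.full.x α 1 := by
        rw [hh, S.hr_conj_x hαp.1 hαp.1 hs0, S.pair_self hαp, zpow_two, ← hs,
          inv_mul_cancel₀ a4]
      have hcr : h * S.phi (T.heisQ k) rest * h⁻¹ = S.phi (T.heisQ k) rest := by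
        refine S.conj_seg rest (fun t ht => ?_) _ _
        rcases eq_or_ne (rest t) 0 with e | e
        · rw [e, S.good.full.x_zero, mul_one, mul_inv_cancel]
        · exact hfix t ht.1 (hrest_perp t ht e) _
      have hnext : S.ConjZ th (S.xG F L * S.phi (T.heisQ k) f')
          (S.xG F (L ++ [α]) * S.phi (T.heisQ k) rest) := by
        refine ConjZ.trans S R (ConjZ.of_eqZ S (EqZ.mul S R (EqZ.refl S _) ⟨z, hz⟩
          (mul_mem (S.good.x_mem_US (S := {r | IsPos D r}) hαp _) (S.hphi_pos R _)))) ?_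
        refine ⟨h, Subgroup.mem_sup_left (S.good.full.hr_mem hαp.1 hs0), ?_⟩
        rw [S.xG_append, S.xG_cons, S.xG_nil, mul_one,
          show h * (S.xG F L * (S.good.full.x α (f' α) * S.phi (T.heisQ k) rest)) * h⁻¹ =
            h * S.xG F L * h⁻¹ * (h * S.good.full.x α (f' α) * h⁻¹) *
              (h * S.phi (T.heisQ k) rest * h⁻¹) by group, hcL, hcα, hcr]
        exact EqZ.refl S _
      have hLp' : ∀ a ∈ L ++ [α], IsPos D a := fun a ha => by
        rcases List.mem_append.mp ha with ha | ha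
        · exact hLp a ha
        · simp only [List.mem_singleton] at ha; exact ha ▸ hαp
      obtain ⟨L', c1, c2, c3⟩ := ih (L ++ [α]) (fun a ha => by
          rcases List.mem_append.mp ha with ha | ha
          · exact hL a ha
          · simp only [List.mem_singleton] at ha; exact Or.inr (ha ▸ hαQ))
        (List.pairwise_append.mpr ⟨ho, List.pairwise_singleton _ _, fun a ha b hb => by
          simp only [List.mem_singleton] at hb; exact hb ▸ hLα a ha⟩) rest hrestS
        (fun t ht a ha htp => by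
          by_contra hc
          rcases List.mem_append.mp ha with ha | ha
          · exact htp (hLt a ha t ht (hrest0 t hc).2.2)
          · simp only [List.mem_singleton] at ha
            exact htp (ha ▸ hrest_perp t ht hc))
        (fun t ht => by
          by_contra hc
          obtain ⟨n1, -, n3⟩ := hrest0 t hc
          exact n3 (a3 t (by omega)))
        (ConjZ.sq S R hnext (mul_mem (S.xG_pos R hLp') (S.hphi_pos R _)) hW')
      exact ⟨L', c1, c2, ConjZ.trans S R a6 (ConjZ.trans S R hnext c3)⟩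

/-- Removing the central coordinate. -/
theorem hfinish [Finite F] {L : List ℕ} (hL : ∀ a ∈ L, a ∈ T.heisL k ∨ a ∈ T.heisQ k)
    (ho : T.OrthL L) (z : F) :
    ∃ L' : List ℕ, (∀ a ∈ L', IsPos D a) ∧ T.OrthL L' ∧
      ConjIn (S.bp F {r | IsPos D r}) (S.xG F L * S.good.full.x th z) (S.xG F L') := by
  have hLp : ∀ a ∈ L, IsPos D a := fun a ha => (hL a ha).elim (·.1) (·.1)
  by_cases hq : ∃ a ∈ L, a ∈ T.heisQ k
  · obtain ⟨a, ha, haQ⟩ := hq
    refine ⟨L, hLp, ho, ?_⟩
    have hpa : T.pairT a th = 1 := by rw [R.pair_th a haQ.1]; exact haQ.2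
    have hath : a < th := by
      have := haQ.1.1
      have := R.last
      have : a ≠ th := fun e => by have := haQ.2; rw [e, R.thcor] at this; omega
      omega
    obtain ⟨hr, hr1, hr2⟩ := (S.one_spec haQ.1 R.thpos hpa).1 hath
    set r := T.dnR a th with hrdef
    obtain ⟨L1, L2, rfl⟩ := List.append_of_mem ha
    obtain ⟨-, ho2, ho12⟩ := List.pairwise_append.mp ho
    have hother : ∀ b ∈ L1 ++ L2, T.pairT r b ≠ -1 := by
      intro b hb
      have hb' : b ∈ L1 ++ a :: L2 := by
        simp only [List.mem_append, List.mem_cons] at hb ⊢; tauto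
      have hab : T.pairT b a = 0 := by
        rcases List.mem_append.mp hb with h | h
        · exact ho12 b h a (List.mem_cons_self ..)
        · rw [S.pair_symm (hLp b hb') haQ.1]
          exact (List.pairwise_cons.mp ho2).1 b h
      have e := S.lin_right haQ.1 hr (hLp b hb') hr1
      rw [hr2, hab, zero_add, S.pair_symm (hLp b hb') hr] at e
      rw [← e]
      have := S.heis_pair_nonneg R (hLp b hb')
      omega
    refine ⟨S.good.full.x r z,
      Subgroup.mem_sup_right (S.good.x_mem_US (S := {r | IsPos D r}) hr z), ?_⟩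
    have h1 := S.commute_xG hr (fun b hb => hLp b (List.mem_append_left _ hb))
      (fun b hb => hother b (List.mem_append_left _ hb)) z (L := L1)
    have h2 := S.commute_xG hr (fun b hb => hLp b (by simp [hb]))
      (fun b hb => hother b (List.mem_append_right _ hb)) z (L := L2)
    have hr1' : T.pairT r a = -1 := (S.pair_symm hr haQ.1).trans hr1
    have hc := S.conj_up hr haQ.1 hr1' z (1 : F)
    rw [(S.up_comm hr haQ.1 hr1').trans hr2, mul_one] at hc
    have hL2 := S.xG_pos (F := F) R (L := L2) (fun b hb => hLp b (by simp [hb]))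
    rw [S.xG_append, S.xG_cons]
    calc S.good.full.x r z * (S.xG F L1 * (S.good.full.x a 1 * S.xG F L2) * S.good.full.x th z) *
          (S.good.full.x r z)⁻¹
        = (S.good.full.x r z * S.xG F L1) * (S.good.full.x a 1 * S.xG F L2) *
            (S.good.full.x th z * (S.good.full.x r z)⁻¹) := by group
      _ = S.xG F L1 * (S.good.full.x r z * S.good.full.x a 1) *
            (S.xG F L2 * (S.good.full.x r z)⁻¹) * S.good.full.x th z := by
          rw [h1.eq, ← (S.th_commute R hr z z).inv_left.eq]; group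
      _ = S.xG F L1 * (S.good.full.x r z * S.good.full.x a 1 * (S.good.full.x r z)⁻¹) *
            (S.xG F L2 * S.good.full.x th z) := by
          rw [← h2.inv_left.eq]; group
      _ = S.xG F L1 * S.good.full.x a 1 * (S.good.full.x th z *
            (S.xG F L2 * S.good.full.x th z)) := by rw [hc]; group
      _ = _ := by
          rw [(S.th_commute_pos R hL2 z).eq, ← mul_assoc (S.good.full.x th z), S.x_sq, one_mul,
            mul_assoc]
  · simp only [not_exists, not_and] at hq
    rcases eq_or_ne z 0 with hz | hz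
    · refine ⟨L, hLp, ho, 1, one_mem _, ?_⟩
      rw [hz, S.good.full.x_zero]; simp
    · obtain ⟨s, hs⟩ := FiniteField.isSquare_of_char_two (ringChar.eq F 2) z⁻¹
      have hs0 : s ≠ 0 := fun e => inv_ne_zero hz (by rw [hs, e, zero_mul])
      have hLth : ∀ a ∈ L, T.pairT a th = 0 := fun a ha => by
        rw [R.pair_th a (hLp a ha)]
        exact ((hL a ha).resolve_right (hq a ha)).2
      refine ⟨L ++ [th], fun a ha => ?_, List.pairwise_append.mpr ⟨ho, List.pairwise_singleton _ _,
        fun a ha b hb => by simp only [List.mem_singleton] at hb; exact hb ▸ hLth a ha⟩, ?_⟩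
      · rcases List.mem_append.mp ha with ha | ha
        · exact hLp a ha
        · simp only [List.mem_singleton] at ha; exact ha ▸ R.thpos
      refine ⟨S.good.full.hr th s, Subgroup.mem_sup_left (S.good.full.hr_mem R.thpos.1 hs0), ?_⟩
      have hcL : S.good.full.hr th s * S.xG F L * (S.good.full.hr th s)⁻¹ = S.xG F L := by
        have := S.conj_xG (g := S.good.full.hr th s) (f := id) L fun a ha => by
          rw [S.hr_conj_x R.thpos.1 (hLp a ha).1 hs0, S.pair_symm R.thpos (hLp a ha), hLth a ha,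
            zpow_zero, one_mul]
          rfl
        simpa using this
      rw [S.xG_append, S.xG_cons, S.xG_nil, mul_one,
        show S.good.full.hr th s * (S.xG F L * S.good.full.x th z) * (S.good.full.hr th s)⁻¹ =
          S.good.full.hr th s * S.xG F L * (S.good.full.hr th s)⁻¹ *
            (S.good.full.hr th s * S.good.full.x th z * (S.good.full.hr th s)⁻¹) by group, hcL,
        S.hr_conj_x R.thpos.1 R.thpos.1 hs0, S.pair_self R.thpos, zpow_two, ← hs,
        inv_mul_cancel₀ hz]

omit [CharP F 2] in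
theorem hrad_term {r s : ℕ} (hr : IsPos D r) (hs : IsPos D s) (hs0 : T.cor s k ≠ 0)
    (hne : r ≠ s) {c : ℕ × ℤ × ℕ × ℕ} (hc : c ∈ T.commT r s) :
    c.1 ∈ {r | IsPos D r ∧ T.cor r k ≠ 0} := by
  by_cases h : T.pairT r s = -1
  · obtain ⟨h1, -, h3, e, -, he⟩ := S.up_spec hr hs h
    rw [he, List.mem_singleton] at hc
    subst hc
    refine ⟨h1, ?_⟩
    have := S.cor_nonneg hr R.klt
    have := S.cor_nonneg hs R.klt
    rw [h3 k R.klt]
    omega
  · rw [(S.comm_nil hr hs hne h).1] at hc
    exact absurd hc List.not_mem_nil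

theorem hbp_normalizes {c : GL D.Idx F} (hc : c ∈ S.bp F (T.Sset [k])) {v : GL D.Idx F}
    (hv : v ∈ S.good.US F {r | IsPos D r ∧ T.cor r k ≠ 0}) :
    c * v * c⁻¹ ∈ S.good.US F {r | IsPos D r ∧ T.cor r k ≠ 0} := by
  have hgen : ∀ r ∈ T.Sset [k], ∀ (t : F) {v : GL D.Idx F},
      v ∈ S.good.US F {r | IsPos D r ∧ T.cor r k ≠ 0} →
      S.good.full.x r t * v * (S.good.full.x r t)⁻¹ ∈
        S.good.US F {r | IsPos D r ∧ T.cor r k ≠ 0} := by
    intro r hr t v hv
    refine S.good.conj_US _ (fun s hs u => ?_) hv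
    have h := S.good.conj_pos (F := F) (S := {r | IsPos D r ∧ T.cor r k ≠ 0}) hr.1 hs.1 t u
      fun hne c hc => S.hrad_term R hr.1 hs.1 hs.2 (Ne.symm hne) hc
    have h' := mul_mem (S.good.x_mem_US (S := {r | IsPos D r ∧ T.cor r k ≠ 0}) hs u) h
    rwa [mul_inv_cancel_left] at h'
  have hle : S.bp F (T.Sset [k]) ≤ Subgroup.normalizer
      (S.good.US F {r | IsPos D r ∧ T.cor r k ≠ 0} : Set (GL D.Idx F)) := by
    refine sup_le ?_ ((Subgroup.closure_le _).mpr ?_)
    · rintro g ⟨d, rfl⟩
      rw [Subgroup.mem_normalizer_iff]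
      refine fun u => ⟨fun hu => S.good.hT_conj_US _ (fun s hs => hs.1.1) d hu, fun hu => ?_⟩
      have := S.good.hT_conj_US _ (fun s hs => hs.1.1) d⁻¹ hu
      rw [map_inv, inv_inv] at this
      simpa [mul_assoc] using this
    · rintro g ⟨r, hr, t, rfl⟩
      rw [SetLike.mem_coe, Subgroup.mem_normalizer_iff]
      refine fun u => ⟨fun hu => hgen r hr t hu, fun hu => ?_⟩
      have := hgen r hr t hu
      rw [S.x_inv_two] at this
      simp only [mul_assoc, S.x_sq, mul_one] at this
      rwa [← mul_assoc, S.x_sq, one_mul] at this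
  exact (Subgroup.mem_normalizer_iff.mp (hle hc) v).mp hv

theorem hphi_surj {v : GL D.Idx F} (hv : v ∈ S.good.US F {r | IsPos D r ∧ T.cor r k ≠ 0}) :
    ∃ f : ℕ → F, SuppIn (T.heisQ k) f ∧ S.EqZ th v (S.phi (T.heisQ k) f) := by
  induction hv using Subgroup.closure_induction with
  | mem v hv =>
    obtain ⟨r, ⟨hr, hr'⟩, t, rfl⟩ := hv
    rcases R.cases r hr with h | h | h
    · exact absurd h hr'
    · refine ⟨Pi.single r t, fun u hu => Pi.single_eq_of_ne (fun e => hu ?_) _, ?_⟩
      · rw [e]; exact ⟨hr, h⟩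
      · rw [S.hphi_single R ⟨hr, h⟩]; exact EqZ.refl S _
    · refine ⟨0, fun _ _ => rfl, t, ?_⟩
      rw [S.hphi_zero R, one_mul, h]
  | one => exact ⟨0, fun _ _ => rfl, by rw [S.hphi_zero R]; exact EqZ.refl S _⟩
  | mul a b _ _ ha hb =>
    obtain ⟨f, hf, e⟩ := ha
    obtain ⟨g, hg, e'⟩ := hb
    exact ⟨f + g, fun u hu => by simp [hf u hu, hg u hu],
      EqZ.trans S (EqZ.mul S R e e' (S.hphi_pos R _)) (EqZ.symm S (S.hphi_add R f g))⟩
  | inv a _ ha =>
    obtain ⟨f, hf, z, hz⟩ := ha
    refine ⟨f, hf, ?_⟩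
    obtain ⟨w, hw⟩ := S.hphi_add R f f
    rw [show f + f = 0 from funext fun u => CharTwo.add_self_eq_zero (f u), S.hphi_zero R] at hw
    refine ⟨z + w, ?_⟩
    rw [inv_eq_iff_mul_eq_one, hz, ← S.good.full.x_add]
    calc S.phi (T.heisQ k) f * S.good.full.x th z *
          (S.phi (T.heisQ k) f * (S.good.full.x th z * S.good.full.x th w))
        = S.phi (T.heisQ k) f * (S.good.full.x th z * S.phi (T.heisQ k) f) *
            (S.good.full.x th z * S.good.full.x th w) := by group
      _ = S.phi (T.heisQ k) f * S.phi (T.heisQ k) f *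
            (S.good.full.x th z * S.good.full.x th z) * S.good.full.x th w := by
          rw [← (S.th_commute_pos R (S.hphi_pos R f) z).eq]; group
      _ = 1 := by rw [S.x_sq, mul_one, ← hw]

/-- Theorem A with a Heisenberg level on top of a chain of abelian radicals. -/
theorem exists_orth_heis [Finite F] {rest : List ℕ} (hl : T.chkLvls [k] rest = true)
    {u : GL D.Idx F} (hu : u ∈ S.good.US F {r | IsPos D r}) (h2 : u * u = 1) :
    ∃ L : List ℕ, (∀ x ∈ L, IsPos D x) ∧ T.OrthL L ∧
      ConjIn (S.bp F {r | IsPos D r}) u (S.xG F L) := by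
  have hlc : T.Closed (T.Sset [k]) := by
    refine ⟨fun r hr => hr.1, fun r hr s hs c hc => ?_⟩
    obtain ⟨hc1, -, -⟩ := S.good.comm_keys hr.1 hs.1 hc
    refine ⟨hc1, fun i hi => ?_⟩
    simp only [List.mem_singleton] at hi
    subst hi
    by_cases h : T.pairT r s = -1
    · obtain ⟨-, -, h3, e, -, he⟩ := S.up_spec hr.1 hs.1 h
      rw [he, List.mem_singleton] at hc
      rw [hc, h3 i R.klt, hr.2 i (by simp), hs.2 i (by simp), add_zero]
    · exfalso
      by_cases hne : r = s
      · have h0 : T.ent r r = [] := by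
          by_contra hne'
          have hroot := S.good.full.cert.root r hr.1.1
          simp only [chkRoot, Bool.and_eq_true, allBelow_iff] at hroot
          have hp := hroot.1.1.1.1.1.1 r hr.1.1
          unfold chkPair at hp
          split at hp
          next h0 => exact hne' h0
          next h0 => simp at hp
        rw [← hne] at hc
        simp [commT, rootT, h0] at hc
      · rw [(S.comm_nil hr.1 hs.1 hne h).1] at hc
        exact absurd hc List.not_mem_nil
  have hun : {r | IsPos D r} = T.Sset [k] ∪ {r | IsPos D r ∧ T.cor r k ≠ 0} := by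
    ext r
    simp only [Set.mem_setOf_eq, Set.mem_union, Sset, List.mem_singleton, forall_eq]
    tauto
  obtain ⟨a, ha, v, hv, rfl⟩ :=
    S.good.US_split hlc (S.heis_closed R) S.good.closed_pos hun hu
  have hnormA : a⁻¹ * v * a⁻¹⁻¹ ∈ S.good.US F {r | IsPos D r ∧ T.cor r k ≠ 0} :=
    S.hbp_normalizes R (Subgroup.mem_sup_right (inv_mem ha)) hv
  have haa : a * a = 1 := by
    refine S.inter_trivial hlc (S.heis_closed R) S.good.closed_pos (fun r hr => hr.1)
      (fun r hr => hr.1) (fun r hr hr' => hr'.2 (hr.2 k (List.mem_singleton_self k)))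
      (mul_mem ha ha) ?_
    have e : a * a = (a⁻¹ * v * a⁻¹⁻¹ * v)⁻¹ := by
      rw [eq_inv_iff_mul_eq_one, ← h2]
      group
    rw [e]
    exact inv_mem (mul_mem hnormA hv)
  obtain ⟨L, hL, ho, c, hc, hca⟩ := S.exists_orth rest [k] hl a ha haa
  have hL' : ∀ x ∈ L, x ∈ T.heisL k := fun x hx =>
    ⟨(hL x hx).1, (hL x hx).2 k (List.mem_singleton_self k)⟩
  obtain ⟨f, hf, hfe⟩ := S.hphi_surj R (S.hbp_normalizes R hc hv)
  have hbp : S.bp F (T.Sset [k]) ≤ S.bp F {r | IsPos D r} :=
    sup_le_sup le_rfl (S.good.US_mono fun r hr => hr.1)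
  have hstart : S.ConjZ th (a * v) (S.xG F L * S.phi (T.heisQ k) f) := by
    refine ⟨c, hbp hc, ?_⟩
    rw [show c * (a * v) * c⁻¹ = c * a * c⁻¹ * (c * v * c⁻¹) by group, hca]
    exact EqZ.mul S R (EqZ.refl S _) hfe (S.hphi_pos R _)
  have hxpos := S.xG_pos (F := F) R (fun a ha => (hL' a ha).1)
  have hW := ConjZ.sq S R hstart (mul_mem hxpos (S.hphi_pos R _)) h2
  have hfix : T.conjM (T.heisQ k) L f = f := by
    refine S.hphi_inj R (S.hconjM_supp L hf) hf (EqZ.trans S (EqZ.symm S (S.hconjM_eq R hL' hf)) ?_)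
    rw [inv_eq_iff_mul_eq_one.mpr (S.xG_sq (F := F) (fun x hx => (hL' x hx).1) ho)]
    obtain ⟨w, hw⟩ := S.hphi_add R f f
    rw [show f + f = 0 from funext fun u => CharTwo.add_self_eq_zero (f u), S.hphi_zero R] at hw
    refine ⟨w, ?_⟩
    calc S.xG F L * S.phi (T.heisQ k) f * S.xG F L
        = (S.xG F L * S.phi (T.heisQ k) f * (S.xG F L * S.phi (T.heisQ k) f)) *
            (S.phi (T.heisQ k) f)⁻¹ := by group
      _ = _ := by
          rw [hW, one_mul, inv_eq_iff_mul_eq_one, ← mul_assoc, ← hw]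
  obtain ⟨f', hf', hperp, hconj1⟩ := S.hstep_one R L [] (by simpa using hL') (by simpa using ho) f hf
    (fun _ _ a ha => absurd ha List.not_mem_nil) (by simpa using hfix)
  simp only [List.nil_append] at hperp hconj1
  have hW' := ConjZ.sq S R hconj1 (mul_mem hxpos (S.hphi_pos R _)) hW
  obtain ⟨L', hLL, ho', hconj2⟩ := S.hstep_two R D.nroots L (fun x hx => Or.inl (hL' x hx)) ho f'
    hf' hperp (fun t ht => absurd ht (by omega)) hW'
  obtain ⟨d, hd, z, hz⟩ := ConjZ.trans S R hstart (ConjZ.trans S R hconj1 hconj2)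
  obtain ⟨L'', h1, h3, h4⟩ := S.hfinish R hLL ho' z
  exact ⟨L'', h1, h3, ConjIn.trans ⟨d, hd, hz⟩ h4⟩

end SL

end Tab

end CfsgLib.Chev

namespace CfsgLib.Chev.Tab.SL

open Cfsg.Lie Matrix
open scoped MatrixGroups

variable {D : ChevalleyDatum} {T : Tab D} (S : T.SL) {F : Type*} [Field F] [CharP F 2]
include S

/-- Every involution is conjugate to a representative, with a Heisenberg level on top. -/
theorem invol_conj_rep_heis [Fintype F] {k th : ℕ} (hh : T.chkHeis k th = true) {rest : List ℕ}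
    (hl : T.chkLvls [k] rest = true)
    {nodes : List (List ℕ × List (ℕ × List ℕ))} (ht : T.chkTree nodes = true)
    {reps : List (List ℕ)} (hp : ∀ L ∈ nodes.map Prod.fst, L = [] ∨
      ∃ ms, T.chkPath reps L ms = true)
    {g : GL D.Idx F} (hg : g ∈ D.group F) (h2 : orderOf g = 2) :
    ∃ K ∈ reps, ConjIn (D.group F) g (S.xG F K) := by
  obtain ⟨u, hu, hgu⟩ := S.exists_conj_pos hg h2
  obtain ⟨hu1, hu2⟩ := S.conj_ne_one hgu h2
  rw [S.good.posUnipotent_eq] at hu
  obtain ⟨L, hL, ho, hc⟩ := S.exists_orth_heis (heis_of_chk T hh) hl hu hu2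
  have hnil : [] ∈ nodes.map Prod.fst := by
    simp only [chkTree, Bool.and_eq_true, List.contains_iff_mem] at ht
    exact ht.1
  obtain ⟨K, hK, hcK⟩ := S.reduce_tree (F := F) ht L [] hnil
    (by simpa using fun r hr => (hL r hr).1) (by simpa using ho)
  rw [List.nil_append] at hcK
  have hgK := hgu.trans ((hc.mono (S.bp_le_group _)).trans hcK)
  rcases hp K hK with rfl | ⟨ms, hms⟩
  · rw [S.xG_nil] at hgK
    exact absurd rfl (S.conj_ne_one hgK h2).1
  · obtain ⟨K', hK', hc'⟩ := S.conj_path (F := F) ms K hms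
    exact ⟨K', hK', hgK.trans hc'⟩

end CfsgLib.Chev.Tab.SL
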