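import Cfsg.Agent.Chev.InvolTwoRad
import Mathlib.LinearAlgebra.Matrix.Rank

/-!
Products of root elements `x_r(1)` in characteristic two computed as bit masks, and ranks of
`y - 1` certified by factorisations.
-/

set_option autoImplicit false
set_option linter.style.haveILetI false

namespace CfsgLib.Chev

open Cfsg.Lie Matrix
open scoped MatrixGroups

/-- Parity of the number of true values below `n`. -/
def bsum (f : ℕ → Bool) : ℕ → Bool
  | 0 => false
  | n + 1 => Bool.xor (bsum f n) (f n)

/-- Exclusive or of the values below `n`. -/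
def xorSum (f : ℕ → ℕ) : ℕ → ℕ
  | 0 => 0
  | n + 1 => Nat.xor (xorSum f n) (f n)

/-- The mask of a sparse vector modulo two. -/
def vecMask (v : Vec) : ℕ :=
  v.foldr (fun p m => cond (decide (p.2 % 2 = 0)) m (Nat.xor m (2 ^ p.1))) 0

/-- A Boolean as a scalar. -/
def bitF (F : Type*) [Field F] (b : Bool) : F := if b then 1 else 0

theorem testBit_xorSum (f : ℕ → ℕ) (i : ℕ) : ∀ n,
    (xorSum f n).testBit i = bsum (fun j => (f j).testBit i) n
  | 0 => by simp [xorSum, bsum]
  | n + 1 => by
    simp only [xorSum, bsum, ← testBit_xorSum f i n]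
    exact Nat.testBit_xor _ _ _

theorem bsum_congr {f g : ℕ → Bool} : ∀ n, (∀ j < n, f j = g j) → bsum f n = bsum g n
  | 0, _ => rfl
  | n + 1, h => by
    simp only [bsum, bsum_congr n fun j hj => h j (by omega), h n (by omega)]

section

variable {F : Type*} [Field F] [CharP F 2]

theorem bitF_xor (a b : Bool) : bitF F (Bool.xor a b) = bitF F a + bitF F b := by
  cases a <;> cases b <;> simp [bitF, CharTwo.add_self_eq_zero]

omit [CharP F 2] in
theorem bitF_and (a b : Bool) : bitF F (a && b) = bitF F a * bitF F b := by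
  cases a <;> cases b <;> simp [bitF]

omit [CharP F 2] in
theorem bitF_inj {a b : Bool} (h : bitF F a = bitF F b) : a = b := by
  cases a <;> cases b <;> simp_all [bitF]

theorem bitF_bsum (f : ℕ → Bool) : ∀ n,
    bitF F (bsum f n) = ∑ j ∈ Finset.range n, bitF F (f j)
  | 0 => by simp [bsum, bitF]
  | n + 1 => by rw [bsum, bitF_xor, bitF_bsum f n, Finset.sum_range_succ]

theorem bitF_vecMask (v : Vec) (i : ℕ) :
    bitF F ((vecMask v).testBit i) = (coeff v i : F) := by
  induction v with
  | nil => simp [vecMask, bitF, coeff_nil]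
  | cons p v ih =>
    have e : vecMask (p :: v) =
        cond (decide (p.2 % 2 = 0)) (vecMask v) (Nat.xor (vecMask v) (2 ^ p.1)) := rfl
    rw [e, coeff_cons, Int.cast_add, ← ih]
    by_cases h : p.2 % 2 = 0
    · simp only [h, decide_true, cond_true]
      obtain ⟨k, hk⟩ := Int.dvd_of_emod_eq_zero h
      split_ifs
      · rw [hk, Int.cast_mul, show ((2 : ℤ) : F) = 0 by
          exact_mod_cast CharP.cast_eq_zero F 2, zero_mul, zero_add]
      · rw [Int.cast_zero, zero_add]
    · simp only [h, decide_false, cond_false]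
      rw [show (Nat.xor (vecMask v) (2 ^ p.1)).testBit i =
          Bool.xor ((vecMask v).testBit i) ((2 ^ p.1).testBit i) from Nat.testBit_xor _ _ _,
        bitF_xor, Nat.testBit_two_pow, add_comm]
      congr 1
      split_ifs with hi
      · obtain ⟨k, hk⟩ : ∃ k, p.2 = 2 * k + 1 := ⟨p.2 / 2, by omega⟩
        rw [hk, Int.cast_add, Int.cast_mul, show ((2 : ℤ) : F) = 0 by
          exact_mod_cast CharP.cast_eq_zero F 2, zero_mul, zero_add, Int.cast_one]
        simp [bitF, hi]
      · simp [bitF, hi]

end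

theorem sum_code {D : ChevalleyDatum} {M : Type*} [AddCommMonoid M] (g : ℕ → M) :
    ∑ y : D.Idx, g (code y) = ∑ b ∈ Finset.range (Tab.dim D), g b := by
  refine Finset.sum_bij (fun y _ => code y) (fun y _ => Finset.mem_range.mpr (code_lt y))
    (fun a _ b _ h => code_injective h) (fun b hb => ?_) (fun _ _ => rfl)
  obtain ⟨y, hy⟩ := exists_code (D := D) (Finset.mem_range.mp hb)
  exact ⟨y, Finset.mem_univ _, hy⟩

namespace Tab

variable {D : ChevalleyDatum}

/-- The column `b` of `x_r(1)` modulo two. -/
def xMask (T : Tab D) (r b : ℕ) : ℕ :=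
  vecMask (T.colP 0 r b ++ (T.colP 1 r b ++ (T.colP 2 r b ++ T.colP 3 r b)))

/-- The exclusive or of `f` over the set bits of a number below `2 ^ 2 ^ l`, by bisection. -/
def appBin (f : ℕ → ℕ) : ℕ → ℕ → ℕ → ℕ
  | 0, base, v => cond (Nat.beq v 0) 0 (f base)
  | l + 1, base, v => cond (Nat.beq v 0) 0
      (Nat.xor (appBin f l base (v % 2 ^ 2 ^ l)) (appBin f l (base + 2 ^ l) (v / 2 ^ 2 ^ l)))

/-- `x_r(1)` applied to a mask. -/
def appMask (T : Tab D) (r v : ℕ) : ℕ :=
  cond (Nat.ble (dim D) 256) (appBin (T.xMask r) 8 0 (v % 2 ^ dim D))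
    (xorSum (fun b => cond (v.testBit b) (T.xMask r b) 0) (dim D))

/-- The column `b` of a product of the `x_r(1)`. -/
def wMask (T : Tab D) (L : List ℕ) (b : ℕ) : ℕ := L.foldr (fun r v => T.appMask r v) (2 ^ b)

/-- Two products agree on every basis vector. -/
def chkSame (T : Tab D) (A B : List ℕ) : Bool :=
  A.all (fun r => Nat.blt r D.nroots) && B.all (fun r => Nat.blt r D.nroots) &&
    allBelow (fun b => Nat.beq (T.wMask A b) (T.wMask B b)) (dim D)

/-- The column `b` of `y - 1`. -/
def mCol (T : Tab D) (L : List ℕ) (b : ℕ) : ℕ := Nat.xor (T.wMask L b) (2 ^ b)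

/-- The exclusive or of the entries selected by a mask. -/
def xorSel : List ℕ → ℕ → ℕ
  | [], _ => 0
  | c :: cs, m => cond (Nat.beq (m % 2) 1) (Nat.xor c (xorSel cs (m / 2))) (xorSel cs (m / 2))

/-- The rank of `y - 1` is the length of `piv`: the pivot columns `cols`, whose rows are `arow`,
generate and have a left inverse `rows`. -/
def chkRank (T : Tab D) (L piv cols comb arow rows : List ℕ) : Bool :=
  L.all (fun r => Nat.blt r D.nroots) && piv.all (fun c => Nat.blt c (dim D)) &&
  Nat.beq cols.length piv.length && Nat.beq arow.length (dim D) &&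
  allBelow (fun j => Nat.beq (cols.getD j 0) (T.mCol L (piv.getD j 0))) piv.length &&
  allBelow (fun b => Nat.beq (T.mCol L b) (xorSel cols (comb.getD b 0))) (dim D) &&
  allBelow (fun x => allBelow (fun j =>
    (arow.getD x 0).testBit j == (cols.getD j 0).testBit x) piv.length) (dim D) &&
  allBelow (fun i => allBelow (fun j =>
    (xorSel arow (rows.getD i 0)).testBit j == Nat.beq i j) piv.length) piv.length

theorem bitF_appBin {F : Type*} [Field F] [CharP F 2] (f : ℕ → ℕ) (i : ℕ) :
    ∀ l base v, v < 2 ^ 2 ^ l → bitF F ((appBin f l base v).testBit i) =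
      ∑ b ∈ Finset.range (2 ^ l), bitF F (v.testBit b) * bitF F ((f (base + b)).testBit i) := by
  intro l
  induction l with
  | zero =>
    intro base v hv
    simp only [pow_zero, pow_one] at hv
    interval_cases v <;> simp [appBin, bitF, show Nat.beq 1 0 = false from rfl]
  | succ l ih =>
    intro base v hv
    by_cases h0 : v = 0
    · subst h0; simp [appBin, bitF]
    simp only [appBin, Tab.beq_false h0, cond_false]
    rw [show (Nat.xor (appBin f l base (v % 2 ^ 2 ^ l))
        (appBin f l (base + 2 ^ l) (v / 2 ^ 2 ^ l))).testBit i =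
      Bool.xor ((appBin f l base (v % 2 ^ 2 ^ l)).testBit i)
        ((appBin f l (base + 2 ^ l) (v / 2 ^ 2 ^ l)).testBit i) from Nat.testBit_xor _ _ _, bitF_xor,
      ih base _ (Nat.mod_lt _ (by positivity)),
      ih _ _ (by
        rw [Nat.div_lt_iff_lt_mul (by positivity), ← pow_add]
        calc v < 2 ^ 2 ^ (l + 1) := hv
          _ = 2 ^ (2 ^ l + 2 ^ l) := by rw [pow_succ, mul_two]),
      show 2 ^ (l + 1) = 2 ^ l + 2 ^ l by rw [pow_succ, mul_two], Finset.sum_range_add]
    congr 1
    · refine Finset.sum_congr rfl fun b hb => ?_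
      rw [Nat.testBit_mod_two_pow, decide_eq_true (Finset.mem_range.mp hb), Bool.true_and]
    · refine Finset.sum_congr rfl fun b _ => ?_
      rw [Nat.testBit_div_two_pow, add_comm b, add_assoc]

theorem bitF_appMask {F : Type*} [Field F] [CharP F 2] (T : Tab D) (r v i : ℕ) :
    bitF F ((T.appMask r v).testBit i) = ∑ b ∈ Finset.range (dim D),
      bitF F ((cond (v.testBit b) (T.xMask r b) 0).testBit i) := by
  unfold appMask
  by_cases hd : dim D ≤ 256
  · rw [ble_true hd, cond_true, bitF_appBin _ _ _ _ _ (lt_of_lt_of_le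
      (Nat.mod_lt _ (by positivity)) (Nat.pow_le_pow_right (by omega) hd))]
    rw [← Finset.sum_subset (Finset.range_subset_range.mpr (show dim D ≤ 2 ^ 8 from hd))]
    · refine Finset.sum_congr rfl fun b hb => ?_
      rw [Nat.testBit_mod_two_pow, decide_eq_true (Finset.mem_range.mp hb), Bool.true_and,
        zero_add]
      cases v.testBit b <;> simp [bitF]
    · intro b _ hb
      rw [Nat.testBit_mod_two_pow, decide_eq_false (by simpa using hb), Bool.false_and]
      simp [bitF]
  · rw [show Nat.ble (dim D) 256 = false by simpa [← Bool.not_eq_true] using hd, cond_false,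
      testBit_xorSum, bitF_bsum]

namespace SL

variable {T : Tab D} (S : T.SL) {F : Type*} [Field F] [CharP F 2]
include S

theorem bitF_xMask {r : ℕ} (hr : r < D.nroots) (x y : D.Idx) :
    bitF F ((T.xMask r (code y)).testBit (code x)) = T.X F r 1 x y := by
  rw [xMask, bitF_vecMask, coeff_append, coeff_append, coeff_append]
  simp only [X, Finset.sum_range_succ, Finset.sum_range_zero, zero_add, Matrix.add_apply,
    Matrix.smul_apply, Matrix.map_apply, one_pow, one_smul, Int.cast_add]
  rw [T.colP_eq 0 r (by omega) x y, T.colP_eq 1 r (by omega) x y, T.colP_eq 2 r (by omega) x y,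
    T.colP_eq 3 r (by omega) x y]
  ring

theorem bitF_wMask {L : List ℕ} (hL : ∀ r ∈ L, r < D.nroots) (x y : D.Idx) :
    bitF F ((T.wMask L (code y)).testBit (code x)) =
      ((S.xG F L : GL D.Idx F) : Matrix D.Idx D.Idx F) x y := by
  induction L generalizing x with
  | nil =>
    simp only [wMask, List.foldr_nil, S.xG_nil, Units.val_one, Matrix.one_apply,
      Nat.testBit_two_pow, bitF, decide_eq_true_eq]
    exact if_congr ⟨fun e => (code_injective e).symm, fun e => e ▸ rfl⟩ rfl rfl
  | cons r L ih =>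
    obtain ⟨hr, hL'⟩ := List.forall_mem_cons.mp hL
    have e : T.wMask (r :: L) (code y) = T.appMask r (T.wMask L (code y)) := rfl
    rw [e, bitF_appMask, S.xG_cons, Units.val_mul, Matrix.mul_apply,
      S.good.full.coe_x hr,
      ← sum_code (D := D) (fun j => bitF F
        ((cond ((T.wMask L (code y)).testBit j) (T.xMask r j) 0).testBit (code x)))]
    refine Finset.sum_congr rfl fun z _ => ?_
    rw [← S.bitF_xMask hr x z, ← ih hL' z, ← bitF_and]
    congr 1
    cases (T.wMask L (code y)).testBit (code z) <;> simp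

theorem xG_eq_of_chkSame {A B : List ℕ} (h : T.chkSame A B = true) : S.xG F A = S.xG F B := by
  simp only [chkSame, Bool.and_eq_true, List.all_eq_true, Nat.blt_eq, allBelow_iff,
    Nat.beq_eq] at h
  refine Units.ext (Matrix.ext fun x y => ?_)
  rw [← S.bitF_wMask h.1.1 x y, ← S.bitF_wMask h.1.2 x y, h.2 _ (code_lt y)]

theorem bitF_mCol {L : List ℕ} (hL : ∀ r ∈ L, r < D.nroots) (x y : D.Idx) :
    bitF F ((T.mCol L (code y)).testBit (code x)) =
      (((S.xG F L : GL D.Idx F) : Matrix D.Idx D.Idx F) - 1) x y := by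
  rw [mCol, show (Nat.xor (T.wMask L (code y)) (2 ^ code y)).testBit (code x) =
    Bool.xor ((T.wMask L (code y)).testBit (code x)) ((2 ^ code y).testBit (code x)) from
      Nat.testBit_xor _ _ _, bitF_xor, S.bitF_wMask hL, Matrix.sub_apply, CharTwo.sub_eq_add]
  congr 1
  simp only [Nat.testBit_two_pow, bitF, decide_eq_true_eq, Matrix.one_apply]
  exact if_congr ⟨fun e => (code_injective e).symm, fun e => e ▸ rfl⟩ rfl rfl

theorem bitF_xorSel (i : ℕ) : ∀ (cs : List ℕ) (m : ℕ),
    bitF F ((xorSel cs m).testBit i) =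
      ∑ j : Fin cs.length, bitF F (m.testBit j) * bitF F ((cs.getD j 0).testBit i) := by
  intro cs
  induction cs with
  | nil => intro m; simp [xorSel, bitF]
  | cons c cs ih =>
    intro m
    simp only [List.length_cons]
    rw [Fin.sum_univ_succ]
    simp only [Fin.val_zero, Fin.val_succ, List.getD_cons_zero, List.getD_cons_succ,
      Nat.testBit_succ, Nat.testBit_zero]
    rw [← ih (m / 2)]
    by_cases h : m % 2 = 1
    · simp only [xorSel, Tab.beq_true h, cond_true]
      rw [show (Nat.xor c (xorSel cs (m / 2))).testBit i =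
        Bool.xor (c.testBit i) ((xorSel cs (m / 2)).testBit i) from Nat.testBit_xor _ _ _,
        bitF_xor]
      simp [bitF, h]
    · simp only [xorSel, Tab.beq_false h, cond_false]
      simp [bitF, h]

theorem rank_eq {L piv cols comb arow rows : List ℕ}
    (h : T.chkRank L piv cols comb arow rows = true) :
    (((S.xG F L : GL D.Idx F) : Matrix D.Idx D.Idx F) - 1).rank = piv.length := by
  simp only [chkRank, Bool.and_eq_true, List.all_eq_true, Nat.blt_eq, allBelow_iff, Nat.beq_eq,
    beq_iff_eq] at h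
  obtain ⟨⟨⟨⟨⟨⟨⟨hL, hp⟩, hlc⟩, hla⟩, hcols⟩, hup⟩, harow⟩, hlow⟩ := h
  set M := ((S.xG F L : GL D.Idx F) : Matrix D.Idx D.Idx F) - 1 with hM
  let A : Matrix D.Idx (Fin piv.length) F :=
    Matrix.of fun x j => bitF F ((cols.getD j 0).testBit (code x))
  let B : Matrix (Fin piv.length) D.Idx F :=
    Matrix.of fun j y => bitF F ((comb.getD (code y) 0).testBit j)
  let C : Matrix (Fin piv.length) D.Idx F :=
    Matrix.of fun i x => bitF F ((rows.getD i 0).testBit (code x))
  let P : Matrix D.Idx (Fin piv.length) F :=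
    Matrix.of fun y j => if code y = piv.getD j 0 then 1 else 0
  have hAB : M = A * B := by
    ext x y
    rw [hM, ← S.bitF_mCol hL, hup _ (code_lt y), S.bitF_xorSel, Matrix.mul_apply,
      Fin.sum_univ_eq_sum_range (fun j => bitF F ((comb.getD (code y) 0).testBit j) *
        bitF F ((cols.getD j 0).testBit (code x))), hlc,
      ← Fin.sum_univ_eq_sum_range (fun j => bitF F ((comb.getD (code y) 0).testBit j) *
        bitF F ((cols.getD j 0).testBit (code x)))]
    refine Finset.sum_congr rfl fun j _ => ?_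
    simp only [A, B, Matrix.of_apply, mul_comm]
  have hAP : A = M * P := by
    ext x j
    have hlt : piv.getD j 0 < dim D := by
      rw [List.getD_eq_getElem _ _ j.isLt]; exact hp _ (List.getElem_mem _)
    obtain ⟨y0, hy0⟩ := exists_code (D := D) hlt
    rw [Matrix.mul_apply, Finset.sum_eq_single y0]
    · simp only [A, P, Matrix.of_apply, hy0, if_true, mul_one, hM, ← S.bitF_mCol hL,
        hcols j j.isLt]
    · intro y _ hy
      simp only [P, Matrix.of_apply]
      rw [if_neg (fun e => hy (code_injective (e.trans hy0.symm))), mul_zero]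
    · intro hc; exact absurd (Finset.mem_univ _) hc
  have hCA : C * A = 1 := by
    ext i j
    rw [Matrix.mul_apply]
    simp only [A, C, Matrix.of_apply]
    rw [sum_code (D := D) (fun b => bitF F ((rows.getD i 0).testBit b) *
      bitF F ((cols.getD j 0).testBit b))]
    have e := S.bitF_xorSel (F := F) (j : ℕ) arow (rows.getD i 0)
    rw [hlow i i.isLt j j.isLt, Fin.sum_univ_eq_sum_range (fun b =>
      bitF F ((rows.getD i 0).testBit b) * bitF F ((arow.getD b 0).testBit j)), hla] at e
    rw [Finset.sum_congr rfl fun b hb => by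
      rw [← harow b (Finset.mem_range.mp hb) j j.isLt], ← e, Matrix.one_apply]
    simp [bitF, Fin.ext_iff, Nat.beq_eq]
  refine le_antisymm ?_ ?_
  · rw [hAB]
    exact ((Matrix.rank_mul_le_left A B).trans (Matrix.rank_le_card_width A)).trans
      (Fintype.card_fin _).le
  · have h1 : (1 : Matrix (Fin piv.length) (Fin piv.length) F).rank = piv.length := by
      rw [Matrix.rank_one, Fintype.card_fin]
    calc piv.length = (C * A).rank := by rw [hCA, h1]
      _ ≤ A.rank := Matrix.rank_mul_le_right _ _
      _ ≤ M.rank := by rw [hAP]; exact Matrix.rank_mul_le_left _ _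

omit S [CharP F 2] in
theorem rank_sub_one_conj {c g h : GL D.Idx F} (e : c * g * c⁻¹ = h) :
    ((h : Matrix D.Idx D.Idx F) - 1).rank = ((g : Matrix D.Idx D.Idx F) - 1).rank := by
  have e1 : (h : Matrix D.Idx D.Idx F) - 1 = (c : Matrix D.Idx D.Idx F) *
      ((g : Matrix D.Idx D.Idx F) - 1) * ((c⁻¹ : GL D.Idx F) : Matrix D.Idx D.Idx F) := by
    rw [← e, Units.val_mul, Units.val_mul, Matrix.mul_sub, Matrix.sub_mul, mul_one, Units.mul_inv]
  rw [e1, Matrix.rank_mul_eq_left_of_isUnit_det, Matrix.rank_mul_eq_right_of_isUnit_det]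
  · exact (Matrix.isUnit_iff_isUnit_det _).mp c.isUnit
  · exact (Matrix.isUnit_iff_isUnit_det _).mp c⁻¹.isUnit

end SL

end Tab

end CfsgLib.Chev
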