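import Cfsg.Agent.Chev.InvolTwoBase

/-!
Involutions of `U` in characteristic two for simply laced systems with a chain of abelian
radicals: each is conjugate in `B` to a product `∏ x_γ(1)` over pairwise orthogonal positive roots.
-/

set_option autoImplicit false
set_option linter.style.haveILetI false

namespace CfsgLib.Chev

open Cfsg.Lie Matrix
open scoped MatrixGroups Classical

namespace Tab

variable {D : ChevalleyDatum}

/-- A set of positive roots and a node with coefficient at most one on it. -/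
structure RadSet (T : Tab D) (P : Set ℕ) (k : ℕ) : Prop where
  pos : ∀ r ∈ P, IsPos D r
  klt : k < D.rank
  le_one : ∀ r ∈ P, T.cor r k ≤ 1
  up : ∀ r ∈ P, ∀ s ∈ P, T.pairT r s = -1 → T.upR r s ∈ P
  dn : ∀ r ∈ P, ∀ t ∈ P, r < t → T.pairT r t = 1 → T.dnR r t ∈ P

/-- The roots of the radical. -/
def radQ (T : Tab D) (P : Set ℕ) (k : ℕ) : Set ℕ := {r | r ∈ P ∧ T.cor r k = 1}

/-- The roots of the Levi part. -/
def radL (T : Tab D) (P : Set ℕ) (k : ℕ) : Set ℕ := {r | r ∈ P ∧ T.cor r k = 0}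

/-- Functions supported on a set. -/
def SuppIn {F : Type*} [Zero F] (Q : Set ℕ) (f : ℕ → F) : Prop := ∀ t, t ∉ Q → f t = 0

/-- The effect of `x_r(t)` on coordinates of an abelian radical. -/
noncomputable def conjA (T : Tab D) (Q : Set ℕ) {F : Type*} [Field F] (r : ℕ) (t : F)
    (f : ℕ → F) : ℕ → F :=
  fun b => f b + if b ∈ Q ∧ T.pairT r b = 1 then t * f (T.dnR r b) else 0

/-- The effect of the product over a list of roots. -/
noncomputable def conjM (T : Tab D) (Q : Set ℕ) {F : Type*} [Field F] (L : List ℕ)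
    (f : ℕ → F) : ℕ → F :=
  L.foldr (fun r f => T.conjA Q r 1 f) f

/-- Pairwise orthogonal lists. -/
def OrthL (T : Tab D) (L : List ℕ) : Prop := L.Pairwise fun a b => T.pairT a b = 0

/-- The product of the `x_γ(1)`. -/
def SL.xG {T : Tab D} (S : T.SL) (F : Type*) [Field F] (L : List ℕ) : GL D.Idx F :=
  (L.map fun r => S.good.full.x r (1 : F)).prod

/-- The element of an abelian radical with given coordinates. -/
noncomputable def SL.phi {T : Tab D} (S : T.SL) (Q : Set ℕ) {F : Type*} [Field F] (f : ℕ → F) :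
    GL D.Idx F :=
  S.good.segProd Q f 0 D.nroots

/-- The torus together with the root subgroups of a set. -/
def SL.bp {T : Tab D} (S : T.SL) (F : Type*) [Field F] (P : Set ℕ) : Subgroup (GL D.Idx F) :=
  (T.hT F).range ⊔ S.good.US F P

/-- Conjugacy by an element of a subgroup. -/
def ConjIn {G : Type*} [Group G] (H : Subgroup G) (g h : G) : Prop := ∃ c ∈ H, c * g * c⁻¹ = h

theorem ConjIn.refl {G : Type*} [Group G] (H : Subgroup G) (g : G) : ConjIn H g g :=
  ⟨1, one_mem _, by simp⟩

theorem ConjIn.trans {G : Type*} [Group G] {H : Subgroup G} {g h k : G} (h1 : ConjIn H g h)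
    (h2 : ConjIn H h k) : ConjIn H g k := by
  obtain ⟨x, hx, rfl⟩ := h1
  obtain ⟨y, hy, rfl⟩ := h2
  exact ⟨y * x, mul_mem hy hx, by group⟩

theorem ConjIn.mono {G : Type*} [Group G] {H K : Subgroup G} (hle : H ≤ K) {g h : G}
    (h1 : ConjIn H g h) : ConjIn K g h := by
  obtain ⟨x, hx, e⟩ := h1
  exact ⟨x, hle hx, e⟩

namespace SL

variable {T : Tab D} (S : T.SL) {F : Type*} [Field F]
include S

theorem xG_nil : S.xG F [] = 1 := rfl

theorem xG_cons (r : ℕ) (L : List ℕ) : S.xG F (r :: L) = S.good.full.x r 1 * S.xG F L := by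
  simp [xG]

theorem xG_append (L L' : List ℕ) : S.xG F (L ++ L') = S.xG F L * S.xG F L' := by
  simp [xG]

theorem xG_mem_group (L : List ℕ) : S.xG F L ∈ D.group F :=
  Subgroup.list_prod_mem _ fun g hg => by
    obtain ⟨r, -, rfl⟩ := List.mem_map.mp hg
    exact S.good.x_mem_group r 1

variable [CharP F 2]

theorem x_sq (r : ℕ) (t : F) : S.good.full.x r t * S.good.full.x r t = 1 := by
  rw [S.good.full.x_add, CharTwo.add_self_eq_zero, S.good.full.x_zero]

theorem x_inv_two (r : ℕ) (t : F) : (S.good.full.x r t)⁻¹ = S.good.full.x r t := by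
  rw [inv_eq_iff_mul_eq_one, S.x_sq]

theorem commute_xG {r : ℕ} (hr : IsPos D r) {L : List ℕ} (hL : ∀ a ∈ L, IsPos D a)
    (h : ∀ a ∈ L, T.pairT r a ≠ -1) (t : F) : Commute (S.good.full.x r t) (S.xG F L) := by
  refine Commute.list_prod_right _ _ fun g hg => ?_
  obtain ⟨a, ha, rfl⟩ := List.mem_map.mp hg
  exact S.commute hr (hL a ha) (h a ha) t 1

theorem xG_sq {L : List ℕ} (hL : ∀ a ∈ L, IsPos D a) (ho : T.OrthL L) :
    S.xG F L * S.xG F L = 1 := by
  induction L with
  | nil => simp [S.xG_nil]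
  | cons a L ih =>
    obtain ⟨ha, hL'⟩ := List.forall_mem_cons.mp hL
    obtain ⟨h1, h2⟩ := List.pairwise_cons.mp ho
    have hc : Commute (S.good.full.x a (1 : F)) (S.xG F L) :=
      S.commute_xG ha hL' (fun b hb => by rw [h1 b hb]; decide) 1
    calc S.xG F (a :: L) * S.xG F (a :: L)
        = S.good.full.x a 1 * (S.xG F L * S.good.full.x a 1) * S.xG F L := by
          rw [S.xG_cons]; group
      _ = S.good.full.x a 1 * S.good.full.x a 1 * (S.xG F L * S.xG F L) := by
          rw [← hc.eq]; group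
      _ = 1 := by rw [ih hL' h2, S.x_sq, one_mul]

variable {P : Set ℕ} {k : ℕ} (R : T.RadSet P k)
include R

omit [CharP F 2] in
theorem cor_cases {r : ℕ} (hr : r ∈ P) : T.cor r k = 0 ∨ T.cor r k = 1 := by
  have := R.le_one r hr
  have := S.cor_nonneg (R.pos r hr) R.klt
  omega

omit [CharP F 2] in
theorem qq {r s : ℕ} (hr : r ∈ T.radQ P k) (hs : s ∈ T.radQ P k) : T.pairT r s ≠ -1 := by
  intro h
  have h1 := (S.up_spec (R.pos r hr.1) (R.pos s hs.1) h).2.2.1 k R.klt
  have h2 := R.le_one _ (R.up r hr.1 s hs.1 h)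
  rw [h1, hr.2, hs.2] at h2
  omega

omit [CharP F 2] in
theorem lq_up {r s : ℕ} (hr : r ∈ T.radL P k) (hs : s ∈ T.radQ P k) (h : T.pairT r s = -1) :
    T.upR r s ∈ T.radQ P k ∧ T.pairT r (T.upR r s) = 1 ∧ T.dnR r (T.upR r s) = s := by
  have hp := R.pos r hr.1
  have hq := R.pos s hs.1
  refine ⟨⟨R.up r hr.1 s hs.1 h, ?_⟩, ?_, (S.up_spec hp hq h).2.1⟩
  · rw [(S.up_spec hp hq h).2.2.1 k R.klt, hr.2, hs.2, zero_add]
  · rw [S.lin_right hp hq hp h, S.pair_self hp, h]
    decide

omit [CharP F 2] in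
theorem lq_dn {r t : ℕ} (hr : r ∈ T.radL P k) (ht : t ∈ T.radQ P k) (h : T.pairT r t = 1) :
    T.dnR r t ∈ T.radQ P k ∧ T.pairT r (T.dnR r t) = -1 ∧ T.upR r (T.dnR r t) = t := by
  have hp := R.pos r hr.1
  have hq := R.pos t ht.1
  have hlt : r < t := by
    by_contra hc
    have := (S.one_spec hp hq h).2 hc k R.klt
    rw [hr.2, ht.2] at this
    omega
  obtain ⟨h1, h2, h3⟩ := (S.one_spec hp hq h).1 hlt
  refine ⟨⟨R.dn r hr.1 t ht.1 hlt h, ?_⟩, h2, h3⟩
  have := (S.up_spec hp h1 h2).2.2.1 k R.klt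
  rw [h3, ht.2, hr.2, zero_add] at this
  exact this.symm

omit R [CharP F 2] in
theorem commT_self {r : ℕ} (hr : IsPos D r) : T.commT r r = [] := by
  have h0 : T.ent r r = [] := by
    by_contra hne'
    have hroot := S.good.full.cert.root r hr.1
    simp only [chkRoot, Bool.and_eq_true, allBelow_iff] at hroot
    have hp := hroot.1.1.1.1.1.1 r hr.1
    unfold chkPair at hp
    split at hp
    next h0 => exact hne' h0
    next h0 => simp at hp
  simp [commT, rootT, h0]

omit [CharP F 2] in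
theorem closed_of {A : Set ℕ} (hA : ∀ r ∈ A, r ∈ P)
    (hup : ∀ r ∈ A, ∀ s ∈ A, T.pairT r s = -1 → T.upR r s ∈ A) : T.Closed A := by
  refine ⟨fun r hr => R.pos r (hA r hr), fun r hr s hs c hc => ?_⟩
  have hp := R.pos r (hA r hr)
  have hq := R.pos s (hA s hs)
  by_cases h : T.pairT r s = -1
  · obtain ⟨-, -, -, e, -, he⟩ := S.up_spec hp hq h
    rw [he, List.mem_singleton] at hc
    rw [hc]
    exact hup r hr s hs h
  · exfalso
    by_cases hne : r = s
    · rw [← hne, S.commT_self hp] at hc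
      exact absurd hc List.not_mem_nil
    · rw [(S.comm_nil hp hq hne h).1] at hc
      exact absurd hc List.not_mem_nil

omit [CharP F 2] in
theorem closed_P : T.Closed P := S.closed_of R (fun _ h => h) R.up

omit [CharP F 2] in
theorem closed_Q : T.Closed (T.radQ P k) :=
  S.closed_of R (fun _ h => h.1) fun _ hr _ hs h => absurd h (S.qq R hr hs)

omit [CharP F 2] in
theorem closed_L : T.Closed (T.radL P k) :=
  S.closed_of R (fun _ h => h.1) fun r hr s hs h =>
    ⟨R.up r hr.1 s hs.1 h, by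
      rw [(S.up_spec (R.pos r hr.1) (R.pos s hs.1) h).2.2.1 k R.klt, hr.2, hs.2, add_zero]⟩

/-! ### Coordinates on the radical -/

theorem commute_Q {r : ℕ} (hr : r ∈ T.radQ P k) (t : F) {u : GL D.Idx F}
    (hu : u ∈ S.good.US F (T.radQ P k)) : Commute (S.good.full.x r t) u := by
  induction hu using Subgroup.closure_induction with
  | mem u hu =>
    obtain ⟨s, hs, v, rfl⟩ := hu
    exact S.commute (R.pos r hr.1) (R.pos s hs.1) (S.qq R hr hs) t v
  | one => exact Commute.one_right _
  | mul a b _ _ ha hb => exact ha.mul_right hb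
  | inv a _ ha => exact ha.inv_right

omit [CharP F 2] in
theorem phi_mem (f : ℕ → F) : S.phi (T.radQ P k) f ∈ S.good.US F (T.radQ P k) :=
  S.good.US_mono (fun _ hs => hs.1) (S.good.segProd_mem (T.radQ P k) f D.nroots 0)

theorem phi_add (f g : ℕ → F) :
    S.phi (T.radQ P k) (f + g) = S.phi (T.radQ P k) f * S.phi (T.radQ P k) g := by
  unfold phi
  suffices h : ∀ m j, S.good.segProd (T.radQ P k) (f + g) j m =
      S.good.segProd (T.radQ P k) f j m * S.good.segProd (T.radQ P k) g j m from h _ _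
  intro m
  induction m with
  | zero => intro j; simp [Good.segProd]
  | succ m ih =>
    intro j
    simp only [Good.segProd, ih (j + 1)]
    split_ifs with hj
    · have hc := S.commute_Q R hj (g j) (S.good.US_mono (fun _ hs => hs.1)
        (S.good.segProd_mem (T.radQ P k) f m (j + 1)))
      rw [Pi.add_apply, ← S.good.full.x_add]
      calc _ = S.good.full.x j (f j) * (S.good.full.x j (g j) *
            S.good.segProd (T.radQ P k) f (j + 1) m) *
              S.good.segProd (T.radQ P k) g (j + 1) m := by group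
        _ = _ := by rw [hc.eq]; group
    · simp

omit [CharP F 2] in
theorem phi_zero : S.phi (T.radQ P k) (0 : ℕ → F) = 1 := by
  unfold phi
  suffices h : ∀ m j, S.good.segProd (T.radQ P k) (0 : ℕ → F) j m = 1 from h _ _
  intro m
  induction m with
  | zero => intro j; rfl
  | succ m ih => intro j; simp [Good.segProd, ih, S.good.full.x_zero]

omit [CharP F 2] in
theorem phi_single {s : ℕ} (hs : s ∈ T.radQ P k) (t : F) :
    S.phi (T.radQ P k) (Pi.single s t) = S.good.full.x s t := by
  unfold phi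
  suffices h : ∀ m j, S.good.segProd (T.radQ P k) (Pi.single s t : ℕ → F) j m =
      if j ≤ s ∧ s < j + m then S.good.full.x s t else 1 by
    rw [h, if_pos ⟨Nat.zero_le _, by have := (R.pos s hs.1).1; omega⟩]
  intro m
  induction m with
  | zero => intro j; rw [if_neg (by omega)]; rfl
  | succ m ih =>
    intro j
    simp only [Good.segProd, ih (j + 1)]
    rcases eq_or_ne j s with e | e
    · subst e
      rw [if_pos hs, Pi.single_eq_same, if_neg (by omega), mul_one, if_pos (by omega)]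
    · rw [Pi.single_eq_of_ne e, S.good.full.x_zero, ite_self, one_mul]
      exact if_congr (by omega) rfl rfl

omit [CharP F 2] in
theorem phi_surj {v : GL D.Idx F} (hv : v ∈ S.good.US F (T.radQ P k)) :
    ∃ f : ℕ → F, SuppIn (T.radQ P k) f ∧ v = S.phi (T.radQ P k) f := by
  obtain ⟨f, hf⟩ : v ∈ Set.range fun f => S.good.segProd (T.radQ P k) f 0 D.nroots := by
    rw [← S.good.US_eq_range (S.closed_Q R)]; exact hv
  refine ⟨fun r => if r ∈ T.radQ P k then f r else 0, fun t ht => if_neg ht, ?_⟩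
  rw [← hf]
  exact S.good.segProd_congr _ _ _ fun r hr _ => by simp [hr]

omit [CharP F 2] in
theorem phi_inj {f g : ℕ → F} (hf : SuppIn (T.radQ P k) f) (hg : SuppIn (T.radQ P k) g)
    (h : S.phi (T.radQ P k) f = S.phi (T.radQ P k) g) : f = g := by
  funext t
  by_cases ht : t ∈ T.radQ P k
  · exact S.good.segProd_injective (S.closed_Q R) D.nroots 0 f g (zero_add _) h t ht (Nat.zero_le _)
  · rw [hf t ht, hg t ht]

omit [CharP F 2] in
theorem supp_induction {p : (ℕ → F) → Prop} (h0 : p 0)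
    (hadd : ∀ f g, SuppIn (T.radQ P k) f → SuppIn (T.radQ P k) g → p f → p g → p (f + g))
    (hs : ∀ s ∈ T.radQ P k, ∀ t : F, p (Pi.single s t)) {f : ℕ → F}
    (hf : SuppIn (T.radQ P k) f) : p f := by
  suffices h : ∀ n, ∀ g : ℕ → F, SuppIn (T.radQ P k) g → (∀ t, n ≤ t → g t = 0) → p g by
    refine h D.nroots f hf fun t ht => hf t fun hm => ?_
    have := (R.pos t hm.1).1
    omega
  intro n
  induction n with
  | zero =>
    intro g _ hg
    rw [show g = 0 from funext fun t => hg t (Nat.zero_le _)]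
    exact h0
  | succ n ih =>
    intro g hg hg'
    by_cases hn : n ∈ T.radQ P k
    · have e : g = Pi.single n (g n) + Function.update g n 0 := by
        funext t
        rcases eq_or_ne t n with rfl | h
        · simp
        · simp [h]
      have h1 : SuppIn (T.radQ P k) (Function.update g n 0) := fun t ht => by
        rcases eq_or_ne t n with rfl | h
        · simp
        · simp [h, hg t ht]
      rw [e]
      refine hadd _ _ (fun t ht => Pi.single_eq_of_ne (fun e => ht (by rw [e]; exact hn)) _) h1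
        (hs n hn _) (ih _ h1 fun t ht => ?_)
      rcases eq_or_ne t n with rfl | h
      · simp
      · simp [h, hg' t (by omega)]
    · refine ih g hg fun t ht => ?_
      rcases eq_or_ne t n with rfl | h
      · exact hg t hn
      · exact hg' t (by omega)

omit S R [CharP F 2] in
theorem conjA_add (Q : Set ℕ) (r : ℕ) (t : F) (f g : ℕ → F) :
    T.conjA Q r t (f + g) = T.conjA Q r t f + T.conjA Q r t g := by
  funext b
  simp only [conjA, Pi.add_apply]
  split_ifs <;> ring

omit S R [CharP F 2] in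
theorem conjA_supp (r : ℕ) (t : F) {f : ℕ → F} (hf : SuppIn (T.radQ P k) f) :
    SuppIn (T.radQ P k) (T.conjA (T.radQ P k) r t f) := by
  intro b hb
  simp [conjA, hb, hf b hb]

/-- Conjugation of the radical by a root element of the Levi part. -/
theorem conj_phi {r : ℕ} (hr : r ∈ T.radL P k) (t : F) {f : ℕ → F}
    (hf : SuppIn (T.radQ P k) f) :
    S.good.full.x r t * S.phi (T.radQ P k) f * (S.good.full.x r t)⁻¹ =
      S.phi (T.radQ P k) (T.conjA (T.radQ P k) r t f) := by
  revert f
  intro f hf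
  refine S.supp_induction R (p := fun f => S.good.full.x r t * S.phi (T.radQ P k) f *
    (S.good.full.x r t)⁻¹ = S.phi (T.radQ P k) (T.conjA (T.radQ P k) r t f)) ?_ ?_ ?_ hf
  · rw [S.phi_zero R, mul_one, mul_inv_cancel]
    rw [show T.conjA (T.radQ P k) r t (0 : ℕ → F) = 0 from funext fun b => by simp [conjA],
      S.phi_zero R]
  · intro f g _ _ h1 h2
    rw [conjA_add, S.phi_add R, S.phi_add R, ← h1, ← h2]
    group
  · intro s hs u
    rw [S.phi_single R hs]
    have hp := R.pos r hr.1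
    have hq := R.pos s hs.1
    by_cases h : T.pairT r s = -1
    · obtain ⟨hk, hk1, hk2⟩ := S.lq_up R hr hs h
      rw [S.conj_up hp hq h, ← S.phi_single R hs, ← S.phi_single R hk, ← S.phi_add R]
      congr 1
      funext b
      simp only [conjA, Pi.add_apply]
      congr 1
      rcases eq_or_ne b (T.upR r s) with rfl | hb
      · rw [Pi.single_eq_same, if_pos ⟨hk, hk1⟩, hk2, Pi.single_eq_same]
      · rw [Pi.single_eq_of_ne hb]
        split_ifs with hc
        · obtain ⟨-, -, h3⟩ := S.lq_dn R hr hc.1 hc.2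
          rw [Pi.single_eq_of_ne, mul_zero]
          intro e
          exact hb (by rw [← h3, e])
        · rfl
    · rw [(S.commute hp hq h t u).eq, mul_inv_cancel_right, ← S.phi_single R hs]
      congr 1
      funext b
      simp only [conjA]
      split_ifs with hc
      · obtain ⟨-, h2, -⟩ := S.lq_dn R hr hc.1 hc.2
        rw [Pi.single_eq_of_ne (show T.dnR r b ≠ s from fun e => h (e ▸ h2)), mul_zero, add_zero]
      · rw [add_zero]

omit S R [CharP F 2] in
theorem conjM_nil (Q : Set ℕ) (f : ℕ → F) : T.conjM Q [] f = f := rfl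

omit S R [CharP F 2] in
theorem conjM_cons (Q : Set ℕ) (a : ℕ) (L : List ℕ) (f : ℕ → F) :
    T.conjM Q (a :: L) f = T.conjA Q a 1 (T.conjM Q L f) := rfl

omit S R [CharP F 2] in
theorem conjM_append (Q : Set ℕ) (L L' : List ℕ) (f : ℕ → F) :
    T.conjM Q (L ++ L') f = T.conjM Q L (T.conjM Q L' f) := by
  simp [conjM, List.foldr_append]

omit S R [CharP F 2] in
theorem conjM_add (Q : Set ℕ) (L : List ℕ) (f g : ℕ → F) :
    T.conjM Q L (f + g) = T.conjM Q L f + T.conjM Q L g := by
  induction L with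
  | nil => rfl
  | cons a L ih => simp [conjM_cons, ih, conjA_add]

omit S R [CharP F 2] in
theorem conjM_supp (L : List ℕ) {f : ℕ → F} (hf : SuppIn (T.radQ P k) f) :
    SuppIn (T.radQ P k) (T.conjM (T.radQ P k) L f) := by
  induction L with
  | nil => exact hf
  | cons a L ih => exact conjA_supp a 1 ih

theorem conjM_eq {L : List ℕ} (hL : ∀ a ∈ L, a ∈ T.radL P k) {f : ℕ → F}
    (hf : SuppIn (T.radQ P k) f) :
    S.xG F L * S.phi (T.radQ P k) f * (S.xG F L)⁻¹ =
      S.phi (T.radQ P k) (T.conjM (T.radQ P k) L f) := by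
  induction L with
  | nil => simp [S.xG_nil, conjM_nil]
  | cons a L ih =>
    obtain ⟨ha, hL'⟩ := List.forall_mem_cons.mp hL
    rw [S.xG_cons, conjM_cons, ← S.conj_phi R ha 1 (conjM_supp L hf), ← ih hL']
    group

theorem conjM_invol {L : List ℕ} (hL : ∀ a ∈ L, a ∈ T.radL P k) (ho : T.OrthL L) {f : ℕ → F}
    (hf : SuppIn (T.radQ P k) f) :
    T.conjM (T.radQ P k) L (T.conjM (T.radQ P k) L f) = f := by
  refine S.phi_inj R (conjM_supp L (conjM_supp L hf)) hf ?_
  rw [← S.conjM_eq R hL (conjM_supp L hf), ← S.conjM_eq R hL hf]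
  have h := S.xG_sq (F := F) (fun a ha => R.pos a (hL a ha).1) ho
  rw [show (S.xG F L)⁻¹ = S.xG F L from inv_eq_iff_mul_eq_one.mpr h]
  simp only [mul_assoc, h, mul_one]
  rw [← mul_assoc, h, one_mul]

omit [CharP F 2] in
theorem conjM_class {L : List ℕ} (hL : ∀ a ∈ L, a ∈ T.radL P k) {δ : ℕ} (hδ : IsPos D δ)
    (h : ∀ a ∈ L, T.pairT δ a = 0) (c : ℤ) {f : ℕ → F}
    (hf : ∀ t ∈ T.radQ P k, T.pairT δ t = c → f t = 0) :
    ∀ t ∈ T.radQ P k, T.pairT δ t = c → T.conjM (T.radQ P k) L f t = 0 := by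
  induction L with
  | nil => exact hf
  | cons a L ih =>
    obtain ⟨ha, hL'⟩ := List.forall_mem_cons.mp hL
    obtain ⟨h1, h'⟩ := List.forall_mem_cons.mp h
    intro t ht htc
    rw [conjM_cons]
    simp only [conjA, ih hL' h' t ht htc, zero_add]
    split_ifs with hc
    · obtain ⟨g1, g2, g3⟩ := S.lq_dn R ha hc.1 hc.2
      rw [ih hL' h' _ g1, mul_zero]
      rw [← htc]
      conv_rhs => rw [← g3]
      rw [S.lin_right (R.pos a ha.1) (R.pos _ g1.1) hδ g2, h1, zero_add]
    · rfl

omit [CharP F 2] in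
theorem conjA_fix {a : ℕ} (ha : a ∈ T.radL P k) (t : F) {f : ℕ → F}
    (hf : ∀ s ∈ T.radQ P k, T.pairT a s = -1 → f s = 0) :
    T.conjA (T.radQ P k) a t f = f := by
  funext b
  simp only [conjA]
  split_ifs with hc
  · obtain ⟨g1, g2, -⟩ := S.lq_dn R ha hc.1 hc.2
    rw [hf _ g1 g2, mul_zero, add_zero]
  · rw [add_zero]

omit [CharP F 2] in
theorem conjM_fix {L : List ℕ} (hL : ∀ a ∈ L, a ∈ T.radL P k) {f : ℕ → F}
    (hf : ∀ a ∈ L, ∀ s ∈ T.radQ P k, T.pairT a s = -1 → f s = 0) :
    T.conjM (T.radQ P k) L f = f := by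
  induction L with
  | nil => rfl
  | cons a L ih =>
    rw [conjM_cons, ih (List.forall_mem_cons.mp hL).2 (List.forall_mem_cons.mp hf).2,
      S.conjA_fix R (List.forall_mem_cons.mp hL).1 1 (List.forall_mem_cons.mp hf).1]

/-- The first step: the radical part is moved into the centraliser of all roots of the list. -/
theorem step_one : ∀ (L2 L1 : List ℕ), (∀ a ∈ L1 ++ L2, a ∈ T.radL P k) → T.OrthL (L1 ++ L2) →
    ∀ f : ℕ → F, SuppIn (T.radQ P k) f →
      (∀ t ∈ T.radQ P k, ∀ a ∈ L1, T.pairT a t ≠ 0 → f t = 0) →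
      T.conjM (T.radQ P k) (L1 ++ L2) f = f →
      ∃ f' : ℕ → F, SuppIn (T.radQ P k) f' ∧
        (∀ t ∈ T.radQ P k, ∀ a ∈ L1 ++ L2, T.pairT a t ≠ 0 → f' t = 0) ∧
        ConjIn (S.bp F P) (S.xG F (L1 ++ L2) * S.phi (T.radQ P k) f)
          (S.xG F (L1 ++ L2) * S.phi (T.radQ P k) f') := by
  intro L2
  induction L2 with
  | nil =>
    intro L1 _ _ f hf h1 _
    exact ⟨f, hf, by simpa using h1, ConjIn.refl _ _⟩
  | cons γ L2 ih =>
    intro L1 hL ho f hf h1 hfix
    have hγ : γ ∈ T.radL P k := hL γ (by simp)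
    have hgp := R.pos γ hγ.1
    have hL1 : ∀ a ∈ L1, a ∈ T.radL P k := fun a ha => hL a (List.mem_append_left _ ha)
    have hL2 : ∀ a ∈ L2, a ∈ T.radL P k := fun a ha => hL a (by simp [ha])
    obtain ⟨ho1, ho2, ho12⟩ := List.pairwise_append.mp ho
    obtain ⟨hγ2, ho2'⟩ := List.pairwise_cons.mp ho2
    have h21 : ∀ d ∈ L1, ∀ a ∈ L2, T.pairT d a = 0 := fun d hd a ha =>
      ho12 d hd a (List.mem_cons_of_mem _ ha)
    have h1γ : ∀ d ∈ L1, T.pairT d γ = 0 := fun d hd => ho12 d hd γ (List.mem_cons_self ..)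
    -- functions vanishing off the centraliser of `L1`
    have keep : ∀ {e : ℕ → F}, (∀ t ∈ (T.radQ P k), ∀ a ∈ L1, T.pairT a t ≠ 0 → e t = 0) →
        ∀ t ∈ (T.radQ P k), ∀ a ∈ L1, T.pairT a t ≠ 0 → T.conjM (T.radQ P k) L2 e t = 0 := fun he t ht a ha hne =>
      S.conjM_class R hL2 (R.pos a (hL1 a ha).1) (h21 a ha) _
        (fun t' ht' e' => he t' ht' a ha (e' ▸ hne)) t ht rfl
    have keepA : ∀ {e : ℕ → F}, (∀ t ∈ (T.radQ P k), ∀ a ∈ L1, T.pairT a t ≠ 0 → e t = 0) →
        ∀ t ∈ (T.radQ P k), ∀ a ∈ L1, T.pairT a t ≠ 0 → T.conjA (T.radQ P k) γ 1 e t = 0 := fun he t ht a ha hne =>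
      S.conjM_class R (L := [γ]) (fun b hb => by simp only [List.mem_singleton] at hb; exact hb ▸ hγ)
        (R.pos a (hL1 a ha).1)
        (fun b hb => by simp only [List.mem_singleton] at hb; exact hb ▸ h1γ a ha) _
        (fun t' ht' e' => he t' ht' a ha (e' ▸ hne)) t ht rfl
    have fix1 : ∀ {e : ℕ → F}, (∀ t ∈ (T.radQ P k), ∀ a ∈ L1, T.pairT a t ≠ 0 → e t = 0) →
        T.conjM (T.radQ P k) L1 e = e := fun he =>
      S.conjM_fix R hL1 fun a ha s hs h => he s hs a ha (by rw [h]; decide)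
    -- the preimage of the upper part
    let g : ℕ → F := fun s => if s ∈ (T.radQ P k) ∧ T.pairT γ s = -1 then f (T.upR γ s) else 0
    have hg : SuppIn (T.radQ P k) g := fun t ht => by simp [g, ht]
    have hg1 : ∀ t ∈ (T.radQ P k), ∀ a ∈ L1, T.pairT a t ≠ 0 → g t = 0 := by
      intro t ht a ha hne
      simp only [g]
      split_ifs with hc
      · refine h1 _ (S.lq_up R hγ hc.1 hc.2).1 a ha ?_
        rw [S.lin_right hgp (R.pos t ht.1) (R.pos a (hL1 a ha).1) hc.2, h1γ a ha, zero_add]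
        exact hne
      · rfl
    set h := T.conjM (T.radQ P k) L2 g with hh
    have hhs : SuppIn (T.radQ P k) h := conjM_supp L2 hg
    have hh1 : ∀ t ∈ T.radQ P k, ∀ a ∈ L1, T.pairT a t ≠ 0 → h t = 0 := keep hg1
    have hMh : T.conjM (T.radQ P k) (L1 ++ γ :: L2) h = T.conjA (T.radQ P k) γ 1 g := by
      rw [conjM_append, conjM_cons, S.conjM_invol R hL2 ho2' hg]
      exact fix1 (keepA hg1)
    set f' := f + h + T.conjA (T.radQ P k) γ 1 g with hf'
    have hf's : SuppIn (T.radQ P k) f' := fun t ht => by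
      simp [hf', hf t ht, hhs t ht, conjA_supp γ 1 hg t ht]
    have hf'1 : ∀ t ∈ (T.radQ P k), ∀ a ∈ L1, T.pairT a t ≠ 0 → f' t = 0 := fun t ht a ha hne => by
      simp [hf', h1 t ht a ha hne, hh1 t ht a ha hne, keepA hg1 t ht a ha hne]
    -- the conjugation
    have hsim : ConjIn (S.bp F P) (S.xG F (L1 ++ γ :: L2) * S.phi (T.radQ P k) f)
        (S.xG F (L1 ++ γ :: L2) * S.phi (T.radQ P k) f') := by
      refine ⟨S.phi (T.radQ P k) h, Subgroup.mem_sup_right
        (S.good.US_mono (fun s hs => hs.1) (S.phi_mem R h)), ?_⟩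
      have hinv : (S.phi (T.radQ P k) h)⁻¹ = S.phi (T.radQ P k) h := by
        rw [inv_eq_iff_mul_eq_one, ← S.phi_add R,
          show h + h = 0 from funext fun t => CharTwo.add_self_eq_zero (h t), S.phi_zero R]
      have hsq := S.xG_sq (F := F) (fun a ha => R.pos a (hL a ha).1) ho
      have e := S.conjM_eq R hL hhs
      rw [hMh] at e
      have hxinv : (S.xG F (L1 ++ γ :: L2))⁻¹ = S.xG F (L1 ++ γ :: L2) :=
        inv_eq_iff_mul_eq_one.mpr hsq
      rw [hxinv] at e
      calc S.phi (T.radQ P k) h * (S.xG F (L1 ++ γ :: L2) * S.phi (T.radQ P k) f) * (S.phi (T.radQ P k) h)⁻¹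
          = S.xG F (L1 ++ γ :: L2) * (S.xG F (L1 ++ γ :: L2) * S.phi (T.radQ P k) h *
              S.xG F (L1 ++ γ :: L2)) * S.phi (T.radQ P k) f * S.phi (T.radQ P k) h := by
            rw [hinv]
            simp only [← mul_assoc, hsq, one_mul]
        _ = _ := by
            rw [e, mul_assoc, mul_assoc, ← S.phi_add R, ← S.phi_add R]
            congr 2
            funext t
            simp only [hf', Pi.add_apply]
            ring
    have hfix' : T.conjM (T.radQ P k) (L1 ++ γ :: L2) f' = f' := by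
      have e2 : T.conjM (T.radQ P k) (L1 ++ γ :: L2) (T.conjA (T.radQ P k) γ 1 g) = h := by
        rw [← hMh]; exact S.conjM_invol R hL ho hhs
      rw [hf', conjM_add, conjM_add, hfix, hMh, e2, add_right_comm]
    -- the upper part is gone
    have hup : ∀ t ∈ (T.radQ P k), T.pairT γ t = 1 → f' t = 0 := by
      intro t ht h1t
      have hcls : h t = 0 := S.conjM_class R hL2 hgp (fun a ha => hγ2 a ha) 1
        (fun s hs e => by simp [g, e]) t ht h1t
      obtain ⟨g1, g2, g3⟩ := S.lq_dn R hγ ht h1t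
      simp [hf', hcls, conjA, ht, h1t, g, g1, g2, g3, CharTwo.add_self_eq_zero]
    -- hence the lower part is gone
    set e := T.conjM (T.radQ P k) L2 f' with he
    have hec : T.conjA (T.radQ P k) γ 1 e = f' := by
      conv_rhs => rw [← hfix']
      rw [conjM_append, conjM_cons, fix1 (keepA (keep hf'1))]
    have heup : ∀ t ∈ (T.radQ P k), T.pairT γ t = 1 → e t = 0 :=
      S.conjM_class R hL2 hgp (fun a ha => hγ2 a ha) 1 hup
    have helow : ∀ s ∈ (T.radQ P k), T.pairT γ s = -1 → e s = 0 := by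
      intro s hs h1s
      obtain ⟨k1, k2, k3⟩ := S.lq_up R hγ hs h1s
      have := congrFun hec (T.upR γ s)
      simp only [conjA, k1, k2, and_self, if_true, k3, heup _ k1 k2, hup _ k1 k2, one_mul,
        zero_add] at this
      exact this
    have hef : e = f' := by rw [← hec, S.conjA_fix R hγ 1 helow]
    have hγ0 : ∀ t ∈ (T.radQ P k), T.pairT γ t ≠ 0 → f' t = 0 := by
      intro t ht hne
      rcases S.pair_cases hgp (R.pos t ht.1) (fun e' => by
        have h2 := ht.2; rw [← e', hγ.2] at h2; omega) with h3 | h3 | h3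
      · rw [← hef]; exact helow t ht h3
      · exact absurd h3 hne
      · exact hup t ht h3
    obtain ⟨f'', a1, a2, a3⟩ := ih (L1 ++ [γ]) (by simpa using hL) (by simpa using ho) f' hf's
      (fun t ht a ha hne => by
        rcases List.mem_append.mp ha with ha | ha
        · exact hf'1 t ht a ha hne
        · simp only [List.mem_singleton] at ha
          subst ha
          exact hγ0 t ht hne) (by simpa using hfix')
    refine ⟨f'', a1, by simpa using a2, hsim.trans ?_⟩
    simpa using a3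

end SL

end Tab

end CfsgLib.Chev
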