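import Cfsg.Agent.Chev.InvolTwoChain
import Cfsg.Agent.Chev.InvolTwoMask
import Cfsg.Agent.Chev.Card
import Cfsg.Agent.Chev.RankOne

/-!
Conjugating products over orthogonal roots into given representatives, and the resulting
description of the involutions of the group in characteristic two.
-/

set_option autoImplicit false
set_option linter.style.haveILetI false

namespace CfsgLib.Chev

open Cfsg.Lie Matrix
open scoped MatrixGroups

namespace Tab

variable {D : ChevalleyDatum}

/-- The image of a root under a word of fundamental reflections. -/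
def wimg (T : Tab D) (w : List ℕ) (s : ℕ) : ℕ := w.foldr T.reflT s

/-- A word in the fundamental reflections. -/
def chkLetters (D : ChevalleyDatum) (w : List ℕ) : Bool := w.all fun i => Nat.blt i D.rank

/-- A node of a tree of standard lists, with words moving orthogonal roots to its children. -/
def chkNodeTbl (T : Tab D) (keys : List (List ℕ)) (L : List ℕ) (tbl : List (ℕ × List ℕ)) : Bool :=
  L.all (fun r => Nat.blt r D.nroots) && decide (L.Pairwise fun a b => T.pairT a b = 0) &&
  allBelow (fun r => (L.any fun l => decide (T.pairT l r ≠ 0)) ||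
    tbl.any fun e => Nat.beq e.1 r && chkLetters D e.2 &&
      keys.any fun K => ((L ++ [r]).map (T.wimg e.2)).isPerm K &&
        K.all fun a => K.all fun b => T.chkCommute 2 a b) D.nroots

/-- All nodes. -/
def chkTree (T : Tab D) (nodes : List (List ℕ × List (ℕ × List ℕ))) : Bool :=
  (nodes.map Prod.fst).contains [] &&
    nodes.all fun n => T.chkNodeTbl (nodes.map Prod.fst) n.1 n.2

/-- A move: conjugation by `∏ x_q(1)`, then by a Weyl word, then a reordering. -/
def chkMove (T : Tab D) (L : List ℕ) (m : List ℕ × List ℕ × List ℕ × List ℕ) : Bool :=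
  L.all (fun r => Nat.blt r D.nroots) && m.1.all (fun r => Nat.blt r D.nroots) &&
    (m.1.isEmpty && decide (L = m.2.1) || T.chkSame (m.1 ++ L ++ m.1.reverse) m.2.1) &&
    m.2.1.all (fun r => Nat.blt r D.nroots) && chkLetters D m.2.2.1 &&
    (m.2.1.map (T.wimg m.2.2.1)).isPerm m.2.2.2 &&
    m.2.2.2.all (fun a => m.2.2.2.all fun b => T.chkCommute 2 a b)

/-- A sequence of moves ending in a representative. -/
def chkPath (T : Tab D) (reps : List (List ℕ)) :
    List ℕ → List (List ℕ × List ℕ × List ℕ × List ℕ) → Bool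
  | L, [] => reps.contains L
  | L, m :: ms => T.chkMove L m && chkPath T reps m.2.2.2 ms

namespace SL

variable {T : Tab D} (S : T.SL) {F : Type*} [Field F] [CharP F 2]
include S

theorem exists_word_elem : ∀ w : List ℕ, chkLetters D w = true →
    ∃ g ∈ D.group F, ∀ s < D.nroots, T.wimg w s < D.nroots ∧
      ∀ u : F, g * S.good.full.x s u * g⁻¹ = S.good.full.x (T.wimg w s) u := by
  intro w
  induction w with
  | nil => exact fun _ => ⟨1, one_mem _, fun s hs => ⟨hs, fun u => by simp [wimg]⟩⟩
  | cons i w ih =>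
    intro hw
    simp only [chkLetters, List.all_cons, Bool.and_eq_true, Nat.blt_eq] at hw
    obtain ⟨g, hg, hgs⟩ := ih hw.2
    refine ⟨S.good.full.ns F i * g, mul_mem (S.good.ns_mem_group ⟨i, hw.1⟩) hg, fun s hs => ?_⟩
    obtain ⟨h1, h2⟩ := hgs s hs
    obtain ⟨h3, -, -, -, -, -, hsgn, -⟩ := S.good.full.reflT_spec hw.1 h1
    refine ⟨h3, fun u => ?_⟩
    rw [show S.good.full.ns F i * g * S.good.full.x s u * (S.good.full.ns F i * g)⁻¹ =
      S.good.full.ns F i * (g * S.good.full.x s u * g⁻¹) * (S.good.full.ns F i)⁻¹ by group,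
      h2, S.good.full.ns_conj hw.1 h1, sign_cast hsgn, one_mul]
    rfl

omit [CharP F 2] in
theorem conj_xG {g : GL D.Idx F} {f : ℕ → ℕ} : ∀ L : List ℕ,
    (∀ r ∈ L, g * S.good.full.x r 1 * g⁻¹ = S.good.full.x (f r) 1) →
      g * S.xG F L * g⁻¹ = S.xG F (L.map f) := by
  intro L
  induction L with
  | nil => intro _; simp [S.xG_nil]
  | cons r L ih =>
    intro h
    obtain ⟨h1, h2⟩ := List.forall_mem_cons.mp h
    rw [List.map_cons, S.xG_cons, S.xG_cons, ← h1, ← ih h2]
    group

omit [CharP F 2] in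
theorem pair_wimg : ∀ w : List ℕ, chkLetters D w = true → ∀ r < D.nroots, ∀ s < D.nroots,
    T.wimg w r < D.nroots ∧ T.pairT (T.wimg w r) (T.wimg w s) = T.pairT r s := by
  intro w
  induction w with
  | nil => exact fun _ r hr s _ => ⟨hr, rfl⟩
  | cons i w ih =>
    intro hw r hr s hs
    simp only [chkLetters, List.all_cons, Bool.and_eq_true, Nat.blt_eq] at hw
    obtain ⟨h1, h2⟩ := ih hw.2 r hr s hs
    obtain ⟨h1', -⟩ := ih hw.2 s hs r hr
    refine ⟨(S.good.full.reflT_spec hw.1 h1).1, ?_⟩
    show T.pairT (T.reflT i (T.wimg w r)) (T.reflT i (T.wimg w s)) = _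
    rw [S.good.full.pairT_reflect hw.1 h1 h1', h2]

/-- Every product over orthogonal roots is conjugate to one over a node of the tree. -/
theorem reduce_tree {nodes : List (List ℕ × List (ℕ × List ℕ))} (h : T.chkTree nodes = true) :
    ∀ (Δ L : List ℕ), L ∈ nodes.map Prod.fst → (∀ r ∈ L ++ Δ, r < D.nroots) → T.OrthL (L ++ Δ) →
      ∃ K ∈ nodes.map Prod.fst, ConjIn (D.group F) (S.xG F (L ++ Δ)) (S.xG F K) := by
  simp only [chkTree, Bool.and_eq_true, List.all_eq_true] at h
  suffices h' : ∀ (n : ℕ) (Δ L : List ℕ), Δ.length = n → L ∈ nodes.map Prod.fst →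
      (∀ r ∈ L ++ Δ, r < D.nroots) → T.OrthL (L ++ Δ) →
      ∃ K ∈ nodes.map Prod.fst, ConjIn (D.group F) (S.xG F (L ++ Δ)) (S.xG F K) from
    fun Δ L => h' Δ.length Δ L rfl
  intro n
  induction n with
  | zero =>
    intro Δ L hn hL _ _
    rw [List.length_eq_zero_iff.mp hn, List.append_nil]
    exact ⟨L, hL, ConjIn.refl _ _⟩
  | succ n ih =>
    intro Δ L hn hL hlt ho
    obtain ⟨r, Δ', rfl⟩ := List.exists_cons_of_length_eq_add_one hn
    obtain ⟨⟨L0, tbl⟩, hmem, rfl⟩ := List.mem_map.mp hL
    have hnode := h.2 _ hmem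
    simp only [chkNodeTbl, Bool.and_eq_true, allBelow_iff, Bool.or_eq_true, List.any_eq_true,
      decide_eq_true_eq, List.all_eq_true, Nat.beq_eq] at hnode
    have hr : r < D.nroots := hlt r (by simp)
    rcases hnode.2 r hr with ⟨l, hl, hne⟩ | ⟨e, -, ⟨-, hw⟩, K0, hK0, hperm, hcomm⟩
    · exact absurd ((List.pairwise_append.mp ho).2.2 l hl r (List.mem_cons_self ..)) hne
    · obtain ⟨g, hg, hgs⟩ := S.exists_word_elem (F := F) e.2 hw
      have hperm' := List.isPerm_iff.mp hperm
      obtain ⟨⟨K0', tbl0⟩, hK0m, hK0e⟩ := List.mem_map.mp hK0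
      simp only at hK0e
      subst hK0e
      have hK0node := h.2 _ hK0m
      simp only [chkNodeTbl, Bool.and_eq_true, decide_eq_true_eq] at hK0node
      have hcons : L0 ++ r :: Δ' = (L0 ++ [r]) ++ Δ' := by simp
      have hc : ConjIn (D.group F) (S.xG F (L0 ++ r :: Δ'))
          (S.xG F (K0' ++ Δ'.map (T.wimg e.2))) := by
        refine ⟨g, hg, ?_⟩
        rw [S.conj_xG _ fun s hs => (hgs s (hlt s hs)).2 1, hcons, List.map_append, S.xG_append,
          S.xG_append]
        congr 1
        refine List.Perm.prod_eq' (hperm'.map _) ?_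
        rw [List.pairwise_map]
        refine List.Pairwise.imp_of_mem (R := fun _ _ => True) (fun {a b} ha hb _ => ?_)
          (List.pairwise_of_forall fun _ _ => trivial)
        exact S.good.x_commute (F := F) (p := 2) (CharP.cast_eq_zero F 2)
          (hcomm a (hperm'.mem_iff.mp ha) b (hperm'.mem_iff.mp hb)) 1 1
      have hmem' : ∀ s ∈ K0', ∃ s' ∈ L0 ++ [r], T.wimg e.2 s' = s := fun s hs =>
        List.mem_map.mp (hperm'.mem_iff.mpr hs)
      have hin : ∀ s ∈ L0 ++ [r], s < D.nroots := fun s hs =>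
        hlt s (by rw [hcons]; exact List.mem_append_left _ hs)
      obtain ⟨ho1, ho2, ho12⟩ := List.pairwise_append.mp (hcons ▸ ho)
      obtain ⟨K, hK, hK'⟩ := ih (Δ'.map (T.wimg e.2)) K0'
        (by simp only [List.length_map, List.length_cons] at hn ⊢; omega) hK0
        (by
          intro s hs
          rcases List.mem_append.mp hs with hs | hs
          · obtain ⟨s', hs', rfl⟩ := hmem' s hs
            exact (hgs s' (hin s' hs')).1
          · obtain ⟨s', hs', rfl⟩ := List.mem_map.mp hs
            exact (hgs s' (hlt s' (by simp [hs']))).1)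
        (by
          unfold OrthL
          refine List.pairwise_append.mpr ⟨hK0node.1.2, ?_, ?_⟩
          · rw [List.pairwise_map]
            exact List.Pairwise.imp_of_mem (fun {a b} ha hb hab => by
              rw [(S.pair_wimg e.2 hw a (hlt a (by simp [ha])) b (hlt b (by simp [hb]))).2]
              exact hab) ho2
          · intro a ha b hb
            obtain ⟨a', ha', rfl⟩ := hmem' a ha
            obtain ⟨b', hb', rfl⟩ := List.mem_map.mp hb
            rw [(S.pair_wimg e.2 hw a' (hin a' ha') b' (hlt b' (by simp [hb']))).2]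
            exact ho12 a' ha' b' hb')
      exact ⟨K, hK, hc.trans hK'⟩

theorem conj_move {L : List ℕ} {m : List ℕ × List ℕ × List ℕ × List ℕ}
    (h : T.chkMove L m = true) : ConjIn (D.group F) (S.xG F L) (S.xG F m.2.2.2) := by
  obtain ⟨q, L1, w, L2⟩ := m
  simp only [chkMove, Bool.and_eq_true, Bool.or_eq_true, List.all_eq_true, Nat.blt_eq,
    List.isEmpty_iff, decide_eq_true_eq] at h
  obtain ⟨⟨⟨⟨⟨⟨hL, hq⟩, hsame⟩, hL1⟩, hw⟩, hperm⟩, hcomm⟩ := h
  have h1 : ConjIn (D.group F) (S.xG F L) (S.xG F L1) := by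
    rcases hsame with ⟨-, e⟩ | hsame
    · rw [e]; exact ConjIn.refl _ _
    · refine ⟨S.xG F q, S.xG_mem_group q, ?_⟩
      have hinv : (S.xG F q)⁻¹ = S.xG F q.reverse := by
        simp only [xG, List.prod_inv_reverse, List.map_reverse, List.map_map]
        refine congrArg List.prod (congrArg List.reverse (List.map_congr_left fun r _ => ?_))
        exact S.x_inv_two r 1
      rw [hinv, ← S.xG_append, ← S.xG_append]
      exact S.xG_eq_of_chkSame hsame
  obtain ⟨g, hg, hgs⟩ := S.exists_word_elem (F := F) w hw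
  refine h1.trans ⟨g, hg, ?_⟩
  rw [S.conj_xG L1 fun s hs => (hgs s (hL1 s hs)).2 1]
  refine List.Perm.prod_eq' ((List.isPerm_iff.mp hperm).map _) ?_
  rw [List.pairwise_map]
  refine List.Pairwise.imp_of_mem (R := fun _ _ => True) (fun {a b} ha hb _ => ?_) (List.pairwise_of_forall fun _ _ => trivial)
  exact S.good.x_commute (F := F) (p := 2) (CharP.cast_eq_zero F 2)
    (hcomm a ((List.isPerm_iff.mp hperm).mem_iff.mp ha) b
      ((List.isPerm_iff.mp hperm).mem_iff.mp hb)) 1 1

theorem conj_path {reps : List (List ℕ)} : ∀ (ms : List (List ℕ × List ℕ × List ℕ × List ℕ))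
    (L : List ℕ), T.chkPath reps L ms = true →
      ∃ K ∈ reps, ConjIn (D.group F) (S.xG F L) (S.xG F K) := by
  intro ms
  induction ms with
  | nil =>
    intro L h
    simp only [chkPath, List.contains_iff_mem] at h
    exact ⟨L, h, ConjIn.refl _ _⟩
  | cons m ms ih =>
    intro L h
    simp only [chkPath, Bool.and_eq_true] at h
    obtain ⟨K, hK, hc⟩ := ih _ h.2
    exact ⟨K, hK, (S.conj_move h.1).trans hc⟩

omit [CharP F 2] in
theorem bp_le_group (P : Set ℕ) : S.bp F P ≤ D.group F :=
  sup_le (by rw [← S.good.full.diagonal_eq_range]; exact S.good.diagonal_le_group)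
    (S.good.US_le_group _)

/-- An involution of the group is conjugate to an element of `U`. -/
theorem exists_conj_pos [Fintype F] {g : GL D.Idx F} (hg : g ∈ D.group F) (h2 : orderOf g = 2) :
    ∃ u ∈ D.posUnipotent F, ConjIn (D.group F) g u := by
  classical
  obtain ⟨P, hP⟩ := S.good.exists_sylow (F := F) 2
  set g' : D.group F := ⟨g, hg⟩
  have hp : IsPGroup 2 (Subgroup.zpowers g') :=
    IsPGroup.of_card (n := 1) (by rw [Nat.card_zpowers, ← Subgroup.orderOf_coe, h2, pow_one])
  obtain ⟨Q, hQ⟩ := hp.exists_le_sylow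
  obtain ⟨x, hx⟩ := MulAction.exists_smul_eq (D.group F) Q P
  have hu : x * g' * x⁻¹ ∈ (P : Subgroup (D.group F)) := by
    rw [← hx, Sylow.smul_def, Sylow.pointwise_smul_def]
    exact ⟨g', hQ (Subgroup.mem_zpowers g'), rfl⟩
  rw [hP] at hu
  exact ⟨_, Subgroup.mem_subgroupOf.mp hu, x, x.2, rfl⟩

omit [CharP F 2] in
theorem conj_ne_one {g h : GL D.Idx F} (hc : ConjIn (D.group F) g h) (hg : orderOf g = 2) :
    h ≠ 1 ∧ h * h = 1 := by
  obtain ⟨c, -, rfl⟩ := hc
  refine ⟨fun e => ?_, ?_⟩
  · rw [conj_eq_one_iff] at e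
    rw [e, orderOf_one] at hg
    omega
  · rw [show c * g * c⁻¹ * (c * g * c⁻¹) = c * (g * g) * c⁻¹ by group,
      show g * g = 1 by rw [← pow_two, ← hg, pow_orderOf_eq_one], mul_one, mul_inv_cancel]

/-- Every involution of the group is conjugate to one of the representatives. -/
theorem invol_conj_rep [Fintype F] {rest : List ℕ} (hl : T.chkLvls [] rest = true)
    {nodes : List (List ℕ × List (ℕ × List ℕ))} (ht : T.chkTree nodes = true)
    {reps : List (List ℕ)} (hp : ∀ L ∈ nodes.map Prod.fst, L = [] ∨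
      ∃ ms, T.chkPath reps L ms = true)
    {g : GL D.Idx F} (hg : g ∈ D.group F) (h2 : orderOf g = 2) :
    ∃ K ∈ reps, ConjIn (D.group F) g (S.xG F K) := by
  obtain ⟨u, hu, hgu⟩ := S.exists_conj_pos hg h2
  obtain ⟨hu1, hu2⟩ := S.conj_ne_one hgu h2
  have hset : T.Sset [] = {r | IsPos D r} := by ext r; simp [Sset]
  rw [S.good.posUnipotent_eq, ← hset] at hu
  obtain ⟨L, hL, ho, hc⟩ := S.exists_orth rest [] hl u hu hu2
  have hnil : [] ∈ nodes.map Prod.fst := by
    simp only [chkTree, Bool.and_eq_true, List.contains_iff_mem] at ht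
    exact ht.1
  obtain ⟨K, hK, hcK⟩ := S.reduce_tree (F := F) ht L [] hnil
    (by simpa using fun r hr => (hL r hr).1.1) (by simpa using ho)
  rw [List.nil_append] at hcK
  have hgK := hgu.trans ((hc.mono (S.bp_le_group _)).trans hcK)
  rcases hp K hK with rfl | ⟨ms, hms⟩
  · rw [S.xG_nil] at hgK
    exact absurd rfl (S.conj_ne_one hgK h2).1
  · obtain ⟨K', hK', hc'⟩ := S.conj_path (F := F) ms K hms
    exact ⟨K', hK', hgK.trans hc'⟩

end SL

end Tab

end CfsgLib.Chev

namespace CfsgLib.Chev.Tab.SL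

open Cfsg.Lie Matrix
open scoped MatrixGroups

variable {D : ChevalleyDatum} {T : Tab D} (S : T.SL) {F : Type*} [Field F] [CharP F 2]
include S

/-- A product over orthogonal positive roots with non-zero rank of `y - 1` has order two. -/
theorem orderOf_xG {L : List ℕ} (hL : ∀ r ∈ L, IsPos D r) (ho : T.OrthL L) {k : ℕ} (hk : k ≠ 0)
    (hr : (((S.xG F L : GL D.Idx F) : Matrix D.Idx D.Idx F) - 1).rank = k) :
    orderOf (S.xG F L) = 2 := by
  refine orderOf_eq_prime (by rw [pow_two, S.xG_sq hL ho]) fun e => hk ?_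
  rw [← hr, e, Units.val_one, sub_self, Matrix.rank_zero]

omit [CharP F 2] in
theorem coe_xG (L : List ℕ) :
    ((S.xG F L : GL D.Idx F) : Matrix D.Idx D.Idx F) = (L.map fun r => D.x F r 1).prod := by
  induction L with
  | nil => simp [S.xG_nil]
  | cons r L ih => rw [S.xG_cons, Units.val_mul, ih, List.map_cons, List.prod_cons, S.good.full.coe_x']

end CfsgLib.Chev.Tab.SL
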