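import Cfsg.Agent.Chev.InvolTwoMask

/-!
Ranks of `y - 1` restricted to a coordinate subspace stable under the group, certified by bit masks;
these are invariants of conjugacy.
-/

set_option autoImplicit false
set_option linter.style.haveILetI false

namespace CfsgLib.Chev

open Cfsg.Lie Matrix
open scoped MatrixGroups

namespace Tab

variable {D : ChevalleyDatum}

/-- The rank of `y - 1` on the coordinates `Wl` is the length of `piv`. -/
def chkRankOn (T : Tab D) (L Wl piv cols comb arow rows : List ℕ) : Bool :=
  L.all (fun r => Nat.blt r D.nroots) && piv.all (fun c => Wl.contains c) &&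
  Wl.all (fun c => Nat.blt c (dim D)) &&
  Nat.beq cols.length piv.length && Nat.beq arow.length (dim D) &&
  allBelow (fun j => Nat.beq (cols.getD j 0) (T.mCol L (piv.getD j 0))) piv.length &&
  allBelow (fun i => Nat.beq (T.mCol L (Wl.getD i 0)) (xorSel cols (comb.getD i 0))) Wl.length &&
  allBelow (fun x => allBelow (fun j =>
    (arow.getD x 0).testBit j == (cols.getD j 0).testBit x) piv.length) (dim D) &&
  allBelow (fun i => allBelow (fun j =>
    (xorSel arow (rows.getD i 0)).testBit j == Nat.beq i j) piv.length) piv.length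

/-- The coordinate subspace is stable under every root element modulo two. -/
def chkStable (T : Tab D) (Wl : List ℕ) : Bool :=
  allBelow (fun r => Wl.all fun b => [0, 1, 2, 3].all fun m =>
    (T.colP m r b).all fun p => decide (p.2 % 2 = 0) || Wl.contains p.1) D.nroots

namespace Good

variable {T : Tab D} (G : T.Good) {F : Type*} [Field F] [CharP F 2]
include G

/-- The product of the `x_r(1)`. -/
noncomputable def xOne (_G : T.Good) (F : Type*) [Field F] (L : List ℕ) : GL D.Idx F :=
  (L.map fun r => _G.full.x r (1 : F)).prod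

theorem bitF_xMask' {r : ℕ} (x y : D.Idx) :
    bitF F ((T.xMask r (code y)).testBit (code x)) = T.X F r 1 x y := by
  rw [xMask, bitF_vecMask, coeff_append, coeff_append, coeff_append]
  simp only [X, Finset.sum_range_succ, Finset.sum_range_zero, zero_add, Matrix.add_apply,
    Matrix.smul_apply, Matrix.map_apply, one_pow, one_smul, Int.cast_add]
  rw [T.colP_eq 0 r (by omega) x y, T.colP_eq 1 r (by omega) x y, T.colP_eq 2 r (by omega) x y,
    T.colP_eq 3 r (by omega) x y]
  ring

theorem bitF_wMask' {L : List ℕ} (hL : ∀ r ∈ L, r < D.nroots) (x y : D.Idx) :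
    bitF F ((T.wMask L (code y)).testBit (code x)) =
      ((G.xOne F L : GL D.Idx F) : Matrix D.Idx D.Idx F) x y := by
  induction L generalizing x with
  | nil =>
    simp only [wMask, List.foldr_nil, xOne, List.map_nil, List.prod_nil, Units.val_one,
      Matrix.one_apply, Nat.testBit_two_pow, bitF, decide_eq_true_eq]
    exact if_congr ⟨fun e => (code_injective e).symm, fun e => e ▸ rfl⟩ rfl rfl
  | cons r L ih =>
    obtain ⟨hr, hL'⟩ := List.forall_mem_cons.mp hL
    have e : T.wMask (r :: L) (code y) = T.appMask r (T.wMask L (code y)) := rfl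
    have e2 : G.xOne F (r :: L) = G.full.x r 1 * G.xOne F L := by simp [xOne]
    rw [e, bitF_appMask, e2, Units.val_mul, Matrix.mul_apply, G.full.coe_x hr,
      ← sum_code (D := D) (fun j => bitF F
        ((cond ((T.wMask L (code y)).testBit j) (T.xMask r j) 0).testBit (code x)))]
    refine Finset.sum_congr rfl fun z _ => ?_
    rw [← G.bitF_xMask' (r := r) x z, ← ih hL' z, ← bitF_and]
    congr 1
    cases (T.wMask L (code y)).testBit (code z) <;> simp

theorem bitF_mCol' {L : List ℕ} (hL : ∀ r ∈ L, r < D.nroots) (x y : D.Idx) :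
    bitF F ((T.mCol L (code y)).testBit (code x)) =
      (((G.xOne F L : GL D.Idx F) : Matrix D.Idx D.Idx F) - 1) x y := by
  rw [mCol, show (Nat.xor (T.wMask L (code y)) (2 ^ code y)).testBit (code x) =
    Bool.xor ((T.wMask L (code y)).testBit (code x)) ((2 ^ code y).testBit (code x)) from
      Nat.testBit_xor _ _ _, bitF_xor, G.bitF_wMask' hL, Matrix.sub_apply, CharTwo.sub_eq_add]
  congr 1
  simp only [Nat.testBit_two_pow, bitF, decide_eq_true_eq, Matrix.one_apply]
  exact if_congr ⟨fun e => (code_injective e).symm, fun e => e ▸ rfl⟩ rfl rfl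

theorem bitF_xorSel' (i : ℕ) : ∀ (cs : List ℕ) (m : ℕ),
    bitF F ((xorSel cs m).testBit i) =
      ∑ j : Fin cs.length, bitF F (m.testBit j) * bitF F ((cs.getD j 0).testBit i) := by
  intro cs
  induction cs with
  | nil => intro m; simp [xorSel, bitF]
  | cons c cs ih =>
    intro m
    simp only [List.length_cons]
    rw [Fin.sum_univ_succ]
    simp only [Fin.val_zero, Fin.val_succ, List.getD_cons_zero, List.getD_cons_succ,
      Nat.testBit_succ, Nat.testBit_zero]
    rw [← ih (m / 2)]
    by_cases h : m % 2 = 1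
    · simp only [xorSel, Tab.beq_true h, cond_true]
      rw [show (Nat.xor c (xorSel cs (m / 2))).testBit i =
        Bool.xor (c.testBit i) ((xorSel cs (m / 2)).testBit i) from Nat.testBit_xor _ _ _,
        bitF_xor]
      simp [bitF, h]
    · simp only [xorSel, Tab.beq_false h, cond_false]
      simp [bitF, h]

omit G [CharP F 2] in
/-- The inclusion of the coordinates in `Wl`. -/
def incW (D : ChevalleyDatum) (F : Type*) [Field F] (Wl : List ℕ) :
    Matrix D.Idx (Fin Wl.length) F :=
  Matrix.of fun y j => if code y = Wl.getD j 0 then 1 else 0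

omit G [CharP F 2] in
theorem mul_incW {n : Type*} [Fintype n] {Wl : List ℕ} (M : Matrix n D.Idx F) (x : n)
    (j : Fin Wl.length) {y0 : D.Idx} (hy0 : code y0 = Wl.getD j 0) :
    (M * incW D F Wl) x j = M x y0 := by
  rw [Matrix.mul_apply, Finset.sum_eq_single y0]
  · simp [incW, hy0]
  · intro y _ hy
    simp only [incW, Matrix.of_apply]
    rw [if_neg (fun e => hy (code_injective (e.trans hy0.symm))), mul_zero]
  · intro hc; exact absurd (Finset.mem_univ _) hc

theorem rank_on {L Wl piv cols comb arow rows : List ℕ}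
    (h : T.chkRankOn L Wl piv cols comb arow rows = true) :
    ((((G.xOne F L : GL D.Idx F) : Matrix D.Idx D.Idx F) - 1) * incW D F Wl).rank = piv.length := by
  simp only [chkRankOn, Bool.and_eq_true, List.all_eq_true, Nat.blt_eq,
    allBelow_iff, Nat.beq_eq, beq_iff_eq, List.contains_iff_mem] at h
  obtain ⟨⟨⟨⟨⟨⟨⟨⟨hL, hp⟩, hW⟩, hlc⟩, hla⟩, hcols⟩, hup⟩, harow⟩, hlow⟩ := h
  set M := (((G.xOne F L : GL D.Idx F) : Matrix D.Idx D.Idx F) - 1) with hM
  let A : Matrix D.Idx (Fin piv.length) F :=
    Matrix.of fun x j => bitF F ((cols.getD j 0).testBit (code x))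
  let B : Matrix (Fin piv.length) (Fin Wl.length) F :=
    Matrix.of fun j i => bitF F ((comb.getD i 0).testBit j)
  let C : Matrix (Fin piv.length) D.Idx F :=
    Matrix.of fun i x => bitF F ((rows.getD i 0).testBit (code x))
  have hAB : M * incW D F Wl = A * B := by
    ext x i
    have hlt : Wl.getD i 0 < dim D := by
      rw [List.getD_eq_getElem _ _ i.isLt]; exact hW _ (List.getElem_mem _)
    obtain ⟨y0, hy0⟩ := exists_code (D := D) hlt
    rw [mul_incW _ x i hy0, hM, ← G.bitF_mCol' hL, hy0, hup _ i.isLt, G.bitF_xorSel',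
      Matrix.mul_apply,
      Fin.sum_univ_eq_sum_range (fun j => bitF F ((comb.getD i 0).testBit j) *
        bitF F ((cols.getD j 0).testBit (code x))), hlc,
      ← Fin.sum_univ_eq_sum_range (fun j => bitF F ((comb.getD i 0).testBit j) *
        bitF F ((cols.getD j 0).testBit (code x)))]
    refine Finset.sum_congr rfl fun j _ => ?_
    simp only [A, B, Matrix.of_apply, mul_comm]
  let P : Matrix (Fin Wl.length) (Fin piv.length) F :=
    Matrix.of fun i j => if i.val = Wl.idxOf (piv.getD j 0) then 1 else 0
  have hAP : A = M * incW D F Wl * P := by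
    ext x j
    have hmem : piv.getD j 0 ∈ Wl := by
      rw [List.getD_eq_getElem _ _ j.isLt]; exact hp _ (List.getElem_mem _)
    have hi : Wl.idxOf (piv.getD j 0) < Wl.length := List.idxOf_lt_length_iff.mpr hmem
    obtain ⟨y0, hy0⟩ := exists_code (D := D) (hW _ hmem)
    have hget : Wl.getD (⟨_, hi⟩ : Fin Wl.length).val 0 = piv.getD j 0 := by
      show Wl.getD (Wl.idxOf (piv.getD j 0)) 0 = _
      rw [List.getD_eq_getElem _ _ hi, List.getElem_idxOf]
    rw [Matrix.mul_apply, Finset.sum_eq_single (⟨_, hi⟩ : Fin Wl.length)]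
    · rw [mul_incW _ x _ (hy0.trans hget.symm)]
      simp only [A, P, Matrix.of_apply, if_true, mul_one, hM, ← G.bitF_mCol' hL, hy0,
        hcols j j.isLt]
    · intro i _ hne
      simp only [P, Matrix.of_apply]
      rw [if_neg (fun e => hne (Fin.ext e)), mul_zero]
    · intro hc; exact absurd (Finset.mem_univ _) hc
  have hCA : C * A = 1 := by
    ext i j
    rw [Matrix.mul_apply]
    simp only [A, C, Matrix.of_apply]
    rw [sum_code (D := D) (fun b => bitF F ((rows.getD i 0).testBit b) *
      bitF F ((cols.getD j 0).testBit b))]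
    have e := G.bitF_xorSel' (F := F) (j : ℕ) arow (rows.getD i 0)
    rw [hlow i i.isLt j j.isLt, Fin.sum_univ_eq_sum_range (fun b =>
      bitF F ((rows.getD i 0).testBit b) * bitF F ((arow.getD b 0).testBit j)), hla] at e
    rw [Finset.sum_congr rfl fun b hb => by
      rw [← harow b (Finset.mem_range.mp hb) j j.isLt], ← e, Matrix.one_apply]
    simp [bitF, Fin.ext_iff, Nat.beq_eq]
  refine le_antisymm ?_ ?_
  · rw [hAB]
    exact ((Matrix.rank_mul_le_left A B).trans (Matrix.rank_le_card_width A)).trans
      (Fintype.card_fin _).le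
  · have h1 : (1 : Matrix (Fin piv.length) (Fin piv.length) F).rank = piv.length := by
      rw [Matrix.rank_one, Fintype.card_fin]
    calc piv.length = (C * A).rank := by rw [hCA, h1]
      _ ≤ A.rank := Matrix.rank_mul_le_right _ _
      _ ≤ (M * incW D F Wl).rank := by rw [hAP]; exact Matrix.rank_mul_le_left _ _

omit [CharP F 2] in
theorem x_stable [CharP F 2] {Wl : List ℕ} (h : T.chkStable Wl = true) {r : ℕ} (hr : r < D.nroots)
    (t : F) {x y : D.Idx} (hy : code y ∈ Wl) (hx : code x ∉ Wl) :
    ((G.full.x r t : GL D.Idx F) : Matrix D.Idx D.Idx F) x y = 0 := by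
  simp only [chkStable, allBelow_iff, List.all_eq_true, Bool.or_eq_true, decide_eq_true_eq,
    List.contains_iff_mem] at h
  have h20 : ((2 : ℤ) : F) = 0 := by exact_mod_cast CharP.cast_eq_zero F 2
  have key : ∀ m ∈ [0, 1, 2, 3], ((coeff (T.colP m r (code y)) (code x) : ℤ) : F) = 0 := by
    intro m hm
    have hc := h r hr _ hy m hm
    generalize T.colP m r (code y) = v at hc
    induction v with
    | nil => simp [coeff_nil]
    | cons p v ih =>
      rw [coeff_cons, Int.cast_add, ih fun q hq => hc q (List.mem_cons_of_mem _ hq), add_zero]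
      split_ifs with he
      · rcases hc p (List.mem_cons_self ..) with h' | h'
        · obtain ⟨k, hk⟩ := Int.dvd_of_emod_eq_zero h'
          rw [hk, Int.cast_mul, h20, zero_mul]
        · exact absurd (he ▸ h') hx
      · exact Int.cast_zero
  rw [G.full.coe_x hr]
  simp only [X, Finset.sum_range_succ, Finset.sum_range_zero, zero_add, Matrix.add_apply,
    Matrix.smul_apply, Matrix.map_apply]
  rw [← T.colP_eq 0 r (by omega) x y, ← T.colP_eq 1 r (by omega) x y,
    ← T.colP_eq 2 r (by omega) x y, ← T.colP_eq 3 r (by omega) x y, key 0 (by simp),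
    key 1 (by simp), key 2 (by simp), key 3 (by simp)]
  simp

theorem mem_stable {Wl : List ℕ} (h : T.chkStable Wl = true) {g : GL D.Idx F}
    (hg : g ∈ D.group F) : ∀ x y : D.Idx, code y ∈ Wl → code x ∉ Wl →
      (g : Matrix D.Idx D.Idx F) x y = 0 := by
  have key : ∀ g : GL D.Idx F, g ∈ D.group F →
      (∀ x y : D.Idx, code y ∈ Wl → code x ∉ Wl → (g : Matrix D.Idx D.Idx F) x y = 0) ∧
      (∀ x y : D.Idx, code y ∈ Wl → code x ∉ Wl →
        ((g⁻¹ : GL D.Idx F) : Matrix D.Idx D.Idx F) x y = 0) := by
    have hone : ∀ x y : D.Idx, code y ∈ Wl → code x ∉ Wl → (1 : Matrix D.Idx D.Idx F) x y = 0 :=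
      fun x y hy hx => Matrix.one_apply_ne fun e => hx (e ▸ hy)
    have hmul : ∀ A B : Matrix D.Idx D.Idx F,
        (∀ x y : D.Idx, code y ∈ Wl → code x ∉ Wl → A x y = 0) →
        (∀ x y : D.Idx, code y ∈ Wl → code x ∉ Wl → B x y = 0) →
        ∀ x y : D.Idx, code y ∈ Wl → code x ∉ Wl → (A * B) x y = 0 := by
      intro A B hA hB x y hy hx
      rw [Matrix.mul_apply]
      refine Finset.sum_eq_zero fun z _ => ?_
      by_cases hz : code z ∈ Wl
      · rw [hA x z hz hx, zero_mul]
      · rw [hB z y hy hz, mul_zero]
    intro g hg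
    induction hg using Subgroup.closure_induction with
    | mem g hg =>
      obtain ⟨r, t, e⟩ := hg
      by_cases hr : (r : ℕ) < D.nroots
      · have hx : g = G.full.x r t := Units.ext (e.trans ((G.full.cert.xMat_eq r t).trans (G.full.coe_x hr t).symm))
        subst hx
        rw [G.full.x_inv]
        exact ⟨fun x y hy hx => G.x_stable h hr t hy hx, fun x y hy hx => G.x_stable h hr _ hy hx⟩
      · exact absurd r.isLt hr
    | one => rw [inv_one, Units.val_one]; exact ⟨hone, hone⟩
    | mul a b _ _ ha hb =>
      rw [_root_.mul_inv_rev, Units.val_mul, Units.val_mul]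
      exact ⟨hmul _ _ ha.1 hb.1, hmul _ _ hb.2 ha.2⟩
    | inv a _ ha => rw [inv_inv]; exact ⟨ha.2, ha.1⟩
  exact (key g hg).1

/-- The restricted rank is an invariant of conjugacy. -/
theorem rank_on_conj {Wl : List ℕ} (hW : ∀ c ∈ Wl, c < dim D) (h : T.chkStable Wl = true)
    {c g k : GL D.Idx F} (hc : c ∈ D.group F) (e : c * g * c⁻¹ = k) :
    (((k : Matrix D.Idx D.Idx F) - 1) * incW D F Wl).rank =
      (((g : Matrix D.Idx D.Idx F) - 1) * incW D F Wl).rank := by
  have half : ∀ c g k : GL D.Idx F, c ∈ D.group F → c * g * c⁻¹ = k →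
      (((k : Matrix D.Idx D.Idx F) - 1) * incW D F Wl).rank ≤
        (((g : Matrix D.Idx D.Idx F) - 1) * incW D F Wl).rank := by
    intro c g k hc e
    classical
    have hst := G.mem_stable h (inv_mem hc)
    -- the inclusion intertwines with the restriction
    let sel : Matrix (Fin Wl.length) D.Idx F :=
      Matrix.of fun i y => if Wl.idxOf (code y) = i.val then 1 else 0
    have hQ : ((c⁻¹ : GL D.Idx F) : Matrix D.Idx D.Idx F) * incW D F Wl =
        incW D F Wl * (sel * (((c⁻¹ : GL D.Idx F) : Matrix D.Idx D.Idx F) * incW D F Wl)) := by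
      rw [← Matrix.mul_assoc (incW D F Wl)]
      ext x j
      have hlt : Wl.getD j 0 < dim D := by
        rw [List.getD_eq_getElem _ _ j.isLt]; exact hW _ (List.getElem_mem _)
      obtain ⟨y0, hy0⟩ := exists_code (D := D) hlt
      rw [mul_incW _ x j hy0]
      by_cases hx : code x ∈ Wl
      · rw [Matrix.mul_apply (M := incW D F Wl * sel), Finset.sum_eq_single x]
        · have hi : Wl.idxOf (code x) < Wl.length := List.idxOf_lt_length_iff.mpr hx
          rw [mul_incW _ x j hy0, Matrix.mul_apply, Finset.sum_eq_single (⟨_, hi⟩ : Fin Wl.length)]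
          · simp only [incW, sel, Matrix.of_apply]
            rw [if_pos (show code x = Wl.getD (Wl.idxOf (code x)) 0 by
              rw [List.getD_eq_getElem _ _ hi, List.getElem_idxOf])]
            simp
          · intro i _ hne
            simp only [incW, sel, Matrix.of_apply]
            by_cases h1 : Wl.idxOf (code x) = i.val
            · exact absurd (Fin.ext h1.symm) hne
            · rw [if_neg h1, mul_zero]
          · intro h'; exact absurd (Finset.mem_univ _) h'
        · intro z _ hz
          rw [Matrix.mul_apply, Finset.sum_eq_zero, zero_mul]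
          intro i _
          simp only [incW, sel, Matrix.of_apply]
          split_ifs with h1 h2
          · exfalso
            apply hz
            have hz' : code z ∈ Wl := List.idxOf_lt_length_iff.mp (h2.symm ▸ i.isLt)
            apply code_injective
            rw [h1, ← h2, List.getD_eq_getElem _ _ (List.idxOf_lt_length_iff.mpr hz'),
              List.getElem_idxOf]
          all_goals simp
        · intro h'; exact absurd (Finset.mem_univ _) h'
      · rw [hst x y0 (by rw [hy0, List.getD_eq_getElem _ _ j.isLt]; exact List.getElem_mem _) hx,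
          Matrix.mul_apply, Finset.sum_eq_zero]
        intro z _
        rw [Matrix.mul_apply, Finset.sum_eq_zero, zero_mul]
        intro i _
        simp only [incW, Matrix.of_apply]
        rw [if_neg, zero_mul]
        intro e'
        apply hx
        rw [e', List.getD_eq_getElem _ _ i.isLt]
        exact List.getElem_mem _
    have e1 : (k : Matrix D.Idx D.Idx F) - 1 = (c : Matrix D.Idx D.Idx F) *
        ((g : Matrix D.Idx D.Idx F) - 1) * ((c⁻¹ : GL D.Idx F) : Matrix D.Idx D.Idx F) := by
      rw [← e, Units.val_mul, Units.val_mul, Matrix.mul_sub, Matrix.sub_mul, mul_one, Units.mul_inv]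
    rw [e1, Matrix.mul_assoc, hQ, ← Matrix.mul_assoc,
      Matrix.mul_assoc (c : Matrix D.Idx D.Idx F)]
    exact (Matrix.rank_mul_le_left _ _).trans (Matrix.rank_mul_le_right _ _)
  refine le_antisymm (half c g k hc e) (half c⁻¹ k g (inv_mem hc) ?_)
  rw [← e]; group

end Good

end Tab

end CfsgLib.Chev
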