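import Cfsg.Agent.Chev.ReeTorusA

/-!
The elements of the Borel subgroup of the small Ree group by their orders.
-/

set_option autoImplicit false
set_option linter.style.haveILetI false

namespace CfsgLib.Chev.G2Tw

open Cfsg.Lie

namespace Ctx

variable {K : Type*} [Field K] [Fintype K] {m : ℕ} (C : Ctx K m)
include C

theorem units_sq_cases {s : Kˣ} (hs : s ^ 2 = 1) : s = 1 ∨ s = -1 := by
  have h : (s : K) ^ 2 = 1 := by rw [← Units.val_pow_eq_pow_val, hs, Units.val_one]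
  rcases sq_eq_one_iff.mp h with h | h
  · exact Or.inl (Units.ext h)
  · exact Or.inr (Units.ext h)

theorem inv_neg_one : (-1 : Kˣ)⁻¹ = -1 := by
  rw [inv_eq_iff_mul_eq_one, neg_mul_neg, one_mul]

theorem uh_pow {u : RG K m} (hu : u ∈ C.UG) (s : Kˣ) (n : ℕ) :
    ∃ v ∈ C.UG, (u * C.tG s) ^ n = v * C.tG (s ^ n) := by
  induction n with
  | zero => exact ⟨1, one_mem _, by simp⟩
  | succ n ih =>
    obtain ⟨v, hv, e⟩ := ih
    refine ⟨v * (C.tG (s ^ n) * u * (C.tG (s ^ n))⁻¹), mul_mem hv (C.tG_conj_UG _ hu), ?_⟩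
    rw [pow_succ, e, pow_succ s, map_mul]
    group

theorem uG_pow_three_eq_one {t u v : K} : C.uG t u v ^ 3 = 1 ↔ t = 0 := by
  rw [← C.cube_eq_one_iff t u v]
  exact ⟨fun h => by simpa [coe_uG] using congrArg Subtype.val h,
    fun h => Subtype.ext (by simpa [coe_uG] using h)⟩

theorem orderOf_UG {w : RG K m} (hw : w ∈ C.UG) :
    orderOf w = 1 ∨ orderOf w = 3 ∨ (orderOf w = 9 ∧ w ^ 3 ≠ 1) := by
  haveI : Fact (Nat.Prime 3) := ⟨Nat.prime_three⟩
  obtain ⟨t, u, v, rfl⟩ := C.mem_UG.mp hw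
  by_cases h1 : C.uG t u v = 1
  · exact Or.inl (by rw [h1, orderOf_one])
  by_cases h3 : C.uG t u v ^ 3 = 1
  · exact Or.inr (Or.inl (orderOf_eq_prime h3 h1))
  refine Or.inr (Or.inr ⟨?_, h3⟩)
  obtain ⟨t', u', v', e⟩ := C.mem_UG.mp (pow_mem (C.uG_mem t u v) 3)
  have ht' : t' = 0 := by
    have e1 := congrArg Subtype.val e
    simp only [SubmonoidClass.coe_pow, coe_uG] at e1
    rw [pow_succ, pow_two, U, C.P6_law, C.P6_law] at e1
    obtain ⟨-, h2, -⟩ := C.P6_inj e1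
    rw [← h2]
    linear_combination t * C.three_eq
  refine orderOf_eq_prime_pow (p := 3) (n := 1) (by rwa [pow_one]) ?_
  rw [pow_succ, pow_one, pow_mul, e, C.uG_pow_three_eq_one, ht']

theorem tG_eq_one {s : Kˣ} (h : C.tG s = 1) : s = 1 := C.tG_inj (h.trans (map_one _).symm)

/-- The order of the torus part divides the order. -/
theorem pow_dvd {u : RG K m} (hu : u ∈ C.UG) (s : Kˣ) :
    s ^ orderOf (u * C.tG s) = 1 := by
  obtain ⟨v, hv, e⟩ := C.uh_pow hu s (orderOf (u * C.tG s))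
  rw [pow_orderOf_eq_one] at e
  refine ((C.uh_unique (u := 1) (s := 1) (one_mem _) hv ?_).2).symm
  rw [map_one, one_mul]
  exact e

/-- Elements outside `U` and outside `U a` are conjugate into the torus. -/
theorem conj_into_torus {u : RG K m} (hu : u ∈ C.UG) {s : Kˣ} (hs : s ^ 2 ≠ 1) :
    ∃ v ∈ C.UG, u * C.tG s = v * C.tG s * v⁻¹ := by
  classical
  let f : C.UG → C.UG := fun v =>
    ⟨v * (C.tG s * (v : RG K m)⁻¹ * (C.tG s)⁻¹), mul_mem v.2 (C.tG_conj_UG s (inv_mem v.2))⟩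
  have hf : Function.Injective f := by
    intro v w e
    have e' : (v : RG K m) * (C.tG s * (v : RG K m)⁻¹ * (C.tG s)⁻¹) =
        w * (C.tG s * (w : RG K m)⁻¹ * (C.tG s)⁻¹) := congrArg Subtype.val e
    have hc : Commute (C.tG s) ((w : RG K m)⁻¹ * v) := by
      refine mul_inv_eq_iff_eq_mul.mp ?_
      calc C.tG s * ((w : RG K m)⁻¹ * v) * (C.tG s)⁻¹
          = (w : RG K m)⁻¹ * (w * (C.tG s * (w : RG K m)⁻¹ * (C.tG s)⁻¹)) *
            (C.tG s * v * (C.tG s)⁻¹) := by group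
        _ = (w : RG K m)⁻¹ * (v * (C.tG s * (v : RG K m)⁻¹ * (C.tG s)⁻¹)) *
            (C.tG s * v * (C.tG s)⁻¹) := by rw [e']
        _ = _ := by group
    exact Subtype.ext (inv_mul_eq_one.mp
      (C.eq_one_of_commute hs (mul_mem (inv_mem w.2) v.2) hc)).symm
  obtain ⟨v, hv⟩ := Finite.injective_iff_surjective.mp hf ⟨u, hu⟩
  refine ⟨v, v.2, ?_⟩
  have e : (v : RG K m) * (C.tG s * (v : RG K m)⁻¹ * (C.tG s)⁻¹) = u := congrArg Subtype.val hv
  rw [← e]
  group

theorem orderOf_torus_part {u : RG K m} (hu : u ∈ C.UG) {s : Kˣ} (hs : s ^ 2 ≠ 1) :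
    orderOf (u * C.tG s) = orderOf s := by
  obtain ⟨v, -, e⟩ := C.conj_into_torus hu hs
  rw [e, ← MulAut.conj_apply, show orderOf (MulAut.conj v (C.tG s)) = orderOf (C.tG s) from
    orderOf_injective (MulAut.conj v).toMonoidHom (MulAut.conj v).injective _,
    orderOf_injective C.tG C.tG_inj]

theorem orderOf_tG_ne {s : Kˣ} : ¬ 3 ∣ orderOf s := fun h => by
  have h1 := h.trans (orderOf_dvd_natCard s)
  rw [C.card_units] at h1
  have h3 : 3 ∣ 3 ^ (2 * m + 1) := dvd_pow_self 3 (Nat.succ_ne_zero _)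
  have hle : 1 ≤ 3 ^ (2 * m + 1) := Nat.one_le_pow _ _ (by norm_num)
  generalize 3 ^ (2 * m + 1) = q at h1 h3 hle
  omega

/-- The square of an element of `U a`. -/
theorem sq_uh_neg (t u v : K) : ∃ u' v', (C.uG t u v * C.aG) ^ 2 = C.uG 0 u' v' ∧
    (C.uG 0 u' v' = 1 ↔ u = t ^ (3 * 3 ^ m + 1)) := by
  have e : (C.uG t u v * C.aG) ^ 2 = C.uG t u v * C.uG (-t) u (-v) := by
    rw [pow_two, ← C.aG_conj_uG, inv_eq_of_mul_eq_one_right C.aG_sq]
    group
  obtain ⟨t', u', v', e'⟩ := C.mem_UG.mp (mul_mem (C.uG_mem t u v) (C.uG_mem (-t) u (-v)))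
  have e1 := congrArg Subtype.val e'
  simp only [Subgroup.coe_mul, coe_uG] at e1
  simp only [U] at e1
  rw [C.P6_law] at e1
  obtain ⟨-, h2, -, -, h5, h6⟩ := C.P6_inj e1
  rw [add_neg_cancel] at h2
  subst h2
  refine ⟨u', v', e.trans e', ?_⟩
  have hp : ((-t) ^ 3 ^ m) ^ 3 = -(t ^ (3 * 3 ^ m)) := by
    rw [← pow_mul, mul_comm (3 ^ m) 3, ((by decide : Odd 3).mul Ctx.e_odd).neg_pow]
  rw [hp] at h5 h6
  have hkey : u' = t ^ (3 * 3 ^ m + 1) - u := by
    rw [← h5, pow_succ]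
    linear_combination u * C.three_eq
  constructor
  · intro h
    obtain ⟨-, hu0, -⟩ := C.uG_inj (h.trans C.uG_zero.symm)
    rw [hkey, sub_eq_zero] at hu0
    exact hu0.symm
  · intro h
    have hv' : v' = 0 := by
      rw [← h6, h, pow_succ]
      linear_combination (t ^ (3 * 3 ^ m) * t ^ 2) * C.three_eq
    rw [hkey, h, sub_self, hv', C.uG_zero]

open scoped Classical in
theorem orderOf_uh_neg (t u v : K) :
    orderOf (C.uG t u v * C.aG) = if u = t ^ (3 * 3 ^ m + 1) then 2 else 6 := by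
  haveI : Fact (Nat.Prime 2) := ⟨Nat.prime_two⟩
  obtain ⟨u', v', e, hiff⟩ := C.sq_uh_neg t u v
  have hne : C.uG t u v * C.aG ≠ 1 := fun h => C.neg_one_ne_one
    ((C.uh_unique (C.uG_mem t u v) (one_mem _) (s := -1) (s' := 1)
      (h.trans (by rw [map_one, one_mul]))).2)
  split_ifs with hu
  · exact orderOf_eq_prime (by rw [e]; exact hiff.mpr hu) hne
  · have h6 : (C.uG t u v * C.aG) ^ 6 = 1 := by
      rw [show (6 : ℕ) = 2 * 3 from rfl, pow_mul, e]
      exact C.uG_pow_three_eq_one.mpr rfl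
    have h2 : (C.uG t u v * C.aG) ^ 2 ≠ 1 := fun h => hu (hiff.mp (e.symm.trans h))
    have h3 : (C.uG t u v * C.aG) ^ 3 ≠ 1 := fun h => by
      have hd := C.pow_dvd (C.uG_mem t u v) (-1)
      have ho : orderOf (C.uG t u v * C.aG) ∣ 3 := orderOf_dvd_of_pow_eq_one h
      obtain ⟨k, hk⟩ := ho
      refine C.neg_one_ne_one ?_
      calc (-1 : Kˣ) = (-1) ^ 3 := by rw [(by decide : Odd 3).neg_one_pow]
        _ = ((-1 : Kˣ) ^ orderOf (C.uG t u v * C.tG (-1))) ^ k := by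
          rw [← pow_mul]; exact congrArg ((-1 : Kˣ) ^ ·) hk
        _ = 1 := by rw [hd, one_pow]
    have hd := Nat.le_of_dvd (by norm_num) (orderOf_dvd_of_pow_eq_one h6)
    have hd' := orderOf_dvd_of_pow_eq_one h6
    have hpos := orderOf_pos (C.uG t u v * C.aG)
    interval_cases ho : orderOf (C.uG t u v * C.aG) <;>
      first
        | rfl
        | omega
        | exact absurd (orderOf_eq_one_iff.mp ho) hne
        | exact absurd (by have := pow_orderOf_eq_one (C.uG t u v * C.aG); rwa [ho] at this) h2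
        | exact absurd (by have := pow_orderOf_eq_one (C.uG t u v * C.aG); rwa [ho] at this) h3

/-- Elements of `B` of order divisible by three and their cubes. -/
theorem three_part {b : RG K m} (hb : b ∈ C.BG) (h3 : 3 ∣ orderOf b) :
    b ^ (orderOf b / 3) ∈ C.UG ∧ b ^ (orderOf b / 3) ≠ 1 := by
  have hpos := orderOf_pos b
  have ho : orderOf (b ^ (orderOf b / 3)) = 3 := by
    rw [orderOf_pow_of_dvd (Nat.div_pos (Nat.le_of_dvd hpos h3) (by norm_num)).ne'
      (Nat.div_dvd_of_dvd h3), Nat.div_div_self h3 hpos.ne']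
  refine ⟨?_, fun e => by rw [e, orderOf_one] at ho; norm_num at ho⟩
  obtain ⟨u, hu, s, e⟩ := C.mem_BG_iff.mp (pow_mem hb (orderOf b / 3))
  have hs := C.pow_dvd hu s
  rw [← e, ho] at hs
  have hs1 : s = 1 := by
    have hd := orderOf_dvd_of_pow_eq_one hs
    rcases (Nat.dvd_prime Nat.prime_three).mp hd with h | h
    · exact orderOf_eq_one_iff.mp h
    · exact absurd (by rw [h]) (C.orderOf_tG_ne (s := s))
  rw [e, hs1, map_one, mul_one]
  exact hu

theorem mem_BG_of_three {b g : RG K m} (hb : b ∈ C.BG) (h3 : 3 ∣ orderOf b)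
    (hg : g * b * g⁻¹ ∈ C.BG) : g ∈ C.BG := by
  obtain ⟨h1, h2⟩ := C.three_part hb h3
  refine C.mem_BG_of_conj h1 h2 ?_
  have ho : orderOf (g * b * g⁻¹) = orderOf b :=
    orderOf_injective (MulAut.conj g).toMonoidHom (MulAut.conj g).injective b
  have := (C.three_part hg (ho ▸ h3)).1
  rwa [ho, conj_pow] at this

theorem normalizer_BG : Subgroup.normalizer (C.BG : Set (RG K m)) = C.BG := by
  refine le_antisymm (fun g hg => ?_) Subgroup.le_normalizer
  have hu : C.uG 0 1 0 ∈ C.BG := C.UG_le_BG (C.uG_mem 0 1 0)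
  refine C.mem_BG_of_three hu ?_ ((Subgroup.mem_normalizer_iff.mp hg _).mp hu)
  haveI : Fact (Nat.Prime 3) := ⟨Nat.prime_three⟩
  rw [orderOf_eq_prime (C.uG_pow_three_eq_one.mpr rfl)
    (fun e => one_ne_zero (C.uG_inj (e.trans C.uG_zero.symm)).2.1)]

/-- The coordinates on the Borel subgroup. -/
noncomputable def bParam : (K × K × K) × Kˣ ≃ C.BG :=
  Equiv.ofBijective (fun p => ⟨C.uG p.1.1 p.1.2.1 p.1.2.2 * C.tG p.2,
      C.mem_BG_iff.mpr ⟨_, C.uG_mem _ _ _, _, rfl⟩⟩) (by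
    refine ⟨fun p p' h => ?_, fun ⟨g, hg⟩ => ?_⟩
    · obtain ⟨h1, h2⟩ := C.uh_unique (C.uG_mem _ _ _) (C.uG_mem _ _ _) (congrArg Subtype.val h)
      obtain ⟨a, b, c⟩ := C.uG_inj h1
      exact Prod.ext (Prod.ext a (Prod.ext b c)) h2
    · obtain ⟨u, hu, s, rfl⟩ := C.mem_BG_iff.mp hg
      obtain ⟨a, b, c, rfl⟩ := C.mem_UG.mp hu
      exact ⟨((a, b, c), s), rfl⟩)

open scoped Classical in
/-- The order of an element of the Borel subgroup in coordinates. -/
noncomputable def bOrd (_C : Ctx K m) (p : (K × K × K) × Kˣ) : ℕ :=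
  if p.2 ^ 2 ≠ 1 then orderOf p.2
  else if p.2 = 1 then (if p.1.1 = 0 then (if p.1.2.1 = 0 ∧ p.1.2.2 = 0 then 1 else 3) else 9)
  else (if p.1.2.1 = p.1.1 ^ (3 * 3 ^ m + 1) then 2 else 6)

open scoped Classical in
theorem orderOf_bParam (p : (K × K × K) × Kˣ) :
    orderOf ((C.bParam p : RG K m)) = C.bOrd p := by
  obtain ⟨⟨t, u, v⟩, s⟩ := p
  show orderOf (C.uG t u v * C.tG s) = _
  rw [bOrd]
  split_ifs with h1 h2 h3 h4 h5
  · exact C.orderOf_torus_part (C.uG_mem t u v) h1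
  · obtain ⟨hu, hv⟩ := h4
    simp only at h2 h3 hu hv
    rw [h2, h3, hu, hv, C.uG_zero, map_one, one_mul, orderOf_one]
  · simp only at h2 h3 h4
    rw [h2, map_one, mul_one, h3]
    haveI : Fact (Nat.Prime 3) := ⟨Nat.prime_three⟩
    exact orderOf_eq_prime (C.uG_pow_three_eq_one.mpr rfl)
      fun e => h4 ⟨(C.uG_inj (e.trans C.uG_zero.symm)).2.1, (C.uG_inj (e.trans C.uG_zero.symm)).2.2⟩
  · simp only at h2 h3
    rw [h2, map_one, mul_one]
    rcases C.orderOf_UG (C.uG_mem t u v) with h | h | ⟨h, -⟩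
    · exact absurd (C.uG_inj ((orderOf_eq_one_iff.mp h).trans C.uG_zero.symm)).1 h3
    · exact absurd (C.uG_pow_three_eq_one.mp (h ▸ pow_orderOf_eq_one _)) h3
    · exact h
  · simp only [not_not] at h1 h2 h5 ⊢
    rcases C.units_sq_cases h1 with hs | hs
    · exact absurd hs h2
    · rw [hs, show C.tG (-1) = C.aG from rfl, C.orderOf_uh_neg, if_pos h5]
  · simp only [not_not] at h1 h2 ⊢
    rename_i h5
    simp only at h5
    rcases C.units_sq_cases h1 with hs | hs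
    · exact absurd hs h2
    · rw [hs, show C.tG (-1) = C.aG from rfl, C.orderOf_uh_neg, if_neg h5]

theorem card_BG_filter (P : ℕ → Prop) :
    Nat.card {g : RG K m // g ∈ C.BG ∧ P (orderOf g)} =
      Nat.card {p : (K × K × K) × Kˣ // P (C.bOrd p)} := by
  refine Nat.card_congr (Equiv.symm ?_)
  refine (Equiv.subtypeEquiv C.bParam (q := fun g : C.BG => P (orderOf (g : RG K m)))
    (fun p => by rw [C.orderOf_bParam])).trans ?_
  exact Equiv.subtypeSubtypeEquivSubtypeInter (fun g => g ∈ C.BG) (fun g => P (orderOf g))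

end Ctx

end CfsgLib.Chev.G2Tw
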