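import Cfsg.Agent.Chev.ReeTorusA
import Cfsg.Agent.Chev.EllipticData

/-!
The centralisers of elements of the small Ree group of prime order dividing `q² - q + 1`, through
the elliptic torus of the ambient `G₂(q)`.
-/

set_option autoImplicit false
set_option linter.style.haveILetI false

namespace CfsgLib.Chev.G2Tw

open Cfsg.Lie Tab Polynomial

namespace Ctx

variable {K : Type*} [Field K] [Fintype K] {m : ℕ} (C : Ctx K m)
include C

omit C in
/-- The order of the ambient cyclic torus. -/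
abbrev NN (m : ℕ) : ℕ := qq m ^ 2 - qq m + 1

omit [Field K] [Fintype K] C in
theorem NN_cast (R : Type*) [CommRing R] : ((NN m : ℕ) : R) = (qq m : R) ^ 2 - (qq m : R) + 1 := by
  rw [NN, Nat.cast_add, Nat.cast_sub (Nat.le_self_pow two_ne_zero _), Nat.cast_pow, Nat.cast_one]

omit [Field K] [Fintype K] C in
theorem prime_NN {p : ℕ} (hp : p.Prime) (h : p ∣ NN m) :
    7 ≤ p ∧ orderOf ((qq m : ℕ) : ZMod p) = 6 := by
  haveI := Fact.mk hp
  obtain ⟨-, -, -, s4, s5⟩ := separated (m := m) hp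
  have h3 : p ≠ 3 := fun e => (s4 e).2.2 h
  have h2 : p ≠ 2 := fun e => s5 e h
  haveI : NeZero ((6 : ℕ) : ZMod p) := ⟨fun e => by
    have := (CharP.cast_eq_zero_iff (ZMod p) p 6).mp e
    rw [show (6 : ℕ) = 2 * 3 from rfl] at this
    rcases hp.dvd_mul.mp this with e | e
    · exact h2 ((Nat.prime_dvd_prime_iff_eq hp Nat.prime_two).mp e)
    · exact h3 ((Nat.prime_dvd_prime_iff_eq hp Nat.prime_three).mp e)⟩
  have hroot : (cyclotomic 6 (ZMod p)).IsRoot ((qq m : ℕ) : ZMod p) := by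
    rw [IsRoot.def, cyclotomic_six]
    simp only [eval_add, eval_sub, eval_pow, eval_X, eval_one]
    rw [← NN_cast]
    exact (CharP.cast_eq_zero_iff (ZMod p) p _).mpr h
  have hord := (isRoot_cyclotomic_iff.mp hroot).eq_orderOf.symm
  refine ⟨?_, hord⟩
  have hne : ((qq m : ℕ) : ZMod p) ≠ 0 := fun e => by
    rw [e, orderOf_zero] at hord
    omega
  have hdvd : 6 ∣ p - 1 := hord ▸ ZMod.orderOf_dvd_card_sub_one hne
  have := hp.two_le
  have := Nat.le_of_dvd (by omega) hdvd
  omega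

theorem group_le : twistedG2 K (3 ^ m) ≤ chevG2.group K := fun _ hg => (C.grp_le_fix hg).1

theorem NN_dvd_six : ∀ ℓ : ℕ, ℓ.Prime → ℓ ∣ 6 →
    ¬ ℓ ^ 2 ∣ ((cyclotomic 6 ℤ).eval (Fintype.card K : ℤ)).natAbs := by
  intro ℓ hℓ hd h
  have e : ((cyclotomic 6 ℤ).eval (Fintype.card K : ℤ)).natAbs = NN m := by
    rw [C.hK, cyclotomic_six]
    simp only [eval_add, eval_sub, eval_pow, eval_X, eval_one]
    rw [show ((3 ^ (2 * m + 1) : ℕ) : ℤ) = ((qq m : ℕ) : ℤ) from rfl, ← NN_cast, Int.natAbs_natCast]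
  rw [e] at h
  have h7 := (prime_NN hℓ ((dvd_pow_self ℓ two_ne_zero).trans h)).1
  have := Nat.le_of_dvd (by norm_num) hd
  omega

/-- The centraliser of an element of prime order dividing `q² - q + 1`. -/
theorem torus_prime {p : ℕ} (hp : p.Prime) (h : p ∣ NN m) {x : RG K m} (hx : orderOf x = p) :
    IsCyclic (Subgroup.centralizer ({x} : Set (RG K m))) ∧
      Nat.card (Subgroup.centralizer ({x} : Set (RG K m))) ∣ NN m ∧
      ∀ (y : RG K m) (k : ℕ), y * x * y⁻¹ = x ^ k → (k : ZMod p) ^ 12 = 1 := by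
  haveI := Fact.mk hp
  obtain ⟨h7, hord⟩ := prime_NN hp h
  let ι : RG K m →* ↥(chevG2.group K) := Subgroup.inclusion C.group_le
  have hι : Function.Injective ι := Subgroup.inclusion_injective _
  have hW : Nat.card (good_G2.full.WJ (List.range chevG2.rank)) = 12 := by
    rw [good_G2.card_weyl G2Data.levels_ok]
    decide +kernel
  have hd : (6 : ℕ).totient = chevG2.rank := by decide +kernel
  obtain ⟨⟨hcyc, hcard⟩, haut⟩ := good_G2.centralizer_elliptic (F := K) InvolData.scG2 (r := p)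
    (d := 6) (by norm_num) hd (by rw [C.hK]; exact hord)
    (by
      rw [hW]
      intro hd12
      rw [show (12 : ℕ) = 2 ^ 2 * 3 by norm_num] at hd12
      rcases hp.dvd_mul.mp hd12 with e | e
      · have := Nat.le_of_dvd two_pos (hp.dvd_of_dvd_pow e); omega
      · have := Nat.le_of_dvd (by norm_num) e; omega)
    C.NN_dvd_six (ι x) (by rw [orderOf_injective ι hι, hx])
  let f : Subgroup.centralizer ({x} : Set (RG K m)) →*
      Subgroup.centralizer ({ι x} : Set ↥(chevG2.group K)) :=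
    (ι.comp (Subgroup.centralizer ({x} : Set (RG K m))).subtype).codRestrict _ fun g => by
      rw [Subgroup.mem_centralizer_singleton_iff]
      show ι g * ι x = ι x * ι g
      rw [← map_mul, ← map_mul, Subgroup.mem_centralizer_singleton_iff.mp g.2]
  have hf : Function.Injective f := fun a b e => Subtype.ext (hι (congrArg Subtype.val e))
  refine ⟨?_, ?_, fun y k hk => ?_⟩
  · haveI := hcyc
    exact isCyclic_of_injective f hf
  · have h1 := Subgroup.card_dvd_of_injective f hf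
    rwa [hcard, C.hK, cyclotomic_six,
      show ((eval ((3 ^ (2 * m + 1) : ℕ) : ℤ) (Polynomial.X ^ 2 - Polynomial.X + 1 : ℤ[X])).natAbs) = NN m by
        simp only [eval_add, eval_sub, eval_pow, eval_X, eval_one]
        rw [show ((3 ^ (2 * m + 1) : ℕ) : ℤ) = ((qq m : ℕ) : ℤ) from rfl, ← NN_cast,
          Int.natAbs_natCast]] at h1
  · have := haut (ι y) k (by rw [← map_mul, ← map_inv, ← map_mul, hk, map_pow])
    rwa [hW] at this

/-- The torus through an element of prime order. -/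
abbrev TT (_C : Ctx K m) (x : RG K m) : Subgroup (RG K m) :=
  Subgroup.centralizer ({x} : Set (RG K m))

theorem TT_comm {p : ℕ} (hp : p.Prime) (h : p ∣ NN m) {x : RG K m} (hx : orderOf x = p)
    {a b : RG K m} (ha : a ∈ C.TT x) (hb : b ∈ C.TT x) : a * b = b * a := by
  haveI := (C.torus_prime hp h hx).1
  exact congrArg Subtype.val (IsCyclic.commGroup.mul_comm (⟨a, ha⟩ : C.TT x) ⟨b, hb⟩)

theorem mem_TT_self (x : RG K m) : x ∈ C.TT x := Subgroup.mem_centralizer_singleton_iff.mpr rfl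

theorem orderOf_TT {p : ℕ} (hp : p.Prime) (h : p ∣ NN m) {x : RG K m} (hx : orderOf x = p)
    {y : RG K m} (hy : y ∈ C.TT x) : orderOf y ∣ NN m :=
  (Subgroup.orderOf_dvd_natCard _ hy).trans (C.torus_prime hp h hx).2.1

/-- The tori are trivial intersection subgroups. -/
theorem centralizer_TT {p : ℕ} (hp : p.Prime) (h : p ∣ NN m) {x : RG K m} (hx : orderOf x = p)
    {y : RG K m} (hy : y ∈ C.TT x) (hy1 : y ≠ 1) : C.TT y = C.TT x := by
  obtain ⟨ℓ, hℓ, hd⟩ := Nat.exists_prime_and_dvd (mt orderOf_eq_one_iff.mp hy1)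
  have hpos := orderOf_pos y
  have ho : orderOf (y ^ (orderOf y / ℓ)) = ℓ := by
    rw [orderOf_pow_of_dvd (Nat.div_pos (Nat.le_of_dvd hpos hd) hℓ.pos).ne'
      (Nat.div_dvd_of_dvd hd), Nat.div_div_self hd hpos.ne']
  have hℓN : ℓ ∣ NN m := hd.trans (C.orderOf_TT hp h hx hy)
  have hw : y ^ (orderOf y / ℓ) ∈ C.TT x := pow_mem hy _
  have hxw : x ∈ C.TT (y ^ (orderOf y / ℓ)) := Subgroup.mem_centralizer_singleton_iff.mpr
    (Subgroup.mem_centralizer_singleton_iff.mp hw).symm
  refine le_antisymm (fun g hg => ?_) fun g hg => Subgroup.mem_centralizer_singleton_iff.mpr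
    (C.TT_comm hp h hx hg hy)
  have hgw : g ∈ C.TT (y ^ (orderOf y / ℓ)) := Subgroup.mem_centralizer_singleton_iff.mpr
    ((show Commute g y from Subgroup.mem_centralizer_singleton_iff.mp hg).pow_right _).eq
  exact Subgroup.mem_centralizer_singleton_iff.mpr (C.TT_comm hℓ hℓN ho hgw hxw)

/-- The tori contain full Sylow subgroups. -/
theorem index_TT {p : ℕ} (hp : p.Prime) (h : p ∣ NN m) {x : RG K m} (hx : orderOf x = p)
    {ℓ : ℕ} (hℓ : ℓ.Prime) (hd : ℓ ∣ Nat.card (C.TT x)) : ¬ ℓ ∣ (C.TT x).index := by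
  haveI := Fact.mk hℓ
  obtain ⟨⟨w, hw⟩, hwo⟩ := exists_prime_orderOf_dvd_card' ℓ hd
  rw [Subgroup.orderOf_mk] at hwo
  have hℓN : ℓ ∣ NN m := hwo ▸ C.orderOf_TT hp h hx hw
  obtain ⟨S, hS⟩ := (IsPGroup.of_card (p := ℓ) (n := 1) (show Nat.card (Subgroup.zpowers w) = ℓ ^ 1
    by rw [Nat.card_zpowers, hwo, pow_one])).exists_le_sylow
  have hwS : w ∈ (S : Subgroup (RG K m)) := hS (Subgroup.mem_zpowers w)
  haveI : Nontrivial (S : Subgroup (RG K m)) := ⟨⟨⟨w, hwS⟩, 1, fun e => by
    rw [show w = 1 from congrArg Subtype.val e, orderOf_one] at hwo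
    exact hℓ.one_lt.ne hwo⟩⟩
  haveI : Nontrivial (Subgroup.center (S : Subgroup (RG K m))) := S.2.center_nontrivial
  obtain ⟨c, hc⟩ := exists_prime_orderOf_dvd_card' (G := Subgroup.center (S : Subgroup (RG K m))) ℓ
    (by
      obtain ⟨j, hj⟩ := IsPGroup.iff_card.mp
        (S.2.to_subgroup (Subgroup.center (S : Subgroup (RG K m))))
      rw [hj]
      refine dvd_pow_self ℓ fun e => ?_
      rw [e, pow_zero, Nat.card_eq_one_iff_unique] at hj
      exact not_subsingleton _ hj.1)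
  rw [← Subgroup.orderOf_coe, ← Subgroup.orderOf_coe] at hc
  have hSc : (S : Subgroup (RG K m)) ≤ C.TT ((c : (S : Subgroup (RG K m))) : RG K m) := fun g hg =>
    Subgroup.mem_centralizer_singleton_iff.mpr
      (congrArg Subtype.val (Subgroup.mem_center_iff.mp c.2 ⟨g, hg⟩))
  have hST : (S : Subgroup (RG K m)) ≤ C.TT w := fun g hg =>
    Subgroup.mem_centralizer_singleton_iff.mpr (C.TT_comm hℓ hℓN hc (hSc hg) (hSc hwS))
  rw [C.centralizer_TT hp h hx hw (fun e => by
    rw [e, orderOf_one] at hwo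
    exact hℓ.one_lt.ne hwo)] at hST
  exact fun hi => S.not_dvd_index (hi.trans (Subgroup.index_dvd_of_le hST))

theorem mem_normalizer_TT {p : ℕ} (hp : p.Prime) (h : p ∣ NN m) {x : RG K m} (hx : orderOf x = p)
    {a : RG K m} (ha : a ∈ C.TT x) (ha1 : a ≠ 1) {g : RG K m} (hg : g * a * g⁻¹ ∈ C.TT x) :
    g ∈ Subgroup.normalizer (C.TT x : Set (RG K m)) := by
  refine Subgroup.mem_normalizer_fintype fun b hb => ?_
  have hga1 : g * a * g⁻¹ ≠ 1 := fun e => ha1 (conj_eq_one_iff.mp e)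
  show g * b * g⁻¹ ∈ C.TT x
  rw [← C.centralizer_TT hp h hx hg hga1, Subgroup.mem_centralizer_singleton_iff]
  have := C.TT_comm hp h hx hb ha
  calc g * b * g⁻¹ * (g * a * g⁻¹) = g * (b * a) * g⁻¹ := by group
    _ = g * (a * b) * g⁻¹ := by rw [this]
    _ = _ := by group

theorem no_orderOf_four (g : RG K m) : orderOf g ≠ 4 := by
  intro hg
  haveI : Fact (Nat.Prime 2) := ⟨Nat.prime_two⟩
  obtain ⟨S, hS⟩ := (IsPGroup.of_card (p := 2) (n := 2) (show Nat.card (Subgroup.zpowers g) = 2 ^ 2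
    by rw [Nat.card_zpowers, hg]; norm_num)).exists_le_sylow
  have := orderOf_dvd_of_pow_eq_one ((pow_two g).trans
    ((C.sylow_two S).2 g (hS (Subgroup.mem_zpowers g))))
  rw [hg] at this
  norm_num at this

/-- The automizer of a torus has order dividing six. -/
theorem card_normalizer_TT {p : ℕ} (hp : p.Prime) (h : p ∣ NN m) {x : RG K m} (hx : orderOf x = p) :
    ∃ w, w ∣ 6 ∧ Nat.card (Subgroup.normalizer (C.TT x : Set (RG K m))) =
      Nat.card (C.TT x) * w := by
  classical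
  haveI := Fact.mk hp
  set N := Subgroup.normalizer (C.TT x : Set (RG K m))
  have hx1 : x ≠ 1 := fun e => hp.one_lt.ne' (by rw [← hx, e, orderOf_one])
  have hx' : x ∈ C.TT x := C.mem_TT_self x
  haveI := (C.torus_prime hp h hx).1
  have hk : ∀ g : N, ∃ k : ℕ, (g : RG K m) * x * (g : RG K m)⁻¹ = x ^ k := by
    intro g
    have hgx : (g : RG K m) * x * (g : RG K m)⁻¹ ∈ C.TT x :=
      (Subgroup.mem_normalizer_iff.mp g.2 x).mp hx'
    have hmem := ReeCount.mem_of_pow_card_of_le (X := C.TT x) (H := Subgroup.zpowers x)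
      (Subgroup.zpowers_le.mpr hx') hgx (by
        rw [Nat.card_zpowers, hx, conj_pow, ← hx, pow_orderOf_eq_one, mul_one, mul_inv_cancel])
    obtain ⟨k, hk⟩ := (isOfFinOrder_of_finite x).mem_powers_iff_mem_zpowers.mpr hmem
    exact ⟨k, hk.symm⟩
  choose k hk using hk
  have hunique : ∀ a b : ℕ, x ^ a = x ^ b → (a : ZMod p) = b := fun a b e => by
    rw [ZMod.natCast_eq_natCast_iff, ← hx]
    exact pow_eq_pow_iff_modEq.mp e
  have hk0 : ∀ g : N, (k g : ZMod p) ≠ 0 := fun g e => by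
    have : x ^ k g = 1 := by
      rw [← orderOf_dvd_iff_pow_eq_one, hx]
      exact (CharP.cast_eq_zero_iff (ZMod p) p _).mp e
    rw [← hk g] at this
    exact hx1 (conj_eq_one_iff.mp this)
  let φ : N →* (ZMod p)ˣ := MonoidHom.mk' (fun g => Units.mk0 _ (hk0 g)) fun a b => by
    refine Units.ext ?_
    show (k (a * b) : ZMod p) = (k a : ZMod p) * (k b : ZMod p)
    rw [← Nat.cast_mul]
    refine hunique _ _ ?_
    rw [← hk (a * b), Subgroup.coe_mul,
      show (a : RG K m) * b * x * ((a : RG K m) * b)⁻¹ =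
        (a : RG K m) * ((b : RG K m) * x * (b : RG K m)⁻¹) * (a : RG K m)⁻¹ by group,
      hk b, ← conj_pow, hk a, ← pow_mul]
  have hker : φ.ker = (C.TT x).subgroupOf N := by
    ext g
    rw [MonoidHom.mem_ker, Subgroup.mem_subgroupOf, Subgroup.mem_centralizer_singleton_iff]
    constructor
    · intro e
      have e1 : ((k g : ℕ) : ZMod p) = ((1 : ℕ) : ZMod p) := by
        rw [Nat.cast_one]; exact congrArg Units.val e
      rw [ZMod.natCast_eq_natCast_iff, ← hx, ← pow_eq_pow_iff_modEq, pow_one, ← hk g,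
        mul_inv_eq_iff_eq_mul] at e1
      exact e1
    · intro e
      refine Units.ext ?_
      show (k g : ZMod p) = 1
      rw [← Nat.cast_one]
      refine hunique _ _ ?_
      rw [pow_one, ← hk g, e, mul_inv_cancel_right]
  haveI : IsCyclic φ.range := inferInstance
  obtain ⟨u, hu⟩ := IsCyclic.exists_ofOrder_eq_natCard (α := φ.range)
  obtain ⟨g, hg⟩ : ∃ g, φ g = u := u.2
  have h12 : Nat.card φ.range ∣ 12 := by
    rw [← hu, ← Subgroup.orderOf_coe, ← hg, orderOf_dvd_iff_pow_eq_one]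
    refine Units.ext ?_
    show ((k g : ZMod p)) ^ 12 = 1
    exact (C.torus_prime hp h hx).2.2 _ _ (hk g)
  have h4 : ¬ 4 ∣ Nat.card φ.range := by
    intro h4
    rw [← hu, ← Subgroup.orderOf_coe, ← hg] at h4
    have hd : 4 ∣ orderOf (g : RG K m) := by
      rw [Subgroup.orderOf_coe]; exact h4.trans (orderOf_map_dvd φ g)
    have hpos := orderOf_pos (g : RG K m)
    refine C.no_orderOf_four ((g : RG K m) ^ (orderOf (g : RG K m) / 4)) ?_
    rw [orderOf_pow_of_dvd (Nat.div_pos (Nat.le_of_dvd hpos hd) (by norm_num)).ne'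
      (Nat.div_dvd_of_dvd hd), Nat.div_div_self hd hpos.ne']
  refine ⟨Nat.card φ.range, ?_, ?_⟩
  · have := Nat.le_of_dvd (by norm_num) h12
    interval_cases hn : Nat.card φ.range <;> simp_all (config := { decide := true })
  · rw [← Subgroup.card_mul_index φ.ker, Subgroup.index_ker, hker,
      Nat.card_congr (Subgroup.subgroupOfEquivOfLe Subgroup.le_normalizer).toEquiv]

end Ctx

end CfsgLib.Chev.G2Tw
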