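import Cfsg.Agent.Chev.ReeTorusN
import Cfsg.Agent.Chev.ReeTorusB
import Cfsg.Agent.Chev.ReeBorel

/-!
The classes of elements of the small Ree group by their orders, and their numbers.
-/

set_option autoImplicit false
set_option linter.style.haveILetI false
set_option linter.unusedSectionVars false

namespace CfsgLib.Chev.ReeCount

variable {G : Type*} [Group G]

/-- The number of elements of a given order in a cyclic subgroup. -/
theorem card_orderOf_cyclic [Finite G] (A : Subgroup G) [IsCyclic A] {i : ℕ} (hi : i ∣ Nat.card A) :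
    Nat.card {g : G // g ∈ A ∧ orderOf g = i} = Nat.totient i := by
  classical
  haveI := Fintype.ofFinite G
  rw [Nat.card_congr (Equiv.subtypeSubtypeEquivSubtypeInter (fun g => g ∈ A)
    (fun g => orderOf g = i)).symm,
    Nat.card_congr (Equiv.subtypeEquivRight (q := fun a : A => orderOf a = i) fun a => by
      rw [Subgroup.orderOf_coe]), Nat.card_eq_fintype_card, Fintype.card_subtype]
  rw [Nat.card_eq_fintype_card] at hi
  exact IsCyclic.card_orderOf_eq_totient hi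

end CfsgLib.Chev.ReeCount

namespace CfsgLib.Chev.G2Tw

open Cfsg.Lie
open CfsgLib.Linear.SmallSub (P2)

namespace Ctx

variable {K : Type*} [Field K] [Fintype K] {m : ℕ} (C : Ctx K m)
include C

/-! ### Arithmetic -/

theorem arith : qq m % 8 = 3 ∧ 3 ∣ qq m ∧ 3 ≤ qq m :=
  ⟨C.qq_mod, dvd_pow_self 3 (Nat.succ_ne_zero _), Nat.le_self_pow (Nat.succ_ne_zero _) 3⟩

omit [Field K] [Fintype K] C in
theorem NN_pos : 0 < NN m := Nat.succ_pos _

theorem NN_odd : ¬ 2 ∣ NN m := fun h => (separated (m := m) Nat.prime_two).2.2.2.2 rfl h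

theorem not_three_dvd_NN : ¬ 3 ∣ NN m := fun h => ((separated (m := m) Nat.prime_three).2.2.2.1 rfl).2.2 h

theorem card_RG'' : Nat.card (RG K m) = qq m ^ 3 * (qq m - 1) * ((qq m + 1) * NN m) := C.card_RG'

theorem cube_add_one : qq m ^ 3 + 1 = (qq m + 1) * NN m := by
  have h : qq m ≤ qq m ^ 2 := Nat.le_self_pow two_ne_zero _
  unfold NN
  zify [h]
  ring

/-! ### Sylow conjugation -/

theorem index_UG : ¬ 3 ∣ C.UG.index := by
  have e := C.UG.card_mul_index
  rw [C.card_UG, C.card_RG'', mul_assoc] at e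
  rw [Nat.eq_of_mul_eq_mul_left (pow_pos (pow_pos (by norm_num) _) 3) e]
  obtain ⟨a, b, c⟩ := (separated (m := m) Nat.prime_three).2.2.2.1 rfl
  exact Nat.prime_three.not_dvd_mul a (Nat.prime_three.not_dvd_mul b c)

theorem exists_conj_BG {g : RG K m} (h3 : 3 ∣ orderOf g) : ∃ x, x * g * x⁻¹ ∈ C.BG := by
  haveI : Fact (Nat.Prime 3) := ⟨Nat.prime_three⟩
  obtain ⟨x, hx⟩ := ReeCount.exists_conj_of_orderOf C.UG C.index_UG
    ((C.exists_prime_pow Nat.prime_three h3).trans (pow_one 3).symm)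
  refine ⟨x, C.mem_BG_of_conj hx ?_ ?_⟩
  · rw [Ne, conj_eq_one_iff, ← orderOf_eq_one_iff, C.exists_prime_pow Nat.prime_three h3]
    norm_num
  · rw [show x * g * x⁻¹ * (x * g ^ (orderOf g / 3) * x⁻¹) * (x * g * x⁻¹)⁻¹ =
      x * (g * g ^ (orderOf g / 3) * g⁻¹) * x⁻¹ by group,
      ((Commute.refl g).pow_right _).eq, mul_inv_cancel_right]
    exact hx

theorem index_HG {ℓ : ℕ} (hℓ : ℓ.Prime) (h2 : ℓ ≠ 2) (h : ℓ ∣ qq m - 1) : ¬ ℓ ∣ C.HG.index := by
  have e := C.HG.card_mul_index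
  rw [C.card_HG, C.card_RG'', mul_comm (qq m ^ 3), mul_assoc] at e
  have := C.arith
  rw [Nat.eq_of_mul_eq_mul_left (show 0 < qq m - 1 by omega) e]
  obtain ⟨s1, s2, -, s4, -⟩ := separated (m := m) hℓ
  exact hℓ.not_dvd_mul (fun hd => (s4 ((Nat.prime_dvd_prime_iff_eq hℓ Nat.prime_three).mp
    (hℓ.dvd_of_dvd_pow (hℓ.dvd_of_dvd_pow hd)))).1 h)
    (hℓ.not_dvd_mul (fun hd => h2 (s1 h hd)) (s2 h))

theorem exists_conj_HG {g : RG K m} {ℓ : ℕ} (hℓ : ℓ.Prime) (h2 : ℓ ≠ 2) (h : ℓ ∣ qq m - 1)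
    (hd : ℓ ∣ orderOf g) : ∃ x, x * g * x⁻¹ ∈ C.HG := by
  haveI := Fact.mk hℓ
  obtain ⟨x, hx⟩ := ReeCount.exists_conj_of_orderOf C.HG (C.index_HG hℓ h2 h)
    ((C.exists_prime_pow hℓ hd).trans (pow_one ℓ).symm)
  obtain ⟨s, hs⟩ := hx
  have hso : orderOf s = ℓ := by rw [← C.orderOf_tG, hs, C.orderOf_conj, C.exists_prime_pow hℓ hd]
  refine ⟨x, ?_⟩
  rw [← C.centralizer_tG (s := s) (fun e => h2 ?_), Subgroup.mem_centralizer_singleton_iff, hs]
  · rw [← MulAut.conj_apply, ← MulAut.conj_apply]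
    exact ((Commute.refl g).pow_right _).map (MulAut.conj x)
  · have := orderOf_dvd_of_pow_eq_one e
    rw [hso] at this
    exact (Nat.prime_dvd_prime_iff_eq hℓ Nat.prime_two).mp this

theorem exists_conj_WG (hm : 1 ≤ m) {g : RG K m} {ℓ : ℕ} (hℓ : ℓ.Prime)
    (h : ℓ ∣ (qq m + 1) / 4) (hd : ℓ ∣ orderOf g) : ∃ x, x * g * x⁻¹ ∈ C.WG := by
  haveI := Fact.mk hℓ
  obtain ⟨x, hx⟩ := ReeCount.exists_conj_of_orderOf C.AG (C.index_AG hℓ h)
    ((C.exists_prime_pow hℓ hd).trans (pow_one ℓ).symm)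
  refine ⟨x, ?_⟩
  rw [← C.centralizer_AG hm hx (fun e => hℓ.one_lt.ne ?_), Subgroup.mem_centralizer_singleton_iff]
  · rw [← MulAut.conj_apply, ← MulAut.conj_apply]
    exact ((Commute.refl g).pow_right _).map (MulAut.conj x)
  · rw [← C.exists_prime_pow hℓ hd, ← C.orderOf_conj x, e, orderOf_one]

theorem orderOf_BG_three {b : RG K m} (hb : b ∈ C.BG) (h3 : 3 ∣ orderOf b) :
    orderOf b = 3 ∨ orderOf b = 6 ∨ orderOf b = 9 := by
  classical
  obtain ⟨p, hp⟩ := C.bParam.surjective ⟨b, hb⟩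
  have e : orderOf b = C.bOrd p := by rw [← C.orderOf_bParam, hp]
  rw [e] at h3 ⊢
  simp only [bOrd] at h3 ⊢
  split_ifs at h3 ⊢ <;> first | omega | exact absurd h3 C.orderOf_tG_ne

theorem orderOf_WG_dvd {w : RG K m} (hw : w ∈ C.WG) : orderOf w ∣ (qq m + 1) / 2 := by
  obtain ⟨h8, -⟩ := C.arith
  have h : orderOf w ∣ (qq m + 1) / 4 * 4 := by
    rw [Nat.div_mul_cancel (Nat.dvd_of_mod_eq_zero (by omega)), ← C.card_WG]
    exact Subgroup.orderOf_dvd_natCard _ hw
  obtain ⟨d1, d2, h1, h2, e⟩ := Nat.dvd_mul.mp h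
  have h4 : d2 = 1 ∨ d2 = 2 := by
    have := Nat.le_of_dvd (by norm_num) h2
    have hne : d2 ≠ 4 := by
      rintro rfl
      refine C.no_orderOf_four (w ^ d1) ?_
      have hd1 : d1 ≠ 0 := by
        rintro rfl
        rw [zero_mul] at e
        exact (orderOf_pos w).ne' e.symm
      rw [orderOf_pow_of_dvd hd1 (e ▸ dvd_mul_right _ _), ← e, Nat.mul_div_cancel_left _ (by omega)]
    interval_cases d2 <;> omega
  rw [← e, show (qq m + 1) / 2 = (qq m + 1) / 4 * 2 by omega]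
  exact Nat.mul_dvd_mul h1 (by rcases h4 with rfl | rfl <;> norm_num)

/-- The possible orders of elements and the tori containing them. -/
theorem order_cases (hm : 1 ≤ m) {g : RG K m} (hg : g ≠ 1) :
    orderOf g = 2 ∨ (3 ∣ orderOf g ∧ (orderOf g = 3 ∨ orderOf g = 6 ∨ orderOf g = 9)) ∨
      (2 < orderOf g ∧ orderOf g ∣ qq m - 1 ∧ ∃ x, x * g * x⁻¹ ∈ C.HG) ∨
      (2 < orderOf g ∧ orderOf g ∣ (qq m + 1) / 2 ∧ ∃ x, x * g * x⁻¹ ∈ C.WG) ∨
      (1 < orderOf g ∧ orderOf g ∣ NN m ∧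
        ∃ (p : ℕ) (x : RG K m), p.Prime ∧ p ∣ NN m ∧ p ∣ orderOf g ∧ orderOf x = p ∧ g ∈ C.TT x) := by
  obtain ⟨h8, h3q, h27⟩ := C.arith
  have hn1 : orderOf g ≠ 1 := mt orderOf_eq_one_iff.mp hg
  have hpos := orderOf_pos g
  by_cases h3 : 3 ∣ orderOf g
  · refine Or.inr (Or.inl ⟨h3, ?_⟩)
    obtain ⟨x, hx⟩ := C.exists_conj_BG h3
    have := C.orderOf_BG_three hx (by rwa [C.orderOf_conj])
    rwa [C.orderOf_conj] at this
  by_cases hodd : ∃ ℓ, ℓ.Prime ∧ ℓ ≠ 2 ∧ ℓ ∣ orderOf g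
  · obtain ⟨ℓ, hℓ, h2, hd⟩ := hodd
    have hgt : 2 < orderOf g :=
      lt_of_lt_of_le (lt_of_le_of_ne hℓ.two_le (Ne.symm h2)) (Nat.le_of_dvd hpos hd)
    rcases C.prime_dvd_card hℓ (hd.trans (orderOf_dvd_natCard g)) with e | e | e | e
    · exact absurd (e ▸ hd) h3
    · obtain ⟨x, hx⟩ := C.exists_conj_HG hℓ h2 e hd
      refine Or.inr (Or.inr (Or.inl ⟨hgt, ?_, x, hx⟩))
      rw [← C.orderOf_conj x g]
      exact (Subgroup.orderOf_dvd_natCard _ hx).trans (dvd_of_eq C.card_HG)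
    · have e4 : ℓ ∣ (qq m + 1) / 4 := by
        have h4 : qq m + 1 = 2 ^ 2 * ((qq m + 1) / 4) := by omega
        rw [h4] at e
        rcases hℓ.dvd_mul.mp e with e | e
        · exact absurd ((Nat.prime_dvd_prime_iff_eq hℓ Nat.prime_two).mp (hℓ.dvd_of_dvd_pow e)) h2
        · exact e
      obtain ⟨x, hx⟩ := C.exists_conj_WG hm hℓ e4 hd
      refine Or.inr (Or.inr (Or.inr (Or.inl ⟨hgt, ?_, x, hx⟩)))
      rw [← C.orderOf_conj x g]
      exact C.orderOf_WG_dvd hx
    · have ho := C.exists_prime_pow hℓ hd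
      have hmem : g ∈ C.TT (g ^ (orderOf g / ℓ)) :=
        Subgroup.mem_centralizer_singleton_iff.mpr ((Commute.refl g).pow_right _).eq
      exact Or.inr (Or.inr (Or.inr (Or.inr ⟨by omega, C.orderOf_TT hℓ e ho hmem,
        ℓ, _, hℓ, e, hd, ho, hmem⟩)))
  · refine Or.inl ?_
    push Not at hodd
    haveI : Fact (Nat.Prime 2) := ⟨Nat.prime_two⟩
    obtain ⟨k, hk⟩ : ∃ k, orderOf g = 2 ^ k :=
      ⟨_, Nat.eq_prime_pow_of_unique_prime_dvd hpos.ne' fun {d} hp hd => by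
        by_contra h
        exact hodd d hp h hd⟩
    obtain ⟨S, hS⟩ := (IsPGroup.of_card (p := 2) (n := k) (show Nat.card (Subgroup.zpowers g) = 2 ^ k
      by rw [Nat.card_zpowers, hk])).exists_le_sylow
    exact orderOf_eq_prime ((pow_two g).trans
      ((C.sylow_two S).2 g (hS (Subgroup.mem_zpowers g)))) hg

/-- The element orders lie in disjoint sets. -/
theorem exclusive {n : ℕ} :
    (n ∣ qq m - 1 → n ∣ (qq m + 1) / 2 → n ≤ 2) ∧ (n ∣ qq m - 1 → n ∣ NN m → n ≤ 1) ∧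
      (n ∣ (qq m + 1) / 2 → n ∣ NN m → n ≤ 1) ∧
      (3 ∣ n → ¬ n ∣ qq m - 1 ∧ ¬ n ∣ (qq m + 1) / 2 ∧ ¬ n ∣ NN m) ∧ (2 ∣ n → ¬ n ∣ NN m) := by
  obtain ⟨h8, h3, hge⟩ := C.arith
  have hdvd : (qq m + 1) / 2 ∣ qq m + 1 := Nat.div_dvd_of_dvd (Nat.dvd_of_mod_eq_zero (by omega))
  refine ⟨fun a b => ?_, fun a b => ?_, fun a b => ?_, fun h => ?_, fun h b => C.NN_odd (h.trans b)⟩
  · have := Nat.dvd_sub (b.trans hdvd) a
    rw [show qq m + 1 - (qq m - 1) = 2 by omega] at this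
    exact Nat.le_of_dvd (by norm_num) this
  · by_contra hc
    obtain ⟨ℓ, hℓ, hd⟩ := Nat.exists_prime_and_dvd (n := n) (by omega)
    exact (separated hℓ).2.1 (hd.trans a) (hd.trans b)
  · by_contra hc
    obtain ⟨ℓ, hℓ, hd⟩ := Nat.exists_prime_and_dvd (n := n) (by omega)
    exact (separated hℓ).2.2.1 (hd.trans (a.trans hdvd)) (hd.trans b)
  · obtain ⟨s1, s2, s3⟩ := (separated (m := m) Nat.prime_three).2.2.2.1 rfl
    exact ⟨fun a => s1 (h.trans a), fun a => s2 ((h.trans a).trans hdvd), fun a => s3 (h.trans a)⟩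

/-! ### Counting -/

theorem card_involutions (hm : 1 ≤ m) :
    Nat.card {g : RG K m // orderOf g = 2} = qq m ^ 2 * NN m := by
  classical
  haveI : Fact (Nat.Prime 2) := ⟨Nat.prime_two⟩
  have ha : orderOf C.aG = 2 := orderOf_eq_prime ((pow_two _).trans C.aG_sq) C.aG_ne_one
  have hmem : ∀ x ∈ Subgroup.zpowers C.aG, x = 1 ∨ x = C.aG := fun x hx => by
    rw [mem_zpowers_iff_mem_range_orderOf, ha] at hx
    simp only [Finset.mem_image, Finset.mem_range] at hx
    obtain ⟨i, hi, rfl⟩ := hx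
    interval_cases i
    · exact Or.inl (pow_zero _)
    · exact Or.inr (pow_one _)
  have hN : Subgroup.normalizer (Subgroup.zpowers C.aG : Set (RG K m)) =
      Subgroup.centralizer ({C.aG} : Set (RG K m)) := by
    refine le_antisymm (fun g hg => ?_) fun g hg => ?_
    · rw [Subgroup.mem_centralizer_singleton_iff]
      rcases hmem _ ((Subgroup.mem_normalizer_iff.mp hg _).mp (Subgroup.mem_zpowers _)) with h | h
      · exact absurd (conj_eq_one_iff.mp h) C.aG_ne_one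
      · exact mul_inv_eq_iff_eq_mul.mp h
    · refine ReeCount.eq_of_conj_le fun a ha' => ?_
      rcases hmem a ha' with rfl | rfl
      · simp [one_mem]
      · rw [mul_inv_eq_iff_eq_mul.mpr (Subgroup.mem_centralizer_singleton_iff.mp hg)]
        exact Subgroup.mem_zpowers _
  have h := ReeCount.card_covered (Subgroup.zpowers C.aG) (fun g : RG K m => orderOf g = 2)
    (fun g x h => by rwa [C.orderOf_conj]) (fun g h => by
      obtain ⟨x, hx⟩ := isConj_iff.mp (C.isConj_aG hm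
        (by rw [← pow_two, ← h, pow_orderOf_eq_one]) (fun e => by
          rw [e, orderOf_one] at h; norm_num at h)).symm
      exact ⟨x, hx ▸ Subgroup.mem_zpowers _⟩)
    (fun a ha' hPa x hx => by
      rw [hN, Subgroup.mem_centralizer_singleton_iff]
      rcases hmem a ha' with rfl | rfl
      · rw [orderOf_one] at hPa; norm_num at hPa
      rcases hmem _ hx with h | h
      · exact absurd (conj_eq_one_iff.mp h) C.aG_ne_one
      · exact mul_inv_eq_iff_eq_mul.mp h)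
  have h1 : Nat.card {a : RG K m // a ∈ Subgroup.zpowers C.aG ∧ orderOf a = 2} = 1 := by
    haveI : IsCyclic (Subgroup.zpowers C.aG) := inferInstance
    rw [ReeCount.card_orderOf_cyclic _ (by rw [Nat.card_zpowers, ha]), Nat.totient_two]
  rw [hN, C.card_centralizer_aG, h1, C.card_RG'', mul_one] at h
  have hpos : 0 < qq m * (qq m - 1) * (qq m + 1) := by
    have := C.arith.2.2
    exact Nat.mul_pos (Nat.mul_pos (by omega) (by omega)) (by omega)
  refine Nat.eq_of_mul_eq_mul_right hpos (h.trans ?_)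
  ring

theorem card_order_BG {i : ℕ} (h3 : 3 ∣ i) :
    Nat.card {g : RG K m // orderOf g = i} =
      (qq m + 1) * NN m * Nat.card {p : (K × K × K) × Kˣ // C.bOrd p = i} := by
  have hge := C.arith.2.2
  have h := ReeCount.card_covered C.BG (fun g : RG K m => orderOf g = i)
    (fun g x h => by rwa [C.orderOf_conj]) (fun g h => C.exists_conj_BG (h ▸ h3))
    (fun a ha hPa x hx => Subgroup.le_normalizer (C.mem_BG_of_three ha (hPa ▸ h3) hx))
  have hb := C.card_BG_filter (fun n => n = i)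
  rw [C.normalizer_BG, C.card_BG, hb, C.card_RG''] at h
  refine Nat.eq_of_mul_eq_mul_right (show 0 < qq m ^ 3 * (qq m - 1) from
    Nat.mul_pos (pow_pos (by omega) 3) (by omega)) (h.trans ?_)
  ring

theorem bOrd_iff (p : (K × K × K) × Kˣ) :
    (C.bOrd p = 3 ↔ p.2 = 1 ∧ p.1.1 = 0 ∧ ¬ (p.1.2.1 = 0 ∧ p.1.2.2 = 0)) ∧
      (C.bOrd p = 6 ↔ p.2 = -1 ∧ p.1.2.1 ≠ p.1.1 ^ (3 * 3 ^ m + 1)) ∧
      (C.bOrd p = 9 ↔ p.2 = 1 ∧ p.1.1 ≠ 0) := by
  classical
  obtain ⟨⟨t, u, v⟩, s⟩ := p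
  simp only [bOrd]
  have h3 : ¬ 3 ∣ orderOf s := C.orderOf_tG_ne
  have hne : (1 : Kˣ) ≠ -1 := fun e => C.neg_one_ne_one e.symm
  by_cases hs : s ^ 2 = 1
  · rw [if_neg (not_not.mpr hs)]
    rcases C.units_sq_cases hs with rfl | rfl
    · simp only [if_true, hne, false_and, iff_false]
      refine ⟨?_, ?_, ?_⟩ <;> split_ifs <;> simp_all
    · simp only [C.neg_one_ne_one, if_false, false_and, iff_false, true_and]
      refine ⟨?_, ?_, ?_⟩ <;> split_ifs <;> simp_all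
  · rw [if_pos hs]
    have h1 : s ≠ 1 := fun e => hs (by rw [e, one_pow])
    have h2 : s ≠ -1 := fun e => hs (by rw [e, neg_one_sq])
    refine ⟨⟨fun e => absurd (by rw [e]) h3, fun e => absurd e.1 h1⟩,
      ⟨fun e => absurd (by rw [e]; norm_num) h3, fun e => absurd e.1 h2⟩,
      ⟨fun e => absurd (by rw [e]; norm_num) h3, fun e => absurd e.1 h1⟩⟩

theorem card_field_ne : Nat.card {t : K // t ≠ 0} = qq m - 1 :=
  (Nat.card_congr unitsEquivNeZero).symm.trans C.card_units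

theorem card_field : Nat.card K = qq m := by rw [Nat.card_eq_fintype_card, C.hK]

theorem card_bOrd_three : Nat.card {p : (K × K × K) × Kˣ // C.bOrd p = 3} = qq m ^ 2 - 1 := by
  classical
  let e : {p : (K × K × K) × Kˣ // C.bOrd p = 3} ≃ {x : K × K // x ≠ (0, 0)} :=
    { toFun := fun p => ⟨p.1.1.2, fun h => ((C.bOrd_iff p.1).1.mp p.2).2.2
        ⟨congrArg Prod.fst h, congrArg Prod.snd h⟩⟩
      invFun := fun x => ⟨((0, x.1), 1), (C.bOrd_iff _).1.mpr
        ⟨rfl, rfl, fun h => x.2 (Prod.ext h.1 h.2)⟩⟩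
      left_inv := fun ⟨⟨⟨t, w⟩, s⟩, h⟩ => by
        obtain ⟨h1, h2, -⟩ := (C.bOrd_iff _).1.mp h
        simp only at h1 h2
        subst h1 h2
        rfl
      right_inv := fun x => rfl }
  rw [Nat.card_congr e, Nat.card_eq_fintype_card, Fintype.card_subtype_compl,
    Fintype.card_subtype_eq, Fintype.card_prod, C.hK, pow_two]

theorem card_bOrd_six :
    Nat.card {p : (K × K × K) × Kˣ // C.bOrd p = 6} = qq m * ((qq m - 1) * qq m) := by
  let e : {p : (K × K × K) × Kˣ // C.bOrd p = 6} ≃ K × {u : K // u ≠ 0} × K :=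
    { toFun := fun p => (p.1.1.1, ⟨p.1.1.2.1 - p.1.1.1 ^ (3 * 3 ^ m + 1),
        sub_ne_zero.mpr ((C.bOrd_iff p.1).2.1.mp p.2).2⟩, p.1.1.2.2)
      invFun := fun x => ⟨((x.1, (x.2.1 : K) + x.1 ^ (3 * 3 ^ m + 1), x.2.2), -1),
        (C.bOrd_iff _).2.1.mpr ⟨rfl, fun h => x.2.1.2 (add_eq_right.mp h)⟩⟩
      left_inv := fun ⟨⟨⟨t, u, v⟩, s⟩, h⟩ => by
        obtain ⟨h1, -⟩ := (C.bOrd_iff _).2.1.mp h
        simp only at h1
        subst h1
        simp
      right_inv := fun ⟨t, u, v⟩ => by simp }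
  rw [Nat.card_congr e, Nat.card_prod, Nat.card_prod, C.card_field_ne, C.card_field]

theorem card_bOrd_nine :
    Nat.card {p : (K × K × K) × Kˣ // C.bOrd p = 9} = (qq m - 1) * (qq m * qq m) := by
  let e : {p : (K × K × K) × Kˣ // C.bOrd p = 9} ≃ {t : K // t ≠ 0} × K × K :=
    { toFun := fun p => (⟨p.1.1.1, ((C.bOrd_iff p.1).2.2.mp p.2).2⟩, p.1.1.2)
      invFun := fun x => ⟨((x.1, x.2), 1), (C.bOrd_iff _).2.2.mpr ⟨rfl, x.1.2⟩⟩
      left_inv := fun ⟨⟨⟨t, w⟩, s⟩, h⟩ => by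
        obtain ⟨h1, -⟩ := (C.bOrd_iff _).2.2.mp h
        simp only at h1
        subst h1
        rfl
      right_inv := fun x => rfl }
  rw [Nat.card_congr e, Nat.card_prod, Nat.card_prod, C.card_field_ne, C.card_field]

/-- Elements of a set of orders above two dividing `q - 1`. -/
theorem card_split (hm : 1 ≤ m) (P : ℕ → Prop) (hP : ∀ n, P n → 2 < n ∧ n ∣ qq m - 1) :
    2 * Nat.card {g : RG K m // P (orderOf g)} =
      qq m ^ 3 * ((qq m + 1) * NN m) * Nat.card {g : RG K m // g ∈ C.HG ∧ P (orderOf g)} := by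
  have hge := C.arith.2.2
  have h := ReeCount.card_covered C.HG (fun g : RG K m => P (orderOf g))
    (fun g x h => by rwa [C.orderOf_conj]) (fun g h => by
      obtain ⟨hgt, hd⟩ := hP _ h
      rcases C.order_cases hm (g := g) (fun e => by rw [e, orderOf_one] at hgt; omega) with
        e | ⟨e, -⟩ | ⟨-, -, hx⟩ | ⟨-, e, -⟩ | ⟨-, e, -⟩
      · omega
      · exact absurd hd (C.exclusive.2.2.2.1 e).1
      · exact hx
      · exact absurd (C.exclusive.1 hd e) (by omega)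
      · exact absurd (C.exclusive.2.1 hd e) (by omega))
    (fun a ha hPa x hx => by
      obtain ⟨s, rfl⟩ := ha
      obtain ⟨hgt, -⟩ := hP _ hPa
      refine C.conj_HG (fun e => ?_) hx
      rw [C.orderOf_tG] at hgt
      have := Nat.le_of_dvd (by norm_num) (orderOf_dvd_of_pow_eq_one e)
      omega)
  rw [C.card_normalizer_HG hm, C.card_RG''] at h
  refine Nat.eq_of_mul_eq_mul_right (show 0 < qq m - 1 by omega) ?_
  calc 2 * Nat.card {g : RG K m // P (orderOf g)} * (qq m - 1)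
      = Nat.card {g : RG K m // P (orderOf g)} * (2 * (qq m - 1)) := by ring
    _ = _ := h
    _ = _ := by ring

/-- Elements of a set of orders above two dividing `(q + 1) / 2`. -/
theorem card_nonsplit (hm : 1 ≤ m) (P : ℕ → Prop) (hP : ∀ n, P n → 2 < n ∧ n ∣ (qq m + 1) / 2) :
    6 * Nat.card {g : RG K m // P (orderOf g)} =
      qq m ^ 3 * (qq m - 1) * NN m * Nat.card {g : RG K m // g ∈ C.WG ∧ P (orderOf g)} := by
  have h := ReeCount.card_covered C.WG (fun g : RG K m => P (orderOf g))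
    (fun g x h => by rwa [C.orderOf_conj]) (fun g h => by
      obtain ⟨hgt, hd⟩ := hP _ h
      rcases C.order_cases hm (g := g) (fun e => by rw [e, orderOf_one] at hgt; omega) with
        e | ⟨e, -⟩ | ⟨-, e, -⟩ | ⟨-, -, hx⟩ | ⟨-, e, -⟩
      · omega
      · exact absurd hd (C.exclusive.2.2.2.1 e).2.1
      · exact absurd (C.exclusive.1 e hd) (by omega)
      · exact hx
      · exact absurd (C.exclusive.2.2.1 hd e) (by omega))
    (fun a ha hPa x hx => by
      obtain ⟨hgt, -⟩ := hP _ hPa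
      have hne : a ^ 4 ≠ 1 := fun e => by
        have hd := orderOf_dvd_of_pow_eq_one e
        have := Nat.le_of_dvd (by norm_num) hd
        have h4 := C.no_orderOf_four a
        obtain h3 : orderOf a = 3 := by omega
        rw [h3] at hd
        norm_num at hd
      refine C.mem_normalizer_WG_of hm (C.WG_pow_four ha) hne ?_
      rw [← conj_pow]
      exact C.WG_pow_four hx)
  rw [C.normalizer_WG hm, C.card_normalizer_AG hm, C.card_RG''] at h
  refine Nat.eq_of_mul_eq_mul_right (show 0 < qq m + 1 by omega) ?_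
  calc 6 * Nat.card {g : RG K m // P (orderOf g)} * (qq m + 1)
      = Nat.card {g : RG K m // P (orderOf g)} * (6 * (qq m + 1)) := by ring
    _ = _ := h
    _ = _ := by ring

end Ctx

end CfsgLib.Chev.G2Tw
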