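import Mathlib.GroupTheory.Sylow
import Mathlib.GroupTheory.SpecificGroups.Cyclic

/-!
Counting elements covered by the conjugates of a subgroup, and related generalities on finite
groups.
-/

set_option autoImplicit false
set_option linter.style.haveILetI false

namespace CfsgLib.Chev.ReeCount

variable {G : Type*} [Group G]

/-- Elements covered by the conjugates of a subgroup that is a trivial intersection set on them. -/
theorem card_covered [Finite G] (A : Subgroup G) (P : G → Prop)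
    (hP : ∀ g x, P g → P (x * g * x⁻¹))
    (hcov : ∀ g, P g → ∃ x, x * g * x⁻¹ ∈ A)
    (hti : ∀ a ∈ A, P a → ∀ x, x * a * x⁻¹ ∈ A → x ∈ Subgroup.normalizer (A : Set G)) :
    Nat.card {g : G // P g} * Nat.card (Subgroup.normalizer (A : Set G)) =
      Nat.card G * Nat.card {a : G // a ∈ A ∧ P a} := by
  classical
  choose x hx using hcov
  set N := Subgroup.normalizer (A : Set G)
  let f : {g : G // P g} × N → G × {a : G // a ∈ A ∧ P a} := fun p =>
    (p.2 * x p.1 p.1.2, ⟨(p.2 : G) * (x p.1 p.1.2 * p.1 * (x p.1 p.1.2)⁻¹) * (p.2 : G)⁻¹,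
      (Subgroup.mem_normalizer_iff.mp p.2.2 _).mp (hx p.1 p.1.2), hP _ _ (hP _ _ p.1.2)⟩)
  rw [← Nat.card_prod, ← Nat.card_prod]
  refine Nat.card_eq_of_bijective f ⟨?_, ?_⟩
  · rintro ⟨⟨g, hg⟩, n⟩ ⟨⟨g', hg'⟩, n'⟩ h
    simp only [f, Prod.mk.injEq, Subtype.mk.injEq] at h
    obtain ⟨h1, h2⟩ := h
    have e : g = g' := by
      rw [show (n : G) * (x g hg * g * (x g hg)⁻¹) * (n : G)⁻¹ =
          ((n : G) * x g hg) * g * ((n : G) * x g hg)⁻¹ by group,
        show (n' : G) * (x g' hg' * g' * (x g' hg')⁻¹) * (n' : G)⁻¹ =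
          ((n' : G) * x g' hg') * g' * ((n' : G) * x g' hg')⁻¹ by group, h1] at h2
      exact mul_left_cancel (mul_right_cancel h2)
    subst e
    obtain rfl : n = n' := Subtype.ext (mul_right_cancel h1)
    rfl
  · rintro ⟨y, a, ha, hPa⟩
    have hg : P (y⁻¹ * a * y) := by
      have := hP a y⁻¹ hPa
      rwa [inv_inv] at this
    set z := x _ hg with hz
    have hn : y * z⁻¹ ∈ N := by
      have hb : z * (y⁻¹ * a * y) * z⁻¹ ∈ A := hx _ hg
      refine hti _ hb (hP _ _ hg) _ ?_
      rwa [show y * z⁻¹ * (z * (y⁻¹ * a * y) * z⁻¹) * (y * z⁻¹)⁻¹ = a by group]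
    refine ⟨(⟨_, hg⟩, ⟨_, hn⟩), Prod.ext ?_ (Subtype.ext ?_)⟩
    · show y * z⁻¹ * z = y
      group
    · show y * z⁻¹ * (z * (y⁻¹ * a * y) * z⁻¹) * (y * z⁻¹)⁻¹ = a
      group

/-- A subgroup of index prime to `p` contains a conjugate of every `p`-element, provided it has a
Sylow `p`-subgroup; as for every subgroup of a finite group. -/
theorem exists_conj_mem [Finite G] {p : ℕ} [Fact p.Prime] (A : Subgroup G) (hA : ¬ p ∣ A.index)
    {P : Subgroup G} (hP : IsPGroup p P) : ∃ x : G, ∀ g ∈ P, x * g * x⁻¹ ∈ A := by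
  obtain ⟨S⟩ : Nonempty (Sylow p A) := inferInstance
  have hS : IsPGroup p (S.1.map A.subtype) := S.2.map A.subtype
  have hidx : ¬ p ∣ (S.1.map A.subtype).index := by
    rw [Subgroup.index_map_subtype]
    exact (Fact.out : p.Prime).not_dvd_mul S.not_dvd_index hA
  obtain ⟨T, hT⟩ := hP.exists_le_sylow
  obtain ⟨x, hx⟩ := MulAction.exists_smul_eq G T (hS.toSylow hidx)
  refine ⟨x, fun g hg => ?_⟩
  have h : x * g * x⁻¹ ∈ ((x • T : Sylow p G) : Subgroup G) :=
    Subgroup.smul_mem_pointwise_smul g (MulAut.conj x) _ (hT hg)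
  rw [hx, IsPGroup.toSylow_coe] at h
  obtain ⟨s, -, hs⟩ := h
  exact hs ▸ s.2

theorem exists_conj_of_orderOf [Finite G] {p : ℕ} [Fact p.Prime] (A : Subgroup G)
    (hA : ¬ p ∣ A.index) {g : G} {j : ℕ} (hg : orderOf g = p ^ j) : ∃ x : G, x * g * x⁻¹ ∈ A := by
  obtain ⟨x, hx⟩ := exists_conj_mem A hA (P := Subgroup.zpowers g)
    (IsPGroup.of_card (n := j) (by rw [Nat.card_zpowers, hg]))
  exact ⟨x, hx g (Subgroup.mem_zpowers g)⟩

/-- In a cyclic group the subgroup of order `n` contains every element killed by `n`. -/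
theorem mem_of_pow_card [Finite G] [IsCyclic G] (H : Subgroup G) {x : G}
    (hx : x ^ Nat.card H = 1) : x ∈ H := by
  classical
  haveI := Fintype.ofFinite G
  have hsub : (Finset.univ.filter fun y : G => y ∈ H) ⊆
      Finset.univ.filter fun y : G => y ^ Nat.card H = 1 := by
    intro y hy
    simp only [Finset.mem_filter, Finset.mem_univ, true_and] at hy ⊢
    exact congrArg Subtype.val (pow_card_eq_one' (x := (⟨y, hy⟩ : H)))
  have hc : (Finset.univ.filter fun y : G => y ∈ H).card = Nat.card H := by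
    rw [← Fintype.card_subtype, ← Nat.card_eq_fintype_card]
  have := Finset.eq_of_subset_of_card_le hsub (by
    rw [hc]; exact IsCyclic.card_pow_eq_one_le Nat.card_pos)
  have hxm : x ∈ Finset.univ.filter fun y : G => y ∈ H := by
    rw [this]; simpa using hx
  simpa using hxm

theorem mem_of_pow_card_of_le [Finite G] {X H : Subgroup G} [IsCyclic X] (hH : H ≤ X) {x : G}
    (hxX : x ∈ X) (hx : x ^ Nat.card H = 1) : x ∈ H := by
  have := mem_of_pow_card (H.subgroupOf X) (x := ⟨x, hxX⟩) (by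
    rw [Nat.card_congr (Subgroup.subgroupOfEquivOfLe hH).toEquiv]
    exact Subtype.ext hx)
  exact Subgroup.mem_subgroupOf.mp this

theorem eq_of_conj_le [Finite G] {A : Subgroup G} {g : G} (h : ∀ a ∈ A, g * a * g⁻¹ ∈ A) :
    g ∈ Subgroup.normalizer (A : Set G) :=
  Subgroup.mem_normalizer_fintype h

end CfsgLib.Chev.ReeCount
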