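import Cfsg.Agent.Chev.ReeGroup

/-!
The small Ree group is generated by two elements.
-/

set_option autoImplicit false
set_option linter.style.haveILetI false
set_option linter.unusedSectionVars false

namespace CfsgLib.Chev.G2Tw

open Cfsg.Lie

namespace Ctx

variable {K : Type*} [Field K] [Fintype K] {m : ℕ} (C : Ctx K m)
include C

/-- The law of the unipotent subgroup in coordinates. -/
theorem uG_mul (t u v t' u' v' : K) : ∃ w, C.uG t u v * C.uG t' u' v' =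
    C.uG (t + t') (-(t' ^ (3 * 3 ^ m) * t) + u + u') w ∧
      (t = 0 → w = v - t' * u + v') ∧ (t' = 0 → w = v + v') := by
  obtain ⟨t'', u'', v'', e⟩ := C.mem_UG.mp (mul_mem (C.uG_mem t u v) (C.uG_mem t' u' v'))
  have e1 := congrArg Subtype.val e
  simp only [Subgroup.coe_mul, coe_uG, U] at e1
  rw [C.P6_law] at e1
  obtain ⟨-, h2, -, -, h5, h6⟩ := C.P6_inj e1
  have hp : (t' ^ 3 ^ m) ^ 3 = t' ^ (3 * 3 ^ m) := by rw [← pow_mul, mul_comm]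
  rw [hp] at h5 h6
  refine ⟨v'', by rw [e, ← h2, ← h5], fun h => ?_, fun h => ?_⟩
  · rw [← h6, h]; ring
  · rw [← h6, h, zero_pow (Nat.mul_ne_zero (by norm_num) C.he0)]; ring

theorem scale_units (γ : Kˣ) :
    (∃ s : Kˣ, (s ^ 3 ^ m) ^ (-3 : ℤ) * s ^ (2 : ℤ) = γ) ∧
      ∃ s : Kˣ, (s ^ 3 ^ m) ^ (3 : ℤ) * s ^ (-1 : ℤ) = γ ^ 2 := by
  have he := C.he0
  have hred : ∀ a b : ℕ, a + 3 = b + 3 * (3 * 3 ^ m * 3 ^ m) → γ ^ a = γ ^ b := by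
    intro a b hab
    have := congrArg (γ ^ ·) hab
    have hle : γ ^ (3 * 3 ^ m * 3 ^ m) = γ := C.pow_q_units γ
    simp only [pow_add, pow_mul' γ 3 (3 * 3 ^ m * 3 ^ m), hle] at this
    exact mul_right_cancel this
  constructor
  · refine ⟨γ ^ (3 * 3 ^ m + 2), ?_⟩
    rw [_root_.zpow_neg, inv_mul_eq_iff_eq_mul, show (3 : ℤ) = ((3 : ℕ) : ℤ) from rfl,
      show (2 : ℤ) = ((2 : ℕ) : ℤ) from rfl, zpow_natCast, zpow_natCast, ← pow_mul, ← pow_mul,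
      ← pow_mul, ← pow_succ]
    exact (hred _ _ (by ring)).symm
  · refine ⟨γ ^ (3 * 3 ^ m + 1), ?_⟩
    rw [_root_.zpow_neg, _root_.zpow_one, mul_inv_eq_iff_eq_mul,
      show (3 : ℤ) = ((3 : ℕ) : ℤ) from rfl, zpow_natCast, ← pow_mul, ← pow_mul, ← pow_add]
    exact hred _ _ (by ring)

/-- A subgroup of `U` stable under the torus with a non-zero first coordinate is `U`. -/
theorem UG_le_of_torus (hm : 1 ≤ m) {S : Subgroup (RG K m)} (hH : C.HG ≤ S) {t u v : K}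
    (ht : t ≠ 0) (hw : C.uG t u v ∈ S) : C.UG ≤ S := by
  have hconj : ∀ (s : Kˣ) (a b c : K), C.uG a b c ∈ S → ∃ s₁ s₂ : Kˣ,
      s₁ = (s ^ 3 ^ m) ^ (-3 : ℤ) * s ^ (2 : ℤ) ∧ s₂ = (s ^ 3 ^ m) ^ (3 : ℤ) * s ^ (-1 : ℤ) ∧
      C.uG ((s₁ : K) * a) ((s₂ : K) * b) ((s : K) * c) ∈ S := by
    intro s a b c h
    obtain ⟨s₁, s₂, h1, h2, e⟩ := C.tG_conj_uG s a b c
    exact ⟨s₁, s₂, h1, h2, e ▸ mul_mem (mul_mem (hH (C.tG_mem s)) h) (inv_mem (hH (C.tG_mem s)))⟩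
  -- the first coordinate is arbitrary
  have hT : ∀ a : K, ∃ b c, C.uG a b c ∈ S := by
    intro a
    by_cases ha : a = 0
    · exact ⟨0, 0, by rw [ha, C.uG_zero]; exact one_mem S⟩
    obtain ⟨s, hs⟩ := (C.scale_units (Units.mk0 (a / t) (div_ne_zero ha ht))).1
    obtain ⟨s₁, s₂, h1, -, h⟩ := hconj s t u v hw
    rw [hs] at h1
    refine ⟨(s₂ : K) * u, (s : K) * v, ?_⟩
    rwa [h1, Units.val_mk0, div_mul_cancel₀ a ht] at h
  -- commutators of elements with arbitrary first coordinates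
  have hU : ∀ a a' : K, ∃ c, C.uG 0 (a ^ (3 * 3 ^ m) * a' - a' ^ (3 * 3 ^ m) * a) c ∈ S := by
    intro a a'
    obtain ⟨b, c, hg⟩ := hT a
    obtain ⟨b', c', hh⟩ := hT a'
    obtain ⟨w₁, e1, -, -⟩ := C.uG_mul a b c a' b' c'
    obtain ⟨w₂, e2, -, -⟩ := C.uG_mul a' b' c' a b c
    obtain ⟨t₀, u₀, v₀, e0⟩ := C.mem_UG.mp
      (mul_mem (inv_mem (C.uG_mem (a' + a) (-(a ^ (3 * 3 ^ m) * a') + b' + b) w₂))
        (C.uG_mem (a + a') (-(a' ^ (3 * 3 ^ m) * a) + b + b') w₁))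
    have hS : C.uG t₀ u₀ v₀ ∈ S := by
      rw [← e0, ← e1, ← e2]
      exact mul_mem (inv_mem (mul_mem hh hg)) (mul_mem hg hh)
    rw [inv_mul_eq_iff_eq_mul] at e0
    obtain ⟨w₃, e3, -, -⟩ := C.uG_mul (a' + a) (-(a ^ (3 * 3 ^ m) * a') + b' + b) w₂ t₀ u₀ v₀
    rw [e3] at e0
    obtain ⟨q1, q2, -⟩ := C.uG_inj e0
    have ht0 : t₀ = 0 := by linear_combination -q1
    subst ht0
    rw [zero_pow (Nat.mul_ne_zero (by norm_num) C.he0), zero_mul, neg_zero, zero_add] at q2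
    refine ⟨v₀, ?_⟩
    rwa [show a ^ (3 * 3 ^ m) * a' - a' ^ (3 * 3 ^ m) * a = u₀ by linear_combination q2]
  -- a non-zero second coordinate
  obtain ⟨γ, hγ⟩ := IsCyclic.exists_ofOrder_eq_natCard (α := Kˣ)
  rw [C.card_units] at hγ
  have hU0 : (γ : K) - (γ : K) ^ (3 * 3 ^ m) ≠ 0 := by
    have hle : 3 ≤ 3 ^ m := Nat.le_self_pow (by omega) 3
    have hq : 3 ^ (2 * m + 1) = 3 * 3 ^ m * 3 ^ m := by rw [two_mul, pow_succ, pow_add]; ring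
    intro h
    have h' : γ ^ (3 * 3 ^ m - 1) * γ = 1 * γ := by
      rw [← pow_succ, Nat.sub_add_cancel (by omega), one_mul]
      exact Units.ext (by rw [Units.val_pow_eq_pow_val]; exact (sub_eq_zero.mp h).symm)
    have h1 := Nat.le_of_dvd (by omega) (orderOf_dvd_of_pow_eq_one (mul_right_cancel h'))
    have : 3 * 3 ^ m * 3 ≤ 3 * 3 ^ m * 3 ^ m := Nat.mul_le_mul_left _ hle
    omega
  obtain ⟨c₀, hc₀⟩ := hU 1 (γ : K)
  rw [one_pow, one_mul, mul_one] at hc₀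
  generalize (γ : K) - (γ : K) ^ (3 * 3 ^ m) = b₀ at hU0 hc₀
  -- the last coordinate
  have hV : ∀ c : K, C.uG 0 0 c ∈ S := by
    intro c
    obtain ⟨b, d, hg⟩ := hT (-(c / b₀))
    obtain ⟨w₁, e1, h1, -⟩ := C.uG_mul 0 b₀ c₀ (-(c / b₀)) b d
    obtain ⟨w₂, e2, -, h2⟩ := C.uG_mul (-(c / b₀)) b d 0 b₀ c₀
    obtain ⟨t₀, u₀, v₀, e0⟩ := C.mem_UG.mp (mul_mem (inv_mem (C.uG_mem (-(c / b₀) + 0)
        (-((0 : K) ^ (3 * 3 ^ m) * -(c / b₀)) + b + b₀) w₂))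
        (C.uG_mem (0 + -(c / b₀)) (-((-(c / b₀)) ^ (3 * 3 ^ m) * 0) + b₀ + b) w₁))
    have hS : C.uG t₀ u₀ v₀ ∈ S := by
      rw [← e0, ← e1, ← e2]
      exact mul_mem (inv_mem (mul_mem hg hc₀)) (mul_mem hc₀ hg)
    rw [inv_mul_eq_iff_eq_mul] at e0
    obtain ⟨w₃, e3, -, h3⟩ := C.uG_mul (-(c / b₀) + 0)
      (-((0 : K) ^ (3 * 3 ^ m) * -(c / b₀)) + b + b₀) w₂ t₀ u₀ v₀
    rw [e3] at e0
    obtain ⟨q1, q2, q3⟩ := C.uG_inj e0
    have ht0 : t₀ = 0 := by linear_combination -q1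
    subst ht0
    simp only [zero_pow (Nat.mul_ne_zero (by norm_num : (3:ℕ) ≠ 0) C.he0), zero_mul, mul_zero,
      neg_zero, zero_add] at q2
    have hu : u₀ = 0 := by linear_combination -q2
    rw [h3 rfl, h1 rfl, h2 rfl] at q3
    have hv : v₀ = c := by
      have : c / b₀ * b₀ = c := div_mul_cancel₀ c hU0
      linear_combination -q3 + this
    rwa [hu, hv] at hS
  -- the middle coordinate
  have hb₀ : C.uG 0 b₀ 0 ∈ S := by
    obtain ⟨w, e, -, h⟩ := C.uG_mul 0 b₀ c₀ 0 0 (-c₀)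
    rw [h rfl, add_neg_cancel] at e
    simp only [zero_pow (Nat.mul_ne_zero (by norm_num : (3:ℕ) ≠ 0) C.he0), zero_mul, mul_zero,
      neg_zero, zero_add, add_zero] at e
    exact e ▸ mul_mem hc₀ (hV _)
  have hadd : ∀ x y : K, C.uG 0 x 0 * C.uG 0 y 0 = C.uG 0 (x + y) 0 := fun x y => by
    obtain ⟨w, e, -, h⟩ := C.uG_mul 0 x 0 0 y 0
    rw [e, h rfl]
    simp [zero_pow (Nat.mul_ne_zero (by norm_num : (3:ℕ) ≠ 0) C.he0)]
  have hsq : ∀ x : K, C.uG 0 (x ^ 2 * b₀) 0 ∈ S := by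
    intro x
    by_cases hx : x = 0
    · rw [hx, zero_pow two_ne_zero, zero_mul, C.uG_zero]; exact one_mem S
    obtain ⟨s, hs⟩ := (C.scale_units (Units.mk0 x hx)).2
    obtain ⟨s₁, s₂, -, h2, h⟩ := hconj s 0 b₀ 0 hb₀
    rw [hs] at h2
    rwa [h2, mul_zero, mul_zero, Units.val_pow_eq_pow_val, Units.val_mk0] at h
  have hB : ∀ b : K, C.uG 0 b 0 ∈ S := by
    intro b
    have h2 : (2 : K) ≠ 0 := fun h2 => one_ne_zero (show (1 : K) = 0 by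
      linear_combination C.three_eq - h2)
    set x := (b / b₀ + 1) / 2
    set y := (b / b₀ - 1) / 2
    have e : x ^ 2 * b₀ - y ^ 2 * b₀ = b := by
      simp only [x, y]
      field_simp
      ring
    have hneg : (C.uG 0 (y ^ 2 * b₀) 0)⁻¹ = C.uG 0 (-(y ^ 2 * b₀)) 0 := by
      refine inv_eq_of_mul_eq_one_right ?_
      rw [hadd, add_neg_cancel, C.uG_zero]
    have := mul_mem (hsq x) (inv_mem (hsq y))
    rwa [hneg, hadd, ← sub_eq_add_neg, e] at this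
  rintro g hg
  obtain ⟨a, b, c, rfl⟩ := C.mem_UG.mp hg
  obtain ⟨b', c', hg'⟩ := hT a
  obtain ⟨w, e, -, h⟩ := C.uG_mul a b' c' 0 (b - b') 0
  obtain ⟨w', e', -, h'⟩ := C.uG_mul a b w 0 0 (c - w)
  have hz : (0 : K) ^ (3 * 3 ^ m) = 0 := zero_pow (Nat.mul_ne_zero (by norm_num) C.he0)
  rw [hz, zero_mul, neg_zero, zero_add, add_zero, add_sub_cancel] at e
  rw [hz, zero_mul, neg_zero, zero_add, add_zero, add_zero, h' rfl, add_sub_cancel] at e'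
  rw [← e', ← e]
  exact mul_mem (mul_mem hg' (hB _)) (hV _)

theorem two_generated (hm : 1 ≤ m) :
    ∃ a b : RG K m, Subgroup.closure ({a, b} : Set (RG K m)) = ⊤ := by
  obtain ⟨γ, hγ⟩ := IsCyclic.exists_generator (α := Kˣ)
  refine ⟨C.tG γ, C.nG * C.uG 1 0 0, ?_⟩
  set S := Subgroup.closure ({C.tG γ, C.nG * C.uG 1 0 0} : Set (RG K m))
  have ha : C.tG γ ∈ S := Subgroup.subset_closure (Or.inl rfl)
  have hb : C.nG * C.uG 1 0 0 ∈ S := Subgroup.subset_closure (Or.inr rfl)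
  have hH : C.HG ≤ S := by
    rintro _ ⟨t, rfl⟩
    obtain ⟨k, rfl⟩ := Subgroup.mem_zpowers_iff.mp (hγ t)
    rw [map_zpow]
    exact zpow_mem ha k
  obtain ⟨s₁, s₂, h1, -, hconj⟩ := C.tG_conj_uG γ⁻¹ 1 0 0
  have hw : (C.uG 1 0 0)⁻¹ * C.uG ((s₁ : K) * 1) ((s₂ : K) * 0) (((γ⁻¹ : Kˣ) : K) * 0) ∈ S := by
    have hn : C.nG⁻¹ * C.tG γ * C.nG = C.tG γ⁻¹ := by
      rw [mul_assoc, inv_mul_eq_iff_eq_mul, C.nG_tG, inv_inv]
    rw [← hconj, show (C.uG 1 0 0)⁻¹ * (C.tG γ⁻¹ * C.uG 1 0 0 * (C.tG γ⁻¹)⁻¹) =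
      ((C.nG * C.uG 1 0 0)⁻¹ * C.tG γ * (C.nG * C.uG 1 0 0)) * C.tG γ by
        rw [show (C.nG * C.uG 1 0 0)⁻¹ * C.tG γ * (C.nG * C.uG 1 0 0) =
          (C.uG 1 0 0)⁻¹ * (C.nG⁻¹ * C.tG γ * C.nG) * C.uG 1 0 0 by group, hn, map_inv]
        group]
    exact mul_mem (mul_mem (mul_mem (inv_mem hb) ha) hb) ha
  obtain ⟨t, u, v, e⟩ := C.mem_UG.mp (mul_mem (inv_mem (C.uG_mem 1 0 0))
    (C.uG_mem ((s₁ : K) * 1) ((s₂ : K) * 0) (((γ⁻¹ : Kˣ) : K) * 0)))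
  have ht : t ≠ 0 := by
    intro ht
    have e' := e
    rw [inv_mul_eq_iff_eq_mul] at e'
    obtain ⟨w, e2, -, -⟩ := C.uG_mul 1 0 0 t u v
    rw [e2] at e'
    have h := (C.uG_inj e').1
    rw [ht, mul_one, add_zero] at h
    have hs1 : s₁ = 1 := Units.ext h
    -- a generator is not fixed by the scaling
    have hord : orderOf γ = 3 ^ (2 * m + 1) - 1 := by
      rw [orderOf_eq_card_of_forall_mem_zpowers hγ, C.card_units]
    have hcomm : C.tG γ⁻¹ * C.uG 1 0 0 * (C.tG γ⁻¹)⁻¹ = C.uG 1 0 0 := by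
      rw [hconj, hs1, Units.val_one, mul_one, mul_zero, mul_zero]
    have hsq := C.sq_eq_one_of_commute (t := 1) (u := 0) (v := 0) (fun hh => one_ne_zero hh.1)
      (congrArg Subtype.val hcomm)
    rw [inv_pow, inv_eq_one] at hsq
    have := orderOf_dvd_of_pow_eq_one hsq
    rw [hord] at this
    have := Nat.le_of_dvd (by norm_num) this
    have : 3 ^ 3 ≤ 3 ^ (2 * m + 1) := Nat.pow_le_pow_right (by norm_num) (by omega)
    omega
  have hU : C.UG ≤ S := C.UG_le_of_torus hm hH ht (e ▸ hw)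
  have hn : C.nG ∈ S := by
    have := mul_mem hb (inv_mem (hU (C.uG_mem 1 0 0)))
    rwa [mul_inv_cancel_right] at this
  rw [Subgroup.eq_top_iff']
  intro g
  rcases C.cases g with ⟨u, hu, s, rfl⟩ | ⟨u, hu, s, v, hv, rfl⟩
  · exact mul_mem (hU hu) (hH (C.tG_mem s))
  · exact mul_mem (mul_mem (mul_mem (hU hu) (hH (C.tG_mem s))) hn) (hU hv)

end Ctx

end CfsgLib.Chev.G2Tw
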