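import Cfsg.Agent.Chev.TwistedG2Points

/-!
The small Ree group as an abstract group: the torus, the unipotent subgroup, the two Bruhat cells
with their uniqueness, and the centralisers of torus elements.
-/

set_option autoImplicit false

namespace CfsgLib.Chev.G2Tw

open Cfsg.Lie Matrix Tab
open scoped MatrixGroups

/-- The small Ree group. -/
abbrev RG (K : Type*) [Field K] (m : ℕ) := ↥(twistedG2 K (3 ^ m))

theorem pw_top :
    (good_G2.full.pw (toFins chevG2.rank [0, 1, 0, 1, 0, 1]) ⟨11, by decide⟩).val = 0 := by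
  decide +kernel

namespace Ctx

variable {K : Type*} [Field K] [Fintype K] {m : ℕ} (C : Ctx K m)
include C

/-- The torus in the group. -/
def tG : Kˣ →* RG K m := C.h.codRestrict _ C.h_mem

/-- The unipotent elements in the group. -/
def uG (t u v : K) : RG K m := ⟨C.U t u v, C.U_mem t u v⟩

/-- The Weyl element in the group. -/
noncomputable def nG : RG K m := ⟨C.n0, C.n0_mem⟩

/-- The torus as a subgroup. -/
def HG : Subgroup (RG K m) := C.tG.range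

/-- The unipotent subgroup. -/
noncomputable def UG : Subgroup (RG K m) := C.Z.U1.subgroupOf (twistedG2 K (3 ^ m))

/-- The Borel subgroup. -/
def BG (_C : Ctx K m) : Subgroup (RG K m) :=
  (chevG2.borelSubgroup K).subgroupOf (twistedG2 K (3 ^ m))

/-- The involution of the torus. -/
def aG : RG K m := C.tG (-1)

theorem coe_tG (s : Kˣ) : (C.tG s : GL chevG2.Idx K) = C.h s := rfl

theorem coe_uG (t u v : K) : (C.uG t u v : GL chevG2.Idx K) = C.U t u v := rfl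

theorem tG_inj : Function.Injective C.tG := fun _ _ h => C.h_inj (congrArg Subtype.val h)

theorem card_HG : Nat.card C.HG = 3 ^ (2 * m + 1) - 1 := by
  rw [← C.card_units]
  exact (Nat.card_congr (MonoidHom.ofInjective C.tG_inj).toEquiv).symm

theorem mem_UG {g : RG K m} : g ∈ C.UG ↔ ∃ t u v, g = C.uG t u v := by
  rw [UG, Subgroup.mem_subgroupOf, C.U1_form]
  exact exists_congr fun t => exists_congr fun u => exists_congr fun v =>
    ⟨fun h => Subtype.ext h, fun h => congrArg Subtype.val h⟩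

theorem uG_mem (t u v : K) : C.uG t u v ∈ C.UG := C.mem_UG.mpr ⟨t, u, v, rfl⟩

theorem tG_mem (s : Kˣ) : C.tG s ∈ C.HG := ⟨s, rfl⟩

theorem card_UG : Nat.card C.UG = (3 ^ (2 * m + 1)) ^ 3 := by
  rw [← C.card_U1]
  exact Nat.card_congr (Subgroup.subgroupOfEquivOfLe C.Z.U1_le).toEquiv

theorem mem_H0_coe {g : RG K m} : (g : GL chevG2.Idx K) ∈ C.Z.H0 ↔ g ∈ C.HG := by
  rw [C.mem_H0]
  exact ⟨fun ⟨s, h⟩ => ⟨s, Subtype.ext h.symm⟩, fun ⟨s, h⟩ => ⟨s, (congrArg Subtype.val h).symm⟩⟩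

theorem UG_le_BG : C.UG ≤ C.BG := fun _ hg => C.Z.U1_le_borel hg

theorem tG_mem_BG (s : Kˣ) : C.tG s ∈ C.BG := C.Z.H0_le_borel (C.mem_H0.mpr ⟨s, rfl⟩)

theorem uh_unique {u u' : RG K m} (hu : u ∈ C.UG) (hu' : u' ∈ C.UG) {s s' : Kˣ}
    (h : u * C.tG s = u' * C.tG s') : u = u' ∧ s = s' := by
  have e : u'⁻¹ * u = C.tG (s' * s⁻¹) := by
    rw [map_mul, map_inv, eq_mul_inv_iff_mul_eq, mul_assoc, h, inv_mul_cancel_left]
  have hm : ((u'⁻¹ * u : RG K m) : GL chevG2.Idx K) ∈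
      chevG2.posUnipotent K ⊓ chevG2.diagonalSubgroup K :=
    Subgroup.mem_inf.mpr ⟨(mul_mem (inv_mem hu') hu : u'⁻¹ * u ∈ C.UG).2, by
      rw [e]; exact C.Z.H0_diag (C.mem_H0.mpr ⟨_, rfl⟩)⟩
  rw [good_G2.pos_inf_diagonal, Subgroup.mem_bot] at hm
  have h1 : u'⁻¹ * u = 1 := Subtype.ext hm
  refine ⟨(inv_mul_eq_one.mp h1).symm, ?_⟩
  rw [h1] at e
  exact (mul_inv_eq_one.mp (C.tG_inj (e.symm.trans (map_one C.tG).symm))).symm

theorem cases (g : RG K m) :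
    (∃ u ∈ C.UG, ∃ s, g = u * C.tG s) ∨
      ∃ u ∈ C.UG, ∃ s, ∃ v ∈ C.UG, g = u * C.tG s * C.nG * v := by
  rcases C.bruhat_cases g.2 with hB | ⟨u, hu, h, hh, v, hv, e⟩
  · obtain ⟨u, hu, h, hh, e⟩ := C.Z.mem_B1 g.2 hB
    obtain ⟨s, rfl⟩ := C.mem_H0.mp hh
    exact Or.inl ⟨⟨u, C.Z.U1_le hu⟩, hu, s, Subtype.ext e⟩
  · obtain ⟨s, rfl⟩ := C.mem_H0.mp hh
    exact Or.inr ⟨⟨u, C.Z.U1_le hu⟩, hu, s, ⟨v, C.Z.U1_le hv⟩, hv, Subtype.ext e⟩

theorem mem_BG_iff {g : RG K m} : g ∈ C.BG ↔ ∃ u ∈ C.UG, ∃ s, g = u * C.tG s := by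
  constructor
  · intro hg
    obtain ⟨u, hu, h, hh, e⟩ := C.Z.mem_B1 g.2 hg
    obtain ⟨s, rfl⟩ := C.mem_H0.mp hh
    exact ⟨⟨u, C.Z.U1_le hu⟩, hu, s, Subtype.ext e⟩
  · rintro ⟨u, hu, s, rfl⟩
    exact mul_mem (C.UG_le_BG hu) (C.tG_mem_BG s)

/-- An element conjugated into the Borel subgroup by the Weyl element is trivial. -/
theorem conj_nG_BG {u : RG K m} (hu : u ∈ C.UG) (h : C.nG * u * C.nG⁻¹ ∈ C.BG) : u = 1 :=
  Subtype.ext (C.conj_n_borel hu h)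

theorem nG_not_mem : C.nG ∉ C.BG := fun h => by
  have h1 : C.uG 0 1 0 = 1 := C.conj_nG_BG (C.uG_mem 0 1 0)
    (mul_mem (mul_mem h (C.UG_le_BG (C.uG_mem 0 1 0))) (inv_mem h))
  exact one_ne_zero (C.U_inj ((congrArg Subtype.val h1).trans C.U_one.symm)).2.1

theorem big_not_mem {u v : RG K m} (hu : u ∈ C.UG) (hv : v ∈ C.UG) (s : Kˣ) :
    u * C.tG s * C.nG * v ∉ C.BG := fun h => C.nG_not_mem (by
  have := mul_mem (mul_mem (inv_mem (mul_mem (C.UG_le_BG hu) (C.tG_mem_BG s))) h)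
    (inv_mem (C.UG_le_BG hv))
  rwa [show (u * C.tG s)⁻¹ * (u * C.tG s * C.nG * v) * v⁻¹ = C.nG by group] at this)

theorem big_unique {u v u' v' : RG K m} (hu : u ∈ C.UG) (hv : v ∈ C.UG) (hu' : u' ∈ C.UG)
    (hv' : v' ∈ C.UG) {s s' : Kˣ}
    (h : u * C.tG s * C.nG * v = u' * C.tG s' * C.nG * v') : u = u' ∧ s = s' ∧ v = v' := by
  have e : C.nG * (v * v'⁻¹) * C.nG⁻¹ = (u * C.tG s)⁻¹ * (u' * C.tG s') := by
    calc C.nG * (v * v'⁻¹) * C.nG⁻¹
        = (u * C.tG s)⁻¹ * (u * C.tG s * C.nG * v) * v'⁻¹ * C.nG⁻¹ := by group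
      _ = _ := by rw [h]; group
  have hv1 : v * v'⁻¹ = 1 := C.conj_nG_BG (mul_mem hv (inv_mem hv')) (by
    rw [e]
    exact mul_mem (inv_mem (mul_mem (C.UG_le_BG hu) (C.tG_mem_BG s)))
      (mul_mem (C.UG_le_BG hu') (C.tG_mem_BG s')))
  obtain rfl := mul_inv_eq_one.mp hv1
  obtain ⟨h1, h2⟩ := C.uh_unique hu hu' (mul_right_cancel (mul_right_cancel h))
  exact ⟨h1, h2, rfl⟩

theorem h_val (s : Kˣ) : G2Data.tab.chi (F := K) 11 (C.cvec s) = s := by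
  show ∏ j : Fin 2, (![s ^ 3 ^ m, s] : Fin 2 → Kˣ) j ^ G2Data.tab.cart j 11 = s
  have hc : G2Data.tab.cart 0 11 = 0 ∧ G2Data.tab.cart 1 11 = 1 := by decide +kernel
  rw [Fin.prod_univ_two]
  simp only [Fin.val_zero, Fin.val_one, hc.1, hc.2, Matrix.cons_val_zero, Matrix.cons_val_one,
    _root_.zpow_zero, _root_.zpow_one, one_mul]

/-- The Weyl element inverts the torus. -/
theorem nG_conj (s : Kˣ) : C.nG * C.tG s * C.nG⁻¹ = C.tG s⁻¹ := by
  obtain ⟨t, ht⟩ := C.mem_H0.mp (C.Z.n_conj C.J0 (C.h s) (C.mem_H0.mpr ⟨s, rfl⟩))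
  suffices h : t = s⁻¹ by subst h; exact Subtype.ext ht
  obtain ⟨c, hc⟩ := C.Z.n_act C.J0
  have h11 : (11 : ℕ) < chevG2.nroots := by decide
  have hneg : (good_G2.full.pw (C.Z.word C.J0) ⟨11, h11⟩).val = 0 := by
    exact pw_top
  obtain ⟨-, -, -, hconj⟩ := hc ⟨11, h11⟩
  have hx := hconj 1
  rw [hneg, mul_one] at hx
  -- transport the root element through both factorisations
  have e1 : C.n0 * (C.h s * good_G2.full.x 11 1 * (C.h s)⁻¹) * C.n0⁻¹ =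
      C.h t * (C.n0 * good_G2.full.x 11 1 * C.n0⁻¹) * (C.h t)⁻¹ := by
    have ht' : C.n0 * C.h s * C.n0⁻¹ = C.h t := ht
    rw [← ht']
    group
  have hs1 : C.h s * good_G2.full.x 11 1 * (C.h s)⁻¹ = good_G2.full.x 11 (s : K) := by
    show G2Data.tab.hT K (C.cvec s) * _ * (G2Data.tab.hT K (C.cvec s))⁻¹ = _
    rw [good_G2.full.hT_conj h11, C.h_val, mul_one]
  have h0 : G2Data.tab.chi (F := K) 0 (C.cvec t) = t⁻¹ := by
    show ∏ j : Fin 2, (![t ^ 3 ^ m, t] : Fin 2 → Kˣ) j ^ G2Data.tab.cart j 0 = t⁻¹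
    have hc' : G2Data.tab.cart 0 0 = 0 ∧ G2Data.tab.cart 1 0 = -1 := by decide +kernel
    rw [Fin.prod_univ_two]
    simp only [Fin.val_zero, Fin.val_one, hc'.1, hc'.2, Matrix.cons_val_zero, Matrix.cons_val_one,
      _root_.zpow_zero, _root_.zpow_neg, _root_.zpow_one, one_mul]
  have hx2 := hconj (s : K)
  rw [hneg] at hx2
  have hn : C.n0 = C.Z.n C.J0 := rfl
  rw [hs1, hn, hx2, hx] at e1
  rw [show C.h t * good_G2.full.x 0 (c ⟨11, h11⟩ : K) * (C.h t)⁻¹ =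
    good_G2.full.x 0 (((t⁻¹ : Kˣ) : K) * (c ⟨11, h11⟩ : K)) by
      show G2Data.tab.hT K (C.cvec t) * _ * (G2Data.tab.hT K (C.cvec t))⁻¹ = _
      rw [good_G2.full.hT_conj (by decide), h0]] at e1
  have e2 := good_G2.x_inj (by decide) e1
  rw [mul_comm ((c ⟨11, h11⟩ : K))] at e2
  have e3 : (s : K) = ((t⁻¹ : Kˣ) : K) := mul_right_cancel₀ (c ⟨11, h11⟩).ne_zero e2
  rw [Units.ext e3, inv_inv]

theorem nG_tG (s : Kˣ) : C.nG * C.tG s = C.tG s⁻¹ * C.nG := mul_inv_eq_iff_eq_mul.mp (C.nG_conj s)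

theorem tG_conj_uG (s : Kˣ) (t u v : K) : ∃ s₁ s₂ : Kˣ,
    s₁ = (s ^ 3 ^ m) ^ (-3 : ℤ) * s ^ (2 : ℤ) ∧ s₂ = (s ^ 3 ^ m) ^ (3 : ℤ) * s ^ (-1 : ℤ) ∧
    C.tG s * C.uG t u v * (C.tG s)⁻¹ = C.uG ((s₁ : K) * t) ((s₂ : K) * u) ((s : K) * v) := by
  obtain ⟨s₁, s₂, h1, h2, h3⟩ := C.conj_U s t u v
  exact ⟨s₁, s₂, h1, h2, Subtype.ext h3⟩

theorem tG_conj_UG (s : Kˣ) {u : RG K m} (hu : u ∈ C.UG) : C.tG s * u * (C.tG s)⁻¹ ∈ C.UG :=
  C.Z.H0_conj_U1 (C.mem_H0.mpr ⟨s, rfl⟩) hu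

theorem uG_inj {t u v t' u' v' : K} (h : C.uG t u v = C.uG t' u' v') :
    t = t' ∧ u = u' ∧ v = v' := C.U_inj (congrArg Subtype.val h)

theorem uG_zero : C.uG 0 0 0 = 1 := Subtype.ext C.U_one

theorem aG_conj_uG (t u v : K) : C.aG * C.uG t u v * C.aG⁻¹ = C.uG (-t) u (-v) := by
  obtain ⟨s₁, s₂, h1, h2, h3⟩ := C.tG_conj_uG (-1) t u v
  have e1 : s₁ = -1 := by
    rw [h1, (e_odd (m := m)).neg_one_pow, show (-3 : ℤ) = -1 + -1 + -1 from rfl, _root_.zpow_add,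
      _root_.zpow_add]
    simp
  have e2 : s₂ = 1 := by
    rw [h2, (e_odd (m := m)).neg_one_pow]
    simp [pow_succ]
  rw [show C.aG = C.tG (-1) from rfl, h3, e1, e2]
  simp

/-- A torus element of order above two centralises no non-identity unipotent element. -/
theorem eq_one_of_commute {s : Kˣ} (hs : s ^ 2 ≠ 1) {u : RG K m} (hu : u ∈ C.UG)
    (h : Commute (C.tG s) u) : u = 1 := by
  obtain ⟨t, p, r, rfl⟩ := C.mem_UG.mp hu
  by_contra hne
  refine hs (C.sq_eq_one_of_commute (t := t) (u := p) (v := r) (fun ⟨h1, h2, h3⟩ => hne (by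
    rw [h1, h2, h3, C.uG_zero])) ?_)
  exact congrArg Subtype.val (show C.tG s * C.uG t p r * (C.tG s)⁻¹ = C.uG t p r by
    rw [h.eq, mul_inv_cancel_right])

theorem aG_commute_iff {u : RG K m} (hu : u ∈ C.UG) :
    Commute C.aG u ↔ ∃ p, u = C.uG 0 p 0 := by
  obtain ⟨t, p, r, rfl⟩ := C.mem_UG.mp hu
  have key : Commute C.aG (C.uG t p r) ↔ C.uG (-t) p (-r) = C.uG t p r := by
    rw [← C.aG_conj_uG]
    exact ⟨fun h => by rw [h.eq, mul_inv_cancel_right], fun h => mul_inv_eq_iff_eq_mul.mp h⟩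
  rw [key]
  have h2 : (2 : K) ≠ 0 := fun h2 => one_ne_zero (show (1 : K) = 0 by
    linear_combination C.three_eq - h2)
  constructor
  · intro h
    obtain ⟨h1, -, h3⟩ := C.uG_inj h
    have z : ∀ x : K, -x = x → x = 0 := fun x hx =>
      (mul_eq_zero.mp (show 2 * x = 0 by linear_combination -hx)).resolve_left h2
    exact ⟨p, by rw [z t h1, z r h3]⟩
  · rintro ⟨p', e⟩
    obtain ⟨rfl, rfl, rfl⟩ := C.uG_inj e
    simp

/-- An element carrying one torus element to another. -/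
theorem torus_fusion {g : RG K m} {s s' : Kˣ} (h : g * C.tG s = C.tG s' * g) :
    (∃ u ∈ C.UG, ∃ t, g = u * C.tG t ∧ s' = s ∧ Commute (C.tG s) u) ∨
      ∃ u ∈ C.UG, ∃ t, ∃ v ∈ C.UG, g = u * C.tG t * C.nG * v ∧ s' = s⁻¹ ∧
        Commute (C.tG s') u ∧ Commute (C.tG s) v := by
  rcases C.cases g with ⟨u, hu, t, rfl⟩ | ⟨u, hu, t, v, hv, rfl⟩
  · left
    have e : u * C.tG (t * s) = C.tG s' * u * (C.tG s')⁻¹ * C.tG (s' * t) := by
      rw [map_mul, map_mul, ← mul_assoc, h]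
      group
    obtain ⟨h1, h2⟩ := C.uh_unique hu (C.tG_conj_UG s' hu) e
    rw [mul_comm s'] at h2
    obtain rfl := mul_left_cancel h2
    exact ⟨u, hu, t, rfl, rfl, (eq_mul_inv_iff_mul_eq.mp h1).symm⟩
  · right
    have hv' : C.tG s⁻¹ * v * (C.tG s⁻¹)⁻¹ ∈ C.UG := C.tG_conj_UG _ hv
    have e : u * C.tG (t * s⁻¹) * C.nG * (C.tG s⁻¹ * v * (C.tG s⁻¹)⁻¹) =
        C.tG s' * u * (C.tG s')⁻¹ * C.tG (s' * t) * C.nG * v := by
      have hn : C.tG s⁻¹ * C.nG = C.nG * C.tG s := (C.nG_tG s).symm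
      calc u * C.tG (t * s⁻¹) * C.nG * (C.tG s⁻¹ * v * (C.tG s⁻¹)⁻¹)
          = u * C.tG t * (C.tG s⁻¹ * C.nG) * C.tG s⁻¹ * v * (C.tG s⁻¹)⁻¹ := by
            rw [map_mul]; group
        _ = u * C.tG t * C.nG * v * C.tG s := by rw [hn, map_inv]; group
        _ = C.tG s' * (u * C.tG t * C.nG * v) := h
        _ = _ := by rw [map_mul]; group
    obtain ⟨h1, h2, h3⟩ := C.big_unique hu hv' (C.tG_conj_UG s' hu) hv e
    rw [mul_comm s'] at h2
    refine ⟨u, hu, t, v, hv, rfl, (mul_left_cancel h2).symm,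
      (eq_mul_inv_iff_mul_eq.mp h1).symm, ?_⟩
    have hc : Commute (C.tG s⁻¹) v := mul_inv_eq_iff_eq_mul.mp h3
    rw [map_inv] at hc
    simpa using hc.inv_left

/-- The centraliser of a torus element of order above two. -/
theorem centralizer_tG {s : Kˣ} (hs : s ^ 2 ≠ 1) :
    Subgroup.centralizer ({C.tG s} : Set (RG K m)) = C.HG := by
  refine le_antisymm (fun g hg => ?_) ?_
  · rw [Subgroup.mem_centralizer_singleton_iff] at hg
    rcases C.torus_fusion hg with ⟨u, hu, t, rfl, -, hc⟩ | ⟨u, hu, t, v, hv, -, h, -, -⟩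
    · rw [C.eq_one_of_commute hs hu hc, one_mul]
      exact C.tG_mem t
    · exfalso
      apply hs
      rw [pow_two]
      nth_rw 1 [h]
      exact inv_mul_cancel s
  · rintro _ ⟨t, rfl⟩
    rw [Subgroup.mem_centralizer_singleton_iff, ← map_mul, ← map_mul, mul_comm]

/-- The normaliser of a non-trivial cyclic group of odd order in the torus. -/
theorem normalizer_tG {s : Kˣ} (hs : s ^ 2 ≠ 1) {g : RG K m} :
    g ∈ Subgroup.normalizer (Subgroup.zpowers (C.tG s) : Set (RG K m)) ↔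
      g ∈ C.HG ∨ ∃ t, g = C.tG t * C.nG := by
  constructor
  · intro hg
    obtain ⟨k, hk⟩ := Subgroup.mem_zpowers_iff.mp
      ((Subgroup.mem_normalizer_iff.mp hg _).mp (Subgroup.mem_zpowers (C.tG s)))
    have h : g * C.tG s = C.tG (s ^ k) * g := by rw [map_zpow, hk, inv_mul_cancel_right]
    rcases C.torus_fusion h with ⟨u, hu, t, rfl, -, hc⟩ | ⟨u, hu, t, v, hv, rfl, h', hcu, hcv⟩
    · left
      rw [C.eq_one_of_commute hs hu hc, one_mul]
      exact C.tG_mem t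
    · right
      refine ⟨t, ?_⟩
      rw [C.eq_one_of_commute hs hv hcv, C.eq_one_of_commute (fun e => hs ?_) hu hcu, one_mul,
        mul_one]
      rw [h', inv_pow, inv_eq_one] at e
      exact e
  · have hH : C.HG ≤ Subgroup.normalizer (Subgroup.zpowers (C.tG s) : Set (RG K m)) := by
      rintro _ ⟨t, rfl⟩
      refine Subgroup.mem_normalizer_iff.mpr fun x => ?_
      have key : ∀ w : RG K m, ∀ (t : Kˣ), w ∈ Subgroup.zpowers (C.tG s) →
          C.tG t * w * (C.tG t)⁻¹ = w := by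
        intro w t hw
        obtain ⟨k, rfl⟩ := Subgroup.mem_zpowers_iff.mp hw
        rw [← map_zpow, ← map_inv, ← map_mul, ← map_mul, mul_comm t, mul_inv_cancel_right]
      refine ⟨fun hx => by rwa [key x t hx], fun hx => ?_⟩
      have := key _ t⁻¹ hx
      rw [map_inv, inv_inv] at this
      have e : C.tG t * x * (C.tG t)⁻¹ = x := by
        rw [← this]; group
      rwa [e] at hx
    rintro (hg | ⟨t, rfl⟩)
    · exact hH hg
    · refine mul_mem (hH (C.tG_mem t)) ?_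
      refine Subgroup.mem_normalizer_fintype fun x hx => ?_
      obtain ⟨k, rfl⟩ := Subgroup.mem_zpowers_iff.mp hx
      rw [← map_zpow, C.nG_conj, map_inv, map_zpow]
      exact inv_mem (Subgroup.zpow_mem_zpowers _ _)

/-- A non-identity unipotent element is centralised only inside the Borel subgroup. -/
theorem mem_BG_of_conj {g x : RG K m} (hx : x ∈ C.UG) (hx1 : x ≠ 1)
    (h : g * x * g⁻¹ ∈ C.UG) : g ∈ C.BG :=
  C.normal_of_not_ti g.2 hx (fun e => hx1 (Subtype.ext e)) h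

theorem BG_conj_UG {g x : RG K m} (hg : g ∈ C.BG) (hx : x ∈ C.UG) : g * x * g⁻¹ ∈ C.UG :=
  C.conj_U1 g.2 hg hx

theorem card_BG : Nat.card C.BG = (3 ^ (2 * m + 1)) ^ 3 * (3 ^ (2 * m + 1) - 1) := by
  let f : C.UG × Kˣ → C.BG := fun p => ⟨p.1 * C.tG p.2, C.mem_BG_iff.mpr ⟨_, p.1.2, _, rfl⟩⟩
  have hf : Function.Bijective f := by
    refine ⟨fun p p' h => ?_, fun ⟨g, hg⟩ => ?_⟩
    · obtain ⟨h1, h2⟩ := C.uh_unique p.1.2 p'.1.2 (congrArg Subtype.val h)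
      exact Prod.ext (Subtype.ext h1) h2
    · obtain ⟨u, hu, s, rfl⟩ := C.mem_BG_iff.mp hg
      exact ⟨(⟨u, hu⟩, s), rfl⟩
  rw [← Nat.card_eq_of_bijective f hf, Nat.card_prod, C.card_UG, C.card_units]

theorem card_RG : Nat.card (RG K m) =
    (3 ^ (2 * m + 1)) ^ 3 * (3 ^ (2 * m + 1) - 1) * ((3 ^ (2 * m + 1)) ^ 3 + 1) := C.card_group

/-- The centraliser of the involution of the torus. -/
theorem mem_centralizer_aG {g : RG K m} : Commute g C.aG ↔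
    (∃ p s, g = C.uG 0 p 0 * C.tG s) ∨
      ∃ p s r, g = C.uG 0 p 0 * C.tG s * C.nG * C.uG 0 r 0 := by
  have hneg : ((-1 : Kˣ))⁻¹ = -1 := by rw [inv_eq_iff_mul_eq_one, neg_mul_neg, one_mul]
  constructor
  · intro h
    rcases C.torus_fusion (g := g) (s := -1) (s' := -1) h.eq with
      ⟨u, hu, t, rfl, -, hc⟩ | ⟨u, hu, t, v, hv, rfl, -, hcu, hcv⟩
    · obtain ⟨p, rfl⟩ := (C.aG_commute_iff hu).mp hc
      exact Or.inl ⟨p, t, rfl⟩
    · obtain ⟨p, rfl⟩ := (C.aG_commute_iff hu).mp hcu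
      obtain ⟨r, rfl⟩ := (C.aG_commute_iff hv).mp hcv
      exact Or.inr ⟨p, t, r, rfl⟩
  · have hu : ∀ p, Commute (C.uG 0 p 0) C.aG := fun p =>
      ((C.aG_commute_iff (C.uG_mem _ _ _)).mpr ⟨p, rfl⟩).symm
    have ht : ∀ s, Commute (C.tG s) C.aG := fun s => (Commute.all s (-1 : Kˣ)).map C.tG
    have hn : Commute C.nG C.aG := by
      have := C.nG_tG (-1)
      rwa [hneg] at this
    rintro (⟨p, s, rfl⟩ | ⟨p, s, r, rfl⟩)
    · exact (hu p).mul_left (ht s)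
    · exact (((hu p).mul_left (ht s)).mul_left hn).mul_left (hu r)

theorem card_centralizer_aG :
    Nat.card (Subgroup.centralizer ({C.aG} : Set (RG K m))) =
      3 ^ (2 * m + 1) * (3 ^ (2 * m + 1) - 1) * (3 ^ (2 * m + 1) + 1) := by
  let f : (K × Kˣ) ⊕ (K × Kˣ × K) → Subgroup.centralizer ({C.aG} : Set (RG K m)) :=
    Sum.elim
      (fun p => ⟨C.uG 0 p.1 0 * C.tG p.2, Subgroup.mem_centralizer_singleton_iff.mpr
        (C.mem_centralizer_aG.mpr (Or.inl ⟨_, _, rfl⟩)).eq⟩)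
      (fun p => ⟨C.uG 0 p.1 0 * C.tG p.2.1 * C.nG * C.uG 0 p.2.2 0,
        Subgroup.mem_centralizer_singleton_iff.mpr
          (C.mem_centralizer_aG.mpr (Or.inr ⟨_, _, _, rfl⟩)).eq⟩)
  have hf : Function.Bijective f := by
    constructor
    · rintro (⟨p, s⟩ | ⟨p, s, r⟩) (⟨p', s'⟩ | ⟨p', s', r'⟩) h <;>
        replace h := congrArg Subtype.val h <;> simp only [f, Sum.elim_inl, Sum.elim_inr] at h
      · obtain ⟨h1, rfl⟩ := C.uh_unique (C.uG_mem _ _ _) (C.uG_mem _ _ _) h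
        obtain ⟨-, rfl, -⟩ := C.uG_inj h1
        rfl
      · exact absurd (h ▸ C.mem_BG_iff.mpr ⟨_, C.uG_mem _ _ _, _, rfl⟩)
          (C.big_not_mem (C.uG_mem _ _ _) (C.uG_mem _ _ _) s')
      · exact absurd (h.symm ▸ C.mem_BG_iff.mpr ⟨_, C.uG_mem _ _ _, _, rfl⟩)
          (C.big_not_mem (C.uG_mem _ _ _) (C.uG_mem _ _ _) s)
      · obtain ⟨h1, rfl, h3⟩ := C.big_unique (C.uG_mem _ _ _) (C.uG_mem _ _ _) (C.uG_mem _ _ _)
          (C.uG_mem _ _ _) h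
        obtain ⟨-, rfl, -⟩ := C.uG_inj h1
        obtain ⟨-, rfl, -⟩ := C.uG_inj h3
        rfl
    · rintro ⟨g, hg⟩
      rcases C.mem_centralizer_aG.mp (Subgroup.mem_centralizer_singleton_iff.mp hg) with
        ⟨p, s, rfl⟩ | ⟨p, s, r, rfl⟩
      · exact ⟨Sum.inl (p, s), rfl⟩
      · exact ⟨Sum.inr (p, s, r), rfl⟩
  rw [← Nat.card_eq_of_bijective f hf, Nat.card_sum]
  simp only [Nat.card_prod, C.card_units, Nat.card_eq_fintype_card (α := K), C.hK]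
  ring

end Ctx

end CfsgLib.Chev.G2Tw
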