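import Cfsg.Agent.Classical.PSLTwoFour
import Cfsg.Agent.GLElem.PSL2Classes

/-!
`PSL₂(q)` for `q ≡ 3 (mod 8)`: the non-split torus, four-groups and their normalisers.
-/

set_option autoImplicit false
set_option linter.style.haveILetI false

namespace CfsgLib.Chev.ReePSL

open Matrix
open CfsgLib.SL2C (SL mt IsTorus)
open CfsgLib.Linear.SmallSub (proj P2)
open CfsgLib.Linear.FourGroups

variable {F : Type*} [Field F] [Fintype F]

omit [Field F] in
theorem odd_card (h8 : Fintype.card F % 8 = 3) : Odd (Fintype.card F) := Nat.odd_iff.2 (by omega)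

/-- The non-split torus of `PSL₂(q)` and the centralisers of its elements. -/
theorem exists_torus (h8 : Fintype.card F % 8 = 3) :
    ∃ (x : P2 F) (U : Subgroup (P2 F)), x * x = 1 ∧ x ≠ 1 ∧ x ∈ U ∧ IsCyclic U ∧
      (Nat.card U = (Fintype.card F + 1) / 2 ∧
        Nat.card (Subgroup.normalizer (U : Set (P2 F))) = Fintype.card F + 1 ∧
        ∀ c, c * x = x * c → c ∈ Subgroup.normalizer (U : Set (P2 F))) ∧
      ∀ z ∈ U, z ≠ 1 → z ≠ x → Subgroup.centralizer ({z} : Set (P2 F)) = U := by
  have hodd := odd_card h8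
  obtain ⟨T, y, hT, hy, ht, hcard⟩ := CfsgLib.Linear.FourGroups.exists_torus hodd
  rw [if_neg (show ¬ Fintype.card F % 4 = 1 by omega)] at hcard
  have hinv := (proj_involution_iff hodd y).2 ht
  have hT2 : Nat.card (Subgroup.center (SL F)) = 2 := by
    rw [CfsgLib.Linear.card_center_SL, Fintype.card_fin, Nat.card_eq_fintype_card (α := F)]
    exact Nat.gcd_eq_left (by omega)
  set U := T.map (proj (F := F))
  have hU : Nat.card U = (Fintype.card F + 1) / 2 := by
    have e := Subgroup.card_eq_card_quotient_mul_card_subgroup ((proj (F := F)).comp T.subtype).ker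
    rw [Nat.card_congr (QuotientGroup.quotientKerEquivRange _).toEquiv, MonoidHom.range_comp,
      Subgroup.range_subtype] at e
    have hk : ((proj (F := F)).comp T.subtype).ker = (Subgroup.center (SL F)).subgroupOf T := by
      ext t
      rw [MonoidHom.mem_ker, Subgroup.mem_subgroupOf]
      exact proj_eq_one
    rw [hk, Nat.card_congr (Subgroup.subgroupOfEquivOfLe hT.center_le).toEquiv, hT2, hcard] at e
    have e' : Fintype.card F + 1 = Nat.card U * 2 := e
    omega
  haveI := hT.cyc
  haveI hUcyc : IsCyclic U :=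
    isCyclic_of_surjective ((proj (F := F)).subgroupMap T) (proj.subgroupMap_surjective T)
  have hN : Nat.card (Subgroup.normalizer (U : Set (P2 F))) = Fintype.card F + 1 := by
    have hc : U.comap (proj (F := F)) = T := by
      rw [Subgroup.comap_map_eq_self]
      intro g hg
      exact hT.center_le (proj_eq_one.1 hg)
    have e : (Subgroup.normalizer (U : Set (P2 F))).comap (proj (F := F)) =
        Subgroup.normalizer (T : Set (SL F)) := by
      rw [Subgroup.comap_normalizer_eq_of_surjective _ proj_surj, hc]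
    have h1 := congrArg Subgroup.index e
    rw [Subgroup.index_comap_of_surjective _ proj_surj] at h1
    have h2 := (Subgroup.normalizer (T : Set (SL F))).card_mul_index
    rw [← h1, hT.card_normalizer hodd, hcard,
      Subgroup.card_eq_card_quotient_mul_card_subgroup (proj (F := F)).ker,
      Nat.card_congr (QuotientGroup.quotientKerEquivOfSurjective _ proj_surj).toEquiv,
      show (proj (F := F)).ker = Subgroup.center (SL F) from Subgroup.ext fun _ => proj_eq_one,
      hT2, ← (Subgroup.normalizer (U : Set (P2 F))).card_mul_index] at h2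
    refine Nat.eq_of_mul_eq_mul_right (Nat.pos_of_ne_zero (Subgroup.index_ne_zero_of_finite
      (H := Subgroup.normalizer (U : Set (P2 F))))) ?_
    linarith
  have hCx : ∀ c, c * proj y = proj y * c → c ∈ Subgroup.normalizer (U : Set (P2 F)) := by
    intro c hc
    obtain ⟨g, rfl⟩ := proj_surj c
    have hz : g * y * g⁻¹ * y⁻¹ ∈ Subgroup.center (SL F) :=
      proj_eq_one.1 (by simp only [map_mul, map_inv, hc]; group)
    have hg : g ∈ Subgroup.normalizer (T : Set (SL F)) :=
      hT.mem_normalizer_of_mem hy (not_center_of_trace_zero hodd ht) (by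
        rw [show g * y * g⁻¹ = g * y * g⁻¹ * y⁻¹ * y by group]
        exact mul_mem (hT.center_le hz) hy)
    exact Subgroup.le_normalizer_map _ ⟨g, hg, rfl⟩
  refine ⟨proj y, U, hinv.1, hinv.2, ⟨y, hy, rfl⟩, hUcyc, ⟨hU, hN, hCx⟩, ?_⟩
  rintro _ ⟨t, htT, rfl⟩ hz1 hzx
  have htc : t ∉ Subgroup.center (SL F) := fun h => hz1 (proj_eq_one.2 h)
  have httr : (mt t).trace ≠ 0 := fun h => by
    rcases hT.tr y hy t htT (not_center_of_trace_zero hodd ht) (h.trans ht.symm) with e | e
    · exact hzx (by rw [e])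
    · exact hzx (by rw [e, map_inv]; exact inv_eq_of_mul_eq_one_right hinv.1)
  ext c
  obtain ⟨g, rfl⟩ := proj_surj c
  rw [Subgroup.mem_centralizer_singleton_iff]
  refine ⟨fun h => ⟨g, ?_, rfl⟩, ?_⟩
  · rw [SetLike.mem_coe, ← hT.cent t htT htc, Subgroup.mem_centralizer_singleton_iff]
    exact CfsgLib.PSL2Classes.commute_of_proj (Or.inr httr) h
  · rintro ⟨k, hk, hke⟩
    rw [← hke, ← map_mul, ← map_mul, hT.comm hk htT]

theorem sylow_klein (h8 : Fintype.card F % 8 = 3) (P : Sylow 2 (P2 F)) :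
    IsKleinFour (P : Subgroup (P2 F)) :=
  CfsgLib.Linear.SylowTwoSL.isKleinFour_sylow_psl rfl (Or.inl h8) P

/-- The normaliser of a Sylow 2-subgroup acts transitively on its involutions. -/
theorem klein_transitive (h8 : Fintype.card F % 8 = 3) (P : Sylow 2 (P2 F)) {a b : P2 F}
    (ha : a ∈ (P : Subgroup (P2 F))) (ha1 : a ≠ 1) (hb : b ∈ (P : Subgroup (P2 F))) (hb1 : b ≠ 1) :
    ∃ n ∈ Subgroup.normalizer ((P : Subgroup (P2 F)) : Set (P2 F)), n * a * n⁻¹ = b := by
  have hV := sylow_klein h8 P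
  obtain ⟨g, hg⟩ := isConj_iff.1 (involutions_conj (odd_card h8) (klein_sq hV hb) hb1
    (klein_sq hV ha) ha1)
  haveI : IsMulCommutative (P : Subgroup (P2 F)) :=
    ⟨⟨fun x y => Subtype.ext (klein_comm hV x.2 y.2)⟩⟩
  have hab : g⁻¹ * a * g = b := by rw [← hg]; group
  obtain ⟨n, hn, e⟩ := P.conj_eq_normalizer_conj_of_mem a g ha (by rw [hab]; exact hb)
  refine ⟨n⁻¹, inv_mem hn, ?_⟩
  rw [inv_inv, ← e, hab]

/-- The normaliser of a Sylow 2-subgroup has order twelve. -/
theorem card_normalizer (h8 : Fintype.card F % 8 = 3) (P : Sylow 2 (P2 F)) :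
    Nat.card (Subgroup.normalizer ((P : Subgroup (P2 F)) : Set (P2 F))) = 12 := by
  haveI : Fact (Nat.Prime 2) := ⟨Nat.prime_two⟩
  have h4 : ∀ Q : Sylow 2 (P2 F), Nat.card (Q : Subgroup (P2 F)) = 4 := fun Q =>
    (sylow_klein h8 Q).card_four
  let e : Sylow 2 (P2 F) → {V : Subgroup (P2 F) // IsKleinFour V} := fun Q =>
    ⟨Q, sylow_klein h8 Q⟩
  have he : Function.Bijective e := by
    refine ⟨fun Q R h => Sylow.ext (congrArg Subtype.val h), ?_⟩
    rintro ⟨V, hV⟩
    obtain ⟨Q, hQ⟩ := (IsPGroup.of_card (p := 2) (n := 2)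
      (show Nat.card V = 2 ^ 2 from hV.card_four.trans (by norm_num))).exists_le_sylow
    exact ⟨Q, Subtype.ext (Subgroup.eq_of_le_of_card_ge hQ (by rw [h4, hV.card_four])).symm⟩
  have h := count_klein (F := F) (odd_card h8)
  rw [← Nat.card_eq_of_bijective e he, Sylow.card_eq_index_normalizer P,
    ← Subgroup.card_mul_index (Subgroup.normalizer ((P : Subgroup (P2 F)) : Set (P2 F)))] at h
  exact (Nat.eq_of_mul_eq_mul_right (Nat.pos_of_ne_zero Subgroup.index_ne_zero_of_finite) h).symm

/-- A Sylow 2-subgroup is its own centraliser. -/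
theorem centralizer_sylow (h8 : Fintype.card F % 8 = 3) (P : Sylow 2 (P2 F)) :
    Subgroup.centralizer ((P : Subgroup (P2 F)) : Set (P2 F)) = P := by
  have hV := sylow_klein h8 P
  set N := Subgroup.normalizer ((P : Subgroup (P2 F)) : Set (P2 F))
  set Cc := Subgroup.centralizer ((P : Subgroup (P2 F)) : Set (P2 F))
  have hPC : (P : Subgroup (P2 F)) ≤ Cc := fun x hx =>
    Subgroup.mem_centralizer_iff.2 fun y hy => klein_comm hV hy hx
  have hCN : Cc ≤ N := Subgroup.centralizer_le_normalizer _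
  refine (Subgroup.eq_of_le_of_card_ge hPC ?_).symm
  have h1 := Subgroup.card_dvd_of_le hPC
  have h2 := Subgroup.card_dvd_of_le hCN
  rw [hV.card_four] at h1 ⊢
  rw [card_normalizer h8 P] at h2
  by_contra h
  have h12 : Nat.card Cc = 12 := by
    have := Nat.le_of_dvd (by norm_num) h2
    obtain ⟨k, hk⟩ := h1
    have : k ≤ 3 := by omega
    interval_cases k <;> simp_all (config := { decide := true })
  have hEq : Cc = N := Subgroup.eq_of_le_of_card_ge hCN (by rw [h12, card_normalizer h8 P])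
  haveI : Nontrivial (P : Subgroup (P2 F)) :=
    Finite.one_lt_card_iff_nontrivial.1 (by rw [hV.card_four]; norm_num)
  obtain ⟨a, ha⟩ := exists_ne (1 : (P : Subgroup (P2 F)))
  obtain ⟨b, hb, hb1, hba⟩ : ∃ b ∈ (P : Subgroup (P2 F)), b ≠ 1 ∧ b ≠ a := by
    by_contra hc
    push Not at hc
    have hsub : ((P : Subgroup (P2 F)) : Set (P2 F)) ⊆ {1, (a : P2 F)} := fun z hz => by
      by_cases h : z = 1
      · exact Or.inl h
      · exact Or.inr (hc z hz h)
    have := Set.ncard_le_ncard hsub
    rw [← Nat.card_coe_set_eq, show Nat.card ((P : Subgroup (P2 F)) : Set (P2 F)) =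
      Nat.card (P : Subgroup (P2 F)) from rfl, hV.card_four] at this
    have h2 := Set.ncard_insert_le (1 : P2 F) {(a : P2 F)}
    rw [Set.ncard_singleton] at h2
    omega
  obtain ⟨n, hn, e⟩ := klein_transitive h8 P a.2 (fun h => ha (Subtype.ext h)) hb hb1
  have hnC : n ∈ Cc := hEq ▸ hn
  refine hba ?_
  rw [← e, ← Subgroup.mem_centralizer_iff.1 hnC a a.2, mul_inv_cancel_right]

end CfsgLib.Chev.ReePSL
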