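import Cfsg.Agent.Chev.ReeGroup
import Cfsg.Agent.Chev.RankOne
import Cfsg.Agent.Chev.ReePSL
import Mathlib.GroupTheory.NoncommCoprod

/-!
The centraliser of an involution in the small Ree group.
-/

set_option autoImplicit false
set_option linter.style.haveILetI false

namespace CfsgLib.Chev.G2Tw

open Cfsg.Lie Matrix Tab
open scoped MatrixGroups
open CfsgLib.Linear.SmallSub (proj P2)

/-- The lower unitriangular matrix. -/
def lowM {F : Type*} [Field F] (c : F) : SL(2, F) :=
  ⟨!![1, 0; c, 1], by simp [Matrix.det_fin_two]⟩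

theorem coe_lowM {F : Type*} [Field F] (c : F) :
    (lowM c : Matrix (Fin 2) (Fin 2) F) = !![1, 0; c, 1] := rfl

theorem sl_induction {F : Type*} [Field F] (M : Subgroup (SL(2, F)))
    (hX : ∀ t, RankOne.eX t ∈ M) (hL : ∀ c, lowM c ∈ M) (g : SL(2, F)) : g ∈ M := by
  have key : ∀ g : SL(2, F), g 1 0 ≠ 0 → g ∈ M := by
    intro g hg
    have mk : ∀ a b c d : F, c ≠ 0 → a * d - b * c = 1 →
        !![a, b; c, d] = !![1, (a - 1) / c; 0, 1] * !![1, 0; c, 1] * !![1, (d - 1) / c; 0, 1] := by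
      intro a b c d hc hd
      ext i j
      fin_cases i <;> fin_cases j <;> simp [Matrix.mul_apply, Fin.sum_univ_two] <;> field_simp
      · ring
      · linear_combination -hd
      · ring
    have e : g = RankOne.eX ((g 0 0 - 1) / g 1 0) * lowM (g 1 0) *
        RankOne.eX ((g 1 1 - 1) / g 1 0) := by
      apply Subtype.ext
      rw [Matrix.SpecialLinearGroup.coe_mul, Matrix.SpecialLinearGroup.coe_mul, RankOne.coe_eX,
        RankOne.coe_eX, coe_lowM]
      exact (Matrix.eta_fin_two (g : Matrix (Fin 2) (Fin 2) F)).trans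
        (mk _ _ _ _ hg (RankOne.det_eq g))
    rw [e]
    exact mul_mem (mul_mem (hX _) (hL _)) (hX _)
  by_cases hg : g 1 0 = 0
  · have h0 : g 0 0 ≠ 0 := fun h => by
      have := RankOne.det_eq g
      rw [h, hg] at this
      simp at this
    have h' : lowM (-1) * g ∈ M := key _ (by
      simp [coe_lowM, Matrix.SpecialLinearGroup.coe_mul, Matrix.mul_apply, Fin.sum_univ_two, hg, h0])
    have := mul_mem (hL 1) h'
    rwa [← mul_assoc, show lowM (1 : F) * lowM (-1) = 1 by
      ext i j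
      fin_cases i <;> fin_cases j <;>
        simp [coe_lowM, Matrix.SpecialLinearGroup.coe_mul], one_mul] at this
  · exact key g hg

namespace Ctx

variable {K : Type*} [Field K] [Fintype K] {m : ℕ} (C : Ctx K m)
include C

theorem q_mod_eight : Fintype.card K % 8 = 3 := by
  rw [C.hK, pow_succ, pow_mul, Nat.mul_mod, Nat.pow_mod]
  norm_num

theorem exists_pair_hom : ∃ φ : SL(2, K) →* RG K m,
    (∀ t, φ (RankOne.eX t) = C.uG 0 t 0) ∧
    (∀ c, (φ (lowM c) : GL chevG2.Idx K) = C.V 0 (-c) 0) ∧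
    φ (-1) = 1 ∧ (∀ t : Kˣ, φ (RankOne.eH t) = C.tG (t ^ (3 * 3 ^ m + 1))) ∧
    ∀ x, Commute (φ x) C.aG := by
  haveI := C.charP
  haveI : ExpChar K 3 := ExpChar.prime Nat.prime_three
  have h8 : negR chevG2 8 = 3 := by decide +kernel
  have h10 : negR chevG2 10 = 1 := by decide +kernel
  obtain ⟨φ8, hr8, hφ8⟩ := good_G2.sl2_pair (F := K) (r := 8) (by decide)
  obtain ⟨φ10, hr10, hφ10⟩ := good_G2.sl2_pair (F := K) (r := 10) (by decide)
  have hn8 : chevG2.neg 8 = 3 := by rw [good_G2.full.cert.neg_eq (by decide), h8]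
  have hn10 : chevG2.neg 10 = 1 := by rw [good_G2.full.cert.neg_eq (by decide), h10]
  have x8 : ∀ t, φ8 (RankOne.eX t) = good_G2.full.x 8 t := fun t =>
    Units.ext (((hφ8 _ t).1 rfl).trans (good_G2.full.coe_x' 8 t).symm)
  have y8 : ∀ t, φ8 (lowM t) = good_G2.full.x 3 t := fun t =>
    Units.ext (((hφ8 _ t).2 rfl).trans (by rw [hn8]; exact (good_G2.full.coe_x' 3 t).symm))
  have x10 : ∀ t, φ10 (RankOne.eX t) = good_G2.full.x 10 t := fun t =>
    Units.ext (((hφ10 _ t).1 rfl).trans (good_G2.full.coe_x' 10 t).symm)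
  have y10 : ∀ t, φ10 (lowM t) = good_G2.full.x 1 t := fun t =>
    Units.ext (((hφ10 _ t).2 rfl).trans (by rw [hn10]; exact (good_G2.full.coe_x' 1 t).symm))
  have hc : ∀ p ∈ [(8, 10), (8, 1), (3, 10), (3, 1)], ∀ v w : K,
      Commute (good_G2.full.x p.1 v) (good_G2.full.x p.2 w) := fun p hp => C.commute_of
    (by revert p; decide +kernel)
  have key : ∀ (ψ : SL(2, K) →* GL chevG2.Idx K) (z : GL chevG2.Idx K),
      (∀ t, Commute (ψ (RankOne.eX t)) z) → (∀ t, Commute (ψ (lowM t)) z) →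
      ∀ g, Commute (ψ g) z := fun ψ z h1 h2 g =>
    Subgroup.mem_centralizer_singleton_iff.mp (Subgroup.mem_comap.mp
      (sl_induction (Subgroup.comap ψ (Subgroup.centralizer {z}))
        (fun t => Subgroup.mem_centralizer_singleton_iff.mpr (h1 t).eq)
        (fun t => Subgroup.mem_centralizer_singleton_iff.mpr (h2 t).eq) g))
  have hcomm : ∀ a b, Commute (φ8 a) (φ10 b) := fun a b => key φ8 (φ10 b)
    (fun t => (key φ10 _ (fun s => by rw [x8, x10]; exact (hc (8, 10) (by simp) t s).symm)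
      (fun s => by rw [x8, y10]; exact (hc (8, 1) (by simp) t s).symm) b).symm)
    (fun t => (key φ10 _ (fun s => by rw [y8, x10]; exact (hc (3, 10) (by simp) t s).symm)
      (fun s => by rw [y8, y10]; exact (hc (3, 1) (by simp) t s).symm) b).symm) a
  set θ : K →+* K := iterateFrobenius K 3 m
  have hθ : ∀ t, θ t = t ^ 3 ^ m := fun t => iterateFrobenius_def ..
  let φ0 : SL(2, K) →* GL chevG2.Idx K :=
    MonoidHom.mk' (fun g => φ8 (Matrix.SpecialLinearGroup.map θ g) * φ10 g) fun g k => by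
      simp only [map_mul]
      exact Commute.mul_mul_mul_comm (hcomm _ _) _ _
  have mX : ∀ t, Matrix.SpecialLinearGroup.map θ (RankOne.eX t) = RankOne.eX (t ^ 3 ^ m) :=
    fun t => by
      ext i j
      fin_cases i <;> fin_cases j <;> simp [RankOne.coe_eX, hθ]
  have mL : ∀ t, Matrix.SpecialLinearGroup.map θ (lowM t) = lowM (t ^ 3 ^ m) := fun t => by
    ext i j
    fin_cases i <;> fin_cases j <;> simp [coe_lowM, hθ]
  have hX : ∀ t, φ0 (RankOne.eX t) = C.U 0 t 0 := fun t => by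
    show φ8 _ * φ10 _ = _
    rw [mX, x8, x10]
    simp [U, P6, good_G2.full.x_zero]
  have hL : ∀ t, φ0 (lowM t) = C.V 0 (-t) 0 := fun t => by
    show φ8 _ * φ10 _ = _
    rw [mL, y8, y10]
    simp [V, Y', good_G2.full.x_zero, Ctx.e_odd.neg_pow]
  have hmem : ∀ g, φ0 g ∈ twistedG2 K (3 ^ m) := fun g =>
    sl_induction (Subgroup.comap φ0 (twistedG2 K (3 ^ m)))
      (fun t => by rw [Subgroup.mem_comap, hX]; exact C.U_mem _ _ _)
      (fun t => by rw [Subgroup.mem_comap, hL]; exact C.V_mem _ _ _) g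
  -- the images of the diagonal matrices
  have hH : ∀ (r r' : ℕ) (ψ : SL(2, K) →* GL chevG2.Idx K), r < 12 → negR chevG2 r = r' →
      (∀ t, ψ (RankOne.eX t) = good_G2.full.x r t) → (∀ t, ψ (lowM t) = good_G2.full.x r' t) →
      ∀ t : Kˣ, ψ (RankOne.eH t) = good_G2.full.hr r (t : K) := by
    intro r r' ψ hr hn hx hy t
    have e : ∀ u : Kˣ, ψ (RankOne.eX (u : K) * lowM (-(u : K)⁻¹) * RankOne.eX (u : K)) =
        good_G2.full.nr r (u : K) := fun u => by
      rw [map_mul, map_mul, hx, hy, Full.nr, hn]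
    have e2 : RankOne.eH t = (RankOne.eX (t : K) * lowM (-(t : K)⁻¹) * RankOne.eX (t : K)) *
        (RankOne.eX (((-1 : Kˣ) : K)) * lowM (-(((-1 : Kˣ) : K))⁻¹) *
          RankOne.eX (((-1 : Kˣ) : K))) := by
      ext i j
      fin_cases i <;> fin_cases j <;>
        simp [RankOne.coe_eH, RankOne.coe_eX, coe_lowM, Matrix.SpecialLinearGroup.coe_mul,
          inv_neg]
    rw [e2, map_mul, e, e, Units.val_neg, Units.val_one]
    rfl
  have hH0 : ∀ t : Kˣ, φ0 (RankOne.eH t) = C.h (t ^ (3 * 3 ^ m + 1)) := by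
    intro t
    show φ8 _ * φ10 _ = _
    have mH : Matrix.SpecialLinearGroup.map θ (RankOne.eH t) = RankOne.eH (t ^ 3 ^ m) := by
      ext i j
      fin_cases i <;> fin_cases j <;> simp [RankOne.coe_eH, hθ, inv_pow]
    rw [mH, hH 8 3 φ8 (by norm_num) h8 x8 y8, hH 10 1 φ10 (by norm_num) h10 x10 y10,
      good_G2.full.hr_eq_hT (by decide) (Units.ne_zero _),
      good_G2.full.hr_eq_hT (by decide) (Units.ne_zero _), Units.mk0_val, Units.mk0_val, ← map_mul]
    refine congrArg (G2Data.tab.hT K) (funext fun i : Fin 2 => ?_)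
    have hcor : G2Data.tab.cor 8 0 = 1 ∧ G2Data.tab.cor 8 1 = 3 ∧ G2Data.tab.cor 10 0 = 1 ∧
        G2Data.tab.cor 10 1 = 1 := by decide +kernel
    fin_cases i
    · show (t ^ 3 ^ m) ^ G2Data.tab.cor 8 0 * t ^ G2Data.tab.cor 10 0 =
        (t ^ (3 * 3 ^ m + 1)) ^ 3 ^ m
      rw [hcor.1, hcor.2.2.1, _root_.zpow_one, _root_.zpow_one, pow_succ t, mul_pow, ← pow_mul t,
        C.pow_q_units, mul_comm]
    · show (t ^ 3 ^ m) ^ G2Data.tab.cor 8 1 * t ^ G2Data.tab.cor 10 1 = t ^ (3 * 3 ^ m + 1)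
      rw [hcor.2.1, hcor.2.2.2, _root_.zpow_one, show (3 : ℤ) = ((3 : ℕ) : ℤ) from rfl,
        zpow_natCast, ← pow_mul, mul_comm (3 ^ m), ← pow_succ]
  have hneg : (-1 : SL(2, K)) = RankOne.eH (-1) := by
    ext i j
    fin_cases i <;> fin_cases j <;> simp [RankOne.coe_eH, inv_neg]
  refine ⟨φ0.codRestrict _ hmem, fun t => Subtype.ext (hX t), fun t => hL t,
    Subtype.ext ?_, fun t => Subtype.ext (hH0 t), fun x => ?_⟩
  · show φ0 (-1) = 1
    rw [hneg, hH0, Even.neg_one_pow ((((by decide : Odd 3)).mul Ctx.e_odd).add_one), map_one]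
  · suffices Commute (φ0 x) (C.aG : GL chevG2.Idx K) from Subtype.ext this.eq
    refine key φ0 _ (fun t => ?_) (fun t => ?_) x
    · rw [hX]
      have hu : Commute (C.uG 0 t 0) C.aG :=
        C.mem_centralizer_aG.mpr (Or.inl ⟨t, 1, by rw [map_one, mul_one]⟩)
      exact (congrArg Subtype.val hu.eq :)
    · rw [hL]
      have hV : C.V 0 (-t) 0 =
          good_G2.full.x 3 (t ^ 3 ^ m) * good_G2.full.x 1 t := by
        rw [← hL]
        show φ8 _ * φ10 _ = _
        rw [mL, y8, y10]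
      have key' : ∀ r : ℕ, r = 3 ∨ r = 1 → ∀ y : K,
          Commute (C.aG : GL chevG2.Idx K) (good_G2.full.x r y) := by
        intro r hr y
        have hlt : r < 12 := by omega
        refine mul_inv_eq_iff_eq_mul.mp ?_
        rw [show (C.aG : GL chevG2.Idx K) = C.h (-1) from rfl, C.h_conj_x hlt]
        have hct : (G2Data.tab.cart 0 r + G2Data.tab.cart 1 r) % 2 = 0 := by
          rcases hr with rfl | rfl <;> decide +kernel
        congr 1
        rw [(e_odd (m := m)).neg_one_pow, ← _root_.zpow_add,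
          Even.neg_one_zpow (Int.even_iff.mpr hct), Units.val_one, one_mul]
      rw [hV]
      exact ((key' 3 (Or.inl rfl) _).mul_right (key' 1 (Or.inr rfl) _)).symm

/-- The centraliser of the involution: the product with `PSL₂(q)`. -/
theorem exists_centralizer_hom : ∃ Φ : Multiplicative (ZMod 2) × P2 K →* RG K m,
    Function.Injective Φ ∧ Φ.range = Subgroup.centralizer ({C.aG} : Set (RG K m)) ∧
      Φ (Multiplicative.ofAdd 1, 1) = C.aG := by
  obtain ⟨φ, hX, hL, hneg, hH, hcomm⟩ := C.exists_pair_hom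
  have hker : Subgroup.center (SL(2, K)) ≤ φ.ker := by
    intro z hz
    rcases CfsgLib.SL2C.center_cases hz with rfl | rfl
    · exact one_mem _
    · rw [MonoidHom.mem_ker, show CfsgLib.SL2C.negOne K = -1 from Subtype.ext (by
        show CfsgLib.SL2C.mt _ = _
        rw [CfsgLib.SL2C.mt_negOne]; simp)]
      exact hneg
  let ψ : P2 K →* RG K m := QuotientGroup.lift _ φ hker
  have hψ : ∀ g, ψ (proj g) = φ g := fun g => rfl
  have ha2 : C.aG * C.aG = 1 := by
    rw [show C.aG = C.tG (-1) from rfl, ← map_mul, neg_mul_neg, one_mul, map_one]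
  let α : Multiplicative (ZMod 2) →* RG K m :=
    MonoidHom.mk' (fun x => if x = 1 then 1 else C.aG) fun x y => by
      have h2 : ∀ z : Multiplicative (ZMod 2), z = 1 ∨ z = Multiplicative.ofAdd 1 := by decide
      have h1 : (Multiplicative.ofAdd (1 : ZMod 2)) ≠ 1 := by decide
      rcases h2 x with rfl | rfl <;> rcases h2 y with rfl | rfl <;>
        simp [h1, ha2, show Multiplicative.ofAdd (1 : ZMod 2) * Multiplicative.ofAdd 1 = 1 by decide]
  have hα : α (Multiplicative.ofAdd 1) = C.aG := by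
    show (if Multiplicative.ofAdd (1 : ZMod 2) = 1 then (1 : RG K m) else C.aG) = C.aG
    exact if_neg (by decide)
  have hαψ : ∀ x y, Commute (α x) (ψ y) := by
    intro x y
    obtain ⟨g, rfl⟩ := CfsgLib.Linear.FourGroups.proj_surj y
    show Commute (if x = 1 then 1 else C.aG) (φ g)
    split_ifs
    · exact Commute.one_left _
    · exact (hcomm g).symm
  set Φ := α.noncommCoprod ψ hαψ
  have hle : Φ.range ≤ Subgroup.centralizer ({C.aG} : Set (RG K m)) := by
    rintro _ ⟨⟨x, y⟩, rfl⟩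
    rw [Subgroup.mem_centralizer_singleton_iff, MonoidHom.noncommCoprod_apply]
    refine (Commute.mul_left ?_ ?_).eq
    · show Commute (if x = 1 then 1 else C.aG) C.aG
      split_ifs
      · exact Commute.one_left _
      · exact Commute.refl _
    · obtain ⟨g, rfl⟩ := CfsgLib.Linear.FourGroups.proj_surj y
      exact hcomm g
  -- the generators lie in the image
  have hsl : ∀ g, φ g ∈ Φ.range := fun g => ⟨(1, proj g), by
    rw [MonoidHom.noncommCoprod_apply, map_one, one_mul]; exact hψ g⟩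
  have ha : C.aG ∈ Φ.range := ⟨(Multiplicative.ofAdd 1, 1), by
    rw [MonoidHom.noncommCoprod_apply, hα, map_one, mul_one]⟩
  have hu : ∀ p, C.uG 0 p 0 ∈ Φ.range := fun p => hX p ▸ hsl _
  have ht : ∀ s, C.tG s ∈ Φ.range := by
    intro s
    have hsq : ∀ v : Kˣ, C.tG (v ^ 2) ∈ Φ.range := by
      intro v
      have he : (v ^ (3 * 3 ^ m - 1)) ^ (3 * 3 ^ m + 1) = v ^ 2 := by
        apply mul_right_cancel (b := v)
        rw [← pow_mul, ← pow_succ]
        have h1 : (3 * 3 ^ m - 1) * (3 * 3 ^ m + 1) + 1 = 3 * (3 * 3 ^ m * 3 ^ m) := by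
          obtain ⟨k, hk⟩ : ∃ k, 3 * 3 ^ m = k + 1 :=
            ⟨3 * 3 ^ m - 1, by have := Nat.one_le_pow m 3 (by norm_num); omega⟩
          have h2 : 3 * (3 * 3 ^ m * 3 ^ m) = (k + 1) * (k + 1) := by rw [← hk]; ring
          rw [h2, hk, Nat.add_sub_cancel]
          ring
        rw [h1, pow_mul' v 3, C.pow_q_units, ← pow_succ]
      rw [← he, ← hH]
      exact hsl _
    obtain ⟨j, hj⟩ : ∃ j, (3 ^ (2 * m + 1) - 1) / 2 = 2 * j + 1 := by
      have := C.q_mod_eight
      rw [C.hK] at this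
      generalize 3 ^ (2 * m + 1) = n at this ⊢
      exact ⟨(n - 3) / 4, by omega⟩
    have hk2 : (s ^ (2 * j + 1)) ^ 2 = 1 := by
      rw [← pow_mul, ← hj, Nat.div_mul_cancel (by
        have := C.q_mod_eight; rw [C.hK] at this; omega), ← C.card_units]
      exact pow_card_eq_one'
    have e : s = s ^ (2 * j + 1) * ((s ^ j)⁻¹) ^ 2 := by
      rw [inv_pow, ← pow_mul, eq_mul_inv_iff_mul_eq, mul_comm j 2, ← pow_succ']
    rw [e, map_mul]
    refine mul_mem ?_ (hsq _)
    have hk' : ((s ^ (2 * j + 1) : Kˣ) : K) ^ 2 = 1 := by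
      rw [← Units.val_pow_eq_pow_val, hk2, Units.val_one]
    rcases sq_eq_one_iff.mp hk' with h | h
    · rw [show s ^ (2 * j + 1) = 1 from Units.ext h, map_one]
      exact one_mem _
    · rw [show s ^ (2 * j + 1) = -1 from Units.ext h]
      exact ha
  have hn : C.nG ∈ Φ.range := by
    set w : SL(2, K) := RankOne.eX (-1) * lowM 1 * RankOne.eX (-1) with hw
    have hwB : φ w ∉ C.BG := by
      intro hB
      have e : w * RankOne.eX 1 * w⁻¹ = lowM (-1) := by
        rw [mul_inv_eq_iff_eq_mul, hw]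
        ext i j
        fin_cases i <;> fin_cases j <;>
          simp [RankOne.coe_eX, coe_lowM, Matrix.SpecialLinearGroup.coe_mul]
      have hV : φ (lowM (-1)) ∈ C.BG := by
        rw [← e, map_mul, map_mul, map_inv, hX]
        exact C.UG_le_BG (C.BG_conj_UG hB (C.uG_mem 0 1 0))
      have hneg' : C.V 0 1 0 ∈ chevG2.negUnipotent K := by
        have h := C.V_mem_neg (0 : Fin 1) 0 1 0
        rw [C.flip_word] at h
        rw [good_G2.negUnipotent_eq]
        refine good_G2.US_mono (fun r hr => ?_) h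
        obtain ⟨hlt, hp⟩ := hr
        exact ⟨hlt, fun hr' => good_G2.negR_pos ⟨hlt, hr'⟩ hp.2⟩
      have h1 : φ (lowM (-1)) = 1 := by
        refine Subtype.ext ?_
        rw [hL, neg_neg]
        have : C.V 0 1 0 ∈ chevG2.borelSubgroup K ⊓ chevG2.negUnipotent K :=
          ⟨by rw [← neg_neg (1 : K), ← hL]; exact hV, hneg'⟩
        rwa [good_G2.borel_inf_neg, Subgroup.mem_bot] at this
      rw [← e, map_mul, map_mul, map_inv, conj_eq_one_iff, hX] at h1
      exact one_ne_zero (C.uG_inj (h1.trans C.uG_zero.symm)).2.1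
    rcases C.mem_centralizer_aG.mp (hcomm w) with ⟨p, s, e⟩ | ⟨p, s, r, e⟩
    · exact absurd (e ▸ C.mem_BG_iff.mpr ⟨_, C.uG_mem _ _ _, _, rfl⟩) hwB
    · have e' : C.nG = (C.uG 0 p 0 * C.tG s)⁻¹ * φ w * (C.uG 0 r 0)⁻¹ := by rw [e]; group
      rw [e']
      exact mul_mem (mul_mem (inv_mem (mul_mem (hu p) (ht s))) (hsl w)) (inv_mem (hu r))
  have hge : Subgroup.centralizer ({C.aG} : Set (RG K m)) ≤ Φ.range := by
    intro g hg
    rcases C.mem_centralizer_aG.mp (Subgroup.mem_centralizer_singleton_iff.mp hg) with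
      ⟨p, s, rfl⟩ | ⟨p, s, r, rfl⟩
    · exact mul_mem (hu p) (ht s)
    · exact mul_mem (mul_mem (mul_mem (hu p) (ht s)) hn) (hu r)
  have hrange := le_antisymm hle hge
  refine ⟨Φ, ?_, hrange, by rw [MonoidHom.noncommCoprod_apply, hα, map_one, mul_one]⟩
  have hcard : Nat.card (Multiplicative (ZMod 2) × P2 K) = Nat.card Φ.range := by
    rw [hrange, C.card_centralizer_aG, Nat.card_prod, Nat.card_congr Multiplicative.toAdd,
      Nat.card_zmod, CfsgLib.PSL2Classes.card_P2_mul (ReePSL.odd_card C.q_mod_eight), C.hK,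
      mul_assoc]
    congr 1
    have hsq := Nat.sq_sub_sq (3 ^ (2 * m + 1)) 1
    rw [one_pow] at hsq
    rw [hsq, mul_comm]
  have hbij : Function.Bijective Φ.rangeRestrict :=
    (Nat.bijective_iff_surjective_and_card _).mpr ⟨Φ.rangeRestrict_surjective, hcard⟩
  exact fun a b h => hbij.1 (Subtype.ext h)

end Ctx

end CfsgLib.Chev.G2Tw
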