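import Cfsg.Agent.Chev.ReeClass
import Cfsg.Agent.Chev.ReeGen
import Cfsg.Agent.MinDeg.ConstTrace
import Mathlib.RepresentationTheory.Character

/-!
The smallest degree of an irreducible representation of the small Ree group.
-/

set_option autoImplicit false
set_option linter.style.haveILetI false
set_option linter.unusedSectionVars false

namespace CfsgLib.MinDeg

variable {G : Type*} [Monoid G] {V : Type*} [AddCommGroup V] [Module ℂ V]
  (ρ : Representation ℂ G V) {X : Type*} [AddCommGroup X] [Fintype X] (e : Multiplicative X →* G)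

theorem proj_fixed (χ : AddChar X ℂ) (y : X) (w : V) (h : ρ (e (Multiplicative.ofAdd y)) w = w) :
    ρ (e (Multiplicative.ofAdd y)) (proj ρ e χ w) = proj ρ e χ w := by
  simp only [proj_apply, map_smul, map_sum]
  congr 1
  refine Finset.sum_congr rfl fun x _ => ?_
  rw [← Module.End.mul_apply, ← map_mul, ← map_mul, mul_comm, map_mul, map_mul,
    Module.End.mul_apply, h]

end CfsgLib.MinDeg

namespace CfsgLib.Chev.G2Tw

open Cfsg.Lie CfsgLib.MinDeg Module

namespace Ctx

variable {K : Type*} [Field K] [Fintype K] {m : ℕ} (C : Ctx K m)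
include C

/-- The abelian subgroup of the elements with trivial first coordinate. -/
noncomputable def eE : Multiplicative (K × K) →* RG K m :=
  MonoidHom.mk' (fun x => C.uG 0 x.toAdd.1 x.toAdd.2) fun x y => by
    obtain ⟨w, e, -, h⟩ := C.uG_mul 0 x.toAdd.1 x.toAdd.2 0 y.toAdd.1 y.toAdd.2
    rw [e, h rfl, toAdd_mul]
    simp [zero_pow (Nat.mul_ne_zero (by norm_num : (3:ℕ) ≠ 0) C.he0)]

/-- The centre of `U`. -/
noncomputable def eZ : Multiplicative K →* RG K m :=
  C.eE.comp (AddMonoidHom.toMultiplicative (AddMonoidHom.inr K K))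

theorem eE_apply (u v : K) : C.eE (Multiplicative.ofAdd (u, v)) = C.uG 0 u v := rfl

theorem eZ_apply (v : K) : C.eZ (Multiplicative.ofAdd v) = C.uG 0 0 v := rfl

set_option maxHeartbeats 1000000 in
theorem degree_bound (hm : 1 ≤ m) {V : Type*} [AddCommGroup V] [Module ℂ V] [FiniteDimensional ℂ V]
    (ρ : Representation ℂ (RG K m) V) (hρ : ρ.IsIrreducible) (hk : 2 ≤ finrank ℂ V) :
    qq m ^ 2 - qq m + 1 ≤ finrank ℂ V := by
  classical
  haveI : IsSimpleGroup (RG K m) := (C.isSimple hm).1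
  obtain ⟨h8, -, hge⟩ := C.arith
  have hz : ρ (C.uG 0 0 1) ≠ 1 := by
    intro h
    rcases (MonoidHom.normal_ker ρ).eq_bot_or_eq_top with e | e
    · have : C.uG 0 0 1 ∈ ρ.ker := h
      rw [e, Subgroup.mem_bot] at this
      exact one_ne_zero (C.uG_inj (this.trans C.uG_zero.symm)).2.2
    · have := rho_trivial_degree ρ hρ fun g => MonoidHom.mem_ker.mp (e ▸ Subgroup.mem_top g : g ∈ ρ.ker)
      omega
  obtain ⟨χ, hχ, hw⟩ := exists_weight ρ C.eE (x₀ := ((0 : K), (1 : K))) hz
  have hpos : 0 < finrank ℂ (weight ρ C.eE χ) := by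
    rw [Nat.pos_iff_ne_zero, Ne, Submodule.finrank_eq_zero]
    exact hw
  have h2 : (2 : K) ≠ 0 := fun h2 => one_ne_zero (show (1 : K) = 0 by
    linear_combination C.three_eq - h2)
  -- the moved characters
  choose s₁ s₂ hs₁ hs₂ hconj using fun (s : Kˣ) (u v : K) => C.tG_conj_uG s⁻¹ 0 u v
  have hs₂' : ∀ s u v, s₂ s u v = (s⁻¹ ^ 3 ^ m) ^ (3 : ℤ) * s⁻¹ ^ (-1 : ℤ) := hs₂
  let c : Kˣ → Kˣ := fun s => (s⁻¹ ^ 3 ^ m) ^ (3 : ℤ) * s⁻¹ ^ (-1 : ℤ)
  let φ : Kˣ × K → (K × K) →+ K × K := fun i =>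
    { toFun := fun x => ((c i.1 : K) * x.1, ((i.1⁻¹ : Kˣ) : K) * x.2 - i.2 * ((c i.1 : K) * x.1))
      map_zero' := by simp
      map_add' := fun x y => by simp only [Prod.fst_add, Prod.snd_add, Prod.mk_add_mk]; congr 1 <;> ring }
  have hφ : ∀ (i : Kˣ × K) x, C.eE (Multiplicative.ofAdd x) * (C.tG i.1 * C.uG i.2 0 0) =
      C.tG i.1 * C.uG i.2 0 0 * C.eE (Multiplicative.ofAdd (φ i x)) := by
    rintro ⟨s, t⟩ ⟨u, v⟩
    show C.uG 0 u v * (C.tG s * C.uG t 0 0) = C.tG s * C.uG t 0 0 *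
      C.uG 0 ((c s : K) * u) (((s⁻¹ : Kˣ) : K) * v - t * ((c s : K) * u))
    have e := hconj s u v
    rw [mul_zero, hs₂', map_inv, inv_inv] at e
    obtain ⟨w, e1, h1, -⟩ := C.uG_mul 0 ((c s : K) * u) (((s⁻¹ : Kˣ) : K) * v) t 0 0
    obtain ⟨w', e2, -, h2'⟩ := C.uG_mul t 0 0 0 ((c s : K) * u)
      (((s⁻¹ : Kˣ) : K) * v - t * ((c s : K) * u))
    calc C.uG 0 u v * (C.tG s * C.uG t 0 0)
        = C.tG s * ((C.tG s)⁻¹ * C.uG 0 u v * C.tG s * C.uG t 0 0) := by group
      _ = C.tG s * (C.uG t 0 0 * C.uG 0 ((c s : K) * u)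
            (((s⁻¹ : Kˣ) : K) * v - t * ((c s : K) * u))) := by
          rw [e, e1, e2, h1 rfl, h2' rfl]
          simp [zero_pow (Nat.mul_ne_zero (by norm_num : (3:ℕ) ≠ 0) C.he0), c]
      _ = _ := by group
  let χ' : Kˣ × K → AddChar (K × K) ℂ := fun i => χ.compAddMonoidHom (φ i)
  have hdim : ∀ i, 1 ≤ finrank ℂ (weight ρ C.eE (χ' i)) := fun i =>
    le_trans hpos (finrank_weight_conj ρ C.eE (g := C.tG i.1 * C.uG i.2 0 0)
      (g' := (C.tG i.1 * C.uG i.2 0 0)⁻¹) (inv_mul_cancel _) (φ i) (hφ i) fun x => rfl)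
  let χv : AddChar K ℂ := χ.compAddMonoidHom (AddMonoidHom.inr K K)
  have hχv : χv ≠ 1 := fun h => hχ (show χv 1 = 1 by rw [h]; rfl)
  have hprim : χv.IsPrimitive := AddChar.IsPrimitive.of_ne_one hχv
  have hval : ∀ i v, χ' i (0, v) = χv (((i.1⁻¹ : Kˣ) : K) * v) := fun i v => by
    show χ ((c i.1 : K) * 0, _) = χ (0, _)
    rw [mul_zero, mul_zero, sub_zero]
  have hinj : Function.Injective χ' := by
    rintro ⟨s, t⟩ ⟨s', t'⟩ e
    have e1 : AddChar.mulShift χv ((s⁻¹ : Kˣ) : K) = AddChar.mulShift χv ((s'⁻¹ : Kˣ) : K) := by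
      ext v
      rw [AddChar.mulShift_apply, AddChar.mulShift_apply, ← hval (s, t), e, hval]
    obtain rfl := inv_injective (Units.ext (AddChar.to_mulShift_inj_of_isPrimitive hprim e1))
    have e2 : AddChar.mulShift χv (-t) = AddChar.mulShift χv (-t') := by
      ext v
      have h := DFunLike.congr_fun e ((((c s)⁻¹ : Kˣ) : K) * v, (0 : K))
      change χ ((c s : K) * ((((c s)⁻¹ : Kˣ) : K) * v), _) =
        χ ((c s : K) * ((((c s)⁻¹ : Kˣ) : K) * v), _) at h
      rw [← mul_assoc, ← Units.val_mul, mul_inv_cancel, Units.val_one, one_mul] at h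
      have split : ∀ a b : K, χ (a, b) = χ (a, 0) * χv b := fun a b => by
        show _ = χ (a, 0) * χ (0, b)
        rw [← AddChar.map_add_eq_mul, Prod.mk_add_mk, add_zero, zero_add]
      rw [split] at h
      conv_rhs at h => rw [split]
      have h' := mul_left_cancel₀ (fun h0 => by
        have := AddChar.map_add_eq_mul χ ((v, (0 : K))) (-(v, (0 : K)))
        rw [add_neg_cancel, AddChar.map_zero_eq_one, h0, zero_mul] at this
        exact one_ne_zero this) h
      rw [AddChar.mulShift_apply, AddChar.mulShift_apply]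
      simpa [mul_comm, sub_eq_add_neg] using h'
    rw [neg_injective (AddChar.to_mulShift_inj_of_isPrimitive hprim e2)]
  have hqq : Fintype.card (Kˣ × K) = (qq m - 1) * qq m := by
    rw [Fintype.card_prod, ← Nat.card_eq_fintype_card, C.card_units, C.hK]
  by_cases h0 : weight ρ C.eZ 0 = ⊥
  · have hbound := card_mul_le_finrank ρ C.eE χ' hinj (d := 1) hdim
    rw [hqq, mul_one] at hbound
    -- the trace of an involution vanishes
    have hproj : ∀ w, proj ρ C.eZ 0 w = 0 := fun w =>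
      (Submodule.mem_bot ℂ).mp (h0 ▸ proj_mem ρ C.eZ 0 w)
    have hza : ∀ v, LinearMap.trace ℂ V (ρ C.aG * ρ (C.eZ (Multiplicative.ofAdd v))) =
        LinearMap.trace ℂ V (ρ C.aG) := fun v => by
      have e : C.aG * C.uG 0 0 v = C.uG 0 0 v * C.aG * (C.uG 0 0 v)⁻¹ := by
        have hn : C.uG 0 0 v * C.uG 0 0 v = C.uG 0 0 (-v) := by
          rw [← C.eE_apply, ← map_mul, ← ofAdd_add, C.eE_apply, Prod.mk_add_mk, add_zero]
          congr 2
          linear_combination v * C.three_eq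
        rw [eq_mul_inv_iff_mul_eq, mul_assoc, hn, ← mul_inv_eq_iff_eq_mul]
        have := C.aG_conj_uG 0 0 (-v)
        rwa [neg_zero, neg_neg] at this
      rw [C.eZ_apply, ← map_mul, e, map_mul, LinearMap.trace_mul_comm, ← map_mul, inv_mul_cancel_left]
    have htr : LinearMap.trace ℂ V (ρ C.aG) = 0 := by
      have hP : proj ρ C.eZ 0 = 0 := LinearMap.ext hproj
      have h := congrArg (fun P : V →ₗ[ℂ] V => LinearMap.trace ℂ V (ρ C.aG * P)) hP
      simp only [mul_zero, map_zero] at h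
      rw [proj] at h
      simp only [AddChar.zero_apply, one_smul, Algebra.mul_smul_comm, Finset.mul_sum, map_smul,
        map_sum, hza, Finset.sum_const, Finset.card_univ, smul_eq_mul, nsmul_eq_mul] at h
      rwa [← mul_assoc, inv_mul_cancel₀ (Nat.cast_ne_zero.mpr Fintype.card_ne_zero), one_mul] at h
    haveI : Fact (Nat.Prime 2) := ⟨Nat.prime_two⟩
    obtain ⟨S⟩ : Nonempty (Sylow 2 (RG K m)) := inferInstance
    obtain ⟨hS8, hS2⟩ := C.sylow_two S
    haveI : Fintype (S : Subgroup (RG K m)) := Fintype.ofFinite _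
    haveI : Invertible (Nat.card (S : Subgroup (RG K m)) : ℂ) :=
      invertibleOfNonzero (Nat.cast_ne_zero.mpr Nat.card_pos.ne')
    let σ : Representation ℂ (S : Subgroup (RG K m)) V := ρ.comp (S : Subgroup (RG K m)).subtype
    have havg := σ.card_inv_mul_sum_char_eq_finrank
    have hsum : ∑ g : (S : Subgroup (RG K m)), σ.character g = (finrank ℂ V : ℂ) := by
      rw [Finset.sum_eq_single 1]
      · simp
      · intro g _ hg
        show LinearMap.trace ℂ V (ρ (g : RG K m)) = 0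
        obtain ⟨x, hx⟩ := isConj_iff.mp (C.isConj_aG hm (hS2 g g.2) (fun e => hg (Subtype.ext e)))
        rw [← hx, map_mul, LinearMap.trace_mul_comm, ← map_mul, ← mul_assoc, inv_mul_cancel,
          one_mul, htr]
      · simp
    rw [hsum, hS8, inv_mul_eq_iff_eq_mul₀ (by norm_num)] at havg
    have h8k : 8 ∣ finrank ℂ V := ⟨finrank ℂ σ.invariants, by exact_mod_cast havg⟩
    rcases Nat.lt_or_ge (finrank ℂ V) (qq m ^ 2 - qq m + 1) with hlt | hle
    · exfalso
      have he : finrank ℂ V = (qq m - 1) * qq m := by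
        have : (qq m - 1) * qq m = qq m ^ 2 - qq m := by rw [Nat.sub_mul, one_mul, pow_two]
        omega
      rw [he] at h8k
      have hm8 : ((qq m - 1) * qq m) % 8 = 6 := by
        rw [Nat.mul_mod, h8, show (qq m - 1) % 8 = 2 by omega]
      omega
    · exact hle
  · obtain ⟨w, hw0, hw1⟩ := Submodule.exists_mem_ne_zero_of_ne_bot h0
    obtain ⟨χ₀, hχ₀⟩ : ∃ χ₀ : AddChar (K × K) ℂ, proj ρ C.eE χ₀ w ≠ 0 := by
      by_contra hc
      push Not at hc
      exact hw1 (by rw [← sum_proj ρ C.eE w]; exact Finset.sum_eq_zero fun χ₀ _ => hc χ₀)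
    have hmem := proj_mem ρ C.eE χ₀ w
    have hz0 : ∀ v, χ₀ ((0 : K), v) = 1 := by
      intro v
      have hfix : ρ (C.eE (Multiplicative.ofAdd ((0 : K), v))) w = w := by
        rw [show C.eE (Multiplicative.ofAdd ((0 : K), v)) = C.eZ (Multiplicative.ofAdd v) from
          (C.eE_apply 0 v).trans (C.eZ_apply v).symm, hw0 v, AddChar.zero_apply, one_smul]
      have e1 := proj_fixed ρ C.eE χ₀ ((0 : K), v) w hfix
      rw [hmem ((0 : K), v)] at e1
      by_contra hne
      exact hχ₀ ((smul_eq_zero.mp (show (χ₀ ((0 : K), v) - 1) • proj ρ C.eE χ₀ w = 0 by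
        rw [sub_smul, one_smul, e1, sub_self])).resolve_left (sub_ne_zero.mpr hne))
    let χo : Option (Kˣ × K) → AddChar (K × K) ℂ := fun o => o.elim χ₀ χ'
    have hne : ∀ i, χ' i ≠ χ₀ := fun i e => by
      refine hχv (DFunLike.ext _ _ fun v => ?_)
      have h := hz0 ((i.1 : K) * v)
      rw [← e, hval, ← mul_assoc, ← Units.val_mul, inv_mul_cancel, Units.val_one, one_mul] at h
      rw [h]
      rfl
    have hinjo : Function.Injective χo := by
      rintro (_ | i) (_ | j) e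
      · rfl
      · exact absurd e.symm (hne j)
      · exact absurd e (hne i)
      · rw [hinj e]
    have hdimo : ∀ o, 1 ≤ finrank ℂ (weight ρ C.eE (χo o)) := by
      rintro (_ | i)
      · rw [Nat.one_le_iff_ne_zero, Ne, Submodule.finrank_eq_zero]
        exact fun e => hχ₀ ((Submodule.mem_bot ℂ).mp (e ▸ hmem : proj ρ C.eE χ₀ w ∈ (⊥ : Submodule ℂ V)))
      · exact hdim i
    have hbound := card_mul_le_finrank ρ C.eE χo hinjo (d := 1) hdimo
    rw [Fintype.card_option, hqq, mul_one, Nat.sub_mul, one_mul, ← pow_two] at hbound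
    exact hbound

end Ctx

end CfsgLib.Chev.G2Tw
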