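import Cfsg.Agent.Chev.ReeClass

/-!
The two classes of cyclic Hall subgroups of orders `q ± r + 1` of the small Ree group.
-/

set_option autoImplicit false
set_option linter.style.haveILetI false
set_option linter.unusedSectionVars false

namespace CfsgLib.Chev.G2Tw

open Cfsg.Lie

namespace Ctx

variable {K : Type*} [Field K] [Fintype K] {m : ℕ} (C : Ctx K m)
include C

/-- The number `q³ (q - 1) (q + 1)`. -/
abbrev MM (m : ℕ) : ℕ := qq m ^ 3 * (qq m - 1) * (qq m + 1)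

theorem card_eq_MM : Nat.card (RG K m) = MM m * NN m := by
  rw [C.card_RG'']; ring

open scoped Classical in
/-- The non-identity elements conjugate into a subgroup. -/
noncomputable def cov (_C : Ctx K m) [Fintype (RG K m)] (T : Subgroup (RG K m)) :
    Finset (RG K m) :=
  Finset.univ.filter fun g => g ≠ 1 ∧ ∃ x : RG K m, x * g * x⁻¹ ∈ T

open scoped Classical in
/-- The non-identity elements of order dividing `q² - q + 1`. -/
noncomputable def rest (_C : Ctx K m) [Fintype (RG K m)] : Finset (RG K m) :=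
  Finset.univ.filter fun g => 1 < orderOf g ∧ orderOf g ∣ NN m

variable [Fintype (RG K m)]

theorem mem_cov {T : Subgroup (RG K m)} {g : RG K m} :
    g ∈ C.cov T ↔ g ≠ 1 ∧ ∃ x : RG K m, x * g * x⁻¹ ∈ T := by
  classical
  simp [cov]

theorem mem_rest {g : RG K m} : g ∈ C.rest ↔ 1 < orderOf g ∧ orderOf g ∣ NN m := by
  classical
  simp [rest]

theorem cov_subset_rest {p : ℕ} (hp : p.Prime) (h : p ∣ NN m) {x : RG K m} (hx : orderOf x = p) :
    C.cov (C.TT x) ⊆ C.rest := by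
  intro g hg
  obtain ⟨hg1, y, hy⟩ := C.mem_cov.mp hg
  refine C.mem_rest.mpr ⟨?_, ?_⟩
  · have := orderOf_pos g
    have := mt orderOf_eq_one_iff.mp hg1
    omega
  · rw [← C.orderOf_conj y g]
    exact C.orderOf_TT hp h hx hy

theorem exists_cls {g : RG K m} (hm : 1 ≤ m) (hg : g ∈ C.rest) :
    ∃ (p : ℕ) (x : RG K m), p.Prime ∧ p ∣ NN m ∧ orderOf x = p ∧ g ∈ C.cov (C.TT x) := by
  obtain ⟨h1, hd⟩ := C.mem_rest.mp hg
  have hne : g ≠ 1 := fun e => by rw [e, orderOf_one] at h1; omega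
  rcases C.order_cases hm hne with e | ⟨e, -⟩ | ⟨-, e, -⟩ | ⟨-, e, -⟩ | ⟨-, -, p, x, hp, hN, -, hx, hgx⟩
  · exact absurd hd (C.exclusive.2.2.2.2 (by rw [e]))
  · exact absurd hd (C.exclusive.2.2.2.1 e).2.2
  · exact absurd (C.exclusive.2.1 e hd) (by omega)
  · exact absurd (C.exclusive.2.2.1 e hd) (by omega)
  · exact ⟨p, x, hp, hN, hx, C.mem_cov.mpr ⟨hne, 1, by simpa using hgx⟩⟩

/-- The number of elements covered by a torus. -/
theorem card_cov {p : ℕ} (hp : p.Prime) (h : p ∣ NN m) {x : RG K m} (hx : orderOf x = p) :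
    ∃ c t' : ℕ, 1 ≤ c ∧ Nat.card (C.TT x) * t' = NN m ∧ 7 ≤ Nat.card (C.TT x) ∧
      6 * (C.cov (C.TT x)).card = MM m * (c * (NN m - t')) ∧
      (c = 1 → Nat.card (Subgroup.normalizer (C.TT x : Set (RG K m))) = 6 * Nat.card (C.TT x)) := by
  classical
  obtain ⟨w, hw, hN⟩ := C.card_normalizer_TT hp h hx
  obtain ⟨c, hc⟩ := hw
  obtain ⟨t', ht'⟩ := (C.torus_prime hp h hx).2.1
  have ht7 : 7 ≤ Nat.card (C.TT x) := by
    refine le_trans (prime_NN hp h).1 (Nat.le_of_dvd Nat.card_pos ?_)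
    rw [← hx]
    exact Subgroup.orderOf_dvd_natCard _ (C.mem_TT_self x)
  refine ⟨c, t', ?_, ht'.symm, ht7, ?_, fun hc1 => ?_⟩
  · rcases Nat.eq_zero_or_pos c with rfl | hc0
    · simp at hc
    · exact hc0
  swap
  · rw [hN, hc, hc1, mul_one, mul_comm]
  have hcount := ReeCount.card_covered (C.TT x)
    (fun g : RG K m => g ≠ 1 ∧ ∃ y : RG K m, y * g * y⁻¹ ∈ C.TT x)
    (fun g y hg => by
      obtain ⟨h1, z, hz⟩ := hg
      refine ⟨fun e => h1 (conj_eq_one_iff.mp e), z * y⁻¹, ?_⟩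
      rwa [show z * y⁻¹ * (y * g * y⁻¹) * (z * y⁻¹)⁻¹ = z * g * z⁻¹ by group])
    (fun g hg => hg.2) (fun a ha hPa y hy => C.mem_normalizer_TT hp h hx ha hPa.1 hy)
  have hL : Nat.card {g : RG K m // g ≠ 1 ∧ ∃ y : RG K m, y * g * y⁻¹ ∈ C.TT x} =
      (C.cov (C.TT x)).card :=
    (Nat.card_eq_fintype_card.trans (Fintype.card_subtype _)).trans
      (congrArg Finset.card (Finset.ext fun g => by simp [cov]))
  have hR : Nat.card {a : RG K m // a ∈ C.TT x ∧ a ≠ 1 ∧ ∃ y : RG K m, y * a * y⁻¹ ∈ C.TT x} =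
      Nat.card (C.TT x) - 1 := by
    rw [Nat.card_congr (Equiv.subtypeEquivRight (q := fun a : RG K m => a ∈ C.TT x ∧ a ≠ 1)
      fun a => ⟨fun hh => ⟨hh.1, hh.2.1⟩, fun hh => ⟨hh.1, hh.2, 1, by simpa using hh.1⟩⟩),
      ← Nat.card_congr (Equiv.subtypeSubtypeEquivSubtypeInter (fun a => a ∈ C.TT x)
        (fun a : RG K m => a ≠ 1)),
      Nat.card_congr (Equiv.subtypeEquivRight (q := fun a : C.TT x => a ≠ 1) fun a => by
        simp [← OneMemClass.coe_eq_one]),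
      Nat.card_eq_fintype_card, Fintype.card_subtype_compl, Fintype.card_subtype_eq,
      ← Nat.card_eq_fintype_card]
  rw [hL, hN, hR, C.card_eq_MM] at hcount
  have e6 : 6 * (C.cov (C.TT x)).card * Nat.card (C.TT x) =
      MM m * (c * (NN m - t')) * Nat.card (C.TT x) := by
    have hkey : NN m * (Nat.card (C.TT x) - 1) = (NN m - t') * Nat.card (C.TT x) := by
      rw [Nat.mul_sub, Nat.sub_mul, mul_one, mul_comm t', ← ht']
    rw [show (6 : ℕ) = w * c from hc]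
    calc w * c * (C.cov (C.TT x)).card * Nat.card (C.TT x)
        = c * ((C.cov (C.TT x)).card * (Nat.card (C.TT x) * w)) := by ring
      _ = c * (MM m * (NN m * (Nat.card (C.TT x) - 1))) := by rw [hcount, mul_assoc]
      _ = _ := by rw [hkey]; ring
  exact Nat.eq_of_mul_eq_mul_right (by omega) e6

theorem card_HG_filter : Nat.card {g : RG K m // g ∈ C.HG ∧ (2 < orderOf g ∧ orderOf g ∣ qq m - 1)} =
    qq m - 3 := by
  classical
  have hset : (Finset.univ.filter fun g : RG K m => g ∈ C.HG ∧ (2 < orderOf g ∧ orderOf g ∣ qq m - 1)) =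
      (Finset.univ.filter fun g : RG K m => g ∈ C.HG) \ {1, C.aG} := by
    ext g
    simp only [Finset.mem_filter, Finset.mem_univ, true_and, Finset.mem_sdiff, Finset.mem_insert,
      Finset.mem_singleton, not_or]
    constructor
    · rintro ⟨hH, hgt, -⟩
      refine ⟨hH, fun e => ?_, fun e => ?_⟩
      · rw [e, orderOf_one] at hgt; omega
      · have := Nat.le_of_dvd (by norm_num) (orderOf_dvd_of_pow_eq_one
          (show g ^ 2 = 1 by rw [e, pow_two, C.aG_sq]))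
        omega
    · rintro ⟨hH, h1, h2⟩
      refine ⟨hH, ?_, (Subgroup.orderOf_dvd_natCard _ hH).trans (dvd_of_eq C.card_HG)⟩
      obtain ⟨s, rfl⟩ := hH
      by_contra hle
      have hs : s ^ 2 = 1 := by
        have hpos := orderOf_pos s
        rw [C.orderOf_tG] at hle
        have : orderOf s = 1 ∨ orderOf s = 2 := by omega
        rcases this with e | e
        · rw [orderOf_eq_one_iff.mp e, one_pow]
        · rw [← e, pow_orderOf_eq_one]
      rcases C.units_sq_cases hs with rfl | rfl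
      · exact h1 (map_one _)
      · exact h2 rfl
  rw [Nat.card_eq_fintype_card, Fintype.card_subtype, hset, Finset.card_sdiff_of_subset,
    Finset.card_pair (Ne.symm C.aG_ne_one), ← Fintype.card_subtype, ← Nat.card_eq_fintype_card]
  · rw [show Nat.card {g : RG K m // g ∈ C.HG} = qq m - 1 from C.card_HG]
    omega
  · intro g hg
    simp only [Finset.mem_insert, Finset.mem_singleton] at hg
    rcases hg with rfl | rfl <;> simp [one_mem, aG, C.tG_mem]

theorem card_WG_filter : Nat.card {g : RG K m // g ∈ C.WG ∧ (2 < orderOf g ∧ orderOf g ∣ (qq m + 1) / 2)} =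
    qq m - 3 := by
  classical
  have hset : (Finset.univ.filter fun g : RG K m => g ∈ C.WG ∧ (2 < orderOf g ∧ orderOf g ∣ (qq m + 1) / 2)) =
      (Finset.univ.filter fun g : RG K m => g ∈ C.WG) \
        (Finset.univ.filter fun g : RG K m => g ∈ C.WG ∧ g * g = 1) := by
    ext g
    simp only [Finset.mem_filter, Finset.mem_univ, true_and, Finset.mem_sdiff, not_and]
    constructor
    · rintro ⟨hW, hgt, -⟩
      refine ⟨hW, fun _ e => ?_⟩
      have := Nat.le_of_dvd (by norm_num) (orderOf_dvd_of_pow_eq_one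
        (show g ^ 2 = 1 by rw [pow_two, e]))
      omega
    · rintro ⟨hW, h2⟩
      refine ⟨hW, ?_, C.orderOf_WG_dvd hW⟩
      by_contra hle
      have hpos := orderOf_pos g
      have : orderOf g = 1 ∨ orderOf g = 2 := by omega
      rcases this with e | e
      · exact h2 hW (by rw [orderOf_eq_one_iff.mp e, one_mul])
      · exact h2 hW (by rw [← pow_two, ← e, pow_orderOf_eq_one])
  rw [Nat.card_eq_fintype_card, Fintype.card_subtype, hset, Finset.card_sdiff_of_subset,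
    ← Fintype.card_subtype, ← Fintype.card_subtype, ← Nat.card_eq_fintype_card,
    ← Nat.card_eq_fintype_card, C.card_WG_sq]
  · rw [show Nat.card {g : RG K m // g ∈ C.WG} = qq m + 1 from C.card_WG]
    omega
  · intro g hg
    simp only [Finset.mem_filter, Finset.mem_univ, true_and] at hg ⊢
    exact hg.1

theorem card_rest (hm : 1 ≤ m) : 6 * C.rest.card = MM m * (2 * qq m ^ 2 - 4 * qq m) := by
  classical
  have key : ∀ g : RG K m,
      (if orderOf g = 1 then 1 else 0) + (if orderOf g = 2 then 1 else 0) +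
      (if orderOf g = 3 then 1 else 0) + (if orderOf g = 6 then 1 else 0) +
      (if orderOf g = 9 then 1 else 0) +
      (if 2 < orderOf g ∧ orderOf g ∣ qq m - 1 then 1 else 0) +
      (if 2 < orderOf g ∧ orderOf g ∣ (qq m + 1) / 2 then 1 else 0) +
      (if 1 < orderOf g ∧ orderOf g ∣ NN m then 1 else 0) = (1 : ℕ) := by
    intro g
    by_cases hg : g = 1
    · subst hg
      simp [orderOf_one]
    have hn1 : orderOf g ≠ 1 := mt orderOf_eq_one_iff.mp hg
    obtain ⟨e1, e2, e3, e4, e5⟩ := C.exclusive (n := orderOf g)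
    rcases C.order_cases hm hg with h | ⟨h3, h⟩ | ⟨h, hd, -⟩ | ⟨h, hd, -⟩ | ⟨h, hd, -⟩
    · rw [if_neg hn1, if_pos h, if_neg (by omega), if_neg (by omega), if_neg (by omega),
        if_neg (by omega), if_neg (by omega), if_neg (fun c => e5 (by rw [h]) c.2)]
    · obtain ⟨a, b, c⟩ := e4 h3
      rcases h with h | h | h <;> (rw [h] at a b c ⊢; simp [a, b, c])
    · rw [if_neg hn1, if_neg (show orderOf g ≠ 2 by omega),
        if_neg (fun z => (e4 (by rw [z])).1 hd),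
        if_neg (fun z => (e4 (by rw [z]; norm_num)).1 hd),
        if_neg (fun z => (e4 (by rw [z]; norm_num)).1 hd), if_pos ⟨h, hd⟩,
        if_neg (fun z => absurd (e1 hd z.2) (by omega)),
        if_neg (fun z => absurd (e2 hd z.2) (by omega))]
    · rw [if_neg hn1, if_neg (show orderOf g ≠ 2 by omega),
        if_neg (fun z => (e4 (by rw [z])).2.1 hd),
        if_neg (fun z => (e4 (by rw [z]; norm_num)).2.1 hd),
        if_neg (fun z => (e4 (by rw [z]; norm_num)).2.1 hd),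
        if_neg (fun z => absurd (e1 z.2 hd) (by omega)), if_pos ⟨h, hd⟩,
        if_neg (fun z => absurd (e3 hd z.2) (by omega))]
    · rw [if_neg hn1, if_neg (fun z => e5 (by rw [z]) hd),
        if_neg (fun z => (e4 (by rw [z])).2.2 hd),
        if_neg (fun z => (e4 (by rw [z]; norm_num)).2.2 hd),
        if_neg (fun z => (e4 (by rw [z]; norm_num)).2.2 hd),
        if_neg (fun z => absurd (e2 z.2 hd) (by omega)),
        if_neg (fun z => absurd (e3 z.2 hd) (by omega)), if_pos ⟨h, hd⟩]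
  have hsum := Finset.sum_congr (s₁ := (Finset.univ : Finset (RG K m))) rfl (fun g _ => key g)
  simp only [Finset.sum_add_distrib, Finset.sum_const, Finset.card_univ, smul_eq_mul, mul_one,
    ← Finset.sum_filter, ← Nat.card_eq_fintype_card, C.card_eq_MM] at hsum
  have conv : ∀ (P : RG K m → Prop) [DecidablePred P],
      (Finset.univ.filter P).card = Nat.card {g // P g} := fun P _ => by
    rw [Nat.card_eq_fintype_card, Fintype.card_subtype]
  have h1 : (Finset.univ.filter fun g : RG K m => orderOf g = 1).card = 1 := by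
    rw [Finset.card_eq_one]
    exact ⟨1, Finset.ext fun g => by simp⟩
  rw [h1, conv, conv, conv, conv, conv, conv, C.card_involutions hm,
    C.card_order_BG (dvd_refl 3), C.card_order_BG (show 3 ∣ 6 by norm_num),
    C.card_order_BG (show 3 ∣ 9 by norm_num), C.card_bOrd_three, C.card_bOrd_six,
    C.card_bOrd_nine] at hsum
  have hH := C.card_split hm (fun n => 2 < n ∧ n ∣ qq m - 1) fun n hn => hn
  have hW := C.card_nonsplit hm (fun n => 2 < n ∧ n ∣ (qq m + 1) / 2) fun n hn => hn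
  rw [C.card_HG_filter] at hH
  rw [C.card_WG_filter] at hW
  change _ + C.rest.card = _ at hsum
  generalize Nat.card {g : RG K m // 2 < orderOf g ∧ orderOf g ∣ qq m - 1} = nH at hsum hH
  generalize Nat.card {g : RG K m // 2 < orderOf g ∧ orderOf g ∣ (qq m + 1) / 2} = nW at hsum hW
  generalize C.rest.card = nR at hsum ⊢
  have hge : 27 ≤ qq m := qq_ge hm
  clear key conv
  simp only [MM, NN] at *
  generalize qq m = q at *
  have hq2 : q ≤ q ^ 2 := Nat.le_self_pow two_ne_zero _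
  have hq4 : 4 * q ≤ 2 * q ^ 2 := by nlinarith
  zify [hq2, hq4, show 1 ≤ q by omega, show 3 ≤ q by omega, show 1 ≤ q ^ 2 by omega] at hsum hH hW ⊢
  linear_combination 6 * hsum - 3 * hH - hW

/-- The data of one of the two classes of cyclic Hall subgroups. -/
structure IsTor (_C : Ctx K m) (T : Subgroup (RG K m)) (n : ℕ) : Prop where
  cyc : IsCyclic T
  card : Nat.card T = n
  normalizer : Nat.card (Subgroup.normalizer (T : Set (RG K m))) = 6 * n
  ti : ∀ a ∈ T, a ≠ 1 → ∀ g : RG K m, g * a * g⁻¹ ∈ T → g ∈ Subgroup.normalizer (T : Set (RG K m))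
  cent : ∀ a ∈ T, a ≠ 1 → Subgroup.centralizer ({a} : Set (RG K m)) = T
  conj : ∀ g : RG K m, g ≠ 1 → orderOf g ∣ n → ∃ x : RG K m, x * g * x⁻¹ ∈ T

theorem two_classes (hm : 1 ≤ m) : ∃ T₁ T₂ : Subgroup (RG K m),
    C.IsTor T₁ (qq m - 3 ^ (m + 1) + 1) ∧ C.IsTor T₂ (qq m + 3 ^ (m + 1) + 1) ∧
    (qq m - 3 ^ (m + 1) + 1) * (qq m + 3 ^ (m + 1) + 1) = NN m ∧
    ∀ g : RG K m, orderOf g ∣ NN m → orderOf g ∣ qq m - 3 ^ (m + 1) + 1 ∨ orderOf g ∣ qq m + 3 ^ (m + 1) + 1 := by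
  classical
  have hge : 27 ≤ qq m := qq_ge hm
  have hR := C.card_rest hm
  have hq4 : 4 * qq m ≤ 2 * qq m ^ 2 := by nlinarith
  have hq2 : qq m ≤ qq m ^ 2 := Nat.le_self_pow two_ne_zero _
  have hNN : NN m + qq m = qq m ^ 2 + 1 := by unfold NN; omega
  have hMpos : 0 < MM m := Nat.mul_pos (Nat.mul_pos (pow_pos (by omega) 3) (by omega)) (by omega)
  have hlow : NN m + 4 * qq m ≤ 2 * qq m ^ 2 := by nlinarith
  -- a first class
  have hne : C.rest.Nonempty := by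
    rw [← Finset.card_pos]
    refine Nat.pos_of_ne_zero fun e => ?_
    rw [e, mul_zero] at hR
    rcases Nat.mul_eq_zero.mp hR.symm with h | h <;> omega
  obtain ⟨g₁, hg₁⟩ := hne
  obtain ⟨p₁, x₁, hp₁, hN₁, hx₁, hgc₁⟩ := C.exists_cls hm hg₁
  obtain ⟨c₁, t₁', hc₁, ht₁, h7₁, hcov₁, hn₁⟩ := C.card_cov hp₁ hN₁ hx₁
  have hs₁ : 7 * t₁' ≤ NN m := by rw [← ht₁]; exact Nat.mul_le_mul_right _ h7₁
  have hsub₁ := C.cov_subset_rest hp₁ hN₁ hx₁
  -- a second class
  obtain ⟨g₂, hg₂, hg₂'⟩ : ∃ g ∈ C.rest, g ∉ C.cov (C.TT x₁) := by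
    by_contra hc
    push Not at hc
    have e : C.cov (C.TT x₁) = C.rest := Finset.Subset.antisymm hsub₁ hc
    rw [e, hR] at hcov₁
    have e' := Nat.eq_of_mul_eq_mul_left hMpos hcov₁
    rcases (show c₁ = 1 ∨ c₁ = 2 ∨ 3 ≤ c₁ by omega) with h | h | h
    · subst h
      have : 0 < t₁' := by
        rcases Nat.eq_zero_or_pos t₁' with z | z
        · rw [z, mul_zero] at ht₁; omega
        · exact z
      omega
    · subst h
      have ht : t₁' = qq m + 1 := by omega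
      obtain ⟨ℓ, hℓ, hd⟩ := Nat.exists_prime_and_dvd (n := qq m + 1) (by omega)
      have hdN : qq m + 1 ∣ NN m := ⟨Nat.card (C.TT x₁), by rw [← ht₁, ht, mul_comm]⟩
      exact (separated hℓ).2.2.1 hd (hd.trans hdN)
    · have : 3 * (NN m - t₁') ≤ c₁ * (NN m - t₁') := Nat.mul_le_mul_right _ h
      omega
  obtain ⟨p₂, x₂, hp₂, hN₂, hx₂, hgc₂⟩ := C.exists_cls hm hg₂
  obtain ⟨c₂, t₂', hc₂, ht₂, h7₂, hcov₂, hn₂⟩ := C.card_cov hp₂ hN₂ hx₂
  have hs₂ : 7 * t₂' ≤ NN m := by rw [← ht₂]; exact Nat.mul_le_mul_right _ h7₂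
  have hsub₂ := C.cov_subset_rest hp₂ hN₂ hx₂
  have hdisj : ∀ {p q' : ℕ} {x y : RG K m}, p.Prime → p ∣ NN m → orderOf x = p → q'.Prime →
      q' ∣ NN m → orderOf y = q' → (∃ g, g ∈ C.cov (C.TT x) ∧ g ∈ C.cov (C.TT y)) →
      C.cov (C.TT y) ⊆ C.cov (C.TT x) := by
    intro p q' x y hp hpN hx hq hqN hy ⟨g, hgx, hgy⟩ w hw
    obtain ⟨hg1, a, ha⟩ := C.mem_cov.mp hgx
    obtain ⟨-, b, hb⟩ := C.mem_cov.mp hgy
    obtain ⟨hw1, d, hd⟩ := C.mem_cov.mp hw
    refine C.mem_cov.mpr ⟨hw1, a * b⁻¹ * d, ?_⟩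
    have e1 := C.centralizer_TT hp hpN hx ha (fun e => hg1 (conj_eq_one_iff.mp e))
    have e2 := C.centralizer_TT hq hqN hy hb (fun e => hg1 (conj_eq_one_iff.mp e))
    rw [← e2, Subgroup.mem_centralizer_singleton_iff] at hd
    rw [← e1, Subgroup.mem_centralizer_singleton_iff,
      show a * b⁻¹ * d * w * (a * b⁻¹ * d)⁻¹ = a * b⁻¹ * (d * w * d⁻¹) * (a * b⁻¹)⁻¹ by group,
      show a * g * a⁻¹ = a * b⁻¹ * (b * g * b⁻¹) * (a * b⁻¹)⁻¹ by group,
      ← MulAut.conj_apply (a * b⁻¹), ← MulAut.conj_apply (a * b⁻¹), ← map_mul, ← map_mul, hd]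
  have hd₁₂ : Disjoint (C.cov (C.TT x₁)) (C.cov (C.TT x₂)) := by
    rw [Finset.disjoint_left]
    intro g a b
    exact hg₂' (hdisj hp₁ hN₁ hx₁ hp₂ hN₂ hx₂ ⟨g, a, b⟩ hgc₂)
  -- there is no third class
  have hall : C.cov (C.TT x₁) ∪ C.cov (C.TT x₂) = C.rest := by
    refine Finset.Subset.antisymm (Finset.union_subset hsub₁ hsub₂) fun g hg => ?_
    by_contra hnot
    obtain ⟨p₃, x₃, hp₃, hN₃, hx₃, hgc₃⟩ := C.exists_cls hm hg
    obtain ⟨c₃, t₃', hc₃, ht₃, h7₃, hcov₃, -⟩ := C.card_cov hp₃ hN₃ hx₃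
    have hs₃ : 7 * t₃' ≤ NN m := by rw [← ht₃]; exact Nat.mul_le_mul_right _ h7₃
    have hd₃ : Disjoint (C.cov (C.TT x₁) ∪ C.cov (C.TT x₂)) (C.cov (C.TT x₃)) := by
      rw [Finset.disjoint_left]
      intro k a b
      rcases Finset.mem_union.mp a with a | a
      · exact hnot (Finset.mem_union_left _ (hdisj hp₁ hN₁ hx₁ hp₃ hN₃ hx₃ ⟨k, a, b⟩ hgc₃))
      · exact hnot (Finset.mem_union_right _ (hdisj hp₂ hN₂ hx₂ hp₃ hN₃ hx₃ ⟨k, a, b⟩ hgc₃))
    have hle := Finset.card_le_card (Finset.union_subset (Finset.union_subset hsub₁ hsub₂)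
      (C.cov_subset_rest hp₃ hN₃ hx₃))
    rw [Finset.card_union_of_disjoint hd₃, Finset.card_union_of_disjoint hd₁₂] at hle
    have hM : MM m * (c₁ * (NN m - t₁') + c₂ * (NN m - t₂') + c₃ * (NN m - t₃')) ≤
        MM m * (2 * qq m ^ 2 - 4 * qq m) := by
      rw [← hR, Nat.mul_add, Nat.mul_add, ← hcov₁, ← hcov₂, ← hcov₃]
      omega
    have h := Nat.le_of_mul_le_mul_left hM hMpos
    have : NN m - t₁' ≤ c₁ * (NN m - t₁') := Nat.le_mul_of_pos_left _ hc₁
    have : NN m - t₂' ≤ c₂ * (NN m - t₂') := Nat.le_mul_of_pos_left _ hc₂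
    have : NN m - t₃' ≤ c₃ * (NN m - t₃') := Nat.le_mul_of_pos_left _ hc₃
    omega
  have hsum : c₁ * (NN m - t₁') + c₂ * (NN m - t₂') = 2 * qq m ^ 2 - 4 * qq m := by
    refine Nat.eq_of_mul_eq_mul_left hMpos ?_
    rw [← hR, Nat.mul_add, ← hcov₁, ← hcov₂, ← hall, Finset.card_union_of_disjoint hd₁₂]
    ring
  obtain ⟨rfl, rfl⟩ : c₁ = 1 ∧ c₂ = 1 := by
    have a1 : NN m - t₁' ≤ c₁ * (NN m - t₁') := Nat.le_mul_of_pos_left _ hc₁
    have a2 : NN m - t₂' ≤ c₂ * (NN m - t₂') := Nat.le_mul_of_pos_left _ hc₂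
    constructor <;> by_contra hne
    · have : 2 * (NN m - t₁') ≤ c₁ * (NN m - t₁') := Nat.mul_le_mul_right _ (by omega)
      omega
    · have : 2 * (NN m - t₂') ≤ c₂ * (NN m - t₂') := Nat.mul_le_mul_right _ (by omega)
      omega
  rw [one_mul, one_mul] at hsum
  have hsum' : t₁' + t₂' = 2 * qq m + 2 := by omega
  -- the orders are coprime
  have hcop : Nat.Coprime (Nat.card (C.TT x₁)) (Nat.card (C.TT x₂)) := by
    refine Nat.coprime_of_dvd fun ℓ hℓ hd1 hd2 => ?_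
    haveI := Fact.mk hℓ
    obtain ⟨⟨y, hy⟩, hyo⟩ := exists_prime_orderOf_dvd_card' (G := C.TT x₂) ℓ hd2
    rw [Subgroup.orderOf_mk] at hyo
    obtain ⟨z, hz⟩ := ReeCount.exists_conj_of_orderOf (C.TT x₁) (C.index_TT hp₁ hN₁ hx₁ hℓ hd1)
      (hyo.trans (pow_one ℓ).symm)
    have hy1 : y ≠ 1 := fun e => hℓ.one_lt.ne (by rw [← hyo, e, orderOf_one])
    exact Finset.disjoint_left.mp hd₁₂ (C.mem_cov.mpr ⟨hy1, z, hz⟩)
      (C.mem_cov.mpr ⟨hy1, 1, by simpa using hy⟩)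
  set t₁ := Nat.card (C.TT x₁) with ht₁def
  set t₂ := Nat.card (C.TT x₂) with ht₂def
  obtain ⟨k, hk⟩ := hcop.mul_dvd_of_dvd_of_dvd ⟨t₁', ht₁.symm⟩ ⟨t₂', ht₂.symm⟩
  have e1 : t₁' = t₂ * k := Nat.eq_of_mul_eq_mul_left (show 0 < t₁ by omega) (by
    rw [ht₁, hk]; ring)
  have e2 : t₂' = t₁ * k := Nat.eq_of_mul_eq_mul_left (show 0 < t₂ by omega) (by
    rw [ht₂, hk]; ring)
  obtain rfl : k = 1 := by
    by_contra hk1
    obtain ⟨ℓ, hℓ, hd⟩ := Nat.exists_prime_and_dvd hk1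
    have hℓN : ℓ ∣ NN m := hd.trans ⟨t₁ * t₂, by rw [hk]; ring⟩
    have hℓq : ℓ ∣ 2 * (qq m + 1) := by
      rw [show 2 * (qq m + 1) = t₁' + t₂' by omega, e1, e2, ← add_mul]
      exact hd.mul_left _
    rcases hℓ.dvd_mul.mp hℓq with h | h
    · exact (separated hℓ).2.2.2.2 ((Nat.prime_dvd_prime_iff_eq hℓ Nat.prime_two).mp h) hℓN
    · exact (separated hℓ).2.2.1 h hℓN
  rw [mul_one] at hk e1 e2
  have hr : (3 ^ (m + 1)) ^ 2 = 3 * qq m := by
    rw [← pow_mul, ← pow_succ']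
    congr 1
    ring
  have hrle : 3 ^ (m + 1) ≤ qq m := Nat.pow_le_pow_right (by norm_num) (by omega)
  have hmul : (qq m - 3 ^ (m + 1) + 1) * (qq m + 3 ^ (m + 1) + 1) = NN m := by
    unfold NN
    zify [hrle, hq2] at hr ⊢
    linear_combination -hr
  have hconj : ∀ g : RG K m, g ≠ 1 → orderOf g ∣ NN m →
      (∃ y, y * g * y⁻¹ ∈ C.TT x₁) ∨ ∃ y, y * g * y⁻¹ ∈ C.TT x₂ := by
    intro g hg hd
    have h1 : 1 < orderOf g := by
      have := orderOf_pos g
      have := mt orderOf_eq_one_iff.mp hg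
      omega
    have := hall ▸ C.mem_rest.mpr ⟨h1, hd⟩
    rcases Finset.mem_union.mp this with h | h
    · exact Or.inl (C.mem_cov.mp h).2
    · exact Or.inr (C.mem_cov.mp h).2
  have hdvd : ∀ {x : RG K m} {g : RG K m}, (∃ y, y * g * y⁻¹ ∈ C.TT x) →
      orderOf g ∣ Nat.card (C.TT x) := fun {x g} ⟨y, hy⟩ => by
    rw [← C.orderOf_conj y g]
    exact Subgroup.orderOf_dvd_natCard _ hy
  have mk₁ : C.IsTor (C.TT x₁) t₁ := ⟨(C.torus_prime hp₁ hN₁ hx₁).1, rfl, hn₁ rfl,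
    fun a ha ha1 g hg => C.mem_normalizer_TT hp₁ hN₁ hx₁ ha ha1 hg,
    fun a ha ha1 => C.centralizer_TT hp₁ hN₁ hx₁ ha ha1, fun g hg hd =>
      (hconj g hg (hd.trans ⟨t₁', ht₁.symm⟩)).resolve_right fun h => hg (orderOf_eq_one_iff.mp
        (Nat.eq_one_of_dvd_coprimes hcop hd (hdvd h)))⟩
  have mk₂ : C.IsTor (C.TT x₂) t₂ := ⟨(C.torus_prime hp₂ hN₂ hx₂).1, rfl, hn₂ rfl,
    fun a ha ha1 g hg => C.mem_normalizer_TT hp₂ hN₂ hx₂ ha ha1 hg,
    fun a ha ha1 => C.centralizer_TT hp₂ hN₂ hx₂ ha ha1, fun g hg hd =>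
      (hconj g hg (hd.trans ⟨t₂', ht₂.symm⟩)).resolve_left fun h => hg (orderOf_eq_one_iff.mp
        (Nat.eq_one_of_dvd_coprimes hcop (hdvd h) hd))⟩
  have hor : ∀ g : RG K m, orderOf g ∣ NN m → orderOf g ∣ t₁ ∨ orderOf g ∣ t₂ := by
    intro g hd
    by_cases hg : g = 1
    · exact Or.inl (by simp [hg])
    · exact (hconj g hg hd).imp hdvd hdvd
  have hval : (t₁ = qq m - 3 ^ (m + 1) + 1 ∧ t₂ = qq m + 3 ^ (m + 1) + 1) ∨
      (t₂ = qq m - 3 ^ (m + 1) + 1 ∧ t₁ = qq m + 3 ^ (m + 1) + 1) := by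
    have hNZ : ((NN m : ℕ) : ℤ) = (t₁ : ℤ) * t₂ := by exact_mod_cast hk
    rw [NN_cast] at hNZ
    have hsZ : (t₁ : ℤ) + t₂ = 2 * (qq m : ℤ) + 2 := by
      exact_mod_cast (show t₁ + t₂ = 2 * qq m + 2 by omega)
    have hrZ : ((3 ^ (m + 1) : ℕ) : ℤ) ^ 2 = 3 * (qq m : ℤ) := by exact_mod_cast hr
    have hsq : ((t₁ : ℤ) - ((qq m : ℤ) + 1)) ^ 2 = ((3 ^ (m + 1) : ℕ) : ℤ) ^ 2 := by
      linear_combination (t₁ : ℤ) * hsZ + hNZ - hrZ
    rcases eq_or_eq_neg_of_sq_eq_sq _ _ hsq with h | h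
    · right; omega
    · left; omega
  rcases hval with ⟨h1, h2⟩ | ⟨h1, h2⟩
  · exact ⟨_, _, h1 ▸ mk₁, h2 ▸ mk₂, hmul, fun g hd => h1 ▸ h2 ▸ hor g hd⟩
  · exact ⟨_, _, h1 ▸ mk₂, h2 ▸ mk₁, hmul, fun g hd => h1 ▸ h2 ▸ (hor g hd).symm⟩

end Ctx

end CfsgLib.Chev.G2Tw
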