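import Cfsg.Agent.Chev.ReeMultThree
import Cfsg.Agent.Chev.ReeTwo
import Cfsg.Agent.SL2Mult.Criterion

/-!
The Schur multiplier of the small Ree group is trivial.
-/

set_option autoImplicit false
set_option linter.style.haveILetI false

namespace CfsgLib.Chev.G2Tw

open scoped commutatorElement

namespace Ctx

variable {K : Type*} [Field K] [Fintype K] {m : ℕ} (C : Ctx K m)
include C

/-- The subgroups carrying the Sylow subgroups for the primes above three. -/
theorem exists_cyclic_index (hm : 1 ≤ m) {ℓ : ℕ} (hℓ : ℓ.Prime) (h2 : ℓ ≠ 2) (h3 : ℓ ≠ 3)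
    (hdvd : ℓ ∣ Nat.card (RG K m)) : ∃ A : Subgroup (RG K m), IsCyclic A ∧ ¬ ℓ ∣ A.index := by
  rcases C.prime_dvd_card hℓ hdvd with h | h | h | h
  · exact absurd h h3
  · exact ⟨C.HG, C.isCyclic_HG, C.index_HG hℓ h2 h⟩
  · have h4 : ℓ ∣ (qq m + 1) / 4 := by
      obtain ⟨h8, -⟩ := C.arith
      have hcop : Nat.Coprime ℓ (2 ^ 2) := Nat.Coprime.pow_right 2
        ((Nat.coprime_primes hℓ Nat.prime_two).mpr h2)
      refine hcop.dvd_of_dvd_mul_left ?_
      convert h using 1
      omega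
    exact ⟨C.AG, C.isCyclic_AG, C.index_AG hℓ h4⟩
  · classical
    haveI := Fintype.ofFinite (RG K m)
    obtain ⟨T₁, T₂, hT₁, hT₂, hmul, -⟩ := C.two_classes hm
    have hr : 3 ^ (m + 1) ≤ qq m := Nat.pow_le_pow_right (by norm_num) (by omega)
    set n₁ := qq m - 3 ^ (m + 1) + 1 with hn₁
    set n₂ := qq m + 3 ^ (m + 1) + 1 with hn₂
    obtain ⟨s1, s2, s3, -, -⟩ := separated (m := m) hℓ
    have hMM : ¬ ℓ ∣ MM m := by
      refine hℓ.not_dvd_mul (hℓ.not_dvd_mul (fun hd => h3 ?_) (fun hd => s2 hd h)) (fun hd => s3 hd h)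
      exact (Nat.prime_dvd_prime_iff_eq hℓ Nat.prime_three).mp
        (hℓ.dvd_of_dvd_pow (hℓ.dvd_of_dvd_pow hd))
    have hsep : ℓ ∣ n₁ → ¬ ℓ ∣ n₂ := fun a b => by
      have hab : ℓ ∣ 2 * (qq m + 1) := by
        rw [show 2 * (qq m + 1) = n₁ + n₂ by omega]
        exact Nat.dvd_add a b
      rcases hℓ.dvd_mul.mp hab with hd | hd
      · exact h2 ((Nat.prime_dvd_prime_iff_eq hℓ Nat.prime_two).mp hd)
      · exact s3 hd h
    have key : ∀ (T : Subgroup (RG K m)) (n n' : ℕ), C.IsTor T n → n * n' = NN m → ¬ ℓ ∣ n' →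
        ∃ A : Subgroup (RG K m), IsCyclic A ∧ ¬ ℓ ∣ A.index := by
      intro T n n' hT hnn hn'
      refine ⟨T, hT.cyc, ?_⟩
      have e := T.card_mul_index
      rw [hT.card, C.card_eq_MM, ← hnn] at e
      have hn0 : n ≠ 0 := fun h0 => by
        have := hT.card
        rw [h0] at this
        exact Nat.card_pos.ne' this
      rw [Nat.eq_of_mul_eq_mul_left (Nat.pos_of_ne_zero hn0) (e.trans (by ring :
        MM m * (n * n') = n * (MM m * n')))]
      exact hℓ.not_dvd_mul hMM hn'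
    have hN : ℓ ∣ NN m := h
    rw [← hmul] at hN
    rcases hℓ.dvd_mul.mp hN with h1 | h2'
    · exact key T₁ n₁ n₂ hT₁ hmul (hsep h1)
    · exact key T₂ n₂ n₁ hT₂ (by rw [← hmul, mul_comm]) (fun a => hsep a h2')

section

variable {Γ : Type*} [Group Γ] [Finite Γ] {σ : Γ →* RG K m}

omit [Fintype K] C in
/-- The image of a Sylow subgroup. -/
theorem exists_map_sylow (hσ : Cfsg.IsStemExtension σ) {ℓ : ℕ} [Fact ℓ.Prime] (P : Sylow ℓ Γ) :
    ∃ S : Sylow ℓ (RG K m), (S : Subgroup (RG K m)) = (P : Subgroup Γ).map σ := by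
  have hidx : ¬ ℓ ∣ ((P : Subgroup Γ).map σ).index := fun h =>
    P.not_dvd_index (h.trans (Subgroup.index_map_dvd _ hσ.1))
  exact ⟨(P.isPGroup'.map σ).toSylow hidx, IsPGroup.toSylow_coe _ _⟩

omit [Fintype K] C in
/-- An abelian Sylow subgroup carries no kernel. -/
theorem sylow_ker_of_comm (hσ : Cfsg.IsStemExtension σ) {ℓ : ℕ} [Fact ℓ.Prime] (P : Sylow ℓ Γ)
    (h : ∀ x ∈ (P : Subgroup Γ), ∀ y ∈ (P : Subgroup Γ), ⁅x, y⁆ = 1) :
    (σ.subgroupMap (P : Subgroup Γ)).ker = ⊥ := by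
  refine le_bot_iff.1 ((CfsgLib.SL2Mult.isStemExtension_sylow hσ P).2.2.trans (le_of_eq ?_))
  rw [commutator_def, ← le_bot_iff, Subgroup.commutator_le]
  intro x _ y _
  exact Subgroup.mem_bot.2 (Subtype.ext (h x x.2 y y.2))

omit [Finite Γ] C in
omit [Fintype K] in
/-- Commutators depend only on the images. -/
theorem commutator_ind (hσ : Cfsg.IsStemExtension σ) {x x' y y' : Γ} (hx : σ x = σ x')
    (hy : σ y = σ y') : ⁅x, y⁆ = ⁅x', y'⁆ := by
  have hK : ∀ w, σ w = 1 → ∀ x, x * w = w * x := fun w hw x =>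
    Subgroup.mem_center_iff.1 (hσ.2.1 hw) x
  obtain ⟨u, hu, rfl⟩ : ∃ u, σ u = 1 ∧ x = x' * u :=
    ⟨x'⁻¹ * x, by rw [map_mul, map_inv, hx, inv_mul_cancel], by group⟩
  obtain ⟨w, hw, rfl⟩ : ∃ w, σ w = 1 ∧ y = y' * w :=
    ⟨y'⁻¹ * y, by rw [map_mul, map_inv, hy, inv_mul_cancel], by group⟩
  rw [commutatorElement_def, commutatorElement_def]
  calc x' * u * (y' * w) * (x' * u)⁻¹ * (y' * w)⁻¹
      = x' * (u * (y' * w)) * u⁻¹ * x'⁻¹ * w⁻¹ * y'⁻¹ := by group
    _ = x' * y' * (w * x'⁻¹) * w⁻¹ * y'⁻¹ := by rw [← hK u hu (y' * w)]; group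
    _ = x' * y' * x'⁻¹ * y'⁻¹ := by rw [← hK w hw x'⁻¹]; group

/-- An element of order seven moving the involutions of a Sylow 2-subgroup in one cycle. -/
theorem exists_seven (hm : 1 ≤ m) (S : Sylow 2 (RG K m)) :
    ∃ n ∈ Subgroup.normalizer ((S : Subgroup (RG K m)) : Set (RG K m)), n ^ 7 = 1 ∧
      ∀ x ∈ (S : Subgroup (RG K m)), n * x * n⁻¹ = x → x = 1 := by
  haveI := Fact.mk (show Nat.Prime 7 by norm_num)
  haveI : Fact (Nat.Prime 2) := ⟨Nat.prime_two⟩
  obtain ⟨⟨n, hn⟩, ho⟩ := exists_prime_orderOf_dvd_card'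
    (G := Subgroup.normalizer ((S : Subgroup (RG K m)) : Set (RG K m))) 7
    (by rw [C.card_normalizer_sylow hm S]; norm_num)
  rw [Subgroup.orderOf_mk] at ho
  refine ⟨n, hn, ho ▸ pow_orderOf_eq_one n, fun x hx hfix => ?_⟩
  by_contra hx1
  obtain ⟨h8, hsq⟩ := C.sylow_two S
  -- the six other non-identity elements form an invariant set with a fixed point
  have hcard : Nat.card {y : (S : Subgroup (RG K m)) // (y : RG K m) ≠ 1 ∧ (y : RG K m) ≠ x} = 6 := by
    classical
    haveI := Fintype.ofFinite (S : Subgroup (RG K m))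
    rw [Nat.card_eq_fintype_card, Fintype.card_subtype]
    have e : (Finset.univ.filter fun y : (S : Subgroup (RG K m)) =>
        (y : RG K m) ≠ 1 ∧ (y : RG K m) ≠ x) = ((Finset.univ.erase 1).erase ⟨x, hx⟩) := by
      ext y
      simp only [Finset.mem_filter, Finset.mem_univ, true_and, Finset.mem_erase, and_true]
      exact ⟨fun ⟨a, b⟩ => ⟨fun h => b (congrArg Subtype.val h), fun h => a (congrArg Subtype.val h)⟩,
        fun ⟨a, b⟩ => ⟨fun h => b (Subtype.ext h), fun h => a (Subtype.ext h)⟩⟩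
    rw [e, Finset.card_erase_of_mem, Finset.card_erase_of_mem (Finset.mem_univ _), Finset.card_univ,
      ← Nat.card_eq_fintype_card]
    · show Nat.card (S : Subgroup (RG K m)) - 1 - 1 = 6
      rw [h8]
    · exact Finset.mem_erase.2 ⟨fun h => hx1 (congrArg Subtype.val h), Finset.mem_univ _⟩
  have hall : ∀ y ∈ (S : Subgroup (RG K m)), n * y * n⁻¹ = y := by
    intro y hy
    by_contra hne
    -- the orbit of `y` has seven elements
    let f : Fin 7 → {y : (S : Subgroup (RG K m)) // (y : RG K m) ≠ 1 ∧ (y : RG K m) ≠ x} := fun i =>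
      ⟨⟨n ^ (i : ℕ) * y * (n ^ (i : ℕ))⁻¹,
        (Subgroup.mem_normalizer_iff.mp (pow_mem hn _) _).mp hy⟩,
        fun e => hne (by
          rw [show y = 1 from conj_eq_one_iff.mp e]; simp),
        fun e => hne (by
          have hc : Commute (n ^ (i : ℕ)) x :=
            (show Commute n x from mul_inv_eq_iff_eq_mul.mp hfix).pow_left _
          have : y = x := by
            calc y = (n ^ (i : ℕ))⁻¹ * (n ^ (i : ℕ) * y * (n ^ (i : ℕ))⁻¹) * n ^ (i : ℕ) := by group
              _ = (n ^ (i : ℕ))⁻¹ * x * n ^ (i : ℕ) := by rw [← e]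
              _ = x := by rw [mul_assoc, ← hc.eq]; group
          rw [this, hfix])⟩
    have hinj : Function.Injective f := by
      intro i j e
      have e' : n ^ (i : ℕ) * y * (n ^ (i : ℕ))⁻¹ = n ^ (j : ℕ) * y * (n ^ (j : ℕ))⁻¹ :=
        congrArg (fun w => ((w.1 : (S : Subgroup (RG K m))) : RG K m)) e
      by_contra hij
      apply hne
      set k : ℤ := (i : ℤ) - (j : ℤ) with hk
      have hkc : Commute (n ^ k) y := by
        rw [hk, zpow_sub, zpow_natCast, zpow_natCast]
        have hpow : Commute (n ^ (i : ℕ)) (n ^ (j : ℕ))⁻¹ :=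
          ((Commute.refl n).pow_pow _ _).inv_right
        rw [commute_iff_eq, hpow.eq]
        calc (n ^ (j : ℕ))⁻¹ * n ^ (i : ℕ) * y
            = (n ^ (j : ℕ))⁻¹ * (n ^ (i : ℕ) * y * (n ^ (i : ℕ))⁻¹) * n ^ (i : ℕ) := by group
          _ = y * ((n ^ (j : ℕ))⁻¹ * n ^ (i : ℕ)) := by rw [e']; group
      have hk7 : IsCoprime k 7 := by
        refine Int.isCoprime_iff_nat_coprime.2 ?_
        refine Nat.Coprime.symm ((Nat.Prime.coprime_iff_not_dvd (by norm_num)).2 fun hd => ?_)
        have hd' : (7 : ℤ) ∣ k := Int.natCast_dvd.2 (by simpa using hd)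
        have hi := i.isLt
        have hj := j.isLt
        have : k = 0 := Int.eq_zero_of_abs_lt_dvd hd' (abs_lt.2 ⟨by omega, by omega⟩)
        exact hij (Fin.ext (by omega))
      obtain ⟨a, b, hab⟩ := hk7
      have hn7 : n ^ (7 : ℤ) = 1 := by
        rw [show (7 : ℤ) = ((7 : ℕ) : ℤ) from rfl, zpow_natCast, ← ho, pow_orderOf_eq_one]
      have hny : Commute n y := by
        have : n = (n ^ k) ^ a := by
          conv_lhs => rw [← zpow_one n, ← hab, zpow_add, mul_comm a, mul_comm b, zpow_mul, zpow_mul,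
            hn7, one_zpow, mul_one]
        rw [this]
        exact hkc.zpow_left a
      rw [hny.eq, mul_inv_cancel_right]
    have := Nat.card_le_card_of_injective f hinj
    rw [Nat.card_fin, hcard] at this
    omega
  have hnS : n ∈ (S : Subgroup (RG K m)) := by
    rw [← C.centralizer_sylow S]
    exact Subgroup.mem_centralizer_iff.mpr fun y hy => (mul_inv_eq_iff_eq_mul.mp (hall y hy)).symm
  have hd := Subgroup.orderOf_dvd_natCard _ hnS
  rw [ho, show Nat.card (S : Subgroup (RG K m)) = 8 from h8] at hd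
  norm_num at hd

/-- The preimage of a Sylow 2-subgroup is abelian. -/
theorem commutator_two (hm : 1 ≤ m) (hσ : Cfsg.IsStemExtension σ) (S : Sylow 2 (RG K m)) {x y : Γ}
    (hx : σ x ∈ (S : Subgroup (RG K m))) (hy : σ y ∈ (S : Subgroup (RG K m))) : ⁅x, y⁆ = 1 := by
  classical
  obtain ⟨n, hn, hn7, hfix⟩ := C.exists_seven hm S
  obtain ⟨h8, hsq⟩ := C.sylow_two S
  have hcomm : ∀ a ∈ (S : Subgroup (RG K m)), ∀ b ∈ (S : Subgroup (RG K m)), a * b = b * a :=
    fun a ha b hb => congrArg Subtype.val ((C.sylow_comm S).is_comm.comm ⟨a, ha⟩ ⟨b, hb⟩)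
  obtain ⟨l, hl⟩ : ∃ l : RG K m → Γ, ∀ g, σ (l g) = g :=
    ⟨Function.surjInv hσ.1, Function.surjInv_eq hσ.1⟩
  let β : RG K m → RG K m → Γ := fun a b => ⁅l a, l b⁆
  have hβ : ∀ u v, ⁅u, v⁆ = β (σ u) (σ v) := fun u v =>
    commutator_ind hσ (hl (σ u)).symm (hl (σ v)).symm
  have hcen : ∀ a ∈ (S : Subgroup (RG K m)), ∀ b ∈ (S : Subgroup (RG K m)), ∀ w,
      w * β a b = β a b * w := fun a ha b hb => Subgroup.mem_center_iff.1 (hσ.2.1 (by
    rw [MonoidHom.mem_ker, map_commutatorElement, hl, hl, commutatorElement_eq_one_iff_mul_comm]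
    exact hcomm a ha b hb))
  have hone : ∀ a ∈ (S : Subgroup (RG K m)), β a a = 1 ∧ β a 1 = 1 := fun a _ => ⟨by
    show ⁅l a, l a⁆ = 1
    exact commutatorElement_self _, by
    show ⁅l a, l 1⁆ = 1
    rw [commutator_ind hσ (rfl : σ (l a) = σ (l a)) (show σ (l 1) = σ 1 by rw [hl, map_one]),
      commutatorElement_one_right]⟩
  have hmulr : ∀ a ∈ (S : Subgroup (RG K m)), ∀ b ∈ (S : Subgroup (RG K m)),
      ∀ c ∈ (S : Subgroup (RG K m)), β a (b * c) = β a b * β a c := by
    intro a ha b _ c hc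
    show ⁅l a, l (b * c)⁆ = ⁅l a, l b⁆ * ⁅l a, l c⁆
    rw [commutator_ind hσ (rfl : σ (l a) = σ (l a)) (show σ (l (b * c)) = σ (l b * l c) by
      rw [map_mul, hl, hl, hl])]
    calc ⁅l a, l b * l c⁆ = ⁅l a, l b⁆ * (l b * ⁅l a, l c⁆ * (l b)⁻¹) := by
          rw [commutatorElement_def, commutatorElement_def, commutatorElement_def]; group
      _ = _ := by
          rw [show l b * ⁅l a, l c⁆ = ⁅l a, l c⁆ * l b from hcen a ha c hc _, mul_inv_cancel_right]
  have hsymm : ∀ a ∈ (S : Subgroup (RG K m)), ∀ b ∈ (S : Subgroup (RG K m)),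
      β a b * β a b = 1 ∧ β b a = β a b := by
    intro a ha b hb
    have h2 : β a b * β a b = 1 := by rw [← hmulr a ha b hb b hb, hsq b hb, (hone a ha).2]
    refine ⟨h2, ?_⟩
    show ⁅l b, l a⁆ = ⁅l a, l b⁆
    rw [← commutatorElement_inv (l a) (l b)]
    exact inv_eq_of_mul_eq_one_right h2
  let c : RG K m → RG K m := fun a => n * a * n⁻¹
  have hcS : ∀ a ∈ (S : Subgroup (RG K m)), c a ∈ (S : Subgroup (RG K m)) := fun a ha =>
    (Subgroup.mem_normalizer_iff.mp hn a).mp ha
  have hinv : ∀ a ∈ (S : Subgroup (RG K m)), ∀ b ∈ (S : Subgroup (RG K m)), β (c a) (c b) = β a b := by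
    intro a ha b hb
    show ⁅l (c a), l (c b)⁆ = _
    rw [commutator_ind hσ (show σ (l (c a)) = σ (l n * l a * (l n)⁻¹) by
        simp only [map_mul, map_inv, hl, c]) (show σ (l (c b)) = σ (l n * l b * (l n)⁻¹) by
        simp only [map_mul, map_inv, hl, c]), ← conjugate_commutatorElement, hcen a ha b hb,
      mul_inv_cancel_right]
  -- the seven-cycle
  obtain ⟨v₀, hv₀, hv₀1⟩ : ∃ v ∈ (S : Subgroup (RG K m)), v ≠ 1 := by
    refine ((S : Subgroup (RG K m)).bot_or_exists_ne_one).resolve_left fun h => ?_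
    rw [show Nat.card (S : Subgroup (RG K m)) = Nat.card (⊥ : Subgroup (RG K m)) by rw [h],
      Subgroup.card_bot] at h8
    omega
  let v : ℕ → RG K m := fun i => c^[i] v₀
  have hvS : ∀ i, v i ∈ (S : Subgroup (RG K m)) := fun i => by
    induction i with
    | zero => exact hv₀
    | succ i ih => simp only [v, Function.iterate_succ_apply']; exact hcS _ ih
  have hvc : ∀ i, v i = n ^ i * v₀ * (n ^ i)⁻¹ := fun i => by
    induction i with
    | zero => simp [v]
    | succ i ih =>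
      simp only [v, Function.iterate_succ_apply'] at ih ⊢
      rw [ih, pow_succ']
      simp only [c]
      group
  have hper : ∀ i, v (i + 7) = v i := fun i => by rw [hvc, hvc, pow_add, hn7, mul_one]
  have hper' : ∀ i, v (i % 7) = v i := fun i => by rw [hvc, hvc, ← pow_eq_pow_mod i hn7]
  have hcmul : ∀ a b, c (a * b) = c a * c b := fun a b => by simp only [c]; group
  have hne : ∀ i j, i < j → j < 7 → v i ≠ v j := by
    intro i j hij hj e
    have hd : ∀ t, v (i + t * (j - i)) = v i := by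
      intro t
      induction t with
      | zero => simp
      | succ t ih =>
        have e2 : ∀ s, c^[s] (v j) = c^[s] (v i) := fun s => by rw [e]
        have e3 := e2 (t * (j - i))
        simp only [v, ← Function.iterate_add_apply] at e3 ih ⊢
        rw [show i + (t + 1) * (j - i) = t * (j - i) + j by rw [Nat.succ_mul]; omega, e3,
          add_comm (t * (j - i)) i, ih]
    have hone' : v (i + 1) = v i := by
      obtain ⟨t, ht⟩ : ∃ t : ℕ, (t * (j - i)) % 7 = 1 := by
        rcases (show j - i = 1 ∨ j - i = 2 ∨ j - i = 3 ∨ j - i = 4 ∨ j - i = 5 ∨ j - i = 6 by omega)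
          with h | h | h | h | h | h <;> rw [h]
        exacts [⟨1, rfl⟩, ⟨4, rfl⟩, ⟨5, rfl⟩, ⟨2, rfl⟩, ⟨3, rfl⟩, ⟨6, rfl⟩]
      have h := hd t
      rwa [← hper' (i + t * (j - i)),
        show (i + t * (j - i)) % 7 = (i + 1) % 7 by omega, hper'] at h
    have h1 := hfix (v i) (hvS i) (by
      have : c (v i) = v i := by
        simp only [v, ← Function.iterate_succ_apply'] at hone' ⊢
        exact hone'
      exact this)
    rw [hvc, conj_eq_one_iff] at h1
    exact hv₀1 h1
  have hv1 : ∀ i, v i ≠ 1 := fun i h => hv₀1 (by rw [hvc, conj_eq_one_iff] at h; exact h)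
  have hall : ∀ a ∈ (S : Subgroup (RG K m)), a ≠ 1 → ∃ i, i < 7 ∧ v i = a := by
    intro a ha ha1
    by_contra hcon
    push Not at hcon
    let f : Fin 7 ⊕ Fin 2 → (S : Subgroup (RG K m)) :=
      Sum.elim (fun i => ⟨v i, hvS i⟩) ![1, ⟨a, ha⟩]
    have hf : Function.Injective f := by
      rintro (i | i) (j | j) h
      · rcases lt_trichotomy (i : ℕ) j with hlt | hlt | hlt
        · exact absurd (congrArg Subtype.val h) (hne i j hlt j.isLt)
        · exact congrArg Sum.inl (Fin.ext hlt)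
        · exact absurd (congrArg Subtype.val h).symm (hne j i hlt i.isLt)
      · fin_cases j
        · exact absurd (congrArg Subtype.val h) (hv1 i)
        · exact absurd (congrArg Subtype.val h) (hcon i i.isLt)
      · fin_cases i
        · exact absurd (congrArg Subtype.val h).symm (hv1 j)
        · exact absurd (congrArg Subtype.val h).symm (hcon j j.isLt)
      · fin_cases i <;> fin_cases j
        · rfl
        · exact absurd (congrArg Subtype.val h).symm ha1
        · exact absurd (congrArg Subtype.val h) ha1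
        · rfl
    have := Nat.card_le_card_of_injective f hf
    rw [Nat.card_sum, Nat.card_fin, Nat.card_fin,
      show Nat.card (S : Subgroup (RG K m)) = 8 from h8] at this
    omega
  -- the values
  let f : ℕ → Γ := fun d => β v₀ (v d)
  have hv0 : v 0 = v₀ := rfl
  have hf0 : f 0 = 1 := (hone v₀ hv₀).1
  have hshift : ∀ i d, β (v i) (v (i + d)) = f d := by
    intro i d
    induction i with
    | zero => rw [hv0, zero_add]
    | succ i ih =>
      rw [← ih, show i + 1 + d = (i + d) + 1 by omega]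
      simp only [v, Function.iterate_succ_apply']
      exact hinv _ (hvS i) _ (hvS (i + d))
  have hf7 : ∀ d, f (d % 7) = f d := fun d => by simp only [f, hper']
  have hfneg : ∀ d, d ≤ 7 → f (7 - d) = f d := by
    intro d hd
    rw [← hshift d (7 - d), show d + (7 - d) = 0 + 7 by omega, hper, hv0,
      (hsymm v₀ hv₀ (v d) (hvS d)).2]
  obtain ⟨k, hk7, hk⟩ := hall (v₀ * v 1) (mul_mem hv₀ (hvS 1)) (fun h => hne 0 1 (by omega) (by omega)
    (by
      rw [hv0]
      calc v₀ = v₀ * (v 1 * v 1) := by rw [hsq _ (hvS 1), mul_one]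
        _ = v 1 := by rw [← mul_assoc, h, one_mul]))
  have hvk : ∀ i, v (i + k) = v i * v (i + 1) := by
    intro i
    induction i with
    | zero => rw [zero_add, zero_add, hk, hv0]
    | succ i ih =>
      rw [show i + 1 + k = (i + k) + 1 by omega]
      simp only [v, Function.iterate_succ_apply'] at ih ⊢
      rw [ih]
      exact hcmul _ _
  have hrel : ∀ d, f (d + k) = f d * f (d + 1) := fun d => by
    simp only [f]
    rw [hvk]
    exact hmulr _ hv₀ _ (hvS _) _ (hvS _)
  have hk0 : k ≠ 0 := fun h => by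
    subst h
    exact hv1 1 (left_eq_mul.1 hk)
  have hk1 : k ≠ 1 := fun h => by
    subst h
    exact hv₀1 (right_eq_mul.1 hk)
  have hsq' : ∀ d, f d * f d = 1 := fun d => (hsymm v₀ hv₀ (v d) (hvS d)).1
  have r0 : f k = f 1 := by
    have := hrel 0
    rwa [zero_add, zero_add, hf0, one_mul] at this
  have r1 := hrel 1
  have r2 := hrel 2
  have r3 := hrel 3
  have n1 : f 6 = f 1 := hfneg 1 (by omega)
  have n2 : f 5 = f 2 := hfneg 2 (by omega)
  have n3 : f 4 = f 3 := hfneg 3 (by omega)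
  have h123 : f 1 = 1 ∧ f 2 = 1 ∧ f 3 = 1 := by
    have e2 : k - 1 + 1 = k := by omega
    -- the relation from the second pair of the line
    have r4 : f (k - 1) = f 1 := by
      rw [← hshift 1 (k - 1), show 1 + (k - 1) = 0 + k by omega, hvk 0, hv0, zero_add,
        hmulr _ (hvS 1) _ hv₀ _ (hvS 1), (hone _ (hvS 1)).1, mul_one,
        (hsymm v₀ hv₀ (v 1) (hvS 1)).2]
    interval_cases k
    · exact absurd rfl hk0
    · exact absurd rfl hk1
    · -- k = 2
      simp only [Nat.reduceAdd] at r1 r2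
      have a3 : f 3 = 1 := by rw [r1, r0, hsq']
      rw [n3, r0, a3, mul_one] at r2
      exact ⟨r2.symm.trans rfl, r0.trans (r2.symm.trans rfl), a3⟩
    · -- k = 3
      simp only [Nat.reduceAdd, Nat.reduceSub] at r1 r4
      rw [n3, r0, r4, hsq'] at r1
      exact ⟨r1, r4.trans r1, r0.trans r1⟩
    · -- k = 4
      simp only [Nat.reduceAdd, Nat.reduceSub] at r1 r2 r4
      rw [n1, r4] at r2
      have a2 : f 2 = 1 := right_eq_mul.1 r2
      rw [n2, a2, mul_one] at r1
      exact ⟨r1.symm, a2, r4.trans r1.symm⟩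
    · -- k = 5
      simp only [Nat.reduceAdd, Nat.reduceSub] at r1 r4
      rw [n2] at r0
      rw [n1, r0, hsq'] at r1
      exact ⟨r1, r0.trans r1, by rw [← n3, r4, r1]⟩
    · -- k = 6
      simp only [Nat.reduceAdd, Nat.reduceSub] at r2 r3 r4
      rw [n2] at r4
      rw [← hf7 8, show 8 % 7 = 1 from rfl, r4] at r2
      have a3 : f 3 = 1 := left_eq_mul.1 r2
      rw [← hf7 9, show 9 % 7 = 2 from rfl, r4, a3, n3, a3, one_mul] at r3
      exact ⟨r3, r4.trans r3, a3⟩
  have hfall : ∀ d, d < 7 → f d = 1 := by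
    obtain ⟨a1, a2, a3⟩ := h123
    intro d hd
    interval_cases d
    exacts [hf0, a1, a2, a3, n3.trans a3, n2.trans a2, n1.trans a1]
  rw [hβ]
  by_cases hx1 : σ x = 1
  · rw [hx1, ← (hsymm _ (one_mem _) _ hy).2]
    exact (hone _ hy).2
  by_cases hy1 : σ y = 1
  · rw [hy1]
    exact (hone _ hx).2
  obtain ⟨i, hi, ei⟩ := hall _ hx hx1
  obtain ⟨j, hj, ej⟩ := hall _ hy hy1
  rw [← ei, ← ej]
  rcases le_or_gt i j with h | h
  · rw [show j = i + (j - i) by omega, hshift]
    exact hfall _ (by omega)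
  · rw [(hsymm _ (hvS j) _ (hvS i)).2, show i = j + (i - j) by omega, hshift]
    exact hfall _ (by omega)

/-- The kernel of every finite stem extension is trivial. -/
theorem stem_ker_eq_bot (hm : 1 ≤ m) (hσ : Cfsg.IsStemExtension σ) : σ.ker = ⊥ := by
  classical
  refine CfsgLib.SL2Mult.ker_eq_bot_of_sylow fun ℓ hℓ P => ?_
  haveI := hℓ
  obtain ⟨S, hS⟩ := exists_map_sylow hσ P
  by_cases h2 : ℓ = 2
  · subst h2
    exact sylow_ker_of_comm hσ P fun x hx y hy => C.commutator_two hm hσ S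
      (hS.ge ⟨x, hx, rfl⟩) (hS.ge ⟨y, hy, rfl⟩)
  by_cases h3 : ℓ = 3
  · subst h3
    refine le_bot_iff.1 fun z hz => Subgroup.mem_bot.2 (Subtype.ext ?_)
    have hzker : σ (z : Γ) = 1 := congrArg Subtype.val hz
    obtain ⟨g, hg⟩ := ReeCount.exists_conj_mem C.UG C.index_UG S.2
    obtain ⟨γ, hγ⟩ := hσ.1 g
    have hle : (P : Subgroup Γ).map (MulAut.conj γ).toMonoidHom ≤ C.UG.comap σ := by
      rintro _ ⟨x, hx, rfl⟩
      show σ (γ * x * γ⁻¹) ∈ C.UG
      rw [map_mul, map_mul, map_inv, hγ]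
      exact hg _ (hS.ge ⟨x, hx, rfl⟩)
    have hmem : (z : Γ) ∈ ⁅(P : Subgroup Γ), (P : Subgroup Γ)⁆ := by
      rw [← Subgroup.map_subtype_commutator]
      exact ⟨z, (CfsgLib.SL2Mult.isStemExtension_sylow hσ P).2.2 hz, rfl⟩
    have hmem' : (z : Γ) ∈ ⁅C.UG.comap σ, C.UG.comap σ⁆ := by
      have h := Subgroup.mem_map_of_mem (MulAut.conj γ).toMonoidHom hmem
      rw [Subgroup.map_commutator] at h
      have h' := Subgroup.commutator_mono hle hle h
      rwa [show (MulAut.conj γ).toMonoidHom (z : Γ) = z by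
        show γ * (z : Γ) * γ⁻¹ = z
        rw [Subgroup.mem_center_iff.1 (hσ.2.1 hzker) γ, mul_inv_cancel_right]] at h'
    have h1 := orderOf_dvd_of_pow_eq_one (C.pow_eq_one_of_commutator hm hσ hzker hmem')
    obtain ⟨k, hk⟩ := (IsPGroup.iff_orderOf.1 P.isPGroup') z
    rw [Subgroup.orderOf_coe, hk, C.card_units] at h1
    have hcop : Nat.Coprime (3 ^ k) (3 ^ (2 * m + 1) - 1) := by
      refine Nat.Coprime.pow_left _ ((Nat.Prime.coprime_iff_not_dvd Nat.prime_three).2 fun hd => ?_)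
      exact ((separated (m := m) Nat.prime_three).2.2.2.1 rfl).1 hd
    have h0 := Nat.eq_one_of_dvd_coprimes hcop dvd_rfl h1
    have hz1 : z = 1 := orderOf_eq_one_iff.1 (hk.trans h0)
    rw [hz1, Subgroup.coe_one]
  · have hcyc : IsCyclic ((P : Subgroup Γ).map σ) := by
      by_cases hdvd : ℓ ∣ Nat.card (RG K m)
      · obtain ⟨A, hA, hAi⟩ := C.exists_cyclic_index hm hℓ.out h2 h3 hdvd
        obtain ⟨g, hg⟩ := ReeCount.exists_conj_mem A hAi S.2
        haveI := hA
        let φ : ((P : Subgroup Γ).map σ) →* A :=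
          ((MulAut.conj g).toMonoidHom.comp ((P : Subgroup Γ).map σ).subtype).codRestrict A
            fun w => hg w (hS.ge w.2)
        exact isCyclic_of_injective φ fun a b e =>
          Subtype.ext ((MulAut.conj g).injective (congrArg Subtype.val e))
      · obtain ⟨k, hk⟩ := IsPGroup.iff_card.1 (P.isPGroup'.map σ)
        have hk0 : k = 0 := by
          by_contra h
          exact hdvd ((dvd_pow_self ℓ h).trans (hk ▸ Subgroup.card_subgroup_dvd_card _))
        rw [hk0, pow_zero] at hk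
        haveI := (Nat.card_eq_one_iff_unique.1 hk).1
        exact inferInstance
    haveI := hcyc
    exact CfsgLib.StemExt.ker_eq_bot_of_isCyclic (CfsgLib.SL2Mult.isStemExtension_sylow hσ P)

end

end Ctx

end CfsgLib.Chev.G2Tw
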