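import Cfsg.Agent.Chev.ReeBorel
import Cfsg.Agent.SL2Mult.Pairing
import Cfsg.Prelude.Def_KGroupFacts
import Mathlib.RingTheory.IntegralDomain

/-!
Central extensions of the unipotent subgroup of a small Ree group which carry the action of the
torus: the commutator subgroup meets the kernel in a group of exponent dividing `q - 1`.
-/

set_option autoImplicit false
set_option maxHeartbeats 800000

namespace CfsgLib.Chev.G2Tw

open scoped commutatorElement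

namespace Ctx

variable {K : Type*} [Field K] [Fintype K] {m : ℕ} (C : Ctx K m)
include C

/-- The multiplication of the unipotent coordinates. -/
theorem uG_mul_eq (t u v t' u' v' : K) :
    C.uG t u v * C.uG t' u' v' = C.uG (t + t') (-((t' ^ 3 ^ m) ^ 3 * t) + u + u')
      (-((t' ^ 3 ^ m) ^ 3 * t ^ 2) + v - t' * (-((t' ^ 3 ^ m) ^ 3 * t) + u) + v') := by
  obtain ⟨x, y, z, h⟩ := C.mem_UG.mp (mul_mem (C.uG_mem t u v) (C.uG_mem t' u' v'))
  have e := congrArg Subtype.val h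
  simp only [Subgroup.coe_mul, coe_uG, Ctx.U] at e
  rw [C.P6_law] at e
  obtain ⟨-, hx, -, -, hy, hz⟩ := C.P6_inj e
  rw [h, hx, hy, hz]

theorem uG_tail_mul (u v u' v' : K) :
    C.uG 0 u v * C.uG 0 u' v' = C.uG 0 (u + u') (v + v') := by
  rw [C.uG_mul_eq]
  simp

theorem uG_split (t u v : K) : C.uG t u v = C.uG t 0 0 * C.uG 0 u 0 * C.uG 0 0 v := by
  rw [mul_assoc, C.uG_tail_mul, C.uG_mul_eq]
  simp

theorem tail_mul_uG_eq (u v t : K) : C.uG 0 u v * C.uG t 0 0 = C.uG t u (v - t * u) := by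
  rw [C.uG_mul_eq]
  simp

/-- Commutators of unipotent elements lie in the tail. -/
theorem commutator_UG_tail {x y : RG K m} (hx : x ∈ C.UG) (hy : y ∈ C.UG) :
    ∃ u v, ⁅x, y⁆ = C.uG 0 u v := by
  obtain ⟨a, b, c, rfl⟩ := C.mem_UG.mp hx
  obtain ⟨a', b', c', rfl⟩ := C.mem_UG.mp hy
  obtain ⟨p, q, r, e⟩ := C.mem_UG.mp (mul_mem (mul_mem (mul_mem (C.uG_mem a b c) (C.uG_mem a' b' c'))
    (inv_mem (C.uG_mem a b c))) (inv_mem (C.uG_mem a' b' c')))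
  rw [← commutatorElement_def] at e
  have h : ⁅C.uG a b c, C.uG a' b' c'⁆ * (C.uG a' b' c' * C.uG a b c) =
      C.uG a b c * C.uG a' b' c' := by rw [commutatorElement_def]; group
  rw [e, C.uG_mul_eq a' b' c', C.uG_mul_eq a b c, C.uG_mul_eq p] at h
  have h1 := (C.uG_inj h).1
  exact ⟨q, r, by rw [e, show p = 0 by linear_combination h1]⟩

/-- Commutators with the tail lie in the last level. -/
theorem commutator_UG_last {x y : RG K m} (hx : x ∈ C.UG) (hy : ∃ u v, y = C.uG 0 u v) :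
    ∃ v, ⁅x, y⁆ = C.uG 0 0 v := by
  obtain ⟨a, b, c, rfl⟩ := C.mem_UG.mp hx
  obtain ⟨u, v, rfl⟩ := hy
  obtain ⟨q, r, e⟩ := C.commutator_UG_tail (C.uG_mem a b c) (C.uG_mem 0 u v)
  have h : ⁅C.uG a b c, C.uG 0 u v⁆ * (C.uG 0 u v * C.uG a b c) =
      C.uG a b c * C.uG 0 u v := by rw [commutatorElement_def]; group
  rw [e, C.uG_mul_eq 0 u v, C.uG_mul_eq a b c, C.uG_mul_eq 0 q] at h
  have h2 := (C.uG_inj h).2.1
  simp at h2
  exact ⟨r, by rw [e, show q = 0 by linear_combination h2]⟩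

omit C in
/-- Cubes and squares. -/
theorem eq_one_of_cube_of_inv {G : Type*} [Group G] {x : G} (h3 : x ^ 3 = 1) (h2 : x⁻¹ = x) :
    x = 1 := by
  have : x * x = 1 := by nth_rw 1 [← h2]; exact inv_mul_cancel x
  rwa [pow_succ, pow_two, this, one_mul] at h3

/-- Some scalar is not moved additively. -/
theorem exists_bad (hm : 1 ≤ m) : ∃ s : K, s ≠ 0 ∧ 1 + s ≠ 0 ∧
    1 + s ^ (3 * 3 ^ m) / s ^ 2 ≠ (1 + s) ^ (3 * 3 ^ m) / (1 + s) ^ 2 := by
  classical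
  by_contra hc
  simp only [not_exists, not_and, not_not] at hc
  set e := 3 * 3 ^ m with he
  have he9 : 9 ≤ e := by
    have : 3 ≤ 3 ^ m := Nat.le_self_pow (by omega) 3
    omega
  open Polynomial in
  let P : K[X] := X ^ (e + 1) + X ^ (e + 1) + X ^ e + X ^ 3 + X ^ 3 + X ^ 4
  have hcoeff : P.coeff (e + 1) = 2 := by
    simp [P, Polynomial.coeff_X_pow, show e + 1 ≠ 3 by omega,
      show e + 1 ≠ 4 by omega]
    norm_num
  have h2 : (2 : K) ≠ 0 := fun h2 => one_ne_zero (show (1 : K) = 0 by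
    linear_combination C.three_eq - h2)
  have hP0 : P ≠ 0 := fun h => h2 (by rw [← hcoeff, h, Polynomial.coeff_zero])
  have hdeg : P.natDegree ≤ e + 1 := by
    simp only [P]
    compute_degree <;> omega
  have hroot : ∀ s : K, s ≠ 0 → 1 + s ≠ 0 → P.eval s = 0 := by
    intro s hs hs1
    have h := hc s hs hs1
    rw [C.add_pow' 1 s, one_pow, ← he] at h
    field_simp at h
    simp only [P, Polynomial.eval_add, Polynomial.eval_X, Polynomial.eval_pow]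
    linear_combination h
  have hsub : (Finset.univ : Finset K) ⊆ {0, -1} ∪ P.roots.toFinset := by
    intro s _
    by_cases hs : s = 0
    · simp [hs]
    by_cases hs1 : 1 + s = 0
    · simp [show s = -1 by linear_combination hs1]
    refine Finset.mem_union_right _ ?_
    rw [Multiset.mem_toFinset, Polynomial.mem_roots']
    exact ⟨hP0, hroot s hs hs1⟩
  have h1 := (Finset.card_le_card hsub).trans (Finset.card_union_le _ _)
  have h4 : P.roots.toFinset.card ≤ e + 1 :=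
    (Multiset.toFinset_card_le _).trans ((Polynomial.card_roots' _).trans hdeg)
  have h3 : ({0, -1} : Finset K).card ≤ 2 := Finset.card_le_two
  rw [Finset.card_univ, C.hK] at h1
  have h5 : e * 3 ≤ 3 ^ (2 * m + 1) := by
    rw [show 3 ^ (2 * m + 1) = e * 3 ^ m by rw [he, two_mul, pow_succ, pow_add]; ring]
    exact Nat.mul_le_mul_left _ (Nat.le_self_pow (by omega) 3)
  omega

section

variable {Γ : Type*} [Group Γ]

/-- The kernel part of the commutator subgroup of the preimage of `U`. -/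
theorem pow_eq_one_of_commutator (hm : 1 ≤ m) {σ : Γ →* RG K m}
    (hσ : Cfsg.IsStemExtension σ) {z : Γ} (hz : σ z = 1)
    (hzc : z ∈ ⁅C.UG.comap σ, C.UG.comap σ⁆) : z ^ Nat.card Kˣ = 1 := by
  classical
  have hK : ∀ w, σ w = 1 → ∀ x, x * w = w * x := fun w hw x =>
    Subgroup.mem_center_iff.1 (hσ.2.1 hw) x
  obtain ⟨l, hl⟩ : ∃ l : RG K m → Γ, ∀ g, σ (l g) = g :=
    ⟨Function.surjInv hσ.1, Function.surjInv_eq hσ.1⟩
  have hind : ∀ x x' y y' : Γ, σ x = σ x' → σ y = σ y' → ⁅x, y⁆ = ⁅x', y'⁆ := by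
    intro x x' y y' hx hy
    obtain ⟨u, hu, rfl⟩ : ∃ u, σ u = 1 ∧ x = x' * u :=
      ⟨x'⁻¹ * x, by rw [map_mul, map_inv, hx, inv_mul_cancel], by group⟩
    obtain ⟨w, hw, rfl⟩ : ∃ w, σ w = 1 ∧ y = y' * w :=
      ⟨y'⁻¹ * y, by rw [map_mul, map_inv, hy, inv_mul_cancel], by group⟩
    rw [commutatorElement_def, commutatorElement_def]
    calc x' * u * (y' * w) * (x' * u)⁻¹ * (y' * w)⁻¹
        = x' * (u * (y' * w)) * u⁻¹ * x'⁻¹ * w⁻¹ * y'⁻¹ := by group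
      _ = x' * y' * (w * x'⁻¹) * w⁻¹ * y'⁻¹ := by rw [← hK u hu (y' * w)]; group
      _ = x' * y' * x'⁻¹ * y'⁻¹ := by rw [← hK w hw x'⁻¹]; group
  have hmul_left : ∀ x x' y : Γ, x * ⁅x', y⁆ = ⁅x', y⁆ * x → ⁅x, y⁆ * ⁅x', y⁆ = ⁅x', y⁆ * ⁅x, y⁆ →
      ⁅x * x', y⁆ = ⁅x, y⁆ * ⁅x', y⁆ := fun x x' y hc hc' => by
    calc ⁅x * x', y⁆ = (x * ⁅x', y⁆) * x⁻¹ * ⁅x, y⁆ := by
          rw [commutatorElement_def, commutatorElement_def, commutatorElement_def]; group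
      _ = ⁅x', y⁆ * ⁅x, y⁆ := by rw [hc]; group
      _ = _ := hc'.symm
  have hmul_right : ∀ x y y' : Γ, y * ⁅x, y'⁆ = ⁅x, y'⁆ * y →
      ⁅x, y * y'⁆ = ⁅x, y⁆ * ⁅x, y'⁆ := fun x y y' hc => by
    calc ⁅x, y * y'⁆ = ⁅x, y⁆ * ((y * ⁅x, y'⁆) * y⁻¹) := by
          rw [commutatorElement_def, commutatorElement_def]; group
      _ = _ := by rw [hc, mul_inv_cancel_right]
  have hcenK : ∀ x y : Γ, σ x * σ y = σ y * σ x → ∀ w, w * ⁅x, y⁆ = ⁅x, y⁆ * w := fun x y e =>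
    hK _ (by rw [map_commutatorElement, commutatorElement_eq_one_iff_mul_comm]; exact e)
  -- the lifts of the levels
  let l1 : K → Γ := fun a => l (C.uG a 0 0)
  let l2 : K → Γ := fun b => l (C.uG 0 b 0)
  let l3 : K → Γ := fun c => l (C.uG 0 0 c)
  have h2add : ∀ b b', σ (l2 (b + b')) = σ (l2 b * l2 b') := fun b b' => by
    simp only [l2, map_mul, hl, C.uG_tail_mul, add_zero]
  have h3add : ∀ b b', σ (l3 (b + b')) = σ (l3 b * l3 b') := fun b b' => by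
    simp only [l3, map_mul, hl, C.uG_tail_mul, add_zero]
  have h1add : ∀ a a', ∃ b c, σ (l1 (a + a')) = σ (l1 a * l1 a' * (l2 b * l3 c)) := by
    intro a a'
    have hmem := mul_mem (inv_mem (mul_mem (C.uG_mem a 0 0) (C.uG_mem a' 0 0))) (C.uG_mem (a + a') 0 0)
    obtain ⟨p, q, r, e⟩ := C.mem_UG.mp hmem
    have h : C.uG a 0 0 * C.uG a' 0 0 * C.uG p q r = C.uG (a + a') 0 0 := by rw [← e]; group
    have hp : p = 0 := by
      have h' := h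
      rw [C.uG_mul_eq, C.uG_mul_eq] at h'
      linear_combination (C.uG_inj h').1
    subst hp
    refine ⟨q, r, ?_⟩
    simp only [l1, l2, l3, map_mul, hl, C.uG_tail_mul, add_zero, zero_add]
    exact h.symm
  -- the torus
  let d : Kˣ → Γ := fun s => l (C.tG s)
  have hconj : ∀ (s : Kˣ), ∃ s₁ s₂ : Kˣ, s₁ = (s ^ 3 ^ m) ^ (-3 : ℤ) * s ^ (2 : ℤ) ∧
      s₂ = (s ^ 3 ^ m) ^ (3 : ℤ) * s ^ (-1 : ℤ) ∧
      (∀ a, σ (d s * l1 a * (d s)⁻¹) = σ (l1 ((s₁ : K) * a))) ∧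
      (∀ b, σ (d s * l2 b * (d s)⁻¹) = σ (l2 ((s₂ : K) * b))) ∧
      ∀ c, σ (d s * l3 c * (d s)⁻¹) = σ (l3 ((s : K) * c)) := by
    intro s
    obtain ⟨s₁, s₂, h1, h2, -⟩ := C.tG_conj_uG s 0 0 0
    refine ⟨s₁, s₂, h1, h2, fun a => ?_, fun a => ?_, fun a => ?_⟩
    · obtain ⟨t₁, t₂, k1, k2, e⟩ := C.tG_conj_uG s a 0 0
      simp only [l1, d, map_mul, map_inv, hl, e, h1, k1, mul_zero]
    · obtain ⟨t₁, t₂, k1, k2, e⟩ := C.tG_conj_uG s 0 a 0
      simp only [l2, d, map_mul, map_inv, hl, e, h2, k2, mul_zero]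
    · obtain ⟨t₁, t₂, k1, k2, e⟩ := C.tG_conj_uG s 0 0 a
      simp only [l3, d, map_mul, map_inv, hl, e, mul_zero]
  have hinv : ∀ (g x y : Γ), (∀ w, w * ⁅x, y⁆ = ⁅x, y⁆ * w) →
      ⁅g * x * g⁻¹, g * y * g⁻¹⁆ = ⁅x, y⁆ := fun g x y hc => by
    rw [← conjugate_commutatorElement, hc, mul_inv_cancel_right]
  have hcardK : 10 < Fintype.card K := by
    rw [C.hK]
    exact lt_of_lt_of_le (by norm_num) (qq_ge (m := m) hm)
  have h2ne : (2 : K) ≠ 0 := fun h2 => one_ne_zero (show (1 : K) = 0 by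
    linear_combination C.three_eq - h2)
  have hs2 : ∀ r : Kˣ, ((r ^ (3 * 3 ^ m + 1)) ^ 3 ^ m) ^ (3 : ℤ) * (r ^ (3 * 3 ^ m + 1)) ^ (-1 : ℤ) =
      r ^ 2 := by
    intro r
    rw [_root_.zpow_neg, _root_.zpow_one, mul_inv_eq_iff_eq_mul,
      show (3 : ℤ) = ((3 : ℕ) : ℤ) from rfl, zpow_natCast, ← pow_mul, ← pow_mul,
      show (3 * 3 ^ m + 1) * (3 ^ m * 3) = (3 * 3 ^ m * 3 ^ m) * 3 + 3 * 3 ^ m by ring, pow_add,
      pow_mul r (3 * 3 ^ m * 3 ^ m), C.pow_q_units, ← pow_add, ← pow_add]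
    congr 1
    omega
  have hs1 : ∀ r : Kˣ, ((r ^ (2 * (3 * 3 ^ m + 2))) ^ 3 ^ m) ^ (-3 : ℤ) *
      (r ^ (2 * (3 * 3 ^ m + 2))) ^ (2 : ℤ) = r ^ 2 := by
    intro r
    rw [_root_.zpow_neg, inv_mul_eq_iff_eq_mul, show (3 : ℤ) = ((3 : ℕ) : ℤ) from rfl,
      show (2 : ℤ) = ((2 : ℕ) : ℤ) from rfl, zpow_natCast, zpow_natCast, ← pow_mul, ← pow_mul,
      ← pow_mul,
      show 2 * (3 * 3 ^ m + 2) * (3 ^ m * 3) = (3 * 3 ^ m * 3 ^ m) * 6 + 4 * (3 * 3 ^ m) by ring,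
      pow_add, pow_mul r (3 * 3 ^ m * 3 ^ m), C.pow_q_units, ← pow_add, ← pow_add]
    congr 1
    ring
  have hneg : ∃ s₁ s₂ : Kˣ, (s₁ : K) = -1 ∧ (s₂ : K) = 1 ∧
      (∀ a, σ (d (-1) * l1 a * (d (-1))⁻¹) = σ (l1 ((s₁ : K) * a))) ∧
      (∀ b, σ (d (-1) * l2 b * (d (-1))⁻¹) = σ (l2 ((s₂ : K) * b))) ∧
      ∀ c, σ (d (-1) * l3 c * (d (-1))⁻¹) = σ (l3 ((-1 : K) * c)) := by
    obtain ⟨s₁, s₂, h1, h2, c1, c2, c3⟩ := hconj (-1)
    refine ⟨s₁, s₂, ?_, ?_, c1, c2, fun c => by simpa using c3 c⟩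
    · rw [h1, (e_odd (m := m)).neg_one_pow, show (-3 : ℤ) = -1 + -1 + -1 from rfl,
        _root_.zpow_add, _root_.zpow_add]
      simp
    · rw [h2, (e_odd (m := m)).neg_one_pow]
      simp [pow_succ]
  obtain ⟨n₁, n₂, hn1, hn2, hc1, hc2, hc3⟩ := hneg
  -- the last level is abelian
  have hc33 : ∀ a b, σ (l3 a) * σ (l3 b) = σ (l3 b) * σ (l3 a) := fun a b => by
    simp only [l3, hl, C.uG_tail_mul, add_comm a b]
  have hc23 : ∀ a b, σ (l2 a) * σ (l3 b) = σ (l3 b) * σ (l2 a) := fun a b => by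
    simp only [l2, l3, hl, C.uG_tail_mul, add_zero, zero_add]
  have hc22 : ∀ a b, σ (l2 a) * σ (l2 b) = σ (l2 b) * σ (l2 a) := fun a b => by
    simp only [l2, hl, C.uG_tail_mul, add_comm a b]
  have hc13 : ∀ a b, σ (l1 a) * σ (l3 b) = σ (l3 b) * σ (l1 a) := fun a b => by
    simp only [l1, l3, hl]
    rw [C.tail_mul_uG_eq, C.uG_mul_eq]
    simp
  have hα : ∀ a b, ⁅l3 a, l3 b⁆ = 1 := by
    refine CfsgLib.SL2Mult.pairing_trivial (fun a b => ⁅l3 a, l3 b⁆) (fun a b c => ?_)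
      (fun a b c => ?_) (fun s hs a b => ?_) (fun h2 => absurd h2 h2ne) (fun _ => hcardK)
    · show ⁅l3 (a + b), l3 c⁆ = _
      rw [hind _ (l3 a * l3 b) _ (l3 c) (h3add a b) rfl]
      exact hmul_left _ _ _ (hcenK _ _ (hc33 b c) _) (hcenK _ _ (hc33 b c) _)
    · show ⁅l3 a, l3 (b + c)⁆ = _
      rw [hind _ (l3 a) _ (l3 b * l3 c) rfl (h3add b c)]
      exact hmul_right _ _ _ (hcenK _ _ (hc33 a c) _)
    · obtain ⟨-, -, -, -, -, -, k3⟩ := hconj (Units.mk0 _ (pow_ne_zero 2 hs))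
      show ⁅l3 (s ^ 2 * a), l3 (s ^ 2 * b)⁆ = ⁅l3 a, l3 b⁆
      rw [← Units.val_mk0 (pow_ne_zero 2 hs), hind _ _ _ _ (k3 a).symm (k3 b).symm]
      exact hinv _ _ _ (hcenK _ _ (hc33 a b))
  have hcube : ∀ (f : K → Γ), f 0 = 1 → (∀ a b, f (a + b) = f a * f b) → ∀ a, f a ^ 3 = 1 := by
    intro f h0 hf a
    rw [pow_succ, pow_two, ← hf, ← hf, show a + a + a = 0 by linear_combination a * C.three_eq, h0]
  have hzero : ∀ (f : K → Γ), (∀ a b, f (a + b) = f a * f b) → f 0 = 1 := fun f hf => by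
    have := hf 0 0
    rw [add_zero] at this
    exact left_eq_mul.1 this
  have hneg' : ∀ (f : K → Γ), (∀ a b, f (a + b) = f a * f b) → ∀ a, f (-a) = (f a)⁻¹ := by
    intro f hf a
    exact eq_inv_of_mul_eq_one_left (by rw [← hf, neg_add_cancel, hzero f hf])
  have hβ : ∀ a b, ⁅l2 a, l3 b⁆ = 1 := by
    intro a b
    have hadd : ∀ c c', ⁅l2 a, l3 (c + c')⁆ = ⁅l2 a, l3 c⁆ * ⁅l2 a, l3 c'⁆ := fun c c' => by
      rw [hind _ (l2 a) _ (l3 c * l3 c') rfl (h3add c c')]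
      exact hmul_right _ _ _ (hcenK _ _ (hc23 a c') _)
    refine eq_one_of_cube_of_inv
      (hcube (fun c => ⁅l2 a, l3 c⁆) (hzero (fun c => ⁅l2 a, l3 c⁆) hadd) hadd b) ?_
    rw [← hneg' (fun c => ⁅l2 a, l3 c⁆) hadd b]
    show ⁅l2 a, l3 (-b)⁆ = _
    rw [hind _ _ _ _ (by rw [hc2, hn2, one_mul] : σ (l2 a) = σ (d (-1) * l2 a * (d (-1))⁻¹))
      (by rw [hc3, neg_one_mul] : σ (l3 (-b)) = σ (d (-1) * l3 b * (d (-1))⁻¹))]
    exact hinv _ _ _ (hcenK _ _ (hc23 a b))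
  have hγ : ∀ a c, ⁅l1 a, l3 c⁆ = 1 := by
    obtain ⟨s, hs, hs1', hbad⟩ := C.exists_bad hm
    have hl1add : ∀ a a' c, ⁅l1 (a + a'), l3 c⁆ = ⁅l1 a, l3 c⁆ * ⁅l1 a', l3 c⁆ := by
      intro a a' c
      obtain ⟨p, q, e⟩ := h1add a a'
      have h23 : ⁅l2 p * l3 q, l3 c⁆ = 1 :=
        commutatorElement_eq_one_iff_mul_comm.2
          (Commute.mul_left (a := l2 p) (b := l3 q) (c := l3 c)
            (commutatorElement_eq_one_iff_mul_comm.1 (hβ p c))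
            (commutatorElement_eq_one_iff_mul_comm.1 (hα q c)))
      rw [hind _ _ _ (l3 c) e rfl, hmul_left (l1 a * l1 a') (l2 p * l3 q) (l3 c)
        (by rw [h23, mul_one, one_mul]) (by rw [h23, mul_one, one_mul]), h23, mul_one]
      exact hmul_left _ _ _ (hcenK _ _ (hc13 a' c) _) (hcenK _ _ (hc13 a' c) _)
    have hl3add : ∀ a c c', ⁅l1 a, l3 (c + c')⁆ = ⁅l1 a, l3 c⁆ * ⁅l1 a, l3 c'⁆ := fun a c c' => by
      rw [hind _ (l1 a) _ (l3 c * l3 c') rfl (h3add c c')]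
      exact hmul_right _ _ _ (hcenK _ _ (hc13 a c') _)
    have hshift : ∀ u : K, u ≠ 0 → ∀ a c,
        ⁅l1 a, l3 (u * c)⁆ = ⁅l1 (u ^ (3 * 3 ^ m) / u ^ 2 * a), l3 c⁆ := by
      intro u hu a c
      obtain ⟨s₁, -, k1, -, c1, -, c3⟩ := hconj (Units.mk0 u hu)
      have hs : (s₁ : K) = u ^ 2 / u ^ (3 * 3 ^ m) := by
        rw [k1, Units.val_mul, _root_.zpow_neg, show (3 : ℤ) = ((3 : ℕ) : ℤ) from rfl,
          show (2 : ℤ) = ((2 : ℕ) : ℤ) from rfl, zpow_natCast, zpow_natCast, Units.val_inv_eq_inv_val,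
          Units.val_pow_eq_pow_val, Units.val_pow_eq_pow_val, Units.val_pow_eq_pow_val,
          Units.val_mk0, ← pow_mul, mul_comm (3 ^ m) 3, inv_mul_eq_div]
      have e := hind _ _ _ _ (c1 (u ^ (3 * 3 ^ m) / u ^ 2 * a)) (c3 c)
      rw [hinv _ _ _ (hcenK _ _ (hc13 _ c)), hs, Units.val_mk0, ← mul_assoc,
        div_mul_div_cancel₀ (pow_ne_zero _ hu), div_self (pow_ne_zero _ hu), one_mul] at e
      exact e.symm
    intro a c
    set μ := s ^ (3 * 3 ^ m) / s ^ 2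
    set μ' := (1 + s) ^ (3 * 3 ^ m) / (1 + s) ^ 2
    have hne : 1 + μ - μ' ≠ 0 := fun e => hbad (sub_eq_zero.mp e)
    have key : ∀ a, ⁅l1 ((1 + μ - μ') * a), l3 c⁆ = 1 := by
      intro a
      have e1 : ⁅l1 ((1 + μ) * a), l3 c⁆ = ⁅l1 (μ' * a), l3 c⁆ := by
        rw [← hshift (1 + s) hs1', add_mul 1 μ a, one_mul, hl1add, ← hshift s hs, add_mul 1 s c,
          one_mul, hl3add]
      rw [sub_mul, sub_eq_add_neg, hl1add, e1, hneg' (fun x => ⁅l1 x, l3 c⁆)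
        (fun x y => hl1add x y c), mul_inv_cancel]
    have := key ((1 + μ - μ')⁻¹ * a)
    rwa [← mul_assoc, mul_inv_cancel₀ hne, one_mul] at this
  -- the preimages
  set U : Subgroup Γ := C.UG.comap σ with hUdef
  have hdecU : ∀ x ∈ U, ∃ a b c, σ x = σ (l1 a * l2 b * l3 c) := by
    intro x hx
    obtain ⟨a, b, c, e⟩ := C.mem_UG.mp hx
    exact ⟨a, b, c, by simp only [l1, l2, l3, map_mul, hl]; rw [e]; exact C.uG_split a b c⟩
  have liftC : ∀ x x' y y', σ x = σ x' → σ y = σ y' → Commute x' y' → Commute x y :=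
    fun x x' y y' hx hy h => commutatorElement_eq_one_iff_mul_comm.1
      ((hind x x' y y' hx hy).trans (commutatorElement_eq_one_iff_mul_comm.2 h))
  have hlast : ∀ x ∈ U, ∀ y, (∃ c, σ y = σ (l3 c)) → Commute x y := by
    intro x hx y ⟨c, hc⟩
    obtain ⟨a, b, c', e⟩ := hdecU x hx
    refine liftC _ _ _ _ e hc ?_
    have k1 : Commute (l1 a) (l3 c) := commutatorElement_eq_one_iff_mul_comm.1 (hγ a c)
    have k2 : Commute (l2 b) (l3 c) := commutatorElement_eq_one_iff_mul_comm.1 (hβ b c)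
    have k3 : Commute (l3 c') (l3 c) := commutatorElement_eq_one_iff_mul_comm.1 (hα c' c)
    exact (k1.mul_left k2).mul_left k3
  have hl1U : ∀ a, l1 a ∈ U := fun a => by
    show σ (l1 a) ∈ C.UG
    simp only [l1, hl]
    exact C.uG_mem _ _ _
  have hl2U : ∀ a, l2 a ∈ U := fun a => by
    show σ (l2 a) ∈ C.UG
    simp only [l2, hl]
    exact C.uG_mem _ _ _
  have hl3U : ∀ a, l3 a ∈ U := fun a => by
    show σ (l3 a) ∈ C.UG
    simp only [l3, hl]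
    exact C.uG_mem _ _ _
  -- the tail is abelian
  have hδ : ∀ a b, ⁅l2 a, l2 b⁆ = 1 := by
    refine CfsgLib.SL2Mult.pairing_trivial (fun a b => ⁅l2 a, l2 b⁆) (fun a b c => ?_)
      (fun a b c => ?_) (fun s hs a b => ?_) (fun h2 => absurd h2 h2ne) (fun _ => hcardK)
    · show ⁅l2 (a + b), l2 c⁆ = _
      rw [hind _ (l2 a * l2 b) _ (l2 c) (h2add a b) rfl]
      exact hmul_left _ _ _ (hcenK _ _ (hc22 b c) _) (hcenK _ _ (hc22 b c) _)
    · show ⁅l2 a, l2 (b + c)⁆ = _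
      rw [hind _ (l2 a) _ (l2 b * l2 c) rfl (h2add b c)]
      exact hmul_right _ _ _ (hcenK _ _ (hc22 a c) _)
    · obtain ⟨-, s₂, -, k2, -, c2, -⟩ := hconj (Units.mk0 s hs ^ (3 * 3 ^ m + 1))
      rw [hs2] at k2
      have e2 : (s₂ : K) = s ^ 2 := by rw [k2, Units.val_pow_eq_pow_val, Units.val_mk0]
      show ⁅l2 (s ^ 2 * a), l2 (s ^ 2 * b)⁆ = ⁅l2 a, l2 b⁆
      rw [← e2, hind _ _ _ _ (c2 a).symm (c2 b).symm]
      exact hinv _ _ _ (hcenK _ _ (hc22 a b))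
  let Z : Subgroup Γ :=
    { carrier := {w | ∃ u v, σ w = C.uG 0 u v}
      one_mem' := ⟨0, 0, by rw [map_one, C.uG_zero]⟩
      mul_mem' := fun {x y} ⟨u, v, hx⟩ ⟨u', v', hy⟩ =>
        ⟨u + u', v + v', by rw [map_mul, hx, hy, C.uG_tail_mul]⟩
      inv_mem' := fun {x} ⟨u, v, hx⟩ => ⟨-u, -v, by
        rw [map_inv, hx]
        refine inv_eq_of_mul_eq_one_right ?_
        rw [C.uG_tail_mul, add_neg_cancel, add_neg_cancel, C.uG_zero]⟩ }
  have hdecZ : ∀ w ∈ Z, ∃ b c, σ w = σ (l2 b * l3 c) := by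
    intro w ⟨u, v, e⟩
    exact ⟨u, v, by simp only [l2, l3, map_mul, hl, C.uG_tail_mul, add_zero, zero_add]; exact e⟩
  have hZU : Z ≤ U := fun w ⟨u, v, e⟩ => by
    show σ w ∈ C.UG
    rw [e]
    exact C.uG_mem _ _ _
  have hl2Z : ∀ b, l2 b ∈ Z := fun b => ⟨b, 0, by simp only [l2, hl]⟩
  have hl3Z : ∀ b, l3 b ∈ Z := fun b => ⟨0, b, by simp only [l3, hl]⟩
  have hl3last : ∀ c, ∀ x ∈ U, Commute x (l3 c) := fun c x hx => hlast x hx _ ⟨c, rfl⟩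
  have hZcomm : ∀ x ∈ Z, ∀ y ∈ Z, Commute x y := by
    intro x hx y hy
    obtain ⟨b, c, ex⟩ := hdecZ x hx
    obtain ⟨b', c', ey⟩ := hdecZ y hy
    refine liftC _ _ _ _ ex ey ?_
    have k : Commute (l2 b) (l2 b') := commutatorElement_eq_one_iff_mul_comm.1 (hδ b b')
    exact (k.mul_right (hl3last c' _ (hl2U b))).mul_left
      ((hl3last c _ (hl2U b')).symm.mul_right (hl3last c' _ (hl3U c)))
  let _ : CommGroup Z :=
    { (inferInstance : Group Z) with mul_comm := fun x y => Subtype.ext (hZcomm x x.2 y y.2) }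
  -- averaging over the torus
  have hdZ : ∀ s : Kˣ, ∀ w ∈ Z, d s * w * (d s)⁻¹ ∈ Z := by
    intro s w ⟨u, v, e⟩
    obtain ⟨t₁, t₂, -, -, h⟩ := C.tG_conj_uG s 0 u v
    exact ⟨(t₂ : K) * u, (s : K) * v, by simp only [d, map_mul, map_inv, hl, e, h, mul_zero]⟩
  let φ : Kˣ → Z →* Z := fun s =>
    { toFun := fun w => ⟨d s * w * (d s)⁻¹, hdZ s w w.2⟩
      map_one' := Subtype.ext (by simp)
      map_mul' := fun a b => Subtype.ext (by simp only [Subgroup.coe_mul]; group) }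
  have hconjind : ∀ g g' w : Γ, σ g = σ g' → g * w * g⁻¹ = g' * w * g'⁻¹ := by
    intro g g' w e
    obtain ⟨u, hu, rfl⟩ : ∃ u, σ u = 1 ∧ g = g' * u :=
      ⟨g'⁻¹ * g, by rw [map_mul, map_inv, e, inv_mul_cancel], by group⟩
    calc g' * u * w * (g' * u)⁻¹ = g' * (u * w) * u⁻¹ * g'⁻¹ := by group
      _ = _ := by rw [← hK u hu w]; group
  let ν : Z →* Z := ∏ s, φ s
  let N : Γ → Γ := fun w => if h : w ∈ Z then (ν ⟨w, h⟩ : Γ) else 1
  have hNmul : ∀ a ∈ Z, ∀ b ∈ Z, N (a * b) = N a * N b := fun a ha b hb => by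
    simp only [N, dif_pos ha, dif_pos hb, dif_pos (Z.mul_mem ha hb)]
    rw [← Subgroup.coe_mul, ← map_mul]
    rfl
  have hNone : N 1 = 1 := by
    have := hNmul 1 Z.one_mem 1 Z.one_mem
    rw [one_mul] at this
    exact left_eq_mul.1 this
  have hNinv : ∀ a ∈ Z, N a⁻¹ = (N a)⁻¹ := fun a ha => eq_inv_of_mul_eq_one_left (by
    rw [← hNmul _ (Z.inv_mem ha) _ ha, inv_mul_cancel, hNone])
  have hNconj : ∀ r, ∀ w ∈ Z, N (d r * w * (d r)⁻¹) = N w := by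
    intro r w hw
    simp only [N, dif_pos hw, dif_pos (hdZ r w hw), ν, MonoidHom.finsetProd_apply]
    refine congrArg Subtype.val ?_
    refine Fintype.prod_equiv (Equiv.mulRight r) _ _ fun s => Subtype.ext ?_
    show d s * (d r * w * (d r)⁻¹) * (d s)⁻¹ = d (s * r) * w * (d (s * r))⁻¹
    rw [← hconjind (d s * d r) (d (s * r)) w (by simp only [d, map_mul, hl])]
    group
  -- commutators with the tail
  have hlastmem : ∀ x ∈ U, ∀ y ∈ Z, ∃ c, σ ⁅x, y⁆ = σ (l3 c) := by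
    intro x hx y ⟨u, v, e⟩
    obtain ⟨c, hc⟩ := C.commutator_UG_last hx ⟨u, v, e⟩
    exact ⟨c, by rw [map_commutatorElement, hc]; simp only [l3, hl]⟩
  have hZmem : ∀ x ∈ U, ∀ y ∈ U, ⁅x, y⁆ ∈ Z := by
    intro x hx y hy
    obtain ⟨u, v, e⟩ := C.commutator_UG_tail hx hy
    exact ⟨u, v, by rw [map_commutatorElement]; exact e⟩
  have hcenU : ∀ x ∈ U, ∀ y ∈ Z, ∀ w ∈ U, Commute w ⁅x, y⁆ := fun x hx y hy w hw =>
    hlast w hw _ (hlastmem x hx y hy)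
  have hη : ∀ a b, N ⁅l1 a, l2 b⁆ = 1 := by
    intro a b
    have hadd : ∀ a a', N ⁅l1 (a + a'), l2 b⁆ = N ⁅l1 a, l2 b⁆ * N ⁅l1 a', l2 b⁆ := by
      intro a a'
      obtain ⟨p, q, e⟩ := h1add a a'
      have hw : l2 p * l3 q ∈ Z := Z.mul_mem (hl2Z p) (hl3Z q)
      have h0 : ⁅l2 p * l3 q, l2 b⁆ = 1 :=
        commutatorElement_eq_one_iff_mul_comm.2 (hZcomm _ hw _ (hl2Z b))
      rw [hind _ _ _ (l2 b) e rfl, hmul_left (l1 a * l1 a') (l2 p * l3 q) (l2 b)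
        (by rw [h0, mul_one, one_mul]) (by rw [h0, mul_one, one_mul]), h0, mul_one,
        hmul_left _ _ _ (hcenU _ (hl1U a') _ (hl2Z b) _ (hl1U a))
          (hcenU _ (hl1U a') _ (hl2Z b) _ (hZU (hZmem _ (hl1U a) _ (hl2U b)))),
        hNmul _ (hZmem _ (hl1U a) _ (hl2U b)) _ (hZmem _ (hl1U a') _ (hl2U b))]
    refine eq_one_of_cube_of_inv (hcube (fun x => N ⁅l1 x, l2 b⁆) (hzero (fun x => N ⁅l1 x, l2 b⁆) hadd) hadd a) ?_
    rw [← hneg' (fun x => N ⁅l1 x, l2 b⁆) hadd a]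
    show N ⁅l1 (-a), l2 b⁆ = _
    rw [hind _ _ _ _ (by rw [hc1, hn1, neg_one_mul] : σ (l1 (-a)) = σ (d (-1) * l1 a * (d (-1))⁻¹))
      (by rw [hc2, hn2, one_mul] : σ (l2 b) = σ (d (-1) * l2 b * (d (-1))⁻¹)),
      ← conjugate_commutatorElement]
    exact hNconj _ _ (hZmem _ (hl1U a) _ (hl2U b))
  let F : Γ → Γ → Γ := fun x y => N ⁅x, y⁆
  have hFtail : ∀ x ∈ U, ∀ y ∈ Z, F x y = 1 := by
    intro x hx y hy
    obtain ⟨a, b, c, ex⟩ := hdecU x hx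
    obtain ⟨b', c', ey⟩ := hdecZ y hy
    show N ⁅x, y⁆ = 1
    rw [hind _ _ _ _ ex ey, mul_assoc (l1 a)]
    set w := l2 b * l3 c
    set y' := l2 b' * l3 c' with hy'
    have hw : w ∈ Z := Z.mul_mem (hl2Z b) (hl3Z c)
    have h0 : ⁅w, y'⁆ = 1 := commutatorElement_eq_one_iff_mul_comm.2
      (hZcomm _ hw _ (Z.mul_mem (hl2Z b') (hl3Z c')))
    rw [hmul_left (l1 a) w y' (by rw [h0, mul_one, one_mul]) (by rw [h0, mul_one, one_mul]), h0,
      mul_one, hy']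
    have h3 : ⁅l1 a, l3 c'⁆ = 1 := hγ a c'
    rw [hmul_right _ _ _ (by rw [h3, mul_one, one_mul]), h3, mul_one]
    exact hη a b'
  have hFswap : ∀ x ∈ U, ∀ y ∈ U, F y x = (F x y)⁻¹ := fun x hx y hy => by
    show N ⁅y, x⁆ = (N ⁅x, y⁆)⁻¹
    rw [← hNinv _ (hZmem x hx y hy), commutatorElement_inv]
  have hFmul : ∀ x ∈ U, ∀ x' ∈ U, ∀ y ∈ U, F (x * x') y = F x y * F x' y := by
    intro x hx x' hx' y hy
    show N ⁅x * x', y⁆ = N ⁅x, y⁆ * N ⁅x', y⁆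
    set c := ⁅x', y⁆
    have hc : c ∈ Z := hZmem x' hx' y hy
    have e : ⁅x * x', y⁆ = ⁅x, c⁆ * c * ⁅x, y⁆ := by
      simp only [c, commutatorElement_def]
      group
    rw [e, hNmul _ (Z.mul_mem (hZmem x hx c (hZU hc)) hc) _ (hZmem x hx y hy),
      hNmul _ (hZmem x hx c (hZU hc)) _ hc,
      show N ⁅x, c⁆ = 1 from hFtail x hx c hc, one_mul]
    have hN : ∀ w ∈ Z, N w ∈ Z := fun w hw => by
      simp only [N, dif_pos hw]
      exact SetLike.coe_mem _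
    exact hZcomm _ (hN _ hc) _ (hN _ (hZmem x hx y hy))
  have hε : ∀ a a', F (l1 a) (l1 a') = 1 := by
    have hadd : ∀ a a', ∀ y ∈ U, F (l1 (a + a')) y = F (l1 a) y * F (l1 a') y := by
      intro a a' y hy
      obtain ⟨p, q, e⟩ := h1add a a'
      have hw : l2 p * l3 q ∈ Z := Z.mul_mem (hl2Z p) (hl3Z q)
      show N ⁅l1 (a + a'), y⁆ = _
      rw [hind _ _ _ y e rfl]
      show F (l1 a * l1 a' * (l2 p * l3 q)) y = _
      rw [hFmul _ (U.mul_mem (hl1U a) (hl1U a')) _ (hZU hw) _ hy,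
        hFswap y hy _ (hZU hw), hFtail y hy _ hw, inv_one, mul_one,
        hFmul _ (hl1U a) _ (hl1U a') _ hy]
    refine CfsgLib.SL2Mult.pairing_trivial (fun a a' => F (l1 a) (l1 a')) (fun a b c => ?_)
      (fun a b c => ?_) (fun s hs a b => ?_) (fun h2 => absurd h2 h2ne) (fun _ => hcardK)
    · exact hadd a b _ (hl1U c)
    · show F (l1 a) (l1 (b + c)) = _
      have hN' : ∀ x ∈ U, ∀ y ∈ U, F x y ∈ Z := fun x hx y hy => by
        simp only [F, N, dif_pos (hZmem x hx y hy)]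
        exact SetLike.coe_mem _
      rw [hFswap _ (hl1U (b + c)) _ (hl1U a), hadd b c _ (hl1U a), _root_.mul_inv_rev,
        ← hFswap _ (hl1U c) _ (hl1U a), ← hFswap _ (hl1U b) _ (hl1U a)]
      exact hZcomm _ (hN' _ (hl1U a) _ (hl1U c)) _ (hN' _ (hl1U a) _ (hl1U b))
    · obtain ⟨s₁, -, k1, -, c1, -, -⟩ := hconj (Units.mk0 s hs ^ (2 * (3 * 3 ^ m + 2)))
      rw [hs1] at k1
      have e1 : (s₁ : K) = s ^ 2 := by rw [k1, Units.val_pow_eq_pow_val, Units.val_mk0]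
      show N ⁅l1 (s ^ 2 * a), l1 (s ^ 2 * b)⁆ = N ⁅l1 a, l1 b⁆
      rw [← e1, hind _ _ _ _ (c1 a).symm (c1 b).symm, ← conjugate_commutatorElement]
      exact hNconj _ _ (hZmem _ (hl1U a) _ (hl1U b))
  have hFall : ∀ x ∈ U, ∀ y ∈ U, F x y = 1 := by
    intro x hx y hy
    obtain ⟨a, b, c, ex⟩ := hdecU x hx
    obtain ⟨a', b', c', ey⟩ := hdecU y hy
    show N ⁅x, y⁆ = 1
    rw [hind _ _ _ _ ex ey, mul_assoc (l1 a), mul_assoc (l1 a')]
    set w := l2 b * l3 c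
    set w' := l2 b' * l3 c'
    have hw : w ∈ Z := Z.mul_mem (hl2Z b) (hl3Z c)
    have hw' : w' ∈ Z := Z.mul_mem (hl2Z b') (hl3Z c')
    show F (l1 a * w) (l1 a' * w') = 1
    rw [hFmul _ (hl1U a) _ (hZU hw) _ (U.mul_mem (hl1U a') (hZU hw')),
      hFswap (l1 a' * w') (U.mul_mem (hl1U a') (hZU hw')) w (hZU hw),
      hFtail _ (U.mul_mem (hl1U a') (hZU hw')) w hw, inv_one, mul_one,
      hFswap (l1 a' * w') (U.mul_mem (hl1U a') (hZU hw')) (l1 a) (hl1U a),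
      hFmul _ (hl1U a') _ (hZU hw') _ (hl1U a), hε, one_mul,
      hFswap (l1 a) (hl1U a) w' (hZU hw'), hFtail _ (hl1U a) w' hw', inv_one, inv_one]
  let W : Subgroup Γ :=
    { carrier := {x | x ∈ Z ∧ N x = 1}
      one_mem' := ⟨Z.one_mem, hNone⟩
      mul_mem' := fun {x y} ⟨hx, ex⟩ ⟨hy, ey⟩ => ⟨Z.mul_mem hx hy, by
        rw [hNmul x hx y hy, ex, ey, one_mul]⟩
      inv_mem' := fun {x} ⟨hx, ex⟩ => ⟨Z.inv_mem hx, by rw [hNinv x hx, ex, inv_one]⟩ }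
  have hW : ⁅U, U⁆ ≤ W :=
    Subgroup.commutator_le.2 fun x hx y hy => ⟨hZmem x hx y hy, hFall x hx y hy⟩
  obtain ⟨hzZ, hz1⟩ := hW hzc
  simp only [N, dif_pos hzZ, ν, MonoidHom.finsetProd_apply] at hz1
  rw [Finset.prod_congr rfl (g := fun _ => (⟨z, hzZ⟩ : Z)) (fun s _ => Subtype.ext (by
    show d s * z * (d s)⁻¹ = z
    rw [hK z hz (d s), mul_inv_cancel_right])), Finset.prod_const, Finset.card_univ] at hz1
  rw [Nat.card_eq_fintype_card]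
  simpa using hz1

end

end Ctx

end CfsgLib.Chev.G2Tw
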