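import Cfsg.Agent.Chev.ReeClass
import Cfsg.Agent.Chev.ReeGen
import Cfsg.Agent.Chev.FieldFix
import Cfsg.Agent.ChevAut.OutCount
import Cfsg.Prelude.Def_KGroupFacts

/-!
The automorphisms of the small Ree group are products of inner and field automorphisms.
-/

set_option autoImplicit false
set_option linter.style.haveILetI false
set_option linter.unusedSectionVars false

namespace CfsgLib.Chev.G2Tw

open Cfsg.Lie Tab

namespace Ctx

variable {K : Type*} [Field K] [Fintype K] {m : ℕ} (C : Ctx K m)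
include C

theorem glMap_U (σ : K →+* K) (t u v : K) : glMap chevG2 σ (C.U t u v) = C.U (σ t) (σ u) (σ v) := by
  simp [U, P6, map_mul, good_G2.glMap_x, map_pow, map_add]

theorem glMap_V (σ : K →+* K) (t u v : K) : glMap chevG2 σ (C.V t u v) = C.V (σ t) (σ u) (σ v) := by
  simp [V, Y', map_mul, good_G2.glMap_x, map_pow, map_add, map_neg]

theorem glMap_mem (σ : K →+* K) {g : GL chevG2.Idx K} (hg : g ∈ twistedG2 K (3 ^ m)) :
    glMap chevG2 σ g ∈ twistedG2 K (3 ^ m) := by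
  have h : twistedG2 K (3 ^ m) ≤ (twistedG2 K (3 ^ m)).comap (glMap chevG2 σ) := by
    refine (Subgroup.closure_le _).mpr ?_
    rintro g ⟨w, hw, hg⟩
    obtain ⟨t, u, v, rfl | rfl⟩ := C.mem_cases hw hg
    · rw [SetLike.mem_coe, Subgroup.mem_comap, C.glMap_U]; exact C.U_mem _ _ _
    · rw [SetLike.mem_coe, Subgroup.mem_comap, C.glMap_V]; exact C.V_mem _ _ _
  exact h hg

/-- A field automorphism of the small Ree group. -/
noncomputable def fAut (σ : K ≃+* K) : MulAut (RG K m) where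
  toFun g := ⟨glMap chevG2 σ.toRingHom g, C.glMap_mem _ g.2⟩
  invFun g := ⟨glMap chevG2 σ.symm.toRingHom g, C.glMap_mem _ g.2⟩
  left_inv g := Subtype.ext (Units.ext (Matrix.ext fun i j => σ.symm_apply_apply _))
  right_inv g := Subtype.ext (Units.ext (Matrix.ext fun i j => σ.apply_symm_apply _))
  map_mul' g g' := Subtype.ext (map_mul (glMap chevG2 σ.toRingHom) _ _)

theorem fAut_fAut (σ τ : K ≃+* K) (g : RG K m) :
    C.fAut τ (C.fAut σ g) = C.fAut (σ.trans τ) g :=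
  Subtype.ext (Units.ext (Matrix.ext fun _ _ => rfl))

theorem fAut_refl (g : RG K m) : C.fAut (RingEquiv.refl K) g = g :=
  Subtype.ext (Units.ext (Matrix.ext fun _ _ => rfl))

theorem fAut_symm_apply (σ : K ≃+* K) (g : RG K m) : C.fAut σ (C.fAut σ.symm g) = g := by
  rw [C.fAut_fAut, RingEquiv.symm_trans_self, C.fAut_refl]

theorem fAut_uG (σ : K ≃+* K) (t u v : K) : C.fAut σ (C.uG t u v) = C.uG (σ t) (σ u) (σ v) :=
  Subtype.ext (C.glMap_U σ.toRingHom t u v)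

theorem fAut_tG (σ : K ≃+* K) (s : Kˣ) :
    C.fAut σ (C.tG s) = C.tG (Units.map σ.toRingHom.toMonoidHom s) := by
  refine Subtype.ext ?_
  show glMap chevG2 σ.toRingHom (C.h s) = C.h _
  show glMap chevG2 σ.toRingHom (G2Data.tab.hT K (C.cvec s)) = G2Data.tab.hT K (C.cvec _)
  rw [good_G2.glMap_hT]
  refine congrArg (G2Data.tab.hT K) (funext fun i => ?_)
  have e : ∀ t : Kˣ, C.cvec t = ![t ^ 3 ^ m, t] := fun t => rfl
  rw [e, e]
  revert i
  show ∀ i : Fin 2, _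
  intro i
  fin_cases i <;> simp

theorem scale_pow_ne {γ : Kˣ} (hm : 1 ≤ m) (hγ : orderOf γ = 3 ^ (2 * m + 1) - 1) :
    (γ : K) ^ (3 * 3 ^ m) ≠ (γ : K) := by
  have hle : 3 ≤ 3 ^ m := Nat.le_self_pow (by omega) 3
  have hq : 3 ^ (2 * m + 1) = 3 * 3 ^ m * 3 ^ m := by rw [two_mul, pow_succ, pow_add]; ring
  intro h
  have h' : γ ^ (3 * 3 ^ m - 1) * γ = 1 * γ := by
    rw [← pow_succ, Nat.sub_add_cancel (by omega), one_mul]
    exact Units.ext (by rw [Units.val_pow_eq_pow_val]; exact h)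
  have h1 := Nat.le_of_dvd (by omega) (orderOf_dvd_of_pow_eq_one (mul_right_cancel h'))
  have : 3 * 3 ^ m * 3 ≤ 3 * 3 ^ m * 3 ^ m := Nat.mul_le_mul_left _ hle
  omega

theorem zero_pow_e : (0 : K) ^ (3 * 3 ^ m) = 0 := zero_pow (Nat.mul_ne_zero (by norm_num) C.he0)

theorem uG_tail_mul (u v u' v' : K) :
    C.uG 0 u v * C.uG 0 u' v' = C.uG 0 (u + u') (v + v') := by
  obtain ⟨w, e, -, h⟩ := C.uG_mul 0 u v 0 u' v'
  rw [e, h rfl]
  simp [C.zero_pow_e]

theorem uG_mul_tail (t u v p r : K) : C.uG t u v * C.uG 0 p r = C.uG t (u + p) (v + r) := by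
  obtain ⟨w, e, -, h⟩ := C.uG_mul t u v 0 p r
  rw [e, h rfl]
  simp [C.zero_pow_e]

theorem tail_mul_uG (t u v p r : K) :
    C.uG 0 p r * C.uG t u v = C.uG t (p + u) (r - t * p + v) := by
  obtain ⟨w, e, h, -⟩ := C.uG_mul 0 p r t u v
  rw [e, h rfl]
  simp

/-- The centre of `U`. -/
theorem centre_form {g : RG K m} (hm : 1 ≤ m) (hg : g ∈ C.UG)
    (h : ∀ x ∈ C.UG, g * x = x * g) : ∃ v, g = C.uG 0 0 v := by
  obtain ⟨t, u, v, rfl⟩ := C.mem_UG.mp hg
  obtain ⟨γ, hγ⟩ := IsCyclic.exists_ofOrder_eq_natCard (α := Kˣ)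
  rw [C.card_units] at hγ
  have key : ∀ t' : K, t' ^ (3 * 3 ^ m) * t = t ^ (3 * 3 ^ m) * t' := fun t' => by
    have e := h _ (C.uG_mem t' 0 0)
    obtain ⟨w, e1, -, -⟩ := C.uG_mul t u v t' 0 0
    obtain ⟨w', e2, -, -⟩ := C.uG_mul t' 0 0 t u v
    rw [e1, e2] at e
    linear_combination -(C.uG_inj e).2.1
  have ht : t = 0 := by
    have h1 := key 1
    rw [one_pow, one_mul, mul_one] at h1
    have h2 := key γ
    rw [← h1] at h2
    by_contra ht
    exact C.scale_pow_ne hm hγ (mul_right_cancel₀ ht (h2.trans (mul_comm _ _)))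
  subst ht
  have e := h _ (C.uG_mem 1 0 0)
  rw [C.tail_mul_uG, C.uG_mul_tail] at e
  exact ⟨v, by rw [show u = 0 by linear_combination -(C.uG_inj e).2.2]⟩

theorem centre_comm (v : K) {x : RG K m} (hx : x ∈ C.UG) : C.uG 0 0 v * x = x * C.uG 0 0 v := by
  obtain ⟨t, u, w, rfl⟩ := C.mem_UG.mp hx
  rw [C.tail_mul_uG, C.uG_mul_tail]
  congr 1 <;> ring

/-- An automorphism fixing the torus and the centre of `U` is trivial. -/
theorem rigid (hm : 1 ≤ m) (β : MulAut (RG K m)) (hU : ∀ x ∈ C.UG, β x ∈ C.UG)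
    (hH : ∀ s, β (C.tG s) = C.tG s) (hZ : ∀ v, β (C.uG 0 0 v) = C.uG 0 0 v) (x : RG K m) :
    β x = x := by
  obtain ⟨γ, hγgen⟩ := IsCyclic.exists_generator (α := Kˣ)
  have hγ : orderOf γ = 3 ^ (2 * m + 1) - 1 := by
    rw [orderOf_eq_card_of_forall_mem_zpowers hγgen, C.card_units]
  have h2 : (2 : K) ≠ 0 := fun h2 => one_ne_zero (show (1 : K) = 0 by
    linear_combination C.three_eq - h2)
  have hodd : Odd (3 * 3 ^ m) := (by decide : Odd 3).mul Ctx.e_odd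
  -- the middle coordinate
  have hmid : ∀ p, ∃ p', β (C.uG 0 p 0) = C.uG 0 p' 0 := fun p => by
    refine (C.aG_commute_iff (hU _ (C.uG_mem _ _ _))).mp ?_
    have hc : Commute C.aG (C.uG 0 p 0) := (C.aG_commute_iff (C.uG_mem _ _ _)).mpr ⟨p, rfl⟩
    have := hc.map β
    rwa [show β C.aG = C.aG from hH _] at this
  choose f hf using hmid
  obtain ⟨t₀, a, b, h100⟩ := C.mem_UG.mp (hU _ (C.uG_mem 1 0 0))
  have hfp : ∀ p, t₀ * f p = p := fun p => by
    have e : C.uG 1 0 0 * C.uG 0 p 0 = C.uG 0 p 0 * C.uG 1 0 0 * C.uG 0 0 p := by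
      rw [C.uG_mul_tail, C.tail_mul_uG, C.uG_mul_tail]
      congr 1 <;> ring
    have e' := congrArg β e
    rw [map_mul, map_mul, map_mul, h100, hf, hZ, C.uG_mul_tail, C.tail_mul_uG, C.uG_mul_tail] at e'
    linear_combination (C.uG_inj e').2.2
  have ht₀ : t₀ ≠ 0 := fun h => one_ne_zero (show (1 : K) = 0 by
    rw [← hfp 1, h, zero_mul])
  have htail : ∀ p r, β (C.uG 0 p r) = C.uG 0 (f p) r := fun p r => by
    rw [show C.uG 0 p r = C.uG 0 p 0 * C.uG 0 0 r by rw [C.uG_tail_mul, add_zero, zero_add],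
      map_mul, hf, hZ, C.uG_tail_mul, add_zero, zero_add]
  have hscale : ∀ s : Kˣ, ∀ t u v, ∃ s₁ s₂ : Kˣ,
      s₁ = (s ^ 3 ^ m) ^ (-3 : ℤ) * s ^ (2 : ℤ) ∧
      C.uG ((s₁ : K) * t) ((s₂ : K) * u) ((s : K) * v) = C.tG s * C.uG t u v * (C.tG s)⁻¹ :=
    fun s t u v => by
      obtain ⟨s₁, s₂, h1, -, h3⟩ := C.tG_conj_uG s t u v
      exact ⟨s₁, s₂, h1, h3.symm⟩
  -- the first coordinate is one
  have ht1 : t₀ = 1 := by
    obtain ⟨s, hs⟩ := (C.scale_units γ).1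
    obtain ⟨s₁, s₂, h1, h3⟩ := hscale s 1 0 0
    obtain ⟨r₁, r₂, g1, g3⟩ := hscale s t₀ a b
    rw [hs] at h1 g1
    have hγ0 : β (C.uG (γ : K) 0 0) = C.uG ((γ : K) * t₀) ((r₂ : K) * a) ((s : K) * b) := by
      rw [mul_one, mul_zero, mul_zero, h1] at h3
      rw [h3, map_mul, map_mul, map_inv, hH, h100, ← g3, g1]
    obtain ⟨w₁, e1, -, -⟩ := C.uG_mul 1 0 0 (γ : K) 0 0
    obtain ⟨w₂, e2, -, -⟩ := C.uG_mul (γ : K) 0 0 1 0 0
    set D := (γ : K) - (γ : K) ^ (3 * 3 ^ m) with hD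
    have e : C.uG 1 0 0 * C.uG (γ : K) 0 0 =
        C.uG (γ : K) 0 0 * C.uG 1 0 0 * C.uG 0 D (w₁ - w₂) := by
      rw [e1, e2, C.uG_mul_tail]
      simp only [hD, one_pow, one_mul, mul_one]
      congr 1 <;> ring
    have e' := congrArg β e
    rw [map_mul, map_mul, map_mul, h100, hγ0, htail] at e'
    obtain ⟨w₃, e3, -, -⟩ := C.uG_mul t₀ a b ((γ : K) * t₀) ((r₂ : K) * a) ((s : K) * b)
    obtain ⟨w₄, e4, -, -⟩ := C.uG_mul ((γ : K) * t₀) ((r₂ : K) * a) ((s : K) * b) t₀ a b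
    rw [e3, e4, C.uG_mul_tail] at e'
    have q2 := (C.uG_inj e').2.1
    have hDne : D ≠ 0 := sub_ne_zero.mpr (Ne.symm (C.scale_pow_ne hm hγ))
    have h4 : t₀ ^ (3 * 3 ^ m + 2) * D = 1 * D := by
      rw [one_mul]
      calc t₀ ^ (3 * 3 ^ m + 2) * D = t₀ * (t₀ ^ (3 * 3 ^ m + 1) * D) := by ring
        _ = t₀ * f D := by
          congr 1
          rw [mul_pow] at q2
          linear_combination q2
        _ = D := hfp D
    have h5 : (Units.mk0 t₀ ht₀) ^ (3 * 3 ^ m + 2) = 1 :=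
      Units.ext (by rw [Units.val_pow_eq_pow_val]; exact mul_right_cancel₀ hDne h4)
    have hle : 2 ≤ 3 * 3 ^ m := by
      have := Nat.one_le_pow m 3 (by norm_num)
      omega
    set u := Units.mk0 t₀ ht₀
    have hq : u ^ (3 * 3 ^ m * 3 ^ m) = u := C.pow_q_units u
    have h6 : u ^ (3 * (3 * 3 ^ m * 3 ^ m)) = u ^ 3 := by rw [pow_mul', hq]
    have h7 : 3 * (3 * 3 ^ m * 3 ^ m) = (3 * 3 ^ m + 2) * (3 * 3 ^ m - 2) + 1 + 3 := by
      obtain ⟨k, hk⟩ : ∃ k, 3 * 3 ^ m = k + 2 := ⟨3 * 3 ^ m - 2, by omega⟩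
      rw [show 3 * (3 * 3 ^ m * 3 ^ m) = (3 * 3 ^ m) * (3 * 3 ^ m) by ring, hk, Nat.add_sub_cancel]
      ring
    rw [h7, pow_add, pow_add, pow_mul, h5, one_pow, one_mul, pow_one, mul_eq_right] at h6
    exact congrArg Units.val h6
  subst ht1
  have hf1 : ∀ p, f p = p := fun p => by simpa using hfp p
  -- the middle coordinate of the image vanishes
  have hneg : β (C.uG (-1) 0 0) = C.uG (-1) a (-b) := by
    have e := C.aG_conj_uG 1 0 0
    rw [neg_zero] at e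
    rw [← e, map_mul, map_mul, map_inv, show β C.aG = C.aG from hH _, h100, C.aG_conj_uG]
  have ha : a = 0 := by
    obtain ⟨w, e, -, -⟩ := C.uG_mul 1 0 0 (-1) 0 0
    obtain ⟨w', e', -, -⟩ := C.uG_mul 1 a b (-1) a (-b)
    have e2 := congrArg β e
    rw [map_mul, h100, hneg, e', add_neg_cancel, htail, hf1] at e2
    exact (mul_eq_zero.mp (show 2 * a = 0 by linear_combination (C.uG_inj e2).2.1)).resolve_left h2
  subst ha
  have h100' : β (C.uG 1 0 0) = C.uG 1 0 b := h100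
  -- every first coordinate
  have hfirst : ∀ t : Kˣ, β (C.uG (t : K) 0 0) =
      C.uG (t : K) 0 ((t : K) ^ (3 * 3 ^ m + 2) * b) := fun t => by
    obtain ⟨s, hs⟩ := (C.scale_units t).1
    have hs' : s = t ^ (3 * 3 ^ m + 2) := by
      have hq : (s ^ 3 ^ m) ^ (3 * 3 ^ m) = s := by
        rw [← pow_mul, mul_comm (3 ^ m) (3 * 3 ^ m)]
        exact C.pow_q_units s
      have hSS : s ^ (3 * 3 ^ m) = (s ^ 3 ^ m) ^ 3 := by rw [← pow_mul, mul_comm (3 ^ m)]
      rw [_root_.zpow_neg, show (3 : ℤ) = ((3 : ℕ) : ℤ) from rfl,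
        show (2 : ℤ) = ((2 : ℕ) : ℤ) from rfl, zpow_natCast, zpow_natCast] at hs
      generalize s ^ 3 ^ m = S at hq hSS hs
      have e1 : t ^ (3 * 3 ^ m) = (s ^ 3)⁻¹ * (S ^ 3) ^ 2 := by
        rw [← hs, mul_pow, inv_pow]
        congr 1
        · rw [inv_inj, ← pow_mul, mul_comm, pow_mul, hq]
        · rw [← pow_mul, mul_comm, pow_mul, hSS]
      rw [pow_add, e1, ← hs, mul_pow, inv_pow, mul_assoc, mul_inv_cancel_left]
      group
    obtain ⟨s₁, s₂, h1, h3⟩ := hscale s 1 0 0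
    obtain ⟨r₁, r₂, g1, g3⟩ := hscale s 1 0 b
    rw [hs] at h1 g1
    simp only [mul_one, mul_zero, h1] at h3
    simp only [mul_one, mul_zero, g1] at g3
    rw [h3, map_mul, map_mul, map_inv, hH, h100', ← g3, hs', Units.val_pow_eq_pow_val]
  have hb : b = 0 := by
    by_contra hb
    have hne1 : (γ : K) + 1 ≠ 0 ∧ -(γ : K) + 1 ≠ 0 := by
      constructor <;> intro h
      · have : γ ^ 2 = 1 := by
          refine Units.ext ?_
          rw [Units.val_pow_eq_pow_val, Units.val_one]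
          linear_combination ((γ : K) - 1) * h
        have := Nat.le_of_dvd (by norm_num) (orderOf_dvd_of_pow_eq_one this)
        have : 3 ^ 3 ≤ 3 ^ (2 * m + 1) := Nat.pow_le_pow_right (by norm_num) (by omega)
        omega
      · have : γ ^ 2 = 1 := by
          refine Units.ext ?_
          rw [Units.val_pow_eq_pow_val, Units.val_one]
          linear_combination (-(γ : K) - 1) * h
        have := Nat.le_of_dvd (by norm_num) (orderOf_dvd_of_pow_eq_one this)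
        have : 3 ^ 3 ≤ 3 ^ (2 * m + 1) := Nat.pow_le_pow_right (by norm_num) (by omega)
        omega
    have hadd : ∀ t : Kˣ, (t : K) + 1 ≠ 0 →
        ((t : K) + 1) ^ (3 * 3 ^ m + 2) = (t : K) ^ (3 * 3 ^ m + 2) + 1 := fun t ht => by
      obtain ⟨w, e, -, -⟩ := C.uG_mul (t : K) 0 0 1 0 0
      have e2 : C.uG (t : K) 0 0 * C.uG 1 0 0 =
          C.uG ((t : K) + 1) 0 0 * C.uG 0 (-(1 * (t : K))) w := by
        rw [e, C.uG_mul_tail, one_pow]
        congr 1 <;> ring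
      have e3 := congrArg β e2
      rw [map_mul, map_mul, hfirst, h100', htail, hf1, ← Units.val_mk0 ht, hfirst, Units.val_mk0,
        C.uG_mul_tail] at e3
      obtain ⟨w', e', -, -⟩ := C.uG_mul (t : K) 0 ((t : K) ^ (3 * 3 ^ m + 2) * b) 1 0 b
      rw [e'] at e3
      have hw : C.uG (t : K) 0 ((t : K) ^ (3 * 3 ^ m + 2) * b) * C.uG 1 0 b =
          C.uG (t : K) 0 0 * C.uG 1 0 0 * C.uG 0 0 ((t : K) ^ (3 * 3 ^ m + 2) * b + b) := by
        calc C.uG (t : K) 0 ((t : K) ^ (3 * 3 ^ m + 2) * b) * C.uG 1 0 b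
            = C.uG (t : K) 0 0 * C.uG 0 0 ((t : K) ^ (3 * 3 ^ m + 2) * b) * (C.uG 1 0 0 *
                C.uG 0 0 b) := by
              rw [C.uG_mul_tail, C.uG_mul_tail]; simp
          _ = C.uG (t : K) 0 0 * (C.uG 0 0 ((t : K) ^ (3 * 3 ^ m + 2) * b) * C.uG 1 0 0) *
                C.uG 0 0 b := by group
          _ = C.uG (t : K) 0 0 * C.uG 1 0 0 *
                (C.uG 0 0 ((t : K) ^ (3 * 3 ^ m + 2) * b) * C.uG 0 0 b) := by
              rw [C.centre_comm _ (C.uG_mem 1 0 0)]; group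
          _ = _ := by rw [C.uG_tail_mul, add_zero]
      rw [e', e, C.uG_mul_tail] at hw
      have q := (C.uG_inj e3).2.2
      rw [(C.uG_inj hw).2.2] at q
      exact mul_right_cancel₀ hb (by linear_combination -q)
    have h1 := hadd γ hne1.1
    have h3 := hadd (-γ) (by rw [Units.val_neg]; exact hne1.2)
    haveI := C.charP
    haveI : Fact (Nat.Prime 3) := ⟨Nat.prime_three⟩
    rw [Units.val_neg] at h3
    have hfr : ∀ x : K, (x + 1) ^ (3 * 3 ^ m + 2) = (x ^ (3 * 3 ^ m) + 1) * (x + 1) ^ 2 := fun x => by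
      rw [pow_add, ← pow_succ' 3 m, add_pow_char_pow, one_pow]
    rw [hfr] at h1 h3
    rw [hodd.neg_pow, pow_add (-(γ : K)), hodd.neg_pow] at h3
    rw [pow_add] at h1
    refine C.scale_pow_ne hm hγ ?_
    have h4 : (γ : K) * ((γ : K) ^ (3 * 3 ^ m) - (γ : K)) = 0 := by
      linear_combination h1 + h3 - ((γ : K) ^ (3 * 3 ^ m + 1) + (γ : K) ^ 2) * C.three_eq
    exact sub_eq_zero.mp ((mul_eq_zero.mp h4).resolve_left γ.ne_zero)
  subst hb
  -- the whole of `U`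
  have hUfix : ∀ g ∈ C.UG, β g = g := by
    intro g hg
    obtain ⟨t, u, v, rfl⟩ := C.mem_UG.mp hg
    have e : C.uG t u v = C.uG t 0 0 * C.uG 0 u v := by rw [C.uG_mul_tail, zero_add, zero_add]
    rw [e, map_mul, htail, hf1]
    congr 1
    by_cases ht : t = 0
    · rw [ht, C.uG_zero, map_one]
    · have := hfirst (Units.mk0 t ht)
      rwa [mul_zero, Units.val_mk0] at this
  -- the element of the Weyl group
  have hs2 : γ ^ 2 ≠ 1 := fun h => by
    have := Nat.le_of_dvd (by norm_num) (orderOf_dvd_of_pow_eq_one h)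
    have : 3 ^ 3 ≤ 3 ^ (2 * m + 1) := Nat.pow_le_pow_right (by norm_num) (by omega)
    omega
  have hn : β C.nG * C.tG γ * (β C.nG)⁻¹ = C.tG γ⁻¹ := by
    have := congrArg β (C.nG_conj γ)
    rwa [map_mul, map_mul, map_inv, hH, hH] at this
  have hnorm : β C.nG ∈ Subgroup.normalizer (Subgroup.zpowers (C.tG γ) : Set (RG K m)) := by
    refine ReeCount.eq_of_conj_le fun x hx => ?_
    obtain ⟨k, rfl⟩ := Subgroup.mem_zpowers_iff.mp hx
    rw [← conj_zpow, hn, map_inv]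
    exact Subgroup.zpow_mem _ (inv_mem (Subgroup.mem_zpowers _)) k
  rcases (C.normalizer_tG hs2).mp hnorm with ⟨t, ht⟩ | ⟨c, hc⟩
  · exfalso
    rw [← ht, ← map_inv, ← map_mul, ← map_mul, mul_comm t, mul_inv_cancel_right] at hn
    refine hs2 ?_
    rw [pow_two]
    nth_rw 2 [C.tG_inj hn]
    exact mul_inv_cancel γ
  have hcn : β C.nG = C.nG := by
    rcases C.cases (C.nG * C.uG 0 0 1 * C.nG⁻¹) with ⟨u, hu, s, e⟩ | ⟨u₁, hu₁, h, u₂, hu₂, e⟩
    · exfalso
      have := C.conj_nG_BG (C.uG_mem 0 0 1) (C.mem_BG_iff.mpr ⟨u, hu, s, e⟩)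
      exact one_ne_zero (C.uG_inj (this.trans C.uG_zero.symm)).2.2
    · have e' := congrArg β e
      rw [map_mul, map_mul, map_inv, map_mul, map_mul, map_mul, hc, hUfix _ (C.uG_mem 0 0 1),
        hUfix _ hu₁, hH, hUfix _ hu₂] at e'
      have e2 : (C.tG c * u₁ * (C.tG c)⁻¹) * C.tG (c * h * c) * C.nG *
          (C.tG c * u₂ * (C.tG c)⁻¹) = u₁ * C.tG (h * c) * C.nG * u₂ := by
        rw [map_mul C.tG h c, show u₁ * (C.tG h * C.tG c) * C.nG * u₂ =
          u₁ * C.tG h * (C.tG c * C.nG) * u₂ by group, ← e',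
          show C.tG c * C.nG * C.uG 0 0 1 * (C.tG c * C.nG)⁻¹ =
            C.tG c * (C.nG * C.uG 0 0 1 * C.nG⁻¹) * (C.tG c)⁻¹ by group, e,
          map_mul C.tG (c * h) c, map_mul C.tG c h,
          show C.tG c * (u₁ * C.tG h * C.nG * u₂) * (C.tG c)⁻¹ =
            C.tG c * u₁ * (C.tG c)⁻¹ * (C.tG c * C.tG h) * (C.nG * (C.tG c)⁻¹) *
              (C.tG c * u₂ * (C.tG c)⁻¹) by group, ← map_inv, C.nG_tG, inv_inv, map_inv]
        group
      have h2 := (C.big_unique (C.tG_conj_UG c hu₁) (C.tG_conj_UG c hu₂) hu₁ hu₂ e2).2.1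
      rw [mul_comm c h, mul_assoc] at h2
      have hc1 : c = 1 := mul_left_cancel ((mul_left_cancel h2).trans (mul_one c).symm)
      rw [hc, hc1, map_one, one_mul]
  rcases C.cases x with ⟨u, hu, s, rfl⟩ | ⟨u, hu, s, v, hv, rfl⟩
  · rw [map_mul, hUfix u hu, hH]
  · rw [map_mul, map_mul, map_mul, hUfix u hu, hH, hcn, hUfix v hv]

/-- Every automorphism is the product of an inner and a field automorphism. -/
theorem exists_field_conj (hm : 1 ≤ m) (α : MulAut (RG K m)) :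
    ∃ (σ : K ≃+* K) (g : RG K m), ∀ x, α x = g * C.fAut σ x * g⁻¹ := by
  classical
  haveI : Fact (Nat.Prime 3) := ⟨Nat.prime_three⟩
  obtain ⟨γ, hγgen⟩ := IsCyclic.exists_generator (α := Kˣ)
  have hγ : orderOf γ = 3 ^ (2 * m + 1) - 1 := by
    rw [orderOf_eq_card_of_forall_mem_zpowers hγgen, C.card_units]
  have hp : IsPGroup 3 (C.UG.map α.toMonoidHom) :=
    IsPGroup.map (IsPGroup.of_card (n := (2 * m + 1) * 3)
      (C.card_UG.trans (pow_mul 3 (2 * m + 1) 3).symm)) _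
  obtain ⟨g₁, hg₁⟩ := ReeCount.exists_conj_mem C.UG C.index_UG hp
  let α₁ : MulAut (RG K m) := MulAut.conj g₁ * α
  have h₁U : ∀ u ∈ C.UG, α₁ u ∈ C.UG := fun u hu => hg₁ _ ⟨u, hu, rfl⟩
  have h₁B : ∀ b ∈ C.BG, α₁ b ∈ C.BG := fun b hb => by
    have hu := C.uG_mem 1 0 0
    refine C.mem_BG_of_conj (h₁U _ hu) ?_ ?_
    · rw [Ne, EmbeddingLike.map_eq_one_iff]
      exact fun e => one_ne_zero (C.uG_inj (e.trans C.uG_zero.symm)).1
    · rw [← map_inv, ← map_mul, ← map_mul]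
      exact h₁U _ (C.BG_conj_UG hb hu)
  obtain ⟨u, hu, s, hs⟩ := C.mem_BG_iff.mp (h₁B _ (C.tG_mem_BG γ))
  have hs2 : s ^ 2 ≠ 1 := by
    intro h
    obtain ⟨v, hv, e⟩ := C.uh_pow hu s 2
    rw [h, map_one, mul_one, ← hs, ← map_pow, ← map_pow] at e
    have ho : orderOf v = (3 ^ (2 * m + 1) - 1) / 2 := by
      rw [← e, MulEquiv.orderOf_eq, C.orderOf_tG, orderOf_pow_of_dvd two_ne_zero, hγ]
      rw [hγ]
      obtain ⟨h8, -⟩ := C.arith
      change (3 ^ (2 * m + 1)) % 8 = 3 at h8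
      exact Nat.dvd_of_mod_eq_zero (by omega)
    have h27 : 3 ^ 3 ≤ 3 ^ (2 * m + 1) := Nat.pow_le_pow_right (by norm_num) (by omega)
    have h3 : 3 ∣ 3 ^ (2 * m + 1) := dvd_pow_self 3 (Nat.succ_ne_zero _)
    rcases C.orderOf_UG hv with h' | h' | ⟨h', -⟩ <;> rw [h'] at ho <;> omega
  obtain ⟨v, hv, hconj⟩ := C.conj_into_torus hu hs2
  let α₂ : MulAut (RG K m) := MulAut.conj v⁻¹ * α₁
  have h₂U : ∀ x ∈ C.UG, α₂ x ∈ C.UG := fun x hx => by
    show v⁻¹ * α₁ x * v⁻¹⁻¹ ∈ C.UG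
    exact mul_mem (mul_mem (inv_mem hv) (h₁U x hx)) (inv_mem (inv_mem hv))
  have h₂γ : α₂ (C.tG γ) = C.tG s := by
    show v⁻¹ * α₁ (C.tG γ) * v⁻¹⁻¹ = C.tG s
    rw [hs, hconj]
    group
  have h₂H : ∀ t, ∃ t', α₂ (C.tG t) = C.tG t' := fun t => by
    obtain ⟨k, rfl⟩ := Subgroup.mem_zpowers_iff.mp (hγgen t)
    exact ⟨s ^ k, by rw [map_zpow, map_zpow, h₂γ, map_zpow]⟩
  choose μ hμ using h₂H
  have hsurjU : ∀ y ∈ C.UG, ∃ x ∈ C.UG, α₂ x = y := fun y hy => by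
    have hinj : Function.Injective fun x : C.UG => (⟨α₂ x, h₂U x x.2⟩ : C.UG) := fun a b e =>
      Subtype.ext (α₂.injective (congrArg Subtype.val e))
    obtain ⟨x, hx⟩ := Finite.injective_iff_surjective.mp hinj ⟨y, hy⟩
    exact ⟨x, x.2, congrArg Subtype.val hx⟩
  have h₂Z : ∀ v, ∃ v', α₂ (C.uG 0 0 v) = C.uG 0 0 v' := fun v => by
    refine C.centre_form hm (h₂U _ (C.uG_mem _ _ _)) fun y hy => ?_
    obtain ⟨x, hx, rfl⟩ := hsurjU y hy
    rw [← map_mul, ← map_mul, C.centre_comm v hx]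
  choose φ hφ using h₂Z
  have hφinj : Function.Injective φ := fun a b e =>
    (C.uG_inj (α₂.injective (by rw [hφ, hφ, e]))).2.2
  have hφadd : ∀ a b, φ (a + b) = φ a + φ b := fun a b => by
    have e := map_mul α₂ (C.uG 0 0 a) (C.uG 0 0 b)
    rw [C.uG_tail_mul, add_zero, hφ, hφ, hφ, C.uG_tail_mul, add_zero] at e
    exact (C.uG_inj e).2.2
  have hφ0 : φ 0 = 0 := by
    have := hφadd 0 0
    rw [add_zero] at this
    linear_combination -this
  have hφμ : ∀ (t : Kˣ) (a : K), φ ((t : K) * a) = (μ t : K) * φ a := fun t a => by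
    obtain ⟨s₁, s₂, -, -, e⟩ := C.tG_conj_uG t 0 0 a
    obtain ⟨r₁, r₂, -, -, e'⟩ := C.tG_conj_uG (μ t) 0 0 (φ a)
    have h := congrArg α₂ e
    rw [map_mul, map_mul, map_inv, hμ, hφ, e', mul_zero, mul_zero, mul_zero, mul_zero, hφ] at h
    exact ((C.uG_inj h).2.2).symm
  set c := φ 1 with hcdef
  have hc : c ≠ 0 := fun h => one_ne_zero (hφinj (h.trans hφ0.symm))
  have hφt : ∀ t : Kˣ, φ (t : K) = (μ t : K) * c := fun t => by
    have := hφμ t 1
    rwa [mul_one] at this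
  let F : K → K := fun a => φ a / c
  have hFmul : ∀ a b, F (a * b) = F a * F b := fun a b => by
    by_cases ha : a = 0
    · simp [F, ha, hφ0]
    · simp only [F]
      rw [show φ (a * b) = φ ((Units.mk0 a ha : K) * b) from rfl, hφμ,
        show φ a = φ (Units.mk0 a ha : K) from rfl, hφt]
      field_simp
  have hFinj : Function.Injective F := fun a b e => hφinj ((div_left_inj' hc).mp e)
  let σ : K ≃+* K :=
    { Equiv.ofBijective F ⟨hFinj, Finite.injective_iff_surjective.mp hFinj⟩ with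
      map_mul' := hFmul
      map_add' := fun a b => by
        show F (a + b) = F a + F b
        simp only [F, hφadd, add_div] }
  have hσ : ∀ a, σ a = F a := fun a => rfl
  let α₃ : MulAut (RG K m) := C.fAut σ.symm * (MulAut.conj (C.tG (Units.mk0 c hc)⁻¹) * α₂)
  have hα₃ : ∀ x, α₃ x =
      C.fAut σ.symm (C.tG (Units.mk0 c hc)⁻¹ * α₂ x * (C.tG (Units.mk0 c hc)⁻¹)⁻¹) := fun x => rfl
  have hμσ : ∀ t : Kˣ, σ (t : K) = (μ t : K) := fun t => by
    rw [hσ]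
    simp only [F, hφt, mul_div_cancel_right₀ _ hc]
  have h₃ := C.rigid hm α₃ (fun x hx => ?_) (fun t => ?_) (fun a => ?_)
  rotate_left
  · rw [hα₃]
    obtain ⟨t', u', v', e⟩ := C.mem_UG.mp
      (C.tG_conj_UG (Units.mk0 c hc)⁻¹ (h₂U x hx))
    rw [e, C.fAut_uG]
    exact C.uG_mem _ _ _
  · rw [hα₃, hμ, ← map_inv, ← map_mul, ← map_mul, mul_comm (Units.mk0 c hc)⁻¹,
      mul_inv_cancel_right, C.fAut_tG]
    refine congrArg C.tG (Units.ext ?_)
    show σ.symm (μ t : K) = t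
    rw [← hμσ, RingEquiv.symm_apply_apply]
  · rw [hα₃, hφ]
    obtain ⟨s₁, s₂, -, -, e⟩ := C.tG_conj_uG (Units.mk0 c hc)⁻¹ 0 0 (φ a)
    rw [e, mul_zero, mul_zero, C.fAut_uG, map_zero]
    congr 1
    rw [Units.val_inv_eq_inv_val, Units.val_mk0, mul_comm, ← div_eq_mul_inv]
    show σ.symm (F a) = a
    rw [← hσ, RingEquiv.symm_apply_apply]
  refine ⟨σ, ((C.tG (Units.mk0 c hc)⁻¹) * (v⁻¹ * g₁))⁻¹, fun x => ?_⟩
  have e := congrArg (C.fAut σ) (h₃ x)
  rw [hα₃, C.fAut_symm_apply] at e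
  rw [← e]
  show α x = _
  simp only [α₂, α₁, MulAut.mul_apply, MulAut.conj_apply]
  group

theorem fAut_inner_trivial (σ : K ≃+* K) {g : RG K m} (h : ∀ x, C.fAut σ x = g * x * g⁻¹) :
    σ = RingEquiv.refl K := by
  have hu : g * C.uG 0 0 1 * g⁻¹ = C.uG 0 0 1 := by
    rw [← h, C.fAut_uG, map_zero, map_one]
  have h1 : C.uG 0 0 1 ≠ 1 := fun e => one_ne_zero (C.uG_inj (e.trans C.uG_zero.symm)).2.2
  obtain ⟨u, hu', s, rfl⟩ := C.mem_BG_iff.mp
    (C.mem_BG_of_conj (C.uG_mem 0 0 1) h1 (by rw [hu]; exact C.uG_mem _ _ _))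
  have ha : Commute (u * C.tG s) C.aG := by
    refine mul_inv_eq_iff_eq_mul.mp ((h C.aG).symm.trans ?_)
    rw [show C.aG = C.tG (-1) from rfl, C.fAut_tG]
    refine congrArg C.tG (Units.ext ?_)
    show σ ((-1 : Kˣ) : K) = ((-1 : Kˣ) : K)
    rw [Units.val_neg, Units.val_one, map_neg, map_one]
  have hsa : Commute (C.tG s) C.aG := (Commute.all s (-1 : Kˣ)).map C.tG
  have hua : Commute C.aG u := by
    have := ha.mul_left hsa.inv_left
    rw [mul_inv_cancel_right] at this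
    exact this.symm
  obtain ⟨p, rfl⟩ := (C.aG_commute_iff hu').mp hua
  have hs : s = 1 := by
    obtain ⟨s₁, s₂, -, -, e⟩ := C.tG_conj_uG s 0 0 1
    have e' : C.uG 0 p 0 * C.uG 0 0 (s : K) = C.uG 0 0 1 * C.uG 0 p 0 := by
      refine mul_inv_eq_iff_eq_mul.mp ?_
      calc C.uG 0 p 0 * C.uG 0 0 (s : K) * (C.uG 0 p 0)⁻¹
          = C.uG 0 p 0 * (C.tG s * C.uG 0 0 1 * (C.tG s)⁻¹) * (C.uG 0 p 0)⁻¹ := by
            rw [e, mul_zero, mul_zero, mul_one]
        _ = C.uG 0 p 0 * C.tG s * C.uG 0 0 1 * (C.uG 0 p 0 * C.tG s)⁻¹ := by group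
        _ = C.uG 0 0 1 := hu
    rw [C.uG_tail_mul, C.uG_tail_mul] at e'
    exact Units.ext (by rw [Units.val_one]; linear_combination (C.uG_inj e').2.2)
  subst hs
  have hp : p = 0 := by
    have e := h (C.uG 1 0 0)
    rw [C.fAut_uG, map_zero, map_one, map_one, mul_one, eq_mul_inv_iff_mul_eq, C.uG_mul_tail,
      C.tail_mul_uG] at e
    linear_combination (C.uG_inj e).2.2
  subst hp
  refine RingEquiv.ext fun a => ?_
  have e := h (C.uG 0 0 a)
  rw [C.fAut_uG, map_zero, C.uG_zero, map_one, mul_one, one_mul, inv_one, mul_one] at e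
  exact (C.uG_inj e).2.2

/-- The outer automorphism group. -/
theorem card_out (hm : 1 ≤ m) : Nat.card (Cfsg.Out (RG K m)) = 2 * m + 1 := by
  haveI := C.charP
  haveI : Fact (Nat.Prime 3) := ⟨Nat.prime_three⟩
  rw [← CfsgLib.Chev.card_ringEquiv (F := K) (p := 3) C.hK]
  refine (Nat.card_eq_of_bijective
    (fun σ : K ≃+* K => (QuotientGroup.mk (C.fAut σ) : Cfsg.Out (RG K m))) ⟨?_, ?_⟩).symm
  · intro σ τ e
    obtain ⟨g, hg⟩ := QuotientGroup.eq.mp e
    refine (RingEquiv.ext fun a => ?_).symm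
    have hkey := C.fAut_inner_trivial (σ.symm.trans τ) (g := C.fAut σ g) fun x => by
      have h1 : C.fAut τ (C.fAut σ.symm x) =
          C.fAut σ (g * C.fAut σ.symm x * g⁻¹) := by
        have := congrArg (fun f : MulAut (RG K m) => C.fAut σ (f (C.fAut σ.symm x))) hg
        simp only [MulAut.mul_apply, MulAut.conj_apply, MulAut.apply_inv_self] at this
        exact this.symm
      rw [← C.fAut_fAut, h1, map_mul, map_mul, map_inv, C.fAut_symm_apply]
    have := RingEquiv.congr_fun hkey (σ a)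
    rwa [RingEquiv.trans_apply, RingEquiv.symm_apply_apply, RingEquiv.refl_apply] at this
  · intro q
    obtain ⟨α, rfl⟩ := QuotientGroup.mk_surjective q
    obtain ⟨σ, g, hg⟩ := C.exists_field_conj hm α
    refine ⟨σ, QuotientGroup.eq.mpr ⟨(C.fAut σ)⁻¹ g, ?_⟩⟩
    ext x
    simp only [MulAut.mul_apply, MulAut.conj_apply, hg, map_mul, map_inv, MulAut.inv_apply_self]

end Ctx

end CfsgLib.Chev.G2Tw
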