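import Cfsg.Agent.Chev.ReeInvol
import Cfsg.Agent.Transfer.Basic

/-!
The Sylow 2-subgroups of the small Ree group and the conjugacy of its involutions.
-/

set_option autoImplicit false
set_option linter.style.haveILetI false

namespace CfsgLib.Chev.G2Tw

open Cfsg.Lie
open CfsgLib.Linear.SmallSub (P2)

/-- The group of order two. -/
abbrev Z2 := Multiplicative (ZMod 2)

theorem z2_cases (z : Z2) : z = 1 ∨ z = Multiplicative.ofAdd 1 := by
  revert z; decide

namespace Ctx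

variable {K : Type*} [Field K] [Fintype K] {m : ℕ} (C : Ctx K m)
include C

/-- The embedding of the product with `PSL₂(q)`. -/
noncomputable def Φc : Z2 × P2 K →* RG K m := C.exists_centralizer_hom.choose

theorem Φc_inj : Function.Injective C.Φc := C.exists_centralizer_hom.choose_spec.1

theorem Φc_range : C.Φc.range = Subgroup.centralizer ({C.aG} : Set (RG K m)) :=
  C.exists_centralizer_hom.choose_spec.2.1

theorem Φc_a : C.Φc (Multiplicative.ofAdd 1, 1) = C.aG := C.exists_centralizer_hom.choose_spec.2.2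

theorem exists_of_commute {g : RG K m} (h : Commute g C.aG) : ∃ p, C.Φc p = g := by
  rw [← MonoidHom.mem_range, C.Φc_range]
  exact Subgroup.mem_centralizer_singleton_iff.mpr h.eq

theorem commute_Φc (p : Z2 × P2 K) : Commute (C.Φc p) C.aG :=
  Subgroup.mem_centralizer_singleton_iff.mp (C.Φc_range.le ⟨p, rfl⟩)

theorem aG_ne_one : C.aG ≠ 1 := fun h => by
  have := C.Φc_inj ((C.Φc_a.trans h).trans (map_one C.Φc).symm)
  exact absurd (congrArg Prod.fst this) (show Multiplicative.ofAdd (1 : ZMod 2) ≠ 1 by decide)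

theorem aG_sq : C.aG * C.aG = 1 := by
  rw [show C.aG = C.tG (-1) from rfl, ← map_mul, neg_mul_neg, one_mul, map_one]

/-- The image of the product with a Sylow 2-subgroup of `PSL₂(q)`. -/
noncomputable def S₀ (P : Sylow 2 (P2 K)) : Subgroup (RG K m) :=
  ((⊤ : Subgroup Z2).prod (P : Subgroup (P2 K))).map C.Φc

theorem mem_S₀ (P : Sylow 2 (P2 K)) {g : RG K m} :
    g ∈ C.S₀ P ↔ ∃ z, ∃ x ∈ (P : Subgroup (P2 K)), C.Φc (z, x) = g := by
  constructor
  · rintro ⟨⟨z, x⟩, ⟨-, hx⟩, rfl⟩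
    exact ⟨z, x, hx, rfl⟩
  · rintro ⟨z, x, hx, rfl⟩
    exact ⟨(z, x), ⟨Subgroup.mem_top _, hx⟩, rfl⟩

theorem card_S₀ (P : Sylow 2 (P2 K)) : Nat.card (C.S₀ P) = 8 := by
  rw [S₀, Subgroup.card_map_of_injective C.Φc_inj, Nat.card_congr (Subgroup.prodEquiv _ _).toEquiv,
    Nat.card_prod, Subgroup.card_top, (ReePSL.sylow_klein C.q_mod_eight P).card_four,
    Nat.card_congr Multiplicative.toAdd, Nat.card_zmod]

theorem index_S₀_odd (P : Sylow 2 (P2 K)) : ¬ 2 ∣ (C.S₀ P).index := by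
  intro h
  have h16 : 16 ∣ Nat.card (RG K m) := by
    rw [← Subgroup.card_mul_index (C.S₀ P), C.card_S₀]
    exact Nat.mul_dvd_mul_left 8 h
  rw [C.card_RG] at h16
  have h8 := C.q_mod_eight
  rw [C.hK] at h8
  generalize 3 ^ (2 * m + 1) = q at h8 h16
  have h1 : (q ^ 3 * (q - 1) * (q ^ 3 + 1)) % 16 = 0 := Nat.mod_eq_zero_of_dvd h16
  rw [Nat.mul_mod, Nat.mul_mod (q ^ 3), Nat.add_mod, Nat.pow_mod] at h1
  rcases (show q % 16 = 3 ∨ q % 16 = 11 by omega) with h | h
  · rw [show (q - 1) % 16 = 2 by omega, h] at h1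
    norm_num at h1
  · rw [show (q - 1) % 16 = 10 by omega, h] at h1
    norm_num at h1

/-- A Sylow 2-subgroup containing the involution of the torus. -/
noncomputable def sylow₀ (P : Sylow 2 (P2 K)) : Sylow 2 (RG K m) :=
  haveI : Fact (Nat.Prime 2) := ⟨Nat.prime_two⟩
  (IsPGroup.of_card (p := 2) (n := 3) ((C.card_S₀ P).trans (by norm_num))).toSylow (C.index_S₀_odd P)

theorem coe_sylow₀ (P : Sylow 2 (P2 K)) : (C.sylow₀ P : Subgroup (RG K m)) = C.S₀ P :=
  IsPGroup.toSylow_coe _ _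

theorem sq_S₀ (P : Sylow 2 (P2 K)) {g : RG K m} (hg : g ∈ C.S₀ P) : g * g = 1 := by
  obtain ⟨z, x, hx, rfl⟩ := (C.mem_S₀ P).mp hg
  rw [← map_mul, Prod.mk_mul_mk,
    CfsgLib.Linear.FourGroups.klein_sq (ReePSL.sylow_klein C.q_mod_eight P) hx,
    show z * z = 1 by rcases z2_cases z with rfl | rfl <;> decide]
  exact map_one C.Φc

/-- Every Sylow 2-subgroup is conjugate to the standard one. -/
theorem exists_conj_sylow₀ (P : Sylow 2 (P2 K)) (S : Sylow 2 (RG K m)) :
    ∃ g : RG K m, ∀ x, x ∈ (S : Subgroup (RG K m)) ↔ g⁻¹ * x * g ∈ C.S₀ P := by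
  haveI : Fact (Nat.Prime 2) := ⟨Nat.prime_two⟩
  obtain ⟨g, rfl⟩ := MulAction.exists_smul_eq (RG K m) (C.sylow₀ P) S
  refine ⟨g, fun x => ?_⟩
  rw [Sylow.coe_subgroup_smul, C.coe_sylow₀, Subgroup.mem_pointwise_smul_iff_inv_smul_mem]
  rw [show (MulAut.conj g)⁻¹ • x = g⁻¹ * x * g by
    rw [MulAut.smul_def, ← map_inv, MulAut.conj_apply, inv_inv]]

/-- The Sylow 2-subgroups are elementary abelian of order eight. -/
theorem sylow_two (S : Sylow 2 (RG K m)) :
    Nat.card S = 8 ∧ ∀ x ∈ S, x * x = 1 := by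
  haveI : Fact (Nat.Prime 2) := ⟨Nat.prime_two⟩
  obtain ⟨P⟩ : Nonempty (Sylow 2 (P2 K)) := inferInstance
  refine ⟨?_, fun x hx => ?_⟩
  · rw [← C.card_S₀ P, ← C.coe_sylow₀ P, (C.sylow₀ P).card_eq_multiplicity]
    exact S.card_eq_multiplicity
  · obtain ⟨g, hg⟩ := C.exists_conj_sylow₀ P S
    have h := C.sq_S₀ P ((hg x).mp hx)
    have : g⁻¹ * (x * x) * g = 1 := by rw [← h]; group
    calc x * x = g * (g⁻¹ * (x * x) * g) * g⁻¹ := by group
      _ = 1 := by rw [this]; group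

theorem sylow_comm (S : Sylow 2 (RG K m)) : IsMulCommutative (S : Subgroup (RG K m)) := by
  refine ⟨⟨fun x y => Subtype.ext ?_⟩⟩
  have h := (C.sylow_two S).2
  show (x : RG K m) * y = y * x
  calc (x : RG K m) * y = ((x : RG K m) * y)⁻¹ :=
        (inv_eq_of_mul_eq_one_right (h _ (mul_mem x.2 y.2))).symm
    _ = y * x := by
      rw [_root_.mul_inv_rev, inv_eq_of_mul_eq_one_right (h _ x.2),
        inv_eq_of_mul_eq_one_right (h _ y.2)]

theorem aG_mem_S₀ (P : Sylow 2 (P2 K)) : C.aG ∈ C.S₀ P :=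
  (C.mem_S₀ P).mpr ⟨_, 1, one_mem _, C.Φc_a⟩

/-- The standard Sylow 2-subgroup is its own centraliser. -/
theorem centralizer_S₀ (P : Sylow 2 (P2 K)) :
    Subgroup.centralizer (C.S₀ P : Set (RG K m)) = C.S₀ P := by
  refine le_antisymm (fun g hg => ?_) (fun g hg => ?_)
  · obtain ⟨⟨z, x⟩, rfl⟩ := C.exists_of_commute
      (g := g) (Subgroup.mem_centralizer_iff.mp hg _ (C.aG_mem_S₀ P)).symm
    refine (C.mem_S₀ P).mpr ⟨z, x, ?_, rfl⟩
    rw [← ReePSL.centralizer_sylow C.q_mod_eight P]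
    refine Subgroup.mem_centralizer_iff.mpr fun y hy => ?_
    have h := C.Φc_inj (((map_mul C.Φc (1, y) (z, x)).trans (Subgroup.mem_centralizer_iff.mp hg _
      ((C.mem_S₀ P).mpr ⟨1, y, hy, rfl⟩))).trans (map_mul C.Φc _ _).symm)
    exact congrArg Prod.snd h
  · haveI := C.sylow_comm (C.sylow₀ P)
    refine Subgroup.mem_centralizer_iff.mpr fun y hy => ?_
    have := C.sylow_comm (C.sylow₀ P)
    exact congrArg Subtype.val (this.is_comm.comm ⟨y, (C.coe_sylow₀ P).ge hy⟩
      ⟨g, (C.coe_sylow₀ P).ge hg⟩)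

theorem centralizer_sylow (S : Sylow 2 (RG K m)) :
    Subgroup.centralizer ((S : Subgroup (RG K m)) : Set (RG K m)) = S := by
  obtain ⟨P⟩ : Nonempty (Sylow 2 (P2 K)) := inferInstance
  obtain ⟨g, hg⟩ := C.exists_conj_sylow₀ P S
  refine le_antisymm (fun x hx => (hg x).mpr ?_) (fun x hx => ?_)
  · rw [← C.centralizer_S₀ P]
    refine Subgroup.mem_centralizer_iff.mpr fun y hy => ?_
    have h1 : g * y * g⁻¹ ∈ (S : Subgroup (RG K m)) := (hg _).mpr (by
      rw [show g⁻¹ * (g * y * g⁻¹) * g = y by group]; exact hy)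
    have h2 := Subgroup.mem_centralizer_iff.mp hx _ h1
    calc y * (g⁻¹ * x * g) = g⁻¹ * (g * y * g⁻¹ * x) * g := by group
      _ = g⁻¹ * (x * (g * y * g⁻¹)) * g := by rw [h2]
      _ = _ := by group
  · exact Subgroup.mem_centralizer_iff.mpr fun y hy =>
      congrArg Subtype.val ((C.sylow_comm S).is_comm.comm ⟨y, hy⟩ ⟨x, hx⟩)

omit C in
theorem comm_top (C : Ctx K m) (hm : 1 ≤ m) : commutator (RG K m) = ⊤ := C.commutator_top hm

/-- The normaliser of the standard Sylow 2-subgroup is transitive on its involutions. -/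
theorem S₀_transitive (hm : 1 ≤ m) (P : Sylow 2 (P2 K)) {b : RG K m} (hb : b ∈ C.S₀ P)
    (hb1 : b ≠ 1) :
    ∃ n ∈ Subgroup.normalizer (C.S₀ P : Set (RG K m)), n * C.aG * n⁻¹ = b := by
  classical
  haveI : Fact (Nat.Prime 2) := ⟨Nat.prime_two⟩
  set N := Subgroup.normalizer (C.S₀ P : Set (RG K m))
  set O : Set (RG K m) := {x | ∃ n ∈ N, n * C.aG * n⁻¹ = x}
  change b ∈ O
  have hOS : ∀ x ∈ O, x ∈ C.S₀ P ∧ x ≠ 1 := by
    rintro _ ⟨n, hn, rfl⟩
    exact ⟨(Subgroup.mem_normalizer_iff.mp hn _).mp (C.aG_mem_S₀ P),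
      fun h => C.aG_ne_one (conj_eq_one_iff.mp h)⟩
  have haO : C.aG ∈ O := ⟨1, one_mem _, by simp⟩
  -- the centraliser of `a` moves the two outer triples transitively
  have hmove : ∀ z : Z2, ∀ x ∈ (P : Subgroup (P2 K)), x ≠ 1 →
      ∀ y ∈ (P : Subgroup (P2 K)), y ≠ 1 → C.Φc (z, x) ∈ O → C.Φc (z, y) ∈ O := by
    rintro z x hx hx1 y hy hy1 ⟨n, hn, e⟩
    obtain ⟨k, hk, ek⟩ := ReePSL.klein_transitive C.q_mod_eight P hx hx1 hy hy1
    have hkN : C.Φc (1, k) ∈ N := by
      refine Subgroup.mem_normalizer_fintype fun w hw => ?_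
      obtain ⟨z', x', hx', rfl⟩ := (C.mem_S₀ P).mp hw
      rw [← map_inv, ← map_mul, ← map_mul]
      refine (C.mem_S₀ P).mpr ⟨z', k * x' * k⁻¹, (Subgroup.mem_normalizer_iff.mp hk _).mp hx', ?_⟩
      simp
    refine ⟨C.Φc (1, k) * n, mul_mem hkN hn, ?_⟩
    rw [show C.Φc (1, k) * n * C.aG * (C.Φc (1, k) * n)⁻¹ =
      C.Φc (1, k) * (n * C.aG * n⁻¹) * (C.Φc (1, k))⁻¹ by group, e, ← map_inv, ← map_mul, ← map_mul]
    refine congrArg C.Φc ?_
    simp [ek]
  -- the orbit has odd size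
  have hodd : ¬ 2 ∣ O.ncard := by
    intro h2
    have hS : C.S₀ P ≤ N := Subgroup.le_normalizer
    let Cn := (Subgroup.centralizer ({C.aG} : Set (RG K m))).subgroupOf N
    have hcard : O.ncard = Cn.index := by
      rw [← Nat.card_coe_set_eq, Subgroup.index_eq_card]
      let f : N ⧸ Cn → O := Quotient.lift
        (fun n : N => (⟨(n : RG K m) * C.aG * (n : RG K m)⁻¹, n, n.2, rfl⟩ : O))
        (fun a c hac => by
          rw [← Quotient.eq_iff_equiv, QuotientGroup.eq, Subgroup.mem_subgroupOf,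
            Subgroup.mem_centralizer_singleton_iff] at hac
          simp only [Subgroup.coe_mul, Subgroup.coe_inv] at hac
          refine Subtype.ext ?_
          show (a : RG K m) * C.aG * (a : RG K m)⁻¹ = (c : RG K m) * C.aG * (c : RG K m)⁻¹
          calc (a : RG K m) * C.aG * (a : RG K m)⁻¹
              = (a : RG K m) * (C.aG * ((a : RG K m)⁻¹ * c)) * (c : RG K m)⁻¹ := by group
            _ = (a : RG K m) * ((a : RG K m)⁻¹ * c * C.aG) * (c : RG K m)⁻¹ := by rw [hac]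
            _ = _ := by group)
      refine (Nat.card_eq_of_bijective f ⟨?_, ?_⟩).symm
      · rintro ⟨a⟩ ⟨c⟩ e
        have e' : (a : RG K m) * C.aG * (a : RG K m)⁻¹ = (c : RG K m) * C.aG * (c : RG K m)⁻¹ :=
          congrArg Subtype.val e
        refine QuotientGroup.eq.mpr ?_
        rw [Subgroup.mem_subgroupOf, Subgroup.mem_centralizer_singleton_iff, Subgroup.coe_mul,
          Subgroup.coe_inv]
        calc (a : RG K m)⁻¹ * c * C.aG = (a : RG K m)⁻¹ *
              ((c : RG K m) * C.aG * (c : RG K m)⁻¹) * c := by group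
          _ = (a : RG K m)⁻¹ * ((a : RG K m) * C.aG * (a : RG K m)⁻¹) * c := by rw [e']
          _ = _ := by group
      · rintro ⟨x, n, hn, rfl⟩
        exact ⟨(⟨n, hn⟩ : N), rfl⟩
    rw [hcard] at h2
    refine C.index_S₀_odd P (h2.trans ?_)
    have hle : (C.S₀ P).subgroupOf N ≤ Cn := fun x hx => by
      refine Subgroup.mem_centralizer_singleton_iff.mpr ?_
      have := C.centralizer_S₀ P ▸ (show (x : RG K m) ∈ C.S₀ P from hx)
      exact (Subgroup.mem_centralizer_iff.mp this _ (C.aG_mem_S₀ P)).symm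
    exact (Subgroup.index_dvd_of_le hle).trans ((C.S₀ P).relIndex_dvd_index_of_le hS)
  -- the orbit is not a single point
  have hne : ∃ x ∈ O, x ≠ C.aG := by
    by_contra hc
    push Not at hc
    haveI := C.sylow_comm (C.sylow₀ P)
    have hbot := (CfsgLib.TransferBasic.focal_disjoint_sup (P := C.sylow₀ P) this).1
    have hf : ((C.sylow₀ P : Subgroup (RG K m))).focalSubgroup = C.sylow₀ P := by
      rw [← Subgroup.commutator_inf_eq_focalSubgroup, C.comm_top hm, top_inf_eq]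
    rw [hf, C.coe_sylow₀] at hbot
    refine C.aG_ne_one (Subgroup.mem_bot.mp (hbot.le (Subgroup.mem_inf.mpr
      ⟨Subgroup.mem_inf.mpr ⟨C.aG_mem_S₀ P, ?_⟩, C.aG_mem_S₀ P⟩)))
    refine Subgroup.mem_centralizer_iff.mpr fun n hn => ?_
    exact mul_inv_eq_iff_eq_mul.mp (hc _ ⟨n, hn, rfl⟩)
  -- the two possible sets of missing elements
  obtain ⟨z, x, hx, rfl⟩ := (C.mem_S₀ P).mp hb
  by_cases hx1 : x = 1
  · rcases z2_cases z with rfl | rfl
    · exact absurd (by rw [hx1]; exact map_one C.Φc) hb1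
    · rw [hx1, C.Φc_a]; exact haO
  by_contra hzx
  apply hodd
  obtain ⟨w, hw, hwa⟩ := hne
  obtain ⟨⟨hwS, hw1⟩, z', x', hx', rfl⟩ := (hOS w hw), (C.mem_S₀ P).mp (hOS w hw).1
  have hx'1 : x' ≠ 1 := fun h => by
    rcases z2_cases z' with rfl | rfl
    · exact hw1 (by rw [h]; exact map_one C.Φc)
    · exact hwa (by rw [h, C.Φc_a])
  have hzz : z' ≠ z := fun h => hzx (hmove z x' hx' hx'1 x hx hx1 (h ▸ hw))
  have hOeq : O = C.Φc '' (insert (Multiplicative.ofAdd 1, 1)
      (({z'} : Set Z2) ×ˢ (((P : Subgroup (P2 K)) : Set (P2 K)) \ {1}))) := by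
    ext v
    constructor
    · intro hv
      obtain ⟨zv, xv, hxv, rfl⟩ := (C.mem_S₀ P).mp (hOS v hv).1
      refine ⟨_, ?_, rfl⟩
      by_cases hxv1 : xv = 1
      · rcases z2_cases zv with rfl | rfl
        · exact absurd (by rw [hxv1]; exact map_one C.Φc) (hOS _ hv).2
        · exact Or.inl (by rw [hxv1])
      · refine Or.inr ⟨?_, hxv, hxv1⟩
        by_contra hcon
        have : zv = z := by
          rcases z2_cases zv with rfl | rfl <;> rcases z2_cases z with rfl | rfl <;>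
            rcases z2_cases z' with rfl | rfl <;> simp_all
        exact hzx (hmove z xv hxv hxv1 x hx hx1 (this ▸ hv))
    · rintro ⟨p, rfl | ⟨h1, h2, h3⟩, rfl⟩
      · rw [C.Φc_a]; exact haO
      · obtain ⟨pz, px⟩ := p
        obtain rfl : pz = z' := h1
        exact hmove pz x' hx' hx'1 px h2 h3 hw
  have hP4 : (((P : Subgroup (P2 K)) : Set (P2 K)) \ {1}).ncard = 3 := by
    rw [Set.ncard_sdiff_singleton_of_mem (one_mem (P : Subgroup (P2 K)))]
    rw [← Nat.card_coe_set_eq]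
    show Nat.card (P : Subgroup (P2 K)) - 1 = 3
    rw [(ReePSL.sylow_klein C.q_mod_eight P).card_four]
  rw [hOeq, Set.ncard_image_of_injective _ C.Φc_inj, Set.ncard_insert_of_notMem, Set.ncard_prod,
    Set.ncard_singleton, hP4]
  · norm_num
  · rintro ⟨-, -, h⟩
    exact h rfl

/-- All involutions are conjugate. -/
theorem isConj_aG (hm : 1 ≤ m) {g : RG K m} (hg : g * g = 1) (hg1 : g ≠ 1) :
    IsConj C.aG g := by
  haveI : Fact (Nat.Prime 2) := ⟨Nat.prime_two⟩
  obtain ⟨P⟩ : Nonempty (Sylow 2 (P2 K)) := inferInstance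
  have hp : IsPGroup 2 (Subgroup.zpowers g) := IsPGroup.of_card (n := 1) (by
    rw [Nat.card_zpowers, pow_one, orderOf_eq_prime ((pow_two g).trans hg) hg1])
  obtain ⟨S, hS⟩ := hp.exists_le_sylow
  obtain ⟨k, hk⟩ := C.exists_conj_sylow₀ P S
  have hgS := (hk g).mp (hS (Subgroup.mem_zpowers g))
  obtain ⟨n, -, e⟩ := C.S₀_transitive hm P hgS (fun h => hg1 (by
    calc g = k * (k⁻¹ * g * k) * k⁻¹ := by group
      _ = 1 := by rw [h]; group))
  exact isConj_iff.mpr ⟨k * n, by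
    rw [show k * n * C.aG * (k * n)⁻¹ = k * (n * C.aG * n⁻¹) * k⁻¹ by group, e]; group⟩

/-- The normaliser of a Sylow 2-subgroup has order 168. -/
theorem card_normalizer_sylow (hm : 1 ≤ m) (S : Sylow 2 (RG K m)) :
    Nat.card (Subgroup.normalizer ((S : Subgroup (RG K m)) : Set (RG K m))) = 168 := by
  classical
  haveI : Fact (Nat.Prime 2) := ⟨Nat.prime_two⟩
  obtain ⟨P⟩ : Nonempty (Sylow 2 (P2 K)) := inferInstance
  rw [show Nat.card (Subgroup.normalizer ((S : Subgroup (RG K m)) : Set (RG K m))) =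
    Nat.card (Subgroup.normalizer ((C.sylow₀ P : Subgroup (RG K m)) : Set (RG K m))) by
    obtain ⟨g, rfl⟩ := MulAction.exists_smul_eq (RG K m) (C.sylow₀ P) S
    refine Nat.eq_of_mul_eq_mul_right (Nat.pos_of_ne_zero (Subgroup.index_ne_zero_of_finite
      (H := Subgroup.normalizer ((C.sylow₀ P : Subgroup (RG K m)) : Set (RG K m))))) ?_
    rw [Subgroup.card_mul_index,
      show (Subgroup.normalizer ((C.sylow₀ P : Subgroup (RG K m)) : Set (RG K m))).index =
        (Subgroup.normalizer (((g • C.sylow₀ P : Sylow 2 (RG K m)) : Subgroup (RG K m)) :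
          Set (RG K m))).index from
        (C.sylow₀ P).card_eq_index_normalizer.symm.trans (g • C.sylow₀ P).card_eq_index_normalizer,
      Subgroup.card_mul_index],
    C.coe_sylow₀]
  set N := Subgroup.normalizer (C.S₀ P : Set (RG K m))
  let Cn := (Subgroup.centralizer ({C.aG} : Set (RG K m))).subgroupOf N
  have hidx : Cn.index = 7 := by
    let O : Set (RG K m) := ((C.S₀ P : Set (RG K m)) \ {1})
    let f : N ⧸ Cn → O := Quotient.lift
      (fun n : N => (⟨(n : RG K m) * C.aG * (n : RG K m)⁻¹,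
        (Subgroup.mem_normalizer_iff.mp n.2 _).mp (C.aG_mem_S₀ P),
        fun h => C.aG_ne_one (conj_eq_one_iff.mp h)⟩ : O))
      (fun a c hac => by
        rw [← Quotient.eq_iff_equiv, QuotientGroup.eq, Subgroup.mem_subgroupOf,
          Subgroup.mem_centralizer_singleton_iff] at hac
        simp only [Subgroup.coe_mul, Subgroup.coe_inv] at hac
        refine Subtype.ext ?_
        show (a : RG K m) * C.aG * (a : RG K m)⁻¹ = (c : RG K m) * C.aG * (c : RG K m)⁻¹
        calc (a : RG K m) * C.aG * (a : RG K m)⁻¹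
            = (a : RG K m) * (C.aG * ((a : RG K m)⁻¹ * c)) * (c : RG K m)⁻¹ := by group
          _ = (a : RG K m) * ((a : RG K m)⁻¹ * c * C.aG) * (c : RG K m)⁻¹ := by rw [hac]
          _ = _ := by group)
    rw [Subgroup.index_eq_card, Nat.card_eq_of_bijective f ⟨?_, ?_⟩, Nat.card_coe_set_eq,
      Set.ncard_sdiff_singleton_of_mem (one_mem (C.S₀ P)), ← Nat.card_coe_set_eq]
    · show Nat.card (C.S₀ P) - 1 = 7
      rw [C.card_S₀]
    · rintro ⟨a⟩ ⟨c⟩ e
      have e' : (a : RG K m) * C.aG * (a : RG K m)⁻¹ = (c : RG K m) * C.aG * (c : RG K m)⁻¹ :=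
        congrArg Subtype.val e
      refine QuotientGroup.eq.mpr ?_
      rw [Subgroup.mem_subgroupOf, Subgroup.mem_centralizer_singleton_iff, Subgroup.coe_mul,
        Subgroup.coe_inv]
      calc (a : RG K m)⁻¹ * c * C.aG = (a : RG K m)⁻¹ *
            ((c : RG K m) * C.aG * (c : RG K m)⁻¹) * c := by group
        _ = (a : RG K m)⁻¹ * ((a : RG K m) * C.aG * (a : RG K m)⁻¹) * c := by rw [e']
        _ = _ := by group
    · rintro ⟨x, hx, hx1⟩
      obtain ⟨n, hn, e⟩ := C.S₀_transitive hm P hx hx1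
      exact ⟨(⟨n, hn⟩ : N), Subtype.ext e⟩
  have hCn : Nat.card Cn = 24 := by
    let NP := Subgroup.normalizer ((P : Subgroup (P2 K)) : Set (P2 K))
    have hmap : ((⊤ : Subgroup Z2).prod NP).map C.Φc =
        Subgroup.centralizer ({C.aG} : Set (RG K m)) ⊓ N := by
      ext g
      constructor
      · rintro ⟨⟨z, x⟩, ⟨-, hx⟩, rfl⟩
        refine Subgroup.mem_inf.mpr ⟨C.Φc_range.le ⟨_, rfl⟩, ?_⟩
        refine Subgroup.mem_normalizer_fintype fun w hw => ?_
        obtain ⟨z', x', hx', rfl⟩ := (C.mem_S₀ P).mp hw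
        rw [← map_inv, ← map_mul, ← map_mul]
        exact (C.mem_S₀ P).mpr ⟨z * z' * z⁻¹, x * x' * x⁻¹,
          (Subgroup.mem_normalizer_iff.mp hx _).mp hx', rfl⟩
      · rintro ⟨hgc, hgN⟩
        obtain ⟨⟨z, x⟩, rfl⟩ := C.exists_of_commute (g := g)
          (Subgroup.mem_centralizer_singleton_iff.mp hgc)
        refine ⟨(z, x), ⟨Subgroup.mem_top _, Subgroup.mem_normalizer_fintype fun w hw => ?_⟩, rfl⟩
        have h1 := (Subgroup.mem_normalizer_iff.mp hgN _).mp ((C.mem_S₀ P).mpr ⟨1, w, hw, rfl⟩)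
        rw [← map_inv, ← map_mul, ← map_mul] at h1
        obtain ⟨z', x', hx', e⟩ := (C.mem_S₀ P).mp h1
        rw [show x' = x * w * x⁻¹ from congrArg Prod.snd (C.Φc_inj e)] at hx'
        exact hx'
    rw [show Nat.card Cn =
      Nat.card (Subgroup.centralizer ({C.aG} : Set (RG K m)) ⊓ N : Subgroup (RG K m)) from
        Nat.card_congr ((MulEquiv.subgroupCongr (Subgroup.inf_subgroupOf_right
          (Subgroup.centralizer ({C.aG} : Set (RG K m))) N).symm).trans
          (Subgroup.subgroupOfEquivOfLe inf_le_right)).toEquiv,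
      ← hmap, Subgroup.card_map_of_injective C.Φc_inj,
      Nat.card_congr (Subgroup.prodEquiv _ _).toEquiv, Nat.card_prod, Subgroup.card_top,
      ReePSL.card_normalizer C.q_mod_eight P, Nat.card_congr Multiplicative.toAdd, Nat.card_zmod]
  rw [← Cn.card_mul_index, hidx, hCn]

end Ctx

end CfsgLib.Chev.G2Tw
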