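import Cfsg.Agent.Chev.ReeGen
import Cfsg.Agent.Solvable.Basics
import Cfsg.Agent.Kinf.QdRankTwoApps
import Mathlib.GroupTheory.Transfer

/-!
The smallest Ree group: its derived subgroup is simple of order 504.
-/

set_option autoImplicit false
set_option linter.style.haveILetI false
set_option linter.unusedSectionVars false

namespace CfsgLib.Chev.G2Tw.Three

open Cfsg.Lie

theorem psi_add : ∀ t u t' u' : ZMod 3,
    -(t' ^ (3 * 3 ^ 0) * t) + u + u' - (t + t') ^ 2 = u - t ^ 2 + (u' - t' ^ 2) := by decide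

theorem psi_neg : ∀ t' : ZMod 3, (-t') ^ 2 = t' ^ 2 := by decide

theorem units_cases : ∀ s : (ZMod 3)ˣ, s = 1 ∨ s = -1 := by decide

theorem units_sq : ∀ s : (ZMod 3)ˣ, s ^ 2 = 1 := by decide

variable (C : Ctx (ZMod 3) 0)
include C

theorem card_group : Nat.card (RG (ZMod 3) 0) = 1512 := by rw [C.card_RG]; norm_num

theorem card_B : Nat.card C.BG = 54 := by rw [C.card_BG]; norm_num

theorem big (g : RG (ZMod 3) 0) (hg : g ∉ C.BG) : ∃ b ∈ C.BG, ∃ b' ∈ C.BG, g = b * C.nG * b' := by
  rcases C.cases g with ⟨u, hu, s, rfl⟩ | ⟨u, hu, s, v, hv, e⟩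
  · exact absurd (C.mem_BG_iff.mpr ⟨u, hu, s, rfl⟩) hg
  · exact ⟨u * C.tG s, C.mem_BG_iff.mpr ⟨u, hu, s, rfl⟩, v, C.UG_le_BG hv, e⟩

theorem eq_bot_of_le_borel (N : Subgroup (RG (ZMod 3) 0)) [hN : N.Normal] (h : N ≤ C.BG) : N = ⊥ := by
  refine (Subgroup.eq_bot_iff_forall N).mpr fun f hf => ?_
  obtain ⟨u, hu, s, rfl⟩ := C.mem_BG_iff.mp (h hf)
  have hc : C.nG * u * C.nG⁻¹ ∈ C.BG := by
    have h1 := mul_mem (h (hN.conj_mem _ hf C.nG)) (inv_mem (C.tG_mem_BG s⁻¹))
    rwa [show C.nG * (u * C.tG s) * C.nG⁻¹ = C.nG * u * C.nG⁻¹ * (C.nG * C.tG s * C.nG⁻¹) by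
      group, C.nG_conj, mul_inv_cancel_right] at h1
  have hu1 := C.conj_nG_BG hu hc
  subst hu1
  rcases units_cases s with rfl | rfl
  · simp
  · exfalso
    rw [one_mul] at hf
    have h2 : C.nG * (C.uG 1 0 0 * C.tG (-1) * (C.uG 1 0 0)⁻¹) * C.nG⁻¹ ∈ C.BG :=
      h (hN.conj_mem _ (hN.conj_mem _ hf _) C.nG)
    have e : C.uG 1 0 0 * C.tG (-1) * (C.uG 1 0 0)⁻¹ =
        C.uG 1 0 0 * (C.uG (-1) 0 (-0))⁻¹ * C.tG (-1) := by
      rw [← C.aG_conj_uG 1 0 0]
      simp only [Ctx.aG]
      group
    set w := C.uG 1 0 0 * (C.uG (-1) 0 (-0))⁻¹ with hw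
    rw [e, show C.nG * (w * C.tG (-1)) * C.nG⁻¹ = C.nG * w * C.nG⁻¹ * (C.nG * C.tG (-1) * C.nG⁻¹) by
      group, C.nG_conj] at h2
    have h3 := mul_mem h2 (inv_mem (C.tG_mem_BG (-1)⁻¹))
    rw [mul_inv_cancel_right] at h3
    have h4 := C.conj_nG_BG (mul_mem (C.uG_mem _ _ _) (inv_mem (C.uG_mem _ _ _))) h3
    have h5 := (C.uG_inj (mul_inv_eq_one.mp h4)).1
    exact absurd h5 (by decide)

theorem dvd_card (N : Subgroup (RG (ZMod 3) 0)) [hN : N.Normal] (h : N ≠ ⊥) : 28 ∣ Nat.card N := by
  have hB : ¬ N ≤ C.BG := fun hle => h (eq_bot_of_le_borel C N hle)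
  obtain ⟨g, hg, hgB⟩ := SetLike.not_le_iff_exists.mp hB
  obtain ⟨b, hb, b', hb', e⟩ := big C g hgB
  have hn : C.nG * (b' * b) ∈ N := by
    have := hN.conj_mem _ hg b⁻¹
    rwa [e, show b⁻¹ * (b * C.nG * b') * b⁻¹⁻¹ = C.nG * (b' * b) by group] at this
  let q : C.BG →* RG (ZMod 3) 0 ⧸ N := (QuotientGroup.mk' N).comp C.BG.subtype
  have hq : Function.Surjective q := by
    intro x
    obtain ⟨x, rfl⟩ := QuotientGroup.mk'_surjective N x
    by_cases hx : x ∈ C.BG
    · exact ⟨⟨x, hx⟩, rfl⟩
    · obtain ⟨c, hc, c', hc', rfl⟩ := big C x hx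
      refine ⟨⟨c * ((b' * b)⁻¹ * c'), mul_mem hc (mul_mem (inv_mem (mul_mem hb' hb)) hc')⟩, ?_⟩
      refine QuotientGroup.eq.mpr ?_
      show (c * ((b' * b)⁻¹ * c'))⁻¹ * (c * C.nG * c') ∈ N
      rw [show (c * ((b' * b)⁻¹ * c'))⁻¹ * (c * C.nG * c') =
        c'⁻¹ * (b' * b) * (C.nG * (b' * b)) * (c'⁻¹ * (b' * b))⁻¹ by group]
      exact hN.conj_mem _ hn _
  have hidx : N.index ∣ 54 := card_B C ▸ Subgroup.card_dvd_of_surjective q hq
  obtain ⟨d, hd⟩ := hidx
  have hmul := N.card_mul_index
  rw [card_group C] at hmul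
  exact ⟨d, Nat.eq_of_mul_eq_mul_right
    (Nat.pos_of_ne_zero (Subgroup.index_ne_zero_of_finite (H := N))) (by rw [hmul]; linarith)⟩

theorem coords (b : C.BG) : ∃ p : ZMod 3 × ZMod 3 × ZMod 3 × (ZMod 3)ˣ,
    (b : RG (ZMod 3) 0) = C.uG p.1 p.2.1 p.2.2.1 * C.tG p.2.2.2 := by
  obtain ⟨u, hu, s, e⟩ := C.mem_BG_iff.mp b.2
  obtain ⟨t, a, v, rfl⟩ := C.mem_UG.mp hu
  exact ⟨(t, a, v, s), e⟩

/-- The linear character of the Borel subgroup. -/
noncomputable def phi : C.BG →* Multiplicative (ZMod 3) :=
  MonoidHom.mk' (fun b => Multiplicative.ofAdd ((coords C b).choose.2.1 - (coords C b).choose.1 ^ 2))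
    fun b b' => by
      obtain h := (coords C b).choose_spec
      obtain h' := (coords C b').choose_spec
      obtain h'' := (coords C (b * b')).choose_spec
      set p := (coords C b).choose with hp
      set p' := (coords C b').choose with hp'
      set p'' := (coords C (b * b')).choose with hp''
      obtain ⟨t, u, v, s⟩ := p
      obtain ⟨t', u', v', s'⟩ := p'
      obtain ⟨t'', u'', v'', s''⟩ := p''
      rw [Subgroup.coe_mul, h, h'] at h''
      simp only at h''
      obtain ⟨t₁, v₁, ht, hc⟩ : ∃ t₁ v₁, t₁ ^ 2 = t' ^ 2 ∧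
          C.tG s * C.uG t' u' v' * (C.tG s)⁻¹ = C.uG t₁ u' v₁ := by
        rcases units_cases s with rfl | rfl
        · exact ⟨t', v', rfl, by simp⟩
        · exact ⟨-t', -v', psi_neg t', C.aG_conj_uG t' u' v'⟩
      obtain ⟨w, hw, -⟩ := C.uG_mul t u v t₁ u' v₁
      rw [show C.uG t u v * C.tG s * (C.uG t' u' v' * C.tG s') =
        C.uG t u v * (C.tG s * C.uG t' u' v' * (C.tG s)⁻¹) * (C.tG s * C.tG s') by group, hc, hw,
        ← map_mul] at h''
      obtain ⟨e, -⟩ := C.uh_unique (C.uG_mem _ _ _) (C.uG_mem _ _ _) h''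
      obtain ⟨e1, e2, -⟩ := C.uG_inj e
      rw [← ofAdd_add, Multiplicative.ofAdd.apply_eq_iff_eq]
      simp only
      rw [← e1, ← e2, psi_add, ht]

theorem phi_apply {t u v : ZMod 3} {s : (ZMod 3)ˣ} (b : C.BG)
    (h : (b : RG (ZMod 3) 0) = C.uG t u v * C.tG s) :
    phi C b = Multiplicative.ofAdd (u - t ^ 2) := by
  have e := h.symm.trans (coords C b).choose_spec
  obtain ⟨e1, -⟩ := C.uh_unique (C.uG_mem _ _ _) (C.uG_mem _ _ _) e
  obtain ⟨h1, h2, -⟩ := C.uG_inj e1
  show Multiplicative.ofAdd ((coords C b).choose.2.1 - (coords C b).choose.1 ^ 2) = _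
  rw [← h1, ← h2]

theorem x_cube : C.uG 0 1 0 ^ 3 = 1 := by
  obtain ⟨w, hw, h1, -⟩ := C.uG_mul 0 1 0 0 1 0
  rw [h1 rfl] at hw
  obtain ⟨w', hw', h2, -⟩ := C.uG_mul (0 + 0) (-(0 ^ (3 * 3 ^ 0) * 0) + 1 + 1) (0 - 0 * 1 + 0) 0 1 0
  rw [h2 (by simp)] at hw'
  rw [pow_succ, pow_two, hw, hw', ← C.uG_zero]
  congr 1

theorem fixed_imp (g : RG (ZMod 3) 0) (h : g⁻¹ * C.uG 0 1 0 * g ∈ C.BG) : g ∈ C.BG := by
  set y := g⁻¹ * C.uG 0 1 0 * g with hy
  have hy3 : y ^ 3 = 1 := by
    rw [hy, show g⁻¹ * C.uG 0 1 0 * g = g⁻¹ * C.uG 0 1 0 * g⁻¹⁻¹ by group, conj_pow, x_cube C]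
    group
  have hyU : y ∈ C.UG := by
    obtain ⟨u, hu, s, e⟩ := C.mem_BG_iff.mp h
    have h2 : y ^ 2 ∈ C.UG := by
      rw [e, show (u * C.tG s) ^ 2 = u * (C.tG s * u * (C.tG s)⁻¹) * (C.tG s * C.tG s) by
        rw [pow_two]; group, ← map_mul, ← pow_two, units_sq, map_one, mul_one]
      exact mul_mem hu (C.tG_conj_UG s hu)
    have h4 : y = y ^ 2 * y ^ 2 := by
      rw [← pow_add, show (2 + 2) = 3 + 1 from rfl, pow_add, hy3, one_mul, pow_one]
    rw [h4]
    exact mul_mem h2 h2
  have hx : C.uG 0 1 0 ≠ 1 := by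
    rw [← C.uG_zero]
    intro e
    exact one_ne_zero (C.uG_inj e).2.1
  have := C.mem_BG_of_conj (g := g⁻¹) (C.uG_mem 0 1 0) hx (by
    rw [inv_inv]; exact hyU)
  simpa using inv_mem this

theorem transfer_x :
    MonoidHom.transfer (phi C) (C.uG 0 1 0) = Multiplicative.ofAdd (1 : ZMod 3) := by
  classical
  set x := C.uG 0 1 0 with hx
  have hxB : x ∈ C.BG := C.UG_le_BG (C.uG_mem _ _ _)
  letI := Fintype.ofFinite
    (Quotient (MulAction.orbitRel (Subgroup.zpowers x) (RG (ZMod 3) 0 ⧸ C.BG)))
  rw [MonoidHom.transfer_eq_prod_quotient_orbitRel_zpowers_quot]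
  have hfix : ∀ q : RG (ZMod 3) 0 ⧸ C.BG, x • q = q → q = ((1 : RG (ZMod 3) 0) : _ ⧸ C.BG) := by
    intro q hq
    obtain ⟨g, rfl⟩ := QuotientGroup.mk_surjective q
    rw [MulAction.Quotient.smul_coe, smul_eq_mul, eq_comm, QuotientGroup.eq, ← mul_assoc] at hq
    exact (QuotientGroup.eq.mpr (by rw [inv_one, one_mul]; exact fixed_imp C g hq)).symm
  have hbase : x • ((1 : RG (ZMod 3) 0) : _ ⧸ C.BG) = ((1 : RG (ZMod 3) 0) : _ ⧸ C.BG) := by
    rw [MulAction.Quotient.smul_coe, smul_eq_mul, QuotientGroup.eq]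
    simpa using inv_mem hxB
  set q0 : Quotient (MulAction.orbitRel (Subgroup.zpowers x) (RG (ZMod 3) 0 ⧸ C.BG)) :=
    Quotient.mk'' ((1 : RG (ZMod 3) 0) : _ ⧸ C.BG) with hq0
  have hout : q0.out = ((1 : RG (ZMod 3) 0) : _ ⧸ C.BG) := by
    obtain ⟨⟨z, hz⟩, e⟩ := MulAction.orbitRel_apply.mp
      (Quotient.exact' (Quotient.out_eq' q0) :
        (MulAction.orbitRel (Subgroup.zpowers x) (RG (ZMod 3) 0 ⧸ C.BG)).r q0.out
          ((1 : RG (ZMod 3) 0) : _ ⧸ C.BG))
    rw [← e]
    exact ((Subgroup.zpowers_le.mpr (show x ∈ MulAction.stabilizer (RG (ZMod 3) 0)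
      ((1 : RG (ZMod 3) 0) : _ ⧸ C.BG) from hbase)) hz)
  rw [Finset.prod_eq_single q0]
  · have hper : Function.minimalPeriod (x • ·) q0.out = 1 := by
      rw [hout]; exact Function.minimalPeriod_eq_one_iff_isFixedPt.mpr hbase
    have hg : q0.out.out ∈ C.BG := by
      have e : ((q0.out.out : RG (ZMod 3) 0) : _ ⧸ C.BG) = ((1 : RG (ZMod 3) 0) : _ ⧸ C.BG) :=
        (QuotientGroup.out_eq' q0.out).trans hout
      simpa using inv_mem (QuotientGroup.eq.mp e)
    have e : (⟨q0.out.out⁻¹ * x ^ Function.minimalPeriod (x • ·) q0.out * q0.out.out,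
        QuotientGroup.out_conj_pow_minimalPeriod_mem C.BG x q0.out⟩ : C.BG) =
        ⟨q0.out.out, hg⟩⁻¹ * ⟨x, hxB⟩ * ⟨q0.out.out, hg⟩ := Subtype.ext (by
      simp only [hper, pow_one, Subgroup.coe_mul, InvMemClass.coe_inv])
    rw [e, map_mul, map_mul, map_inv, inv_mul_cancel_comm,
      phi_apply C ⟨x, hxB⟩ (t := 0) (u := 1) (v := 0) (s := 1) (by simp [hx])]
    simp
  · intro q _ hq
    have hper : Function.minimalPeriod (x • ·) q.out = 3 := by
      haveI := Fact.mk (show Nat.Prime 3 by norm_num)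
      refine Function.minimalPeriod_eq_prime ?_ ?_
      · show (fun y => x • y)^[3] q.out = q.out
        rw [smul_iterate, show x ^ 3 = 1 from x_cube C]
        exact one_smul _ _
      · intro hf
        apply hq
        rw [← Quotient.out_eq' q, hq0, hfix _ hf]
    have e : (⟨q.out.out⁻¹ * x ^ Function.minimalPeriod (x • ·) q.out * q.out.out,
        QuotientGroup.out_conj_pow_minimalPeriod_mem C.BG x q.out⟩ : C.BG) = 1 := Subtype.ext (by
      simp only [hper, show x ^ 3 = 1 from x_cube C, mul_one, inv_mul_cancel, Subgroup.coe_one])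
    rw [e, map_one]
  · intro h; exact absurd (Finset.mem_univ _) h

/-- The kernel of the transfer. -/
noncomputable def derived : Subgroup (RG (ZMod 3) 0) := (MonoidHom.transfer (phi C)).ker

theorem card_derived : Nat.card (derived C) = 504 := by
  have hsurj : Function.Surjective (MonoidHom.transfer (phi C)) := by
    intro z
    refine ⟨C.uG 0 1 0 ^ (Multiplicative.toAdd z).val, ?_⟩
    rw [map_pow, transfer_x C]
    revert z
    decide
  have h := (derived C).card_mul_index
  rw [derived, Subgroup.index_ker, MonoidHom.range_eq_top.mpr hsurj, Subgroup.card_top,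
    card_group C, show Nat.card (Multiplicative (ZMod 3)) = 3 from Nat.card_zmod 3] at h
  unfold derived
  omega

theorem index_eq : (derived C).index = 3 := by
  have h := (derived C).card_mul_index
  rw [card_derived C, card_group C] at h
  omega

instance derived_normal : (derived C).Normal := MonoidHom.normal_ker _

/-- A characteristic subgroup of the kernel of order prime to seven is trivial. -/
theorem char_bot (L : Subgroup (derived C)) [L.Characteristic] (h : ¬ 7 ∣ Nat.card L) : L = ⊥ := by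
  haveI : (L.map (derived C).subtype).Normal := ConjAct.normal_of_characteristic_of_normal
  by_contra hL
  have h28 := dvd_card C (L.map (derived C).subtype)
    (fun e => hL ((Subgroup.map_eq_bot_iff_of_injective _ (derived C).subtype_injective).mp e))
  rw [Subgroup.card_subtype] at h28
  exact h ((show 7 ∣ 28 by norm_num).trans h28)

instance : Fact (Nat.Prime 7) := ⟨by norm_num⟩

theorem card_sylow_seven (P : Sylow 7 (derived C)) : Nat.card P = 7 := by
  rw [P.card_eq_multiplicity, card_derived C, show (504 : ℕ) = 7 * 72 by norm_num,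
    Nat.factorization_mul (by norm_num) (by norm_num), Finsupp.add_apply,
    Nat.Prime.factorization_self (by norm_num), Nat.factorization_eq_zero_of_not_dvd (by norm_num)]
  norm_num

theorem index_normalizer (P : Sylow 7 (derived C)) :
    (Subgroup.normalizer (P : Set (derived C))).index = 36 := by
  have hidx : (P : Subgroup (derived C)).index = 72 := by
    have h := (P : Subgroup (derived C)).card_mul_index
    rw [card_sylow_seven C P, card_derived C] at h
    omega
  have hn := Sylow.card_dvd_index P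
  rw [hidx] at hn
  have hmod : Nat.card (Sylow 7 (derived C)) ≡ 1 [MOD 7] := card_sylow_modEq_one 7 _
  have hcases : Nat.card (Sylow 7 (derived C)) = 1 ∨ Nat.card (Sylow 7 (derived C)) = 8 ∨
      Nat.card (Sylow 7 (derived C)) = 36 := by
    have hle := Nat.le_of_dvd (by norm_num) hn
    generalize Nat.card (Sylow 7 (derived C)) = n at hn hmod hle ⊢
    revert hn hmod
    revert n
    unfold Nat.ModEq
    decide +kernel
  have hone : Nat.card (Sylow 7 (derived C)) ≠ 1 := by
    intro h1
    haveI : Subsingleton (Sylow 7 (derived C)) :=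
      (Nat.card_eq_one_iff_unique.mp h1).1
    haveI : (P : Subgroup (derived C)).Characteristic :=
      Sylow.characteristic_of_subsingleton P
    haveI : ((P : Subgroup (derived C)).map (derived C).subtype).Normal :=
      ConjAct.normal_of_characteristic_of_normal
    have h28 := dvd_card C ((P : Subgroup (derived C)).map (derived C).subtype) (fun e => by
      have h7 := card_sylow_seven C P
      rw [Subgroup.map_eq_bot_iff_of_injective _ (derived C).subtype_injective] at e
      rw [e, Subgroup.card_bot] at h7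
      norm_num at h7)
    rw [Subgroup.card_subtype, card_sylow_seven C P] at h28
    norm_num at h28
  rcases hcases with h1 | h8 | h36
  · exact absurd h1 hone
  · exfalso
    let act : RG (ZMod 3) 0 →* Equiv.Perm (Sylow 7 (derived C)) :=
      (MulAction.toPermHom (MulAut (derived C)) (Sylow 7 (derived C))).comp MulAut.conjNormal
    have hker : act.ker ≠ ⊥ := by
      intro e
      have hd := Subgroup.card_dvd_of_injective act (act.ker_eq_bot_iff.mp e)
      rw [card_group C, Nat.card_perm, h8] at hd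
      revert hd
      decide +kernel
    have h7 : 7 ∣ Nat.card (act.ker ⊓ derived C : Subgroup (RG (ZMod 3) 0)) := by
      have h28 : 28 ∣ Nat.card act.ker := dvd_card C act.ker hker
      have hmul := Subgroup.card_mul_index ((act.ker ⊓ derived C).subgroupOf act.ker)
      rw [Nat.card_congr (Subgroup.subgroupOfEquivOfLe inf_le_left).toEquiv] at hmul
      have hd : ((act.ker ⊓ derived C).subgroupOf act.ker).index ∣ 3 := by
        rw [show ((act.ker ⊓ derived C).subgroupOf act.ker).index =
          (derived C).relIndex act.ker from Subgroup.inf_relIndex_left _ _]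
        have := Subgroup.relIndex_dvd_index_of_normal (derived C) act.ker
        rwa [index_eq C] at this
      have := (show 7 ∣ 28 by norm_num).trans h28
      rw [← hmul] at this
      refine ((Nat.Prime.dvd_mul (by norm_num)).mp this).resolve_right fun h => ?_
      exact absurd (h.trans hd) (by norm_num)
    obtain ⟨y, hy⟩ := exists_prime_orderOf_dvd_card' 7 h7
    have hyK : (y : RG (ZMod 3) 0) ∈ derived C := y.2.2
    set z : derived C := ⟨y, hyK⟩
    have hz : orderOf z = 7 := by
      rw [← Subgroup.orderOf_coe, show (z : RG (ZMod 3) 0) = y from rfl, Subgroup.orderOf_coe, hy]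
    have hfix : ∀ Q : Sylow 7 (derived C), z ∈ (Q : Subgroup (derived C)) := by
      intro Q
      have h1 : (MulAut.conjNormal (y : RG (ZMod 3) 0) : MulAut (derived C)) • Q = Q :=
        DFunLike.congr_fun (MonoidHom.mem_ker.mp y.2.1) Q
      have h2 : z • Q = Q := by
        have e : (MulAut.conjNormal (y : RG (ZMod 3) 0) : MulAut (derived C)) = MulAut.conj z :=
          MulEquiv.ext fun w => Subtype.ext (by simp [z])
        rw [e] at h1
        exact h1
      have h3 : z ∈ Subgroup.zpowers z ⊓ Subgroup.normalizer (Q : Set (derived C)) :=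
        ⟨Subgroup.mem_zpowers z, Sylow.smul_eq_iff_mem_normalizer.mp h2⟩
      rw [(IsPGroup.of_card (n := 1) (by rw [Nat.card_zpowers, hz, pow_one]) :
        IsPGroup 7 (Subgroup.zpowers z)).inf_normalizer_sylow Q] at h3
      exact h3.2
    have huniq : ∀ Q : Sylow 7 (derived C), (Q : Subgroup (derived C)) = Subgroup.zpowers z :=
      fun Q => (Subgroup.eq_of_le_of_card_ge (Subgroup.zpowers_le.mpr (hfix Q))
        (by rw [card_sylow_seven C Q, Nat.card_zpowers, hz])).symm
    haveI : Subsingleton (Sylow 7 (derived C)) :=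
      ⟨fun Q R => Sylow.ext ((huniq Q).trans (huniq R).symm)⟩
    exact hone (Nat.card_eq_one_iff_unique.mpr ⟨inferInstance, inferInstance⟩)
  · rw [← h36, Sylow.card_eq_index_normalizer]

theorem normalizer_sup {M : Subgroup (derived C)} [M.Normal] (hM : M ≠ ⊥) :
    7 ∣ Nat.card M ∧ M.index ∣ 2 := by
  have h7 : 7 ∣ Nat.card M := by
    by_contra h
    haveI := CfsgLib.QdRankTwo.characteristic_pPrimeCore (p := 7) (G := derived C)
    have hc := CfsgLib.Solvable.coprime_card_pPrimeCore (G := derived C) 7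
    have hbot := char_bot C (Cfsg.pPrimeCore 7 (derived C))
      fun hd => by
        have := Nat.dvd_gcd hd (dvd_refl 7)
        rw [hc] at this
        norm_num at this
    exact hM (le_bot_iff.mp (hbot ▸ CfsgLib.Solvable.le_pPrimeCore 7 inferInstance
      ((Nat.Prime.coprime_iff_not_dvd (by norm_num)).mpr h).symm))
  refine ⟨h7, ?_⟩
  obtain ⟨P⟩ : Nonempty (Sylow 7 M) := inferInstance
  have hsup := Sylow.normalizer_sup_eq_top P
  have hcardP : Nat.card ((P : Subgroup M).map M.subtype) = 7 := by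
    obtain ⟨Q, hQ⟩ := (P.2.map M.subtype).exists_le_sylow
    have hle : Nat.card ((P : Subgroup M).map M.subtype) ∣ 7 := by
      have := Subgroup.card_dvd_of_le hQ
      rwa [card_sylow_seven C Q] at this
    rw [Subgroup.card_subtype] at hle ⊢
    exact ((Nat.dvd_prime (by norm_num)).mp hle).resolve_left fun h1 => by
      have h2 := P.card_eq_multiplicity
      rw [h1] at h2
      have h3 : 0 < (Nat.card M).factorization 7 :=
        (show Nat.Prime 7 by norm_num).factorization_pos_of_dvd Nat.card_pos.ne' h7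
      exact absurd h2.symm (Nat.one_lt_pow h3.ne' (by norm_num)).ne'
  set N := Subgroup.normalizer (((P : Subgroup M).map M.subtype : Subgroup (derived C)) :
    Set (derived C)) with hN
  have hidx : M.index ∣ Nat.card N := by
    let q : N →* derived C ⧸ M := (QuotientGroup.mk' M).comp N.subtype
    refine Subgroup.card_dvd_of_surjective q fun x => ?_
    obtain ⟨x, rfl⟩ := QuotientGroup.mk'_surjective M x
    obtain ⟨a, ha, b, hb, e⟩ := Subgroup.mem_sup_of_normal_right.mp
      (hsup.symm ▸ Subgroup.mem_top x : x ∈ N ⊔ M)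
    refine ⟨⟨a, ha⟩, QuotientGroup.eq.mpr ?_⟩
    show a⁻¹ * x ∈ M
    rw [← e, inv_mul_cancel_left]
    exact hb
  have hN14 : Nat.card N = 14 := by
    obtain ⟨Q, hQ⟩ := (P.2.map M.subtype).exists_le_sylow
    have heq : (P : Subgroup M).map M.subtype = Q :=
      Subgroup.eq_of_le_of_card_ge hQ (by rw [hcardP, card_sylow_seven C Q])
    have h := (Subgroup.normalizer (Q : Set (derived C))).card_mul_index
    rw [index_normalizer C Q, card_derived C] at h
    rw [show N = Subgroup.normalizer (Q : Set (derived C)) by rw [hN, heq]; rfl]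
    omega
  have hmul := M.card_mul_index
  rw [card_derived C] at hmul
  obtain ⟨c, hc⟩ := h7
  have h72 : M.index ∣ 72 := ⟨c, by rw [hc] at hmul; linarith⟩
  exact (Nat.dvd_gcd (hN14 ▸ hidx) h72).trans (by norm_num)

theorem no_index_two {M : Subgroup (derived C)} [M.Normal] (hM : M.index = 2) : False := by
  classical
  -- it contains the characteristic subgroup generated by the squares
  set L : Subgroup (derived C) := Subgroup.closure (Set.range fun g => g ^ 2) with hL
  haveI hLc : L.Characteristic := Subgroup.characteristic_iff_map_le.mpr fun φ => by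
    rw [hL, MonoidHom.map_closure, Subgroup.closure_le]
    rintro _ ⟨_, ⟨g, rfl⟩, rfl⟩
    exact Subgroup.subset_closure ⟨φ g, (map_pow φ g 2).symm⟩
  have hLM : L ≤ M := (Subgroup.closure_le _).mpr fun _ ⟨g, e⟩ =>
    e ▸ Subgroup.sq_mem_of_index_two hM g
  have hLbot : L ≠ ⊥ := by
    intro e
    obtain ⟨P⟩ : Nonempty (Sylow 7 (derived C)) := inferInstance
    obtain ⟨g, hg⟩ := exists_prime_orderOf_dvd_card' (G := (P : Subgroup (derived C))) 7
      (by rw [card_sylow_seven C P])
    have h2 : g ^ 2 = 1 := Subtype.ext (Subgroup.mem_bot.mp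
      (e ▸ (Subgroup.subset_closure ⟨(g : derived C), rfl⟩ : (g : derived C) ^ 2 ∈ L)))
    have := orderOf_dvd_of_pow_eq_one h2
    rw [hg] at this
    norm_num at this
  obtain ⟨h7, hLi⟩ := normalizer_sup C hLbot
  have hLeq : L = M := by
    refine hLM.eq_or_lt.resolve_right fun hlt => ?_
    have h1 := CfsgLib.Solvable.card_lt_of_lt hlt
    have h2 := L.card_mul_index
    have h3 := M.card_mul_index
    have h4 := Nat.le_of_dvd (by norm_num) hLi
    have h5 : L.index ≠ 0 := Subgroup.index_ne_zero_of_finite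
    rw [hM] at h3
    rw [← h3] at h2
    have : L.index = 1 ∨ L.index = 2 := by omega
    rcases this with h | h <;> rw [h] at h2 <;> omega
  subst hLeq
  -- Burnside's transfer gives a normal complement
  obtain ⟨P⟩ : Nonempty (Sylow 7 L) := inferInstance
  have hLcard : Nat.card L = 252 := by
    have := L.card_mul_index
    rw [hM, card_derived C] at this
    omega
  have hPcard : Nat.card P = 7 := by
    rw [P.card_eq_multiplicity, hLcard, show (252 : ℕ) = 7 * 36 by norm_num,
      Nat.factorization_mul (by norm_num) (by norm_num), Finsupp.add_apply,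
      Nat.Prime.factorization_self (by norm_num), Nat.factorization_eq_zero_of_not_dvd (by norm_num)]
    norm_num
  obtain ⟨Q, hQ⟩ := (P.2.map L.subtype).exists_le_sylow
  have heq : (P : Subgroup L).map L.subtype = Q :=
    Subgroup.eq_of_le_of_card_ge hQ (by rw [Subgroup.card_subtype, hPcard, card_sylow_seven C Q])
  have hQL : (Q : Subgroup (derived C)) ≤ L := heq ▸ Subgroup.map_subtype_le _
  have hN : Subgroup.normalizer ((P : Subgroup L) : Set L) = (P : Subgroup L) := by
    symm
    refine Subgroup.eq_of_le_of_card_ge Subgroup.le_normalizer ?_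
    rw [hPcard]
    set N := Subgroup.normalizer ((Q : Subgroup (derived C)) : Set (derived C)) with hNdef
    have hN14 : Nat.card N = 14 := by
      have h := (Subgroup.normalizer (Q : Set (derived C))).card_mul_index
      rw [index_normalizer C Q, card_derived C] at h
      rw [show N = Subgroup.normalizer (Q : Set (derived C)) by rw [hNdef]; rfl]
      omega
    have hsup : L ⊔ N = ⊤ := by
      have := Sylow.normalizer_sup_eq_top P
      rw [heq] at this
      rwa [sup_comm]
    have hle : (Subgroup.normalizer ((P : Subgroup L) : Set L)).map L.subtype ≤ N ⊓ L := by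
      rintro _ ⟨w, hw, rfl⟩
      refine ⟨?_, w.2⟩
      rw [hNdef, ← heq]
      exact Subgroup.le_normalizer_map L.subtype ⟨w, hw, rfl⟩
    have hinf := CfsgLib.Solvable.card_sup_mul_card_inf (A := N) (K := L)
      (Subgroup.le_normalizer_of_normal (H := L))
    rw [sup_comm, hsup, Subgroup.card_top, card_derived C, hN14, hLcard] at hinf
    have h2 := Subgroup.card_le_of_le hle
    rw [Subgroup.card_subtype] at h2
    omega
  haveI : IsCyclic (P : Subgroup L) := isCyclic_of_prime_card (p := 7) hPcard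
  have hcent : Subgroup.normalizer ((P : Subgroup L) : Set L) ≤
      Subgroup.centralizer ((P : Subgroup L) : Set L) := by
    rw [hN]
    intro a ha b hb
    letI : CommGroup (P : Subgroup L) := IsCyclic.commGroup
    exact congrArg Subtype.val (mul_comm (⟨b, hb⟩ : (P : Subgroup L)) ⟨a, ha⟩)
  have hcompl := MonoidHom.ker_transferSylow_isComplement' P hcent
  have hcard := hcompl.card_mul_card
  rw [hPcard, hLcard] at hcard
  haveI := CfsgLib.QdRankTwo.characteristic_pPrimeCore (p := 7) (G := L)
  set W := Cfsg.pPrimeCore 7 L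
  have hWne : W ≠ ⊥ := by
    intro e
    have h1 : (MonoidHom.transferSylow P hcent).ker ≤ W :=
      CfsgLib.Solvable.le_pPrimeCore 7 inferInstance
        (Nat.Coprime.symm ((Nat.Prime.coprime_iff_not_dvd (by norm_num)).mpr (by omega)))
    have := Subgroup.card_le_of_le h1
    rw [e, Subgroup.card_bot] at this
    omega
  haveI : (W.map L.subtype).Characteristic := Subgroup.characteristic_iff_map_le.mpr fun φ => by
    rintro _ ⟨_, ⟨w, hw, rfl⟩, rfl⟩
    let ψ : L ≃* L := (φ.subgroupMap L).trans (MulEquiv.subgroupCongr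
      (Subgroup.characteristic_iff_map_eq.mp hLc φ))
    exact ⟨ψ w, Subgroup.characteristic_iff_map_le.mp inferInstance ψ ⟨w, hw, rfl⟩, rfl⟩
  refine hWne ((Subgroup.map_eq_bot_iff_of_injective _ L.subtype_injective).mp
    (char_bot C (W.map L.subtype) ?_))
  rw [Subgroup.card_subtype]
  intro hd
  have := Nat.dvd_gcd hd (dvd_refl 7)
  rw [CfsgLib.Solvable.coprime_card_pPrimeCore (G := L) 7] at this
  norm_num at this

theorem isSimple : IsSimpleGroup (derived C) := by
  haveI : Nontrivial (derived C) := Finite.one_lt_card_iff_nontrivial.mp (by rw [card_derived C]; norm_num)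
  refine ⟨fun M hM => ?_⟩
  by_cases h : M = ⊥
  · exact Or.inl h
  · refine Or.inr ?_
    obtain ⟨-, hi⟩ := normalizer_sup C h
    rcases (Nat.dvd_prime Nat.prime_two).mp hi with h1 | h2
    · exact Subgroup.index_eq_one.mp h1
    · exact (no_index_two C h2).elim

theorem commutator_eq : commutator (RG (ZMod 3) 0) = derived C := by
  refine le_antisymm (Abelianization.commutator_subset_ker _) ?_
  haveI := isSimple C
  rcases (inferInstance : (commutator (derived C)).Normal).eq_bot_or_eq_top with h | h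
  · exfalso
    obtain ⟨P⟩ : Nonempty (Sylow 7 (derived C)) := inferInstance
    have hidx := index_normalizer C P
    rw [show Subgroup.normalizer (P : Set (derived C)) = ⊤ from
      Subgroup.normalizer_eq_top_iff.mpr ⟨fun a ha g => by
        have hc : g * a * g⁻¹ * a⁻¹ ∈ commutator (derived C) :=
          Subgroup.commutator_mem_commutator (Subgroup.mem_top g) (Subgroup.mem_top a)
        rw [h, Subgroup.mem_bot, mul_inv_eq_one] at hc
        rwa [hc]⟩, Subgroup.index_top] at hidx
    norm_num at hidx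
  · calc derived C = (⊤ : Subgroup (derived C)).map (derived C).subtype := by
          rw [← MonoidHom.range_eq_map, Subgroup.range_subtype]
      _ = (commutator (derived C)).map (derived C).subtype := by rw [h]
      _ ≤ commutator (RG (ZMod 3) 0) := by
        rw [commutator_def, Subgroup.map_commutator, commutator_def]
        exact Subgroup.commutator_mono le_top le_top

end CfsgLib.Chev.G2Tw.Three
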