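import Cfsg.Agent.Chev.ReeTwo

/-!
Consequences of the classification of elements of the small Ree group by their orders.
-/

set_option autoImplicit false
set_option linter.style.haveILetI false
set_option linter.unusedSectionVars false

namespace CfsgLib.Chev.ReeCount

variable {G : Type*} [Group G]

/-- The centraliser of a subgroup whose non-identity elements are conjugate to elements with a
common centraliser. -/
theorem centralizer_of_conj {H A X : Subgroup G} {x : G} (hA : A ≤ H) (hA1 : A ≠ ⊥)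
    (hX : ∀ a ∈ H, a ≠ 1 → Subgroup.centralizer ({x * a * x⁻¹} : Set G) = X) :
    Subgroup.centralizer (A : Set G) = X.map (MulAut.conj x⁻¹).toMonoidHom := by
  ext g
  have hg : ∀ a : G, g * a = a * g ↔
      x * g * x⁻¹ ∈ Subgroup.centralizer ({x * a * x⁻¹} : Set G) := fun a => by
    rw [Subgroup.mem_centralizer_singleton_iff, ← MulAut.conj_apply, ← MulAut.conj_apply,
      ← map_mul, ← map_mul, (MulAut.conj x).injective.eq_iff]
  rw [Subgroup.mem_centralizer_iff, show g ∈ X.map (MulAut.conj x⁻¹).toMonoidHom ↔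
    x * g * x⁻¹ ∈ X from ⟨fun ⟨y, hy, e⟩ => by
      rw [← e]; simpa [mul_assoc] using hy, fun h => ⟨_, h, by simp [mul_assoc]⟩⟩]
  constructor
  · intro h
    obtain ⟨a, ha, ha1⟩ := A.bot_or_exists_ne_one.resolve_left hA1
    rw [← hX a (hA ha) ha1, ← hg a]
    exact (h a ha).symm
  · intro h a ha
    by_cases ha1 : a = 1
    · simp [ha1]
    · rw [← hX a (hA ha) ha1, ← hg a] at h
      exact h.symm

end CfsgLib.Chev.ReeCount

namespace CfsgLib.Chev.G2Tw

open Cfsg.Lie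
open CfsgLib.Linear.SmallSub (P2)

namespace Ctx

variable {K : Type*} [Field K] [Fintype K] {m : ℕ} (C : Ctx K m)
include C

theorem conj_HG_of_dvd (hm : 1 ≤ m) {g : RG K m} (h : 2 < orderOf g) (hd : orderOf g ∣ qq m - 1) :
    ∃ x, x * g * x⁻¹ ∈ C.HG := by
  rcases C.order_cases hm (g := g) (fun e => by rw [e, orderOf_one] at h; omega) with
    e | ⟨e, -⟩ | ⟨-, -, hx⟩ | ⟨-, e, -⟩ | ⟨-, e, -⟩
  · omega
  · exact absurd hd (C.exclusive.2.2.2.1 e).1
  · exact hx
  · exact absurd (C.exclusive.1 hd e) (by omega)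
  · exact absurd (C.exclusive.2.1 hd e) (by omega)

theorem conj_AG_of_dvd (hm : 1 ≤ m) {g : RG K m} (h1 : g ≠ 1) (hd : orderOf g ∣ (qq m + 1) / 4) :
    ∃ x, x * g * x⁻¹ ∈ C.AG := by
  obtain ⟨h8, -⟩ := C.arith
  obtain ⟨ℓ, hℓ, hℓd⟩ := Nat.exists_prime_and_dvd (mt orderOf_eq_one_iff.mp h1)
  obtain ⟨x, hx⟩ := C.exists_conj_WG hm hℓ (hℓd.trans hd) hℓd
  refine ⟨x, C.mem_AG_of_pow hx ?_⟩
  rw [conj_pow, orderOf_dvd_iff_pow_eq_one.mp hd, mul_one, mul_inv_cancel]

theorem two_lt_of_dvd_half {n : ℕ} (h1 : n ≠ 1) (hd : n ∣ (qq m - 1) / 2 ∨ n ∣ (qq m + 1) / 4) :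
    2 < n := by
  obtain ⟨h8, -, hge⟩ := C.arith
  have h0 : n ≠ 0 := by
    rintro rfl
    rcases hd with h | h <;> · rw [zero_dvd_iff] at h; omega
  have h2 : n ≠ 2 := by
    rintro rfl
    rcases hd with h | h <;> omega
  omega

theorem half_dvd : (qq m - 1) / 2 ∣ qq m - 1 := by
  obtain ⟨h8, -⟩ := C.arith
  exact Nat.div_dvd_of_dvd (Nat.dvd_of_mod_eq_zero (by omega))

theorem quarter_dvd : (qq m + 1) / 4 ∣ (qq m + 1) / 2 := by
  obtain ⟨h8, -⟩ := C.arith
  exact ⟨2, by omega⟩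

/-- Elements of a given order dividing the order of a Hall torus. -/
theorem card_IsTor [Fintype (RG K m)] {T : Subgroup (RG K m)} {n n' : ℕ} (hT : C.IsTor T n)
    (hnn : n * n' = NN m) {i : ℕ} (hi : 1 < i) (hd : i ∣ n) :
    6 * Nat.card {g : RG K m // orderOf g = i} = MM m * n' * Nat.totient i := by
  have hne : ∀ {g : RG K m}, orderOf g = i → g ≠ 1 := fun h e => by
    rw [e, orderOf_one] at h
    omega
  have h := ReeCount.card_covered T (fun g : RG K m => orderOf g = i)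
    (fun g x h => by rwa [C.orderOf_conj]) (fun g h => hT.conj g (hne h) (h ▸ hd))
    (fun a ha hPa x hx => hT.ti a ha (hne hPa) x hx)
  haveI := hT.cyc
  rw [hT.normalizer, ReeCount.card_orderOf_cyclic T (hT.card ▸ hd), C.card_eq_MM, ← hnn] at h
  refine Nat.eq_of_mul_eq_mul_right (show 0 < n from hT.card ▸ Nat.card_pos) ?_
  calc 6 * Nat.card {g : RG K m // orderOf g = i} * n
      = Nat.card {g : RG K m // orderOf g = i} * (6 * n) := by ring
    _ = _ := h
    _ = _ := by ring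

/-- Elements of the torus of order `q + 1` of odd order. -/
theorem card_WG_odd {i : ℕ} (hd : i ∣ (qq m + 1) / 4) :
    Nat.card {g : RG K m // g ∈ C.WG ∧ orderOf g = i} = Nat.totient i := by
  haveI := C.isCyclic_AG
  rw [← ReeCount.card_orderOf_cyclic C.AG (i := i) (by rwa [C.card_AG])]
  exact Nat.card_congr (Equiv.subtypeEquivRight fun g =>
    ⟨fun h => ⟨C.mem_AG_of_pow h.1 (orderOf_dvd_iff_pow_eq_one.mp (h.2 ▸ hd)), h.2⟩,
      fun h => ⟨C.AG_le_WG h.1, h.2⟩⟩)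

/-- Elements of the torus of order `q + 1` of twice an odd order. -/
theorem card_WG_double {i : ℕ} (hi : 1 < i) (hd : i ∣ (qq m + 1) / 4) :
    Nat.card {g : RG K m // g ∈ C.WG ∧ orderOf g = 2 * i} = 3 * Nat.totient i := by
  haveI : Fact (Nat.Prime 2) := ⟨Nat.prime_two⟩
  obtain ⟨h8, -⟩ := C.arith
  have hodd : Odd i := Odd.of_dvd_nat (Nat.odd_iff.mpr (by omega)) hd
  obtain ⟨j, rfl⟩ := hodd
  refine Eq.trans ?_ (congrArg₂ (· * ·) C.card_WG_involutions (C.card_WG_odd hd))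
  rw [← Nat.card_prod]
  let f : {g : RG K m // g ∈ C.WG ∧ g * g = 1 ∧ g ≠ 1} ×
      {g : RG K m // g ∈ C.WG ∧ orderOf g = 2 * j + 1} →
      {g : RG K m // g ∈ C.WG ∧ orderOf g = 2 * (2 * j + 1)} := fun p =>
    ⟨(p.1 : RG K m) * p.2, mul_mem p.1.2.1 p.2.2.1, by
      have hv : orderOf (p.1 : RG K m) = 2 :=
        orderOf_eq_prime ((pow_two _).trans p.1.2.2.1) p.1.2.2.2
      rw [Commute.orderOf_mul_eq_mul_orderOf_of_coprime (C.WG_comm p.1.2.1 p.2.2.1), hv, p.2.2.2]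
      rw [hv, p.2.2.2]
      exact Nat.prime_two.coprime_iff_not_dvd.mpr (by omega)⟩
  refine (Nat.card_eq_of_bijective f ⟨fun p p' e => ?_, fun g => ?_⟩).symm
  · have e' : (p.1 : RG K m) * p.2 = p'.1 * p'.2 := congrArg Subtype.val e
    have hp : ∀ p : {g : RG K m // g ∈ C.WG ∧ g * g = 1 ∧ g ≠ 1} ×
        {g : RG K m // g ∈ C.WG ∧ orderOf g = 2 * j + 1},
        ((p.1 : RG K m) * p.2) ^ (2 * j + 1) = p.1 := fun p => by
      rw [(show Commute (p.1 : RG K m) p.2 from C.WG_comm p.1.2.1 p.2.2.1).mul_pow,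
        orderOf_dvd_iff_pow_eq_one.mp (dvd_of_eq p.2.2.2), mul_one, pow_succ, pow_mul, pow_two,
        p.1.2.2.1, one_pow, one_mul]
    have e1 : p.1 = p'.1 := Subtype.ext (by rw [← hp p, ← hp p', e'])
    exact Prod.ext e1 (Subtype.ext (mul_left_cancel (e1 ▸ e')))
  · obtain ⟨g, hgW, ho⟩ := g
    have h2 : orderOf (g ^ (2 * j + 1)) = 2 := by
      rw [orderOf_pow_of_dvd (by omega) (ho ▸ dvd_mul_left _ _), ho,
        Nat.mul_div_cancel _ (by omega)]
    have h1 : orderOf (g ^ (2 * (j + 1))) = 2 * j + 1 := by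
      rw [orderOf_pow' g (by omega), ho, Nat.gcd_mul_left,
        show Nat.gcd (2 * j + 1) (j + 1) = 1 from by
          rw [show 2 * j + 1 = j + (j + 1) by omega, Nat.gcd_add_self_left,
            Nat.gcd_self_add_right, Nat.gcd_one_right],
        mul_one, Nat.mul_div_cancel_left _ (by norm_num)]
    refine ⟨(⟨g ^ (2 * j + 1), pow_mem hgW _, by
      rw [← pow_two]; exact orderOf_dvd_iff_pow_eq_one.mp (dvd_of_eq h2),
      fun e => by rw [e, orderOf_one] at h2; omega⟩, ⟨g ^ (2 * (j + 1)), pow_mem hgW _, h1⟩),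
      Subtype.ext ?_⟩
    show g ^ (2 * j + 1) * g ^ (2 * (j + 1)) = g
    rw [← pow_add, show 2 * j + 1 + 2 * (j + 1) = 2 * (2 * j + 1) + 1 by omega, pow_succ, ← ho,
      pow_orderOf_eq_one, one_mul]

end Ctx

end CfsgLib.Chev.G2Tw
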