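import Cfsg.Agent.Chev.ReeSylow
import Cfsg.Agent.Chev.ReeCount
import Cfsg.Agent.Coprime.Generation

/-!
The torus of order `q + 1` of the small Ree group.
-/

set_option autoImplicit false
set_option linter.style.haveILetI false

namespace CfsgLib.Chev.G2Tw

open Cfsg.Lie
open CfsgLib.Linear.SmallSub (P2)

theorem z2_mul_self (z : Z2) : z * z = 1 := by revert z; decide

theorem z2_sq (z : Z2) : z ^ 2 = 1 := by rw [pow_two]; exact z2_mul_self z

theorem z2_pow_four (z : Z2) : z ^ 4 = 1 := by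
  rw [show (4 : ℕ) = 2 * 2 from rfl, pow_mul, z2_sq]

namespace Ctx

variable {K : Type*} [Field K] [Fintype K] {m : ℕ} (C : Ctx K m)
include C

omit C in
/-- The number of elements of the field. -/
abbrev qq (m : ℕ) : ℕ := 3 ^ (2 * m + 1)

theorem qq_mod : qq m % 8 = 3 := by
  have := C.q_mod_eight
  rwa [C.hK] at this

omit [Field K] [Fintype K] C in
theorem qq_ge (hm : 1 ≤ m) : 27 ≤ qq m :=
  calc 27 = 3 ^ 3 := by norm_num
    _ ≤ 3 ^ (2 * m + 1) := Nat.pow_le_pow_right (by norm_num) (by omega)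

theorem card_RG' : Nat.card (RG K m) =
    qq m ^ 3 * (qq m - 1) * ((qq m + 1) * (qq m ^ 2 - qq m + 1)) := by
  rw [C.card_RG]
  congr 1
  have h1 : qq m ≤ qq m ^ 2 := Nat.le_self_pow two_ne_zero _
  zify [h1]
  ring

theorem prime_dvd_card {ℓ : ℕ} (hℓ : ℓ.Prime) (h : ℓ ∣ Nat.card (RG K m)) :
    ℓ = 3 ∨ ℓ ∣ qq m - 1 ∨ ℓ ∣ qq m + 1 ∨ ℓ ∣ qq m ^ 2 - qq m + 1 := by
  rw [C.card_RG'] at h
  rcases hℓ.dvd_mul.mp h with h | h
  · rcases hℓ.dvd_mul.mp h with h | h
    · exact Or.inl ((Nat.prime_dvd_prime_iff_eq hℓ Nat.prime_three).mp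
        (hℓ.dvd_of_dvd_pow (hℓ.dvd_of_dvd_pow h)))
    · exact Or.inr (Or.inl h)
  · rcases hℓ.dvd_mul.mp h with h | h
    · exact Or.inr (Or.inr (Or.inl h))
    · exact Or.inr (Or.inr (Or.inr h))

omit [Field K] [Fintype K] C in
/-- The prime divisors of the four factors of the order are different. -/
theorem separated {ℓ : ℕ} (hℓ : ℓ.Prime) :
    (ℓ ∣ qq m - 1 → ℓ ∣ qq m + 1 → ℓ = 2) ∧ (ℓ ∣ qq m - 1 → ¬ ℓ ∣ qq m ^ 2 - qq m + 1) ∧
      (ℓ ∣ qq m + 1 → ¬ ℓ ∣ qq m ^ 2 - qq m + 1) ∧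
      (ℓ = 3 → ¬ ℓ ∣ qq m - 1 ∧ ¬ ℓ ∣ qq m + 1 ∧ ¬ ℓ ∣ qq m ^ 2 - qq m + 1) ∧
      (ℓ = 2 → ¬ ℓ ∣ qq m ^ 2 - qq m + 1) := by
  have h3 : 3 ∣ qq m := dvd_pow_self 3 (Nat.succ_ne_zero _)
  have hodd : ¬ 2 ∣ qq m := fun h => by
    have := Nat.prime_two.dvd_of_dvd_pow h
    omega
  have hle : 1 ≤ qq m := Nat.one_le_pow _ _ (by norm_num)
  generalize qq m = q at h3 hodd hle ⊢
  have hle2 : q ≤ q ^ 2 := Nat.le_self_pow two_ne_zero _
  have hmul : ((q ^ 2 - q + 1 : ℕ) : ℤ) = (q : ℤ) * ((q : ℤ) - 1) + 1 := by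
    push_cast [hle2]; ring
  have h1 : ((q - 1 : ℕ) : ℤ) = (q : ℤ) - 1 := by push_cast [hle]; ring
  have hint := Nat.prime_iff_prime_int.mp hℓ
  simp only [← Int.natCast_dvd_natCast, hmul, h1, Nat.cast_add, Nat.cast_one]
  refine ⟨fun a b => ?_, fun a b => ?_, fun a b => ?_, fun e => ?_, fun e => ?_⟩
  · have := Int.dvd_sub b a
    rw [show ((q : ℤ) + 1) - ((q : ℤ) - 1) = ((2 : ℕ) : ℤ) by push_cast; ring,
      Int.natCast_dvd_natCast] at this
    exact (Nat.prime_dvd_prime_iff_eq hℓ Nat.prime_two).mp this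
  · have := Int.dvd_sub b (a.mul_left (q : ℤ))
    rw [show (q : ℤ) * ((q : ℤ) - 1) + 1 - (q : ℤ) * ((q : ℤ) - 1) = 1 by ring] at this
    exact hint.not_dvd_one this
  · have := Int.dvd_sub b (a.mul_left ((q : ℤ) - 2))
    rw [show (q : ℤ) * ((q : ℤ) - 1) + 1 - ((q : ℤ) - 2) * ((q : ℤ) + 1) = ((3 : ℕ) : ℤ) by
      push_cast; ring, Int.natCast_dvd_natCast, Nat.prime_dvd_prime_iff_eq hℓ Nat.prime_three] at this
    subst this
    omega
  · subst e
    obtain ⟨k, rfl⟩ := h3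
    refine ⟨by omega, by omega, ?_⟩
    push_cast
    rw [mul_assoc]
    omega
  · subst e
    obtain ⟨k, rfl⟩ : ∃ k, q = 2 * k + 1 := ⟨q / 2, by omega⟩
    push_cast
    rw [show ((2 : ℤ) * k + 1 - 1) = 2 * k by ring, ← mul_assoc, mul_comm _ (2 : ℤ), mul_assoc]
    omega

/-! ### The torus in `PSL₂(q)` -/

theorem exists_torus_data : ∃ (x : P2 K) (U : Subgroup (P2 K)), x * x = 1 ∧ x ≠ 1 ∧ x ∈ U ∧
    IsCyclic U ∧ (Nat.card U = (qq m + 1) / 2 ∧
      Nat.card (Subgroup.normalizer (U : Set (P2 K))) = qq m + 1 ∧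
      ∀ c, c * x = x * c → c ∈ Subgroup.normalizer (U : Set (P2 K))) ∧
    ∀ z ∈ U, z ≠ 1 → z ≠ x → Subgroup.centralizer ({z} : Set (P2 K)) = U := by
  have h := ReePSL.exists_torus C.q_mod_eight
  rwa [C.hK] at h

/-- The involution of the torus of `PSL₂(q)`. -/
noncomputable def xU : P2 K := C.exists_torus_data.choose

/-- The torus of `PSL₂(q)`. -/
noncomputable def Ut : Subgroup (P2 K) := C.exists_torus_data.choose_spec.choose

theorem Ut_spec : C.xU * C.xU = 1 ∧ C.xU ≠ 1 ∧ C.xU ∈ C.Ut ∧ IsCyclic C.Ut ∧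
    (Nat.card C.Ut = (qq m + 1) / 2 ∧
      Nat.card (Subgroup.normalizer (C.Ut : Set (P2 K))) = qq m + 1 ∧
      ∀ c, c * C.xU = C.xU * c → c ∈ Subgroup.normalizer (C.Ut : Set (P2 K))) ∧
    ∀ z ∈ C.Ut, z ≠ 1 → z ≠ C.xU → Subgroup.centralizer ({z} : Set (P2 K)) = C.Ut := by
  exact C.exists_torus_data.choose_spec.choose_spec

/-- The centraliser of the involution of the torus of `PSL₂(q)` normalises the torus. -/
theorem xU_centralizer {c : P2 K} (h : c * C.xU = C.xU * c) :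
    c ∈ Subgroup.normalizer (C.Ut : Set (P2 K)) :=
  C.Ut_spec.2.2.2.2.1.2.2 c h

theorem Ut_comm {u v : P2 K} (hu : u ∈ C.Ut) (hv : v ∈ C.Ut) : u * v = v * u := by
  haveI := C.Ut_spec.2.2.2.1
  exact congrArg Subtype.val (IsCyclic.commGroup.mul_comm (⟨u, hu⟩ : C.Ut) ⟨v, hv⟩)

theorem exists_Ut_gen : ∃ u : P2 K, u ∈ C.Ut ∧ orderOf u = (qq m + 1) / 2 := by
  haveI := C.Ut_spec.2.2.2.1
  obtain ⟨u, hu⟩ := IsCyclic.exists_ofOrder_eq_natCard (α := C.Ut)
  exact ⟨u, u.2, by rw [Subgroup.orderOf_coe, hu, C.Ut_spec.2.2.2.2.1.1]⟩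

/-- The odd part of the torus of `PSL₂(q)`. -/
noncomputable def A2 : Subgroup (P2 K) := Subgroup.zpowers (C.exists_Ut_gen.choose ^ 2)

theorem A2_le : C.A2 ≤ C.Ut :=
  Subgroup.zpowers_le.mpr (pow_mem C.exists_Ut_gen.choose_spec.1 2)

theorem card_A2 : Nat.card C.A2 = (qq m + 1) / 4 := by
  rw [A2, Nat.card_zpowers, orderOf_pow, C.exists_Ut_gen.choose_spec.2]
  have := C.qq_mod
  rw [Nat.gcd_eq_right (by omega : 2 ∣ (qq m + 1) / 2)]
  omega

theorem A2_odd : Odd (Nat.card C.A2) := by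
  rw [C.card_A2, Nat.odd_iff]
  have := C.qq_mod
  omega

/-- The cyclic subgroup of order `(q + 1) / 4`. -/
noncomputable def AG : Subgroup (RG K m) := C.A2.map (C.Φc.comp (MonoidHom.inr Z2 (P2 K)))

/-- Its centraliser. -/
noncomputable def WG : Subgroup (RG K m) := ((⊤ : Subgroup Z2).prod C.Ut).map C.Φc

theorem mem_WG {g : RG K m} : g ∈ C.WG ↔ ∃ z, ∃ u ∈ C.Ut, C.Φc (z, u) = g := by
  constructor
  · rintro ⟨⟨z, u⟩, ⟨-, hu⟩, rfl⟩
    exact ⟨z, u, hu, rfl⟩
  · rintro ⟨z, u, hu, rfl⟩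
    exact ⟨(z, u), ⟨Subgroup.mem_top _, hu⟩, rfl⟩

theorem mem_AG {g : RG K m} : g ∈ C.AG ↔ ∃ u ∈ C.A2, C.Φc (1, u) = g :=
  Subgroup.mem_map

theorem AG_le_WG : C.AG ≤ C.WG := fun g hg => by
  obtain ⟨u, hu, rfl⟩ := C.mem_AG.mp hg
  exact C.mem_WG.mpr ⟨1, u, C.A2_le hu, rfl⟩

theorem card_AG : Nat.card C.AG = (qq m + 1) / 4 := by
  rw [AG, Subgroup.card_map_of_injective, C.card_A2]
  exact C.Φc_inj.comp fun a b h => congrArg Prod.snd h

theorem card_WG : Nat.card C.WG = qq m + 1 := by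
  rw [WG, Subgroup.card_map_of_injective C.Φc_inj, Nat.card_congr (Subgroup.prodEquiv _ _).toEquiv,
    Nat.card_prod, Subgroup.card_top, Nat.card_congr Multiplicative.toAdd, Nat.card_zmod,
    C.Ut_spec.2.2.2.2.1.1]
  have := C.qq_mod
  omega

theorem isCyclic_A2 : IsCyclic C.A2 := by
  haveI := C.Ut_spec.2.2.2.1
  exact isCyclic_of_injective (Subgroup.inclusion C.A2_le) (Subgroup.inclusion_injective _)

theorem isCyclic_AG : IsCyclic C.AG := by
  haveI := C.isCyclic_A2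
  exact isCyclic_of_surjective _ (MonoidHom.subgroupMap_surjective _ C.A2)

theorem WG_comm {g h : RG K m} (hg : g ∈ C.WG) (hh : h ∈ C.WG) : g * h = h * g := by
  obtain ⟨z, u, hu, rfl⟩ := C.mem_WG.mp hg
  obtain ⟨z', u', hu', rfl⟩ := C.mem_WG.mp hh
  rw [← map_mul, ← map_mul, Prod.mk_mul_mk, Prod.mk_mul_mk, mul_comm z, C.Ut_comm hu hu']

theorem WG_pow_four {g : RG K m} (hg : g ∈ C.WG) : g ^ 4 ∈ C.AG := by
  haveI := C.Ut_spec.2.2.2.1
  obtain ⟨z, u, hu, rfl⟩ := C.mem_WG.mp hg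
  refine C.mem_AG.mpr ⟨u ^ 4, ReeCount.mem_of_pow_card_of_le C.A2_le (pow_mem hu 4) ?_, ?_⟩
  · rw [← pow_mul, C.card_A2, show 4 * ((qq m + 1) / 4) = (qq m + 1) / 2 * 2 by
      have := C.qq_mod
      omega, pow_mul,
      show u ^ ((qq m + 1) / 2) = 1 by
        rw [← C.Ut_spec.2.2.2.2.1.1]
        exact congrArg Subtype.val (pow_card_eq_one' (x := (⟨u, hu⟩ : C.Ut))), one_pow]
  · rw [← map_pow, Prod.pow_mk, z2_pow_four]

theorem Φc_odd {g : RG K m} (hg : Commute g C.aG) {n : ℕ} (hn : Odd n) (h1 : g ^ n = 1) :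
    ∃ y, y ^ n = 1 ∧ C.Φc (1, y) = g := by
  obtain ⟨⟨z, y⟩, rfl⟩ := C.exists_of_commute hg
  rw [← map_pow] at h1
  have h2 := C.Φc_inj (h1.trans (map_one C.Φc).symm)
  rw [Prod.pow_mk, Prod.mk_eq_one] at h2
  obtain ⟨k, rfl⟩ := hn
  have hz : z = 1 := by
    have h := h2.1
    rw [pow_succ, pow_mul, z2_sq, one_pow,
      one_mul] at h
    exact h
  exact ⟨y, h2.2, by rw [hz]⟩

theorem ne_xU_of_odd {u : P2 K} {n : ℕ} (hn : Odd n) (h : u ^ n = 1) : u ≠ C.xU := by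
  rintro rfl
  obtain ⟨k, rfl⟩ := hn
  rw [pow_succ, pow_mul, pow_two, C.Ut_spec.1, one_pow, one_mul] at h
  exact C.Ut_spec.2.1 h

/-- Inside the centraliser of the involution the torus is the centraliser. -/
theorem centralizer_inf {g z : RG K m} (hz : z ∈ C.AG) (hz1 : z ≠ 1) (hga : Commute g C.aG)
    (hgz : Commute g z) : g ∈ C.WG := by
  obtain ⟨u, hu, rfl⟩ := C.mem_AG.mp hz
  obtain ⟨⟨w, y⟩, rfl⟩ := C.exists_of_commute hga
  refine C.mem_WG.mpr ⟨w, y, ?_, rfl⟩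
  have hu1 : u ≠ 1 := fun h => hz1 (by rw [h]; exact map_one C.Φc)
  rw [← C.Ut_spec.2.2.2.2.2 u (C.A2_le hu) hu1 (C.ne_xU_of_odd C.A2_odd
    (congrArg Subtype.val (pow_card_eq_one' (x := (⟨u, hu⟩ : C.A2))))),
    Subgroup.mem_centralizer_singleton_iff]
  exact congrArg Prod.snd (C.Φc_inj ((map_mul C.Φc (w, y) (1, u)).trans
    (hgz.eq.trans (map_mul C.Φc _ _).symm)))

theorem prime_dvd_AG {ℓ : ℕ} (hℓ : ℓ.Prime) (h : ℓ ∣ (qq m + 1) / 4) :
    ℓ ≠ 2 ∧ ℓ ≠ 3 ∧ ℓ ∣ qq m + 1 ∧ ¬ ℓ ∣ qq m - 1 ∧ ¬ ℓ ∣ qq m ^ 2 - qq m + 1 ∧ ¬ ℓ ∣ 4 := by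
  have h8 := C.qq_mod
  have hq1 : ℓ ∣ qq m + 1 := h.trans ⟨4, by omega⟩
  have h2 : ℓ ≠ 2 := by
    rintro rfl
    omega
  obtain ⟨s1, -, s3, s4, -⟩ := separated (m := m) hℓ
  refine ⟨h2, fun e => (s4 e).2.1 hq1, hq1, fun e => h2 (s1 e hq1), s3 hq1, fun e => h2 ?_⟩
  exact (Nat.prime_dvd_prime_iff_eq hℓ Nat.prime_two).mp (hℓ.dvd_of_dvd_pow (n := 2) e)

theorem index_AG {ℓ : ℕ} (hℓ : ℓ.Prime) (h : ℓ ∣ (qq m + 1) / 4) : ¬ ℓ ∣ C.AG.index := by
  obtain ⟨-, h3, -, hm1, hN, h4⟩ := C.prime_dvd_AG hℓ h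
  have e := C.AG.card_mul_index
  rw [C.card_AG, C.card_RG'] at e
  have h8 := C.qq_mod
  have e' : (qq m + 1) / 4 * C.AG.index =
      (qq m + 1) / 4 * (qq m ^ 3 * (qq m - 1) * (4 * (qq m ^ 2 - qq m + 1))) := by
    rw [e]
    have h41 : qq m + 1 = (qq m + 1) / 4 * 4 := by omega
    conv_lhs => rw [h41]
    ring
  rw [Nat.eq_of_mul_eq_mul_left (by omega) e']
  exact hℓ.not_dvd_mul (hℓ.not_dvd_mul (fun hd => h3 ((Nat.prime_dvd_prime_iff_eq hℓ
    Nat.prime_three).mp (hℓ.dvd_of_dvd_pow (hℓ.dvd_of_dvd_pow hd)))) hm1) (hℓ.not_dvd_mul h4 hN)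

theorem index_A2 {ℓ : ℕ} (hℓ : ℓ.Prime) (h : ℓ ∣ (qq m + 1) / 4) : ¬ ℓ ∣ C.A2.index := by
  obtain ⟨h2, h3, -, hm1, -, h4⟩ := C.prime_dvd_AG hℓ h
  have h8 := C.qq_mod
  have e := C.A2.card_mul_index
  have hc := CfsgLib.PSL2Classes.card_P2_mul (F := K) (ReePSL.odd_card C.q_mod_eight)
  rw [C.hK, ← e, C.card_A2, show qq m ^ 2 - 1 = (qq m - 1) * (qq m + 1) by
    rw [mul_comm, ← Nat.sq_sub_sq (qq m) 1, one_pow]] at hc
  have hc' : (qq m + 1) / 4 * (2 * C.A2.index) = (qq m + 1) / 4 * (qq m * (qq m - 1) * 4) := by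
    have h41 : qq m + 1 = (qq m + 1) / 4 * 4 := by omega
    calc (qq m + 1) / 4 * (2 * C.A2.index) = 2 * ((qq m + 1) / 4 * C.A2.index) := by ring
      _ = qq m * ((qq m - 1) * (qq m + 1)) := hc
      _ = _ := by conv_lhs => rw [h41]
                  ring
  intro hd
  have : ℓ ∣ qq m * (qq m - 1) * 4 := by
    rw [← Nat.eq_of_mul_eq_mul_left (by omega) hc']
    exact dvd_mul_of_dvd_right hd 2
  exact hℓ.not_dvd_mul (hℓ.not_dvd_mul (fun hd => h3 ((Nat.prime_dvd_prime_iff_eq hℓ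
    Nat.prime_three).mp (hℓ.dvd_of_dvd_pow hd))) hm1) h4 this

/-- In the centraliser of the involution, an element of order `ℓ` has the torus as centraliser. -/
theorem centralizer_prime_inf {ℓ : ℕ} (hℓ : ℓ.Prime) (h : ℓ ∣ (qq m + 1) / 4) {z : RG K m}
    (hz : orderOf z = ℓ) (hza : Commute z C.aG) :
    ∃ k, Commute k C.aG ∧ k * z * k⁻¹ ∈ C.AG ∧
      ∀ g, Commute g C.aG → Commute g z → k * g * k⁻¹ ∈ C.WG := by
  haveI := Fact.mk hℓ
  obtain ⟨h2, -⟩ := C.prime_dvd_AG hℓ h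
  obtain ⟨y, hy, rfl⟩ := C.Φc_odd hza (hℓ.odd_of_ne_two h2) (hz ▸ pow_orderOf_eq_one z)
  have hyo : orderOf y = ℓ ^ 1 := by
    rw [pow_one, ← hz, orderOf_injective C.Φc C.Φc_inj, Prod.orderOf]
    simp
  obtain ⟨w, hw⟩ := ReeCount.exists_conj_of_orderOf C.A2 (C.index_A2 hℓ h) hyo
  have hk : Commute (C.Φc (1, w)) C.aG := C.commute_Φc _
  have hmem : C.Φc (1, w) * C.Φc (1, y) * (C.Φc (1, w))⁻¹ ∈ C.AG := by
    rw [← map_inv, ← map_mul, ← map_mul]
    exact C.mem_AG.mpr ⟨_, hw, by simp⟩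
  refine ⟨_, hk, hmem, fun g hga hgz => C.centralizer_inf hmem ?_ ((hk.mul_left hga).mul_left
    hk.inv_left) ?_⟩
  · rw [Ne, conj_eq_one_iff, ← orderOf_eq_one_iff, hz]
    exact hℓ.one_lt.ne'
  · rw [← MulAut.conj_apply, ← MulAut.conj_apply]
    exact hgz.map _

/-- The centraliser of an element of prime order of the cyclic group of order `(q + 1) / 4`. -/
theorem centralizer_AG_prime (hm : 1 ≤ m) {z : RG K m} (hz : z ∈ C.AG)
    (hzp : (orderOf z).Prime) : Subgroup.centralizer ({z} : Set (RG K m)) = C.WG := by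
  classical
  haveI := Fact.mk hzp
  have hℓ : orderOf z ∣ (qq m + 1) / 4 := by
    rw [← C.card_AG]; exact Subgroup.orderOf_dvd_natCard _ hz
  obtain ⟨h2, h3, hq1, hqm, hN, -⟩ := C.prime_dvd_AG hzp hℓ
  have h8 := C.qq_mod
  set Cz := Subgroup.centralizer ({z} : Set (RG K m))
  have hWle : C.WG ≤ Cz := fun g hg => Subgroup.mem_centralizer_singleton_iff.mpr
    (C.WG_comm hg (C.AG_le_WG hz))
  -- no elements of order three
  have hno3 : ¬ 3 ∣ Nat.card Cz := by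
    intro hd
    haveI : Fact (Nat.Prime 3) := ⟨Nat.prime_three⟩
    obtain ⟨⟨w, hwz⟩, hw⟩ := exists_prime_orderOf_dvd_card' 3 hd
    rw [Subgroup.orderOf_mk] at hw
    have hidx : ¬ 3 ∣ C.UG.index := by
      have e := C.UG.card_mul_index
      rw [C.card_UG, C.card_RG', mul_assoc] at e
      rw [Nat.eq_of_mul_eq_mul_left (by positivity) e]
      obtain ⟨s1, s2, s3⟩ := (separated (m := m) Nat.prime_three).2.2.2.1 rfl
      exact Nat.prime_three.not_dvd_mul s1 (Nat.prime_three.not_dvd_mul s2 s3)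
    obtain ⟨k, hk⟩ := ReeCount.exists_conj_of_orderOf (p := 3) C.UG hidx (j := 1)
      (by rw [hw, pow_one])
    have hw1 : k * w * k⁻¹ ≠ 1 := by
      rw [Ne, conj_eq_one_iff, ← orderOf_eq_one_iff, hw]; norm_num
    have hB : k * z * k⁻¹ ∈ C.BG := by
      refine C.mem_BG_of_conj hk hw1 ?_
      rw [show k * z * k⁻¹ * (k * w * k⁻¹) * (k * z * k⁻¹)⁻¹ = k * (z * w * z⁻¹) * k⁻¹ by group,
        show z * w * z⁻¹ = w by
          rw [← Subgroup.mem_centralizer_singleton_iff.mp hwz, mul_inv_cancel_right]]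
      exact hk
    have hd2 := Subgroup.orderOf_dvd_natCard _ hB
    rw [show orderOf (k * z * k⁻¹) = orderOf z from orderOf_injective (MulAut.conj k).toMonoidHom
      (MulAut.conj k).injective z, C.card_BG] at hd2
    rcases hzp.dvd_mul.mp hd2 with hd | hd
    · exact h3 ((Nat.prime_dvd_prime_iff_eq hzp Nat.prime_three).mp
        (hzp.dvd_of_dvd_pow (hzp.dvd_of_dvd_pow hd)))
    · exact hqm hd
  -- the four-group
  have hvsq : C.Φc (1, C.xU) * C.Φc (1, C.xU) = 1 := by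
    rw [← map_mul, Prod.mk_mul_mk, C.Ut_spec.1, one_mul]
    exact map_one C.Φc
  let V0 : Subgroup (RG K m) :=
    ((⊤ : Subgroup Z2).prod (Subgroup.zpowers C.xU)).map C.Φc
  have hV0W : V0 ≤ C.WG :=
    Subgroup.map_mono (Subgroup.prod_mono le_rfl (Subgroup.zpowers_le.mpr C.Ut_spec.2.2.1))
  have hV0card : Nat.card V0 = 2 ^ 2 := by
    rw [Subgroup.card_map_of_injective C.Φc_inj, Nat.card_congr (Subgroup.prodEquiv _ _).toEquiv,
      Nat.card_prod, Subgroup.card_top, Nat.card_congr Multiplicative.toAdd, Nat.card_zmod,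
      Nat.card_zpowers, orderOf_eq_prime ((pow_two _).trans C.Ut_spec.1) C.Ut_spec.2.1]
    norm_num
  haveI : Fact (Nat.Prime 2) := ⟨Nat.prime_two⟩
  let V1 : Subgroup Cz := V0.subgroupOf Cz
  have hV1card : Nat.card V1 = 2 ^ 2 := by
    rw [Nat.card_congr (Subgroup.subgroupOfEquivOfLe (hV0W.trans hWle)).toEquiv, hV0card]
  have hV1p : IsPGroup 2 V1 := IsPGroup.of_card hV1card
  have hidx2 : ¬ 2 ∣ V1.index := by
    intro hd
    have h8' : 2 ^ 3 ∣ Nat.card Cz := by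
      rw [← V1.card_mul_index, hV1card]
      exact Nat.mul_dvd_mul_left _ hd
    obtain ⟨T, hT⟩ := Sylow.exists_subgroup_card_pow_prime 2 h8'
    have hTcard : Nat.card (T.map Cz.subtype) = 8 := by
      rw [Subgroup.card_map_of_injective (Subgroup.subtype_injective _), hT]; norm_num
    obtain ⟨S, hS⟩ := ((IsPGroup.of_card hT).map Cz.subtype).exists_le_sylow
    have hSeq : T.map Cz.subtype = S :=
      Subgroup.eq_of_le_of_card_ge hS (by rw [hTcard]; exact ((C.sylow_two S).1).le)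
    have hzS : z ∈ (S : Subgroup (RG K m)) := by
      rw [← C.centralizer_sylow S]
      refine Subgroup.mem_centralizer_iff.mpr fun y hy => ?_
      rw [← hSeq] at hy
      obtain ⟨t, -, rfl⟩ := hy
      exact Subgroup.mem_centralizer_singleton_iff.mp t.2
    have := (C.sylow_two S).2 z hzS
    exact h2 ((Nat.prime_dvd_prime_iff_eq hzp Nat.prime_two).mp
      (orderOf_dvd_of_pow_eq_one ((pow_two z).trans this)))
  let VS : Sylow 2 Cz := hV1p.toSylow hidx2
  have hVS : (VS : Subgroup Cz) = V1 := IsPGroup.toSylow_coe _ _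
  have hVcomm : IsMulCommutative (VS : Subgroup Cz) := by
    rw [hVS]
    exact ⟨⟨fun a b => Subtype.ext (Subtype.ext (C.WG_comm (hV0W a.2) (hV0W b.2)))⟩⟩
  -- its automizer is trivial
  obtain ⟨P1, M, hMn, hMc⟩ : Cfsg.HasNormalPComplement 2 Cz := by
    refine CfsgLib.TransferBasic.hasNormalPComplement_of_abelian (P := VS) hVcomm fun g hg hgo => ?_
    rw [hVS] at hg ⊢
    refine Subgroup.mem_centralizer_iff.mpr fun v hv => ?_
    let σ : Equiv.Perm V1 := ((MulAut.conj g).toEquiv.subtypeEquiv fun w =>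
      Subgroup.mem_normalizer_iff.mp hg w)
    have hσ : ∀ (n : ℕ) (w : V1), ((σ ^ n) w : Cz) = g ^ n * w * (g ^ n)⁻¹ := by
      intro n
      induction n with
      | zero => intro w; simp
      | succ n ih =>
        intro w
        rw [pow_succ', Equiv.Perm.mul_apply]
        show g * ((σ ^ n) w : Cz) * g⁻¹ = _
        rw [ih, pow_succ']
        group
    have h24 : σ ^ 24 = 1 := by
      have : Nat.card (Equiv.Perm V1) = 24 := by
        rw [Nat.card_perm, hV1card]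
        rfl
      rw [← this]; exact pow_card_eq_one'
    have hfix : g ^ 24 * v * (g ^ 24)⁻¹ = v := by
      rw [← hσ 24 ⟨v, hv⟩, h24]; rfl
    have hcop : (orderOf g).Coprime 24 := by
      have h3' : ¬ 3 ∣ orderOf g := fun h => hno3 (h.trans (orderOf_dvd_natCard g))
      rw [show (24 : ℕ) = 2 ^ 3 * 3 by norm_num]
      exact Nat.Coprime.mul_right (hgo.pow_right 3)
        ((Nat.prime_three.coprime_iff_not_dvd.mpr h3').symm)
    obtain ⟨j, hj⟩ := exists_pow_eq_self_of_coprime hcop.symm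
    have hc : Commute (g ^ 24) v := mul_inv_eq_iff_eq_mul.mp hfix
    have := hc.pow_left j
    rw [hj] at this
    exact this.eq.symm
  -- the complement is the cyclic group
  have hModd : ∀ b ∈ M, Odd (orderOf b) := by
    intro b hb
    rw [← Nat.not_even_iff_odd, even_iff_two_dvd]
    intro h2b
    have hd := h2b.trans (Subgroup.orderOf_dvd_natCard _ hb)
    have hcard := hMc.card_mul_card
    obtain ⟨j, hj⟩ := IsPGroup.iff_card.mp P1.2
    have hVP : Nat.card (P1 : Subgroup Cz) = 4 := by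
      rw [P1.card_eq_multiplicity, ← VS.card_eq_multiplicity, hVS, hV1card]; norm_num
    have h8' : 2 ^ 3 ∣ Nat.card Cz := by
      rw [← hcard, hVP]
      rw [show (2 : ℕ) ^ 3 = 2 * 4 by norm_num]
      exact mul_dvd_mul hd (dvd_refl 4)
    apply hidx2
    rw [← V1.card_mul_index, hV1card, show (2 : ℕ) ^ 3 = 2 ^ 2 * 2 by norm_num] at h8'
    exact Nat.dvd_of_mul_dvd_mul_left (by norm_num) h8'
  have hkey : ∀ v ∈ V1, v ≠ 1 → ∀ b ∈ M, v * b * v⁻¹ = b → (b : RG K m) ∈ C.AG := by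
    intro v hv hv1 b hb hfix
    have hv2 : (v : RG K m) * v = 1 := by
      obtain ⟨⟨e1, e2⟩, ⟨-, he2⟩, he⟩ := (Subgroup.mem_subgroupOf.mp hv)
      rw [← he, ← map_mul, Prod.mk_mul_mk, z2_mul_self]
      obtain ⟨i, rfl⟩ := Subgroup.mem_zpowers_iff.mp he2
      rw [← (Commute.refl C.xU).mul_zpow i, C.Ut_spec.1, _root_.one_zpow]
      exact map_one C.Φc
    obtain ⟨k, hk⟩ := isConj_iff.mp (C.isConj_aG hm hv2 (fun h => hv1 (Subtype.ext h)))
    set z' := k⁻¹ * z * k with hz'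
    have hz'o : orderOf z' = orderOf z := by
      rw [hz', show k⁻¹ * z * k = MulAut.conj k⁻¹ z by simp]
      exact orderOf_injective (MulAut.conj k⁻¹).toMonoidHom (MulAut.conj k⁻¹).injective z
    have hz'a : Commute z' C.aG := by
      have hzv : z * (v : RG K m) = v * z :=
        (Subgroup.mem_centralizer_singleton_iff.mp v.2).symm
      show k⁻¹ * z * k * C.aG = C.aG * (k⁻¹ * z * k)
      calc k⁻¹ * z * k * C.aG = k⁻¹ * (z * (k * C.aG * k⁻¹)) * k := by group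
        _ = k⁻¹ * ((k * C.aG * k⁻¹) * z) * k := by rw [hk, hzv]
        _ = _ := by group
    obtain ⟨l, -, hlz, hl⟩ := C.centralizer_prime_inf hzp hℓ hz'o hz'a
    -- transport everything into the torus
    set f := MulAut.conj (l * k⁻¹)
    have hf : ∀ g : RG K m, f g = l * (k⁻¹ * g * k) * l⁻¹ := fun g => by
      simp only [f, MulAut.conj_apply]; group
    have hfW : ∀ g : RG K m, Commute g (v : RG K m) → Commute g z → f g ∈ C.WG := by
      intro g hgv hgz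
      rw [hf]
      refine hl _ ?_ ?_
      · show k⁻¹ * g * k * C.aG = C.aG * (k⁻¹ * g * k)
        calc k⁻¹ * g * k * C.aG = k⁻¹ * (g * (k * C.aG * k⁻¹)) * k := by group
          _ = k⁻¹ * ((k * C.aG * k⁻¹) * g) * k := by rw [hk, hgv.eq]
          _ = _ := by group
      · show k⁻¹ * g * k * (k⁻¹ * z * k) = k⁻¹ * z * k * (k⁻¹ * g * k)
        calc k⁻¹ * g * k * (k⁻¹ * z * k) = k⁻¹ * (g * z) * k := by group
          _ = k⁻¹ * (z * g) * k := by rw [hgz.eq]
          _ = _ := by group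
    have hvW : (v : RG K m) ∈ C.WG := hV0W (Subgroup.mem_subgroupOf.mp hv)
    have hAimg : ∀ g ∈ C.AG, f g ∈ C.AG := by
      intro g hg
      have h1 := hfW g (C.WG_comm (C.AG_le_WG hg) hvW) (C.WG_comm (C.AG_le_WG hg) (C.AG_le_WG hz))
      have h4 := C.WG_pow_four h1
      have hcop : (Nat.card C.AG).Coprime 4 := by
        rw [C.card_AG, show (4 : ℕ) = 2 ^ 2 by norm_num]
        refine Nat.Coprime.pow_right 2 ((Nat.prime_two.coprime_iff_not_dvd.mpr ?_).symm)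
        omega
      have ho : (orderOf (f g)).Coprime 4 := by
        rw [show orderOf (f g) = orderOf g from orderOf_injective f.toMonoidHom f.injective g]
        exact hcop.coprime_dvd_left (Subgroup.orderOf_dvd_natCard _ hg)
      obtain ⟨j, hj⟩ := exists_pow_eq_self_of_coprime ho.symm
      rw [← hj]; exact pow_mem h4 j
    have hsurj : C.AG.map f.toMonoidHom = C.AG := Subgroup.eq_of_le_of_card_ge
      (by rintro _ ⟨g, hg, rfl⟩; exact hAimg g hg)
      (by rw [Subgroup.card_map_of_injective (f := f.toMonoidHom) f.injective])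
    have hbv : Commute (b : RG K m) (v : RG K m) := by
      have := congrArg Subtype.val (mul_inv_eq_iff_eq_mul.mp hfix)
      exact this.symm
    have hb4 := C.WG_pow_four (hfW (b : RG K m) hbv
      (Subgroup.mem_centralizer_singleton_iff.mp b.2))
    have ho : (orderOf (f (b : RG K m))).Coprime 4 := by
      rw [show orderOf (f (b : RG K m)) = orderOf (b : RG K m) from
          orderOf_injective f.toMonoidHom f.injective _,
        Subgroup.orderOf_coe, show (4 : ℕ) = 2 ^ 2 by norm_num]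
      exact Nat.Coprime.pow_right 2 (Nat.coprime_two_right.mpr (hModd b hb))
    obtain ⟨j, hj⟩ := exists_pow_eq_self_of_coprime ho.symm
    have hfb : f (b : RG K m) ∈ C.AG := hj ▸ pow_mem hb4 j
    rw [← hsurj] at hfb
    obtain ⟨g, hg, e⟩ := hfb
    exact f.injective e ▸ hg
  -- the coprime action of the four-group on the complement
  have hM : M.map Cz.subtype ≤ C.AG := by
    let φ : V1 →* MulAut M :=
      MonoidHom.mk' (fun v => MulAut.conjNormal (v : Cz)) fun a b => by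
        rw [Subgroup.coe_mul, map_mul]
    letI : MulDistribMulAction V1 M := MulDistribMulAction.compHom M φ
    haveI : IsMulCommutative V1 :=
      ⟨⟨fun a b => Subtype.ext (Subtype.ext (C.WG_comm (hV0W a.2) (hV0W b.2)))⟩⟩
    letI : CommGroup V1 :=
      { (inferInstance : Group V1) with mul_comm := fun a b => IsMulCommutative.is_comm.comm a b }
    have hnc : ¬ IsCyclic V1 := by
      intro hc
      obtain ⟨g, hg⟩ := hc.exists_ofOrder_eq_natCard
      have hg2 : g ^ 2 = 1 := by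
        obtain ⟨⟨e1, e2⟩, ⟨-, he2⟩, he⟩ := Subgroup.mem_subgroupOf.mp g.2
        refine Subtype.ext (Subtype.ext ?_)
        show ((g : Cz) : RG K m) ^ 2 = 1
        rw [show ((g : Cz) : RG K m) = C.Φc (e1, e2) from he.symm, ← map_pow, Prod.pow_mk,
          z2_sq]
        obtain ⟨i, rfl⟩ := Subgroup.mem_zpowers_iff.mp he2
        rw [← _root_.zpow_natCast (C.xU ^ i), ← _root_.zpow_mul, mul_comm, _root_.zpow_mul,
          _root_.zpow_natCast, pow_two, C.Ut_spec.1, _root_.one_zpow]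
        exact map_one C.Φc
      have := orderOf_dvd_of_pow_eq_one hg2
      rw [hg, hV1card] at this
      norm_num at this
    have hcop : (Nat.card V1).Coprime (Nat.card M) := by
      rw [hV1card]
      refine Nat.Coprime.pow_left 2 (Nat.prime_two.coprime_iff_not_dvd.mpr fun hd => ?_)
      obtain ⟨b, hb⟩ := exists_prime_orderOf_dvd_card' 2 hd
      have hodd := hModd b b.2
      rw [Subgroup.orderOf_coe, hb] at hodd
      exact absurd hodd (by decide)
    have htop := CfsgLib.Coprime.closure_fixed_eq_top (A := V1) (G := M) hnc hcop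
    rintro _ ⟨b, hb, rfl⟩
    have hmem : (⟨b, hb⟩ : M) ∈ C.AG.comap (Cz.subtype.comp M.subtype) := by
      refine (Subgroup.closure_le _).mpr ?_ (htop.ge (Subgroup.mem_top (⟨b, hb⟩ : M)))
      rintro x ⟨v, hv1, hfix⟩
      exact hkey (v : Cz) v.2 (fun h => hv1 (Subtype.ext h)) x x.2 (congrArg Subtype.val hfix)
    exact hmem
  refine (Subgroup.eq_of_le_of_card_ge hWle ?_).symm
  rw [C.card_WG, ← hMc.card_mul_card, P1.card_eq_multiplicity, ← VS.card_eq_multiplicity, hVS, hV1card]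
  have h1 := Nat.le_of_dvd Nat.card_pos (Subgroup.card_dvd_of_le hM)
  rw [Subgroup.card_map_of_injective (Subgroup.subtype_injective _), C.card_AG] at h1
  omega

/-- The centraliser of a non-identity element of the cyclic group of order `(q + 1) / 4`. -/
theorem centralizer_AG (hm : 1 ≤ m) {z : RG K m} (hz : z ∈ C.AG) (hz1 : z ≠ 1) :
    Subgroup.centralizer ({z} : Set (RG K m)) = C.WG := by
  obtain ⟨ℓ, hℓ, hd⟩ := Nat.exists_prime_and_dvd (mt orderOf_eq_one_iff.mp hz1)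
  have hw : z ^ (orderOf z / ℓ) ∈ C.AG := pow_mem hz _
  have ho : orderOf (z ^ (orderOf z / ℓ)) = ℓ := by
    have hpos := orderOf_pos z
    rw [orderOf_pow_of_dvd (Nat.div_pos (Nat.le_of_dvd hpos hd) hℓ.pos).ne'
      (Nat.div_dvd_of_dvd hd), Nat.div_div_self hd hpos.ne']
  refine le_antisymm (fun g hg => ?_) fun g hg => ?_
  · rw [← C.centralizer_AG_prime hm hw (by rw [ho]; exact hℓ)]
    rw [Subgroup.mem_centralizer_singleton_iff] at hg ⊢
    exact (show Commute g z from hg).pow_right _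
  · exact Subgroup.mem_centralizer_singleton_iff.mpr (C.WG_comm hg (C.AG_le_WG hz))

end Ctx

end CfsgLib.Chev.G2Tw
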