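import Cfsg.Agent.Chev.ReeTorusA

/-!
The normalisers of the tori of order `q - 1` and `q + 1` of the small Ree group.
-/

set_option autoImplicit false
set_option linter.style.haveILetI false
set_option linter.unusedSectionVars false

namespace CfsgLib.Chev.ReeCount

variable {G : Type*} [Group G]

/-- The subgroups of a cyclic group are stable under its normaliser. -/
theorem normalizer_le_of_cyclic [Finite G] {X A : Subgroup G} [IsCyclic X] (hA : A ≤ X) :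
    Subgroup.normalizer (X : Set G) ≤ Subgroup.normalizer (A : Set G) := fun g hg => by
  refine eq_of_conj_le fun a ha => ?_
  refine mem_of_pow_card_of_le hA ((Subgroup.mem_normalizer_iff.mp hg a).mp (hA ha)) ?_
  rw [conj_pow, show a ^ Nat.card A = 1 from congrArg Subtype.val (pow_card_eq_one' (x := (⟨a, ha⟩ : A))),
    mul_one, mul_inv_cancel]

/-- A cyclic trivial intersection subgroup has the normaliser of each non-trivial subgroup. -/
theorem normalizer_eq_of_ti [Finite G] {A : Subgroup G} [IsCyclic A]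
    (hti : ∀ a ∈ A, a ≠ 1 → ∀ g : G, g * a * g⁻¹ ∈ A → g ∈ Subgroup.normalizer (A : Set G))
    {A₀ : Subgroup G} (h : A₀ ≤ A) (h1 : A₀ ≠ ⊥) :
    Subgroup.normalizer (A₀ : Set G) = Subgroup.normalizer (A : Set G) := by
  refine le_antisymm (fun g hg => ?_) (normalizer_le_of_cyclic h)
  obtain ⟨a, ha, ha1⟩ := A₀.bot_or_exists_ne_one.resolve_left h1
  exact hti a (h ha) ha1 g (h ((Subgroup.mem_normalizer_iff.mp hg a).mp ha))

/-- Two elements of the same order generate conjugate groups, once both are conjugate into a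
cyclic subgroup. -/
theorem exists_map_zpowers [Finite G] {A : Subgroup G} [IsCyclic A] {a b : G}
    (hab : orderOf a = orderOf b) (ha : ∃ x : G, x * a * x⁻¹ ∈ A) (hb : ∃ x : G, x * b * x⁻¹ ∈ A) :
    ∃ g : G, Subgroup.zpowers b = (Subgroup.zpowers a).map (MulAut.conj g).toMonoidHom := by
  obtain ⟨x, hx⟩ := ha
  obtain ⟨y, hy⟩ := hb
  refine ⟨y⁻¹ * x, ?_⟩
  have ho : ∀ (g c : G), orderOf (g * c * g⁻¹) = orderOf c := fun g c =>
    orderOf_injective (MulAut.conj g).toMonoidHom (MulAut.conj g).injective c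
  have hmem : y * b * y⁻¹ ∈ Subgroup.zpowers (x * a * x⁻¹) := by
    refine mem_of_pow_card_of_le (Subgroup.zpowers_le.mpr hx) hy ?_
    rw [Nat.card_zpowers, ho, hab, ← ho y b, pow_orderOf_eq_one]
  have heq : Subgroup.zpowers (y * b * y⁻¹) = Subgroup.zpowers (x * a * x⁻¹) := by
    refine Subgroup.eq_of_le_of_card_ge (Subgroup.zpowers_le.mpr hmem) ?_
    rw [Nat.card_zpowers, Nat.card_zpowers, ho, ho, hab]
  have e := congrArg (Subgroup.map (MulAut.conj y⁻¹).toMonoidHom) heq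
  rw [MonoidHom.map_zpowers, MonoidHom.map_zpowers] at e
  rw [MonoidHom.map_zpowers]
  simp only [MulEquiv.coe_toMonoidHom, MulAut.conj_apply] at e ⊢
  rw [show y⁻¹ * (y * b * y⁻¹) * y⁻¹⁻¹ = b by group] at e
  rw [e]
  congr 1
  group

end CfsgLib.Chev.ReeCount

namespace CfsgLib.Chev.G2Tw

open Cfsg.Lie
open CfsgLib.Linear.SmallSub (P2)

namespace Ctx

variable {K : Type*} [Field K] [Fintype K] {m : ℕ} (C : Ctx K m)
include C

theorem orderOf_conj (g x : RG K m) : orderOf (g * x * g⁻¹) = orderOf x :=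
  orderOf_injective (MulAut.conj g).toMonoidHom (MulAut.conj g).injective x

theorem exists_prime_pow {g : RG K m} {ℓ : ℕ} (hℓ : ℓ.Prime) (hd : ℓ ∣ orderOf g) :
    orderOf (g ^ (orderOf g / ℓ)) = ℓ := by
  have hpos := orderOf_pos g
  rw [orderOf_pow_of_dvd (Nat.div_pos (Nat.le_of_dvd hpos hd) hℓ.pos).ne'
    (Nat.div_dvd_of_dvd hd), Nat.div_div_self hd hpos.ne']

/-! ### The split torus -/

theorem orderOf_tG (s : Kˣ) : orderOf (C.tG s) = orderOf s := orderOf_injective C.tG C.tG_inj s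

theorem isCyclic_HG : IsCyclic C.HG :=
  isCyclic_of_surjective C.tG.rangeRestrict C.tG.rangeRestrict_surjective

theorem mem_normalizer_HG_iff (hm : 1 ≤ m) {g : RG K m} :
    g ∈ Subgroup.normalizer (C.HG : Set (RG K m)) ↔ g ∈ C.HG ∨ ∃ t, g = C.tG t * C.nG := by
  obtain ⟨γ, hγ⟩ := IsCyclic.exists_generator (α := Kˣ)
  have hgen : C.HG = Subgroup.zpowers (C.tG γ) := by
    rw [HG, MonoidHom.range_eq_map, ← (Subgroup.eq_top_iff' _).mpr hγ, MonoidHom.map_zpowers]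
  rw [hgen]
  refine (C.normalizer_tG ?_).trans (by rw [hgen])
  intro e
  have h1 := orderOf_dvd_of_pow_eq_one e
  rw [orderOf_eq_card_of_forall_mem_zpowers hγ, C.card_units] at h1
  have := qq_ge (m := m) hm
  have := Nat.le_of_dvd (by norm_num) h1
  unfold qq at *
  omega

theorem conj_HG {g : RG K m} {s : Kˣ} (hs : s ^ 2 ≠ 1) (hg : g * C.tG s * g⁻¹ ∈ C.HG) :
    g ∈ Subgroup.normalizer (C.HG : Set (RG K m)) := by
  refine ReeCount.eq_of_conj_le fun a ha => ?_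
  obtain ⟨s', hs'⟩ := hg
  have hs2 : s' ^ 2 ≠ 1 := fun e => hs (C.tG_inj (by
    rw [map_pow, map_one, ← conj_eq_one_iff (a := g), ← conj_pow, ← hs', ← map_pow, e, map_one]))
  rw [← C.centralizer_tG hs2, Subgroup.mem_centralizer_singleton_iff, hs']
  have hc : Commute a (C.tG s) := by
    obtain ⟨t, rfl⟩ := ha
    exact (Commute.all t s).map C.tG
  calc g * a * g⁻¹ * (g * C.tG s * g⁻¹) = g * (a * C.tG s) * g⁻¹ := by group
    _ = g * (C.tG s * a) * g⁻¹ := by rw [hc.eq]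
    _ = _ := by group

theorem card_normalizer_HG (hm : 1 ≤ m) :
    Nat.card (Subgroup.normalizer (C.HG : Set (RG K m))) = 2 * (qq m - 1) := by
  let f : Bool × Kˣ → Subgroup.normalizer (C.HG : Set (RG K m)) := fun p =>
    ⟨if p.1 then C.tG p.2 * C.nG else C.tG p.2, (C.mem_normalizer_HG_iff hm).mpr (by
      cases p.1
      · exact Or.inl (C.tG_mem _)
      · exact Or.inr ⟨_, rfl⟩)⟩
  have hn : ∀ t t' : Kˣ, C.tG t * C.nG ≠ C.tG t' := fun t t' e => by
    refine C.nG_not_mem ?_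
    rw [show C.nG = (C.tG t)⁻¹ * C.tG t' by rw [← e, inv_mul_cancel_left], ← map_inv, ← map_mul]
    exact C.tG_mem_BG _
  have hf : Function.Bijective f := by
    constructor
    · rintro ⟨b, t⟩ ⟨b', t'⟩ e
      replace e := congrArg Subtype.val e
      cases b <;> cases b' <;> simp only [f, Bool.false_eq_true, if_false, if_true] at e
      · rw [C.tG_inj e]
      · exact absurd e.symm (hn t' t)
      · exact absurd e (hn t t')
      · rw [C.tG_inj (mul_right_cancel e)]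
    · rintro ⟨g, hg⟩
      rcases (C.mem_normalizer_HG_iff hm).mp hg with ⟨t, rfl⟩ | ⟨t, rfl⟩
      · exact ⟨(false, t), rfl⟩
      · exact ⟨(true, t), rfl⟩
  rw [← Nat.card_eq_of_bijective f hf, Nat.card_prod, Nat.card_eq_fintype_card (α := Bool),
    Fintype.card_bool, C.card_units]

theorem exists_half : ∃ A : Subgroup (RG K m), A ≤ C.HG ∧ IsCyclic A ∧
    Nat.card A = (qq m - 1) / 2 := by
  obtain ⟨γ, hγ⟩ := IsCyclic.exists_ofOrder_eq_natCard (α := Kˣ)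
  refine ⟨Subgroup.zpowers (C.tG (γ ^ 2)), Subgroup.zpowers_le.mpr (C.tG_mem _), inferInstance, ?_⟩
  have h8 := C.qq_mod
  rw [Nat.card_zpowers, C.orderOf_tG, orderOf_pow_of_dvd two_ne_zero, hγ, C.card_units]
  rw [hγ, C.card_units]
  exact Nat.dvd_of_mod_eq_zero (by unfold qq at h8; omega)

theorem ti_half {A : Subgroup (RG K m)} (hA : A ≤ C.HG) (hodd : Nat.card A = (qq m - 1) / 2) :
    ∀ a ∈ A, a ≠ 1 → ∀ g : RG K m, g * a * g⁻¹ ∈ A → g ∈ Subgroup.normalizer (A : Set (RG K m)) := by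
  intro a ha ha1 g hg
  obtain ⟨s, rfl⟩ := hA ha
  have hs : s ^ 2 ≠ 1 := fun e => by
    have h1 : orderOf (C.tG s) ∣ 2 := orderOf_dvd_of_pow_eq_one (by rw [← map_pow, e, map_one])
    have h2 := Subgroup.orderOf_dvd_natCard _ ha
    rw [hodd] at h2
    have h8 := C.qq_mod
    have h3 := Nat.dvd_gcd h1 h2
    rw [show Nat.gcd 2 ((qq m - 1) / 2) = 1 from
      Nat.prime_two.coprime_iff_not_dvd.mpr (by omega)] at h3
    exact ha1 (orderOf_eq_one_iff.mp (Nat.dvd_one.mp h3))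
  haveI := C.isCyclic_HG
  exact ReeCount.normalizer_le_of_cyclic hA (C.conj_HG hs (hA hg))

/-! ### The torus of order `q + 1` -/

theorem mem_AG_of_pow {g : RG K m} (hg : g ∈ C.WG) (h : g ^ ((qq m + 1) / 4) = 1) : g ∈ C.AG := by
  have hc : Nat.Coprime 4 (orderOf g) := by
    refine Nat.Coprime.coprime_dvd_right (orderOf_dvd_of_pow_eq_one h) ?_
    have h8 := C.qq_mod
    exact Nat.Coprime.pow_left 2 (Nat.prime_two.coprime_iff_not_dvd.mpr (by omega))
  obtain ⟨j, hj⟩ := exists_pow_eq_self_of_coprime hc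
  rw [← hj]
  exact pow_mem (C.WG_pow_four hg) j

theorem AG_pow {g : RG K m} (hg : g ∈ C.AG) : g ^ ((qq m + 1) / 4) = 1 := by
  rw [← C.card_AG]
  exact congrArg Subtype.val (pow_card_eq_one' (x := (⟨g, hg⟩ : C.AG)))

theorem exists_AG_prime (hm : 1 ≤ m) :
    ∃ ℓ z, Nat.Prime ℓ ∧ ℓ ∣ (qq m + 1) / 4 ∧ z ∈ C.AG ∧ orderOf z = ℓ ∧ z ≠ 1 := by
  have := qq_ge (m := m) hm
  obtain ⟨ℓ, hℓ, hd⟩ := Nat.exists_prime_and_dvd (n := (qq m + 1) / 4) (by omega)
  haveI := Fact.mk hℓ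
  obtain ⟨⟨z, hz⟩, ho⟩ := exists_prime_orderOf_dvd_card' (G := C.AG) ℓ (by rwa [C.card_AG])
  rw [Subgroup.orderOf_mk] at ho
  exact ⟨ℓ, z, hℓ, hd, hz, ho, fun e => hℓ.one_lt.ne (by rw [← ho, e, orderOf_one])⟩

theorem normalizer_WG_le (g : RG K m) (hg : g ∈ Subgroup.normalizer (C.WG : Set (RG K m))) :
    g ∈ Subgroup.normalizer (C.AG : Set (RG K m)) := by
  refine ReeCount.eq_of_conj_le fun b hb => C.mem_AG_of_pow
    ((Subgroup.mem_normalizer_iff.mp hg b).mp (C.AG_le_WG hb)) ?_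
  rw [conj_pow, C.AG_pow hb, mul_one, mul_inv_cancel]

theorem mem_normalizer_WG_of (hm : 1 ≤ m) {a : RG K m} (ha : a ∈ C.AG) (ha1 : a ≠ 1) {g : RG K m}
    (hg : g * a * g⁻¹ ∈ C.AG) : g ∈ Subgroup.normalizer (C.WG : Set (RG K m)) := by
  refine ReeCount.eq_of_conj_le fun b hb => ?_
  rw [← C.centralizer_AG hm hg (fun e => ha1 (conj_eq_one_iff.mp e)),
    Subgroup.mem_centralizer_singleton_iff]
  calc g * b * g⁻¹ * (g * a * g⁻¹) = g * (b * a) * g⁻¹ := by group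
    _ = g * (a * b) * g⁻¹ := by rw [C.WG_comm hb (C.AG_le_WG ha)]
    _ = _ := by group

theorem ti_AG (hm : 1 ≤ m) :
    ∀ a ∈ C.AG, a ≠ 1 → ∀ g : RG K m, g * a * g⁻¹ ∈ C.AG →
      g ∈ Subgroup.normalizer (C.AG : Set (RG K m)) :=
  fun _ ha ha1 g hg => C.normalizer_WG_le g (C.mem_normalizer_WG_of hm ha ha1 hg)

theorem normalizer_WG (hm : 1 ≤ m) : Subgroup.normalizer (C.WG : Set (RG K m)) =
    Subgroup.normalizer (C.AG : Set (RG K m)) := by
  refine le_antisymm (C.normalizer_WG_le) fun g hg => ?_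
  obtain ⟨ℓ, z, -, -, hz, -, hz1⟩ := C.exists_AG_prime hm
  exact C.mem_normalizer_WG_of hm hz hz1 ((Subgroup.mem_normalizer_iff.mp hg z).mp hz)

theorem WG_sq_iff {g : RG K m} (hg : g ∈ C.WG) :
    g * g = 1 ↔ g ∈ ((⊤ : Subgroup Z2).prod (Subgroup.zpowers C.xU)).map C.Φc := by
  have hx : orderOf C.xU = 2 := orderOf_eq_prime (by rw [pow_two, C.Ut_spec.1]) C.Ut_spec.2.1
  constructor
  · intro h
    obtain ⟨z, u, hu, rfl⟩ := C.mem_WG.mp hg
    rw [← map_mul] at h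
    have h2 : u * u = 1 := congrArg Prod.snd (C.Φc_inj (h.trans (map_one C.Φc).symm))
    haveI := C.Ut_spec.2.2.2.1
    refine ⟨(z, u), ⟨Subgroup.mem_top _, ?_⟩, rfl⟩
    refine ReeCount.mem_of_pow_card_of_le (X := C.Ut) (Subgroup.zpowers_le.mpr C.Ut_spec.2.2.1) hu ?_
    rw [Nat.card_zpowers, hx, pow_two, h2]
  · rintro ⟨⟨z, u⟩, ⟨-, hu⟩, rfl⟩
    obtain ⟨k, rfl⟩ := Subgroup.mem_zpowers_iff.mp hu
    rw [← map_mul, Prod.mk_mul_mk, z2_mul_self, ← (Commute.refl C.xU).mul_zpow k,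
      C.Ut_spec.1, _root_.one_zpow]
    exact map_one C.Φc

theorem card_WG_sq : Nat.card {g : RG K m // g ∈ C.WG ∧ g * g = 1} = 4 := by
  have hsub : ((⊤ : Subgroup Z2).prod (Subgroup.zpowers C.xU)).map C.Φc ≤ C.WG :=
    Subgroup.map_mono (Subgroup.prod_mono le_rfl (Subgroup.zpowers_le.mpr C.Ut_spec.2.2.1))
  have hx : orderOf C.xU = 2 := orderOf_eq_prime (by rw [pow_two, C.Ut_spec.1]) C.Ut_spec.2.1
  rw [Nat.card_congr (Equiv.subtypeEquivRight (q := fun g : RG K m =>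
      g ∈ ((⊤ : Subgroup Z2).prod (Subgroup.zpowers C.xU)).map C.Φc) fun g =>
      ⟨fun h => (C.WG_sq_iff h.1).mp h.2, fun h => ⟨hsub h, (C.WG_sq_iff (hsub h)).mpr h⟩⟩)]
  rw [Subgroup.card_map_of_injective C.Φc_inj, Nat.card_congr (Subgroup.prodEquiv _ _).toEquiv,
    Nat.card_prod, Subgroup.card_top, Nat.card_congr Multiplicative.toAdd, Nat.card_zmod,
    Nat.card_zpowers, hx]

theorem card_WG_involutions : Nat.card {g : RG K m // g ∈ C.WG ∧ g * g = 1 ∧ g ≠ 1} = 3 := by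
  classical
  have h1 : (1 : RG K m) ∈ Finset.univ.filter fun g : RG K m => g ∈ C.WG ∧ g * g = 1 := by
    simp [one_mem]
  haveI : Fintype (RG K m) := Fintype.ofFinite _
  have h4 := C.card_WG_sq
  rw [Nat.card_eq_fintype_card, Fintype.card_subtype] at h4 ⊢
  have : (Finset.univ.filter fun g : RG K m => g ∈ C.WG ∧ g * g = 1 ∧ g ≠ 1) =
      (Finset.univ.filter fun g : RG K m => g ∈ C.WG ∧ g * g = 1).erase 1 := by
    ext g
    simp only [Finset.mem_filter, Finset.mem_univ, true_and, Finset.mem_erase]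
    tauto
  rw [this, Finset.card_erase_of_mem (by simp [one_mem]), h4]

theorem exists_conj_involution (hm : 1 ≤ m) {v : RG K m} (hv : v ∈ C.WG) (hv2 : v * v = 1)
    (hv1 : v ≠ 1) :
    ∃ h ∈ Subgroup.normalizer (C.AG : Set (RG K m)), h * v * h⁻¹ = C.aG := by
  obtain ⟨g, hg⟩ := isConj_iff.mp (C.isConj_aG hm hv2 hv1).symm
  obtain ⟨ℓ, z, hℓ, hd, hz, hzo, hz1⟩ := C.exists_AG_prime hm
  have hza : Commute (g * z * g⁻¹) C.aG := by
    rw [← hg]
    show g * z * g⁻¹ * (g * v * g⁻¹) = g * v * g⁻¹ * (g * z * g⁻¹)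
    calc g * z * g⁻¹ * (g * v * g⁻¹) = g * (z * v) * g⁻¹ := by group
      _ = g * (v * z) * g⁻¹ := by rw [C.WG_comm (C.AG_le_WG hz) hv]
      _ = _ := by group
  obtain ⟨k, hk, hkz, -⟩ := C.centralizer_prime_inf hℓ hd (by rw [C.orderOf_conj, hzo]) hza
  refine ⟨k * g, C.ti_AG hm z hz hz1 _ ?_, ?_⟩
  · rwa [show k * g * z * (k * g)⁻¹ = k * (g * z * g⁻¹) * k⁻¹ by group]
  · rw [show k * g * v * (k * g)⁻¹ = k * (g * v * g⁻¹) * k⁻¹ by group, hg, hk.eq,
      mul_inv_cancel_right]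

theorem card_normalizer_inf (hm : 1 ≤ m) :
    Nat.card {g : RG K m // g ∈ Subgroup.normalizer (C.AG : Set (RG K m)) ∧ Commute g C.aG} =
      2 * (qq m + 1) := by
  rw [Nat.card_congr (Equiv.subtypeEquivRight (q := fun g : RG K m => g ∈
      ((⊤ : Subgroup Z2).prod (Subgroup.normalizer (C.Ut : Set (P2 K)))).map C.Φc) fun g => ?_),
    Subgroup.card_map_of_injective C.Φc_inj, Nat.card_congr (Subgroup.prodEquiv _ _).toEquiv,
    Nat.card_prod, Subgroup.card_top, Nat.card_congr Multiplicative.toAdd, Nat.card_zmod,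
    C.Ut_spec.2.2.2.2.1.2.1]
  rw [← C.normalizer_WG hm]
  constructor
  · rintro ⟨hg, hga⟩
    obtain ⟨⟨z, y⟩, rfl⟩ := C.exists_of_commute hga
    refine ⟨(z, y), ⟨Subgroup.mem_top _, ReeCount.eq_of_conj_le fun u hu => ?_⟩, rfl⟩
    have := (Subgroup.mem_normalizer_iff.mp hg _).mp (C.mem_WG.mpr ⟨1, u, hu, rfl⟩)
    rw [← map_inv, ← map_mul, ← map_mul] at this
    obtain ⟨z', u', hu', e⟩ := C.mem_WG.mp this
    have h2 := congrArg Prod.snd (C.Φc_inj e)
    simp only [Prod.inv_mk, Prod.mk_mul_mk] at h2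
    rw [← h2]
    exact hu'
  · rintro ⟨⟨z, y⟩, ⟨-, hy⟩, rfl⟩
    refine ⟨ReeCount.eq_of_conj_le fun w hw => ?_, C.commute_Φc _⟩
    obtain ⟨z', u, hu, rfl⟩ := C.mem_WG.mp hw
    rw [← map_inv, ← map_mul, ← map_mul]
    exact C.mem_WG.mpr ⟨_, _, (Subgroup.mem_normalizer_iff.mp hy u).mp hu, rfl⟩

theorem card_normalizer_AG (hm : 1 ≤ m) :
    Nat.card (Subgroup.normalizer (C.AG : Set (RG K m))) = 6 * (qq m + 1) := by
  classical
  set N := Subgroup.normalizer (C.AG : Set (RG K m)) with hN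
  choose hh hhN hhv using fun v : {g : RG K m // g ∈ C.WG ∧ g * g = 1 ∧ g ≠ 1} =>
    C.exists_conj_involution hm v.2.1 v.2.2.1 v.2.2.2
  let f : {g : RG K m // g ∈ C.WG ∧ g * g = 1 ∧ g ≠ 1} ×
      {g : RG K m // g ∈ N ∧ Commute g C.aG} → N :=
    fun p => ⟨(p.2 : RG K m) * hh p.1, mul_mem p.2.2.1 (hhN p.1)⟩
  have hv : ∀ (p : {g : RG K m // g ∈ C.WG ∧ g * g = 1 ∧ g ≠ 1} ×
      {g : RG K m // g ∈ N ∧ Commute g C.aG}),
      (f p : RG K m)⁻¹ * C.aG * (f p : RG K m) = p.1 := fun p => by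
    show ((p.2 : RG K m) * hh p.1)⁻¹ * C.aG * ((p.2 : RG K m) * hh p.1) = p.1
    calc ((p.2 : RG K m) * hh p.1)⁻¹ * C.aG * ((p.2 : RG K m) * hh p.1)
        = (hh p.1)⁻¹ * ((p.2 : RG K m)⁻¹ * (C.aG * p.2)) * hh p.1 := by group
      _ = (hh p.1)⁻¹ * C.aG * hh p.1 := by rw [← p.2.2.2.eq, inv_mul_cancel_left]
      _ = (hh p.1)⁻¹ * (hh p.1 * (p.1 : RG K m) * (hh p.1)⁻¹) * hh p.1 :=
        congrArg (fun x => (hh p.1)⁻¹ * x * hh p.1) (hhv p.1).symm
      _ = p.1 := by group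
  have hf : Function.Bijective f := by
    refine ⟨fun p p' e => ?_, fun ⟨h, hhmem⟩ => ?_⟩
    · have h1 : p.1 = p'.1 := Subtype.ext (by rw [← hv p, ← hv p', e])
      refine Prod.ext h1 (Subtype.ext ?_)
      have e' : (p.2 : RG K m) * hh p.1 = (p'.2 : RG K m) * hh p'.1 := congrArg Subtype.val e
      rw [h1] at e'
      exact mul_right_cancel e'
    · have hW : h ∈ Subgroup.normalizer (C.WG : Set (RG K m)) := by rwa [C.normalizer_WG hm]
      have haW : C.aG ∈ C.WG := C.mem_WG.mpr ⟨_, 1, one_mem _, C.Φc_a⟩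
      have hv2 : h⁻¹ * C.aG * h ∈ C.WG := by
        have := (Subgroup.mem_normalizer_iff.mp (inv_mem hW) _).mp haW
        rwa [inv_inv] at this
      let v : {g : RG K m // g ∈ C.WG ∧ g * g = 1 ∧ g ≠ 1} := ⟨h⁻¹ * C.aG * h, hv2, by
        rw [show h⁻¹ * C.aG * h * (h⁻¹ * C.aG * h) = h⁻¹ * (C.aG * C.aG) * h by group, C.aG_sq]
        group, fun e => C.aG_ne_one (by
          rw [show C.aG = h * (h⁻¹ * C.aG * h) * h⁻¹ by group, e]; group)⟩
      refine ⟨(v, ⟨h * (hh v)⁻¹, mul_mem hhmem (inv_mem (hhN v)), ?_⟩), Subtype.ext ?_⟩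
      · refine mul_inv_eq_iff_eq_mul.mp ?_
        calc h * (hh v)⁻¹ * C.aG * (h * (hh v)⁻¹)⁻¹
            = h * ((hh v)⁻¹ * C.aG * hh v) * h⁻¹ := by group
          _ = h * ((hh v)⁻¹ * (hh v * (v : RG K m) * (hh v)⁻¹) * hh v) * h⁻¹ :=
            congrArg (fun x => h * ((hh v)⁻¹ * x * hh v) * h⁻¹) (hhv v).symm
          _ = h * (v : RG K m) * h⁻¹ := by group
          _ = C.aG := by show h * (h⁻¹ * C.aG * h) * h⁻¹ = C.aG; group
      · show h * (hh v)⁻¹ * hh v = h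
        group
  rw [← Nat.card_eq_of_bijective f hf, Nat.card_prod, C.card_WG_involutions,
    C.card_normalizer_inf hm]
  ring

end Ctx

end CfsgLib.Chev.G2Tw
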