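import Cfsg.Agent.Chev.Full

/-!
Reflections in fundamental roots and the elements `n_p(t)`, `h_p(c)` as matrices.
-/

set_option autoImplicit false

namespace CfsgLib.Chev

open Cfsg.Lie Matrix

namespace Tab

variable {D : ChevalleyDatum}

namespace Full

variable {T : Tab D} (H : T.Full)
include H

theorem node_spec {i : ℕ} (hi : i < D.rank) :
    D.simple i < D.nroots ∧ T.ht (D.simple i) = 1 ∧ T.cart i (D.simple i) = 2 ∧
      T.sgn i (D.simple i) = -1 ∧
      (∀ j < D.rank, T.cor (D.simple i) j = (if j = i then 1 else 0) ∧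
        ∀ b, coeff (T.colN i (D.nroots + j)) b =
          coeff [(D.nroots + j, 1), (D.nroots + i, -(T.cart j (D.simple i)))] b) ∧
      ∀ s < D.nroots, T.chkRefl i s = true := by
  have h := H.node i hi
  simp only [chkNode, Bool.and_eq_true, allBelow_iff, decide_eq_true_eq, Nat.blt_eq, veq_iff] at h
  refine ⟨h.1.1.1.1.1, h.1.1.1.1.2, h.1.1.1.2, h.1.1.2, fun j hj => ?_, h.2⟩
  obtain ⟨h1, h2⟩ := h.1.2 j hj
  refine ⟨?_, h2⟩
  rw [h1]
  by_cases e : j = i
  · simp [beq_true e, e]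
  · simp [beq_false e, e]

theorem simple_lt {i : ℕ} (hi : i < D.rank) : D.simple i < D.nroots := (H.node_spec hi).1

theorem reflT_spec {i s : ℕ} (hi : i < D.rank) (hs : s < D.nroots) :
    T.reflT i s < D.nroots ∧ T.reflT i (T.reflT i s) = s ∧
      T.reflT i (negR D s) = negR D (T.reflT i s) ∧
      T.ht (T.reflT i s) = T.ht s - T.cart i s ∧
      (∀ j < D.rank, T.cart j (T.reflT i s) = T.cart j s - T.cart i s * T.cart j (D.simple i) ∧
        T.cor (T.reflT i s) j = T.cor s j - (if j = i then T.pairT s (D.simple i) else 0)) ∧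
      T.colN i s = [(T.reflT i s, T.sgn i s)] ∧ (T.sgn i s = 1 ∨ T.sgn i s = -1) ∧
      T.sgn i s * T.sgn i (T.reflT i s) = (-1) ^ (T.cart i s).natAbs ∧
      T.sgn i s * T.sgn i (negR D s) = 1 ∧
      (s ≠ D.simple i → s ≠ negR D (D.simple i) → (0 < T.ht s ↔ 0 < T.ht (T.reflT i s))) := by
  have h := (H.node_spec hi).2.2.2.2.2 s hs
  simp only [chkRefl, chkReflAux, Bool.and_eq_true, Bool.or_eq_true, allBelow_iff,
    decide_eq_true_eq, Nat.blt_eq, Nat.beq_eq] at h
  obtain ⟨⟨⟨⟨⟨⟨⟨⟨⟨h1, h2⟩, h3⟩, h4⟩, h5⟩, h6⟩, h7⟩, h8⟩, h9⟩, h10⟩ := h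
  refine ⟨h1, h2, h3, h4, fun j hj => ⟨(h5 j hj).1, ?_⟩, h6, h7, h8, h9, ?_⟩
  · rw [(h5 j hj).2]
    by_cases e : j = i
    · simp [beq_true e, e]
    · simp [beq_false e, e]
  · intro a b
    rcases h10 with (h | h) | h
    · exact absurd h a
    · exact absurd h b
    · exact h

theorem reflectRoot_eq {i s : ℕ} (hi : i < D.rank) (hs : s < D.nroots) :
    D.reflectRoot i s = T.reflT i s := by
  have hp := H.simple_lt hi
  simp only [ChevalleyDatum.reflectRoot, reflT, H.cert.neg_eq hp, H.cert.cartan_eq hi hs,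
    H.cert.chainRoot_eq (Cert.negR_lt hp) hs, H.cert.chainRoot_eq hp hs]

theorem simple_reflect {i : ℕ} (hi : i < D.rank) :
    T.reflT i (D.simple i) = negR D (D.simple i) := by simp [reflT]

theorem neg_simple_reflect {i : ℕ} (hi : i < D.rank) :
    T.reflT i (negR D (D.simple i)) = D.simple i := by
  simp [reflT, H.cert.negR_ne (H.simple_lt hi)]

end Full

/-! ### The integral matrix `n_p(1)` and scalar versions -/

/-- `x_p(1) x_{-p}(-1) x_p(1)`. -/
def NZ (T : Tab D) (R : Type*) [CommRing R] (i : ℕ) : Matrix D.Idx D.Idx R :=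
  T.X R (D.simple i) 1 * T.X R (negR D (D.simple i)) (-1) * T.X R (D.simple i) 1

/-- `x_p(-1) x_{-p}(1) x_p(-1)`. -/
def NZ' (T : Tab D) (R : Type*) [CommRing R] (i : ℕ) : Matrix D.Idx D.Idx R :=
  T.X R (D.simple i) (-1) * T.X R (negR D (D.simple i)) 1 * T.X R (D.simple i) (-1)

/-- The matrix `n_{p_i}(t)` for a unit `t`. -/
def NX (T : Tab D) {R : Type*} [CommRing R] (i : ℕ) (t : Rˣ) : Matrix D.Idx D.Idx R :=
  T.X R (D.simple i) t * T.X R (negR D (D.simple i)) (-((t⁻¹ : Rˣ) : R)) * T.X R (D.simple i) t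

/-- The diagonal matrix of a weight function and a unit. -/
def diagW {R : Type*} [CommRing R] (w : ℕ → ℤ) (c : Rˣ) : Matrix D.Idx D.Idx R :=
  Matrix.diagonal fun b : D.Idx => ((c ^ w (code b) : Rˣ) : R)

theorem diagW_mul {R : Type*} [CommRing R] (w : ℕ → ℤ) (c d : Rˣ) :
    (diagW w c * diagW w d : Matrix D.Idx D.Idx R) = diagW w (c * d) := by
  simp [diagW, Matrix.diagonal_mul_diagonal, mul_zpow]

theorem diagW_one {R : Type*} [CommRing R] (w : ℕ → ℤ) :
    (diagW w 1 : Matrix D.Idx D.Idx R) = 1 := by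
  simp [diagW, Matrix.diagonal_one]

namespace Full

variable {T : Tab D} (H : T.Full)
include H

theorem NZ_mul_NZ' {R : Type*} [CommRing R] {i : ℕ} (hi : i < D.rank) :
    T.NZ R i * T.NZ' R i = 1 := by
  have hp := H.simple_lt hi
  have hm := Cert.negR_lt (D := D) hp
  unfold NZ NZ'
  simp only [mul_assoc]
  rw [← mul_assoc (T.X R (D.simple i) 1) (T.X R (D.simple i) (-1)), H.cert.X_mul_neg hp, one_mul,
    ← mul_assoc (T.X R (negR D (D.simple i)) (-1)), H.cert.X_neg_mul hm, one_mul,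
    H.cert.X_mul_neg hp]

theorem NZ'_mul_NZ {R : Type*} [CommRing R] {i : ℕ} (hi : i < D.rank) :
    T.NZ' R i * T.NZ R i = 1 := by
  have hp := H.simple_lt hi
  have hm := Cert.negR_lt (D := D) hp
  unfold NZ NZ'
  simp only [mul_assoc]
  rw [← mul_assoc (T.X R (D.simple i) (-1)) (T.X R (D.simple i) 1), H.cert.X_neg_mul hp, one_mul,
    ← mul_assoc (T.X R (negR D (D.simple i)) 1), H.cert.X_mul_neg hm, one_mul,
    H.cert.X_neg_mul hp]

theorem NZ_apply {i : ℕ} (hi : i < D.rank) (x y : D.Idx) :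
    T.NZ ℤ i x y = coeff (T.colN i (code y)) (code x) := by
  have hp := H.simple_lt hi
  have hm := Cert.negR_lt (D := D) hp
  set fs : List (ℕ × ℤ × ℕ × ℕ) :=
    [(D.simple i, 1, 0, 0), (negR D (D.simple i), -1, 0, 0), (D.simple i, 1, 0, 0)] with hfs
  have hlt : ∀ f ∈ fs, f.1 < D.nroots := by
    intro f hf
    simp only [hfs, List.mem_cons, List.not_mem_nil, or_false] at hf
    rcases hf with rfl | rfl | rfl <;> assumption
  have h := congrFun (H.cert.pcol_spec (1 : ℤ) 1 fs hlt y).2 x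
  rw [Matrix.mulVec_single_one] at h
  have e : wordX T (fs.map (fval (1 : ℤ) 1)) = T.NZ ℤ i := by
    simp [hfs, wordX, fval, NZ, mul_assoc]
  rw [e] at h
  rw [Matrix.col_apply] at h
  rw [← h, colN]
  simp only [peval, one_pow, mul_one, Int.cast_id]
  induction T.pcol fs (code y) with
  | nil => simp [coeff]
  | cons q L ih =>
    by_cases hq : q.2 = 0
    · simp only [List.map_cons, List.sum_cons, List.filter_cons, hq, ne_eq, not_true_eq_false,
        decide_false, Bool.false_eq_true, if_false, ite_self, zero_add]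
      exact ih
    · simp only [List.map_cons, List.sum_cons, List.filter_cons, hq, ne_eq, not_false_eq_true,
        decide_true, if_true, coeff_cons, ih]

theorem NZ_root {i : ℕ} (hi : i < D.rank) (s : Fin D.nroots) (x : D.Idx) :
    T.NZ ℤ i x (Sum.inr s) = if code x = T.reflT i s then T.sgn i s else 0 := by
  rw [H.NZ_apply hi, code_inr, (H.reflT_spec hi s.isLt).2.2.2.2.2.1, coeff_cons, coeff_nil,
    add_zero]
  exact if_congr eq_comm rfl rfl

theorem NZ_h {i : ℕ} (hi : i < D.rank) (j : Fin D.rank) (x : D.Idx) :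
    T.NZ ℤ i x (Sum.inl j) = (if x = Sum.inl j then 1 else 0) -
      if code x = D.nroots + i then T.cart j (D.simple i) else 0 := by
  rw [H.NZ_apply hi, code_inl, ((H.node_spec hi).2.2.2.2.1 j j.isLt).2, coeff_cons, coeff_cons,
    coeff_nil, add_zero]
  have e1 : (if D.nroots + j.val = code x then (1 : ℤ) else 0) = if x = Sum.inl j then 1 else 0 :=
    if_congr ⟨fun e => code_injective (e.symm.trans (code_inl j).symm), fun e => by rw [e, code_inl]⟩
      rfl rfl
  rw [e1, sub_eq_add_neg]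
  congr 1
  by_cases e : code x = D.nroots + i
  · simp [e]
  · simp [e, Ne.symm e]

omit H in
theorem NZ_map {R : Type*} [CommRing R] (i : ℕ) :
    (Int.castRingHom R).mapMatrix (T.NZ ℤ i) = T.NZ R i := by
  simp only [NZ, map_mul, Cert.X_map, map_neg, map_one]

/-- `n_p(1)` maps `ad e_s` to `η_s ad e_{w s}`. -/
theorem NZ_conj {i : ℕ} (hi : i < D.rank) (s : Fin D.nroots) :
    T.NZ ℤ i * T.A 1 s = (T.sgn i s • T.A 1 (T.reflT i s)) * T.NZ ℤ i := by
  have hp := H.simple_lt hi
  have hm := Cert.negR_lt (D := D) hp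
  have hk := (H.reflT_spec hi s.isLt).1
  have h : ∀ v : D.Idx → ℤ, T.NZ ℤ i * T.ADR v = T.ADR (T.NZ ℤ i *ᵥ v) * T.NZ ℤ i := by
    intro v
    unfold NZ
    rw [← Matrix.mulVec_mulVec, ← Matrix.mulVec_mulVec]
    simp only [mul_assoc]
    rw [H.cert.X_mul_ADR hp, ← mul_assoc (T.X ℤ (negR D (D.simple i)) (-1)),
      H.cert.X_mul_ADR hm, mul_assoc, ← mul_assoc (T.X ℤ (D.simple i) 1),
      H.cert.X_mul_ADR hp, mul_assoc]
  have hadR : ∀ k : Fin D.nroots, T.adR ℤ (Sum.inr k) = T.A 1 k := by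
    intro k
    rw [adR, T.adM_inr]
    rfl
  have h1 := h (Pi.single (Sum.inr s) 1)
  rw [T.ADR_single, one_smul, hadR] at h1
  have e : T.NZ ℤ i *ᵥ Pi.single (Sum.inr s) 1 =
      Pi.single (Sum.inr ⟨_, hk⟩) (T.sgn i s) := by
    rw [Matrix.mulVec_single_one]
    funext x
    rw [Matrix.col_apply, H.NZ_root hi, Pi.single_apply]
    exact if_congr ⟨fun e => code_injective (e.trans (code_inr (D := D) ⟨_, hk⟩).symm),
      fun e => by rw [e, code_inr]⟩ rfl rfl
  rw [e, T.ADR_single, hadR] at h1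
  exact h1

theorem NZ_mul_X {R : Type*} [CommRing R] {i s : ℕ} (hi : i < D.rank) (hs : s < D.nroots)
    (u : R) :
    T.NZ R i * T.X R s u = T.X R (T.reflT i s) ((T.sgn i s : R) * u) * T.NZ R i := by
  have h := H.cert.conj_X_of_int (R := R) (T.NZ ℤ i) (T.NZ' ℤ i) (H.NZ'_mul_NZ hi) hs
    (H.reflT_spec hi hs).1 (T.sgn i s) (H.NZ_conj hi ⟨s, hs⟩) u
  rwa [NZ_map] at h

theorem gr_simple {i : ℕ} (hi : i < D.rank) : T.gr (D.simple i) = 1 := by
  rw [T.gr_root (H.simple_lt hi), (H.node_spec hi).2.1]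

theorem gr_negR {r : ℕ} (hr : r < D.nroots) : T.gr (negR D r) = - T.gr r :=
  H.cert.isAdd_gr.neg r hr

/-- `n_p(t)` is a conjugate of `n_p(1)` by a diagonal matrix. -/
theorem NX_diag {R : Type*} [CommRing R] {i : ℕ} (hi : i < D.rank) (t : Rˣ) :
    T.NX i t * diagW T.gr t = diagW T.gr t * T.NZ R i := by
  have hp := H.simple_lt hi
  have hm := Cert.negR_lt (D := D) hp
  have e1 : ∀ u : R, diagW T.gr t * T.X R (D.simple i) u =
      T.X R (D.simple i) ((t : R) * u) * diagW T.gr t := by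
    intro u
    rw [diagW, H.cert.diag_mul_X H.cert.isAdd_gr t hp, H.gr_simple hi, zpow_one]
  have e2 : ∀ u : R, diagW T.gr t * T.X R (negR D (D.simple i)) u =
      T.X R (negR D (D.simple i)) (((t⁻¹ : Rˣ) : R) * u) * diagW T.gr t := by
    intro u
    rw [diagW, H.cert.diag_mul_X H.cert.isAdd_gr t hm, H.gr_negR hp, H.gr_simple hi,
      _root_.zpow_neg_one]
  unfold NZ NX
  simp only [mul_assoc]
  symm
  rw [← mul_assoc (diagW T.gr t), e1, mul_assoc, ← mul_assoc (diagW T.gr t), e2, mul_assoc, e1,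
    mul_one, mul_neg_one]

theorem NX_eq {R : Type*} [CommRing R] {i : ℕ} (hi : i < D.rank) (t : Rˣ) :
    T.NX i t = diagW T.gr t * T.NZ R i * diagW T.gr t⁻¹ := by
  rw [← H.NX_diag hi t, mul_assoc, diagW_mul, mul_inv_cancel, diagW_one, mul_one]

theorem NX_apply {R : Type*} [CommRing R] {i : ℕ} (hi : i < D.rank) (t : Rˣ) (x y : D.Idx) :
    T.NX i t x y = ((t ^ (T.gr (code x) - T.gr (code y)) : Rˣ) : R) * (T.NZ ℤ i x y : R) := by
  rw [H.NX_eq hi, diagW, diagW, Matrix.mul_diagonal, Matrix.diagonal_mul, ← NZ_map (T := T)]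
  show _ * ((T.NZ ℤ i x y : ℤ) : R) * _ = _
  rw [sub_eq_add_neg, _root_.zpow_add, _root_.inv_zpow', Units.val_mul]
  ring

theorem NX_root {R : Type*} [CommRing R] {i : ℕ} (hi : i < D.rank) (t : Rˣ) (s : Fin D.nroots)
    (x : D.Idx) :
    T.NX i t x (Sum.inr s) =
      if code x = T.reflT i s then ((t ^ (-(T.cart i s)) : Rˣ) : R) * (T.sgn i s : R) else 0 := by
  rw [H.NX_apply hi, H.NZ_root hi]
  split_ifs with h
  · obtain ⟨hk, -, -, hht, -⟩ := H.reflT_spec hi s.isLt
    rw [h, code_inr, T.gr_root hk, T.gr_root s.isLt, hht,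
      show T.ht s - T.cart i s - T.ht s = -(T.cart i s) by ring]
  · simp

theorem NX_h {R : Type*} [CommRing R] {i : ℕ} (hi : i < D.rank) (t : Rˣ) (j : Fin D.rank)
    (x : D.Idx) :
    T.NX i t x (Sum.inl j) = (if x = Sum.inl j then 1 else 0) -
      if code x = D.nroots + i then (T.cart j (D.simple i) : R) else 0 := by
  rw [H.NX_apply hi, H.NZ_h hi, code_inl]
  by_cases h : D.nroots ≤ code x
  · rw [T.gr_h h, T.gr_h (Nat.le_add_right _ _)]
    split_ifs <;> simp
  · have h1 : x ≠ Sum.inl j := by rintro rfl; exact h (Nat.le_add_right _ _)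
    have h2 : code x ≠ D.nroots + i := by omega
    simp [h1, h2]

theorem NX_sq {R : Type*} [CommRing R] {i : ℕ} (hi : i < D.rank) (t : Rˣ) :
    T.NX i t * T.NX i (-1) =
      Matrix.diagonal (fun b : D.Idx => ((t ^ T.wt i (code b) : Rˣ) : R)) := by
  have hij : code (Sum.inl ⟨i, hi⟩ : D.Idx) = D.nroots + i := code_inl _
  ext x y
  rw [Matrix.mul_apply]
  rcases y with j | s
  · have hy : (Matrix.diagonal (fun b : D.Idx => ((t ^ T.wt i (code b) : Rˣ) : R))) x (Sum.inl j) =
        if x = Sum.inl j then 1 else 0 := by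
      rcases eq_or_ne x (Sum.inl j) with h | h
      · subst h; simp [T.wt_h (Nat.le_add_right D.nroots j.val), code_inl]
      · simp [h, Matrix.diagonal_apply_ne _ h]
    rw [hy]
    simp only [H.NX_h hi (-1) j]
    have hsel : ∀ k : D.Idx, (if code k = D.nroots + i then (T.cart j (D.simple i) : R) else 0) =
        if k = Sum.inl ⟨i, hi⟩ then (T.cart j (D.simple i) : R) else 0 := fun k =>
      if_congr ⟨fun e => code_injective (e.trans hij.symm), fun e => e ▸ hij⟩ rfl rfl
    simp only [hsel, mul_sub, Finset.sum_sub_distrib, mul_ite, mul_zero, mul_one,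
      Finset.sum_ite_eq', Finset.mem_univ, if_true, H.NX_h hi t j, H.NX_h hi t ⟨i, hi⟩]
    rw [(H.node_spec hi).2.2.1]
    by_cases hxi : x = Sum.inl ⟨i, hi⟩
    · subst hxi
      simp only [if_true, hij]
      push_cast
      ring
    · have hne : code x ≠ D.nroots + i := fun e => hxi (code_injective (e.trans hij.symm))
      simp only [hxi, hne, if_false]
      simp
  · obtain ⟨hk, hinv, -, -, hcart, -, hsgn, hmul, -⟩ := H.reflT_spec hi s.isLt
    have hcode : code (Sum.inr ⟨_, hk⟩ : D.Idx) = T.reflT i s := code_inr _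
    rw [Finset.sum_eq_single (Sum.inr ⟨_, hk⟩)]
    · rw [H.NX_root hi t, H.NX_root hi (-1), if_pos hcode]
      simp only [hinv]
      rcases eq_or_ne x (Sum.inr s) with h | h
      · subst h
        rw [if_pos (code_inr s), Matrix.diagonal_apply_eq, code_inr, T.wt_root s.isLt,
          (hcart i hi).1, (H.node_spec hi).2.2.1]
        have e2 : -(T.cart i s - T.cart i s * 2) = T.cart i s := by ring
        rw [e2]
        have hsq : ((((-1 : Rˣ)) ^ (-T.cart i s) : Rˣ) : R) *
            (((T.sgn i s : ℤ) : R) * ((T.sgn i (T.reflT i s) : ℤ) : R)) = 1 := by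
          rw [← Int.cast_mul, hmul, Int.cast_pow, Int.cast_neg, Int.cast_one]
          have hn := Int.natAbs_eq (T.cart i s)
          generalize (T.cart i s).natAbs = n at hn ⊢
          rcases hn with e | e <;> rw [e]
          · rw [_root_.zpow_neg, zpow_natCast, ← inv_pow, inv_neg_one, Units.val_pow_eq_pow_val,
              Units.val_neg, Units.val_one, ← mul_pow, neg_one_mul, neg_neg, one_pow]
          · rw [neg_neg, zpow_natCast, Units.val_pow_eq_pow_val, Units.val_neg, Units.val_one,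
              ← mul_pow, neg_one_mul, neg_neg, one_pow]
        linear_combination ((t ^ T.cart i s : Rˣ) : R) * hsq
      · rw [if_neg fun e => h (code_injective (e.trans (code_inr s).symm)),
          Matrix.diagonal_apply_ne _ h, zero_mul]
    · intro k _ hk'
      rw [H.NX_root hi (-1), if_neg fun e => hk' (code_injective (e.trans hcode.symm)), mul_zero]
    · intro h; exact absurd (Finset.mem_univ _) h

end Full

end Tab

end CfsgLib.Chev
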