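import Cfsg.Agent.Chev.RootMap
import Cfsg.Agent.Chev.CoxeterW
import Cfsg.Agent.Chev.GoodAll
import Cfsg.Prelude.Def_ChevAutomorphisms

/-! Pairs of conjugates of a central root subgroup in characteristic two. -/

set_option autoImplicit false

namespace CfsgLib.Chev

open Cfsg.Lie
open scoped MatrixGroups

namespace Tab

variable {D : ChevalleyDatum}

/-- The commutator of `x_r` and `x_m` is trivial or a single root element commuting with both. -/
def chkShort (T : Tab D) (m r : ℕ) : Bool :=
  match T.commT r m with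
  | [] => true
  | [c] => T.chkCommute 2 c.1 r && T.chkCommute 2 c.1 m
  | _ => false

/-- A set of roots stable under the reflections, containing `m` (whose root subgroup is central
in the positive ones), where every root not opposite to `m` pairs shortly with `m`. -/
def chkPairs (T : Tab D) (m : ℕ) (P : ℕ → Bool) : Bool :=
  P m && allBelow (fun r => !(P r) || (allBelow (fun i => P (T.reflT i r)) D.rank &&
    (Nat.beq r (negR D m) || Nat.beq r m || T.chkShort m r))) D.nroots &&
  allBelow (fun y => Nat.blt (Nat.mul 2 y) D.nroots || T.chkCommute 2 m y) D.nroots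

namespace Good

variable {T : Tab D} (G : T.Good) {F : Type*} [Field F]
include G

theorem rootSubgroup_eq_US (r : ℕ) : D.rootSubgroup F r = G.US F {r} := by
  simp only [ChevalleyDatum.rootSubgroup, Good.US, Set.mem_singleton_iff, exists_eq_left,
    G.full.eq_x]

theorem mem_rootSubgroup {r : ℕ} {g : GL D.Idx F} :
    g ∈ D.rootSubgroup F r ↔ ∃ t, g = G.full.x r t := by
  rw [G.rootSubgroup_eq_US]
  refine ⟨fun h => G.mem_X (r := r) h, fun h => ?_⟩
  obtain ⟨t, rfl⟩ := h
  exact G.x_mem_US (S := {r}) (Set.mem_singleton r) t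

theorem rootSubgroup_two (h2 : (2 : F) = 0) (r : ℕ) : IsPGroup 2 ↥(D.rootSubgroup F r) := by
  rintro ⟨g, hg⟩
  obtain ⟨t, rfl⟩ := G.mem_rootSubgroup.mp hg
  refine ⟨1, Subtype.ext ?_⟩
  show G.full.x r t ^ 2 ^ 1 = 1
  rw [pow_one, pow_two, G.full.x_add, ← two_mul, h2, zero_mul, G.full.x_zero]

theorem pw_mem_of_stable {P : ℕ → Bool}
    (hP : ∀ r < D.nroots, P r = true → ∀ i < D.rank, P (T.reflT i r) = true)
    (L : List (Fin D.rank)) (s : Fin D.nroots) (hs : P s.val = true) :
    P (G.full.pw L s).val = true := by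
  induction L with
  | nil => exact hs
  | cons i L ih =>
    have e : (G.full.pw (i :: L) s).val = T.reflT i.val (G.full.pw L s).val := by
      rw [G.pw_apply, G.pw_apply]; rfl
    rw [e]
    exact hP _ (Fin.isLt _) ih _ i.isLt

/-- Root subgroups whose commutators are central generate a 2-group. -/
theorem short_pair [Finite F] (h2 : (2 : F) = 0) {m r : ℕ} (hm : m < D.nroots) (hr : r < D.nroots)
    (hne : m ≠ r) (hneg : m ≠ negR D r) (h : T.chkShort m r = true) :
    IsPGroup 2 ↥(D.rootSubgroup F m ⊔ D.rootSubgroup F r) := by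
  set A := D.rootSubgroup F m with hA
  set B := D.rootSubgroup F r with hB
  obtain ⟨C, hC2, hCA, hCB, hcomm⟩ : ∃ C : Subgroup (GL D.Idx F), IsPGroup 2 C ∧
      (∀ c ∈ C, ∀ a ∈ A, a * c = c * a) ∧ (∀ c ∈ C, ∀ b ∈ B, b * c = c * b) ∧
      ∀ t u : F, (G.full.x r t)⁻¹ * G.full.x m u * G.full.x r t ∈
        A ⊔ C := by
    have e : ∀ t u : F, (G.full.x r t)⁻¹ * G.full.x m u * G.full.x r t = G.full.x m u *
        ((rhsWord (T.commT r m) t u).map fun q => G.full.x q.1 q.2).prod := by
      intro t u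
      have e1 := G.full.x_comm hr hm hne hneg t u
      rw [G.full.cert.commWord_eq hr hm] at e1
      rw [mul_assoc, e1]
      group
    have hp : ((2 : ℕ) : F) = 0 := by exact_mod_cast h2
    rcases hl : T.commT r m with _ | ⟨c, _ | ⟨d, l⟩⟩
    · refine ⟨⊥, IsPGroup.of_bot, ?_, ?_, fun t u => ?_⟩
      · simp
      · simp
      · rw [e, hl]
        simpa [rhsWord] using Subgroup.mem_sup_left (T := ⊥) (G.mem_rootSubgroup.mpr ⟨u, rfl⟩)
    · simp only [chkShort, hl, Bool.and_eq_true] at h
      refine ⟨D.rootSubgroup F c.1, G.rootSubgroup_two h2 _, ?_, ?_, fun t u => ?_⟩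
      · intro x hx a ha
        obtain ⟨v, rfl⟩ := G.mem_rootSubgroup.mp hx
        obtain ⟨w, rfl⟩ := G.mem_rootSubgroup.mp ha
        exact (G.x_commute hp h.2 v w).eq.symm
      · intro x hx a ha
        obtain ⟨v, rfl⟩ := G.mem_rootSubgroup.mp hx
        obtain ⟨w, rfl⟩ := G.mem_rootSubgroup.mp ha
        exact (G.x_commute hp h.1 v w).eq.symm
      · rw [e, hl]
        simp only [rhsWord, List.map_cons, List.map_nil, List.prod_cons, List.prod_nil, mul_one]
        exact mul_mem (Subgroup.mem_sup_left (G.mem_rootSubgroup.mpr ⟨u, rfl⟩))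
          (Subgroup.mem_sup_right (G.mem_rootSubgroup.mpr ⟨_, rfl⟩))
    · simp [chkShort, hl] at h
  have hAC : IsPGroup 2 ↥(A ⊔ C) :=
    (G.rootSubgroup_two h2 m).to_sup_of_normal_left' hC2 fun c hc => by
      rw [Subgroup.mem_normalizer_iff]
      intro a
      constructor <;> intro ha
      · rwa [← hCA c hc a ha, mul_inv_cancel_right]
      · have h' := hCA c hc _ ha
        have e1 : c * a = c * (c * a * c⁻¹) := by
          rw [← h']; group
        rwa [← mul_left_cancel e1] at ha
  have hN : B ≤ Subgroup.normalizer (A ⊔ C : Subgroup (GL D.Idx F)) := by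
    have key : ∀ b ∈ B, ∀ x ∈ A ⊔ C, b⁻¹ * x * b ∈ A ⊔ C := by
      intro b hb x hx
      have hle : A ⊔ C ≤ (A ⊔ C).comap (MulAut.conj b⁻¹).toMonoidHom := by
        refine sup_le (fun a ha => ?_) fun c hc => ?_
        · show b⁻¹ * a * b⁻¹⁻¹ ∈ A ⊔ C
          obtain ⟨u, rfl⟩ := G.mem_rootSubgroup.mp ha
          obtain ⟨t, rfl⟩ := G.mem_rootSubgroup.mp hb
          rw [inv_inv]
          exact hcomm t u
        · show b⁻¹ * c * b⁻¹⁻¹ ∈ A ⊔ C
          rw [inv_inv, mul_assoc, ← hCB c hc b hb, inv_mul_cancel_left]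
          exact Subgroup.mem_sup_right hc
      have := hle hx
      rwa [Subgroup.mem_comap, show (MulAut.conj b⁻¹).toMonoidHom x = b⁻¹ * x * b⁻¹⁻¹ from rfl,
        inv_inv] at this
    intro b hb
    rw [Subgroup.mem_normalizer_iff]
    intro x
    constructor <;> intro hx
    · simpa using key b⁻¹ (inv_mem hb) x hx
    · have := key b hb _ hx
      simpa [mul_assoc] using this
  refine (IsPGroup.to_sup_of_normal_right' (G.rootSubgroup_two h2 r) hAC hN).to_le ?_
  exact sup_le (le_trans le_sup_left le_sup_right) le_sup_left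

/-- `X ⊔ gXg⁻¹` is a 2-group or conjugate to `X ⊔ X_{-m}`. -/
theorem pairs_dichotomy [Finite F] (h2 : (2 : F) = 0) {m : ℕ} (hmp : IsPos D m) {P : ℕ → Bool}
    (h : T.chkPairs m P = true) {g : GL D.Idx F} (hg : g ∈ D.group F) :
    IsPGroup 2 ↥(D.rootSubgroup F m ⊔
        (D.rootSubgroup F m).map (MulAut.conj g).toMonoidHom) ∨
      ∃ k ∈ D.group F, (D.rootSubgroup F m ⊔
          (D.rootSubgroup F m).map (MulAut.conj g).toMonoidHom).map (MulAut.conj k).toMonoidHom =
        D.rootSubgroup F m ⊔ D.rootSubgroup F (negR D m) := by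
  simp only [chkPairs, Bool.and_eq_true, allBelow_iff, Bool.or_eq_true, Bool.not_eq_true',
    Nat.blt_eq] at h
  obtain ⟨⟨hm, hP⟩, hc⟩ := h
  have hp : ((2 : ℕ) : F) = 0 := by exact_mod_cast h2
  set X := D.rootSubgroup F m with hX
  -- `B` normalises `X`, `U` centralises it
  have hU : ∀ u ∈ D.posUnipotent F, ∀ t, Commute u (G.full.x m t) := by
    intro u hu t
    rw [G.posUnipotent_eq] at hu
    induction hu using Subgroup.closure_induction with
    | mem x hx =>
      obtain ⟨y, hy, v, rfl⟩ := hx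
      refine (G.x_commute hp ((hc y hy.1).resolve_left ?_) t v).symm
      have := hy.2
      simp only [Nat.mul_eq] at *
      omega
    | one => exact Commute.one_left _
    | mul a b _ _ ha hb => exact ha.mul_left hb
    | inv a _ ha => exact ha.inv_left
  have hB : ∀ b ∈ D.borelSubgroup F, X.map (MulAut.conj b).toMonoidHom = X := by
    intro b hb
    have hle : ∀ b ∈ D.borelSubgroup F, X.map (MulAut.conj b).toMonoidHom ≤ X := by
      rintro b hb _ ⟨x, hx, rfl⟩
      obtain ⟨u, hu, d, rfl⟩ := G.mem_borel.mp hb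
      obtain ⟨t, rfl⟩ := G.mem_rootSubgroup.mp hx
      show u * T.hT F d * G.full.x m t * (u * T.hT F d)⁻¹ ∈ X
      rw [show u * T.hT F d * G.full.x m t * (u * T.hT F d)⁻¹ =
        u * (T.hT F d * G.full.x m t * (T.hT F d)⁻¹) * u⁻¹ by group, G.full.hT_conj hmp.1,
        (hU u hu _).eq, mul_inv_cancel_right]
      exact G.mem_rootSubgroup.mpr ⟨_, rfl⟩
    refine le_antisymm (hle b hb) fun x hx => ⟨b⁻¹ * x * b, ?_, by simp [mul_assoc]⟩
    have := hle b⁻¹ (inv_mem hb) ⟨x, hx, rfl⟩
    simpa using this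
  obtain ⟨b, hb, n, -, L, hL, u, hu, rfl⟩ := G.canonical_exists hg
  set s := G.full.pw L ⟨m, hmp.1⟩ with hs
  have hXu : X.map (MulAut.conj u).toMonoidHom = X :=
    hB u (pos_le_borel G (G.flip_le_pos _ hu))
  have hXn : X.map (MulAut.conj n).toMonoidHom = D.rootSubgroup F s.val := by
    obtain ⟨c, hcc⟩ := hL
    ext x
    constructor
    · rintro ⟨y, hy, rfl⟩
      obtain ⟨t, rfl⟩ := G.mem_rootSubgroup.mp hy
      exact G.mem_rootSubgroup.mpr ⟨_, (hcc ⟨m, hmp.1⟩).2.2.2 t⟩
    · intro hx
      obtain ⟨t, rfl⟩ := G.mem_rootSubgroup.mp hx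
      refine ⟨G.full.x m (((c ⟨m, hmp.1⟩)⁻¹ : Fˣ) * t), G.mem_rootSubgroup.mpr ⟨_, rfl⟩, ?_⟩
      show n * _ * n⁻¹ = _
      rw [(hcc ⟨m, hmp.1⟩).2.2.2, ← mul_assoc, Units.mul_inv, one_mul]
  have hkey : X ⊔ X.map (MulAut.conj (b * n * u)).toMonoidHom =
      (X ⊔ D.rootSubgroup F s.val).map (MulAut.conj b).toMonoidHom := by
    rw [Subgroup.map_sup, hB b hb, ← hXn]
    congr 1
    have e : ∀ a c : GL D.Idx F, (MulAut.conj (a * c)).toMonoidHom =
        (MulAut.conj a).toMonoidHom.comp (MulAut.conj c).toMonoidHom := fun a c => by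
      rw [map_mul]; rfl
    rw [e, ← Subgroup.map_map, hXu, e, ← Subgroup.map_map]
  have hsP : P s.val = true := G.pw_mem_of_stable
    (fun r hr hPr => (((hP r hr).resolve_left (by rw [hPr]; simp))).1) L _ hm
  rw [hkey]
  by_cases hopp : s.val = negR D m
  · right
    refine ⟨b⁻¹, inv_mem (G.borel_le_group hb), ?_⟩
    rw [hopp, Subgroup.map_map]
    convert Subgroup.map_id _
    ext x
    simp [mul_assoc]
  · left
    have h2' : IsPGroup 2 ↥(X ⊔ D.rootSubgroup F s.val) := by
      by_cases hsm : s.val = m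
      · rw [hsm, sup_idem]
        exact G.rootSubgroup_two h2 m
      · have hcheck := ((hP s.val s.isLt).resolve_left (by rw [hsP]; simp)).2
        refine G.short_pair h2 hmp.1 s.isLt (Ne.symm hsm) (fun e => hopp ?_) ?_
        · have := s.isLt
          have := hmp.1
          simp only [negR, Nat.sub_eq] at e ⊢
          omega
        · rcases hcheck with (e | e) | e
          · exact absurd (Nat.eq_of_beq_eq_true e) hopp
          · exact absurd (Nat.eq_of_beq_eq_true e) hsm
          · exact e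
    exact h2'.map _

end Good

end Tab

/-- The roots in the orbit of the highest root: the long ones in rank two, all otherwise. -/
def highOrbit (D : ChevalleyDatum) (r : ℕ) : Bool := D.rank != 2 || D.isLong r

end CfsgLib.Chev
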