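import Mathlib.Data.Matrix.Basic
import Mathlib.Data.Matrix.Mul
import Mathlib.Tactic

/-!
Sparse integer vectors for kernel computation: a vector is a list of (index, coefficient) pairs.
-/

set_option autoImplicit false

namespace CfsgLib.Chev

/-- A sparse vector. -/
abbrev Vec := List (ℕ × ℤ)

/-- The coefficient at an index. -/
def coeff (v : Vec) (b : ℕ) : ℤ :=
  v.foldr (fun p acc => cond (Nat.beq p.1 b) (p.2 + acc) acc) 0

/-- Scalar multiple. -/
def vsmul (c : ℤ) (v : Vec) : Vec := v.map fun p => (p.1, c * p.2)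

/-- The image of a vector under the linear map with the given columns. -/
def bindV (f : ℕ → Vec) (v : Vec) : Vec :=
  v.foldr (fun p acc => vsmul p.2 (f p.1) ++ acc) []

/-- Boolean equality of sparse vectors as vectors. -/
def veq (u v : Vec) : Bool :=
  u.all (fun p => coeff u p.1 == coeff v p.1) && v.all (fun p => coeff u p.1 == coeff v p.1)

theorem coeff_nil (b : ℕ) : coeff [] b = 0 := rfl

theorem coeff_cons (p : ℕ × ℤ) (v : Vec) (b : ℕ) :
    coeff (p :: v) b = (if p.1 = b then p.2 else 0) + coeff v b := by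
  by_cases h : p.1 = b
  · simp [coeff, h]
  · simp [coeff, h, show (p.1).beq b = false from by
      simpa [← Bool.not_eq_true, Nat.beq_eq] using h]

theorem coeff_append (u v : Vec) (b : ℕ) : coeff (u ++ v) b = coeff u b + coeff v b := by
  induction u with
  | nil => simp [coeff]
  | cons p u ih => simp [coeff_cons, ih, add_assoc]

theorem coeff_vsmul (c : ℤ) (v : Vec) (b : ℕ) : coeff (vsmul c v) b = c * coeff v b := by
  induction v with
  | nil => simp [vsmul, coeff]
  | cons p v ih =>
    rw [show vsmul c (p :: v) = (p.1, c * p.2) :: vsmul c v from rfl, coeff_cons, coeff_cons, ih]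
    split_ifs <;> ring

theorem coeff_eq_zero_of_forall (v : Vec) (b : ℕ) (h : ∀ p ∈ v, p.1 ≠ b) : coeff v b = 0 := by
  induction v with
  | nil => rfl
  | cons p v ih =>
    rw [coeff_cons, if_neg (h p List.mem_cons_self), ih fun q hq => h q (List.mem_cons_of_mem _ hq)]
    simp

theorem exists_mem_of_coeff_ne_zero {v : Vec} {b : ℕ} (h : coeff v b ≠ 0) : ∃ p ∈ v, p.1 = b := by
  by_contra hc
  exact h (coeff_eq_zero_of_forall v b fun p hp hpb => hc ⟨p, hp, hpb⟩)

theorem veq_iff (u v : Vec) : veq u v = true ↔ ∀ b, coeff u b = coeff v b := by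
  constructor
  · intro h b
    simp only [veq, Bool.and_eq_true, List.all_eq_true, beq_iff_eq] at h
    by_cases hu : ∃ p ∈ u, p.1 = b
    · obtain ⟨p, hp, rfl⟩ := hu; exact h.1 p hp
    by_cases hv : ∃ p ∈ v, p.1 = b
    · obtain ⟨p, hp, rfl⟩ := hv; exact h.2 p hp
    rw [coeff_eq_zero_of_forall u b fun p hp hpb => hu ⟨p, hp, hpb⟩,
      coeff_eq_zero_of_forall v b fun p hp hpb => hv ⟨p, hp, hpb⟩]
  · intro h
    simp [veq, h]

theorem coeff_bindV (f : ℕ → Vec) (v : Vec) (b : ℕ) :
    coeff (bindV f v) b = (v.map fun p => p.2 * coeff (f p.1) b).sum := by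
  induction v with
  | nil => rfl
  | cons p v ih =>
    rw [show bindV f (p :: v) = vsmul p.2 (f p.1) ++ bindV f v from rfl, coeff_append, coeff_vsmul,
      ih]
    simp

/-- Summing against coefficients of a vector supported in the image of an injective map. -/
theorem sum_coeff_mul {ι : Type*} [Fintype ι] [DecidableEq ι] (code : ι → ℕ)
    (hinj : Function.Injective code) (v : Vec) (hv : ∀ p ∈ v, ∃ i, code i = p.1) (g : ℕ → ℤ) :
    ∑ i, g (code i) * coeff v (code i) = (v.map fun p => p.2 * g p.1).sum := by
  induction v with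
  | nil => simp [coeff]
  | cons p v ih =>
    obtain ⟨i, hi⟩ := hv p List.mem_cons_self
    simp only [coeff_cons, mul_add, Finset.sum_add_distrib, List.map_cons, List.sum_cons]
    rw [ih fun q hq => hv q (List.mem_cons_of_mem _ hq)]
    congr 1
    rw [Finset.sum_eq_single i]
    · simp [hi, mul_comm]
    · intro j _ hj
      rw [if_neg, mul_zero]
      intro h
      exact hj (hinj (h.symm.trans hi.symm))
    · intro h; exact absurd (Finset.mem_univ i) h

/-- The matrix with the given sparse columns. -/
def matOf {ι : Type*} (code : ι → ℕ) (f : ℕ → Vec) : Matrix ι ι ℤ :=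
  Matrix.of fun row col => coeff (f (code col)) (code row)

theorem matOf_apply {ι : Type*} (code : ι → ℕ) (f : ℕ → Vec) (i j : ι) :
    matOf code f i j = coeff (f (code j)) (code i) := rfl

theorem matOf_mul {ι : Type*} [Fintype ι] [DecidableEq ι] (code : ι → ℕ)
    (hinj : Function.Injective code) (f g : ℕ → Vec)
    (hg : ∀ j, ∀ p ∈ g (code j), ∃ i, code i = p.1) :
    matOf code f * matOf code g = matOf code (fun b => bindV f (g b)) := by
  ext i j
  simp only [Matrix.mul_apply, matOf_apply, coeff_bindV]
  exact sum_coeff_mul code hinj (g (code j)) (hg j) (fun k => coeff (f k) (code i))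

theorem matOf_congr {ι : Type*} (code : ι → ℕ) {f g : ℕ → Vec}
    (h : ∀ j, veq (f (code j)) (g (code j)) = true) : matOf code f = matOf code g := by
  ext i j
  exact (veq_iff _ _).mp (h j) _

theorem matOf_append {ι : Type*} (code : ι → ℕ) (f g : ℕ → Vec) :
    matOf code (fun b => f b ++ g b) = matOf code f + matOf code g := by
  ext i j
  simp [matOf_apply, coeff_append]

theorem matOf_vsmul {ι : Type*} (code : ι → ℕ) (c : ℤ) (f : ℕ → Vec) :
    matOf code (fun b => vsmul c (f b)) = c • matOf code f := by
  ext i j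
  simp [matOf_apply, coeff_vsmul]

theorem matOf_nil {ι : Type*} (code : ι → ℕ) : matOf code (fun _ => ([] : Vec)) = 0 := by
  ext i j
  simp [matOf_apply, coeff_nil]

end CfsgLib.Chev
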