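import Cfsg.Prelude.Def_ChevStructure
import Cfsg.Agent.Chev.Sparse

/-!
Fast tables for a Chevalley datum and the Boolean checks on them which are run in the kernel.
Basis codes: `r < nroots` is the root vector `e_r`, `nroots + i` is `h_{p_i}`.
-/

set_option autoImplicit false

namespace CfsgLib.Chev

open Cfsg.Lie

/-- `∀ b < N, f b`, as a Boolean, by structural recursion. -/
def allBelow (f : ℕ → Bool) : ℕ → Bool
  | 0 => true
  | b + 1 => f b && allBelow f b

theorem allBelow_iff (f : ℕ → Bool) (N : ℕ) : allBelow f N = true ↔ ∀ b < N, f b = true := by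
  induction N with
  | zero => simp [allBelow]
  | succ N ih =>
    simp only [allBelow, Bool.and_eq_true, ih]
    constructor
    · intro h b hb
      rcases Nat.lt_succ_iff_lt_or_eq.mp hb with h' | h'
      · exact h.2 b h'
      · exact h' ▸ h.1
    · exact fun h => ⟨h N (by omega), fun b hb => h b (by omega)⟩

/-- `∀ b ∈ [a, a+len), f b`. -/
def allBlock (f : ℕ → Bool) (a len : ℕ) : Bool := allBelow (fun i => f (Nat.add a i)) len

theorem allBlock_apply {f : ℕ → Bool} {a len : ℕ} (h : allBlock f a len = true) (b : ℕ)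
    (h1 : a ≤ b) (h2 : b < a + len) : f b = true := by
  have := (allBelow_iff _ _).mp h (b - a) (by omega)
  simpa [Nat.add_sub_of_le h1] using this

/-- Fast access to the tables of a datum, together with certificates. -/
structure Tab (D : ChevalleyDatum) where
  /-- the chain entry -/
  ent : ℕ → ℕ → Vec
  /-- Cartan integers -/
  cart : ℕ → ℕ → ℤ
  /-- coroot coefficients -/
  cor : ℕ → ℕ → ℤ
  /-- height -/
  ht : ℕ → ℤ
  /-- a root of height one and a root which add up to the given one -/
  dec : ℕ → ℕ × ℕ
  /-- a root of height `-1` and a higher basis vector lowering to the given one -/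
  down : ℕ → ℕ × ℕ
  /-- a root of height `1` and a lower basis vector raising to the given one -/
  up : ℕ → ℕ × ℕ

namespace Tab

variable {D : ChevalleyDatum} (T : Tab D)

/-- The negative of a root. -/
def negR (D : ChevalleyDatum) (r : ℕ) : ℕ := Nat.sub (Nat.sub D.nroots 1) r

/-- The coroot as a sparse vector. -/
def corVec (r : ℕ) : Vec := (List.range D.rank).map fun i => (Nat.add D.nroots i, T.cor r i)

/-- The column `b` of the `k`-th divided power of `ad e_r` (`k ≥ 1`). -/
def colA (k r b : ℕ) : Vec :=
  cond (Nat.ble D.nroots b) (cond (Nat.beq k 1) [(r, -(T.cart (Nat.sub b D.nroots) r))] [])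
    (cond (Nat.beq b r) []
      (cond (Nat.beq b (negR D r))
        (cond (Nat.beq k 1) (T.corVec r) (cond (Nat.beq k 2) [(r, -1)] []))
        (((T.ent r b).drop (Nat.sub k 1)).take 1)))

/-- The column `b` of `ad h_{p_i}`. -/
def colH (i b : ℕ) : Vec := cond (Nat.ble D.nroots b) [] [(b, T.cart i b)]

/-- The column `b` of `ad` of the basis vector with code `x`. -/
def colAd (x b : ℕ) : Vec :=
  cond (Nat.ble D.nroots x) (T.colH (Nat.sub x D.nroots) b) (T.colA 1 x b)

/-- The height of a basis vector. -/
def gr (b : ℕ) : ℤ := cond (Nat.ble D.nroots b) 0 (T.ht b)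

/-- The column of a commutator. -/
def colCm (f g : ℕ → Vec) (b : ℕ) : Vec := bindV f (g b) ++ vsmul (-1) (bindV g (f b))

/-- Number of basis vectors. -/
def dim (D : ChevalleyDatum) : ℕ := Nat.add D.nroots D.rank

/-! ### Checks -/

/-- The table agrees with the datum in row `r`. -/
def chkAgree (r : ℕ) : Bool :=
  decide (((D.chain.getD r #[]).toList.map fun e => (e.1, e.2.toList)) =
    (List.range D.nroots).filterMap fun s =>
      cond (T.ent r s).isEmpty none (some (s, T.ent r s))) &&
  decide (D.negIdx.getD r 0 = negR D r) &&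
  decide ((D.coroot.getD r #[]).toList = (List.range D.rank).map (T.cor r)) &&
  allBelow (fun i => decide ((D.cartanSR.getD i #[]).getD r 0 = T.cart i r)) D.rank

/-- `w k = m * w r + w s` for height and all Cartan weights. -/
def chkAdd (m : ℕ) (k r s : ℕ) : Bool :=
  decide (T.ht k = (m : ℤ) * T.ht r + T.ht s) &&
  allBelow (fun i => decide (T.cart i k = (m : ℤ) * T.cart i r + T.cart i s)) D.rank

/-- Conditions on the entries of a chain. -/
def chkEntries (r s : ℕ) : Vec → ℕ → Bool
  | [], _ => true
  | p :: rest, m =>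
    Nat.blt p.1 D.nroots && decide (p.2 ≠ 0) && Nat.ble m 3 && T.chkAdd m p.1 r s &&
      chkEntries r s rest (m + 1)

/-- Conditions on the chain of `r` through `s`. -/
def chkPair (r s : ℕ) : Bool :=
  match T.ent r s with
  | [] => true
  | p :: rest =>
    !(Nat.beq s r) && !(Nat.beq s (negR D r)) && T.chkEntries r s (p :: rest) 1 &&
      decide ((T.ent s r).take 1 = [(p.1, -p.2)])

/-- Well-formedness of row `r`. -/
def chkRoot (r : ℕ) : Bool :=
  allBelow (T.chkPair r) D.nroots &&
  decide (T.ht r ≠ 0) && decide (0 < T.ht r ↔ D.nroots ≤ 2 * r) &&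
  decide (T.ht (negR D r) = - T.ht r) && Nat.blt r D.nroots &&
  allBelow (fun i => decide (T.cart i (negR D r) = - T.cart i r) &&
    decide (T.cor (negR D r) i = - T.cor r i)) D.rank &&
  decide (((List.range D.rank).map fun i => T.cor r i * T.cart i r).sum = 2)

/-- Divided powers in column `b` of row `r`. -/
def chkPow (r : ℕ) : Bool :=
  allBelow (fun b =>
    veq (bindV (T.colA 1 r) (T.colA 1 r b)) (vsmul 2 (T.colA 2 r b)) &&
    veq (bindV (T.colA 1 r) (T.colA 2 r b)) (vsmul 3 (T.colA 3 r b)) &&
    veq (bindV (T.colA 1 r) (T.colA 3 r b)) []) (dim D)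

/-- The brackets of elements of degrees `-1` and `1`. -/
def chkBase (p : ℕ) : Bool :=
  cond (decide (T.ht p = -1))
    (allBelow (fun q =>
      cond (decide (T.ht q = 1))
        (allBelow (fun b =>
          veq (colCm (T.colA 1 p) (T.colA 1 q) b)
            (bindV (fun x => T.colAd x b) (T.colA 1 p q))) (dim D))
        true) D.nroots)
    true

/-- The certificate `dec`. -/
def chkDec (r : ℕ) : Bool :=
  cond (decide (2 ≤ (T.ht r).natAbs))
    (Nat.blt (T.dec r).1 D.nroots && Nat.blt (T.dec r).2 D.nroots &&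
      decide ((T.ht (T.dec r).1).natAbs = 1) &&
      decide (T.ht (T.dec r).1 + T.ht (T.dec r).2 = T.ht r) &&
      decide (0 < T.ht (T.dec r).1 ↔ 0 < T.ht r) &&
      (match T.colA 1 (T.dec r).1 (T.dec r).2 with
        | [p] => Nat.beq p.1 r && decide (p.2 ≠ 0) &&
            allBelow (fun b =>
              veq (colCm (T.colA 1 (T.dec r).1) (T.colA 1 (T.dec r).2) b)
                (vsmul p.2 (T.colA 1 r b))) (dim D)
        | _ => false))
    true

/-- One reaching step: `[e_p, y] = c • b`, `c ≠ 0`. -/
def chkStep (py : ℕ × ℕ) (b : ℕ) : Bool :=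
  Nat.blt py.1 D.nroots && Nat.blt py.2 (dim D) &&
  decide (coeff (T.colA 1 py.1 py.2) b ≠ 0) &&
  veq (T.colA 1 py.1 py.2) [(b, coeff (T.colA 1 py.1 py.2) b)]

/-- The certificates `down` and `up` at the basis vector `b`. -/
def chkReach (b : ℕ) : Bool :=
  (allBelow (fun x => decide (T.gr x ≤ T.gr b)) (dim D) ||
    (T.chkStep (T.down b) b && decide (T.ht (T.down b).1 = -1) &&
      decide (T.gr b < T.gr (T.down b).2))) &&
  (allBelow (fun x => decide (T.gr b ≤ T.gr x)) (dim D) ||
    (T.chkStep (T.up b) b && decide (T.ht (T.up b).1 = 1) &&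
      decide (T.gr (T.up b).2 < T.gr b)))

/-- All the table checks hold. -/
structure Cert : Prop where
  even : D.nroots % 2 = 0
  agree : ∀ r < D.nroots, T.chkAgree r = true
  root : ∀ r < D.nroots, T.chkRoot r = true
  pow : ∀ r < D.nroots, T.chkPow r = true
  base : ∀ r < D.nroots, T.chkBase r = true
  dec : ∀ r < D.nroots, T.chkDec r = true
  reach : ∀ b < dim D, T.chkReach b = true

end Tab

end CfsgLib.Chev
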