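import Cfsg.Agent.Chev.Deriv
import Cfsg.Agent.Chev.Tab

/-!
Soundness of the table checks: the structure matrices of a certified table satisfy the Jacobi
identity and the divided power relations, and describe the tables of the datum.
-/

set_option autoImplicit false

namespace CfsgLib.Chev

open Cfsg.Lie Matrix

/-- The code of a basis index. -/
def code {D : ChevalleyDatum} (b : D.Idx) : ℕ :=
  Sum.elim (fun i => D.nroots + i.val) (fun s => s.val) b

theorem code_inr {D : ChevalleyDatum} (s : Fin D.nroots) : code (Sum.inr s : D.Idx) = s.val := rfl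

theorem code_inl {D : ChevalleyDatum} (i : Fin D.rank) :
    code (Sum.inl i : D.Idx) = D.nroots + i.val := rfl

theorem code_lt {D : ChevalleyDatum} (b : D.Idx) : code b < Tab.dim D := by
  show code b < D.nroots + D.rank
  rcases b with i | s
  · rw [code_inl]; omega
  · rw [code_inr]; omega

theorem code_injective {D : ChevalleyDatum} : Function.Injective (code : D.Idx → ℕ) := by
  rintro (i | s) (j | u) h <;> simp only [code_inl, code_inr] at h
  · simp [Fin.ext_iff]; omega
  · omega
  · omega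
  · simp [Fin.ext_iff]; omega

theorem exists_code {D : ChevalleyDatum} {k : ℕ} (hk : k < Tab.dim D) :
    ∃ b : D.Idx, code b = k := by
  change k < D.nroots + D.rank at hk
  rcases Nat.lt_or_ge k D.nroots with h | h
  · exact ⟨Sum.inr ⟨k, h⟩, rfl⟩
  · exact ⟨Sum.inl ⟨k - D.nroots, by omega⟩, by rw [code_inl]; simp; omega⟩

namespace Tab

variable {D : ChevalleyDatum} (T : Tab D)

theorem negR_eq (r : ℕ) : negR D r = D.nroots - 1 - r := rfl

/-- The matrix of the `k`-th divided power of `ad e_r`. -/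
def A (k r : ℕ) : Matrix D.Idx D.Idx ℤ := matOf code (T.colA k r)

/-- The structure matrices. -/
def adM (b : D.Idx) : Matrix D.Idx D.Idx ℤ := matOf code (T.colAd (code b))

/-- The weight functions on basis codes. -/
def wt (i b : ℕ) : ℤ := cond (Nat.ble D.nroots b) 0 (T.cart i b)

/-- A function on basis codes which is additive along the bracket. -/
structure IsAdd (w : ℕ → ℤ) : Prop where
  zero : ∀ b, D.nroots ≤ b → w b = 0
  neg : ∀ r < D.nroots, w (negR D r) = - w r
  chain : ∀ r < D.nroots, ∀ s < D.nroots, ∀ j p, (T.ent r s)[j]? = some p →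
    w p.1 = ((j + 1 : ℕ) : ℤ) * w r + w s

theorem ble_false {a b : ℕ} (h : b < a) : Nat.ble a b = false := by
  simpa [← Bool.not_eq_true] using h

theorem ble_true {a b : ℕ} (h : a ≤ b) : Nat.ble a b = true := by simpa using h

theorem beq_false {a b : ℕ} (h : a ≠ b) : Nat.beq a b = false := by
  simpa [← Bool.not_eq_true, Nat.beq_eq] using h

theorem beq_true {a b : ℕ} (h : a = b) : Nat.beq a b = true := by simp [h]

theorem colAd_root {r : ℕ} (hr : r < D.nroots) : T.colAd r = T.colA 1 r := by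
  funext b
  simp [colAd, ble_false hr]

theorem colAd_h (i b : ℕ) : T.colAd (D.nroots + i) b = T.colH i b := by
  simp [colAd, ble_true (Nat.le_add_right D.nroots i)]

theorem gr_root {r : ℕ} (hr : r < D.nroots) : T.gr r = T.ht r := by
  simp [gr, ble_false hr]

theorem gr_h {b : ℕ} (hb : D.nroots ≤ b) : T.gr b = 0 := by simp [gr, ble_true hb]

theorem wt_root {i r : ℕ} (hr : r < D.nroots) : T.wt i r = T.cart i r := by
  simp [wt, ble_false hr]

theorem wt_h {i b : ℕ} (hb : D.nroots ≤ b) : T.wt i b = 0 := by simp [wt, ble_true hb]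

theorem adM_inr (s : Fin D.nroots) : T.adM (Sum.inr s) = T.A 1 s.val := by
  simp only [adM, code_inr, colAd_root T s.isLt]
  rfl

theorem colH_eq (i b : ℕ) (hb : b < D.nroots) : T.colH i b = [(b, T.cart i b)] := by
  simp [colH, ble_false hb]

theorem colH_h (i b : ℕ) (hb : D.nroots ≤ b) : T.colH i b = [] := by
  simp [colH, ble_true hb]

theorem colA_h (k r b : ℕ) (hb : D.nroots ≤ b) :
    T.colA k r b = if k = 1 then [(r, -(T.cart (b - D.nroots) r))] else [] := by
  rcases eq_or_ne k 1 with hk | hk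
  · simp [colA, ble_true hb, hk]
  · simp [colA, ble_true hb, beq_false hk, hk]

theorem colA_self (k r : ℕ) (hr : r < D.nroots) : T.colA k r r = [] := by
  simp [colA, ble_false hr]

theorem colA_neg (k r : ℕ) (hr : r < D.nroots) (hne : negR D r ≠ r) :
    T.colA k r (negR D r) =
      if k = 1 then T.corVec r else if k = 2 then [(r, -1)] else [] := by
  have hn : negR D r < D.nroots := by rw [negR_eq]; omega
  rcases eq_or_ne k 1 with hk | hk
  · simp [colA, ble_false hn, beq_false hne, hk]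
  rcases eq_or_ne k 2 with hk2 | hk2
  · simp [colA, ble_false hn, beq_false hne, hk2, beq_false (show (2 : ℕ) ≠ 1 by decide)]
  · simp [colA, ble_false hn, beq_false hne, beq_false hk, beq_false hk2, hk, hk2]

theorem colA_chain (k r b : ℕ) (hb : b < D.nroots) (h1 : b ≠ r) (h2 : b ≠ negR D r) :
    T.colA k r b = ((T.ent r b).drop (k - 1)).take 1 := by
  simp [colA, ble_false hb, beq_false h1, beq_false h2]

theorem mem_corVec {r : ℕ} {p : ℕ × ℤ} (hp : p ∈ T.corVec r) :
    D.nroots ≤ p.1 ∧ p.1 < dim D := by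
  simp only [corVec, List.mem_map, List.mem_range] at hp
  obtain ⟨i, hi, rfl⟩ := hp
  refine ⟨Nat.le_add_right _ _, ?_⟩
  show D.nroots + i < D.nroots + D.rank
  omega

theorem coeff_corVec (r i : ℕ) (hi : i < D.rank) :
    coeff (T.corVec r) (D.nroots + i) = T.cor r i := by
  have : ∀ L, coeff ((List.range L).map fun j => (Nat.add D.nroots j, T.cor r j)) (D.nroots + i) =
      if i < L then T.cor r i else 0 := by
    intro L
    induction L with
    | zero => simp [coeff]
    | succ L ih =>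
      rw [List.range_succ, List.map_append, coeff_append, ih]
      simp only [List.map_cons, List.map_nil, coeff_cons, coeff_nil, add_zero, Nat.add_eq]
      by_cases h : i = L
      · subst h; simp
      · rw [if_neg (show ¬ D.nroots + L = D.nroots + i by omega), add_zero]
        exact if_congr (by omega) rfl rfl
  rw [corVec, this, if_pos hi]

theorem coeff_corVec_root (r u : ℕ) (hu : u < D.nroots) : coeff (T.corVec r) u = 0 :=
  coeff_eq_zero_of_forall _ _ fun _ hp h => by
    have := (T.mem_corVec hp).1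
    omega

namespace Cert

variable {T} (C : T.Cert)
include C

theorem root_spec {r : ℕ} (hr : r < D.nroots) :
    T.ht r ≠ 0 ∧ (0 < T.ht r ↔ D.nroots ≤ 2 * r) ∧ T.ht (negR D r) = - T.ht r ∧
      (∀ i < D.rank, T.cart i (negR D r) = - T.cart i r ∧ T.cor (negR D r) i = - T.cor r i) ∧
      ((List.range D.rank).map fun i => T.cor r i * T.cart i r).sum = 2 := by
  have h := C.root r hr
  simp only [chkRoot, Bool.and_eq_true, allBelow_iff, decide_eq_true_eq] at h
  exact ⟨h.1.1.1.1.1.2, h.1.1.1.1.2, h.1.1.1.2, h.1.2, h.2⟩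

theorem negR_ne {r : ℕ} (hr : r < D.nroots) : negR D r ≠ r := by
  have := C.even
  rw [negR_eq]
  omega

omit C in
theorem negR_lt {r : ℕ} (hr : r < D.nroots) : negR D r < D.nroots := by
  rw [negR_eq]; omega

omit C in
theorem negR_negR {r : ℕ} (hr : r < D.nroots) : negR D (negR D r) = r := by
  rw [negR_eq, negR_eq]; omega

omit C in
theorem chkEntries_spec {r s : ℕ} : ∀ (L : Vec) (m : ℕ), T.chkEntries r s L m = true →
    ∀ j p, L[j]? = some p → p.1 < D.nroots ∧ p.2 ≠ 0 ∧ m + j ≤ 3 ∧
      T.chkAdd (m + j) p.1 r s = true := by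
  intro L
  induction L with
  | nil => intro m _ j p hp; simp at hp
  | cons q L ih =>
    intro m h j p hp
    simp only [chkEntries, Bool.and_eq_true, decide_eq_true_eq, Nat.blt_eq, Nat.ble_eq] at h
    cases j with
    | zero =>
      simp only [List.getElem?_cons_zero, Option.some.injEq] at hp
      subst hp
      exact ⟨h.1.1.1.1, h.1.1.1.2, h.1.1.2, h.1.2⟩
    | succ j =>
      simp only [List.getElem?_cons_succ] at hp
      have := ih (m + 1) h.2 j p hp
      rwa [Nat.add_right_comm, Nat.add_assoc] at this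

theorem pair_spec {r s : ℕ} (hr : r < D.nroots) (hs : s < D.nroots) (p : ℕ × ℤ) (rest : Vec)
    (hent : T.ent r s = p :: rest) :
    s ≠ r ∧ s ≠ negR D r ∧ T.chkEntries r s (p :: rest) 1 = true ∧
      (T.ent s r).take 1 = [(p.1, -p.2)] := by
  have h := C.root r hr
  simp only [chkRoot, Bool.and_eq_true, allBelow_iff] at h
  have h' := h.1.1.1.1.1.1 s hs
  simp only [chkPair, hent, Bool.and_eq_true, decide_eq_true_eq, Bool.not_eq_true'] at h'
  obtain ⟨⟨⟨h1, h2⟩, h3⟩, h4⟩ := h'
  refine ⟨?_, ?_, h3, h4⟩ <;> intro e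
  · rw [beq_true e] at h1; exact Bool.noConfusion h1
  · rw [beq_true e] at h2; exact Bool.noConfusion h2

theorem ent_spec {r s : ℕ} (hr : r < D.nroots) (hs : s < D.nroots) {j : ℕ} {p : ℕ × ℤ}
    (hp : (T.ent r s)[j]? = some p) :
    p.1 < D.nroots ∧ p.2 ≠ 0 ∧ j + 1 ≤ 3 ∧ T.chkAdd (j + 1) p.1 r s = true := by
  rcases hent : T.ent r s with _ | ⟨q, rest⟩
  · simp [hent] at hp
  · rw [hent] at hp
    have := chkEntries_spec _ 1 (C.pair_spec hr hs q rest hent).2.2.1 j p hp
    rwa [Nat.add_comm j 1]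

theorem ent_length {r s : ℕ} (hr : r < D.nroots) (hs : s < D.nroots) :
    (T.ent r s).length ≤ 3 := by
  by_contra h
  have hp : (T.ent r s)[3]? = some (T.ent r s)[3] := List.getElem?_eq_getElem (by omega)
  have := (C.ent_spec hr hs hp).2.2.1
  omega

theorem ent_self {r : ℕ} (hr : r < D.nroots) : T.ent r r = [] := by
  rcases hent : T.ent r r with _ | ⟨q, rest⟩
  · rfl
  · exact absurd rfl (C.pair_spec hr hr q rest hent).1

theorem ent_neg {r : ℕ} (hr : r < D.nroots) : T.ent r (negR D r) = [] := by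
  rcases hent : T.ent r (negR D r) with _ | ⟨q, rest⟩
  · rfl
  · exact absurd rfl (C.pair_spec hr (negR_lt hr) q rest hent).2.1

theorem isAdd_gr : T.IsAdd T.gr where
  zero _ hb := T.gr_h hb
  neg r hr := by rw [T.gr_root hr, T.gr_root (negR_lt hr), (C.root_spec hr).2.2.1]
  chain r hr s hs j p hp := by
    obtain ⟨hlt, -, -, h⟩ := C.ent_spec hr hs hp
    simp only [chkAdd, Bool.and_eq_true, decide_eq_true_eq] at h
    rw [T.gr_root hr, T.gr_root hs, T.gr_root hlt, h.1]

theorem isAdd_wt {i : ℕ} (hi : i < D.rank) : T.IsAdd (T.wt i) where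
  zero _ hb := T.wt_h hb
  neg r hr := by
    rw [T.wt_root hr, T.wt_root (negR_lt hr), ((C.root_spec hr).2.2.2.1 i hi).1]
  chain r hr s hs j p hp := by
    obtain ⟨hlt, -, -, h⟩ := C.ent_spec hr hs hp
    simp only [chkAdd, Bool.and_eq_true, decide_eq_true_eq, allBelow_iff] at h
    rw [T.wt_root hr, T.wt_root hs, T.wt_root hlt, h.2 i hi]

omit C in
theorem mem_drop_take {L : Vec} {j : ℕ} {p : ℕ × ℤ} (hp : p ∈ (L.drop j).take 1) :
    L[j]? = some p := by
  rcases h : L.drop j with _ | ⟨a, rest⟩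
  · simp [h] at hp
  · rw [h] at hp
    have hp' : p = a := by simpa using hp
    have := congrArg (fun l : Vec => l[0]?) h
    simpa [List.getElem?_drop, hp'] using this

theorem colA_mem {k r b : ℕ} (hk : 1 ≤ k) (hr : r < D.nroots) (hb : b < dim D)
    {p : ℕ × ℤ} (hp : p ∈ T.colA k r b) :
    p.1 < dim D ∧ ∀ w, T.IsAdd w → w p.1 = (k : ℤ) * w r + w b := by
  have hd : D.nroots ≤ dim D := Nat.le_add_right _ _
  rcases Nat.lt_or_ge b D.nroots with hbn | hbn
  · by_cases h1 : b = r
    · rw [h1, T.colA_self k r hr] at hp; simp at hp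
    by_cases h2 : b = negR D r
    · rw [h2, T.colA_neg k r hr (C.negR_ne hr)] at hp
      split_ifs at hp with hk1 hk2
      · refine ⟨(T.mem_corVec hp).2, fun w hw => ?_⟩
        rw [hw.zero _ (T.mem_corVec hp).1, h2, hw.neg r hr, hk1]
        simp
      · simp only [List.mem_singleton] at hp
        refine ⟨by rw [hp]; exact lt_of_lt_of_le hr hd, fun w hw => ?_⟩
        rw [hp, h2, hw.neg r hr, hk2]
        push_cast
        ring
      · simp at hp
    rw [T.colA_chain k r b hbn h1 h2] at hp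
    have he := mem_drop_take hp
    refine ⟨lt_of_lt_of_le (C.ent_spec hr hbn he).1 hd, fun w hw => ?_⟩
    rw [hw.chain r hr b hbn _ p he, show k - 1 + 1 = k by omega]
  · rw [T.colA_h k r b hbn] at hp
    split_ifs at hp with hk1
    · simp only [List.mem_singleton] at hp
      refine ⟨by rw [hp]; exact lt_of_lt_of_le hr hd, fun w hw => ?_⟩
      rw [hp, hw.zero b hbn, hk1]
      simp
    · simp at hp

theorem colA_code {k r : ℕ} (hk : 1 ≤ k) (hr : r < D.nroots) (j : D.Idx) :
    ∀ p ∈ T.colA k r (code j), ∃ i : D.Idx, code i = p.1 :=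
  fun _ hp => exists_code (C.colA_mem hk hr (code_lt j) hp).1

theorem A_mul {k r m s : ℕ} (hm : 1 ≤ m) (hs : s < D.nroots) :
    T.A k r * T.A m s = matOf code (fun b => bindV (T.colA k r) (T.colA m s b)) :=
  matOf_mul code code_injective _ _ (C.colA_code hm hs)

theorem matOf_colCm {r s : ℕ} (hr : r < D.nroots) (hs : s < D.nroots) :
    (matOf code (colCm (T.colA 1 r) (T.colA 1 s)) : Matrix D.Idx D.Idx ℤ) =
      cm (T.A 1 r) (T.A 1 s) := by
  rw [cm, C.A_mul le_rfl hs, C.A_mul le_rfl hr]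
  ext i j
  simp only [matOf_apply, colCm, coeff_append, coeff_vsmul, Matrix.sub_apply]
  ring

theorem A_hom {w : ℕ → ℤ} (hw : T.IsAdd w) {k r : ℕ} (hk : 1 ≤ k) (hr : r < D.nroots)
    (x y : D.Idx) (h : T.A k r x y ≠ 0) : w (code x) = (k : ℤ) * w r + w (code y) := by
  obtain ⟨p, hp, hpx⟩ := exists_mem_of_coeff_ne_zero h
  rw [← hpx]
  exact (C.colA_mem hk hr (code_lt y) hp).2 w hw

theorem adM_hom {w : ℕ → ℤ} (hw : T.IsAdd w) (b x y : D.Idx) (h : T.adM b x y ≠ 0) :
    w (code x) = w (code b) + w (code y) := by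
  rcases b with i | s
  · rw [adM, matOf_apply, code_inl, T.colAd_h] at h
    rw [code_inl, hw.zero _ (Nat.le_add_right _ _), zero_add]
    rcases Nat.lt_or_ge (code y) D.nroots with hy | hy
    · rw [T.colH_eq _ _ hy] at h
      obtain ⟨p, hp, hpx⟩ := exists_mem_of_coeff_ne_zero h
      simp only [List.mem_singleton] at hp
      rw [← hpx, hp]
    · rw [T.colH_h _ _ hy] at h
      exact absurd rfl h
  · rw [T.adM_inr] at h
    rw [code_inr, C.A_hom hw le_rfl s.isLt x y h]
    simp

omit C in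
theorem adM_inl (i : Fin D.rank) :
    T.adM (Sum.inl i) = Matrix.diagonal fun y : D.Idx => T.wt i (code y) := by
  ext x y
  rw [adM, matOf_apply, code_inl, T.colAd_h]
  rcases Nat.lt_or_ge (code y) D.nroots with hy | hy
  · rw [T.colH_eq _ _ hy, coeff_cons, coeff_nil, add_zero]
    by_cases h : x = y
    · subst h; simp [T.wt_root hy]
    · simp [Matrix.diagonal_apply_ne _ h]; exact fun e => absurd (code_injective e.symm) h
  · rw [T.colH_h _ _ hy, coeff_nil]
    by_cases h : x = y
    · subst h; simp [T.wt_h hy]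
    · simp [Matrix.diagonal_apply_ne _ h]

theorem adM_deriv_h (i : Fin D.rank) : Deriv T.adM (T.adM (Sum.inl i)) := by
  intro b
  rw [adM_inl]
  have e : (fun x => Matrix.diagonal (fun y : D.Idx => T.wt i (code y)) x b) =
      Pi.single b (T.wt i (code b)) := by
    funext x
    rcases eq_or_ne x b with h | h
    · subst h; simp
    · simp [Matrix.diagonal_apply_ne _ h, Pi.single_eq_of_ne h]
  rw [e, adLin_single]
  ext x y
  simp only [cm, Matrix.sub_apply, Matrix.diagonal_mul, Matrix.mul_diagonal, Matrix.smul_apply,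
    smul_eq_mul]
  rcases eq_or_ne (T.adM b x y) 0 with h | h
  · simp [h]
  · rw [C.adM_hom (C.isAdd_wt i.isLt) b x y h]; ring

theorem ent_antisymm {r s : ℕ} (hr : r < D.nroots) (hs : s < D.nroots) (u : ℕ) :
    coeff ((T.ent r s).take 1) u = - coeff ((T.ent s r).take 1) u := by
  rcases h : T.ent r s with _ | ⟨p, rest⟩
  · rcases h' : T.ent s r with _ | ⟨q, rest'⟩
    · simp [coeff]
    · have h4 := (C.pair_spec hs hr q rest' h').2.2.2
      rw [h] at h4
      simp at h4
  · have h4 := (C.pair_spec hr hs p rest h).2.2.2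
    rw [h4]
    simp [coeff_cons, coeff_nil]
    split_ifs <;> simp

theorem adM_antisymm (b c x : D.Idx) : T.adM b x c = - T.adM c x b := by
  have hh : ∀ (i : Fin D.rank) (s : Fin D.nroots),
      T.adM (Sum.inl i) x (Sum.inr s) = - T.adM (Sum.inr s) x (Sum.inl i) := by
    intro i s
    rw [T.adM_inr, A, adM, matOf_apply, matOf_apply, code_inl, code_inr, T.colAd_h,
      T.colH_eq _ _ s.isLt, T.colA_h _ _ _ (Nat.le_add_right _ _), if_pos rfl]
    simp [coeff_cons, coeff_nil]
    split_ifs <;> simp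
  rcases b with i | r <;> rcases c with j | s
  · rw [adM_inl, adM_inl]
    have z : ∀ u v : Fin D.rank, T.wt u (code (Sum.inl v : D.Idx)) = 0 := fun u v =>
      T.wt_h (Nat.le_add_right _ _)
    rcases eq_or_ne x (Sum.inl j) with h | h <;> rcases eq_or_ne x (Sum.inl i) with h' | h' <;>
      simp_all [Matrix.diagonal_apply]
  · exact hh i s
  · rw [hh j r]; simp
  · rw [T.adM_inr, T.adM_inr, A, A, matOf_apply, matOf_apply, code_inr, code_inr]
    rcases eq_or_ne s.val r.val with h1 | h1
    · rw [h1, T.colA_self 1 r.val r.isLt]; simp [coeff_nil]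
    rcases eq_or_ne s.val (negR D r.val) with h2 | h2
    · have e : negR D s.val = r.val := by rw [h2]; exact negR_negR r.isLt
      rw [h2, T.colA_neg 1 r.val r.isLt (C.negR_ne r.isLt), if_pos rfl]
      rw [← h2, ← e, T.colA_neg 1 s.val s.isLt (C.negR_ne s.isLt), if_pos rfl]
      rcases x with k | u
      · rw [code_inl, T.coeff_corVec _ _ k.isLt, T.coeff_corVec _ _ k.isLt]
        exact ((C.root_spec s.isLt).2.2.2.1 k k.isLt).2
      · rw [code_inr, T.coeff_corVec_root _ _ u.isLt, T.coeff_corVec_root _ _ u.isLt]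
        simp
    · rw [T.colA_chain 1 r s s.isLt h1 h2, T.colA_chain 1 s r r.isLt (Ne.symm h1) fun e => h2 ?_]
      · exact C.ent_antisymm r.isLt s.isLt _
      · rw [e, negR_negR s.isLt]

omit C in
theorem adLin_col (v : Vec) (hv : ∀ p ∈ v, p.1 < dim D) :
    adLin T.adM (fun x : D.Idx => coeff v (code x)) =
      matOf code (fun b => bindV (fun x => T.colAd x b) v) := by
  ext x y
  simp only [adLin, Matrix.sum_apply, Matrix.smul_apply, smul_eq_mul, adM, matOf_apply,
    coeff_bindV]
  rw [← sum_coeff_mul code code_injective v (fun p hp => exists_code (hv p hp))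
    (fun k => coeff (T.colAd k (code y)) (code x))]
  exact Finset.sum_congr rfl fun b _ => mul_comm _ _

omit C in
theorem gr_inl (i : Fin D.rank) : T.gr (code (Sum.inl i : D.Idx)) = 0 :=
  T.gr_h (Nat.le_add_right _ _)

omit C in
theorem exists_root_of_gr {b : D.Idx} (h : T.gr (code b) ≠ 0) :
    ∃ s : Fin D.nroots, b = Sum.inr s := by
  rcases b with i | s
  · exact absurd (gr_inl i) h
  · exact ⟨s, rfl⟩

theorem base_eq (p q : Fin D.nroots) (hp : T.ht p = -1) (hq : T.ht q = 1) :
    cm (T.A 1 p) (T.A 1 q) = adLin T.adM (fun x => T.A 1 p x (Sum.inr q)) := by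
  rw [← C.matOf_colCm p.isLt q.isLt]
  have e : (fun x : D.Idx => T.A 1 p x (Sum.inr q)) = fun x => coeff (T.colA 1 p q) (code x) := rfl
  rw [e, adLin_col (T.colA 1 p q)
    (fun z hz => (C.colA_mem le_rfl p.isLt (lt_of_lt_of_le q.isLt (Nat.le_add_right _ _)) hz).1)]
  apply matOf_congr
  intro j
  have h := C.base p p.isLt
  simp only [chkBase, hp, decide_true, cond_true, allBelow_iff] at h
  have := h q q.isLt
  simp only [hq, decide_true, cond_true, allBelow_iff] at this
  exact this _ (code_lt j)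

theorem dec_eq {r : ℕ} (hr : r < D.nroots) (h2 : 2 ≤ (T.ht r).natAbs) :
    ∃ q v : Fin D.nroots, ∃ c : ℤ, (T.ht q).natAbs = 1 ∧ T.ht q + T.ht v = T.ht r ∧
      (0 < T.ht q ↔ 0 < T.ht r) ∧ c ≠ 0 ∧ c • T.A 1 r = cm (T.A 1 q) (T.A 1 v) ∧
      T.colA 1 q v = [(r, c)] := by
  have h := C.dec r hr
  simp only [chkDec, h2, decide_true, cond_true, Bool.and_eq_true, decide_eq_true_eq,
    Nat.blt_eq] at h
  obtain ⟨⟨⟨⟨⟨hq, hv⟩, habs⟩, hadd⟩, hsgn⟩, hm⟩ := h
  refine ⟨⟨_, hq⟩, ⟨_, hv⟩, ?_⟩
  dsimp only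
  split at hm
  · rename_i p hp
    simp only [Bool.and_eq_true, decide_eq_true_eq, allBelow_iff, Nat.beq_eq] at hm
    refine ⟨p.2, habs, hadd, hsgn, hm.1.2, ?_, ?_⟩
    · rw [← C.matOf_colCm hq hv, A, ← matOf_vsmul]
      exact (matOf_congr code fun j => hm.2 _ (code_lt j)).symm
    · rw [hp]; simp [← hm.1.1]
  · exact absurd hm Bool.false_ne_true

theorem dec_side (sg : ℤ) (hsg : sg = 1 ∨ sg = -1) (b : D.Idx)
    (hb : 2 ≤ sg * T.gr (code b)) :
    ∃ q v : D.Idx, ∃ c : ℤ, sg * T.gr (code q) = 1 ∧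
      sg * T.gr (code v) + 1 = sg * T.gr (code b) ∧
      c ≠ 0 ∧ c • T.adM b = cm (T.adM q) (T.adM v) ∧
      (fun x => T.adM q x v) = Pi.single b c := by
  obtain ⟨r, rfl⟩ := exists_root_of_gr (b := b) (T := T) (by rintro h; simp [h] at hb)
  rw [code_inr, T.gr_root r.isLt] at hb
  obtain ⟨q, v, c, habs, hadd, hsgn, hc, hcm, hcol⟩ := C.dec_eq r.isLt (by
    rcases hsg with h | h <;> rw [h] at hb <;> omega)
  refine ⟨Sum.inr q, Sum.inr v, c, ?_, ?_, hc, ?_, ?_⟩
  · rw [code_inr, T.gr_root q.isLt]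
    rcases hsg with h | h <;> rw [h] at hb ⊢ <;> omega
  · rw [code_inr, code_inr, T.gr_root v.isLt, T.gr_root r.isLt]
    rcases hsg with h | h <;> rw [h] at hb ⊢ <;> omega
  · rwa [T.adM_inr, T.adM_inr, T.adM_inr]
  · funext x
    rw [T.adM_inr, A, matOf_apply, code_inr, hcol, coeff_cons, coeff_nil, add_zero]
    rcases eq_or_ne x (Sum.inr r) with h | h
    · subst h; simp [code_inr]
    · rw [Pi.single_eq_of_ne h, if_neg fun e => h (code_injective (e.symm.trans (code_inr r).symm))]

omit C in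
theorem step_spec {py : ℕ × ℕ} {b : D.Idx} (h : T.chkStep py (code b) = true) :
    ∃ (p : Fin D.nroots) (y : D.Idx) (c : ℤ), p.val = py.1 ∧ code y = py.2 ∧ c ≠ 0 ∧
      (fun x => T.adM (Sum.inr p) x y) = Pi.single b c := by
  simp only [chkStep, Bool.and_eq_true, decide_eq_true_eq, Nat.blt_eq] at h
  obtain ⟨⟨⟨hp, hy⟩, hc⟩, heq⟩ := h
  obtain ⟨y, hy'⟩ := exists_code hy
  refine ⟨⟨_, hp⟩, y, _, rfl, hy', hc, ?_⟩
  funext x
  rw [T.adM_inr, A, matOf_apply, hy']
  rw [(veq_iff _ _).mp heq, coeff_cons, coeff_nil, add_zero]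
  rcases eq_or_ne x b with h | h
  · subst h; simp
  · rw [Pi.single_eq_of_ne h, if_neg fun e => h (code_injective e.symm)]

theorem side : Side T.adM (fun b => T.gr (code b)) where
  hom b x y h := C.adM_hom C.isAdd_gr b x y h
  deg0 b hb := by
    rcases b with i | s
    · exact C.adM_deriv_h i
    · rw [code_inr, T.gr_root s.isLt] at hb
      exact absurd hb (C.root_spec s.isLt).1
  antisymm := C.adM_antisymm
  base p q hp hq := by
    obtain ⟨p, rfl⟩ := exists_root_of_gr (b := p) (T := T) (by omega)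
    obtain ⟨q, rfl⟩ := exists_root_of_gr (b := q) (T := T) (by omega)
    rw [code_inr, T.gr_root p.isLt] at hp
    rw [code_inr, T.gr_root q.isLt] at hq
    rw [T.adM_inr, T.adM_inr]
    exact C.base_eq p q hp hq
  dec b hb := by
    obtain ⟨q, v, c, h1, h2, h3⟩ := C.dec_side 1 (Or.inl rfl) b (by omega)
    exact ⟨q, v, c, by omega, by omega, h3⟩
  reach b := by
    have h := C.reach (code b) (code_lt b)
    simp only [chkReach, Bool.and_eq_true, Bool.or_eq_true, allBelow_iff, decide_eq_true_eq] at h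
    rcases h.1 with h | ⟨⟨h1, h2⟩, h3⟩
    · exact Or.inl fun x => h _ (code_lt x)
    · obtain ⟨p, y, c, hp, hy, hc, hcol⟩ := step_spec h1
      refine Or.inr ⟨Sum.inr p, y, c, ?_, by rw [hy]; exact h3, hc, hcol⟩
      rw [code_inr, T.gr_root p.isLt, hp, h2]

theorem side' : Side T.adM (fun b => - T.gr (code b)) where
  hom b x y h := by rw [C.adM_hom C.isAdd_gr b x y h]; ring
  deg0 b hb := by
    rcases b with i | s
    · exact C.adM_deriv_h i
    · rw [code_inr, T.gr_root s.isLt] at hb
      exact absurd (by omega) (C.root_spec s.isLt).1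
  antisymm := C.adM_antisymm
  base p q hp hq := by
    obtain ⟨p, rfl⟩ := exists_root_of_gr (b := p) (T := T) (by omega)
    obtain ⟨q, rfl⟩ := exists_root_of_gr (b := q) (T := T) (by omega)
    rw [code_inr, T.gr_root p.isLt] at hp
    rw [code_inr, T.gr_root q.isLt] at hq
    have h := C.base_eq q p (by omega) (by omega)
    rw [cm_neg_swap, T.adM_inr, T.adM_inr, h]
    have e : (fun x => T.A 1 p x (Sum.inr q)) = (-1 : ℤ) • fun x => T.A 1 q x (Sum.inr p) := by
      funext x
      have := C.adM_antisymm (Sum.inr p) (Sum.inr q) x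
      rw [T.adM_inr, T.adM_inr] at this
      simp [this]
    rw [e, adLin_smul]
    simp
  dec b hb := by
    obtain ⟨q, v, c, h1, h2, h3⟩ := C.dec_side (-1) (Or.inr rfl) b (by omega)
    exact ⟨q, v, c, by omega, by omega, h3⟩
  reach b := by
    have h := C.reach (code b) (code_lt b)
    simp only [chkReach, Bool.and_eq_true, Bool.or_eq_true, allBelow_iff, decide_eq_true_eq] at h
    rcases h.2 with h | ⟨⟨h1, h2⟩, h3⟩
    · exact Or.inl fun x => by have := h _ (code_lt x); omega
    · obtain ⟨p, y, c, hp, hy, hc, hcol⟩ := step_spec h1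
      refine Or.inr ⟨Sum.inr p, y, c, ?_, by rw [hy]; omega, hc, hcol⟩
      rw [code_inr, T.gr_root p.isLt, hp, h2]

/-- The Jacobi identity. -/
theorem jacobi (b : D.Idx) : Deriv T.adM (T.adM b) := deriv_ad C.side C.side' b

theorem A_A1 {r : ℕ} (hr : r < D.nroots) : T.A 1 r * T.A 1 r = (2 : ℤ) • T.A 2 r := by
  rw [C.A_mul le_rfl hr, A, ← matOf_vsmul]
  refine matOf_congr code fun j => ?_
  have h := C.pow r hr
  simp only [chkPow, allBelow_iff, Bool.and_eq_true] at h
  exact (h _ (code_lt j)).1.1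

theorem A_A2 {r : ℕ} (hr : r < D.nroots) : T.A 1 r * T.A 2 r = (3 : ℤ) • T.A 3 r := by
  rw [C.A_mul (by omega) hr, A, ← matOf_vsmul]
  refine matOf_congr code fun j => ?_
  have h := C.pow r hr
  simp only [chkPow, allBelow_iff, Bool.and_eq_true] at h
  exact (h _ (code_lt j)).1.2

theorem A_A3 {r : ℕ} (hr : r < D.nroots) : T.A 1 r * T.A 3 r = 0 := by
  rw [C.A_mul (by omega) hr, ← matOf_nil code]
  refine matOf_congr code fun j => ?_
  have h := C.pow r hr
  simp only [chkPow, allBelow_iff, Bool.and_eq_true] at h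
  exact (h _ (code_lt j)).2

end Cert

end Tab

end CfsgLib.Chev
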