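import Cfsg.Agent.Chev.ToralChev
import Cfsg.Agent.Chev.TwistedBN

/-!
The automizers of the tori of twisted groups.
-/

set_option autoImplicit false
set_option linter.style.haveILetI false

namespace CfsgLib.Chev

open Cfsg.Lie Matrix
open scoped MatrixGroups

namespace Tab

variable {D : ChevalleyDatum}

namespace Good.Twisted

variable {T : Tab D} {G : T.Good} {F : Type*} [Field F] {Φ : G.Graph F} (Z : Twisted Φ)
include Z

theorem card_torus_sub : Nat.card (Z.H0.subgroupOf Z.G1) = Nat.card Z.H0 :=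
  Nat.card_congr (Subgroup.subgroupOfEquivOfLe Z.H0_le).toEquiv

theorem autBound [Fintype F] (hX : Z.XNontrivial) {ℓ e : ℕ} [Fact ℓ.Prime]
    (hfac : (Nat.card Z.G1).factorization ℓ ≤ (Nat.card Z.H0).factorization ℓ)
    (hexp : ∀ σ ∈ Subgroup.closure (Set.range Z.w), σ ^ e = 1) :
    CfsgLib.ToralSection.AutBound Z.G1 ℓ e := by
  refine CfsgLib.ToralSection.autBound_of_torus (Z.H0.subgroupOf Z.G1)
    (by rwa [Z.card_torus_sub]) fun g => ?_
  obtain ⟨n, hn, hmem⟩ := CfsgLib.BN.bruhat (Z.bnPair hX) g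
  obtain ⟨b, hb, b', hb', e'⟩ := (CfsgLib.BN.mem_cosetOf _).mp hmem
  have hbB : (b : GL D.Idx F) ∈ D.borelSubgroup F := Z.mem_B1'.mp hb
  have hbB' : (b' : GL D.Idx F) ∈ D.borelSubgroup F := Z.mem_B1'.mp hb'
  have hnM : (n : GL D.Idx F) ∈ D.monomialSubgroup F := Z.mem_N1'.mp hn
  refine ⟨n, fun t ht ht' => Subtype.ext ?_, fun t ht => Subtype.ext ?_⟩
  · refine (G.cell_torus hbB hnM hbB' (Z.H0_diag (Subgroup.mem_subgroupOf.mp ht))
      (Z.H0_diag (Subgroup.mem_subgroupOf.mp ht')) ?_).symm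
    simp only [← Subgroup.coe_mul, ← Subgroup.coe_inv]
    refine congrArg Subtype.val ?_
    rw [← e']
    group
  · obtain ⟨L, hL⟩ := G.exists_rootAct hnM
    have hσ : G.full.pw L ∈ Subgroup.closure (Set.range Z.w) := by
      rw [← Z.wperm_range]
      exact ⟨⟨(n : GL D.Idx F), Subgroup.mem_inf.mpr ⟨hnM, n.2⟩⟩, Z.wperm_eq hL⟩
    rw [Subgroup.coe_mul, Subgroup.coe_mul, SubmonoidClass.coe_pow]
    exact (G.diag_commute (G.pow_mem_diagonal hnM hL (hexp _ hσ))
      (Z.H0_diag (Subgroup.mem_subgroupOf.mp ht))).eq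

end Good.Twisted

end Tab

end CfsgLib.Chev
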