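import Cfsg.Agent.Chev.CoverTorus

/-!
The order and the cyclicity of a torus twisted by a Weyl element.
-/

set_option autoImplicit false
set_option linter.style.haveILetI false

namespace CfsgLib.Chev

open Matrix Polynomial Cfsg.Lie

namespace Tab.Good

variable {D : ChevalleyDatum} {T : Tab D} (G : T.Good) {K : Type*} [Field K]
include G

omit G in
theorem mulAct_expo (g : Kˣ) (M : Matrix (Fin D.rank) (Fin D.rank) ℤ) (v : Fin D.rank → ℤ) :
    mulAct M (expo g v) = expo g (M *ᵥ v) := by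
  funext a
  simp only [mulAct, MonoidHom.coe_mk, OneHom.coe_mk, expo, mulVec, dotProduct, zpow_sum_eq_prod,
    ← _root_.zpow_mul]
  exact Finset.prod_congr rfl fun i _ => by rw [mul_comm]

/-- The twisted torus has `|det (q - U)|` elements and at most `ℓ` elements of order dividing `ℓ`
when the characteristic polynomial of `U` is separable modulo `ℓ`. -/
theorem twFix_torsion [Fintype K] {g : Kˣ} (hg : ∀ c, c ∈ Subgroup.zpowers g)
    {q d : ℕ} (hd0 : 0 < d) (hK : Fintype.card K = q ^ d) {L : List (Fin D.rank)}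
    {U : Matrix (Fin D.rank) (Fin D.rank) ℤ} (hUL : U * T.vM L = 1) (hUd : U ^ d = 1) :
    Nat.card (twFix T K q L) = (U.charpoly.eval (q : ℤ)).natAbs ∧
      ∀ ℓ : ℕ, ℓ.Prime → (ℓ ^ 2 ∣ (U.charpoly.eval (q : ℤ)).natAbs →
        (U.charpoly.map (Int.castRingHom (ZMod ℓ))).Separable) →
          Nat.card (powMonoidHom ℓ : twFix T K q L →* twFix T K q L).ker ≤ ℓ := by
  classical
  set N := orderOf g with hN
  have hQ : 1 ≤ q ^ d := hK ▸ Fintype.card_pos
  have hNK : (N : ℤ) = (q : ℤ) ^ d - 1 := by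
    rw [hN, orderOf_eq_card_of_forall_mem_zpowers hg, Nat.card_eq_fintype_card,
      Fintype.card_units, hK, Nat.cast_sub hQ]
    push_cast
    rfl
  have hN0 : (N : ℤ) ≠ 0 := Nat.cast_ne_zero.mpr (orderOf_pos g).ne'
  have hsurj : ∀ c : Fin D.rank → Kˣ, ∃ v, expo g v = c := fun c => by
    choose v hv using fun k => Subgroup.mem_zpowers_iff.mp (hg (c k))
    exact ⟨v, funext hv⟩
  set Mq : Matrix (Fin D.rank) (Fin D.rank) ℤ := (q : ℤ) • 1 - U with hMq
  have hone : expo g (0 : Fin D.rank → ℤ) = 1 := funext fun j => _root_.zpow_zero g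
  have hfixed : ∀ z, expo g z ∈ twFix T K q L ↔ ∀ k, (N : ℤ) ∣ (Mq *ᵥ z) k := by
    intro z
    show mulAct ((q : ℤ) • T.vM L) (expo g z) = expo g z ↔ _
    rw [mulAct_expo, expo_eq_iff]
    have key : U *ᵥ (((q : ℤ) • T.vM L) *ᵥ z - z) = Mq *ᵥ z := by
      rw [mulVec_sub, mulVec_mulVec, Matrix.mul_smul, hUL, hMq, sub_mulVec]
    have key2 : T.vM L *ᵥ (Mq *ᵥ z) = ((q : ℤ) • T.vM L) *ᵥ z - z := by
      rw [← key, mulVec_mulVec, mul_eq_one_comm.mp hUL, one_mulVec]
    constructor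
    · intro hz k
      rw [← key]
      show _ ∣ ∑ j, U k j * (((q : ℤ) • T.vM L) *ᵥ z - z) j
      exact Finset.dvd_sum fun j _ => Dvd.dvd.mul_left (hz j) _
    · intro hz k
      show (N : ℤ) ∣ (((q : ℤ) • T.vM L) *ᵥ z - z) k
      rw [← key2]
      show _ ∣ ∑ j, T.vM L k j * (Mq *ᵥ z) j
      exact Finset.dvd_sum fun j _ => Dvd.dvd.mul_left (hz j) _
  set Mg : Matrix (Fin D.rank) (Fin D.rank) ℤ :=
    ∑ i ∈ Finset.range d, ((q : ℤ) • 1) ^ i * U ^ (d - 1 - i) with hMg
  have hcomm : Commute ((q : ℤ) • (1 : Matrix (Fin D.rank) (Fin D.rank) ℤ)) U :=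
    (Commute.one_left U).smul_left _
  have hMM : Mq * Mg = (N : ℤ) • 1 := by
    rw [hMq, hMg, hcomm.mul_geom_sum₂ d, hUd, _root_.smul_pow, one_pow, hNK, sub_smul, one_smul]
  have hMM' : Mg * Mq = (N : ℤ) • 1 := by
    have h' : Commute Mq Mg := by
      refine Commute.sum_right _ _ _ fun i _ => ?_
      refine (Commute.pow_right ?_ _).mul_right (Commute.pow_right ?_ _)
      · exact ((Commute.one_right Mq).smul_right _)
      · exact hcomm.sub_left (Commute.refl U)
    rw [← h'.eq, hMM]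
  have hdet : Mq.det ≠ 0 := by
    intro e
    have := congrArg Matrix.det hMM
    rw [det_mul, e, zero_mul, det_smul, det_one, mul_one] at this
    exact pow_ne_zero _ hN0 this.symm
  have hmulinj : Function.Injective Mq.mulVec := fun z w e => sub_eq_zero.mp
    (eq_zero_of_mulVec_eq_zero hdet (by rw [mulVec_sub]; exact sub_eq_zero.mpr e))
  let E : Multiplicative (Fin D.rank → ℤ) →* (Fin D.rank → Kˣ) :=
    MonoidHom.mk' (fun z => expo g z.toAdd) fun z w => expo_add _ _
  let Ψ : Multiplicative (Fin D.rank → ℤ) →* (Fin D.rank → Kˣ) :=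
    E.comp (AddMonoidHom.toMultiplicative Mg.mulVecLin.toAddMonoidHom)
  have hΨ : ∀ z, Ψ z = expo g (Mg *ᵥ z.toAdd) := fun z => rfl
  have hrange : Ψ.range = twFix T K q L := by
    ext b
    constructor
    · rintro ⟨z, rfl⟩
      rw [hΨ, hfixed]
      intro k
      rw [mulVec_mulVec, hMM, smul_mulVec, one_mulVec]
      exact dvd_mul_right _ _
    · intro hb
      obtain ⟨z, rfl⟩ := hsurj b
      have hz := (hfixed z).mp hb
      choose w hw using hz
      refine ⟨Multiplicative.ofAdd w, ?_⟩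
      rw [hΨ, toAdd_ofAdd]
      refine congrArg (expo g) (hmulinj ?_)
      show Mq *ᵥ (Mg *ᵥ w) = Mq *ᵥ z
      rw [mulVec_mulVec, hMM, smul_mulVec, one_mulVec]
      exact funext fun k => (hw k).symm
  have hker : ∀ z, z ∈ Ψ.ker ↔ z.toAdd ∈ LinearMap.range Mq.mulVecLin := by
    intro z
    rw [MonoidHom.mem_ker, hΨ, ← hone, expo_eq_iff]
    simp only [Pi.zero_apply, sub_zero]
    constructor
    · intro hz
      choose w hw using hz
      refine ⟨w, ?_⟩
      show Mq *ᵥ w = z.toAdd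
      have e : Mq *ᵥ (Mg *ᵥ z.toAdd) = (N : ℤ) • (Mq *ᵥ w) := by
        rw [← mulVec_smul, show Mg *ᵥ z.toAdd = (N : ℤ) • w from funext fun k => by
          rw [Pi.smul_apply, smul_eq_mul, hw k]]
      rw [mulVec_mulVec, hMM, smul_mulVec, one_mulVec] at e
      exact funext fun k => mul_left_cancel₀ hN0 (congrFun e.symm k)
    · rintro ⟨w, hw⟩ k
      change Mq *ᵥ w = z.toAdd at hw
      rw [← hw, mulVec_mulVec, hMM', smul_mulVec, one_mulVec]
      exact dvd_mul_right _ _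
  have hcard : Nat.card (twFix T K q L) = (U.charpoly.eval (q : ℤ)).natAbs := by
    rw [← hrange, ← Subgroup.index_ker, Subgroup.index_eq_card]
    have hinj' : Function.Injective Mq.mulVecLin := hmulinj
    rw [show Nat.card (Multiplicative (Fin D.rank → ℤ) ⧸ Ψ.ker) =
      Nat.card ((Fin D.rank → ℤ) ⧸ LinearMap.range Mq.mulVecLin) from
      Nat.card_congr (Quotient.congr Multiplicative.toAdd fun z w => by
        rw [QuotientGroup.leftRel_apply, Submodule.quotientRel_def, hker, toAdd_mul, toAdd_inv,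
          ← Submodule.neg_mem_iff, neg_add, neg_neg, sub_eq_add_neg]),
      ← Submodule.natAbs_det_equiv _ (LinearEquiv.ofInjective Mq.mulVecLin hinj'),
      Matrix.eval_charpoly]
    congr 1
    rw [show (LinearMap.range Mq.mulVecLin).subtype ∘ₗ AddMonoidHom.toIntLinearMap
      ((LinearEquiv.ofInjective Mq.mulVecLin hinj' : _) : (Fin D.rank → ℤ) →+ _) =
      Matrix.toLin' Mq from LinearMap.ext fun z => rfl, LinearMap.det_toLin', hMq, scalar_apply,
      smul_one_eq_diagonal]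
  refine ⟨hcard, fun ℓ hℓ hsep => ?_⟩
  haveI := Fact.mk hℓ
  set J := (powMonoidHom ℓ : twFix T K q L →* twFix T K q L).ker with hJ
  obtain ⟨j, hj⟩ := IsPGroup.iff_card.mp (show IsPGroup ℓ J from fun a => ⟨1, by
    rw [pow_one]; exact Subtype.ext a.2⟩)
  have hdvd : ℓ ^ j ∣ (U.charpoly.eval (q : ℤ)).natAbs := by
    rw [← hcard, ← hj]; exact Subgroup.card_subgroup_dvd_card J
  by_cases hj1 : j ≤ 1
  · rw [hj]
    exact le_trans (Nat.pow_le_pow_right hℓ.pos hj1) (pow_one ℓ).le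
  have hsepU := hsep ((pow_dvd_pow ℓ (not_le.mp hj1)).trans hdvd)
  have htors : ∀ a : J, ∃ z : Fin D.rank → ℤ, ((a : twFix T K q L) : Fin D.rank → Kˣ) = expo g z ∧
      (∀ k, (N : ℤ) ∣ (ℓ : ℤ) * z k) ∧ ∀ k, (N : ℤ) ∣ (Mq *ᵥ z) k := by
    intro a
    obtain ⟨z, hz⟩ := hsurj ((a : twFix T K q L) : Fin D.rank → Kˣ)
    refine ⟨z, hz.symm, fun k => ?_, (hfixed z).mp (hz.symm ▸ (a : twFix T K q L).2)⟩
    have h1 := congrFun (congrArg Subtype.val (show (a : twFix T K q L) ^ ℓ = 1 from a.2)) k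
    rw [Subgroup.coe_pow, ← hz, Pi.pow_apply, expo, ← _root_.zpow_natCast, ← _root_.zpow_mul,
      mul_comm] at h1
    exact orderOf_dvd_iff_zpow_eq_one.mpr h1
  have hlN : (ℓ : ℤ) ∣ N := by
    by_contra hlN
    have : Subsingleton J := ⟨fun a b => by
      have hone' : ∀ a : J, ((a : twFix T K q L) : Fin D.rank → Kˣ) = 1 := fun a => by
        obtain ⟨z, hz, hzl, -⟩ := htors a
        rw [hz, ← hone, expo_eq_iff]
        intro k
        rw [Pi.zero_apply, sub_zero]
        exact (((Nat.prime_iff_prime_int.mp hℓ).coprime_iff_not_dvd.mpr hlN).symm).dvd_of_dvd_mul_left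
          (hzl k)
      exact (Subtype.val_injective.comp Subtype.val_injective) ((hone' a).trans (hone' b).symm)⟩
    rw [Nat.card_eq_one_iff_unique.mpr ⟨this, inferInstance⟩] at hj
    rcases Nat.pow_eq_one.mp hj.symm with h | h
    · exact hℓ.one_lt.ne' h
    · omega
  obtain ⟨n, hn⟩ := hlN
  have hn0 : n ≠ 0 := fun e => hN0 (by rw [hn, e, mul_zero])
  have hl0 : (ℓ : ℤ) ≠ 0 := Nat.cast_ne_zero.mpr hℓ.ne_zero
  choose z hz hzl hzM using htors
  have hdiv : ∀ a k, n ∣ z a k := fun a k => by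
    have := hzl a k
    rw [hn] at this
    exact (mul_dvd_mul_iff_left hl0).mp this
  choose w hw using hdiv
  have hzw : ∀ a, z a = n • w a := fun a => funext (hw a)
  set cl := Int.castRingHom (ZMod ℓ)
  let φU : Module.End (ZMod ℓ) (Fin D.rank → ZMod ℓ) := (U.map cl).mulVecLin
  have hmem : ∀ a, cl ∘ w a ∈ φU.eigenspace (q : ZMod ℓ) := fun a => by
    rw [Module.End.mem_eigenspace_iff]
    funext k
    have h1 := hzM a k
    rw [hn, hzw a, mulVec_smul, Pi.smul_apply, smul_eq_mul, mul_comm (ℓ : ℤ)] at h1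
    have h2 := (ZMod.intCast_zmod_eq_zero_iff_dvd _ _).mpr ((mul_dvd_mul_iff_left hn0).mp h1)
    rw [hMq, sub_mulVec, smul_mulVec, one_mulVec, Pi.sub_apply, Pi.smul_apply, smul_eq_mul,
      Int.cast_sub, Int.cast_mul, Int.cast_natCast, sub_eq_zero] at h2
    show (U.map cl *ᵥ (cl ∘ w a)) k = ((q : ZMod ℓ) • (cl ∘ w a)) k
    rw [← RingHom.map_mulVec]
    exact h2.symm
  let Φ : J → φU.eigenspace (q : ZMod ℓ) := fun a => ⟨cl ∘ w a, hmem a⟩
  have hΦ : Function.Injective Φ := fun a b e => by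
    refine (Subtype.val_injective.comp Subtype.val_injective)
      (show ((a : twFix T K q L) : Fin D.rank → Kˣ) = ((b : twFix T K q L) : Fin D.rank → Kˣ) from ?_)
    rw [hz, hz, expo_eq_iff]
    intro k
    rw [← hN, hn, hw a k, hw b k, ← mul_sub, mul_comm (ℓ : ℤ)]
    refine mul_dvd_mul_left n ?_
    rw [← ZMod.intCast_zmod_eq_zero_iff_dvd, Int.cast_sub, sub_eq_zero]
    exact congrFun (congrArg Subtype.val e) k
  refine le_trans (Nat.card_le_card_of_injective Φ hΦ) ?_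
  have hle : Module.finrank (ZMod ℓ) (φU.eigenspace (q : ZMod ℓ)) ≤ 1 := by
    refine le_trans (LinearMap.finrank_eigenspace_le φU _) ?_
    rw [Matrix.charpoly_mulVecLin, Matrix.charpoly_map]
    exact rootMultiplicity_le_one_of_separable hsepU _
  rw [Module.natCard_eq_pow_finrank (K := ZMod ℓ), Nat.card_zmod]
  exact le_trans (Nat.pow_le_pow_right hℓ.pos hle) (pow_one ℓ).le

/-- The twisted torus has `|det (q - U)|` elements and is cyclic when the characteristic
polynomial of `U` is separable modulo the primes whose square divides the order. -/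
theorem twFix_spec [Fintype K] {g : Kˣ} (hg : ∀ c, c ∈ Subgroup.zpowers g)
    {q d : ℕ} (hd0 : 0 < d) (hK : Fintype.card K = q ^ d) {L : List (Fin D.rank)}
    {U : Matrix (Fin D.rank) (Fin D.rank) ℤ} (hUL : U * T.vM L = 1) (hUd : U ^ d = 1) :
    Nat.card (twFix T K q L) = (U.charpoly.eval (q : ℤ)).natAbs ∧
      ((∀ ℓ : ℕ, ℓ.Prime → ℓ ^ 2 ∣ (U.charpoly.eval (q : ℤ)).natAbs →
        (U.charpoly.map (Int.castRingHom (ZMod ℓ))).Separable) → IsCyclic (twFix T K q L)) := by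
  obtain ⟨h1, h2⟩ := G.twFix_torsion hg hd0 hK hUL hUd
  exact ⟨h1, fun hsep => cyclic_of_prime_torsion fun ℓ hℓ => h2 ℓ hℓ (hsep ℓ hℓ)⟩

omit G in
/-- An element whose order has the full `ℓ`-part bounds the `ℓ`-torsion. -/
theorem torsion_le_of_orderOf {A : Type*} [CommGroup A] [Finite A] {c : A} {ℓ : ℕ} (hℓ : ℓ.Prime)
    (h : ¬ ℓ ∣ Nat.card A / orderOf c) : Nat.card (powMonoidHom ℓ : A →* A).ker ≤ ℓ := by
  set Z := Subgroup.zpowers c
  have hcoprime : ℓ.Coprime Z.index := hℓ.coprime_iff_not_dvd.mpr fun hd => h (by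
    rwa [← Z.card_mul_index, Nat.card_zpowers, Nat.mul_div_cancel_left _ (orderOf_pos c)])
  have hmem : ∀ a : (powMonoidHom ℓ : A →* A).ker, (a : A) ∈ Z := fun a => by
    rw [← QuotientGroup.eq_one_iff]
    have h1 : ((a : A) : A ⧸ Z) ^ ℓ = 1 := by
      rw [← QuotientGroup.mk_pow, show (a : A) ^ ℓ = 1 from a.2, QuotientGroup.mk_one]
    have h2 : ((a : A) : A ⧸ Z) ^ Z.index = 1 := by
      rw [Subgroup.index_eq_card]; exact pow_card_eq_one'
    have h3 := pow_gcd_eq_one.mpr ⟨h1, h2⟩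
    rwa [hcoprime.gcd_eq_one, pow_one] at h3
  let Φ : (powMonoidHom ℓ : A →* A).ker → (powMonoidHom ℓ : Z →* Z).ker := fun a =>
    ⟨⟨a, hmem a⟩, Subtype.ext (show (a : A) ^ ℓ = 1 from a.2)⟩
  refine (Nat.card_le_card_of_injective Φ fun a b e =>
    Subtype.ext (congrArg (fun z : (powMonoidHom ℓ : Z →* Z).ker => ((z : Z) : A)) e)).trans ?_
  rw [IsCyclic.card_powMonoidHom_ker]
  exact Nat.gcd_le_right _ hℓ.pos

end Tab.Good

end CfsgLib.Chev
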