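import Cfsg.Agent.Chev.TwistedAut
import Cfsg.Agent.Chev.TwistedA1
import Cfsg.Agent.Chev.FieldFix

/-!
Automorphisms of twisted groups with orbits of orthogonal roots: the torus of an orbit, rigidity and
field automorphisms.
-/

set_option autoImplicit false

namespace CfsgLib.Chev

open Cfsg.Lie Matrix
open scoped MatrixGroups

namespace Tab

variable {D : ChevalleyDatum}

namespace Good

variable {T : Tab D} (G : T.Good) {F : Type*} [Field F]
include G

theorem glMap_PX (σ : F →+* F) (l : List (Fin D.rank)) (t : Fin D.rank → F) :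
    glMap D σ (G.PX l t) = G.PX l fun i => σ (t i) := by
  rw [PX, map_list_prod, List.map_map]
  exact congrArg List.prod (List.map_congr_left fun i _ => G.glMap_x σ _ _)

theorem glMap_PN (σ : F →+* F) (l : List (Fin D.rank)) (t : Fin D.rank → F) :
    glMap D σ (G.PN l t) = G.PN l fun i => σ (t i) := by
  rw [PN, map_list_prod, List.map_map]
  exact congrArg List.prod (List.map_congr_left fun i _ => G.glMap_x σ _ _)

end Good

namespace Good.A1Data

variable {T : Tab D} {G : T.Good} {F : Type*} [Field F] {Φ : G.Graph F} {orbs : List (List ℕ)}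
  (A : G.A1Data Φ orbs)
include A

local notation "o" => G.oJ orbs

/-- The commutator of an orbit representative and a torus element. -/
theorem n_comm (J : Fin orbs.length) (c : Fin D.rank → Fˣ) :
    G.full.nw F (o J) * T.hT F c * (G.full.nw F (o J))⁻¹ * (T.hT F c)⁻¹ =
      (T.hT F (A.res J fun i => T.chi (D.simple i) c))⁻¹ := by
  have e : T.hT F c * G.full.nw F (o J) * (T.hT F c)⁻¹ =
      T.hT F (A.res J fun i => T.chi (D.simple i) c) * G.full.nw F (o J) := by
    rw [G.nw_eq, conj_list_prod', List.map_map, A.hT_res,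
      ← A.prod_mul J (fun i => G.hr_mem_K1 i _) fun i => G.ns_mem_K1 i]
    exact congrArg List.prod (List.map_congr_left fun i _ => G.hT_conj_ns i c)
  rw [eq_inv_iff_mul_eq_one]
  rw [show T.hT F (A.res J fun i => T.chi (D.simple i) c) =
    T.hT F c * G.full.nw F (o J) * (T.hT F c)⁻¹ * (G.full.nw F (o J))⁻¹ by rw [e]; group]
  group

theorem PX_congr {J : Fin orbs.length} {t t' : Fin D.rank → F} (h : ∀ i ∈ o J, t i = t' i) :
    G.PX (o J) t = G.PX (o J) t' :=
  congrArg List.prod (List.map_congr_left fun i hi => by rw [h i hi])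

theorem PX_congr_one {J : Fin orbs.length} {t t' : Fin D.rank → F} (ht : A.Tup J t)
    (ht' : A.Tup J t') {i : Fin D.rank} (hi : i ∈ o J) (h : t i = t' i) :
    G.PX (o J) t = G.PX (o J) t' :=
  A.PX_congr (A.tup_determined ht ht' hi h)

theorem tup_mul {J : Fin orbs.length} {t t' : Fin D.rank → F} (ht : A.Tup J t)
    (ht' : A.Tup J t') : A.Tup J fun i => t i * t' i := fun i hi => by
  show t (Φ.ρ i) * t' (Φ.ρ i) = Φ.f (G.full.simp' i) (t i * t' i)
  rw [ht i hi, ht' i hi, Φ.f_mul]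

theorem tup_chi {J : Fin orbs.length} {c : Fin D.rank → Fˣ} (hc : c ∈ A.Cσ) :
    A.Tup J fun i => ((T.chi (D.simple i) c : Fˣ) : F) := fun i _ => A.chi_fixed hc i

theorem PX_mul (J : Fin orbs.length) (t t' : Fin D.rank → F) :
    G.PX (o J) t * G.PX (o J) t' = G.PX (o J) (t + t') := by
  rw [PX, PX, PX, ← A.prod_mul J (fun i => G.x_mem_K1 i _) (fun i => G.x_mem_K1 i _)]
  exact congrArg List.prod (List.map_congr_left fun i _ => G.full.x_add _ _ _)

variable [Finite F]
  {htor : ∀ c, T.hT F (Φ.σc c) = T.hT F c → T.hT F (c * c) = 1 → T.hT F c ∈ A.torus}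

/-- An automorphism fixing all the fixed root groups pointwise is trivial. -/
theorem aut_eq_one {L₀ : List (Fin (A.twisted htor).nJ)}
    (h₀ : (A.twisted htor).IsMinusOne L₀) {α : MulAut (A.twisted htor).G1}
    (hα : (A.twisted htor).FixBoth L₀ α)
    (hJ : ∀ J, ∀ z : (A.twisted htor).G1, (A.twisted htor).Cell [J] (α z : GL D.Idx F) ↔
      (A.twisted htor).Cell [J] (z : GL D.Idx F))
    (hfix : ∀ J, ∀ z : (A.twisted htor).G1,
      (z : GL D.Idx F) ∈ (A.twisted htor).XJ J → α z = z)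
    (z : (A.twisted htor).G1) : α z = z := by
  obtain ⟨g, hg⟩ := z
  have key : ∀ g (h : g ∈ A.grp), α ⟨g, h⟩ = ⟨g, h⟩ := by
    intro g hg
    induction hg using Subgroup.closure_induction with
    | mem g hg =>
      obtain ⟨J, t, ht, rfl | rfl⟩ := hg
      · exact hfix J _ (A.mem_XJ.mpr ⟨t, ht, rfl⟩)
      · refine (A.twisted htor).aut_rigid h₀ hα A.xNontrivial (hJ J) (hfix J) ?_
        refine (A.twisted htor).mem_XN.mpr ?_
        show (G.full.nw F (o J))⁻¹ * G.PN (o J) t * G.full.nw F (o J) ∈ _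
        rw [show t = fun i => -(fun i => -t i) i from funext fun i => (neg_neg _).symm,
          ← A.n_conj_PX, show ∀ a b : GL D.Idx F, a⁻¹ * (a * b * a⁻¹) * a = b from fun a b => by
            group]
        exact A.mem_XJ.mpr ⟨_, A.tup_neg ht, rfl⟩
    | one => exact map_one α
    | mul a b ha hb h1 h2 =>
      show α (⟨a, ha⟩ * ⟨b, hb⟩) = ⟨a, ha⟩ * ⟨b, hb⟩
      rw [map_mul]
      exact congrArg₂ (· * ·) h1 h2
    | inv a ha h1 =>
      show α ((⟨a, ha⟩ : (A.twisted htor).G1)⁻¹) = (⟨a, ha⟩ : (A.twisted htor).G1)⁻¹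
      rw [map_inv]
      exact congrArg Inv.inv h1
  exact key g hg

variable (hσ : ∀ (σ : F ≃+* F) (i : Fin D.rank) (x : F),
  σ (Φ.f (G.full.simp' i) x) = Φ.f (G.full.simp' i) (σ x))
include hσ

omit [Finite F] in
theorem glMap_grp (σ : F ≃+* F) {g : GL D.Idx F} (hg : g ∈ A.grp) :
    glMap D σ.toRingHom g ∈ A.grp := by
  have h : A.grp ≤ A.grp.comap (glMap D σ.toRingHom) := by
    refine (Subgroup.closure_le _).mpr ?_
    rintro g ⟨J, t, ht, hg⟩
    have ht' : A.Tup J fun i => σ (t i) := fun i hi => by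
      show σ (t (Φ.ρ i)) = Φ.f (G.full.simp' i) (σ (t i))
      rw [ht i hi, hσ]
    rw [SetLike.mem_coe, Subgroup.mem_comap]
    rcases hg with rfl | rfl
    · rw [G.glMap_PX]; exact A.PX_mem ht'
    · rw [G.glMap_PN]; exact A.PN_mem ht'
  exact h hg

/-- A field automorphism of the twisted group. -/
noncomputable def fieldAut (σ : F ≃+* F) : MulAut (A.twisted htor).G1 where
  toFun g := ⟨glMap D σ.toRingHom g, A.glMap_grp hσ σ g.2⟩
  invFun g := ⟨glMap D σ.symm.toRingHom g, A.glMap_grp hσ σ.symm g.2⟩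
  left_inv g := Subtype.ext (Units.ext (Matrix.ext fun _ _ => σ.symm_apply_apply _))
  right_inv g := Subtype.ext (Units.ext (Matrix.ext fun _ _ => σ.apply_symm_apply _))
  map_mul' g g' := Subtype.ext (map_mul (glMap D σ.toRingHom) _ _)

theorem fieldAut_fieldAut (σ τ : F ≃+* F) (g : (A.twisted htor).G1) :
    A.fieldAut hσ τ (A.fieldAut hσ σ g) = A.fieldAut hσ (σ.trans τ) g :=
  Subtype.ext (Units.ext (Matrix.ext fun _ _ => rfl))

theorem fieldAut_refl (g : (A.twisted htor).G1) : A.fieldAut hσ (RingEquiv.refl F) g = g :=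
  Subtype.ext (Units.ext (Matrix.ext fun _ _ => rfl))

theorem fieldAut_symm_apply (σ : F ≃+* F) (g : (A.twisted htor).G1) :
    A.fieldAut hσ σ (A.fieldAut hσ σ.symm g) = g := by
  rw [A.fieldAut_fieldAut, RingEquiv.symm_trans_self, A.fieldAut_refl]

theorem fieldAut_fixBoth (σ : F ≃+* F) (L₀ : List (Fin (A.twisted htor).nJ)) :
    (A.twisted htor).FixBoth L₀ (A.fieldAut hσ σ) := by
  have hpos : ∀ (τ : F ≃+* F) (g : (A.twisted htor).G1), (g : GL D.Idx F) ∈ (A.twisted htor).U1 →
      (A.fieldAut hσ τ g : GL D.Idx F) ∈ (A.twisted htor).U1 := fun τ g hg => by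
    rw [← (A.twisted htor).inf_pos]
    refine Subgroup.mem_inf.mpr ⟨(A.fieldAut hσ τ g).2, ?_⟩
    rw [G.posUnipotent_eq]
    show glMap D τ.toRingHom (g : GL D.Idx F) ∈ _
    refine G.glMap_US τ.toRingHom ?_
    rw [← G.posUnipotent_eq (F := F)]
    exact hg.2
  have hn : ∀ (τ : F ≃+* F),
      glMap D τ.toRingHom ((A.twisted htor).nT L₀) = (A.twisted htor).nT L₀ := fun τ => by
    rw [Twisted.nT, map_list_prod, List.map_map]
    exact congrArg List.prod (List.map_congr_left fun J _ => G.glMap_nw τ.toRingHom _)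
  have hneg : ∀ (τ : F ≃+* F) (g : (A.twisted htor).G1),
      (g : GL D.Idx F) ∈ (A.twisted htor).V1 L₀ →
        (A.fieldAut hσ τ g : GL D.Idx F) ∈ (A.twisted htor).V1 L₀ := fun τ g hg => by
    rw [(A.twisted htor).mem_V1] at hg ⊢
    have hm : (A.twisted htor).nT L₀ ∈ (A.twisted htor).G1 := (A.twisted htor).nT_mem L₀
    have := hpos τ ⟨_, mul_mem (mul_mem (inv_mem hm) g.2) hm⟩ hg
    show ((A.twisted htor).nT L₀)⁻¹ * glMap D τ.toRingHom g * (A.twisted htor).nT L₀ ∈ _
    rw [← hn τ, ← map_inv, ← map_mul, ← map_mul]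
    exact this
  refine ⟨fun g => ⟨fun h => ?_, hpos σ g⟩, fun g => ⟨fun h => ?_, hneg σ g⟩⟩
  · have := hpos σ.symm _ h
    rwa [A.fieldAut_fieldAut, RingEquiv.self_trans_symm, A.fieldAut_refl] at this
  · have := hneg σ.symm _ h
    rwa [A.fieldAut_fieldAut, RingEquiv.self_trans_symm, A.fieldAut_refl] at this

theorem fieldAut_PX (σ : F ≃+* F) {J : Fin orbs.length} {t : Fin D.rank → F} (ht : A.Tup J t) :
    ((A.fieldAut (htor := htor) hσ σ ⟨G.PX (o J) t, A.PX_mem ht⟩ : (A.twisted htor).G1) :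
      GL D.Idx F) = G.PX (o J) fun i => σ (t i) :=
  G.glMap_PX σ.toRingHom _ _

end Good.A1Data

end Tab

end CfsgLib.Chev
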