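import Cfsg.Agent.Chev.TwistedBN
import Cfsg.Agent.Chev.TwistedCard

/-!
The double cosets of a twisted group with respect to its Borel subgroup, and the position of the
opposite unipotent subgroup.
-/

set_option autoImplicit false

namespace CfsgLib.Chev

open Cfsg.Lie Matrix
open scoped MatrixGroups

namespace Tab

variable {D : ChevalleyDatum}

namespace Good.Twisted

variable {T : Tab D} {G : T.Good} {F : Type*} [Field F] {Φ : G.Graph F} (Z : Twisted Φ)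

/-- The double coset of the representative of a word. -/
def Cell (L : List (Fin Z.nJ)) (g : GL D.Idx F) : Prop :=
  ∃ u ∈ Z.U1, ∃ h ∈ Z.H0, ∃ v ∈ Z.U1, g = u * h * Z.nT L * v

/-- `U¹ H¹`. -/
def InB (g : GL D.Idx F) : Prop := ∃ u ∈ Z.U1, ∃ h ∈ Z.H0, g = u * h

/-- The word represents the longest element and this is central in the fixed Weyl group, so it
acts as `-1` on the fixed vectors. -/
structure IsMinusOne (L : List (Fin Z.nJ)) : Prop where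
  sign : ∀ s : Fin D.nroots, IsPos D (Z.pwT L s).val ↔ ¬ IsPos D s.val
  central : ∀ J, Z.pwT L * Z.w J = Z.w J * Z.pwT L

/-- The conjugate of `U¹` by the representative of a word. -/
noncomputable def V1 (L : List (Fin Z.nJ)) : Subgroup (GL D.Idx F) :=
  Z.U1.comap (MulAut.conj (Z.nT L)⁻¹).toMonoidHom

/-- The negative root group of an orbit. -/
noncomputable def XN (J : Fin Z.nJ) : Subgroup (GL D.Idx F) :=
  (Z.XJ J).comap (MulAut.conj (Z.n J)⁻¹).toMonoidHom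

include Z

theorem mem_V1 {L : List (Fin Z.nJ)} {g : GL D.Idx F} :
    g ∈ Z.V1 L ↔ (Z.nT L)⁻¹ * g * Z.nT L ∈ Z.U1 := by
  simp [V1]

theorem mem_XN {J : Fin Z.nJ} {g : GL D.Idx F} :
    g ∈ Z.XN J ↔ (Z.n J)⁻¹ * g * Z.n J ∈ Z.XJ J := by
  simp [XN]

theorem isMinusOne_of_negF {L : List (Fin Z.nJ)} (h : ∀ s, Z.pwT L s = negF s) :
    Z.IsMinusOne L where
  sign s := by rw [h]; exact G.pos_negF
  central J := Equiv.ext fun s => by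
    rw [Equiv.Perm.mul_apply, Equiv.Perm.mul_apply, h, h, w, G.negF_pw]

theorem isMinusOne_of_negF_pi {L : List (Fin Z.nJ)} (h : ∀ s, Z.pwT L s = negF (Φ.π s)) :
    Z.IsMinusOne L where
  sign s := by rw [h, G.pos_negF, Φ.pos]
  central J := Equiv.ext fun s => by
    rw [Equiv.Perm.mul_apply, Equiv.Perm.mul_apply, h, h, w, ← Z.comm J, G.negF_pw]

omit Z in
theorem IsMinusOne.sq {Z : Twisted Φ} {L : List (Fin Z.nJ)} (h : Z.IsMinusOne L) :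
    Z.pwT L * Z.pwT L = 1 := by
  have e : G.full.pw ((L ++ L).flatMap Z.word) = 1 := G.eq_one_of_pw_pos fun s hs => by
    show IsPos D (Z.pwT (L ++ L) s).val
    rw [Z.pwT_append, Equiv.Perm.mul_apply, h.sign, h.sign, not_not]
    exact hs
  rw [← Z.pwT_append]
  exact e

theorem inB_mem {g : GL D.Idx F} (h : Z.InB g) : g ∈ Z.G1 := by
  obtain ⟨u, hu, k, hk, rfl⟩ := h
  exact mul_mem (Z.U1_le hu) (Z.H0_le hk)

theorem inB_borel {g : GL D.Idx F} (h : Z.InB g) : g ∈ D.borelSubgroup F := by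
  obtain ⟨u, hu, k, hk, rfl⟩ := h
  exact mul_mem (Z.U1_le_borel hu) (Z.H0_le_borel hk)

theorem inB_iff {g : GL D.Idx F} (hg : g ∈ Z.G1) : Z.InB g ↔ g ∈ D.borelSubgroup F :=
  ⟨Z.inB_borel, fun h => Z.mem_B1 hg h⟩

theorem inB_U1 {u : GL D.Idx F} (hu : u ∈ Z.U1) : Z.InB u :=
  ⟨u, hu, 1, one_mem _, (mul_one u).symm⟩

theorem inB_mul {a b : GL D.Idx F} (ha : Z.InB a) (hb : Z.InB b) : Z.InB (a * b) := by
  obtain ⟨u, hu, h, hh, rfl⟩ := ha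
  obtain ⟨v, hv, k, hk, rfl⟩ := hb
  exact ⟨u * (h * v * h⁻¹), mul_mem hu (Z.H0_conj_U1 hh hv), h * k, mul_mem hh hk, by group⟩

theorem inB_inv {a : GL D.Idx F} (ha : Z.InB a) : Z.InB a⁻¹ := by
  obtain ⟨u, hu, h, hh, rfl⟩ := ha
  refine ⟨h⁻¹ * u⁻¹ * h, ?_, h⁻¹, inv_mem hh, by group⟩
  simpa using Z.H0_conj_U1 (inv_mem hh) (inv_mem hu)

theorem inB_normalizes {a u : GL D.Idx F} (ha : Z.InB a) (hu : u ∈ Z.U1) :
    a * u * a⁻¹ ∈ Z.U1 := by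
  obtain ⟨v, hv, h, hh, rfl⟩ := ha
  rw [show v * h * u * (v * h)⁻¹ = v * (h * u * h⁻¹) * v⁻¹ by group]
  exact mul_mem (mul_mem hv (Z.H0_conj_U1 hh hu)) (inv_mem hv)

theorem cell_mem {L : List (Fin Z.nJ)} {g : GL D.Idx F} (h : Z.Cell L g) : g ∈ Z.G1 := by
  obtain ⟨u, hu, k, hk, v, hv, rfl⟩ := h
  exact mul_mem (mul_mem (mul_mem (Z.U1_le hu) (Z.H0_le hk)) (Z.nT_mem L)) (Z.U1_le hv)

theorem cell_nT (L : List (Fin Z.nJ)) : Z.Cell L (Z.nT L) :=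
  ⟨1, one_mem _, 1, one_mem _, 1, one_mem _, by group⟩

theorem cell_mul_left {L : List (Fin Z.nJ)} {a g : GL D.Idx F} (ha : Z.InB a) (hg : Z.Cell L g) :
    Z.Cell L (a * g) := by
  obtain ⟨u, hu, h, hh, v, hv, rfl⟩ := hg
  obtain ⟨w, hw, k, hk, rfl⟩ := ha
  exact ⟨w * (k * u * k⁻¹), mul_mem hw (Z.H0_conj_U1 hk hu), k * h, mul_mem hk hh, v, hv,
    by group⟩

theorem cell_mul_right {L : List (Fin Z.nJ)} {a g : GL D.Idx F} (ha : Z.InB a) (hg : Z.Cell L g) :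
    Z.Cell L (g * a) := by
  obtain ⟨u, hu, h, hh, v, hv, rfl⟩ := hg
  obtain ⟨w, hw, k, hk, rfl⟩ := ha
  refine ⟨u, hu, h * (Z.nT L * k * (Z.nT L)⁻¹), mul_mem hh (Z.nT_H0 L hk),
    k⁻¹ * (v * w) * k, ?_, by group⟩
  simpa using Z.H0_conj_U1 (inv_mem hk) (mul_mem hv hw)

theorem cell_congr {L L' : List (Fin Z.nJ)} (e : Z.pwT L = Z.pwT L') {g : GL D.Idx F}
    (hg : Z.Cell L g) : Z.Cell L' g := by
  obtain ⟨u, hu, h, hh, v, hv, rfl⟩ := hg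
  obtain ⟨k, hk, ek⟩ := Z.nT_congr e
  exact ⟨u, hu, h * k, mul_mem hh hk, v, hv, by rw [ek]; group⟩

theorem exists_cell {g : GL D.Idx F} (hg : g ∈ Z.G1) : ∃ L, Z.Red L ∧ Z.Cell L g := by
  obtain ⟨u, hu, h, hh, L, hL, v, hv, rfl⟩ := Z.canonical hg
  exact ⟨L, hL, u, hu, h, hh, v, Z.UT_le_U1 L hv, rfl⟩

theorem cell_canonical {L : List (Fin Z.nJ)} {g : GL D.Idx F} (hg : Z.Cell L g) :
    ∃ u ∈ Z.U1, ∃ h ∈ Z.H0, ∃ v ∈ Z.UT L, g = u * h * Z.nT L * v := by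
  obtain ⟨u, hu, h, hh, v, hv, rfl⟩ := hg
  have hv2 : v ∈ G.US F {r | IsPos D r} := by rw [← G.posUnipotent_eq]; exact hv.2
  obtain ⟨a, ha, b, hb, rfl⟩ := G.US_split (G.closed_keep _) (G.closed_flip _) G.closed_pos
    (pos_eq_keep_union_flip (Z.pwT L)) hv2
  have hga : a ∈ D.group F := G.US_le_group _ ha
  have hgb : b ∈ D.group F := G.US_le_group _ hb
  have e := hv.1.2
  rw [Φ.A_mul hga hgb] at e
  obtain ⟨ea, eb⟩ := G.split_unique (Z.nT_act L) (Φ.A_keep (Z.pwT_comm L) ha) ha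
    (Φ.A_flip (Z.pwT_comm L) hb) hb e
  have hna : Z.nT L * a * (Z.nT L)⁻¹ ∈ Z.U1 := by
    refine ⟨Z.fix_conj (Z.le_fix (Z.nT_mem L)) ⟨hga, ea⟩, ?_⟩
    rw [G.posUnipotent_eq]
    exact G.conj_x_act (Z.nT_act L)
      (fun s hs => by obtain ⟨hlt, -, h3⟩ := hs; exact ⟨hlt, h3⟩) ha
  exact ⟨u * (h * (Z.nT L * a * (Z.nT L)⁻¹) * h⁻¹), mul_mem hu (Z.H0_conj_U1 hh hna), h, hh, b,
    ⟨⟨hgb, eb⟩, hb⟩, by group⟩

theorem pwT_eq_of_diag {L L' : List (Fin Z.nJ)}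
    (h : (Z.nT L)⁻¹ * Z.nT L' ∈ D.diagonalSubgroup F) : Z.pwT L = Z.pwT L' := by
  have h1 := G.rootAct_mul (Z.nT_act L) (Z.rootAct_eq_one h)
  rw [mul_inv_cancel_left, mul_one] at h1
  exact (G.rootAct_unique (Z.nT_act L') h1).symm

theorem cell_unique {L L' : List (Fin Z.nJ)} {g : GL D.Idx F} (h1 : Z.Cell L g)
    (h2 : Z.Cell L' g) : Z.pwT L = Z.pwT L' := by
  obtain ⟨u, hu, h, hh, v, hv, e1⟩ := Z.cell_canonical h1
  obtain ⟨u', hu', h', hh', v', hv', e2⟩ := Z.cell_canonical h2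
  exact Z.pwT_eq_of_diag (G.canonical_unique (Z.inB_borel ⟨u, hu, h, hh, rfl⟩)
    (Z.inB_borel ⟨u', hu', h', hh', rfl⟩) (Z.nT_mono L) (Z.nT_mono L') (Z.nT_act L)
    (Z.nT_act L') hv.2 hv'.2 (e1.symm.trans e2)).1

theorem card_cell (L : List (Fin Z.nJ)) :
    Nat.card {g : Z.G1 // Z.Cell L g} = Nat.card Z.U1 * Nat.card Z.H0 * Nat.card (Z.UT L) := by
  rw [← Nat.card_prod, ← Nat.card_prod]
  refine (Nat.card_eq_of_bijective (fun p : (Z.U1 × Z.H0) × Z.UT L =>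
    (⟨⟨(p.1.1 : GL D.Idx F) * p.1.2 * Z.nT L * p.2, mul_mem (mul_mem (mul_mem (Z.U1_le p.1.1.2)
      (Z.H0_le p.1.2.2)) (Z.nT_mem L)) (Z.U1_le (Z.UT_le_U1 L p.2.2))⟩,
      ⟨p.1.1, p.1.1.2, p.1.2, p.1.2.2, p.2, Z.UT_le_U1 L p.2.2, rfl⟩⟩ :
      {g : Z.G1 // Z.Cell L g})) ⟨?_, ?_⟩).symm
  · rintro ⟨⟨u, h⟩, v⟩ ⟨⟨u', h'⟩, v'⟩ e
    have e' := congrArg (fun g : {g : Z.G1 // Z.Cell L g} => ((g.1 : Z.G1) : GL D.Idx F)) e
    obtain ⟨eb, ev⟩ := (G.canonical_unique (Z.inB_borel ⟨u, u.2, h, h.2, rfl⟩)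
      (Z.inB_borel ⟨u', u'.2, h', h'.2, rfl⟩) (Z.nT_mono L) (Z.nT_mono L) (Z.nT_act L)
      (Z.nT_act L) v.2.2 v'.2.2 e').2 rfl
    have hu : (u' : GL D.Idx F)⁻¹ * u ∈ D.posUnipotent F ⊓ D.diagonalSubgroup F := by
      refine Subgroup.mem_inf.mpr ⟨mul_mem (inv_mem u'.2.2) u.2.2, ?_⟩
      have : (u' : GL D.Idx F)⁻¹ * u = h' * (h : GL D.Idx F)⁻¹ := by
        rw [eq_mul_inv_iff_mul_eq, mul_assoc, eb, inv_mul_cancel_left]
      rw [this]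
      exact mul_mem (Z.H0_diag h'.2) (inv_mem (Z.H0_diag h.2))
    rw [G.pos_inf_diagonal, Subgroup.mem_bot, inv_mul_eq_one] at hu
    have hu' : u = u' := Subtype.ext hu.symm
    subst hu'
    exact Prod.ext (Prod.ext rfl (Subtype.ext (mul_left_cancel eb))) (Subtype.ext ev)
  · rintro ⟨⟨g, hg⟩, hc⟩
    obtain ⟨u, hu, h, hh, v, hv, e⟩ := Z.cell_canonical hc
    exact ⟨((⟨u, hu⟩, ⟨h, hh⟩), ⟨v, hv⟩), Subtype.ext (Subtype.ext e.symm)⟩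

/-! ### The reduced words -/

theorem flip_single_subset {L : List (Fin Z.nJ)} {J : Fin Z.nJ} (h : Z.Red (L ++ [J])) :
    flipSet (Z.w J) ⊆ flipSet (Z.pwT (L ++ [J])) := by
  generalize eM : L ++ [J] = M at h
  cases h with
  | nil => simp at eM
  | step L' J' _ h' =>
    obtain ⟨rfl, e2⟩ := List.append_inj' eM rfl
    obtain rfl := List.singleton_inj.mp e2
    exact (Z.UT_step h').1

theorem Red.no_repeat {L : List (Fin Z.nJ)} {J : Fin Z.nJ} : ¬ Z.Red (L ++ [J] ++ [J]) := by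
  intro h
  generalize eM : L ++ [J] ++ [J] = M at h
  cases h with
  | nil => simp at eM
  | step L' J' hr h' =>
    obtain ⟨rfl, e2⟩ := List.append_inj' eM rfl
    obtain rfl := List.singleton_inj.mp e2
    obtain ⟨i, hi⟩ := List.exists_mem_of_ne_nil _ (Z.orb_ne J)
    obtain ⟨_, -, h2⟩ := Z.flip_single_subset hr (Z.simp_mem_flip hi)
    exact h2 (h' i hi)

theorem card_UT_prod {kJ : Fin Z.nJ → ℕ} {q : ℕ} (hX : ∀ J, Nat.card (Z.XJ J) = q ^ kJ J)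
    {L : List (Fin Z.nJ)} (hL : Z.Red L) : Nat.card (Z.UT L) = q ^ (L.map kJ).sum := by
  induction hL with
  | nil =>
    have e : flipSet (Z.pwT []) = ∅ := by
      ext s
      rw [Z.pwT_nil]
      exact ⟨fun ⟨_, h1, h2⟩ => h2 h1, False.elim⟩
    have hbot : Z.UT [] = ⊥ := by
      refine le_bot_iff.mp (inf_le_right.trans ?_)
      rw [e]
      exact (Subgroup.closure_le _).mpr fun _ ⟨r, hr, _⟩ => hr.elim
    rw [hbot, Subgroup.card_bot]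
    simp
  | step L J _ h ih =>
    rw [Z.card_UT_step h, ih, hX, List.map_append, List.sum_append, pow_add]
    simp

/-! ### Normalisers -/

theorem exists_all_pos {L : List (Fin Z.nJ)} {s : Fin D.nroots} (hs : IsPos D s.val)
    (h : IsPos D (Z.pwT L s).val) :
    ∃ J, ∀ i ∈ Z.orb J, IsPos D (Z.pwT L (G.full.simp' i)).val := by
  by_contra hc
  simp only [not_exists] at hc
  have hneg : ∀ i, ¬ IsPos D (Z.pwT L (G.full.simp' i)).val := fun i => by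
    obtain ⟨J, hJ⟩ := Z.cover i
    exact (Z.same_sign (Z.pwT_comm L) J).resolve_left (hc J) i hJ
  obtain ⟨j, hj⟩ := G.exists_cor_ne_zero (F := ℚ) (Z.pwT L s).isLt
  have hle : T.cor (Z.pwT L s) j ≤ 0 := by
    rw [pwT, G.cor_linear (G.pw_mem_full (L.flatMap Z.word))]
    refine Finset.sum_nonpos fun l _ => mul_nonpos_of_nonneg_of_nonpos
      ((G.pos_iff_cor s.isLt).mp hs l) ((G.cor_sign (Fin.isLt _) j.isLt).2 fun e => hneg l ?_)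
    exact ⟨Fin.isLt _, e⟩
  exact hj (by rw [le_antisymm hle ((G.pos_iff_cor (Fin.isLt _)).mp h j)]; simp)

theorem inB_of_normalizes (hX : Z.XNontrivial) {g : GL D.Idx F} (hg : g ∈ Z.G1)
    (hn : ∀ u ∈ Z.U1, g * u * g⁻¹ ∈ Z.U1) : Z.InB g := by
  obtain ⟨u, hu, h, hh, L, hL, v, hv, rfl⟩ := Z.canonical hg
  rcases hL with _ | ⟨L', J, hL', hpos⟩
  · refine ⟨u * (h * v * h⁻¹), mul_mem hu (Z.H0_conj_U1 hh (Z.UT_le_U1 _ hv)), h, hh, ?_⟩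
    rw [show Z.nT [] = 1 by simp [nT]]
    group
  exfalso
  obtain ⟨x, hx, hne⟩ := hX J
  have hv' := Z.UT_le_U1 _ hv
  set n := Z.nT (L' ++ [J])
  have h1 := hn (v⁻¹ * x * v) (mul_mem (mul_mem (inv_mem hv') (Z.XJ_le_U1 J hx)) hv')
  rw [show u * h * n * v * (v⁻¹ * x * v) * (u * h * n * v)⁻¹ =
    (u * h) * (n * x * n⁻¹) * (u * h)⁻¹ by group] at h1
  have h2 := Z.inB_normalizes (Z.inB_inv ⟨u, hu, h, hh, rfl⟩) h1
  rw [inv_inv, show (u * h)⁻¹ * ((u * h) * (n * x * n⁻¹) * (u * h)⁻¹) * (u * h) =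
    n * x * n⁻¹ by group] at h2
  have h3 := G.pos_inf_neg h2.2 (G.conj_flip_mem_neg (Z.nT_act _)
    (G.US_mono (fun s hs => (Z.UT_step hpos).1 hs) hx.2))
  exact hne (conj_eq_one_iff.mp h3)

/-- An element moving `U¹` to a group with trivial intersection with it. -/
theorem cell_of_disjoint (hX : Z.XNontrivial) {L₀ : List (Fin Z.nJ)} (h₀ : Z.IsMinusOne L₀)
    {g : GL D.Idx F} (hg : g ∈ Z.G1)
    (hd : ∀ u ∈ Z.U1, g * u * g⁻¹ ∈ Z.U1 → u = 1) : Z.Cell L₀ g := by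
  obtain ⟨u, hu, h, hh, L, -, v, hv, rfl⟩ := Z.canonical hg
  have hall : ∀ s, IsPos D s.val → ¬ IsPos D (Z.pwT L s).val := by
    intro s hs hpos
    obtain ⟨J, hJ⟩ := Z.exists_all_pos hs hpos
    obtain ⟨x, hx, hne⟩ := hX J
    have hv' := Z.UT_le_U1 _ hv
    have hnx : Z.nT L * x * (Z.nT L)⁻¹ ∈ Z.U1 := by
      refine Subgroup.mem_inf.mpr
        ⟨Z.fix_conj (Z.le_fix (Z.nT_mem L)) (Subgroup.mem_inf.mp hx).1, ?_⟩
      rw [G.posUnipotent_eq]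
      exact G.conj_x_act (Z.nT_act L) (fun s hs => by
        obtain ⟨hlt, h1, h2⟩ := hs
        exact ⟨hlt, Z.pos_of_all_pos hJ (s := ⟨s, hlt⟩) ⟨hlt, h1, h2⟩⟩) hx.2
    have h1 := hd (v⁻¹ * x * v) (mul_mem (mul_mem (inv_mem hv') (Z.XJ_le_U1 J hx)) hv') (by
      rw [show u * h * Z.nT L * v * (v⁻¹ * x * v) * (u * h * Z.nT L * v)⁻¹ =
        (u * h) * (Z.nT L * x * (Z.nT L)⁻¹) * (u * h)⁻¹ by group]
      exact Z.inB_normalizes ⟨u, hu, h, hh, rfl⟩ hnx)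
    exact hne (by simpa using conj_eq_one_iff (a := v⁻¹) |>.mp (by simpa using h1))
  have e : Z.pwT L = Z.pwT L₀ := by
    have hsq : G.full.pw (L₀.flatMap Z.word ++ L.flatMap Z.word) = 1 :=
      G.eq_one_of_pw_pos fun s hs => by
        rw [G.pw_append, Equiv.Perm.mul_apply]
        show IsPos D (Z.pwT L₀ (Z.pwT L s)).val
        exact (h₀.sign _).mpr (hall s hs)
    rw [G.pw_append] at hsq
    exact mul_left_cancel (hsq.trans h₀.sq.symm)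
  exact Z.cell_congr e ⟨u, hu, h, hh, v, Z.UT_le_U1 L hv, rfl⟩

/-! ### The opposite subgroups -/

variable {L₀ : List (Fin Z.nJ)} (h₀ : Z.IsMinusOne L₀)
include h₀

theorem U1_le_flip : Z.U1 ≤ Z.UT L₀ := by
  rw [Z.UT_longest fun s hs => fun h => (h₀.sign s).mp h hs]

theorem nT_sq : Z.nT L₀ * Z.nT L₀ ∈ Z.H0 := by
  rw [← Z.nT_append]
  refine Z.torus_word _ ?_
  show Z.pwT (L₀ ++ L₀) = 1
  rw [Z.pwT_append]
  exact h₀.sq

theorem inB_inf_V1 {g : GL D.Idx F} (hB : Z.InB g) (hV : g ∈ Z.V1 L₀) : g = 1 := by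
  have h1 := Z.mem_V1.mp hV
  have h2 := G.conj_flip_mem_neg (Z.nT_act L₀) (Z.U1_le_flip h₀ h1).2
  rw [show Z.nT L₀ * ((Z.nT L₀)⁻¹ * g * Z.nT L₀) * (Z.nT L₀)⁻¹ = g by group] at h2
  have h3 : g ∈ D.borelSubgroup F ⊓ D.negUnipotent F := ⟨Z.inB_borel hB, h2⟩
  rwa [G.borel_inf_neg, Subgroup.mem_bot] at h3

theorem conj_V1 {g : GL D.Idx F} :
    Z.nT L₀ * g * (Z.nT L₀)⁻¹ ∈ Z.U1 ↔ g ∈ Z.V1 L₀ := by
  have hsq := Z.nT_sq h₀
  rw [Z.mem_V1]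
  constructor
  · intro h
    have := Z.H0_conj_U1 (inv_mem hsq) h
    convert this using 1
    group
  · intro h
    have := Z.H0_conj_U1 hsq h
    convert this using 1
    group

theorem H0_conj_V1 {h g : GL D.Idx F} (hh : h ∈ Z.H0) (hg : g ∈ Z.V1 L₀) :
    h * g * h⁻¹ ∈ Z.V1 L₀ := by
  have hk := Z.nT_H0 L₀ hh
  rw [← Z.conj_V1 h₀] at hg ⊢
  have := Z.H0_conj_U1 hk hg
  convert this using 1
  group

theorem mem_H0_of_normalizes (hX : Z.XNontrivial) {g : GL D.Idx F} (hg : g ∈ Z.G1)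
    (hU : ∀ u ∈ Z.U1, g * u * g⁻¹ ∈ Z.U1) (hV : ∀ u ∈ Z.V1 L₀, g * u * g⁻¹ ∈ Z.V1 L₀) :
    g ∈ Z.H0 := by
  obtain ⟨u, hu, h, hh, rfl⟩ := Z.inB_of_normalizes hX hg hU
  suffices u = 1 by rw [this, one_mul]; exact hh
  have hu' : ∀ w ∈ Z.V1 L₀, u * w * u⁻¹ ∈ Z.V1 L₀ := fun w hw => by
    have := hV _ (Z.H0_conj_V1 h₀ (inv_mem hh) hw)
    convert this using 1
    group
  set n := Z.nT L₀
  have hc : Z.InB (n⁻¹ * u * n) := by
    refine Z.inB_of_normalizes hX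
      (mul_mem (mul_mem (inv_mem (Z.nT_mem _)) (Z.U1_le hu)) (Z.nT_mem _)) fun w hw => ?_
    have h1 := hu' (n * w * n⁻¹) (Z.mem_V1.mpr (by
      rwa [show n⁻¹ * (n * w * n⁻¹) * n = w by group]))
    have h2 : n⁻¹ * (u * (n * w * n⁻¹) * u⁻¹) * n ∈ Z.U1 := Z.mem_V1.mp h1
    convert h2 using 1
    group
  obtain ⟨a, ha, k, hk, e⟩ := hc
  have hm : n * a * n⁻¹ ∈ Z.V1 L₀ :=
    Z.mem_V1.mpr (by rwa [show n⁻¹ * (n * a * n⁻¹) * n = a by group])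
  have e' : u * (n * k * n⁻¹)⁻¹ = n * a * n⁻¹ := by
    rw [show u = n * (n⁻¹ * u * n) * n⁻¹ by group, e]
    group
  have h1 := Z.inB_inf_V1 h₀ ⟨u, hu, _, inv_mem (Z.nT_H0 L₀ hk), e'.symm⟩ hm
  rw [h1, mul_inv_eq_one] at e'
  have : u ∈ D.posUnipotent F ⊓ D.diagonalSubgroup F :=
    ⟨hu.2, e' ▸ Z.H0_diag (Z.nT_H0 L₀ hk)⟩
  rwa [G.pos_inf_diagonal, Subgroup.mem_bot] at this

theorem XN_le_V1 (J : Fin Z.nJ) : Z.XN J ≤ Z.V1 L₀ := by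
  intro y hy
  have hx := Z.mem_XN.mp hy
  rw [Z.mem_V1]
  set x := (Z.n J)⁻¹ * y * Z.n J with hxdef
  set m := (Z.nT L₀)⁻¹ * Z.n J
  have e : (Z.nT L₀)⁻¹ * y * Z.nT L₀ = m * x * m⁻¹ := by simp only [m, x]; group
  rw [e]
  refine Subgroup.mem_inf.mpr
    ⟨Z.fix_conj (mul_mem (inv_mem (Z.le_fix (Z.nT_mem L₀))) (Z.n_fix J))
      (Subgroup.mem_inf.mp hx).1, ?_⟩
  rw [G.posUnipotent_eq]
  refine G.conj_x_act (G.rootAct_mul (G.rootAct_inv (Z.nT_mono L₀) (Z.nT_act L₀)) (Z.n_act J))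
    (fun s hs => ?_) hx.2
  obtain ⟨hlt, h1, h2⟩ := hs
  refine ⟨hlt, ?_⟩
  rw [inv_eq_of_mul_eq_one_right h₀.sq, Equiv.Perm.mul_apply]
  exact (h₀.sign _).mpr h2

theorem n_not_inB_mul {J : Fin Z.nJ} {v b : GL D.Idx F} (hv : v ∈ Z.V1 L₀) (hb : Z.InB b) :
    v ≠ Z.n J * b := by
  intro e
  have hv' := Z.mem_V1.mp (inv_mem hv)
  set n := Z.nT L₀
  set u := n⁻¹ * v⁻¹ * n with hu
  have e2 : 1 * n * u = b⁻¹ * ((Z.n J)⁻¹ * n) * 1 := by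
    rw [hu, e]
    group
  have hmono : (Z.n J)⁻¹ * n ∈ D.monomialSubgroup F :=
    mul_mem (inv_mem (Z.n_mono J)) (Z.nT_mono L₀)
  have hact := G.rootAct_mul (G.rootAct_inv (Z.n_mono J) (Z.n_act J)) (Z.nT_act L₀)
  have hd := (G.canonical_unique (one_mem _) (Z.inB_borel (Z.inB_inv hb)) (Z.nT_mono L₀) hmono
    (Z.nT_act L₀) hact (Z.U1_le_flip h₀ hv').2 (one_mem _) e2).1
  have h1 := G.rootAct_mul (Z.nT_act L₀) (Z.rootAct_eq_one hd)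
  rw [mul_inv_cancel_left, mul_one] at h1
  have h2 := G.rootAct_unique h1 hact
  obtain ⟨s, hs⟩ := Z.invSet_w_nonempty J
  obtain ⟨hs1, hs2⟩ := mem_inv.mp hs
  have h3 : Z.w J = 1 := inv_eq_one.mp (mul_eq_right.mp h2.symm)
  rw [h3, Equiv.Perm.one_apply] at hs2
  exact hs2 hs1

end Good.Twisted

end Tab

end CfsgLib.Chev
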