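import Cfsg.Agent.Chev.TwistedA1Aut
import Cfsg.Agent.Chev.TwistedOut
import Cfsg.Agent.ChevAut.CoefChar

/-!
Diagonal automorphisms of twisted groups with orbits of orthogonal roots.
-/

set_option autoImplicit false
set_option linter.unusedSectionVars false

namespace CfsgLib.Chev

open Cfsg.Lie Matrix
open scoped MatrixGroups

namespace Tab

variable {D : ChevalleyDatum}

namespace Good.Twisted

variable {T : Tab D} {G : T.Good} {F : Type*} [Field F] {Φ : G.Graph F} (Z : Twisted Φ)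
include Z

theorem V1_eq_inf {L₀ : List (Fin Z.nJ)} (h₀ : Z.IsMinusOne L₀) :
    Z.V1 L₀ = Z.G1 ⊓ D.negUnipotent F := by
  refine le_antisymm (fun v hv => Subgroup.mem_inf.mpr ⟨Z.V1_le_G1 L₀ hv, ?_⟩) fun v hv => ?_
  · have h := G.conj_flip_mem_neg (Z.nT_act L₀) (Z.U1_le_flip h₀ (Z.mem_V1.mp hv)).2
    rwa [show Z.nT L₀ * ((Z.nT L₀)⁻¹ * v * Z.nT L₀) * (Z.nT L₀)⁻¹ = v by group] at h
  · obtain ⟨hvG, hvN⟩ := Subgroup.mem_inf.mp hv
    rw [Z.mem_V1, ← Z.inf_pos]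
    refine Subgroup.mem_inf.mpr
      ⟨mul_mem (mul_mem (inv_mem (Z.nT_mem L₀)) hvG) (Z.nT_mem L₀), ?_⟩
    rw [G.negUnipotent_eq] at hvN
    rw [G.posUnipotent_eq]
    have h := G.conj_x_act (S' := {r | IsPos D r})
      (G.rootAct_inv (Z.nT_mono L₀) (Z.nT_act L₀)) (fun s hs => ?_) hvN
    · rwa [inv_inv] at h
    · obtain ⟨hlt, hs⟩ := hs
      refine ⟨hlt, ?_⟩
      rw [inv_eq_of_mul_eq_one_right h₀.sq]
      exact (h₀.sign _).mpr fun h => hs h.2

theorem fixBoth_trans {L₀ : List (Fin Z.nJ)} {α β : MulAut Z.G1} (hα : Z.FixBoth L₀ α)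
    (hβ : Z.FixBoth L₀ β) : Z.FixBoth L₀ (α * β) :=
  ⟨fun g => (hα.pos _).trans (hβ.pos g), fun g => (hα.neg _).trans (hβ.neg g)⟩

/-- An automorphism mapping `U¹` and the opposite group into themselves fixes them. -/
theorem fixBoth_of_maps [Finite F] {L₀ : List (Fin Z.nJ)} {α : MulAut Z.G1}
    (hp : ∀ g : Z.G1, (g : GL D.Idx F) ∈ Z.U1 → (α g : GL D.Idx F) ∈ Z.U1)
    (hn : ∀ g : Z.G1, (g : GL D.Idx F) ∈ Z.V1 L₀ → (α g : GL D.Idx F) ∈ Z.V1 L₀) :
    Z.FixBoth L₀ α := by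
  have key : ∀ S : Subgroup (GL D.Idx F),
      (∀ g : Z.G1, (g : GL D.Idx F) ∈ S → (α g : GL D.Idx F) ∈ S) →
      ∀ g : Z.G1, (α g : GL D.Idx F) ∈ S ↔ (g : GL D.Idx F) ∈ S := by
    intro S h g
    refine ⟨fun hg => ?_, h g⟩
    let f : {w : Z.G1 // (w : GL D.Idx F) ∈ S} → {w : Z.G1 // (w : GL D.Idx F) ∈ S} :=
      fun w => ⟨α w.1, h _ w.2⟩
    have hf : Function.Injective f := fun a b e =>
      Subtype.ext (α.injective (congrArg Subtype.val e))
    obtain ⟨⟨w, hw⟩, e⟩ := Finite.injective_iff_surjective.mp hf ⟨α g, hg⟩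
    rwa [← α.injective (congrArg Subtype.val e)]
  exact ⟨key _ hp, key _ hn⟩

theorem disjoint_flip {a b : Fin Z.nJ} (hab : a ≠ b) {s : Fin D.nroots}
    (ha : s.val ∈ flipSet (Z.w a)) : s.val ∉ flipSet (Z.w b) := by
  intro hb
  obtain ⟨j, hj⟩ := G.exists_cor_ne_zero (F := ℚ) s.isLt
  refine hj ?_
  have h0 : T.cor s.val j.val = 0 := by
    by_cases hja : j ∈ Z.orb a
    · exact (Z.mem_flip_w.mp hb).2 j fun hjb => hab (Z.orb_disj a b j hja hjb)
    · exact (Z.mem_flip_w.mp ha).2 j hja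
  simp [h0]

/-- The product of two basic double cosets. -/
theorem cell_mul {a b : Fin Z.nJ} (hab : a ≠ b) {g g' : GL D.Idx F} (hg : Z.Cell [a] g)
    (hg' : Z.Cell [b] g') : Z.Cell [a, b] (g * g') := by
  obtain ⟨x, hx, p, hp, rfl⟩ := Z.cell_single_coset hg
  obtain ⟨y, hy, p', hp', rfl⟩ := Z.cell_single_coset hg'
  obtain ⟨w, hw, h, hh, e⟩ := Z.inB_mul hp (Z.inB_U1 (Z.XJ_le_U1 b hy))
  obtain ⟨c, hc, k, hk, e'⟩ : ∃ c ∈ Z.U1, ∃ k ∈ Z.XJ a,
      w = (Z.n a)⁻¹ * c * Z.n a * k := by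
    have hw2 : w ∈ G.US F {r | IsPos D r} := by rw [← G.posUnipotent_eq]; exact hw.2
    obtain ⟨c₀, hc₀, k, hk, e⟩ :=
      Z.split_fix a G.closed_pos hw.1 hw2 fun s ⟨_, h, _⟩ => h
    refine ⟨Z.n a * c₀ * (Z.n a)⁻¹, ?_, k, hk, by rw [e]; group⟩
    refine Subgroup.mem_inf.mpr ⟨Z.fix_conj (Z.n_fix a) (Subgroup.mem_inf.mp hc₀).1, ?_⟩
    rw [G.posUnipotent_eq]
    exact G.conj_x_act (Z.n_act a) (fun s hs => by
      obtain ⟨-, hlt, -, h3⟩ := hs; exact ⟨hlt, h3⟩) (Subgroup.mem_inf.mp hc₀).2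
  have hk' : (Z.n b)⁻¹ * k * Z.n b ∈ Z.U1 := by
    refine Subgroup.mem_inf.mpr ⟨?_, ?_⟩
    · simpa using Z.fix_conj (inv_mem (Z.n_fix b)) (Subgroup.mem_inf.mp hk).1
    · have := G.conj_x_act (G.rootAct_inv (Z.n_mono b) (Z.n_act b)) (S' := {r | IsPos D r})
        (fun s hs => by
          obtain ⟨hlt, h1, h2⟩ := hs
          refine ⟨hlt, ?_⟩
          rw [show (G.full.pw (Z.word b))⁻¹ = G.full.pw (Z.word b) from
            inv_eq_of_mul_eq_one_right (Z.invol b)]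
          by_contra hc
          exact Z.disjoint_flip hab (s := ⟨s, hlt⟩) ⟨hlt, h1, h2⟩ ⟨hlt, h1, hc⟩)
        (Subgroup.mem_inf.mp hk).2
      rw [inv_inv] at this
      rw [G.posUnipotent_eq]
      exact this
  have e3 : x * Z.n a * p * (y * Z.n b * p') = (x * c) * (1 * 1 * Z.nT [a, b] *
      ((Z.n b)⁻¹ * k * Z.n b)) * (((Z.n b)⁻¹ * h * Z.n b) * p') := by
    rw [show x * Z.n a * p * (y * Z.n b * p') = x * Z.n a * (p * y) * Z.n b * p' by group,
      e, e', show Z.nT [a, b] = Z.n a * Z.n b by simp [nT]]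
    group
  have hh' : (Z.n b)⁻¹ * h * Z.n b ∈ Z.H0 := by
    have := mul_mem (mul_mem (inv_mem (Z.n_sq b)) (Z.n_conj b h hh)) (Z.n_sq b)
    convert this using 1
    group
  rw [e3]
  exact Z.cell_mul_right (Z.inB_mul ⟨1, one_mem _, _, hh', (one_mul _).symm⟩ hp')
    (Z.cell_mul_left (Z.inB_U1 (mul_mem (Z.XJ_le_U1 a hx) hc))
      ⟨1, one_mem _, 1, one_mem _, _, hk', rfl⟩)

theorem cell_inv_single {a : Fin Z.nJ} {g : GL D.Idx F} (hg : Z.Cell [a] g) :
    Z.Cell [a] g⁻¹ := by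
  obtain ⟨u, hu, h, hh, v, hv, rfl⟩ := hg
  rw [show (u * h * Z.nT [a] * v)⁻¹ =
    v⁻¹ * ((Z.n a * Z.n a)⁻¹ * (1 * 1 * Z.nT [a] * 1)) * (u * h)⁻¹ by
      rw [Z.nT_single]; group]
  exact Z.cell_mul_right (Z.inB_inv ⟨u, hu, h, hh, rfl⟩) (Z.cell_mul_left
    (Z.inB_U1 (inv_mem hv)) (Z.cell_mul_left ⟨1, one_mem _, _, inv_mem (Z.n_sq a),
      (one_mul _).symm⟩ ⟨1, one_mem _, 1, one_mem _, 1, one_mem _, rfl⟩))

theorem cell_inv_pair {a b : Fin Z.nJ} (hab : a ≠ b) {g : GL D.Idx F} (hg : Z.Cell [a, b] g) :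
    Z.Cell [b, a] g⁻¹ := by
  obtain ⟨u, hu, h, hh, v, hv, rfl⟩ := hg
  rw [show (u * h * Z.nT [a, b] * v)⁻¹ = v⁻¹ * ((Z.n b)⁻¹ * (Z.n a)⁻¹) * (u * h)⁻¹ by
      rw [show Z.nT [a, b] = Z.n a * Z.n b by simp [nT]]; group]
  have hn : ∀ J, Z.Cell [J] (Z.n J)⁻¹ := fun J => by
    refine Z.cell_inv_single ?_
    rw [← Z.nT_single J]
    exact Z.cell_nT [J]
  exact Z.cell_mul_right (Z.inB_inv ⟨u, hu, h, hh, rfl⟩) (Z.cell_mul_left
    (Z.inB_U1 (inv_mem hv)) (Z.cell_mul hab.symm (hn b) (hn a)))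

end Good.Twisted

namespace Good.A1Data

variable {T : Tab D} {G : T.Good} {F : Type*} [Field F] {Φ : G.Graph F} {orbs : List (List ℕ)}
  (A : G.A1Data Φ orbs)
include A

local notation "o" => G.oJ orbs

/-- The values of a fixed torus element at the fundamental roots. -/
noncomputable def chiHom (A : G.A1Data Φ orbs) : A.Cσ →* A.Cσ where
  toFun c := ⟨fun i : Fin D.rank => T.chi (D.simple i) c.1, A.mem_Cσ.mpr (A.chi_fixed c.2)⟩
  map_one' := Subtype.ext (funext fun i => map_one (T.chi (F := F) (D.simple i)))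
  map_mul' c d := Subtype.ext (funext fun i => map_mul (T.chi (F := F) (D.simple i)) c.1 d.1)

theorem chiHom_apply (c : A.Cσ) (i : Fin D.rank) :
    (A.chiHom c).1 i = T.chi (D.simple i) c.1 := rfl

theorem chiHom_eq_one_iff (c : A.Cσ) : A.chiHom c = 1 ↔ T.hT F c.1 = 1 := by
  rw [G.full.hT_eq_one_iff]
  constructor
  · intro h j hj
    exact congrArg (fun d : A.Cσ => d.1 ⟨j, hj⟩) h
  · intro h
    exact Subtype.ext (funext fun i => h i i.isLt)

theorem chiHom_congr {c d : A.Cσ} (h : T.hT F c.1 = T.hT F d.1) : A.chiHom c = A.chiHom d := by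
  rw [← div_eq_one, ← map_div, A.chiHom_eq_one_iff, Subgroup.coe_div, map_div, h, div_self']

theorem card_chiRange : Nat.card A.chiHom.range = Nat.card A.torus := by
  let f := (T.hT F).comp A.Cσ.subtype
  have e1 : f.range = A.torus := by
    rw [MonoidHom.range_comp, Subgroup.range_subtype]
    rfl
  rw [← e1, ← Subgroup.index_ker, ← Subgroup.index_ker]
  congr 1
  ext c
  exact A.chiHom_eq_one_iff c

theorem card_Cσ_eq : A.chiHom.range.index * Nat.card A.torus = Nat.card A.Cσ := by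
  rw [← A.card_chiRange, mul_comm]
  exact Subgroup.card_mul_index _

variable [Finite F]
  {htor : ∀ c, T.hT F (Φ.σc c) = T.hT F c → T.hT F (c * c) = 1 → T.hT F c ∈ A.torus}

/-- A fixed root element. -/
noncomputable def eX (A : G.A1Data Φ orbs)
    {htor : ∀ c, T.hT F (Φ.σc c) = T.hT F c → T.hT F (c * c) = 1 → T.hT F c ∈ A.torus}
    {J : Fin orbs.length} (t : Fin D.rank → F) (ht : A.Tup J t) : (A.twisted htor).G1 :=
  ⟨G.PX (o J) t, A.PX_mem ht⟩

/-- A fixed torus element. -/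
noncomputable def eT (A : G.A1Data Φ orbs)
    {htor : ∀ c, T.hT F (Φ.σc c) = T.hT F c → T.hT F (c * c) = 1 → T.hT F c ∈ A.torus}
    (c : A.Cσ) : (A.twisted htor).G1 :=
  ⟨T.hT F c.1, A.torus_le (A.hT_mem_torus c.2)⟩

theorem eX_mem_XJ {J : Fin orbs.length} {t : Fin D.rank → F} (ht : A.Tup J t) :
    (A.eX (htor := htor) t ht : GL D.Idx F) ∈ (A.twisted htor).XJ J :=
  A.mem_XJ.mpr ⟨t, ht, rfl⟩

theorem eT_mem (c : A.Cσ) : (A.eT (htor := htor) c : GL D.Idx F) ∈ (A.twisted htor).H0 :=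
  A.hT_mem_torus c.2

theorem tup_chiHom (J : Fin orbs.length) (c : A.Cσ) :
    A.Tup J fun i => ((A.chiHom c).1 i : F) := fun i _ => A.chi_fixed c.2 i

theorem tup_Cσ (J : Fin orbs.length) (u : A.Cσ) : A.Tup J fun i => (u.1 i : F) := fun i _ =>
  A.mem_Cσ.mp u.2 i

variable (hσ : ∀ (σ : F ≃+* F) (i : Fin D.rank) (x : F),
  σ (Φ.f (G.full.simp' i) x) = Φ.f (G.full.simp' i) (σ x))
include hσ

theorem tup_twist {J : Fin orbs.length} {t : Fin D.rank → F} (ht : A.Tup J t) (u : A.Cσ)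
    (σ : F ≃+* F) : A.Tup J fun i => (u.1 i : F) * σ (t i) :=
  A.tup_mul (A.tup_Cσ J u) fun i hi => by
    show σ (t (Φ.ρ i)) = Φ.f (G.full.simp' i) (σ (t i))
    rw [ht i hi, hσ]

/-- The automorphism is a product of the diagonal one of `u` and the field one of `σ`. -/
def Acts (L₀ : List (Fin (A.twisted htor).nJ)) (u : A.Cσ) (σ : F ≃+* F)
    (α : MulAut (A.twisted htor).G1) : Prop :=
  (A.twisted htor).FixBoth L₀ α ∧ ∀ (J : Fin orbs.length) (t : Fin D.rank → F) (ht : A.Tup J t),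
    α (A.eX t ht) = A.eX _ (A.tup_twist hσ ht u σ)

variable {L₀ : List (Fin (A.twisted htor).nJ)} (h₀ : (A.twisted htor).IsMinusOne L₀)
include h₀

theorem exists_diag (hD : D ∈ [chevG2, chevB2, chevD4, chevF4, chevE6, chevE7, chevE8])
    {det : ℤ} {M : List (List ℤ)} (hM : T.chkCoef det M = true) (u : A.Cσ) :
    ∃ α, A.Acts hσ L₀ u (RingEquiv.refl F) α := by
  obtain ⟨χ, hχ, hu⟩ := G.exists_rootChar hM u.1
  set d := charUnit D χ
  have hx : ∀ r < D.nroots, ∀ t : F,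
      d * G.full.x r t * d⁻¹ = G.full.x r ((χ r : F) * t) :=
    fun r hr t => G.charUnit_conj_x hD hχ hr t
  have hUS : ∀ S : Set ℕ, (∀ s ∈ S, s < D.nroots) → ∀ g ∈ G.US F S, d * g * d⁻¹ ∈ G.US F S :=
    fun S hS g hg => G.conj_US d (fun r hr t => by
      rw [hx r (hS r hr) t]; exact G.x_mem_US hr _) hg
  have hPX : ∀ (J : Fin orbs.length) (t : Fin D.rank → F),
      d * G.PX (o J) t * d⁻¹ = G.PX (o J) fun i => (u.1 i : F) * t i := fun J t => by
    rw [PX, conj_list_prod', List.map_map]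
    exact congrArg List.prod (List.map_congr_left fun i _ => by
      show d * G.full.x (D.simple i) (t i) * d⁻¹ = _
      rw [hx _ (G.full.simple_lt i.isLt), hu])
  have hPN : ∀ (J : Fin orbs.length) (t : Fin D.rank → F),
      d * G.PN (o J) t * d⁻¹ = G.PN (o J) fun i => ((u⁻¹).1 i : F) * t i := fun J t => by
    rw [PN, conj_list_prod', List.map_map]
    exact congrArg List.prod (List.map_congr_left fun i _ => by
      show d * G.full.x (negR D (D.simple i)) (t i) * d⁻¹ = _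
      rw [hx _ (Cert.negR_lt (G.full.simple_lt i.isLt)),
        ← G.full.cert.neg_eq (G.full.simple_lt i.isLt), hχ.1 _ (G.full.simple_lt i.isLt), hu]
      rfl)
  have hgrp : A.grp ≤ A.grp.comap (MulAut.conj d).toMonoidHom := by
    refine (Subgroup.closure_le _).mpr ?_
    rintro g ⟨J, t, ht, rfl | rfl⟩
    · show d * G.PX (o J) t * d⁻¹ ∈ A.grp
      rw [hPX]
      exact A.PX_mem (A.tup_mul (A.tup_Cσ J u) ht)
    · show d * G.PN (o J) t * d⁻¹ ∈ A.grp
      rw [hPN]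
      exact A.PN_mem (A.tup_mul (A.tup_Cσ J u⁻¹) ht)
  let φ : (A.twisted htor).G1 →* (A.twisted htor).G1 :=
    { toFun := fun g => ⟨d * g * d⁻¹, hgrp g.2⟩
      map_one' := Subtype.ext (by simp)
      map_mul' := fun g g' => Subtype.ext (by
        show d * ((g : GL D.Idx F) * g') * d⁻¹ = d * g * d⁻¹ * (d * g' * d⁻¹)
        group) }
  have hφ : Function.Injective φ := fun g g' e => Subtype.ext (by
    have e' : d * (g : GL D.Idx F) * d⁻¹ = d * g' * d⁻¹ := congrArg Subtype.val e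
    exact mul_left_cancel (mul_right_cancel e'))
  let α : MulAut (A.twisted htor).G1 :=
    MulEquiv.ofBijective φ ⟨hφ, Finite.injective_iff_surjective.mp hφ⟩
  refine ⟨α, (A.twisted htor).fixBoth_of_maps (fun g hg => ?_) (fun g hg => ?_),
    fun J t ht => Subtype.ext (hPX J t)⟩
  · rw [← (A.twisted htor).inf_pos] at hg ⊢
    refine Subgroup.mem_inf.mpr ⟨(α g).2, ?_⟩
    rw [G.posUnipotent_eq]
    refine hUS _ (fun s hs => hs.1) _ ?_
    rw [← G.posUnipotent_eq (F := F)]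
    exact hg.2
  · rw [(A.twisted htor).V1_eq_inf h₀] at hg ⊢
    refine Subgroup.mem_inf.mpr ⟨(α g).2, ?_⟩
    rw [G.negUnipotent_eq]
    refine hUS _ (fun s hs => hs.1) _ ?_
    rw [← G.negUnipotent_eq (F := F)]
    exact hg.2

theorem exists_acts (hD : D ∈ [chevG2, chevB2, chevD4, chevF4, chevE6, chevE7, chevE8])
    {det : ℤ} {M : List (List ℤ)} (hM : T.chkCoef det M = true) (u : A.Cσ) (σ : F ≃+* F) :
    ∃ α, A.Acts hσ L₀ u σ α := by
  obtain ⟨δ, hδ, hδ'⟩ := A.exists_diag hσ h₀ hD hM u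
  refine ⟨δ * A.fieldAut hσ σ, (A.twisted htor).fixBoth_trans hδ
    (A.fieldAut_fixBoth hσ σ L₀), fun J t ht => ?_⟩
  have ht' : A.Tup J fun i => σ (t i) := fun i hi => by
    show σ (t (Φ.ρ i)) = Φ.f (G.full.simp' i) (σ (t i))
    rw [ht i hi, hσ]
  rw [MulAut.mul_apply, show A.fieldAut hσ σ (A.eX t ht) = A.eX _ ht' from
    Subtype.ext (A.fieldAut_PX hσ σ ht), hδ' J _ ht']
  rfl

theorem acts_conj {u : A.Cσ} {σ : F ≃+* F} {α : MulAut (A.twisted htor).G1}
    (hα : A.Acts hσ L₀ u σ α) (c : A.Cσ) :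
    A.Acts hσ L₀ (A.chiHom c * u) σ (MulAut.conj (A.eT c) * α) := by
  refine ⟨(A.twisted htor).fixBoth_conj_H0 h₀ hα.1 (A.eT_mem c), fun J t ht => ?_⟩
  rw [MulAut.mul_apply, hα.2 J t ht]
  refine Subtype.ext ((A.conj_torus_PX J c.1 _).trans (A.PX_congr fun i _ => ?_))
  rw [Subgroup.coe_mul, Pi.mul_apply, Units.val_mul, mul_assoc, A.chiHom_apply]

theorem acts_inj {u u' : A.Cσ} {σ σ' : F ≃+* F} {α : MulAut (A.twisted htor).G1}
    (hfull : ∃ J, ∃ i ∈ o J, ∀ x : F, ∃ t, A.Tup J t ∧ t i = x)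
    (h : A.Acts hσ L₀ u σ α) (h' : A.Acts hσ L₀ u' σ' α) : u = u' ∧ σ = σ' := by
  have key : ∀ (J : Fin orbs.length) (t : Fin D.rank → F) (_ : A.Tup J t),
      ∀ i ∈ o J, (u.1 i : F) * σ (t i) = (u'.1 i : F) * σ' (t i) := fun J t ht i hi =>
    A.PX_inj (congrArg Subtype.val ((h.2 J t ht).symm.trans (h'.2 J t ht))) i hi
  have hu : u = u' := Subtype.ext (funext fun i => by
    obtain ⟨J, hJ⟩ := A.spec.cover i
    have := key J _ (A.tup_one J) i hJ
    rw [map_one, map_one, mul_one, mul_one] at this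
    exact Units.ext this)
  refine ⟨hu, RingEquiv.ext fun x => ?_⟩
  obtain ⟨J, i, hi, hx⟩ := hfull
  obtain ⟨t, ht, rfl⟩ := hx x
  have := key J t ht i hi
  rw [hu] at this
  exact mul_left_cancel₀ (Units.ne_zero _) this

variable (hcell : ∀ α : MulAut (A.twisted htor).G1, (A.twisted htor).FixBoth L₀ α →
  ∀ J, ∀ z : (A.twisted htor).G1, (A.twisted htor).Cell [J] (α z : GL D.Idx F) ↔
    (A.twisted htor).Cell [J] (z : GL D.Idx F))
include hcell

theorem acts_unique {u : A.Cσ} {σ : F ≃+* F} {α β : MulAut (A.twisted htor).G1}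
    (hα : A.Acts hσ L₀ u σ α) (hβ : A.Acts hσ L₀ u σ β) : α = β := by
  have hγ := (A.twisted htor).fixBoth_trans ((A.twisted htor).fixBoth_symm hβ.1) hα.1
  refine MulEquiv.ext fun z => ?_
  have h1 := A.aut_eq_one h₀ hγ (hcell _ hγ) (fun J x hx => ?_) z
  · exact β.symm_apply_eq.mp h1
  · obtain ⟨t, ht, e⟩ := A.mem_XJ.mp hx
    obtain rfl : x = A.eX t ht := Subtype.ext e
    rw [MulAut.mul_apply, hα.2 J t ht, ← hβ.2 J t ht]
    exact β.symm_apply_apply _

/-- The order of the outer automorphism group, if every automorphism fixing `U¹` and its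
opposite is the product of a diagonal and a field one. -/
theorem card_out_diag (hD : D ∈ [chevG2, chevB2, chevD4, chevF4, chevE6, chevE7, chevE8])
    {det : ℤ} {M : List (List ℤ)} (hM : T.chkCoef det M = true) {p : ℕ} [Fact p.Prime]
    {P : Sylow p (A.twisted htor).G1}
    (hP : (P : Subgroup (A.twisted htor).G1) =
      (A.twisted htor).U1.subgroupOf (A.twisted htor).G1)
    (hfull : ∃ J, ∃ i ∈ o J, ∀ x : F, ∃ t, A.Tup J t ∧ t i = x)
    (hex : ∀ α : MulAut (A.twisted htor).G1, (A.twisted htor).FixBoth L₀ α →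
      ∃ (u : A.Cσ) (σ : F ≃+* F), A.Acts hσ L₀ u σ α) :
    Nat.card (Cfsg.Out (A.twisted htor).G1) =
      A.chiHom.range.index * Nat.card (F ≃+* F) := by
  choose rep hrep using fun (x : (A.Cσ ⧸ A.chiHom.range) × (F ≃+* F)) =>
    A.exists_acts (htor := htor) hσ h₀ hD hM x.1.out x.2
  rw [Subgroup.index, ← Nat.card_prod]
  refine (Nat.card_eq_of_bijective (fun x => (QuotientGroup.mk (rep x) :
    Cfsg.Out (A.twisted htor).G1)) ⟨fun x y e => ?_, fun z => ?_⟩).symm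
  · obtain ⟨g, hg⟩ := QuotientGroup.eq.mp e
    have he : rep y = MulAut.conj (rep x g) * rep x := by
      rw [eq_inv_mul_iff_mul_eq] at hg
      rw [← hg]
      refine MulEquiv.ext fun z => ?_
      simp only [MulAut.mul_apply, MulAut.conj_apply, map_mul, map_inv]
    have hc : (A.twisted htor).FixBoth L₀ (MulAut.conj (rep x g)) := by
      have := (A.twisted htor).fixBoth_trans (hrep y).1
        ((A.twisted htor).fixBoth_symm (hrep x).1)
      convert this using 1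
      refine MulEquiv.ext fun z => ?_
      rw [MulAut.mul_apply, he, MulAut.mul_apply, MulEquiv.apply_symm_apply]
    obtain ⟨c, hc'⟩ : ∃ c : A.Cσ, rep x g = A.eT c := by
      obtain ⟨c, hc, e⟩ := (A.twisted htor).mem_H0_of_normalizes h₀ A.xNontrivial (rep x g).2
        (fun w hw => by
          have h := (hc.pos ⟨w, (A.twisted htor).U1_le hw⟩).mpr hw
          exact h)
        fun w hw => by
          have h := (hc.neg ⟨w, (A.twisted htor).V1_le_G1 L₀ hw⟩).mpr hw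
          exact h
      exact ⟨⟨c, hc⟩, Subtype.ext e.symm⟩
    rw [hc'] at he
    obtain ⟨h1, h2⟩ := A.acts_inj hσ h₀ hfull (hrep y)
      (he ▸ A.acts_conj hσ h₀ (hrep x) c)
    refine Prod.ext ?_ h2.symm
    rw [← QuotientGroup.out_eq' x.1, ← QuotientGroup.out_eq' y.1, h1, mul_comm,
      QuotientGroup.mk_mul_of_mem _ (MonoidHom.mem_range.mpr ⟨c, rfl⟩ : A.chiHom c ∈ A.chiHom.range)]
  · obtain ⟨θ, rfl⟩ := QuotientGroup.mk_surjective z
    obtain ⟨g, α, hα, hθ⟩ := (A.twisted htor).exists_fixBoth h₀ A.xNontrivial hP θ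
    obtain ⟨u, σ, hu⟩ := hex α hα
    obtain ⟨⟨v, c, rfl⟩, hv⟩ := QuotientGroup.mk_out_eq_mul A.chiHom.range u
    refine ⟨(QuotientGroup.mk u, σ), ?_⟩
    have hr := hrep (QuotientGroup.mk u, σ)
    have hαr : α = MulAut.conj (A.eT c⁻¹) * rep (QuotientGroup.mk u, σ) := by
      refine A.acts_unique hσ h₀ hcell hu ?_
      have := A.acts_conj hσ h₀ hr c⁻¹
      rwa [hv, map_inv, mul_comm u, inv_mul_cancel_left] at this
    refine QuotientGroup.eq.mpr ⟨(rep (QuotientGroup.mk u, σ))⁻¹ (g * A.eT c⁻¹), ?_⟩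
    refine MulEquiv.ext fun y => ?_
    simp only [MulAut.mul_apply, MulAut.conj_apply, hθ, hαr, map_mul, map_inv,
      MulAut.inv_apply_self]
    group

end Good.A1Data

end Tab

end CfsgLib.Chev
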