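import Cfsg.Agent.Chev.TwistedGen
import Cfsg.Agent.Chev.TwistedField
import Cfsg.Agent.Chev.RootMapData
import Cfsg.Agent.Chev.SteinbergData
import Cfsg.Prelude.Def_LieTwisted

/-!
The Ree groups `²G₂(q)`, `q = 3^(2m+1)`.
-/

set_option autoImplicit false
set_option linter.style.haveILetI false

namespace CfsgLib.Chev.G2Tw

open Cfsg.Lie Matrix Tab
open scoped MatrixGroups

theorem chkRho : chkGraphMap chevG2 graphMapG2 [1, 0] = true := by decide +kernel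

theorem chkO : G2Data.tab.chkOrbits (fun s => (mapAt graphMapG2 s).1) [1, 0] [[0, 1]]
    [[0, 1, 0, 1, 0, 1]] = true := by
  decide +kernel

theorem chkKer1 : G2Data.tab.chkKer 1 [[2, 1], [3, 2]] = true := by decide +kernel

theorem chkLevels : G2Data.tab.chkChainT [[0, 1]] [[0, 1, 0, 1, 0, 1]] 2 (List.range 1)
    [(0, [[], [0]], [0, 3])] = true := by
  decide +kernel

theorem swapPos : G2Data.tab.commT 7 6 =
    [(8, -1, 1, 1), (9, 1, 2, 1), (10, 1, 3, 1), (11, 1, 3, 2)] := by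
  decide +kernel

theorem swapNeg : G2Data.tab.commT 4 5 =
    [(3, 1, 1, 1), (2, 1, 2, 1), (1, -1, 3, 1), (0, 1, 3, 2)] := by
  decide +kernel

theorem chkPairs : ∀ p ∈ [(8, 9), (8, 10), (8, 11), (9, 10), (9, 11), (10, 11),
    (3, 2), (3, 1), (3, 0), (2, 1), (2, 0), (1, 0), (8, 1), (3, 10)],
    G2Data.tab.chkCommute 3 p.1 p.2 = true ∧ G2Data.tab.chkCommute 3 p.2 p.1 = true := by
  decide +kernel

/-- A word for the element `h(-1)`. -/
def wordH : List (ℕ × ℤ × ℕ × ℕ) :=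
  [(7, 1, 0, 0), (6, 1, 0, 0), (8, 1, 0, 0), (9, 1, 0, 0), (8, 1, 0, 0), (10, 1, 0, 0),
   (2, -1, 0, 0), (0, -1, 0, 0), (3, -1, 0, 0), (1, -1, 0, 0),
   (7, 1, 0, 0), (6, 1, 0, 0), (8, 1, 0, 0), (9, 1, 0, 0), (2, -1, 0, 0), (0, -1, 0, 0)]

/-- An entry of the diagonal matrix `h(-1)`. -/
def entH (a b : ℕ) : ℤ :=
  if a = b then
    (if b < 12 then (if (G2Data.tab.cart 0 b + G2Data.tab.cart 1 b) % 2 = 0 then 1 else -1) else 1)
  else 0

theorem chkH : allBelow (fun b => allBelow (fun a => decide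
    ((((G2Data.tab.pcol wordH b).filter fun p => Nat.beq p.1.1 a).map fun p => p.2).sum % 3 =
      entH a b % 3)) 14) 14 = true := by
  decide +kernel

theorem four_mul {M : Type*} [Group M] {a b c d a' b' c' d' : M} (h1 : Commute b a')
    (h2 : Commute c a') (h3 : Commute d a') (h4 : Commute c b') (h5 : Commute d b')
    (h6 : Commute d c') :
    a * b * c * d * (a' * b' * c' * d') = a * a' * (b * b') * (c * c') * (d * d') := by
  calc a * b * c * d * (a' * b' * c' * d')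
      = a * b * c * (d * a') * b' * c' * d' := by simp only [mul_assoc]
    _ = a * b * (c * a') * (d * b') * c' * d' := by rw [h3.eq]; simp only [mul_assoc]
    _ = a * (b * a') * (c * b') * (d * c') * d' := by rw [h2.eq, h5.eq]; simp only [mul_assoc]
    _ = a * a' * (b * b') * (c * c') * (d * d') := by
      rw [h1.eq, h4.eq, h6.eq]; simp only [mul_assoc]

/-- The automorphism defining `²G₂(q)`. -/
structure Ctx (K : Type*) [Field K] [Fintype K] (m : ℕ) where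
  hK : Fintype.card K = 3 ^ (2 * m + 1)
  hp : ((3 : ℕ) : K) = 0
  /-- the automorphism -/
  Φ : good_G2.Graph K
  hπ : ∀ r, (Φ.π r).val = (mapAt graphMapG2 r.val).1
  hρ : ∀ i, (Φ.ρ i).val = ([1, 0] : List ℕ).getD i.val 0
  hf : ∀ r t, Φ.f r t =
    (((mapAt graphMapG2 r.val).2.1 : K) * t ^ (mapAt graphMapG2 r.val).2.2) ^ 3 ^ m

variable {K : Type*} [Field K] [Fintype K] {m : ℕ}

/-- The rank is not zero. -/
local instance neZeroRank : NeZero chevG2.rank := ⟨by decide⟩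

theorem exists_ctx (hK : Fintype.card K = 3 ^ (2 * m + 1)) : Nonempty (Ctx K m) := by
  have h0 : ((3 : ℕ) : K) = 0 := by
    have h := FiniteField.cast_card_eq_zero K
    rw [hK, Nat.cast_pow] at h
    exact eq_zero_of_pow_eq_zero h
  haveI : CharP K 3 := (CharP.charP_iff_prime_eq_zero Nat.prime_three).mpr h0
  haveI : ExpChar K 3 := ExpChar.prime Nat.prime_three
  obtain ⟨Φ, h1, h2, h3⟩ := good_G2.exists_graph (F := K) ⟨_, wits_G2⟩ (p := 3) h0
    (fun _ t u => add_pow_char t u 3) chkGraphG2 chkRho (iterateFrobenius K 3 m)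
  exact ⟨⟨hK, h0, Φ, h1, h2, fun r t => by rw [h3, iterateFrobenius_def]⟩⟩

/-- The root element. -/
local notation "X" => fun r t => good_G2.full.x r t

namespace Ctx

variable (C : Ctx K m)
include C

theorem he0 : 3 ^ m ≠ 0 := by positivity

omit C in
theorem e_odd : Odd (3 ^ m) := (by decide : Odd 3).pow

theorem pow_qq (x : K) : (x ^ (3 * 3 ^ m)) ^ 3 ^ m = x := by
  rw [← pow_mul, show 3 * 3 ^ m * 3 ^ m = 3 ^ (2 * m + 1) by rw [two_mul, pow_succ, pow_add]; ring,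
    ← C.hK]
  exact FiniteField.pow_card x

theorem pow_qq' (x : K) : (x ^ 3 ^ m) ^ (3 * 3 ^ m) = x := by
  rw [← pow_mul, mul_comm, pow_mul]
  exact C.pow_qq x

theorem charP : CharP K 3 := (CharP.charP_iff_prime_eq_zero Nat.prime_three).mpr C.hp

theorem add_pow_e (x y : K) : (x + y) ^ 3 ^ m = x ^ 3 ^ m + y ^ 3 ^ m := by
  haveI := C.charP
  haveI : ExpChar K 3 := ExpChar.prime Nat.prime_three
  exact add_pow_expChar_pow ..

theorem add_pow' (x y : K) :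
    (x + y) ^ (3 * 3 ^ m) = x ^ (3 * 3 ^ m) + y ^ (3 * 3 ^ m) := by
  haveI := C.charP
  haveI : ExpChar K 3 := ExpChar.prime Nat.prime_three
  rw [← pow_succ']
  exact add_pow_expChar_pow ..

theorem commute_of {a b : ℕ} (h : G2Data.tab.chkCommute 3 a b = true) (v w : K) :
    Commute (good_G2.full.x a v) (good_G2.full.x b w) :=
  good_G2.x_commute C.hp h v w

theorem A_root {a b : ℕ} {k : ℕ} (ha : a < 12) (h : mapAt graphMapG2 a = (b, 1, k)) (y : K) :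
    C.Φ.A (good_G2.full.x a y) = good_G2.full.x b (y ^ (k * 3 ^ m)) := by
  rw [show a = (⟨a, ha⟩ : Fin chevG2.nroots).val from rfl, C.Φ.A_x, C.hπ, C.hf, h]
  simp [pow_mul]

theorem A_six {a b c1 c2 d1 d2 : ℕ} (hlt : a < 12 ∧ b < 12 ∧ c1 < 12 ∧ c2 < 12 ∧ d1 < 12 ∧ d2 < 12)
    (hm : mapAt graphMapG2 a = (b, 1, 3) ∧ mapAt graphMapG2 b = (a, 1, 1) ∧
      mapAt graphMapG2 c1 = (d1, 1, 3) ∧ mapAt graphMapG2 c2 = (d2, 1, 3) ∧
      mapAt graphMapG2 d1 = (c1, 1, 1) ∧ mapAt graphMapG2 d2 = (c2, 1, 1))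
    (y1 y2 y3 y4 y5 y6 : K) :
    C.Φ.A (good_G2.full.x a y1 * good_G2.full.x b y2 * (good_G2.full.x c1 y3 *
      good_G2.full.x c2 y4 * good_G2.full.x d1 y5 * good_G2.full.x d2 y6)) =
    good_G2.full.x b (y1 ^ (3 * 3 ^ m)) * good_G2.full.x a (y2 ^ 3 ^ m) *
      (good_G2.full.x d1 (y3 ^ (3 * 3 ^ m)) * good_G2.full.x d2 (y4 ^ (3 * 3 ^ m)) *
        good_G2.full.x c1 (y5 ^ 3 ^ m) * good_G2.full.x c2 (y6 ^ 3 ^ m)) := by
  obtain ⟨h1, h2, h3, h4, h5, h6⟩ := hlt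
  obtain ⟨m1, m2, m3, m4, m5, m6⟩ := hm
  have g := fun r (v : K) => good_G2.x_mem_group (F := K) r v
  have tw := mul_mem (mul_mem (mul_mem (g c1 y3) (g c2 y4)) (g d1 y5)) (g d2 y6)
  rw [C.Φ.A_mul (mul_mem (g a y1) (g b y2)) tw, C.Φ.A_mul (g a y1) (g b y2),
    C.Φ.A_mul (mul_mem (mul_mem (g c1 y3) (g c2 y4)) (g d1 y5)) (g d2 y6),
    C.Φ.A_mul (mul_mem (g c1 y3) (g c2 y4)) (g d1 y5), C.Φ.A_mul (g c1 y3) (g c2 y4),
    C.A_root h1 m1, C.A_root h2 m2, C.A_root h3 m3, C.A_root h4 m4, C.A_root h5 m5,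
    C.A_root h6 m6, one_mul]

theorem tail_mul {c1 c2 d1 d2 : ℕ}
    (h : ∀ p ∈ [(c2, c1), (d1, c1), (d2, c1), (d1, c2), (d2, c2), (d2, d1)],
      G2Data.tab.chkCommute 3 p.1 p.2 = true)
    (a b c d a' b' c' d' : K) :
    good_G2.full.x c1 a * good_G2.full.x c2 b * good_G2.full.x d1 c * good_G2.full.x d2 d *
      (good_G2.full.x c1 a' * good_G2.full.x c2 b' * good_G2.full.x d1 c' * good_G2.full.x d2 d') =
    good_G2.full.x c1 (a + a') * good_G2.full.x c2 (b + b') * good_G2.full.x d1 (c + c') *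
      good_G2.full.x d2 (d + d') := by
  simp only [List.forall_mem_cons] at h
  obtain ⟨h1, h2, h3, h4, h5, h6, -⟩ := h
  rw [four_mul (C.commute_of h1 _ _) (C.commute_of h2 _ _) (C.commute_of h3 _ _)
    (C.commute_of h4 _ _) (C.commute_of h5 _ _) (C.commute_of h6 _ _)]
  simp only [good_G2.full.x_add]

/-- The tail of a positive element. -/
def Y (_C : Ctx K m) (a b c d : K) : GL chevG2.Idx K :=
  good_G2.full.x 8 a * good_G2.full.x 9 b * good_G2.full.x 10 c * good_G2.full.x 11 d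

/-- The coordinates of a positive element. -/
def P6 (_C : Ctx K m) (a b c1 c2 d1 d2 : K) : GL chevG2.Idx K :=
  good_G2.full.x 7 a * good_G2.full.x 6 b * (good_G2.full.x 8 c1 * good_G2.full.x 9 c2 *
    good_G2.full.x 10 d1 * good_G2.full.x 11 d2)

/-- The tail of a negative element. -/
def Y' (_C : Ctx K m) (a b c d : K) : GL chevG2.Idx K :=
  good_G2.full.x 3 a * good_G2.full.x 2 b * good_G2.full.x 1 c * good_G2.full.x 0 d

theorem Y_mul (a b c d a' b' c' d' : K) :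
    C.Y a b c d * C.Y a' b' c' d' = C.Y (a + a') (b + b') (c + c') (d + d') :=
  C.tail_mul (by decide +kernel) ..

theorem Y'_mul (a b c d a' b' c' d' : K) :
    C.Y' a b c d * C.Y' a' b' c' d' = C.Y' (a + a') (b + b') (c + c') (d + d') :=
  C.tail_mul (by decide +kernel) ..

theorem Y_zero : C.Y 0 0 0 0 = 1 := by simp [Y, good_G2.full.x_zero]

theorem Y_perm (a b c d : K) : good_G2.full.x 10 c * good_G2.full.x 11 d * good_G2.full.x 8 a *
    good_G2.full.x 9 b = C.Y a b c d := by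
  have h := C.Y_mul 0 0 c d a b 0 0
  simp only [Y, good_G2.full.x_zero, zero_add, add_zero, one_mul, mul_one] at h ⊢
  rw [← h]
  simp only [mul_assoc]

theorem Y'_perm (a b c d : K) : good_G2.full.x 1 c * good_G2.full.x 0 d * good_G2.full.x 3 a *
    good_G2.full.x 2 b = C.Y' a b c d := by
  have h := C.Y'_mul 0 0 c d a b 0 0
  simp only [Y', good_G2.full.x_zero, zero_add, add_zero, one_mul, mul_one] at h ⊢
  rw [← h]
  simp only [mul_assoc]

theorem swap_pos (p q : K) : good_G2.full.x 6 q * good_G2.full.x 7 p =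
    good_G2.full.x 7 p * good_G2.full.x 6 q *
      C.Y (p * q) (p ^ 2 * q) (-(p ^ 3 * q)) (-(p ^ 3 * q ^ 2)) := by
  have e := good_G2.full.x_comm (F := K) (r := 7) (s := 6) (by decide) (by decide) (by decide)
    (by decide) p q
  rw [good_G2.full.cert.commWord_eq (by decide) (by decide), swapPos] at e
  rw [e]
  simp only [rhsWord, List.map_cons, List.map_nil, List.prod_cons, List.prod_nil, mul_one, Y]
  simp only [mul_assoc]
  push_cast
  ring_nf

theorem swap_neg (p q : K) : good_G2.full.x 5 q * good_G2.full.x 4 p =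
    good_G2.full.x 4 p * good_G2.full.x 5 q *
      C.Y' (-(p * q)) (p ^ 2 * q) (p ^ 3 * q) (-(p ^ 3 * q ^ 2)) := by
  have e := good_G2.full.x_comm (F := K) (r := 4) (s := 5) (by decide) (by decide) (by decide)
    (by decide) p q
  rw [good_G2.full.cert.commWord_eq (by decide) (by decide), swapNeg] at e
  rw [e]
  simp only [rhsWord, List.map_cons, List.map_nil, List.prod_cons, List.prod_nil, mul_one, Y']
  simp only [mul_assoc]
  push_cast
  ring_nf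

/-- The positive generators. -/
def U (C : Ctx K m) (t u v : K) : GL chevG2.Idx K :=
  C.P6 (t ^ 3 ^ m) t (t ^ (3 ^ m + 1) + u ^ 3 ^ m) (t ^ (2 * 3 ^ m + 1) + v ^ 3 ^ m) u v

/-- The negative generators. -/
def V (C : Ctx K m) (t u v : K) : GL chevG2.Idx K :=
  good_G2.full.x 4 (-t ^ 3 ^ m) * good_G2.full.x 5 (-t) *
    C.Y' (-(t ^ (3 ^ m + 1) + u ^ 3 ^ m)) (-(t ^ (2 * 3 ^ m + 1) + v ^ 3 ^ m)) (-u) (-v)

theorem A_P6 (a b c1 c2 d1 d2 : K) :
    C.Φ.A (C.P6 a b c1 c2 d1 d2) =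
      C.P6 (b ^ 3 ^ m) (a ^ (3 * 3 ^ m))
        (b ^ 3 ^ m * a ^ (3 * 3 ^ m) + d1 ^ 3 ^ m)
        ((b ^ 3 ^ m) ^ 2 * a ^ (3 * 3 ^ m) + d2 ^ 3 ^ m)
        (-((b ^ 3 ^ m) ^ 3 * a ^ (3 * 3 ^ m)) + c1 ^ (3 * 3 ^ m))
        (-((b ^ 3 ^ m) ^ 3 * (a ^ (3 * 3 ^ m)) ^ 2) + c2 ^ (3 * 3 ^ m)) := by
  rw [P6, C.A_six (by decide) (by decide +kernel), C.swap_pos, C.Y_perm, mul_assoc, C.Y_mul]
  rfl

theorem U_mem_fix (t u v : K) : C.U t u v ∈ C.Φ.Fix := by
  refine ⟨?_, ?_⟩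
  · exact mul_mem (mul_mem (good_G2.x_mem_group _ _) (good_G2.x_mem_group _ _))
      (mul_mem (mul_mem (mul_mem (good_G2.x_mem_group _ _) (good_G2.x_mem_group _ _))
        (good_G2.x_mem_group _ _)) (good_G2.x_mem_group _ _))
  rw [U, C.A_P6, C.pow_qq']
  have e1 : (t ^ (3 ^ m + 1) + u ^ 3 ^ m) ^ (3 * 3 ^ m) = t * t ^ (3 * 3 ^ m) + u := by
    rw [C.add_pow', pow_succ, mul_pow, C.pow_qq', C.pow_qq']
  have e2 : (t ^ (2 * 3 ^ m + 1) + v ^ 3 ^ m) ^ (3 * 3 ^ m) = t ^ 2 * t ^ (3 * 3 ^ m) + v := by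
    rw [C.add_pow', pow_succ, mul_pow, mul_comm 2, pow_mul t (3 ^ m) 2,
      pow_right_comm (t ^ 3 ^ m) 2 (3 * 3 ^ m), C.pow_qq', C.pow_qq']
  rw [e1, e2]
  congr 1 <;> ring


theorem V_mem_fix (t u v : K) : C.V t u v ∈ C.Φ.Fix := by
  refine ⟨?_, ?_⟩
  · exact mul_mem (mul_mem (good_G2.x_mem_group _ _) (good_G2.x_mem_group _ _))
      (mul_mem (mul_mem (mul_mem (good_G2.x_mem_group _ _) (good_G2.x_mem_group _ _))
        (good_G2.x_mem_group _ _)) (good_G2.x_mem_group _ _))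
  have ho : Odd (3 * 3 ^ m) := (by decide : Odd 3).mul Ctx.e_odd
  rw [V, Y', C.A_six (by decide) (by decide +kernel), C.swap_neg, C.Y'_perm, mul_assoc, C.Y'_mul]
  have e1 : (t ^ (3 ^ m + 1) + u ^ 3 ^ m) ^ (3 * 3 ^ m) = t * t ^ (3 * 3 ^ m) + u := by
    rw [C.add_pow', pow_succ, mul_pow, C.pow_qq', C.pow_qq']
  have e2 : (t ^ (2 * 3 ^ m + 1) + v ^ 3 ^ m) ^ (3 * 3 ^ m) = t ^ 2 * t ^ (3 * 3 ^ m) + v := by
    rw [C.add_pow', pow_succ, mul_pow, mul_comm 2, pow_mul t (3 ^ m) 2,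
      pow_right_comm (t ^ 3 ^ m) 2 (3 * 3 ^ m), C.pow_qq', C.pow_qq']
  simp only [ho.neg_pow, Ctx.e_odd.neg_pow, e1, e2, C.pow_qq']
  show _ = _ * _ * C.Y' _ _ _ _
  congr 2 <;> ring

theorem pos_form {g : GL chevG2.Idx K}
    (hg : g ∈ good_G2.US K {r | IsPos chevG2 r}) :
    ∃ a b c1 c2 d1 d2, g = C.P6 a b c1 c2 d1 d2 := by
  rw [← SetLike.mem_coe, good_G2.US_eq_range good_G2.closed_pos] at hg
  obtain ⟨f, hf⟩ := hg
  have hl : ((List.range' 0 chevG2.nroots).filter fun r => decide (IsPos chevG2 r)) =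
      [6, 7, 8, 9, 10, 11] := by
    refine (List.filter_congr (q := fun r => decide (r < 12 ∧ 12 ≤ 2 * r)) fun r _ =>
      decide_eq_decide.mpr Iff.rfl).trans ?_
    decide
  refine ⟨f 7, f 6, f 7 * f 6 + f 8, f 7 ^ 2 * f 6 + f 9, -(f 7 ^ 3 * f 6) + f 10,
    -(f 7 ^ 3 * f 6 ^ 2) + f 11, ?_⟩
  rw [← hf]
  simp only [good_G2.segProd_eq_word, hl, List.map_cons, List.map_nil, List.prod_cons,
    List.prod_nil, mul_one]
  rw [← mul_assoc, C.swap_pos]
  show _ = _ * _ * C.Y _ _ _ _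
  rw [← C.Y_mul, mul_assoc]
  simp only [Y, mul_assoc]

theorem P6_mem (a b c1 c2 d1 d2 : K) :
    C.P6 a b c1 c2 d1 d2 ∈ good_G2.US K {r | IsPos chevG2 r} := by
  have h : ∀ r ∈ [7, 6, 8, 9, 10, 11], ∀ t : K,
      good_G2.full.x r t ∈ good_G2.US K {r | IsPos chevG2 r} := fun r hr t =>
    good_G2.x_mem_US (by
      have : r < 12 ∧ 12 ≤ 2 * r := by revert r; decide
      exact this) t
  exact mul_mem (mul_mem (h 7 (by simp) _) (h 6 (by simp) _))
    (mul_mem (mul_mem (mul_mem (h 8 (by simp) _) (h 9 (by simp) _)) (h 10 (by simp) _))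
      (h 11 (by simp) _))

theorem P6_inj {a b c1 c2 d1 d2 a' b' c1' c2' d1' d2' : K}
    (h : C.P6 a b c1 c2 d1 d2 = C.P6 a' b' c1' c2' d1' d2') :
    a = a' ∧ b = b' ∧ c1 = c1' ∧ c2 = c2' ∧ d1 = d1' ∧ d2 = d2' := by
  let f : K × K × K × K × K × K → good_G2.US K {r | IsPos chevG2 r} := fun p =>
    ⟨_, C.P6_mem p.1 p.2.1 p.2.2.1 p.2.2.2.1 p.2.2.2.2.1 p.2.2.2.2.2⟩
  have hs : Function.Surjective f := fun ⟨g, hg⟩ => by
    obtain ⟨a, b, c1, c2, d1, d2, e⟩ := C.pos_form hg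
    exact ⟨(a, b, c1, c2, d1, d2), Subtype.ext e.symm⟩
  have hc : Nat.card (K × K × K × K × K × K) =
      Nat.card (good_G2.US K {r | IsPos chevG2 r}) := by
    rw [good_G2.card_US good_G2.closed_pos, good_G2.card_pos,
      show chevG2.nroots / 2 = 6 from rfl]
    simp only [Nat.card_prod]
    ring
  have := ((Nat.bijective_iff_surjective_and_card f).mpr ⟨hs, hc⟩).1
    (a₁ := (a, b, c1, c2, d1, d2)) (a₂ := (a', b', c1', c2', d1', d2')) (Subtype.ext h)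
  simpa using this

theorem fix_form {g : GL chevG2.Idx K} (hfix : g ∈ C.Φ.Fix)
    (hg : g ∈ good_G2.US K {r | IsPos chevG2 r}) : ∃ t u v, g = C.U t u v := by
  obtain ⟨a, b, c1, c2, d1, d2, rfl⟩ := C.pos_form hg
  obtain ⟨e1, e2, e3, e4, -⟩ := C.P6_inj ((C.A_P6 a b c1 c2 d1 d2).symm.trans hfix.2)
  refine ⟨b, d1, d2, ?_⟩
  rw [U, ← e3, ← e4, e2, ← e1]
  congr 1 <;> ring

theorem fix_inf_pos {g : GL chevG2.Idx K} :
    g ∈ C.Φ.Fix ⊓ good_G2.US K {r | IsPos chevG2 r} ↔ ∃ t u v, g = C.U t u v := by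
  refine ⟨fun h => C.fix_form h.1 h.2, ?_⟩
  rintro ⟨t, u, v, rfl⟩
  exact Subgroup.mem_inf.mpr ⟨C.U_mem_fix t u v, C.P6_mem _ _ _ _ _ _⟩

theorem U_inj {t u v t' u' v' : K} (h : C.U t u v = C.U t' u' v') : t = t' ∧ u = u' ∧ v = v' := by
  obtain ⟨-, h2, -, -, h5, h6⟩ := C.P6_inj h
  exact ⟨h2, h5, h6⟩

theorem U_one : C.U 0 0 0 = 1 := by
  simp [U, P6, good_G2.full.x_zero]

/-- The group. -/
abbrev grp (_C : Ctx K m) : Subgroup (GL chevG2.Idx K) := twistedG2 K (3 ^ m)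

theorem U_mem (t u v : K) : C.U t u v ∈ C.grp := by
  refine Subgroup.subset_closure ⟨_, ⟨t, u, v, Or.inl rfl⟩, ?_⟩
  rw [← good_G2.full.coe_word]
  refine congrArg Units.val ?_
  simp [U, P6, reeWordU, g2a, g2b, g2ab, g2aab, g2aaab, g2aaabb, mul_assoc]

omit [Fintype K] C in
theorem wordV_eq (e : ℕ) (t u v : K) : reeWordV e t u v =
    [(4, -t ^ e), (5, -t), (3, -(t ^ (e + 1) + u ^ e)), (2, -(t ^ (2 * e + 1) + v ^ e)), (1, -u),
      (0, -v)] := rfl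

theorem V_mem (t u v : K) : C.V t u v ∈ C.grp := by
  refine Subgroup.subset_closure ⟨_, ⟨t, u, v, Or.inr rfl⟩, ?_⟩
  rw [← good_G2.full.coe_word]
  refine congrArg Units.val ?_
  simp [V, Y', wordV_eq, mul_assoc]

theorem mem_cases {g : GL chevG2.Idx K} {w : List (ℕ × K)} (hw : w ∈ g2Words K (3 ^ m))
    (hg : (g : Matrix chevG2.Idx chevG2.Idx K) = chevG2.wordMat K w) :
    ∃ t u v, g = C.U t u v ∨ g = C.V t u v := by
  have e : g = (w.map fun p => good_G2.full.x p.1 p.2).prod :=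
    Units.ext (hg.trans (good_G2.full.coe_word w).symm)
  obtain ⟨t, u, v, rfl | rfl⟩ := hw <;> refine ⟨t, u, v, ?_⟩
  · refine Or.inl (e.trans ?_)
    simp [U, P6, reeWordU, g2a, g2b, g2ab, g2aab, g2aaab, g2aaabb, mul_assoc]
  · refine Or.inr (e.trans ?_)
    simp [V, Y', wordV_eq, mul_assoc]

theorem grp_le_fix : C.grp ≤ C.Φ.Fix := by
  refine (Subgroup.closure_le _).mpr ?_
  rintro g ⟨w, hw, hg⟩
  obtain ⟨t, u, v, rfl | rfl⟩ := C.mem_cases hw hg
  exacts [C.U_mem_fix t u v, C.V_mem_fix t u v]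

theorem spec : good_G2.TwSpec C.Φ [[0, 1]] [[0, 1, 0, 1, 0, 1]] :=
  Good.twSpec C.Φ C.hπ C.hρ chkO

theorem flip_word (J : Fin ([[0, 1]] : List (List ℕ)).length) :
    flipSet (good_G2.full.pw (toFins chevG2.rank
      (([[0, 1, 0, 1, 0, 1]] : List (List ℕ)).getD J []))) = {r | IsPos chevG2 r} := by
  ext s
  constructor
  · rintro ⟨_, h, _⟩; exact h
  · intro h
    refine ⟨h.1, h, (C.spec.flip J ⟨s, h.1⟩ h).mpr fun i hi => absurd ?_ hi⟩
    rw [mem_toFins]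
    fin_cases J
    fin_cases i <;> simp

theorem V_mem_neg (J : Fin ([[0, 1]] : List (List ℕ)).length) (t u v : K) :
    C.V t u v ∈ good_G2.US K {r | ∃ h : r < chevG2.nroots, (negF (D := chevG2) ⟨r, h⟩).val ∈
      flipSet (good_G2.full.pw (toFins chevG2.rank
        (([[0, 1, 0, 1, 0, 1]] : List (List ℕ)).getD J [])))} := by
  rw [C.flip_word J]
  have h : ∀ r ∈ [4, 5, 3, 2, 1, 0], ∀ y : K, good_G2.full.x r y ∈ good_G2.US K
      {r | ∃ h : r < chevG2.nroots, (negF (D := chevG2) ⟨r, h⟩).val ∈ {r | IsPos chevG2 r}} :=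
    fun r hr y => good_G2.x_mem_US (by
      have : r < 12 ∧ negR chevG2 r < 12 ∧ 12 ≤ 2 * negR chevG2 r := by revert r; decide +kernel
      exact ⟨this.1, this.2.1, this.2.2⟩) y
  exact mul_mem (mul_mem (h 4 (by simp) _) (h 5 (by simp) _))
    (mul_mem (mul_mem (mul_mem (h 3 (by simp) _) (h 2 (by simp) _)) (h 1 (by simp) _))
      (h 0 (by simp) _))

theorem gen_data : good_G2.GenData C.Φ [[0, 1]] [[0, 1, 0, 1, 0, 1]] C.grp where
  spec := C.spec
  le_fix := C.grp_le_fix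
  X_le J g hg := by
    rw [C.flip_word J] at hg
    obtain ⟨t, u, v, rfl⟩ := C.fix_inf_pos.mp hg
    exact C.U_mem t u v
  neg_ne J := by
    refine ⟨C.V 0 1 0, C.V_mem 0 1 0, fun h => ?_, ?_⟩
    · have he : (0 : K) ^ 3 ^ m = 0 := zero_pow (by positivity)
      simp only [V, Y', he, zero_pow, ne_eq, Nat.add_eq_zero, one_ne_zero, and_false,
        not_false_eq_true, neg_zero, zero_add, add_zero, good_G2.full.x_zero, one_mul, mul_one,
        one_pow, mul_eq_one_iff_eq_inv, good_G2.full.x_inv] at h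
      exact absurd (good_G2.x_inj_root (by decide) (by decide) (by simp) h) (by decide)
    · let P : good_G2.Orbit C.Φ _ _ :=
        ⟨C.spec.word_mem J, C.spec.orb_trans J, C.spec.flip J, C.spec.comm J, C.spec.invol J⟩
      exact P.exists_of_neg (C.V_mem_neg J 0 1 0)
  gen := by
    refine (Subgroup.closure_le _).mpr ?_
    rintro g ⟨w, hw, hg⟩
    obtain ⟨t, u, v, rfl | rfl⟩ := C.mem_cases hw hg
    · refine Subgroup.subset_closure (Set.mem_iUnion.mpr ⟨0, Or.inl ?_⟩)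
      rw [C.flip_word 0]
      exact C.fix_inf_pos.mpr ⟨t, u, v, rfl⟩
    · refine Subgroup.subset_closure (Set.mem_iUnion.mpr ⟨0, Or.inr ⟨C.V_mem_fix t u v, ?_⟩⟩)
      let P : good_G2.Orbit C.Φ _ _ :=
        ⟨C.spec.word_mem 0, C.spec.orb_trans 0, C.spec.flip 0, C.spec.comm 0, C.spec.invol 0⟩
      exact P.exists_of_neg (C.V_mem_neg 0 t u v)


/-- The parameters of the torus. -/
def cvec (_C : Ctx K m) : Kˣ →* (Fin chevG2.rank → Kˣ) :=
  let f : Kˣ →* (Fin 2 → Kˣ) :=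
    MonoidHom.mk' (fun t => ![t ^ 3 ^ m, t]) fun a b => by
      funext i; fin_cases i <;> simp [mul_pow]
  f

/-- The torus. -/
def h (C : Ctx K m) : Kˣ →* GL chevG2.Idx K := (G2Data.tab.hT K).comp C.cvec

theorem hT_inj {c : Fin chevG2.rank → Kˣ} (hc : G2Data.tab.hT K c = 1) : c = 1 := by
  simpa using good_G2.ker_pow (k := 1) chkKer1 hc

theorem h_inj : Function.Injective C.h := by
  rw [injective_iff_map_eq_one]
  intro t ht
  exact congrFun (C.hT_inj ht) (1 : Fin 2)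

theorem σc_eq (c : Fin chevG2.rank → Kˣ) :
    C.Φ.σc c = (![c (1 : Fin 2) ^ 3 ^ m, c (0 : Fin 2) ^ (3 * 3 ^ m)] : Fin 2 → Kˣ) := by
  have hm : ∀ i : Fin chevG2.rank, (mapAt graphMapG2 (chevG2.simple i)).2 =
      (1, [3, 1].getD i.val 0) := by decide +kernel
  have key : ∀ i : Fin chevG2.rank, C.Φ.σc c (C.Φ.ρ i) = c i ^ ([3, 1].getD i.val 0 * 3 ^ m) := by
    intro i
    show C.Φ.fU (C.Φ.ρ.symm (C.Φ.ρ i)) (c (C.Φ.ρ.symm (C.Φ.ρ i))) = _
    rw [Equiv.symm_apply_apply]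
    refine Units.ext ?_
    show C.Φ.f (good_G2.full.simp' i) (c i) = _
    rw [C.hf, show (good_G2.full.simp' i : ℕ) = chevG2.simple i from rfl, hm]
    simp [pow_mul]
  have h0 := key (0 : Fin 2)
  have h1 := key (1 : Fin 2)
  rw [show C.Φ.ρ (0 : Fin 2) = (1 : Fin 2) from Fin.ext (C.hρ (0 : Fin 2))] at h0
  rw [show C.Φ.ρ (1 : Fin 2) = (0 : Fin 2) from Fin.ext (C.hρ (1 : Fin 2))] at h1
  refine funext fun j : Fin 2 => ?_
  fin_cases j
  · simpa using h1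
  · simpa using h0

theorem mem_fix_diag {g : GL chevG2.Idx K} :
    g ∈ C.Φ.Fix ⊓ chevG2.diagonalSubgroup K ↔ g ∈ C.h.range := by
  rw [Subgroup.mem_inf, good_G2.full.diagonal_eq_range]
  constructor
  · rintro ⟨hfix, c, rfl⟩
    have e : C.Φ.σc c = c := by
      have h1 := hfix.2
      rw [C.Φ.A_hT] at h1
      have h2 : G2Data.tab.hT K (C.Φ.σc c * c⁻¹) = 1 := by
        rw [map_mul, map_inv, h1, mul_inv_cancel]
      exact mul_inv_eq_one.mp (C.hT_inj h2)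
    refine ⟨c (1 : Fin 2), congrArg (G2Data.tab.hT K) ?_⟩
    have e' := (C.σc_eq c).symm.trans e
    have e0 : c (1 : Fin 2) ^ 3 ^ m = c (0 : Fin 2) := congrFun e' (0 : Fin 2)
    funext i
    revert i
    refine fun i : Fin 2 => ?_
    fin_cases i
    · exact e0
    · rfl
  · rintro ⟨t, rfl⟩
    refine ⟨⟨C.Φ.hT_mem_group _, ?_⟩, _, rfl⟩
    show C.Φ.A (G2Data.tab.hT K (C.cvec t)) = G2Data.tab.hT K (C.cvec t)
    rw [C.Φ.A_hT]
    refine congrArg (G2Data.tab.hT K) ((C.σc_eq _).trans (funext fun i : Fin 2 => ?_))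
    fin_cases i
    · rfl
    · refine Units.ext ?_
      show (((t ^ 3 ^ m) ^ (3 * 3 ^ m) : Kˣ) : K) = _
      rw [Units.val_pow_eq_pow_val, Units.val_pow_eq_pow_val, C.pow_qq']
      rfl

theorem pow_q_units (v : Kˣ) : v ^ (3 * 3 ^ m * 3 ^ m) = v :=
  Units.ext (by rw [Units.val_pow_eq_pow_val, pow_mul, C.pow_qq])

/-- The representative of the longest element in the orthogonal pair. -/
theorem pair_mem (u : K) :
    good_G2.full.nr 8 (u ^ 3 ^ m) * good_G2.full.nr 10 u ∈ C.grp := by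
  have h8 : negR chevG2 8 = 3 := by decide +kernel
  have h10 : negR chevG2 10 = 1 := by decide +kernel
  have hc : ∀ p ∈ [(8, 10), (8, 1), (3, 10), (3, 1)], ∀ v w : K,
      Commute (good_G2.full.x p.1 v) (good_G2.full.x p.2 w) := fun p hp => C.commute_of
    (by revert p; decide +kernel)
  have key : good_G2.full.nr 8 (u ^ 3 ^ m) * good_G2.full.nr 10 u =
      C.U 0 u 0 * C.V 0 u⁻¹ 0 * C.U 0 u 0 := by
    have hU : C.U 0 u 0 = good_G2.full.x 8 (u ^ 3 ^ m) * good_G2.full.x 10 u := by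
      simp [U, P6, good_G2.full.x_zero]
    have hV : C.V 0 u⁻¹ 0 =
        good_G2.full.x 3 (-(u ^ 3 ^ m)⁻¹) * good_G2.full.x 1 (-u⁻¹) := by
      simp [V, Y', good_G2.full.x_zero, inv_pow]
    rw [hU, hV, Full.nr, Full.nr, h8, h10]
    set a := good_G2.full.x 8 (u ^ 3 ^ m)
    set b := good_G2.full.x 3 (-(u ^ 3 ^ m)⁻¹)
    set c := good_G2.full.x 10 u
    set d := good_G2.full.x 1 (-u⁻¹)
    have hac : Commute a c := hc (8, 10) (by simp) _ _
    have had : Commute a d := hc (8, 1) (by simp) _ _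
    have hbc : Commute b c := hc (3, 10) (by simp) _ _
    calc a * b * a * (c * d * c) = a * b * (a * c) * d * c := by simp only [mul_assoc]
      _ = a * (b * c) * (a * d) * c := by rw [hac.eq]; simp only [mul_assoc]
      _ = a * c * (b * d) * (a * c) := by rw [hbc.eq, had.eq]; simp only [mul_assoc]
  rw [key]
  exact mul_mem (mul_mem (C.U_mem _ _ _) (C.V_mem _ _ _)) (C.U_mem _ _ _)

theorem h_sq_mem (v : Kˣ) : C.h (v ^ 2) ∈ C.grp := by
  obtain ⟨u, hu⟩ : ∃ u : Kˣ, u ^ (3 * 3 ^ m + 1) = v ^ 2 := by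
    refine ⟨v ^ (3 * 3 ^ m - 1), ?_⟩
    have h1 : (3 * 3 ^ m - 1) * (3 * 3 ^ m + 1) + 1 = 3 * (3 * 3 ^ m * 3 ^ m) := by
      obtain ⟨k, hk⟩ : ∃ k, 3 * 3 ^ m = k + 1 :=
        ⟨3 * 3 ^ m - 1, by have := Nat.one_le_pow m 3 (by norm_num); omega⟩
      have h2 : 3 * (3 * 3 ^ m * 3 ^ m) = (k + 1) * (k + 1) := by rw [← hk]; ring
      rw [h2, hk, Nat.add_sub_cancel]
      ring
    have h3 := congrArg (v ^ ·) h1
    simp only [pow_succ _ ((3 * 3 ^ m - 1) * (3 * 3 ^ m + 1)), pow_mul' v 3, pow_mul v (3 * 3 ^ m - 1),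
      C.pow_q_units] at h3
    rw [show (3 : ℕ) = 2 + 1 from rfl, pow_succ v 2] at h3
    exact mul_right_cancel h3
  have key : good_G2.full.nr 8 ((u : K) ^ 3 ^ m) * good_G2.full.nr 10 (u : K) *
      (good_G2.full.nr 8 (((-1 : K)) ^ 3 ^ m) * good_G2.full.nr 10 (-1 : K)) = C.h (v ^ 2) := by
    have h8 : negR chevG2 8 = 3 := by decide +kernel
    have h10 : negR chevG2 10 = 1 := by decide +kernel
    have hcom : Commute (good_G2.full.nr 10 (u : K)) (good_G2.full.nr 8 (-1 : K)) := by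
      have hc : ∀ a ∈ [10, 1], ∀ b ∈ [8, 3], ∀ x y : K,
          Commute (good_G2.full.x a x) (good_G2.full.x b y) := fun a ha b hb => C.commute_of
        (by revert a b; decide +kernel)
      simp only [Full.nr, h8, h10]
      refine Commute.mul_left (Commute.mul_left ?_ ?_) ?_ <;>
        refine Commute.mul_right (Commute.mul_right ?_ ?_) ?_ <;>
        exact hc _ (by simp) _ (by simp) _ _
    rw [Ctx.e_odd.neg_one_pow, mul_assoc, ← mul_assoc (good_G2.full.nr 10 (u : K)), hcom.eq,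
      mul_assoc, ← mul_assoc (good_G2.full.nr 8 ((u : K) ^ 3 ^ m))]
    show good_G2.full.hr 8 _ * good_G2.full.hr 10 _ = _
    rw [good_G2.full.hr_eq_hT (by decide) (pow_ne_zero _ u.ne_zero),
      good_G2.full.hr_eq_hT (by decide) u.ne_zero, ← map_mul]
    refine congrArg (G2Data.tab.hT K) (funext fun i : Fin 2 => ?_)
    have hcor : G2Data.tab.cor 8 0 = 1 ∧ G2Data.tab.cor 8 1 = 3 ∧ G2Data.tab.cor 10 0 = 1 ∧
        G2Data.tab.cor 10 1 = 1 := by decide +kernel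
    have hmk : Units.mk0 ((u : K) ^ 3 ^ m) (pow_ne_zero _ u.ne_zero) = u ^ 3 ^ m :=
      Units.ext (by simp)
    fin_cases i
    · show Units.mk0 _ _ ^ G2Data.tab.cor 8 0 * Units.mk0 _ _ ^ G2Data.tab.cor 10 0 =
        (v ^ 2) ^ 3 ^ m
      rw [hcor.1, hcor.2.2.1, hmk, Units.mk0_val, _root_.zpow_one, _root_.zpow_one, ← hu, ← pow_mul,
        add_mul, one_mul, pow_add u (3 * 3 ^ m * 3 ^ m), C.pow_q_units, mul_comm]
    · show Units.mk0 _ _ ^ G2Data.tab.cor 8 1 * Units.mk0 _ _ ^ G2Data.tab.cor 10 1 = v ^ 2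
      rw [hcor.2.1, hcor.2.2.2, hmk, Units.mk0_val, _root_.zpow_one, ← hu, pow_succ,
        show ((3 : ℤ)) = ((3 : ℕ) : ℤ) from rfl, zpow_natCast]
      exact congrArg (· * u) ((pow_mul u (3 ^ m) 3).symm.trans (congrArg (u ^ ·) (mul_comm _ _)))
  rw [← key]
  exact mul_mem (C.pair_mem _) (C.pair_mem _)

omit C [Fintype K] in
theorem peval_entry (x : chevG2.Idx) : ∀ l : PVec,
    (peval (1 : K) 1 l : chevG2.Idx → K) x =
      ((((l.filter fun p => Nat.beq p.1.1 (code x)).map fun p => p.2).sum : ℤ) : K) := by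
  intro l
  induction l with
  | nil => simp [peval]
  | cons p l ih =>
    simp only [peval, List.map_cons, List.sum_cons, List.filter_cons, one_pow, mul_one] at ih ⊢
    rw [ih]
    by_cases h : p.1.1 = code x
    · simp [h]
    · simp [h, Tab.beq_false h]

theorem h_neg_one_mem : C.h (-1) ∈ C.grp := by
  have hP : C.h (-1) = C.U 1 0 0 * C.U 0 1 0 * C.V 0 0 1 * C.V 0 1 0 * C.U 1 0 0 * C.V 0 0 1 := by
    have he : (0 : K) ^ 3 ^ m = 0 := zero_pow (by positivity)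
    have hw : C.U 1 0 0 * C.U 0 1 0 * C.V 0 0 1 * C.V 0 1 0 * C.U 1 0 0 * C.V 0 0 1 =
        ((wordH.map (fval (1 : K) 1)).map fun p => good_G2.full.x p.1 p.2).prod := by
      simp [U, P6, V, Y', wordH, fval, he, good_G2.full.x_zero, mul_assoc]
    rw [hw]
    refine Units.ext ?_
    rw [good_G2.full.coe_wordX _ (by
      intro p hp
      obtain ⟨q, hq, rfl⟩ := List.mem_map.mp hp
      exact (show ∀ q ∈ wordH, q.1 < 12 by decide) q hq)]
    show ((G2Data.tab.hT K (C.cvec (-1)) : GL chevG2.Idx K) : Matrix chevG2.Idx chevG2.Idx K) = _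
    rw [G2Data.tab.coe_hT]
    ext x y
    have hfs : ∀ f ∈ wordH, f.1 < chevG2.nroots := by decide
    have hcol := congrFun ((good_G2.full.cert.pcol_spec (1 : K) 1 wordH hfs y).2) x
    rw [Matrix.mulVec_single_one, peval_entry] at hcol
    show _ = wordX G2Data.tab _ x y
    refine Eq.trans ?_ hcol
    have hcode : ∀ z : chevG2.Idx, code z < 14 := fun z => code_lt z
    have hchk := chkH
    simp only [allBelow_iff, decide_eq_true_eq] at hchk
    have hk := hchk (code y) (hcode y) (code x) (hcode x)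
    have hcast : ∀ a b : ℤ, a % 3 = b % 3 → (a : K) = (b : K) := by
      intro a b hab
      obtain ⟨k, hk⟩ := Int.dvd_of_emod_eq_zero (Int.emod_eq_emod_iff_emod_sub_eq_zero.mp hab)
      rw [← sub_eq_zero, ← Int.cast_sub, hk, Int.cast_mul, show ((3 : ℤ) : K) = ((3 : ℕ) : K) by simp,
        C.hp, zero_mul]
    rw [hcast _ _ hk]
    rcases eq_or_ne x y with rfl | hxy
    · rw [Matrix.diagonal_apply_eq, entH, if_pos rfl]
      rcases x with j | r
      · rw [if_neg (by show ¬ (12 + (j : ℕ) < 12); omega)]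
        simp
      · rw [if_pos (show code (Sum.inr r : chevG2.Idx) < 12 from r.isLt)]
        show ((G2Data.tab.chi r.val (C.cvec (-1)) : Kˣ) : K) = _
        show (((∏ j : Fin 2, (![(-1 : Kˣ) ^ 3 ^ m, -1] : Fin 2 → Kˣ) j ^
          G2Data.tab.cart j r.val) : Kˣ) : K) = _
        rw [Fin.prod_univ_two]
        simp only [Matrix.cons_val_zero, Matrix.cons_val_one, Fin.val_zero, Fin.val_one,
          Ctx.e_odd.neg_one_pow, ← _root_.zpow_add, Units.val_zpow_eq_zpow_val, Units.val_neg,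
          Units.val_one, neg_one_zpow_eq_ite, code_inr, Int.even_iff]
        split_ifs <;> first
          | (exfalso; omega)
          | (simp <;> intros <;> exfalso <;> omega)
    · rw [Matrix.diagonal_apply_ne _ hxy, entH, if_neg fun e => hxy (code_injective e), Int.cast_zero]
  rw [hP]
  exact mul_mem (mul_mem (mul_mem (mul_mem (mul_mem (C.U_mem _ _ _) (C.U_mem _ _ _)) (C.V_mem _ _ _))
    (C.V_mem _ _ _)) (C.U_mem _ _ _)) (C.V_mem _ _ _)

theorem card_units : Nat.card Kˣ = 3 ^ (2 * m + 1) - 1 := by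
  rw [units_card (d := 1) (q := 3 ^ (2 * m + 1)) (by rw [C.hK, pow_one]), pow_one]

theorem h_mem (t : Kˣ) : C.h t ∈ C.grp := by
  classical
  have hodd : Odd ((3 ^ (2 * m + 1) - 1) / 2) := by
    rw [Nat.odd_iff]
    have h4 : 3 ^ (2 * m + 1) % 4 = 3 := by
      rw [pow_succ, pow_mul, Nat.mul_mod, Nat.pow_mod]; norm_num [Nat.one_pow]
    generalize 3 ^ (2 * m + 1) = x at h4 ⊢
    omega
  obtain ⟨g, hg⟩ := IsCyclic.exists_monoid_generator (α := Kˣ)
  obtain ⟨n, rfl⟩ := Submonoid.mem_powers_iff _ _ |>.mp (hg t)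
  refine (fun hsq hm1 => ?_) C.h_sq_mem C.h_neg_one_mem
  suffices hgm : C.h g ∈ C.grp by rw [map_pow]; exact pow_mem hgm n
  set k := (3 ^ (2 * m + 1) - 1) / 2 with hk
  obtain ⟨j, hj⟩ := hodd
  have hgk : (g ^ k) ^ 2 = 1 := by
    rw [← pow_mul]
    have h2 : k * 2 = Nat.card Kˣ := by
      rw [C.card_units]
      have h4 : 3 ^ (2 * m + 1) % 2 = 1 := by rw [Nat.pow_mod]; norm_num
      omega
    rw [h2]
    exact pow_card_eq_one'
  have e : g = g ^ k * ((g ^ j)⁻¹) ^ 2 := by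
    rw [hj, inv_pow, ← pow_mul, eq_mul_inv_iff_mul_eq, mul_comm j 2, ← pow_succ']
  rw [e, map_mul]
  refine mul_mem ?_ (hsq _)
  have h2 : ((g ^ k : Kˣ) : K) ^ 2 = 1 := by rw [← Units.val_pow_eq_pow_val, hgk, Units.val_one]
  rcases sq_eq_one_iff.mp h2 with h | h
  · rw [show g ^ k = 1 from Units.ext h, map_one]
    exact one_mem _
  · rw [show g ^ k = -1 from Units.ext h]
    exact hm1


/-- The twisted group. -/
noncomputable def Z : Good.Twisted C.Φ :=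
  C.gen_data.twisted fun g hg => by
    obtain ⟨t, rfl⟩ := C.mem_fix_diag.mp hg
    exact C.h_mem t

theorem G1_eq : C.Z.G1 = C.grp := rfl

theorem flip_w (J : Fin C.Z.nJ) : flipSet (C.Z.w J) = {r | IsPos chevG2 r} := C.flip_word J

theorem mem_XJ {J : Fin C.Z.nJ} {g : GL chevG2.Idx K} :
    g ∈ C.Z.XJ J ↔ ∃ t u v, g = C.U t u v := by
  rw [Good.Twisted.XJ, C.flip_w J]
  exact C.fix_inf_pos

theorem card_X (J : Fin C.Z.nJ) : Nat.card (C.Z.XJ J) = (3 ^ (2 * m + 1)) ^ 3 := by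
  let f : K × K × K → C.Z.XJ J := fun p => ⟨_, C.mem_XJ.mpr ⟨p.1, p.2.1, p.2.2, rfl⟩⟩
  have hf : Function.Bijective f := by
    refine ⟨fun p p' e => ?_, fun ⟨g, hg⟩ => ?_⟩
    · obtain ⟨h1, h2, h3⟩ := C.U_inj (congrArg Subtype.val e)
      exact Prod.ext h1 (Prod.ext h2 h3)
    · obtain ⟨t, u, v, rfl⟩ := C.mem_XJ.mp hg
      exact ⟨(t, u, v), rfl⟩
  rw [← Nat.card_eq_of_bijective f hf, ← C.hK]
  simp only [Nat.card_eq_fintype_card, Fintype.card_prod]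
  ring

theorem card_inv (J : Fin C.Z.nJ) : (invSet (C.Z.w J)).card = 2 * 3 := by
  have e : invSet (C.Z.w J) =
      (Finset.univ : Finset (Fin chevG2.nroots)).filter fun s => 6 ≤ s.val := by
    ext s
    rw [mem_inv, Finset.mem_filter]
    have hs : (s : ℕ) < 12 := s.isLt
    refine ⟨fun h => ⟨Finset.mem_univ _, ?_⟩, fun h => ?_⟩
    · have : 12 ≤ 2 * (s : ℕ) := h.1.2
      omega
    · have hp : IsPos chevG2 s.val := ⟨s.isLt, show 12 ≤ 2 * (s : ℕ) by omega⟩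
      have hm : s.val ∈ flipSet (C.Z.w J) := by rw [C.flip_w J]; exact hp
      obtain ⟨_, -, h2⟩ := hm
      exact ⟨hp, h2⟩
  rw [e]
  decide

theorem xNontrivial : C.Z.XNontrivial := fun _ => by
  refine ⟨C.U 0 1 0, C.mem_XJ.mpr ⟨_, _, _, rfl⟩, fun h => ?_⟩
  exact one_ne_zero (C.U_inj (h.trans C.U_one.symm)).2.1

theorem card_U1 : Nat.card C.Z.U1 = (3 ^ (2 * m + 1)) ^ 3 :=
  C.Z.card_U1 two_pos C.card_inv C.card_X (N := 3) rfl

theorem U1_form {g : GL chevG2.Idx K} : g ∈ C.Z.U1 ↔ ∃ t u v, g = C.U t u v := by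
  rw [Good.Twisted.U1, good_G2.posUnipotent_eq]
  exact C.fix_inf_pos

theorem H0_eq : C.Z.H0 = C.h.range := Subgroup.ext fun _ => C.mem_fix_diag

theorem card_torus : Nat.card C.Z.H0 = 3 ^ (2 * m + 1) - 1 := by
  rw [C.H0_eq, ← C.card_units]
  exact (Nat.card_congr (MonoidHom.ofInjective C.h_inj).toEquiv).symm

theorem hasData : C.Z.HasData [[0, 1]] [[0, 1, 0, 1, 0, 1]] :=
  { length_eq := rfl
    orb_eq := fun _ i => mem_toFins i
    word_eq := C.spec.map_word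
    word_mem := C.spec.word_mem }

theorem card_group : Nat.card C.Z.G1 =
    (3 ^ (2 * m + 1)) ^ 3 * (3 ^ (2 * m + 1) - 1) * ((3 ^ (2 * m + 1)) ^ 3 + 1) := by
  rw [C.Z.card_G1 two_pos C.card_inv C.card_X, C.card_U1, C.card_torus,
    show List.range C.Z.nJ = List.range 1 from rfl,
    C.Z.poly_chain C.hasData two_pos _ _ chkLevels]
  simp only [List.map_cons, List.map_nil, List.prod_cons, List.prod_nil, List.sum_cons,
    List.sum_nil]
  ring

/-- The values of the characters on the torus. -/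
theorem h_conj_x {r : ℕ} (hr : r < chevG2.nroots) (t : Kˣ) (y : K) :
    C.h t * good_G2.full.x r y * (C.h t)⁻¹ = good_G2.full.x r
      (((((t ^ 3 ^ m) ^ G2Data.tab.cart 0 r * t ^ G2Data.tab.cart 1 r) : Kˣ) : K) * y) := by
  show G2Data.tab.hT K (C.cvec t) * _ * (G2Data.tab.hT K (C.cvec t))⁻¹ = _
  rw [good_G2.full.hT_conj hr]
  congr 3
  show ∏ j : Fin 2, (![t ^ 3 ^ m, t] : Fin 2 → Kˣ) j ^ G2Data.tab.cart j r = _
  rw [Fin.prod_univ_two]
  rfl

theorem conj_P6 (t : Kˣ) (a b c1 c2 d1 d2 : K) : ∃ χ : ℕ → K,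
    (∀ r, χ r = (((t ^ 3 ^ m) ^ G2Data.tab.cart 0 r * t ^ G2Data.tab.cart 1 r : Kˣ) : K)) ∧
    C.h t * C.P6 a b c1 c2 d1 d2 * (C.h t)⁻¹ =
      C.P6 (χ 7 * a) (χ 6 * b) (χ 8 * c1) (χ 9 * c2) (χ 10 * d1) (χ 11 * d2) := by
  refine ⟨_, fun r => rfl, ?_⟩
  simp only [P6]
  rw [← C.h_conj_x (r := 7) (by decide) t a, ← C.h_conj_x (r := 6) (by decide) t b,
    ← C.h_conj_x (r := 8) (by decide) t c1, ← C.h_conj_x (r := 9) (by decide) t c2,
    ← C.h_conj_x (r := 10) (by decide) t d1, ← C.h_conj_x (r := 11) (by decide) t d2]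
  group

theorem faithful : C.Z.Faithful := by
  intro g hg hu
  rw [C.H0_eq] at hg
  obtain ⟨t, rfl⟩ := hg
  have e := hu (0 : Fin 1) (C.U 0 0 1) (C.mem_XJ.mpr ⟨_, _, _, rfl⟩)
  simp only [U] at e
  obtain ⟨χ, hχ, e'⟩ := C.conj_P6 t ((0 : K) ^ 3 ^ m) 0 (0 ^ (3 ^ m + 1) + 0 ^ 3 ^ m)
    (0 ^ (2 * 3 ^ m + 1) + 1 ^ 3 ^ m) 0 1
  have h6 := (C.P6_inj (e'.symm.trans e)).2.2.2.2.2
  have hc : G2Data.tab.cart 0 11 = 0 ∧ G2Data.tab.cart 1 11 = 1 := by decide +kernel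
  rw [hχ, hc.1, hc.2, _root_.zpow_zero, _root_.zpow_one, one_mul, mul_one] at h6
  rw [show t = 1 from Units.ext h6, map_one]

theorem connected : C.Z.Connected := fun P ⟨a, ha⟩ ⟨b, hb⟩ =>
  absurd ((show a = b from Subsingleton.elim (α := Fin 1) a b) ▸ ha) hb

theorem exists_weyl : ∃ φ : (chevG2.monomialSubgroup K ⊓ C.Z.G1 : Subgroup (GL chevG2.Idx K)) →*
      Multiplicative (ZMod 2), Function.Surjective φ ∧
    φ.ker = (chevG2.diagonalSubgroup K ⊓ C.Z.G1).subgroupOf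
      (chevG2.monomialSubgroup K ⊓ C.Z.G1) := by
  set w := C.Z.w (0 : Fin 1)
  have hr : C.Z.wperm.range = Subgroup.zpowers w := by
    rw [C.Z.wperm_range, Subgroup.zpowers_eq_closure]
    congr 1
    ext σ
    exact ⟨fun ⟨J, hJ⟩ => hJ.symm.trans (congrArg C.Z.w (Subsingleton.elim (α := Fin 1) J 0)),
      fun h => ⟨(0 : Fin 1), h.symm⟩⟩
  have hw : orderOf w = 2 := by
    refine orderOf_eq_prime (by rw [pow_two]; exact C.Z.invol _) fun e => ?_
    obtain ⟨s, hs⟩ := C.Z.invSet_w_nonempty (0 : Fin 1)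
    obtain ⟨h1, h2⟩ := mem_inv.mp hs
    rw [show C.Z.w (0 : Fin 1) = 1 from e] at h2
    exact h2 h1
  have h1 : Nat.card C.Z.wperm.range = 2 := by rw [hr, Nat.card_zpowers, hw]
  have h2 : Nat.card (Multiplicative (ZMod 2)) = 2 := by simp [Nat.card_congr Multiplicative.toAdd]
  haveI : Fact (Nat.Prime 2) := ⟨Nat.prime_two⟩
  let ψ : C.Z.wperm.range ≃* Multiplicative (ZMod 2) := mulEquivOfPrimeCardEq h1 h2
  refine ⟨ψ.toMonoidHom.comp C.Z.wperm.rangeRestrict,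
    ψ.surjective.comp C.Z.wperm.rangeRestrict_surjective, ?_⟩
  rw [← C.Z.wperm_ker]
  exact (MonoidHom.ker_mulEquiv_comp _ ψ).trans C.Z.wperm.ker_rangeRestrict

theorem Y_form {g : GL chevG2.Idx K}
    (hg : g ∈ good_G2.US K {r | r ∈ {r | IsPos chevG2 r} ∧ 8 ≤ r}) :
    ∃ a b c d, g = C.Y a b c d := by
  induction hg using Subgroup.closure_induction with
  | mem u hu =>
    obtain ⟨r, ⟨hr1, hr2⟩, y, rfl⟩ := hu
    have h12 : r < 12 := hr1.1
    interval_cases r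
    · exact ⟨y, 0, 0, 0, by simp [Y, good_G2.full.x_zero]⟩
    · exact ⟨0, y, 0, 0, by simp [Y, good_G2.full.x_zero]⟩
    · exact ⟨0, 0, y, 0, by simp [Y, good_G2.full.x_zero]⟩
    · exact ⟨0, 0, 0, y, by simp [Y, good_G2.full.x_zero]⟩
  | one => exact ⟨0, 0, 0, 0, C.Y_zero.symm⟩
  | mul a b _ _ iha ihb =>
    obtain ⟨a1, a2, a3, a4, rfl⟩ := iha
    obtain ⟨b1, b2, b3, b4, rfl⟩ := ihb
    exact ⟨_, _, _, _, C.Y_mul ..⟩
  | inv a _ iha =>
    obtain ⟨a1, a2, a3, a4, rfl⟩ := iha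
    refine ⟨-a1, -a2, -a3, -a4, inv_eq_of_mul_eq_one_right ?_⟩
    rw [C.Y_mul, add_neg_cancel, add_neg_cancel, add_neg_cancel, add_neg_cancel, C.Y_zero]

theorem Y_mem_above (a b c d : K) :
    C.Y a b c d ∈ good_G2.US K {r | r ∈ {r | IsPos chevG2 r} ∧ 8 ≤ r} := by
  have h : ∀ r ∈ [8, 9, 10, 11], ∀ y : K,
      good_G2.full.x r y ∈ good_G2.US K {r | r ∈ {r | IsPos chevG2 r} ∧ 8 ≤ r} :=
    fun r hr y => good_G2.x_mem_US (by
      have : (r < 12 ∧ 12 ≤ 2 * r) ∧ 8 ≤ r := by revert r; decide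
      exact this) y
  exact mul_mem (mul_mem (mul_mem (h 8 (by simp) _) (h 9 (by simp) _)) (h 10 (by simp) _))
    (h 11 (by simp) _)

theorem P6_mul (a b c1 c2 d1 d2 a' b' c1' c2' d1' d2' : K) : ∃ e1 e2 e3 e4,
    C.P6 a b c1 c2 d1 d2 * C.P6 a' b' c1' c2' d1' d2' = C.P6 (a + a') (b + b') e1 e2 e3 e4 := by
  have hmv : ∀ r ∈ [6, 7], ∀ (y : K) (p q s w : K), ∃ p' q' s' w',
      C.Y p q s w * good_G2.full.x r y = good_G2.full.x r y * C.Y p' q' s' w' := by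
    intro r hr y p q s w
    have hpos : r ∈ {r | IsPos chevG2 r} := by
      have : r < 12 ∧ 12 ≤ 2 * r := by revert r; decide
      exact this
    obtain ⟨p', q', s', w', e⟩ := C.Y_form
      (good_G2.conj_US_above good_G2.closed_pos hpos (-y) (C.Y_mem_above p q s w))
    refine ⟨p', q', s', w', ?_⟩
    rw [← e, ← good_G2.full.x_inv]
    group
  obtain ⟨p, q, s, w, e1⟩ := hmv 7 (by simp) a' c1 c2 d1 d2
  obtain ⟨p', q', s', w', e2⟩ := hmv 6 (by simp) b' (a' * b + p) (a' ^ 2 * b + q)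
    (-(a' ^ 3 * b) + s) (-(a' ^ 3 * b ^ 2) + w)
  refine ⟨p' + c1', q' + c2', s' + d1', w' + d2', ?_⟩
  show good_G2.full.x 7 a * good_G2.full.x 6 b * C.Y c1 c2 d1 d2 *
    (good_G2.full.x 7 a' * good_G2.full.x 6 b' * C.Y c1' c2' d1' d2') =
    good_G2.full.x 7 (a + a') * good_G2.full.x 6 (b + b') * C.Y _ _ _ _
  calc good_G2.full.x 7 a * good_G2.full.x 6 b * C.Y c1 c2 d1 d2 *
        (good_G2.full.x 7 a' * good_G2.full.x 6 b' * C.Y c1' c2' d1' d2')
      = good_G2.full.x 7 a * good_G2.full.x 6 b * (C.Y c1 c2 d1 d2 * good_G2.full.x 7 a') *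
          good_G2.full.x 6 b' * C.Y c1' c2' d1' d2' := by group
    _ = good_G2.full.x 7 a * (good_G2.full.x 6 b * good_G2.full.x 7 a') * C.Y p q s w *
          good_G2.full.x 6 b' * C.Y c1' c2' d1' d2' := by rw [e1]; group
    _ = good_G2.full.x 7 a * good_G2.full.x 7 a' * good_G2.full.x 6 b *
          (C.Y (a' * b + p) (a' ^ 2 * b + q) (-(a' ^ 3 * b) + s) (-(a' ^ 3 * b ^ 2) + w) *
          good_G2.full.x 6 b') * C.Y c1' c2' d1' d2' := by
            rw [C.swap_pos, ← C.Y_mul]; group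
    _ = good_G2.full.x 7 (a + a') * good_G2.full.x 6 (b + b') *
          (C.Y p' q' s' w' * C.Y c1' c2' d1' d2') := by
            rw [e2, ← good_G2.full.x_add, ← good_G2.full.x_add]; group
    _ = _ := by rw [C.Y_mul]

theorem XJ_le_commutator (hm : 1 ≤ m) (J : Fin C.Z.nJ) : C.Z.XJ J ≤ ⁅C.Z.G1, C.Z.G1⁆ := by
  classical
  obtain ⟨l, hl⟩ := IsCyclic.exists_ofOrder_eq_natCard (α := Kˣ)
  rw [C.card_units] at hl
  set e := 3 ^ m with he
  have he3 : 3 ≤ e := Nat.le_self_pow (by omega) 3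
  have hq : 3 * e * e = 3 ^ (2 * m + 1) := by rw [he, two_mul, pow_succ, pow_add]; ring
  have hbig : 3 * e + 2 < 3 ^ (2 * m + 1) - 1 := by
    have : 3 * e + 4 < 3 * e * e := by nlinarith
    omega
  have hne : ∀ k, 0 < k → k ≤ 3 * e + 2 → l ^ k ≠ 1 := fun k h0 hk h => by
    have := Nat.le_of_dvd h0 (orderOf_dvd_of_pow_eq_one h)
    omega
  set t := l ^ (3 * e + 2)
  have hred : ∀ a b : ℕ, a + 3 = b + 3 * (3 * e * e) → l ^ a = l ^ b := by
    intro a b hab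
    have := congrArg (l ^ ·) hab
    have hle : l ^ (3 * e * e) = l := C.pow_q_units l
    simp only [pow_add, pow_mul' l 3 (3 * e * e), hle] at this
    exact mul_right_cancel this
  have hcart : G2Data.tab.cart 0 6 = -3 ∧ G2Data.tab.cart 1 6 = 2 ∧ G2Data.tab.cart 0 10 = 3 ∧
      G2Data.tab.cart 1 10 = -1 ∧ G2Data.tab.cart 0 11 = 0 ∧ G2Data.tab.cart 1 11 = 1 := by
    decide +kernel
  have h6 : ((t ^ e) ^ G2Data.tab.cart 0 6 * t ^ G2Data.tab.cart 1 6 : Kˣ) = l := by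
    rw [hcart.1, hcart.2.1, _root_.zpow_neg, inv_mul_eq_iff_eq_mul, show (3 : ℤ) = ((3 : ℕ) : ℤ) from rfl,
      show (2 : ℤ) = ((2 : ℕ) : ℤ) from rfl, zpow_natCast, zpow_natCast, ← pow_mul, ← pow_mul,
      ← pow_mul, ← pow_succ]
    exact (hred _ _ (by ring)).symm
  have h10 : ((t ^ e) ^ G2Data.tab.cart 0 10 * t ^ G2Data.tab.cart 1 10 : Kˣ) = l ^ (3 * e + 1) := by
    rw [hcart.2.2.1, hcart.2.2.2.1, _root_.zpow_neg, _root_.zpow_one, mul_inv_eq_iff_eq_mul,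
      show (3 : ℤ) = ((3 : ℕ) : ℤ) from rfl, zpow_natCast, ← pow_mul, ← pow_mul, ← pow_add]
    exact hred _ _ (by ring)
  have h11 : ((t ^ e) ^ G2Data.tab.cart 0 11 * t ^ G2Data.tab.cart 1 11 : Kˣ) = t := by
    rw [hcart.2.2.2.2.1, hcart.2.2.2.2.2, _root_.zpow_zero, _root_.zpow_one, one_mul]
  have ht : C.h t ∈ C.Z.G1 := C.h_mem t
  have hU : ∀ a b c, C.U a b c ∈ C.Z.G1 := C.U_mem
  -- the fixed conjugates
  have conjU : ∀ a b c : K, ∃ b' c', C.h t * C.U a b c * (C.h t)⁻¹ =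
      C.U ((l : K) * a) b' c' ∧
      b' = ((l ^ (3 * e + 1) : Kˣ) : K) * b ∧ c' = ((t : Kˣ) : K) * c := by
    intro a b c
    have hin : C.h t * C.U a b c * (C.h t)⁻¹ ∈ C.Φ.Fix :=
      mul_mem (mul_mem (C.gen_data.le_fix ht) (C.U_mem_fix ..)) (inv_mem (C.gen_data.le_fix ht))
    obtain ⟨χ, hχ, e'⟩ := C.conj_P6 t (a ^ e) a (a ^ (e + 1) + b ^ e) (a ^ (2 * e + 1) + c ^ e) b c
    change C.h t * C.U a b c * (C.h t)⁻¹ = _ at e'
    rw [e'] at hin
    obtain ⟨a', b', c', e''⟩ := C.fix_form hin (C.P6_mem _ _ _ _ _ _)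
    obtain ⟨-, e6, -, -, e10, e11⟩ := C.P6_inj e''
    rw [hχ, h6] at e6
    rw [hχ, h10] at e10
    rw [hχ, h11] at e11
    refine ⟨b', c', ?_, e10.symm, e11.symm⟩
    rw [e', e'', e6]
  have comm : ∀ a b c, C.h t * C.U a b c * (C.h t)⁻¹ * (C.U a b c)⁻¹ ∈ ⁅C.Z.G1, C.Z.G1⁆ :=
    fun a b c => Subgroup.commutator_mem_commutator ht (hU a b c)
  have tailU : ∀ b c, C.U 0 b c = C.Y (b ^ e) (c ^ e) b c := fun b c => by
    simp [U, P6, Y, good_G2.full.x_zero, show e ≠ 0 by omega, ← he]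
  have tails : ∀ b c, C.U 0 b c ∈ ⁅C.Z.G1, C.Z.G1⁆ := by
    intro b c
    have h1 : ((l ^ (3 * e + 1) : Kˣ) : K) - 1 ≠ 0 :=
      sub_ne_zero.mpr fun h => hne _ (by omega) (by omega) (Units.ext h)
    have h2 : ((t : Kˣ) : K) - 1 ≠ 0 :=
      sub_ne_zero.mpr fun h => hne _ (by omega) le_rfl (Units.ext h)
    set B := b / (((l ^ (3 * e + 1) : Kˣ) : K) - 1)
    set Cc := c / (((t : Kˣ) : K) - 1)
    obtain ⟨b', c', e1, eb, ec⟩ := conjU 0 B Cc
    rw [mul_zero] at e1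
    have hB : b + B = b' := by rw [eb]; simp only [B]; field_simp; ring
    have hC : c + Cc = c' := by rw [ec]; simp only [Cc]; field_simp; ring
    have e2 : C.U 0 b c * C.U 0 B Cc = C.U 0 b' c' := by
      rw [tailU, tailU, tailU, C.Y_mul, ← C.add_pow_e, ← C.add_pow_e, hB, hC]
    rw [show C.U 0 b c = C.h t * C.U 0 B Cc * (C.h t)⁻¹ * (C.U 0 B Cc)⁻¹ by
      rw [e1, ← e2, mul_inv_cancel_right]]
    exact comm _ _ _
  intro g hg
  obtain ⟨a, b, c, rfl⟩ := C.mem_XJ.mp hg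
  have hl1 : (l : K) - 1 ≠ 0 :=
    sub_ne_zero.mpr fun h => hne 1 one_pos (by omega) (by rw [pow_one]; exact Units.ext h)
  set s := a / ((l : K) - 1)
  obtain ⟨b', c', e1, -, -⟩ := conjU s 0 0
  have hs : a + s = (l : K) * s := by simp only [s]; field_simp; ring
  set P := C.h t * C.U s 0 0 * (C.h t)⁻¹
  set Q := C.U a b c * C.U s 0 0
  obtain ⟨q1, q2, q3, q4, hQ⟩ := C.P6_mul (a ^ e) a (a ^ (e + 1) + b ^ e) (a ^ (2 * e + 1) + c ^ e)
    b c (s ^ e) s (s ^ (e + 1) + (0 : K) ^ e) (s ^ (2 * e + 1) + (0 : K) ^ e) 0 0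
  have hw : Q⁻¹ * P ∈ ⁅C.Z.G1, C.Z.G1⁆ := by
    have hfix : Q⁻¹ * P ∈ C.Φ.Fix :=
      mul_mem (inv_mem (mul_mem (C.U_mem_fix ..) (C.U_mem_fix ..))) (by rw [e1]; exact C.U_mem_fix ..)
    have hY : ∃ p q r w, Q⁻¹ * P = C.Y p q r w := by
      refine C.Y_form ?_
      rw [show Q = C.P6 (a ^ e + s ^ e) (a + s) q1 q2 q3 q4 from hQ, e1, U, ← hs, C.add_pow_e]
      simp only [← he]
      show (good_G2.full.x 7 _ * good_G2.full.x 6 _ * C.Y q1 q2 q3 q4)⁻¹ *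
        (good_G2.full.x 7 _ * good_G2.full.x 6 _ * C.Y _ _ b' c') ∈ _
      rw [show ∀ x y A B : GL chevG2.Idx K, (x * y * A)⁻¹ * (x * y * B) = A⁻¹ * B from
        fun x y A B => by group]
      exact mul_mem (inv_mem (C.Y_mem_above _ _ _ _)) (C.Y_mem_above _ _ _ _)
    obtain ⟨p, q, r, w, ew⟩ := hY
    have hP6 : Q⁻¹ * P = C.P6 0 0 p q r w := by
      rw [ew]; simp [Y, P6, good_G2.full.x_zero]
    obtain ⟨t', u', v', e''⟩ := C.fix_form hfix (by rw [hP6]; exact C.P6_mem _ _ _ _ _ _)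
    have ht' : t' = 0 := ((C.P6_inj (hP6.symm.trans e'')).2.1).symm
    rw [e'', ht']
    exact tails u' v'
  rw [show C.U a b c = (P * (C.U s 0 0)⁻¹) * (C.U s 0 0 * (Q⁻¹ * P)⁻¹ * (C.U s 0 0)⁻¹) by
    simp only [Q]; group]
  refine mul_mem (comm s 0 0) ?_
  set w := (Q⁻¹ * P)⁻¹
  rw [show C.U s 0 0 * w * (C.U s 0 0)⁻¹ = C.U s 0 0 * w * (C.U s 0 0)⁻¹ * w⁻¹ * w by group]
  refine mul_mem (Subgroup.commutator_mem_commutator (hU s 0 0) ?_) (inv_mem hw)
  exact inv_mem (mul_mem (inv_mem (mul_mem (hU a b c) (hU s 0 0)))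
    (mul_mem (mul_mem ht (hU s 0 0)) (inv_mem ht)))

theorem commutator_top (hm : 1 ≤ m) : commutator C.Z.G1 = ⊤ :=
  C.Z.commutator_top (C.XJ_le_commutator hm) fun J =>
    C.gen_data.n_mem_commutator J (C.XJ_le_commutator hm J)

theorem isSimple (hm : 1 ≤ m) : IsSimpleGroup C.Z.G1 ∧ ¬ IsMulCommutative C.Z.G1 :=
  C.Z.isSimple_G1 C.xNontrivial C.faithful C.connected Nat.one_pos (C.commutator_top hm)

end Ctx

end CfsgLib.Chev.G2Tw
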