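import Cfsg.Agent.Chev.TwistedG2

/-!
Local structure of the small Ree groups: the torus, its action on the unipotent subgroup, elements
of order three, trivial intersection of Sylow 3-subgroups, three-point stabilisers.
-/

set_option autoImplicit false

namespace CfsgLib.Chev.G2Tw

open Cfsg.Lie Matrix Tab
open scoped MatrixGroups

theorem swap78 : G2Data.tab.commT 7 8 = [(9, -2, 1, 1), (10, -3, 2, 1), (11, 3, 1, 2)] := by
  decide +kernel

theorem swap610 : G2Data.tab.commT 6 10 = [(11, 1, 1, 1)] := by decide +kernel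

theorem chkMove : ∀ p ∈ [(9, 7), (10, 7), (11, 7), (8, 6), (9, 6), (11, 6)],
    G2Data.tab.chkCommute 3 p.1 p.2 = true := by
  decide +kernel

theorem cartPos : ([6, 7, 8, 9, 10, 11].map fun r => (G2Data.tab.cart 0 r, G2Data.tab.cart 1 r)) =
    [(-3, 2), (2, -1), (-1, 1), (1, 0), (3, -1), (0, 1)] := by
  decide +kernel

namespace Ctx

variable {K : Type*} [Field K] [Fintype K] {m : ℕ} (C : Ctx K m)
include C

theorem three_eq : (3 : K) = 0 := by
  have := C.charP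
  exact_mod_cast CharP.cast_eq_zero K 3

theorem Y_move7 (a p q r s : K) :
    C.Y p q r s * good_G2.full.x 7 a = good_G2.full.x 7 a * C.Y p (q - a * p) r s := by
  have hc : ∀ i ∈ [9, 10, 11], ∀ w, Commute (good_G2.full.x i w) (good_G2.full.x 7 a) :=
    fun i hi w => C.commute_of (chkMove (i, 7) (by revert i; decide)) w a
  have e := good_G2.full.x_comm (F := K) (r := 7) (s := 8) (by decide) (by decide) (by decide)
    (by decide) a p
  rw [good_G2.full.cert.commWord_eq (by decide) (by decide), swap78] at e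
  simp only [rhsWord, List.map_cons, List.map_nil, List.prod_cons, List.prod_nil, mul_one] at e
  push_cast at e
  rw [show ((-2 : K) * (-a) ^ 1 * p ^ 1) = -(a * p) by linear_combination (a * p) * C.three_eq,
    show ((-3 : K) * (-a) ^ 2 * p ^ 1) = 0 by linear_combination (-(a ^ 2 * p)) * C.three_eq,
    show ((3 : K) * (-a) ^ 1 * p ^ 2) = 0 by linear_combination (-(a * p ^ 2)) * C.three_eq,
    good_G2.full.x_zero, good_G2.full.x_zero, mul_one, mul_one] at e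
  have hY := C.Y_mul p 0 0 0 0 q r s
  simp only [Y, good_G2.full.x_zero, mul_one, one_mul, zero_add, add_zero] at hY
  have hmid : C.Y p (q - a * p) r s =
      good_G2.full.x 8 p * good_G2.full.x 9 (-(a * p)) *
        (good_G2.full.x 9 q * good_G2.full.x 10 r * good_G2.full.x 11 s) := by
    have := C.Y_mul p (-(a * p)) 0 0 0 q r s
    simp only [Y, good_G2.full.x_zero, mul_one, one_mul, zero_add, add_zero] at this ⊢
    rw [this, ← sub_eq_neg_add]
  rw [hmid, Y, show good_G2.full.x 8 p * good_G2.full.x 9 q * good_G2.full.x 10 r *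
    good_G2.full.x 11 s * good_G2.full.x 7 a = good_G2.full.x 8 p *
      (good_G2.full.x 9 q * good_G2.full.x 10 r * good_G2.full.x 11 s * good_G2.full.x 7 a) by group,
    ((((hc 9 (by simp) q).mul_left (hc 10 (by simp) r)).mul_left (hc 11 (by simp) s))).eq,
    ← mul_assoc, e]
  group

theorem Y_move6 (b p q r s : K) :
    C.Y p q r s * good_G2.full.x 6 b = good_G2.full.x 6 b * C.Y p q r (s - b * r) := by
  have hc : ∀ i ∈ [8, 9, 11], ∀ w, Commute (good_G2.full.x i w) (good_G2.full.x 6 b) :=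
    fun i hi w => C.commute_of (chkMove (i, 6) (by revert i; decide)) w b
  have e := good_G2.full.x_comm (F := K) (r := 6) (s := 10) (by decide) (by decide) (by decide)
    (by decide) b r
  rw [good_G2.full.cert.commWord_eq (by decide) (by decide), swap610] at e
  simp only [rhsWord, List.map_cons, List.map_nil, List.prod_cons, List.prod_nil, mul_one] at e
  push_cast at e
  rw [show ((1 : K) * (-b) ^ 1 * r ^ 1) = -(b * r) by ring] at e
  have hY : C.Y p q r (s - b * r) = C.Y p q r 0 * good_G2.full.x 11 (-(b * r)) *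
      good_G2.full.x 11 s := by
    rw [mul_assoc, good_G2.full.x_add, ← sub_eq_neg_add]
    simp only [Y, good_G2.full.x_zero, mul_one]
  rw [hY, Y, Y, good_G2.full.x_zero, mul_one]
  have e8 := (hc 8 (by simp) p).eq
  have e9 := (hc 9 (by simp) q).eq
  have e11 := (hc 11 (by simp) s).eq
  calc good_G2.full.x 8 p * good_G2.full.x 9 q * good_G2.full.x 10 r * good_G2.full.x 11 s *
        good_G2.full.x 6 b
      = good_G2.full.x 8 p * good_G2.full.x 9 q * (good_G2.full.x 10 r *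
          (good_G2.full.x 11 s * good_G2.full.x 6 b)) := by group
    _ = good_G2.full.x 8 p * good_G2.full.x 9 q * ((good_G2.full.x 10 r * good_G2.full.x 6 b) *
          good_G2.full.x 11 s) := by rw [e11]; group
    _ = (good_G2.full.x 8 p * (good_G2.full.x 9 q * good_G2.full.x 6 b)) * good_G2.full.x 10 r *
          good_G2.full.x 11 (-(b * r)) * good_G2.full.x 11 s := by rw [e]; group
    _ = ((good_G2.full.x 8 p * good_G2.full.x 6 b) * good_G2.full.x 9 q) * good_G2.full.x 10 r *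
          good_G2.full.x 11 (-(b * r)) * good_G2.full.x 11 s := by rw [e9]; group
    _ = _ := by rw [e8]; group

/-- The group law in the coordinates. -/
theorem P6_law (a b p q r s a' b' p' q' r' s' : K) :
    C.P6 a b p q r s * C.P6 a' b' p' q' r' s' =
      C.P6 (a + a') (b + b') (a' * b + p + p') (a' ^ 2 * b + (q - a' * p) + q')
        (-(a' ^ 3 * b) + r + r')
        (-(a' ^ 3 * b ^ 2) + s - b' * (-(a' ^ 3 * b) + r) + s') := by
  show good_G2.full.x 7 a * good_G2.full.x 6 b * C.Y p q r s *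
    (good_G2.full.x 7 a' * good_G2.full.x 6 b' * C.Y p' q' r' s') =
    good_G2.full.x 7 (a + a') * good_G2.full.x 6 (b + b') * C.Y _ _ _ _
  calc good_G2.full.x 7 a * good_G2.full.x 6 b * C.Y p q r s *
        (good_G2.full.x 7 a' * good_G2.full.x 6 b' * C.Y p' q' r' s')
      = good_G2.full.x 7 a * good_G2.full.x 6 b * (C.Y p q r s * good_G2.full.x 7 a') *
          good_G2.full.x 6 b' * C.Y p' q' r' s' := by group
    _ = good_G2.full.x 7 a * (good_G2.full.x 6 b * good_G2.full.x 7 a') *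
          C.Y p (q - a' * p) r s * good_G2.full.x 6 b' * C.Y p' q' r' s' := by
            rw [C.Y_move7]; group
    _ = good_G2.full.x 7 a * good_G2.full.x 7 a' * good_G2.full.x 6 b *
          (C.Y (a' * b + p) (a' ^ 2 * b + (q - a' * p)) (-(a' ^ 3 * b) + r)
            (-(a' ^ 3 * b ^ 2) + s) * good_G2.full.x 6 b') * C.Y p' q' r' s' := by
            rw [C.swap_pos, ← C.Y_mul]; group
    _ = good_G2.full.x 7 (a + a') * good_G2.full.x 6 (b + b') *
          (C.Y (a' * b + p) (a' ^ 2 * b + (q - a' * p)) (-(a' ^ 3 * b) + r)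
            (-(a' ^ 3 * b ^ 2) + s - b' * (-(a' ^ 3 * b) + r)) * C.Y p' q' r' s') := by
            rw [C.Y_move6, ← good_G2.full.x_add, ← good_G2.full.x_add]; group
    _ = _ := by rw [C.Y_mul]

theorem P6_zero : C.P6 0 0 0 0 0 0 = 1 := by
  simp [P6, good_G2.full.x_zero]

theorem cube_eq_one_iff (t u v : K) : C.U t u v ^ 3 = 1 ↔ t = 0 := by
  rw [pow_succ, pow_two, U, C.P6_law, C.P6_law]
  constructor
  · intro h
    obtain ⟨-, -, -, h4, -, -⟩ := C.P6_inj (h.trans C.P6_zero.symm)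
    have h' : (t ^ 3 ^ m) ^ 2 * t = 0 := by
      linear_combination -h4 + ((t ^ (2 * 3 ^ m + 1) + v ^ 3 ^ m) -
        t ^ 3 ^ m * (t ^ (3 ^ m + 1) + u ^ 3 ^ m) + (t ^ 3 ^ m) ^ 2 * t) * C.three_eq
    by_contra ht
    exact mul_ne_zero (pow_ne_zero _ (pow_ne_zero _ ht)) ht h'
  · rintro rfl
    rw [zero_pow C.he0, zero_pow (Nat.succ_ne_zero _), zero_pow (Nat.succ_ne_zero _)]
    rw [← C.P6_zero]
    congr 1 <;> ring_nf <;> simp [C.three_eq]

theorem conj_U (s : Kˣ) (t u v : K) : ∃ s₁ s₂ : Kˣ,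
    s₁ = (s ^ 3 ^ m) ^ (-3 : ℤ) * s ^ (2 : ℤ) ∧ s₂ = (s ^ 3 ^ m) ^ (3 : ℤ) * s ^ (-1 : ℤ) ∧
    C.h s * C.U t u v * (C.h s)⁻¹ = C.U ((s₁ : K) * t) ((s₂ : K) * u) ((s : K) * v) := by
  refine ⟨_, _, rfl, rfl, ?_⟩
  have hc := cartPos
  simp only [List.map_cons, List.map_nil, List.cons.injEq, Prod.mk.injEq, and_true] at hc
  obtain ⟨⟨a6, b6⟩, -, -, -, ⟨a10, b10⟩, ⟨a11, b11⟩⟩ := hc
  simp only [U]
  obtain ⟨χ, hχ, e⟩ := C.conj_P6 s (t ^ 3 ^ m) t (t ^ (3 ^ m + 1) + u ^ 3 ^ m)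
    (t ^ (2 * 3 ^ m + 1) + v ^ 3 ^ m) u v
  rw [e]
  have hh : C.h s ∈ C.Φ.Fix := C.grp_le_fix (C.h_mem s)
  have hmem : C.P6 (χ 7 * t ^ 3 ^ m) (χ 6 * t) (χ 8 * (t ^ (3 ^ m + 1) + u ^ 3 ^ m))
      (χ 9 * (t ^ (2 * 3 ^ m + 1) + v ^ 3 ^ m)) (χ 10 * u) (χ 11 * v) ∈
      C.Φ.Fix ⊓ good_G2.US K {r | IsPos chevG2 r} := by
    refine Subgroup.mem_inf.mpr ⟨?_, C.P6_mem _ _ _ _ _ _⟩
    rw [← e]
    exact C.Z.fix_conj hh (C.U_mem_fix t u v)
  obtain ⟨t', u', v', e'⟩ := C.fix_inf_pos.mp hmem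
  obtain ⟨-, h2, -, -, h5, h6⟩ := C.P6_inj e'
  rw [hχ, a6, b6] at h2
  rw [hχ, a10, b10] at h5
  rw [hχ, a11, b11, _root_.zpow_zero, _root_.zpow_one, one_mul] at h6
  subst h2 h5 h6
  exact e'

/-- A torus element centralising a non-identity unipotent element is an involution or trivial. -/
theorem sq_eq_one_of_commute {s : Kˣ} {t u v : K} (hne : ¬(t = 0 ∧ u = 0 ∧ v = 0))
    (h : C.h s * C.U t u v * (C.h s)⁻¹ = C.U t u v) : s ^ 2 = 1 := by
  obtain ⟨s₁, s₂, h1, h2, e⟩ := C.conj_U s t u v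
  obtain ⟨e1, e2, e3⟩ := C.U_inj (e.symm.trans h)
  set S := s ^ 3 ^ m with hSdef
  have hq : S ^ (3 * 3 ^ m) = s := by
    rw [hSdef, ← pow_mul, mul_comm (3 ^ m) (3 * 3 ^ m)]
    exact C.pow_q_units s
  by_cases hv : v = 0
  · by_cases ht : t = 0
    · have hu : u ≠ 0 := fun hu => hne ⟨ht, hu, hv⟩
      have h2' : s₂ = 1 := Units.ext (mul_right_cancel₀ hu (by rw [e2, Units.val_one, one_mul]))
      rw [h2, _root_.zpow_neg, _root_.zpow_one, mul_inv_eq_one] at h2'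
      -- `S ^ 3 = s`
      have h3 : s ^ 3 ^ m = s := by
        have : (S ^ (3 : ℤ)) ^ 3 ^ m = s := by
          rw [zpow_ofNat, ← pow_mul]; exact hq
        rwa [h2'] at this
      have h4 : s ^ (3 : ℤ) = s := by
        have hSs : S = s := h3
        rw [hSs] at h2'; exact h2'
      rw [zpow_ofNat] at h4
      calc s ^ 2 = s ^ 3 * s⁻¹ := by group
        _ = 1 := by rw [h4, mul_inv_cancel]
    · have h1' : s₁ = 1 := Units.ext (mul_right_cancel₀ ht (by rw [e1, Units.val_one, one_mul]))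
      rw [h1, _root_.zpow_neg, inv_mul_eq_one] at h1'
      -- `S ^ 3 = s ^ 2`
      have h1n : S ^ 3 = s ^ 2 := by simpa [zpow_ofNat] using h1'
      have h3 : (s ^ 2) ^ 3 ^ m = s := by rw [← h1n, ← pow_mul]; exact hq
      have h4 : S ^ 2 = s := by rw [hSdef, ← pow_mul, mul_comm, pow_mul]; exact h3
      have h5 : S = 1 := by
        have : S ^ 3 = S ^ 4 := by rw [h1n, ← h4, ← pow_mul]
        calc S = S ^ 4 * (S ^ 3)⁻¹ := by group
          _ = 1 := by rw [← this, mul_inv_cancel]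
      rw [← h4, h5, one_pow, one_pow]
  · have : s = 1 := Units.ext (mul_right_cancel₀ hv (by rw [e3, Units.val_one, one_mul]))
    rw [this, one_pow]

theorem h_neg_one_fix (u : K) : C.h (-1) * C.U 0 u 0 * (C.h (-1))⁻¹ = C.U 0 u 0 := by
  obtain ⟨s₁, s₂, -, h2, e⟩ := C.conj_U (-1) 0 u 0
  rw [e, mul_zero, mul_zero]
  have : s₂ = 1 := by
    rw [h2, (e_odd (m := m)).neg_one_pow]
    simp [pow_succ]
  rw [this, Units.val_one, one_mul]

theorem neg_one_ne_one : (-1 : Kˣ) ≠ 1 := by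
  intro h
  have h' : (-1 : K) = 1 := by simpa using congrArg Units.val h
  have h2 : (2 : K) = 0 := by linear_combination -h'
  exact one_ne_zero (show (1 : K) = 0 by linear_combination C.three_eq - h2)

theorem inf_pos_eq : chevG2.posUnipotent K ⊓ twistedG2 K (3 ^ m) = C.Z.U1 := by
  rw [inf_comm]; exact C.Z.inf_pos

theorem inf_diag_eq : chevG2.diagonalSubgroup K ⊓ twistedG2 K (3 ^ m) = C.Z.H0 := by
  rw [inf_comm]; exact C.Z.inf_diagonal

theorem mem_H0 {g : GL chevG2.Idx K} : g ∈ C.Z.H0 ↔ ∃ s, g = C.h s := by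
  rw [C.H0_eq]
  exact ⟨fun ⟨s, hs⟩ => ⟨s, hs.symm⟩, fun ⟨s, hs⟩ => ⟨s, hs.symm⟩⟩

/-- The only orbit. -/
noncomputable def J0 : Fin C.Z.nJ := (0 : Fin 1)

theorem eq_J0 (J : Fin C.Z.nJ) : J = C.J0 := Subsingleton.elim (α := Fin 1) J C.J0

/-- The representative of the non-trivial element of the Weyl group. -/
noncomputable def n0 : GL chevG2.Idx K := C.Z.n C.J0

theorem n0_mem : C.n0 ∈ C.Z.G1 := C.Z.n_mem _

theorem U1_eq_X : C.Z.U1 = C.Z.XJ C.J0 := by
  ext g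
  rw [C.U1_form]
  exact C.mem_XJ.symm

/-- A conjugate of a non-trivial element of `U¹` by `n` is not in the Borel subgroup. -/
theorem conj_n_borel {u : GL chevG2.Idx K} (hu : u ∈ C.Z.U1)
    (h : C.n0 * u * C.n0⁻¹ ∈ chevG2.borelSubgroup K) : u = 1 := by
  obtain ⟨b, hb, c, hc⟩ := good_G2.mem_borel.mp h
  rw [C.U1_eq_X] at hu
  have h1 := good_G2.eq_one_of_borel_neg hb (good_G2.conj_flip_mem_neg (C.Z.n_act _) hu.2) hc.symm
  exact conj_eq_one_iff.mp h1

theorem bruhat_cases {g : GL chevG2.Idx K} (hg : g ∈ C.Z.G1) :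
    g ∈ chevG2.borelSubgroup K ∨
      ∃ u ∈ C.Z.U1, ∃ h ∈ C.Z.H0, ∃ v ∈ C.Z.U1, g = u * h * C.n0 * v := by
  obtain ⟨u, hu, h, hh, L, v, hv, rfl⟩ := C.Z.bruhat hg
  have key : ∀ L : List (Fin C.Z.nJ), C.Z.pwT L = C.Z.pwT [] ∨ C.Z.pwT L = C.Z.pwT [C.J0] := by
    intro L
    induction L with
    | nil => exact Or.inl rfl
    | cons J L ih =>
      rw [C.eq_J0 J, C.Z.pwT_cons]
      rcases ih with e | e <;> rw [e]
      · right; rw [C.Z.pwT_cons]
      · left
        rw [C.Z.pwT_single, C.Z.pwT_nil]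
        exact Equiv.ext fun s => by rw [Equiv.Perm.mul_apply, C.Z.w_sq, Equiv.Perm.one_apply]
  rcases key L with e | e
  · obtain ⟨k, hk, ek⟩ := C.Z.nT_congr e
    left
    rw [ek, show C.Z.nT [] = 1 from rfl, mul_one]
    exact mul_mem (mul_mem (mul_mem (C.Z.U1_le_borel hu) (C.Z.H0_le_borel hh))
      (C.Z.H0_le_borel hk)) (C.Z.U1_le_borel hv)
  · obtain ⟨k, hk, ek⟩ := C.Z.nT_congr e
    right
    refine ⟨u, hu, h * k, mul_mem hh hk, v, hv, ?_⟩
    rw [ek, C.Z.nT_cons, show C.Z.nT ([] : List (Fin C.Z.nJ)) = 1 from rfl, mul_one, n0]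
    group

theorem H0_norm {h u : GL chevG2.Idx K} (hh : h ∈ C.Z.H0) (hu : u ∈ C.Z.U1) :
    h * u * h⁻¹ ∈ C.Z.U1 := C.Z.H0_conj_U1 hh hu

theorem normal_of_not_ti {g x : GL chevG2.Idx K} (hg : g ∈ C.Z.G1) (hx : x ∈ C.Z.U1) (hx1 : x ≠ 1)
    (hgx : g * x * g⁻¹ ∈ C.Z.U1) : g ∈ chevG2.borelSubgroup K := by
  rcases C.bruhat_cases hg with h | ⟨u, hu, h, hh, v, hv, rfl⟩
  · exact h
  exfalso
  have hb : C.n0 * (v * x * v⁻¹) * C.n0⁻¹ ∈ chevG2.borelSubgroup K := by
    have e : C.n0 * (v * x * v⁻¹) * C.n0⁻¹ =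
        (u * h)⁻¹ * (u * h * C.n0 * v * x * (u * h * C.n0 * v)⁻¹) * (u * h) := by group
    rw [e]
    have hb := mul_mem (C.Z.U1_le_borel hu) (C.Z.H0_le_borel hh)
    exact mul_mem (mul_mem (inv_mem hb) (C.Z.U1_le_borel hgx)) hb
  exact hx1 (conj_eq_one_iff.mp (C.conj_n_borel (mul_mem (mul_mem hv hx) (inv_mem hv)) hb))

theorem conj_U1 {g x : GL chevG2.Idx K} (hg : g ∈ C.Z.G1) (hB : g ∈ chevG2.borelSubgroup K)
    (hx : x ∈ C.Z.U1) : g * x * g⁻¹ ∈ C.Z.U1 := by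
  obtain ⟨u, hu, h, hh, rfl⟩ := C.Z.mem_B1 hg hB
  rw [show u * h * x * (u * h)⁻¹ = u * (h * x * h⁻¹) * u⁻¹ by group]
  exact mul_mem (mul_mem hu (C.H0_norm hh hx)) (inv_mem hu)

theorem borel_inter {g : GL chevG2.Idx K} (hg : g ∈ C.Z.G1) (hB : g ∈ chevG2.borelSubgroup K)
    (hnB : C.n0⁻¹ * g * C.n0 ∈ chevG2.borelSubgroup K) : g ∈ C.Z.H0 := by
  obtain ⟨u, hu, h, hh, rfl⟩ := C.Z.mem_B1 hg hB
  obtain ⟨k, hk, ek⟩ := C.Z.n_inv C.J0
  have hk' : C.n0⁻¹ = k * C.n0 := ek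
  have h2 : C.n0 * u * C.n0⁻¹ ∈ chevG2.borelSubgroup K := by
    have e : C.n0 * u * C.n0⁻¹ =
        k⁻¹ * (C.n0⁻¹ * (u * h) * C.n0) * k * (C.n0 * h * C.n0⁻¹)⁻¹ := by
      have e2 : C.n0⁻¹ * (u * h) * C.n0 = k * (C.n0 * (u * h) * C.n0⁻¹) * k⁻¹ := by
        have e3 : C.n0 = C.n0⁻¹ * k⁻¹ := by
          have := congrArg Inv.inv hk'
          rwa [inv_inv, _root_.mul_inv_rev] at this
        calc C.n0⁻¹ * (u * h) * C.n0 = k * C.n0 * (u * h) * (C.n0⁻¹ * k⁻¹) := by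
              rw [← e3, ← hk']
          _ = _ := by group
      rw [e2]; group
    rw [e]
    exact mul_mem (mul_mem (mul_mem (inv_mem (C.Z.H0_le_borel hk)) hnB) (C.Z.H0_le_borel hk))
      (inv_mem (C.Z.H0_le_borel (C.Z.n_conj _ h hh)))
  rw [C.conj_n_borel hu h2, one_mul]
  exact hh

end Ctx

end CfsgLib.Chev.G2Tw
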