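import Cfsg.Agent.Chev.TwistedG2Local

/-!
The small Ree group on the cosets of its Borel subgroup; its Sylow 3-subgroups.
-/

set_option autoImplicit false

namespace CfsgLib.Chev.G2Tw

open Cfsg.Lie Tab MulAction
open scoped MatrixGroups

namespace Ctx

variable {K : Type*} [Field K] [Fintype K] {m : ℕ} (C : Ctx K m)
include C


omit [Fintype K] C in
theorem mem_BG {g : ↥(twistedG2 K (3 ^ m))} :
    g ∈ ((chevG2.borelSubgroup K ⊓ twistedG2 K (3 ^ m)).subgroupOf (twistedG2 K (3 ^ m))) ↔ (g : GL chevG2.Idx K) ∈ chevG2.borelSubgroup K :=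
  ⟨fun h => (Subgroup.mem_inf.mp h).1, fun h => Subgroup.mem_inf.mpr ⟨h, g.2⟩⟩

omit [Fintype K] C in
theorem smul_mk_iff {g x : ↥(twistedG2 K (3 ^ m))} :
    g • ((x : ↥(twistedG2 K (3 ^ m)) ⧸ ((chevG2.borelSubgroup K ⊓ twistedG2 K (3 ^ m)).subgroupOf (twistedG2 K (3 ^ m))))) = (x : ↥(twistedG2 K (3 ^ m)) ⧸ ((chevG2.borelSubgroup K ⊓ twistedG2 K (3 ^ m)).subgroupOf (twistedG2 K (3 ^ m)))) ↔
      ((x : GL chevG2.Idx K)⁻¹ * g * x) ∈ chevG2.borelSubgroup K := by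
  rw [MulAction.Quotient.smul_coe, smul_eq_mul, eq_comm, QuotientGroup.eq, mem_BG]
  simp [mul_assoc]

/-- Every point other than the base point is `u n B` for some unipotent `u`. -/
theorem exists_rep {w : GL chevG2.Idx K} (hw : w ∈ twistedG2 K (3 ^ m))
    (hwB : w ∉ chevG2.borelSubgroup K) :
    ∃ u ∈ C.Z.U1, (u * C.n0)⁻¹ * w ∈ chevG2.borelSubgroup K := by
  rcases C.bruhat_cases hw with h | ⟨u, hu, h, hh, v, hv, rfl⟩
  · exact absurd h hwB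
  obtain ⟨k, hk, ek⟩ := C.Z.n_inv C.J0
  refine ⟨u, hu, ?_⟩
  have e : (u * C.n0)⁻¹ * (u * h * C.n0 * v) = C.n0⁻¹ * h * C.n0 * v := by group
  have ek' : C.n0⁻¹ = k * C.n0 := ek
  have e3 : C.n0 = C.n0⁻¹ * k⁻¹ := by
    have := congrArg Inv.inv ek'
    rwa [inv_inv, _root_.mul_inv_rev] at this
  have e2 : C.n0⁻¹ * h * C.n0 = k * (C.n0 * h * C.n0⁻¹) * k⁻¹ := by
    calc C.n0⁻¹ * h * C.n0 = k * C.n0 * h * (C.n0⁻¹ * k⁻¹) := by rw [← e3, ← ek']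
      _ = _ := by group
  rw [e, e2]
  exact mul_mem (mul_mem (mul_mem (C.Z.H0_le_borel hk) (C.Z.H0_le_borel (C.Z.n_conj _ h hh)))
    (inv_mem (C.Z.H0_le_borel hk))) (C.Z.U1_le_borel hv)

/-- An element fixing `B`, `nB` and `unB`. -/
theorem fixer {f u : GL chevG2.Idx K} (hf : f ∈ twistedG2 K (3 ^ m))
    (hfB : f ∈ chevG2.borelSubgroup K) (hfn : C.n0⁻¹ * f * C.n0 ∈ chevG2.borelSubgroup K)
    (hu : u ∈ C.Z.U1) (hu1 : u ≠ 1)
    (hfu : (u * C.n0)⁻¹ * f * (u * C.n0) ∈ chevG2.borelSubgroup K) :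
    f = 1 ∨ f = C.h (-1) := by
  have hH := C.borel_inter hf hfB hfn
  have hH' : u⁻¹ * f * u ∈ C.Z.H0 := by
    refine C.borel_inter (mul_mem (mul_mem (inv_mem (C.Z.U1_le hu)) hf) (C.Z.U1_le hu)) ?_ ?_
    · exact mul_mem (mul_mem (inv_mem (C.Z.U1_le_borel hu)) hfB) (C.Z.U1_le_borel hu)
    · rw [show C.n0⁻¹ * (u⁻¹ * f * u) * C.n0 = (u * C.n0)⁻¹ * f * (u * C.n0) by group]
      exact hfu
  have hmem : f⁻¹ * (u⁻¹ * f * u) ∈ chevG2.posUnipotent K ⊓ chevG2.diagonalSubgroup K := by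
    refine Subgroup.mem_inf.mpr ⟨?_, C.Z.H0_diag (mul_mem (inv_mem hH) hH')⟩
    rw [show f⁻¹ * (u⁻¹ * f * u) = (f⁻¹ * u⁻¹ * f⁻¹⁻¹) * u by group]
    exact mul_mem (C.Z.H0_conj_U1 (inv_mem hH) (inv_mem hu)).2 hu.2
  rw [good_G2.pos_inf_diagonal, Subgroup.mem_bot] at hmem
  obtain ⟨s, rfl⟩ := C.mem_H0.mp hH
  obtain ⟨t, p, q, rfl⟩ := C.U1_form.mp hu
  have hne : ¬(t = 0 ∧ p = 0 ∧ q = 0) := fun ⟨h1, h2, h3⟩ => hu1 (by rw [h1, h2, h3, C.U_one])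
  have hs := C.sq_eq_one_of_commute (s := s) hne (by
    calc C.h s * C.U t p q * (C.h s)⁻¹
        = C.U t p q * (C.h s * ((C.h s)⁻¹ * ((C.U t p q)⁻¹ * C.h s * C.U t p q)) * (C.h s)⁻¹) := by
          group
      _ = _ := by rw [hmem]; group)
  have hs' : ((s : K) - 1) * ((s : K) + 1) = 0 := by
    have h2 : (s : K) ^ 2 = 1 := by rw [← Units.val_pow_eq_pow_val, hs, Units.val_one]
    linear_combination h2
  rcases mul_eq_zero.mp hs' with h | h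
  · left; rw [show s = 1 from Units.ext (by rw [Units.val_one]; linear_combination h), map_one]
  · right; rw [show s = -1 from Units.ext (by
      rw [Units.val_neg, Units.val_one]; linear_combination h)]

theorem three_points
    (x y z : ↥(twistedG2 K (3 ^ m)) ⧸ ((chevG2.borelSubgroup K ⊓ twistedG2 K (3 ^ m)).subgroupOf (twistedG2 K (3 ^ m)))) (hxy : x ≠ y) (hxz : x ≠ z) (hyz : y ≠ z) :
    Nat.card ↥(stabilizer ↥(twistedG2 K (3 ^ m)) x ⊓ stabilizer ↥(twistedG2 K (3 ^ m)) y ⊓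
      stabilizer ↥(twistedG2 K (3 ^ m)) z) ≤ 2 := by
  obtain ⟨x0, rfl⟩ := QuotientGroup.mk_surjective x
  obtain ⟨y0, rfl⟩ := QuotientGroup.mk_surjective y
  obtain ⟨z0, rfl⟩ := QuotientGroup.mk_surjective z
  rw [ne_eq, QuotientGroup.eq, mem_BG, Subgroup.coe_mul, Subgroup.coe_inv] at hxy hxz hyz
  obtain ⟨u, hu, huy⟩ := C.exists_rep (mul_mem (inv_mem x0.2) y0.2) hxy
  have hzw : u⁻¹ * ((x0 : GL chevG2.Idx K)⁻¹ * z0) ∉ chevG2.borelSubgroup K := fun h => hxz (by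
    have := mul_mem (C.Z.U1_le_borel hu) h
    rwa [mul_inv_cancel_left] at this)
  obtain ⟨u', hu', huz⟩ := C.exists_rep
    (mul_mem (inv_mem (C.Z.U1_le hu)) (mul_mem (inv_mem x0.2) z0.2)) hzw
  have hu'1 : u' ≠ 1 := by
    rintro rfl
    apply hyz
    rw [one_mul] at huz
    have := mul_mem (inv_mem huy) huz
    convert this using 1
    group
  set a : GL chevG2.Idx K := (x0 : GL chevG2.Idx K) * u with ha
  set S := stabilizer ↥(twistedG2 K (3 ^ m)) (x0 : ↥(twistedG2 K (3 ^ m)) ⧸ ((chevG2.borelSubgroup K ⊓ twistedG2 K (3 ^ m)).subgroupOf (twistedG2 K (3 ^ m)))) ⊓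
    stabilizer ↥(twistedG2 K (3 ^ m)) (y0 : ↥(twistedG2 K (3 ^ m)) ⧸ ((chevG2.borelSubgroup K ⊓ twistedG2 K (3 ^ m)).subgroupOf (twistedG2 K (3 ^ m)))) ⊓
    stabilizer ↥(twistedG2 K (3 ^ m)) (z0 : ↥(twistedG2 K (3 ^ m)) ⧸ ((chevG2.borelSubgroup K ⊓ twistedG2 K (3 ^ m)).subgroupOf (twistedG2 K (3 ^ m))))
  have hsub : (fun g : ↥(twistedG2 K (3 ^ m)) => a⁻¹ * g * a) '' (S : Set _) ⊆
      ({1, C.h (-1)} : Set (GL chevG2.Idx K)) := by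
    rintro _ ⟨g, ⟨⟨hgx, hgy⟩, hgz⟩, rfl⟩
    have h1 := smul_mk_iff.mp hgx
    have h2 := smul_mk_iff.mp hgy
    have h3 := smul_mk_iff.mp hgz
    have hmem : a⁻¹ * g * a ∈ twistedG2 K (3 ^ m) :=
      mul_mem (mul_mem (inv_mem (mul_mem x0.2 (C.Z.U1_le hu))) g.2) (mul_mem x0.2 (C.Z.U1_le hu))
    have k1 : a⁻¹ * g * a ∈ chevG2.borelSubgroup K := by
      rw [show a⁻¹ * g * a = u⁻¹ * ((x0 : GL chevG2.Idx K)⁻¹ * g * x0) * u by rw [ha]; group]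
      exact mul_mem (mul_mem (inv_mem (C.Z.U1_le_borel hu)) h1) (C.Z.U1_le_borel hu)
    have k2 : C.n0⁻¹ * (a⁻¹ * g * a) * C.n0 ∈ chevG2.borelSubgroup K := by
      have e : C.n0⁻¹ * (a⁻¹ * g * a) * C.n0 = ((u * C.n0)⁻¹ * ((x0 : GL chevG2.Idx K)⁻¹ * y0)) *
          ((y0 : GL chevG2.Idx K)⁻¹ * g * y0) *
          ((u * C.n0)⁻¹ * ((x0 : GL chevG2.Idx K)⁻¹ * y0))⁻¹ := by rw [ha]; group
      rw [e]
      exact mul_mem (mul_mem huy h2) (inv_mem huy)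
    have k3 : (u' * C.n0)⁻¹ * (a⁻¹ * g * a) * (u' * C.n0) ∈ chevG2.borelSubgroup K := by
      have e : (u' * C.n0)⁻¹ * (a⁻¹ * g * a) * (u' * C.n0) =
          ((u' * C.n0)⁻¹ * (u⁻¹ * ((x0 : GL chevG2.Idx K)⁻¹ * z0))) *
          ((z0 : GL chevG2.Idx K)⁻¹ * g * z0) *
          ((u' * C.n0)⁻¹ * (u⁻¹ * ((x0 : GL chevG2.Idx K)⁻¹ * z0)))⁻¹ := by rw [ha]; group
      rw [e]
      exact mul_mem (mul_mem huz h3) (inv_mem huz)
    exact C.fixer hmem k1 k2 hu' hu'1 k3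
  have hinj : Function.Injective fun g : ↥(twistedG2 K (3 ^ m)) => a⁻¹ * g * a := fun g g' h =>
    Subtype.ext (mul_left_cancel (mul_right_cancel h))
  calc Nat.card S = (S : Set ↥(twistedG2 K (3 ^ m))).ncard := rfl
    _ = _ := (Set.ncard_image_of_injective _ hinj).symm
    _ ≤ ({1, C.h (-1)} : Set (GL chevG2.Idx K)).ncard := Set.ncard_le_ncard hsub (Set.toFinite _)
    _ ≤ 2 := (Set.ncard_insert_le _ _).trans (by rw [Set.ncard_singleton])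

theorem exists_three_points :
    ∃ x y z : ↥(twistedG2 K (3 ^ m)) ⧸ ((chevG2.borelSubgroup K ⊓ twistedG2 K (3 ^ m)).subgroupOf (twistedG2 K (3 ^ m))), x ≠ y ∧ x ≠ z ∧ y ≠ z ∧
      Nat.card ↥(stabilizer ↥(twistedG2 K (3 ^ m)) x ⊓ stabilizer ↥(twistedG2 K (3 ^ m)) y ⊓
        stabilizer ↥(twistedG2 K (3 ^ m)) z) = 2 := by
  set u := C.U 0 1 0
  have hu : u ∈ C.Z.U1 := C.U1_form.mpr ⟨_, _, _, rfl⟩
  have hu1 : u ≠ 1 := fun h => one_ne_zero (C.U_inj (h.trans C.U_one.symm)).2.1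
  let N : ↥(twistedG2 K (3 ^ m)) := ⟨C.n0, C.n0_mem⟩
  let Un : ↥(twistedG2 K (3 ^ m)) := ⟨u * C.n0, mul_mem (C.Z.U1_le hu) C.n0_mem⟩
  have hn : C.n0 ∉ chevG2.borelSubgroup K := by
    intro h
    have h' : C.n0 * u * C.n0⁻¹ ∈ chevG2.borelSubgroup K :=
      mul_mem (mul_mem h (C.Z.U1_le_borel hu)) (inv_mem h)
    exact hu1 (C.conj_n_borel hu h')
  have hxy : ((1 : ↥(twistedG2 K (3 ^ m))) : ↥(twistedG2 K (3 ^ m)) ⧸ ((chevG2.borelSubgroup K ⊓ twistedG2 K (3 ^ m)).subgroupOf (twistedG2 K (3 ^ m)))) ≠ N := by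
    rw [ne_eq, QuotientGroup.eq, mem_BG]; simpa [N] using hn
  have hxz : ((1 : ↥(twistedG2 K (3 ^ m))) : ↥(twistedG2 K (3 ^ m)) ⧸ ((chevG2.borelSubgroup K ⊓ twistedG2 K (3 ^ m)).subgroupOf (twistedG2 K (3 ^ m)))) ≠ Un := by
    rw [ne_eq, QuotientGroup.eq, mem_BG]
    intro h
    apply hn
    have := mul_mem (inv_mem (C.Z.U1_le_borel hu)) (show u * C.n0 ∈ chevG2.borelSubgroup K by
      simpa [Un] using h)
    rwa [inv_mul_cancel_left] at this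
  have hyz : (N : ↥(twistedG2 K (3 ^ m)) ⧸ ((chevG2.borelSubgroup K ⊓ twistedG2 K (3 ^ m)).subgroupOf (twistedG2 K (3 ^ m)))) ≠ Un := by
    rw [ne_eq, QuotientGroup.eq, mem_BG]
    intro h
    obtain ⟨k, hk, ek⟩ := C.Z.n_inv C.J0
    have ek' : C.n0⁻¹ = k * C.n0 := ek
    have h' : C.n0⁻¹ * (u * C.n0) ∈ chevG2.borelSubgroup K := by simpa [N, Un] using h
    refine hu1 (C.conj_n_borel hu ?_)
    have e : C.n0 * u * C.n0⁻¹ = k⁻¹ * (C.n0⁻¹ * (u * C.n0)) * k := by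
      rw [ek']
      have e3 : C.n0⁻¹ = C.n0⁻¹ := rfl
      calc C.n0 * u * (k * C.n0) = k⁻¹ * (k * C.n0) * u * (k * C.n0) := by group
        _ = k⁻¹ * (k * C.n0) * u * (C.n0⁻¹) := by rw [ek']
        _ = k⁻¹ * (k * C.n0 * u * (C.n0⁻¹ * k⁻¹)) * k := by group
        _ = _ := by
          have : C.n0⁻¹ * k⁻¹ = C.n0 := by
            have := congrArg Inv.inv ek'
            rwa [inv_inv, _root_.mul_inv_rev, eq_comm] at this
          rw [this]; group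
    rw [e]
    exact mul_mem (mul_mem (inv_mem (C.Z.H0_le_borel hk)) h') (C.Z.H0_le_borel hk)
  refine ⟨_, _, _, hxy, hxz, hyz, le_antisymm (C.three_points _ _ _ hxy hxz hyz) ?_⟩
  have hmem : C.h (-1) ∈ twistedG2 K (3 ^ m) := C.h_mem _
  have hH : C.h (-1) ∈ C.Z.H0 := C.mem_H0.mpr ⟨_, rfl⟩
  have hnn : C.n0⁻¹ * C.h (-1) * C.n0 ∈ chevG2.borelSubgroup K := by
    obtain ⟨k, hk, ek⟩ := C.Z.n_inv C.J0
    have ek' : C.n0⁻¹ = k * C.n0 := ek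
    have e3 : C.n0 = C.n0⁻¹ * k⁻¹ := by
      have := congrArg Inv.inv ek'
      rwa [inv_inv, _root_.mul_inv_rev] at this
    have e : C.n0⁻¹ * C.h (-1) * C.n0 = k * (C.n0 * C.h (-1) * C.n0⁻¹) * k⁻¹ := by
      calc C.n0⁻¹ * C.h (-1) * C.n0 = k * C.n0 * C.h (-1) * (C.n0⁻¹ * k⁻¹) := by rw [← e3, ← ek']
        _ = _ := by group
    rw [e]
    exact mul_mem (mul_mem (C.Z.H0_le_borel hk) (C.Z.H0_le_borel (C.Z.n_conj _ _ hH)))
      (inv_mem (C.Z.H0_le_borel hk))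
  set g : ↥(twistedG2 K (3 ^ m)) := ⟨C.h (-1), hmem⟩
  have hg1 : g ≠ 1 := fun h => C.neg_one_ne_one (C.h_inj (by
    rw [map_one]; exact congrArg Subtype.val h))
  refine Nat.succ_le_of_lt (Finite.one_lt_card_iff_nontrivial.mpr ⟨⟨g, ⟨?_, ?_⟩, ?_⟩, 1,
    fun h => hg1 (congrArg Subtype.val h)⟩)
  · exact smul_mk_iff.mpr (by simpa [g] using C.Z.H0_le_borel hH)
  · exact smul_mk_iff.mpr (by simpa [g, N] using hnn)
  · refine smul_mk_iff.mpr ?_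
    show (u * C.n0)⁻¹ * C.h (-1) * (u * C.n0) ∈ _
    have hc : C.h (-1) * u = u * C.h (-1) := mul_inv_eq_iff_eq_mul.mp (C.h_neg_one_fix 1)
    rw [show (u * C.n0)⁻¹ * C.h (-1) * (u * C.n0) = C.n0⁻¹ * (u⁻¹ * (C.h (-1) * u)) * C.n0 by group,
      hc, inv_mul_cancel_left]
    exact hnn

/-! ### Sylow 3-subgroups -/


theorem sylow_ti [Fact (Nat.Prime 3)] (hm : 1 ≤ m) (P Q : Sylow 3 ↥(twistedG2 K (3 ^ m)))
    (hPQ : P ≠ Q) : (P : Subgroup ↥(twistedG2 K (3 ^ m))) ⊓ Q = ⊥ := by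
  classical
  have hcU : Nat.card ((C.Z.U1).subgroupOf (twistedG2 K (3 ^ m))) = (3 ^ (2 * m + 1)) ^ 3 := by
    rw [← C.card_U1]
    exact Nat.card_congr (Subgroup.subgroupOfEquivOfLe C.Z.U1_le).toEquiv
  have hp : IsPGroup 3 ((C.Z.U1).subgroupOf (twistedG2 K (3 ^ m))) := IsPGroup.of_card (n := (2 * m + 1) * 3) (by rw [hcU, ← pow_mul])
  have hidx : ¬ 3 ∣ ((C.Z.U1).subgroupOf (twistedG2 K (3 ^ m))).index := by
    intro hd
    have hmul := Subgroup.card_mul_index ((C.Z.U1).subgroupOf (twistedG2 K (3 ^ m)))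
    rw [hcU, show Nat.card ↥(twistedG2 K (3 ^ m)) = _ from C.card_group, mul_assoc] at hmul
    rw [Nat.eq_of_mul_eq_mul_left (by positivity) hmul] at hd
    have h3 : 3 ∣ 3 ^ (2 * m + 1) := dvd_pow_self 3 (by omega)
    have h1 : 1 ≤ 3 ^ (2 * m + 1) := Nat.one_le_pow _ _ (by norm_num)
    rcases Nat.prime_three.dvd_mul.mp hd with h | h
    · omega
    · have : 3 ∣ (3 ^ (2 * m + 1)) ^ 3 := dvd_pow h3 (by norm_num)
      omega
  set S := hp.toSylow hidx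
  have hS : ∀ R : Sylow 3 ↥(twistedG2 K (3 ^ m)), ∃ g : ↥(twistedG2 K (3 ^ m)),
      (R : Subgroup ↥(twistedG2 K (3 ^ m))) = ((C.Z.U1).subgroupOf (twistedG2 K (3 ^ m))).map (MulAut.conj g).toMonoidHom := by
    intro R
    obtain ⟨g, rfl⟩ := MulAction.exists_smul_eq ↥(twistedG2 K (3 ^ m)) S R
    refine ⟨g, ?_⟩
    rw [Sylow.coe_subgroup_smul, IsPGroup.toSylow_coe]
    rfl
  obtain ⟨g1, h1⟩ := hS P
  obtain ⟨g2, h2⟩ := hS Q
  rw [eq_bot_iff]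
  intro y hy
  rw [Subgroup.mem_inf, h1, h2] at hy
  obtain ⟨⟨x1, hx1, e1⟩, x2, hx2, e2⟩ := hy
  by_contra hy1
  rw [Subgroup.mem_bot] at hy1
  have hx1' : (x1 : GL chevG2.Idx K) ≠ 1 := fun h => hy1 (by
    rw [← e1, show x1 = 1 from Subtype.ext h, map_one])
  set g : ↥(twistedG2 K (3 ^ m)) := g2⁻¹ * g1 with hg
  have hgx : (g : GL chevG2.Idx K) * x1 * (g : GL chevG2.Idx K)⁻¹ = x2 := by
    have h : g1 * x1 * g1⁻¹ = g2 * x2 * g2⁻¹ := e1.trans e2.symm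
    have h' : g * x1 * g⁻¹ = x2 := by
      rw [hg, show g2⁻¹ * g1 * x1 * (g2⁻¹ * g1)⁻¹ = g2⁻¹ * (g1 * x1 * g1⁻¹) * g2 by group, h]
      group
    exact congrArg Subtype.val h'
  have hgB := C.normal_of_not_ti g.2 hx1 hx1' (hgx ▸ hx2)
  apply hPQ
  apply Sylow.ext
  rw [h1, h2]
  have key : ∀ f : ↥(twistedG2 K (3 ^ m)), (f : GL chevG2.Idx K) ∈ chevG2.borelSubgroup K →
      ((C.Z.U1).subgroupOf (twistedG2 K (3 ^ m))).map (MulAut.conj f).toMonoidHom = ((C.Z.U1).subgroupOf (twistedG2 K (3 ^ m))) := by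
    intro f hf
    refine Subgroup.eq_of_le_of_card_ge ?_ ?_
    · rintro _ ⟨z, hz, rfl⟩
      exact C.conj_U1 f.2 hf hz
    · rw [Subgroup.card_map_of_injective (MulAut.conj f).injective]
  rw [show g1 = g2 * g by rw [hg]; group]
  conv_lhs => rw [show (MulAut.conj (g2 * g)).toMonoidHom =
    (MulAut.conj g2).toMonoidHom.comp (MulAut.conj g).toMonoidHom by rw [map_mul]; rfl]
  rw [← Subgroup.map_map, key g hgB]

end Ctx

end CfsgLib.Chev.G2Tw
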