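import Cfsg.Agent.Chev.TwistedBN
import Cfsg.Agent.Chev.TwistedCard
import Cfsg.Agent.Chev.RankOne

/-!
Rank one for an arbitrary orbit of fundamental roots: the fixed elements of a Levi subgroup.
-/

set_option autoImplicit false

namespace CfsgLib.Chev

open Cfsg.Lie Matrix
open scoped MatrixGroups

namespace Tab

variable {D : ChevalleyDatum}

/-- An orbit of fundamental roots with a word for its longest element. -/
structure Good.Orbit {T : Tab D} {G : T.Good} {F : Type*} [Field F] (Φ : G.Graph F)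
    (o word : List (Fin D.rank)) : Prop where
  word_mem : ∀ i ∈ word, i ∈ o
  trans : ∀ a ∈ o, ∀ b ∈ o, ∃ k : ℕ, (Φ.ρ ^ k) a = b
  flip : ∀ s : Fin D.nroots, IsPos D s.val →
    (¬ IsPos D (G.full.pw word s).val ↔ ∀ i, i ∉ o → T.cor s.val i.val = 0)
  comm : ∀ s : Fin D.nroots, G.full.pw word (Φ.π s) = Φ.π (G.full.pw word s)
  invol : G.full.pw word * G.full.pw word = 1

namespace Good.Orbit

variable {T : Tab D} {G : T.Good} {F : Type*} [Field F] {Φ : G.Graph F}
  {o word : List (Fin D.rank)} (P : G.Orbit Φ o word)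
include P

theorem w_sq (s : Fin D.nroots) : G.full.pw word (G.full.pw word s) = s :=
  congrArg (fun σ : Equiv.Perm _ => σ s) P.invol

theorem mem_S {s : Fin D.nroots} :
    s.val ∈ flipSet (G.full.pw word) ↔
      IsPos D s.val ∧ ∀ i, i ∉ o → T.cor s.val i.val = 0 := by
  constructor
  · rintro ⟨_, h1, h2⟩
    exact ⟨h1, (P.flip s h1).mp h2⟩
  · rintro ⟨h1, h2⟩
    exact ⟨s.isLt, h1, (P.flip s h1).mpr h2⟩

theorem simp_mem {i : Fin D.rank} (hi : i ∈ o) :
    (G.full.simp' i).val ∈ flipSet (G.full.pw word) := by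
  refine P.mem_S.mpr ⟨G.pos_simp i, fun l hl => ?_⟩
  rw [G.cor_simple, if_neg]
  rintro rfl
  exact hl hi

omit P in
theorem cor_refl_of_ne {i l : Fin D.rank} (h : l ≠ i) (s : Fin D.nroots) :
    T.cor (G.full.refl i s) l = T.cor s l := by
  show T.cor (T.reflT i s) l = _
  rw [((G.full.reflT_spec i.isLt s.isLt).2.2.2.2.1 l l.isLt).2,
    if_neg fun e : l.val = i.val => h (Fin.ext e), sub_zero]

theorem cor_out {L : List (Fin D.rank)} (hL : ∀ i ∈ L, i ∈ o) {l : Fin D.rank} (hl : l ∉ o)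
    (s : Fin D.nroots) : T.cor (G.full.pw L s) l = T.cor s l := by
  induction L with
  | nil => rfl
  | cons i L ih =>
    rw [G.pw_cons, Equiv.Perm.mul_apply,
      cor_refl_of_ne (G := G) (fun e => hl (by rw [e]; exact hL i (List.mem_cons_self ..))),
      ih fun j hj => hL j (List.mem_cons_of_mem _ hj)]

theorem pw_mem_S {L : List (Fin D.rank)} (hL : ∀ i ∈ L, i ∈ o) {s : Fin D.nroots}
    (hs : ∀ i, i ∉ o → T.cor s.val i.val = 0) (hpos : IsPos D (G.full.pw L s).val) :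
    (G.full.pw L s).val ∈ flipSet (G.full.pw word) :=
  P.mem_S.mpr ⟨hpos, fun i hi => by rw [P.cor_out hL hi]; exact hs i hi⟩

theorem pos_out {L : List (Fin D.rank)} (hL : ∀ i ∈ L, i ∈ o) {s : Fin D.nroots}
    (hs : IsPos D s.val) (hout : ¬ ∀ i, i ∉ o → T.cor s.val i.val = 0) :
    IsPos D (G.full.pw L s).val := by
  simp only [not_forall] at hout
  obtain ⟨l, hl, hne⟩ := hout
  refine G.pos_of_cor_pos (Fin.isLt _) l.isLt ?_
  rw [P.cor_out hL hl]
  exact lt_of_le_of_ne ((G.pos_iff_cor s.isLt).mp hs l) (Ne.symm hne)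

theorem flip_subset {L : List (Fin D.rank)} (hL : ∀ i ∈ L, i ∈ o) :
    flipSet (G.full.pw L) ⊆ flipSet (G.full.pw word) := by
  rintro s ⟨hlt, h1, h2⟩
  refine (P.mem_S (s := ⟨s, hlt⟩)).mpr ⟨h1, ?_⟩
  by_contra hout
  exact h2 (P.pos_out hL h1 hout)

theorem closed_S : T.Closed (flipSet (G.full.pw word)) := G.closed_flip word

theorem conj_rest {L : List (Fin D.rank)} (hL : ∀ i ∈ L, i ∈ o) {g : GL D.Idx F}
    (hg : G.full.RootAct g (G.full.pw L)) {a : GL D.Idx F}
    (ha : a ∈ G.US F (flipSet (G.full.pw word) ∩ keepSet (G.full.pw L))) :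
    g * a * g⁻¹ ∈ G.US F (flipSet (G.full.pw word)) := by
  refine G.conj_x_act hg (fun s hs => ?_) ha
  obtain ⟨hS, hlt, hp, hp2⟩ := hs
  exact ⟨hlt, P.pw_mem_S hL ((P.mem_S (s := ⟨s, hlt⟩)).mp hS).2 hp2⟩

omit P in
theorem diag_conj {S : Set ℕ} (hS : ∀ s ∈ S, s < D.nroots) {h u : GL D.Idx F}
    (hh : h ∈ D.diagonalSubgroup F) (hu : u ∈ G.US F S) : h * u * h⁻¹ ∈ G.US F S := by
  rw [G.full.diagonal_eq_range] at hh
  obtain ⟨c, rfl⟩ := hh
  exact G.hT_conj_US S hS c hu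

theorem diag_conj_S {h u : GL D.Idx F} (hh : h ∈ D.diagonalSubgroup F)
    (hu : u ∈ G.US F (flipSet (G.full.pw word))) :
    h * u * h⁻¹ ∈ G.US F (flipSet (G.full.pw word)) :=
  diag_conj (S := flipSet (G.full.pw word)) (fun s ⟨hs, _⟩ => hs) hh hu

/-- The cells of the Levi subgroup of the orbit. -/
def cells (_P : G.Orbit Φ o word) : Set (GL D.Idx F) :=
  {g | ∃ a ∈ G.US F (flipSet (G.full.pw word)), ∃ h ∈ D.diagonalSubgroup F,
    ∃ L : List (Fin D.rank), (∀ i ∈ L, i ∈ o) ∧ ∃ v ∈ G.US F (flipSet (G.full.pw word)),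
      g = a * h * G.full.nw F L * v}

theorem cells_US {u g : GL D.Idx F} (hu : u ∈ G.US F (flipSet (G.full.pw word))) (hg : g ∈ P.cells) :
    u * g ∈ P.cells := by
  obtain ⟨a, ha, h, hh, L, hL, v, hv, rfl⟩ := hg
  exact ⟨u * a, mul_mem hu ha, h, hh, L, hL, v, hv, by group⟩

theorem cells_diag {k g : GL D.Idx F} (hk : k ∈ D.diagonalSubgroup F) (hg : g ∈ P.cells) :
    k * g ∈ P.cells := by
  obtain ⟨a, ha, h, hh, L, hL, v, hv, rfl⟩ := hg
  exact ⟨k * a * k⁻¹, P.diag_conj_S hk ha, k * h, mul_mem hk hh, L, hL, v, hv, by group⟩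

theorem cells_x {i : Fin D.rank} {L : List (Fin D.rank)} (hi : i ∈ o) (hL : ∀ j ∈ L, j ∈ o)
    (hpos : IsPos D ((G.full.pw L)⁻¹ (G.full.simp' i)).val) (t : F) :
    ∃ b ∈ G.US F (flipSet (G.full.pw word)),
      G.full.x (D.simple i) t * G.full.nw F L = G.full.nw F L * b := by
  refine ⟨(G.full.nw F L)⁻¹ * G.full.x (D.simple i) t * G.full.nw F L, ?_, by group⟩
  have hact := G.rootAct_inv (G.nw_mem_monomial L) (G.rootAct_nw (F := F) L)
  set r := (G.full.pw L)⁻¹ (G.full.simp' i) with hr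
  have hout : ∀ l, l ∉ o → T.cor r.val l.val = 0 := fun l hl => by
    have h1 := P.cor_out hL hl r
    rw [hr, show G.full.pw L ((G.full.pw L)⁻¹ (G.full.simp' i)) = G.full.simp' i from
      Equiv.apply_symm_apply _ _, G.cor_simple, if_neg fun e : l = i => hl (e ▸ hi)] at h1
    exact h1.symm
  have := G.conj_x_act hact (S := {D.simple i}) (S' := flipSet (G.full.pw word)) (fun s hs => by
    rw [Set.mem_singleton_iff] at hs
    subst hs
    exact ⟨G.full.simple_lt i.isLt, P.mem_S.mpr ⟨hpos, hout⟩⟩)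
    (G.x_mem_US (Set.mem_singleton _) t)
  rwa [inv_inv] at this

theorem cells_ns {i : Fin D.rank} (hi : i ∈ o) {g : GL D.Idx F} (hg : g ∈ P.cells) :
    G.full.ns F i * g ∈ P.cells := by
  obtain ⟨a, ha, h, hh, L, hL, v, hv, rfl⟩ := hg
  have hsimp : (G.full.simp' i).val = D.simple i := rfl
  have hS2 : flipSet (G.full.pw word) =
      (flipSet (G.full.pw word) ∩ keepSet (G.full.pw [i])) ∪ {D.simple i} := by
    rw [G.pw_singleton, G.keep_refl]
    ext s
    constructor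
    · intro hs
      by_cases e : s = D.simple i
      · exact Or.inr e
      · exact Or.inl ⟨hs, P.closed_S.1 s hs, e⟩
    · rintro (h | h)
      · exact h.1
      · rw [Set.mem_singleton_iff] at h
        exact h ▸ hsimp ▸ P.simp_mem hi
  have hc1 : T.Closed ({D.simple i} : Set ℕ) := by
    have := G.closed_flip [i]
    rwa [G.pw_singleton, G.flip_refl] at this
  obtain ⟨a₁, ha₁, b, hb, rfl⟩ := G.US_split (P.closed_S.inter (G.closed_keep [i])) hc1 P.closed_S
    hS2 ha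
  obtain ⟨t, rfl⟩ := G.mem_X hb
  have hns : G.full.RootAct (G.full.ns F i) (G.full.pw [i]) := by
    rw [G.pw_singleton]; exact G.rootAct_ns i
  have ha' := P.conj_rest (L := [i]) (by simpa using hi) hns ha₁
  have hh' : G.full.ns F i * h * (G.full.ns F i)⁻¹ ∈ D.diagonalSubgroup F := by
    have := G.diagonal_normal.conj_mem ⟨h, Subgroup.mem_sup_left hh⟩ hh
      ⟨_, G.ns_mem_monomial i⟩
    rwa [Subgroup.mem_subgroupOf] at this
  obtain ⟨u, hu⟩ : ∃ u, h⁻¹ * G.full.x (D.simple i) t * h = G.full.x (D.simple i) u := by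
    have hd := inv_mem hh
    rw [G.full.diagonal_eq_range] at hd
    obtain ⟨c, hc⟩ := hd
    refine ⟨(T.chi (D.simple i) c : F) * t, ?_⟩
    rw [← G.full.hT_conj (G.full.simple_lt i.isLt), hc, inv_inv]
  have e0 : G.full.ns F i * (a₁ * G.full.x (D.simple i) t * h * G.full.nw F L * v) =
      (G.full.ns F i * a₁ * (G.full.ns F i)⁻¹) * ((G.full.ns F i * h * (G.full.ns F i)⁻¹) *
        (G.full.ns F i * G.full.x (D.simple i) u * G.full.nw F L * v)) := by
    rw [← hu]; group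
  rw [e0]
  refine P.cells_US ha' (P.cells_diag hh' ?_)
  have hiL : ∀ j ∈ i :: L, j ∈ o := List.forall_mem_cons.mpr ⟨hi, hL⟩
  by_cases hpos : IsPos D ((G.full.pw L)⁻¹ (G.full.simp' i)).val
  · obtain ⟨b, hb, e⟩ := P.cells_x hi hL hpos u
    refine ⟨1, one_mem _, 1, one_mem _, i :: L, hiL, b * v, mul_mem hb hv, ?_⟩
    rw [G.nw_cons, mul_assoc (G.full.ns F i), e]
    group
  rcases eq_or_ne u 0 with rfl | hu0
  · refine ⟨1, one_mem _, 1, one_mem _, i :: L, hiL, v, hv, ?_⟩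
    rw [G.nw_cons, G.full.x_zero]
    group
  have hpos' : IsPos D ((G.full.pw (i :: L))⁻¹ (G.full.simp' i)).val := by
    obtain ⟨c, hc⟩ := G.rootAct_nw (F := F) L
    have e : (G.full.pw (i :: L))⁻¹ (G.full.simp' i) =
        negF ((G.full.pw L)⁻¹ (G.full.simp' i)) := by
      rw [Equiv.Perm.inv_def, Equiv.symm_apply_eq, G.pw_cons, Equiv.Perm.mul_apply, (hc _).1,
        Equiv.Perm.inv_def, Equiv.apply_symm_apply]
      exact Fin.ext (G.full.neg_simple_reflect i.isLt).symm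
    rw [e, G.pos_negF]
    exact hpos
  obtain ⟨d, hd⟩ := G.hr_simple_mem i (inv_ne_zero hu0)
  obtain ⟨d', hd'⟩ := G.hr_simple_mem i (neg_ne_zero.mpr (one_ne_zero (α := F)))
  have hopp : G.full.ns F i * G.full.x (D.simple i) u * G.full.ns F i =
      G.full.x (D.simple i) (-u⁻¹) * G.full.hr (D.simple i) (-u⁻¹) * G.full.ns F i *
        G.full.x (D.simple i) (-u⁻¹) := (G.rankOne F i).opp u hu0
  obtain ⟨b, hb, e⟩ := P.cells_x hi hiL hpos' (-u⁻¹)
  have hns' : G.full.ns F i * G.full.x (D.simple i) u * G.full.nw F L =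
      G.full.ns F i * G.full.x (D.simple i) u * G.full.ns F i * ((G.full.ns F i *
        G.full.ns F i)⁻¹ * G.full.nw F (i :: L)) := by
    rw [G.nw_cons]; group
  have hsq : (G.full.ns F i * G.full.ns F i)⁻¹ = G.full.hr (D.simple i) (-1) := by
    rw [G.full.ns_sq i.isLt, inv_eq_iff_mul_eq_one, G.full.hr_simple_mul i.isLt
      (neg_ne_zero.mpr one_ne_zero) (neg_ne_zero.mpr one_ne_zero), neg_one_mul, neg_neg,
      G.full.hr_simple_one i.isLt]
  have hcomm : G.full.x (D.simple i) (-u⁻¹) * G.full.hr (D.simple i) (-1) =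
      G.full.hr (D.simple i) (-1) * G.full.x (D.simple i) (-u⁻¹) := by
    have := (G.rankOne F i).hx (-1) (-u⁻¹) (neg_ne_zero.mpr one_ne_zero)
    rw [neg_one_sq, one_mul] at this
    exact this.symm
  obtain ⟨d'', hd''⟩ := G.hr_simple_mem i (neg_ne_zero.mpr (inv_ne_zero hu0))
  rw [hns', hopp, hsq]
  have e2 : G.full.x (D.simple i) (-u⁻¹) * G.full.hr (D.simple i) (-u⁻¹) * G.full.ns F i *
      G.full.x (D.simple i) (-u⁻¹) * (G.full.hr (D.simple i) (-1) * G.full.nw F (i :: L)) * v =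
      G.full.x (D.simple i) (-u⁻¹) * (G.full.hr (D.simple i) (-u⁻¹) *
        (G.full.ns F i * G.full.hr (D.simple i) (-1) * (G.full.ns F i)⁻¹) *
        (G.full.ns F i * G.full.ns F i)) * G.full.nw F L * (b * v) := by
    rw [mul_assoc _ (G.full.x (D.simple i) (-u⁻¹)) (G.full.hr (D.simple i) (-1) * _),
      ← mul_assoc (G.full.x (D.simple i) (-u⁻¹)) (G.full.hr (D.simple i) (-1)), hcomm,
      mul_assoc (G.full.hr (D.simple i) (-1)), e, G.nw_cons]
    group
  rw [e2]
  refine ⟨_, ?_, _, mul_mem (mul_mem ?_ ?_) ?_, L, hL, _, mul_mem hb hv, rfl⟩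
  · exact G.x_mem_US (hsimp ▸ P.simp_mem hi) _
  · rw [hd'', G.full.diagonal_eq_range]; exact ⟨_, rfl⟩
  · have hm : G.full.hr (D.simple i) (-1 : F) ∈ D.diagonalSubgroup F := by
      rw [hd', G.full.diagonal_eq_range]; exact ⟨_, rfl⟩
    have := G.diagonal_normal.conj_mem ⟨_, Subgroup.mem_sup_left hm⟩ hm ⟨_, G.ns_mem_monomial i⟩
    rwa [Subgroup.mem_subgroupOf] at this
  · rw [G.full.ns_sq i.isLt, hd', G.full.diagonal_eq_range]; exact ⟨_, rfl⟩

/-- The Levi subgroup of the orbit. -/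
noncomputable def levi (_P : G.Orbit Φ o word) : Subgroup (GL D.Idx F) :=
  Subgroup.closure ((G.US F (flipSet (G.full.pw word)) : Set (GL D.Idx F)) ∪
    (D.diagonalSubgroup F : Set (GL D.Idx F)) ∪ {g | ∃ i ∈ o, g = G.full.ns F i})

theorem levi_cells {g : GL D.Idx F} (hg : g ∈ P.levi) : g ∈ P.cells := by
  suffices h : ∀ c ∈ P.cells, g * c ∈ P.cells by
    simpa using h 1 ⟨1, one_mem _, 1, one_mem _, [], by simp, 1, one_mem _, by simp [Full.nw]⟩
  induction hg using Subgroup.closure_induction'' with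
  | mem x hx =>
    rcases hx with (hx | hx) | ⟨i, hi, rfl⟩
    · exact fun c hc => P.cells_US hx hc
    · exact fun c hc => P.cells_diag hx hc
    · exact fun c hc => P.cells_ns hi hc
  | inv_mem x hx =>
    rcases hx with (hx | hx) | ⟨i, hi, rfl⟩
    · exact fun c hc => P.cells_US (inv_mem hx) hc
    · exact fun c hc => P.cells_diag (inv_mem hx) hc
    · intro c hc
      obtain ⟨d, hd⟩ := G.hr_simple_mem i (neg_ne_zero.mpr (one_ne_zero (α := F)))
      have e : (G.full.ns F i)⁻¹ = (G.full.ns F i * G.full.ns F i)⁻¹ * G.full.ns F i := by group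
      rw [e, mul_assoc]
      refine P.cells_diag (inv_mem ?_) (P.cells_ns hi hc)
      rw [G.full.ns_sq i.isLt, hd, G.full.diagonal_eq_range]
      exact ⟨_, rfl⟩
  | one => simp
  | mul x y _ _ hx hy => exact fun c hc => by rw [mul_assoc]; exact hx _ (hy c hc)

theorem nw_mem_levi : G.full.nw F word ∈ P.levi :=
  list_prod_mem fun x hx => by
    obtain ⟨i, hi, rfl⟩ := List.mem_map.mp hx
    exact Subgroup.subset_closure (Or.inr ⟨i, P.word_mem i hi, rfl⟩)

theorem US_le_levi : G.US F (flipSet (G.full.pw word)) ≤ P.levi := fun _ hx =>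
  Subgroup.subset_closure (Or.inl (Or.inl hx))

theorem diag_le_levi : D.diagonalSubgroup F ≤ P.levi := fun _ hx =>
  Subgroup.subset_closure (Or.inl (Or.inr hx))

theorem conj_mem_levi {n u : GL D.Idx F} (hn : n ∈ D.monomialSubgroup F)
    (hact : G.full.RootAct n (G.full.pw word)) (hu : u ∈ G.US F (flipSet (G.full.pw word))) :
    n * u * n⁻¹ ∈ P.levi := by
  have hd : n * (G.full.nw F word)⁻¹ ∈ D.diagonalSubgroup F := by
    refine G.mem_diagonal_of_pos (mul_mem hn (inv_mem (G.nw_mem_monomial _))) (σ := G.full.pw (word ++ word))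
      ?_ fun s hs => ?_
    · rw [G.pw_append]
      have := G.rootAct_mul hact (G.rootAct_inv (G.nw_mem_monomial word) (G.rootAct_nw (F := F) word))
      rwa [show (G.full.pw word)⁻¹ = G.full.pw word from inv_eq_of_mul_eq_one_right P.invol] at this
    · rw [G.pw_append, P.invol]
      exact hs
  have hn' : n ∈ P.levi := by
    have := mul_mem (P.diag_le_levi hd) P.nw_mem_levi
    rwa [inv_mul_cancel_right] at this
  exact mul_mem (mul_mem hn' (P.US_le_levi hu)) (inv_mem hn')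

theorem sign_cases {L : List (Fin D.rank)} (hL : ∀ i ∈ L, i ∈ o)
    (hσ : ∀ s, G.full.pw L (Φ.π s) = Φ.π (G.full.pw L s)) :
    G.full.pw L = 1 ∨ G.full.pw L = G.full.pw word := by
  have all_pos : ∀ M : List (Fin D.rank), (∀ i ∈ M, i ∈ o) →
      (∀ i ∈ o, IsPos D (G.full.pw M (G.full.simp' i)).val) → G.full.pw M = 1 := by
    intro M hM h
    refine G.eq_one_of_pw_pos fun s hs => ?_
    by_cases hout : ∀ i, i ∉ o → T.cor s.val i.val = 0
    · refine (G.pos_iff_cor (Fin.isLt _)).mpr fun j => ?_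
      rw [G.cor_linear (G.pw_mem_full M)]
      refine Finset.sum_nonneg fun l _ => ?_
      by_cases hl : l ∈ o
      · exact mul_nonneg ((G.pos_iff_cor s.isLt).mp hs l)
          ((G.pos_iff_cor (Fin.isLt _)).mp (h l hl) j)
      · rw [hout l hl, zero_mul]
    · exact P.pos_out hM hs hout
  have step : ∀ (k : ℕ) (i : Fin D.rank),
      IsPos D (G.full.pw L (G.full.simp' ((Φ.ρ ^ k) i))).val ↔
        IsPos D (G.full.pw L (G.full.simp' i)).val := by
    intro k
    induction k with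
    | zero => exact fun i => Iff.rfl
    | succ k ih =>
      intro i
      rw [pow_succ', Equiv.Perm.mul_apply, ← Φ.simp, hσ, Φ.pos, ih]
  by_cases h : ∀ i ∈ o, IsPos D (G.full.pw L (G.full.simp' i)).val
  · exact Or.inl (all_pos L hL h)
  simp only [not_forall] at h
  obtain ⟨a, ha, hna⟩ := h
  have hneg : ∀ i ∈ o, ¬ IsPos D (G.full.pw L (G.full.simp' i)).val := fun i hi => by
    obtain ⟨k, hk⟩ := P.trans a ha i hi
    rw [← hk, step]
    exact hna
  right
  have e : G.full.pw (L ++ word) = 1 := by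
    refine all_pos _ (fun i hi => ?_) fun i hi => ?_
    · rcases List.mem_append.mp hi with h | h
      exacts [hL i h, P.word_mem i h]
    · rw [G.pw_append, Equiv.Perm.mul_apply]
      set r := negF (G.full.pw word (G.full.simp' i)) with hr
      have hrS : r.val ∈ flipSet (G.full.pw word) := by
        obtain ⟨_, h1, h2⟩ := P.simp_mem hi
        refine ⟨Fin.isLt _, G.pos_negF.mpr h2, fun h => ?_⟩
        rw [Fin.eta, hr, G.negF_pw, P.w_sq] at h
        exact (G.pos_negF.mp h) h1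
      obtain ⟨hr1, hr2⟩ := P.mem_S.mp hrS
      have hnr : ¬ IsPos D (G.full.pw L r).val := by
        intro hpos
        obtain ⟨j, hj⟩ := G.exists_cor_ne_zero (F := ℚ) (G.full.pw L r).isLt
        have hle : T.cor (G.full.pw L r) j ≤ 0 := by
          rw [G.cor_linear (G.pw_mem_full L)]
          refine Finset.sum_nonpos fun l _ => ?_
          by_cases hl : l ∈ o
          · exact mul_nonpos_of_nonneg_of_nonpos ((G.pos_iff_cor r.isLt).mp hr1 l)
              ((G.cor_sign (Fin.isLt _) j.isLt).2 fun e => hneg l hl ⟨Fin.isLt _, e⟩)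
          · rw [hr2 l hl, zero_mul]
        exact hj (by rw [le_antisymm hle ((G.pos_iff_cor (Fin.isLt _)).mp hpos j)]; simp)
      rwa [hr, G.negF_pw, G.pos_negF, not_not] at hnr
  rw [G.pw_append, mul_eq_one_iff_eq_inv] at e
  rw [e, inv_eq_of_mul_eq_one_right P.invol]

/-- A fixed element of the Levi subgroup outside the Borel subgroup. -/
theorem fixed_decomp {g : GL D.Idx F} (hfix : g ∈ Φ.Fix) (hg : g ∈ P.levi)
    (hB : g ∉ D.borelSubgroup F) :
    ∃ a ∈ Φ.Fix ⊓ G.US F (flipSet (G.full.pw word)), ∃ n ∈ Φ.Fix ⊓ D.monomialSubgroup F,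
      G.full.RootAct n (G.full.pw word) ∧
      ∃ v ∈ Φ.Fix ⊓ G.US F (flipSet (G.full.pw word)), g = a * n * v := by
  obtain ⟨a₀, ha₀, h, hh, L, hL, v₀, hv₀, rfl⟩ := P.levi_cells hg
  have hsplit : flipSet (G.full.pw word) =
      (flipSet (G.full.pw word) ∩ keepSet (G.full.pw L)) ∪ flipSet (G.full.pw L) := by
    ext s
    constructor
    · intro hs
      rcases (pos_eq_keep_union_flip (G.full.pw L)).subset (P.closed_S.1 s hs) with h | h
      exacts [Or.inl ⟨hs, h⟩, Or.inr h]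
    · rintro (h | h)
      exacts [h.1, P.flip_subset hL h]
  obtain ⟨v₁, hv₁, v, hv, rfl⟩ := G.US_split (P.closed_S.inter (G.closed_keep L))
    (G.closed_flip L) P.closed_S hsplit hv₀
  set n' := h * G.full.nw F L with hn'
  have hn'm : n' ∈ D.monomialSubgroup F :=
    mul_mem (Subgroup.mem_sup_left hh) (G.nw_mem_monomial L)
  have hact : G.full.RootAct n' (G.full.pw L) := by
    have hd := hh
    rw [G.full.diagonal_eq_range] at hd
    obtain ⟨c, hc⟩ := hd
    have := G.rootAct_mul (G.rootAct_hT c) (G.rootAct_nw (F := F) L)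
    rwa [hc, one_mul] at this
  set a := a₀ * (n' * v₁ * n'⁻¹) with hadef
  have ha : a ∈ G.US F (flipSet (G.full.pw word)) := mul_mem ha₀ (P.conj_rest hL hact hv₁)
  have e : a₀ * h * G.full.nw F L * (v₁ * v) = a * n' * v := by rw [hadef, hn']; group
  rw [e] at hfix hB ⊢
  have hpos : G.US F (flipSet (G.full.pw word)) ≤ D.posUnipotent F := G.flip_le_pos _
  have hga : a ∈ D.group F := G.US_le_group _ ha
  have hgn : n' ∈ D.group F := G.monomial_le_group hn'm
  have hgv : v ∈ D.group F := G.US_le_group _ hv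
  have hA := hfix.2
  rw [Φ.A_mul (mul_mem hga hgn) hgv, Φ.A_mul hga hgn] at hA
  have hactA := Φ.rootAct_A hn'm hact
  have hvA : Φ.A v ∈ G.US F (flipSet (Φ.π * G.full.pw L * Φ.π⁻¹)) := by
    refine Φ.A_US (fun s hs => ?_) hv
    obtain ⟨hlt, h1, h2⟩ := hs
    refine ⟨hlt, Fin.isLt _, (Φ.pos ⟨s, hlt⟩).mpr h1, fun hp => h2 ?_⟩
    rw [Fin.eta, Equiv.Perm.mul_apply, Equiv.Perm.mul_apply,
      show Φ.π⁻¹ (Φ.π ⟨s, hlt⟩) = ⟨s, hlt⟩ from Equiv.symm_apply_apply _ _] at hp
    exact (Φ.pos _).mp hp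
  have key := G.canonical_unique (Subgroup.mem_sup_left (hpos ha))
    (Subgroup.mem_sup_left (Φ.A_pos (hpos ha))) hn'm (Φ.A_monomial hn'm) hact hactA hv hvA hA.symm
  have hd := key.1
  have hσ : G.full.pw L = Φ.π * G.full.pw L * Φ.π⁻¹ := by
    rw [G.full.diagonal_eq_range] at hd
    obtain ⟨c, hc⟩ := hd
    have h1 := G.rootAct_mul hact (hc ▸ G.rootAct_hT c : G.full.RootAct (n'⁻¹ * Φ.A n') 1)
    rw [mul_inv_cancel_left, mul_one] at h1
    exact G.rootAct_unique h1 hactA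
  have hcomm : ∀ s, G.full.pw L (Φ.π s) = Φ.π (G.full.pw L s) := fun s => by
    conv_lhs => rw [hσ]
    simp
  rcases P.sign_cases hL hcomm with h1 | h1
  · exfalso
    refine hB (mul_mem (mul_mem (Subgroup.mem_sup_left (hpos ha)) (Subgroup.mem_sup_right ?_))
      (Subgroup.mem_sup_left (hpos (P.flip_subset hL |> fun h => G.US_mono h hv))))
    exact G.mem_diagonal_of_pos hn'm hact fun s hs => by rw [h1]; exact hs
  -- absorb the torus into the left factor
  set d := Φ.A n' * n'⁻¹ with hddef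
  have hdd : d ∈ D.diagonalSubgroup F := by
    have := G.diagonal_normal.conj_mem
      ⟨_, mul_mem (inv_mem hn'm) (Φ.A_monomial hn'm)⟩ hd ⟨_, hn'm⟩
    rw [Subgroup.mem_subgroupOf] at this
    simpa [hddef, mul_assoc] using this
  have hvA' : Φ.A v ∈ G.US F (flipSet (G.full.pw L)) := by rwa [← hσ] at hvA
  obtain ⟨eb, ev⟩ := (G.canonical_unique (b := Φ.A a * d) (b' := a)
    (mul_mem (Subgroup.mem_sup_left (Φ.A_pos (hpos ha))) (Subgroup.mem_sup_right hdd))
    (Subgroup.mem_sup_left (hpos ha)) hn'm hn'm hact hact hvA' hv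
    (by rw [← hA, hddef]; group)).2 rfl
  have hd1 : d ∈ D.posUnipotent F ⊓ D.diagonalSubgroup F := by
    refine Subgroup.mem_inf.mpr ⟨?_, hdd⟩
    rw [show d = (Φ.A a)⁻¹ * a from eq_inv_mul_of_mul_eq eb]
    exact mul_mem (inv_mem (Φ.A_pos (hpos ha))) (hpos ha)
  rw [G.pos_inf_diagonal, Subgroup.mem_bot] at hd1
  rw [hd1, mul_one] at eb
  rw [hddef, mul_inv_eq_one] at hd1
  exact ⟨a, ⟨⟨hga, eb⟩, ha⟩, n', ⟨⟨hgn, hd1⟩, hn'm⟩, h1 ▸ hact,
    v, ⟨⟨hgv, ev⟩, G.US_mono (P.flip_subset hL) hv⟩, rfl⟩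

theorem conj_not_borel {n u : GL D.Idx F} (hact : G.full.RootAct n (G.full.pw word))
    (hu : u ∈ G.US F (flipSet (G.full.pw word))) (hne : u ≠ 1) :
    n * u * n⁻¹ ∉ D.borelSubgroup F := by
  intro h
  obtain ⟨b, hb, c, hc⟩ := G.mem_borel.mp h
  exact hne (conj_eq_one_iff.mp
    (G.eq_one_of_borel_neg hb (G.conj_flip_mem_neg hact hu) hc.symm))

/-- Elements of the negative part of the orbit are conjugates of positive ones. -/
theorem exists_of_neg {g : GL D.Idx F}
    (hg : g ∈ G.US F {r | ∃ h : r < D.nroots, (negF ⟨r, h⟩).val ∈ flipSet (G.full.pw word)}) :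
    ∃ u ∈ G.US F (flipSet (G.full.pw word)),
      g = G.full.nw F word * u * (G.full.nw F word)⁻¹ := by
  refine ⟨(G.full.nw F word)⁻¹ * g * G.full.nw F word, ?_, by group⟩
  have hact := G.rootAct_inv (G.nw_mem_monomial word) (G.rootAct_nw (F := F) word)
  have := G.conj_x_act hact (S' := flipSet (G.full.pw word)) (fun r hr => by
    obtain ⟨h, hn⟩ := hr
    obtain ⟨_, h1, h2⟩ := hn
    refine ⟨h, Fin.isLt _, ?_, ?_⟩
    · rw [Fin.eta, G.negF_pw, G.pos_negF, not_not] at h2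
      rwa [inv_eq_of_mul_eq_one_right P.invol]
    · rw [Fin.eta, inv_eq_of_mul_eq_one_right P.invol, P.w_sq]
      exact G.pos_negF.mp h1) hg
  rwa [inv_inv] at this

/-- Rank one. -/
theorem rank_one {n : GL D.Idx F} (hn : n ∈ Φ.Fix) (hnm : n ∈ D.monomialSubgroup F)
    (hact : G.full.RootAct n (G.full.pw word)) {u : GL D.Idx F}
    (hu : u ∈ Φ.Fix ⊓ G.US F (flipSet (G.full.pw word))) (hne : u ≠ 1) :
    ∃ a ∈ Φ.Fix ⊓ G.US F (flipSet (G.full.pw word)), ∃ h ∈ Φ.Fix ⊓ D.diagonalSubgroup F,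
      ∃ b ∈ Φ.Fix ⊓ G.US F (flipSet (G.full.pw word)), n * u * n⁻¹ = a * h * n * b := by
  obtain ⟨a, ha, m, hm, hmact, v, hv, e⟩ := P.fixed_decomp
    (mul_mem (mul_mem hn hu.1) (inv_mem hn)) (P.conj_mem_levi hnm hact hu.2)
    (P.conj_not_borel hact hu.2 hne)
  refine ⟨a, ha, m * n⁻¹, Subgroup.mem_inf.mpr ⟨mul_mem (Subgroup.mem_inf.mp hm).1 (inv_mem hn), ?_⟩, v, hv, by rw [e]; group⟩
  refine G.mem_diagonal_of_pos (mul_mem hm.2 (inv_mem hnm)) (σ := G.full.pw (word ++ word)) ?_ fun s hs => ?_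
  · rw [G.pw_append]
    have := G.rootAct_mul hmact (G.rootAct_inv hnm hact)
    rwa [show (G.full.pw word)⁻¹ = G.full.pw word from inv_eq_of_mul_eq_one_right P.invol] at this
  · rw [G.pw_append, P.invol]
    exact hs

end Good.Orbit

/-- The data of a twisted group with arbitrary orbits. -/
structure Good.GenData {T : Tab D} {G : T.Good} {F : Type*} [Field F] (Φ : G.Graph F)
    (orbs words : List (List ℕ)) (G1 : Subgroup (GL D.Idx F)) : Prop where
  spec : G.TwSpec Φ orbs words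
  le_fix : G1 ≤ Φ.Fix
  X_le : ∀ J : Fin orbs.length,
    Φ.Fix ⊓ G.US F (flipSet (G.full.pw (toFins D.rank (words.getD J [])))) ≤ G1
  neg_ne : ∀ J : Fin orbs.length, ∃ g ∈ G1, g ≠ 1 ∧
    ∃ u ∈ G.US F (flipSet (G.full.pw (toFins D.rank (words.getD J [])))),
      g = G.full.nw F (toFins D.rank (words.getD J [])) * u *
        (G.full.nw F (toFins D.rank (words.getD J [])))⁻¹
  gen : G1 ≤ Subgroup.closure (⋃ J : Fin orbs.length,
    ((Φ.Fix ⊓ G.US F (flipSet (G.full.pw (toFins D.rank (words.getD J [])))) :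
      Subgroup (GL D.Idx F)) : Set (GL D.Idx F)) ∪
    {g | g ∈ Φ.Fix ∧ ∃ u ∈ G.US F (flipSet (G.full.pw (toFins D.rank (words.getD J [])))),
      g = G.full.nw F (toFins D.rank (words.getD J [])) * u *
        (G.full.nw F (toFins D.rank (words.getD J [])))⁻¹})

namespace Good.GenData

variable {T : Tab D} {G : T.Good} {F : Type*} [Field F] {Φ : G.Graph F}
  {orbs words : List (List ℕ)} {G1 : Subgroup (GL D.Idx F)} (A : G.GenData Φ orbs words G1)
include A

local notation "wd" => fun J : Fin orbs.length => toFins D.rank (words.getD (Fin.val J) [])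

theorem orbit (J : Fin orbs.length) :
    G.Orbit Φ (toFins D.rank (orbs.getD J [])) (wd J) :=
  ⟨A.spec.word_mem J, A.spec.orb_trans J, A.spec.flip J, A.spec.comm J, A.spec.invol J⟩

theorem diag_of_word {g : GL D.Idx F} (hg : g ∈ D.monomialSubgroup F) {M : List (Fin D.rank)}
    (hM : G.full.RootAct g (G.full.pw M)) (h1 : G.full.pw M = 1) : g ∈ D.diagonalSubgroup F :=
  G.mem_diagonal_of_pos hg hM fun s hs => by rw [h1]; exact hs

theorem act_diag {J : Fin orbs.length} {m m' : GL D.Idx F} (hm : m ∈ D.monomialSubgroup F)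
    (hm' : m' ∈ D.monomialSubgroup F) (h : G.full.RootAct m (G.full.pw (wd J)))
    (h' : G.full.RootAct m' (G.full.pw (wd J))) : m⁻¹ * m' ∈ D.diagonalSubgroup F := by
  refine A.diag_of_word (mul_mem (inv_mem hm) hm') (M := wd J ++ wd J) ?_
    (by rw [G.pw_append]; exact A.spec.invol J)
  rw [G.pw_append]
  have := G.rootAct_mul (G.rootAct_inv hm h) h'
  rwa [show (G.full.pw (wd J))⁻¹ = G.full.pw (wd J) from
    inv_eq_of_mul_eq_one_right (A.spec.invol J)] at this

theorem conj_back {J : Fin orbs.length} {m g u : GL D.Idx F} (hm : m ∈ Φ.Fix)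
    (hmm : m ∈ D.monomialSubgroup F) (hact : G.full.RootAct m (G.full.pw (wd J)))
    (hg : g ∈ Φ.Fix) (hu : u ∈ G.US F (flipSet (G.full.pw (wd J))))
    (e : g = G.full.nw F (wd J) * u * (G.full.nw F (wd J))⁻¹) :
    m⁻¹ * g * m ∈ Φ.Fix ⊓ G.US F (flipSet (G.full.pw (wd J))) := by
  refine Subgroup.mem_inf.mpr ⟨mul_mem (mul_mem (inv_mem hm) hg) hm, ?_⟩
  have hd := A.act_diag hmm (G.nw_mem_monomial _) hact (G.rootAct_nw (F := F) (wd J))
  have h2 := (A.orbit J).diag_conj_S hd hu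
  rw [e]
  convert h2 using 1
  group

theorem exists_n (J : Fin orbs.length) :
    ∃ n ∈ G1, n ∈ D.monomialSubgroup F ∧ G.full.RootAct n (G.full.pw (wd J)) ∧
      ∃ a ∈ Φ.Fix ⊓ G.US F (flipSet (G.full.pw (wd J))),
      ∃ v ∈ Φ.Fix ⊓ G.US F (flipSet (G.full.pw (wd J))),
      ∃ u ∈ Φ.Fix ⊓ G.US F (flipSet (G.full.pw (wd J))), n = a⁻¹ * (n * u * n⁻¹) * v⁻¹ := by
  obtain ⟨g, hg, hne, u, hu, e⟩ := A.neg_ne J
  have hu1 : u ≠ 1 := by rintro rfl; exact hne (by rw [e]; group)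
  have hact := G.rootAct_nw (F := F) (wd J)
  obtain ⟨a, ha, n, hn, hnact, v, hv, e'⟩ := (A.orbit J).fixed_decomp (A.le_fix hg)
    (e ▸ (A.orbit J).conj_mem_levi (G.nw_mem_monomial _) hact hu)
    (e ▸ (A.orbit J).conj_not_borel hact hu hu1)
  refine ⟨n, ?_, hn.2, hnact, a, ha, v, hv, n⁻¹ * g * n,
    A.conj_back hn.1 hn.2 hnact (A.le_fix hg) hu e, by rw [e']; group⟩
  rw [show n = a⁻¹ * g * v⁻¹ by rw [e']; group]
  exact mul_mem (mul_mem (inv_mem (A.X_le J ha)) hg) (inv_mem (A.X_le J hv))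

/-- The chosen representatives. -/
noncomputable def n (J : Fin orbs.length) : GL D.Idx F := (A.exists_n J).choose

theorem n_mem (J : Fin orbs.length) : A.n J ∈ G1 := (A.exists_n J).choose_spec.1

theorem n_mono (J : Fin orbs.length) : A.n J ∈ D.monomialSubgroup F :=
  (A.exists_n J).choose_spec.2.1

theorem n_act (J : Fin orbs.length) : G.full.RootAct (A.n J) (G.full.pw (wd J)) :=
  (A.exists_n J).choose_spec.2.2.1

theorem prod_act : ∀ L : List (Fin orbs.length),
    (L.map A.n).prod ∈ D.monomialSubgroup F ∧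
      G.full.RootAct (L.map A.n).prod (G.full.pw (L.flatMap wd)) := by
  intro L
  induction L with
  | nil => exact ⟨one_mem _, by simpa [Full.pw] using G.rootAct_one (F := F)⟩
  | cons J L ih =>
    rw [List.map_cons, List.prod_cons, List.flatMap_cons, G.pw_append]
    exact ⟨mul_mem (A.n_mono J) ih.1, G.rootAct_mul (A.n_act J) ih.2⟩

/-- The twisted group. -/
noncomputable def twisted (hH : Φ.Fix ⊓ D.diagonalSubgroup F ≤ G1) : Good.Twisted Φ where
  nJ := orbs.length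
  orb J := toFins D.rank (orbs.getD J [])
  word J := toFins D.rank (words.getD J [])
  cover := A.spec.cover
  orb_trans := A.spec.orb_trans
  orb_ne := A.spec.orb_ne
  orb_disj := A.spec.orb_disj
  flip := A.spec.flip
  comm := A.spec.comm
  invol := A.spec.invol
  G1 := G1
  le_fix := A.le_fix
  H0 := Φ.Fix ⊓ D.diagonalSubgroup F
  H0_le := hH
  H0_diag := inf_le_right
  n := A.n
  n_mem := A.n_mem
  n_mono := A.n_mono
  n_act := A.n_act
  X_le := A.X_le
  gen := by
    refine A.gen.trans ((Subgroup.closure_le _).mpr fun g hg => ?_)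
    obtain ⟨J, hJ⟩ := Set.mem_iUnion.mp hg
    rcases hJ with hJ | ⟨hfix, u, hu, e⟩
    · exact Subgroup.subset_closure (Or.inl (Set.mem_iUnion.mpr ⟨J, hJ⟩))
    have hu' := A.conj_back (A.le_fix (A.n_mem J)) (A.n_mono J) (A.n_act J) hfix hu e
    rw [show g = A.n J * ((A.n J)⁻¹ * g * A.n J) * (A.n J)⁻¹ by group]
    exact mul_mem (mul_mem (Subgroup.subset_closure (Or.inr ⟨J, rfl⟩))
      (Subgroup.subset_closure (Or.inl (Set.mem_iUnion.mpr ⟨J, hu'⟩))))
      (inv_mem (Subgroup.subset_closure (Or.inr ⟨J, rfl⟩)))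
  n_sq J := by
    refine Subgroup.mem_inf.mpr ⟨A.le_fix (mul_mem (A.n_mem J) (A.n_mem J)), ?_⟩
    refine A.diag_of_word (mul_mem (A.n_mono J) (A.n_mono J)) (M := wd J ++ wd J) ?_
      (by rw [G.pw_append]; exact A.spec.invol J)
    rw [G.pw_append]
    exact G.rootAct_mul (A.n_act J) (A.n_act J)
  n_conj J h hh := by
    refine Subgroup.mem_inf.mpr ⟨mul_mem (mul_mem (A.le_fix (A.n_mem J)) hh.1)
      (inv_mem (A.le_fix (A.n_mem J))), ?_⟩
    have := G.diagonal_normal.conj_mem ⟨h, Subgroup.mem_sup_left hh.2⟩ hh.2 ⟨_, A.n_mono J⟩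
    rwa [Subgroup.mem_subgroupOf] at this
  torus_word L hL := by
    obtain ⟨hm, hact⟩ := A.prod_act L
    exact Subgroup.mem_inf.mpr ⟨A.le_fix (list_prod_mem fun x hx => by
      obtain ⟨J, -, rfl⟩ := List.mem_map.mp hx
      exact A.n_mem J), A.diag_of_word hm hact hL⟩
  rank_one J u hu hne := by
    obtain ⟨a, ha, h, hh, b, hb, e⟩ :=
      (A.orbit J).rank_one (A.le_fix (A.n_mem J)) (A.n_mono J) (A.n_act J) hu hne
    exact ⟨a, ⟨ha.1, G.flip_le_pos _ ha.2⟩, h, hh, b, hb, e⟩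

theorem n_mem_commutator (J : Fin orbs.length) (hX : Φ.Fix ⊓ G.US F (flipSet (G.full.pw (wd J))) ≤
    ⁅G1, G1⁆) : A.n J ∈ ⁅G1, G1⁆ := by
  obtain ⟨a, ha, v, hv, u, hu, e⟩ := (A.exists_n J).choose_spec.2.2.2
  change A.n J = _ at e
  rw [e]
  refine mul_mem (mul_mem (inv_mem (hX ha)) ?_) (inv_mem (hX hv))
  change A.n J * u * (A.n J)⁻¹ ∈ _
  rw [show A.n J * u * (A.n J)⁻¹ = A.n J * u * (A.n J)⁻¹ * u⁻¹ * u by group]
  exact mul_mem (Subgroup.commutator_mem_commutator (A.n_mem J) (A.X_le J hu)) (hX hu)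

end Good.GenData

end Tab

end CfsgLib.Chev
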