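import Cfsg.Agent.Chev.Twisted
import Cfsg.Agent.Chev.CoxeterW

/-!
Certificates for the orbits of fundamental roots of a twisted group.
-/

set_option autoImplicit false

namespace CfsgLib.Chev

open Cfsg.Lie Matrix
open scoped MatrixGroups

namespace Tab

variable {D : ChevalleyDatum}

/-- A list of numbers as a list of elements of `Fin n`. -/
def toFins (n : ℕ) (l : List ℕ) : List (Fin n) :=
  l.filterMap fun i => if h : i < n then some ⟨i, h⟩ else none

theorem map_toFins {n : ℕ} {l : List ℕ} (h : ∀ i ∈ l, i < n) :
    (toFins n l).map Fin.val = l := by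
  induction l with
  | nil => rfl
  | cons a l ih =>
    have ha : a < n := h a (List.mem_cons_self ..)
    simp [toFins, ha] at ih ⊢
    exact ih (fun x hx => h x (List.mem_cons_of_mem _ hx))

theorem mem_toFins {n : ℕ} {l : List ℕ} (i : Fin n) : i ∈ toFins n l ↔ i.val ∈ l := by
  simp only [toFins, List.mem_filterMap]
  constructor
  · rintro ⟨a, ha, h⟩
    by_cases hlt : a < n
    · rw [dif_pos hlt, Option.some_inj] at h
      exact h ▸ ha
    · rw [dif_neg hlt] at h
      exact absurd h (by simp)
  · exact fun h => ⟨i.val, h, by simp⟩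

/-- The iterates of a list seen as a function. -/
def iterL (rho : List ℕ) : ℕ → ℕ → ℕ
  | 0, a => a
  | k + 1, a => rho.getD (iterL rho k a) 0

/-- The orbits of fundamental roots, with words for their longest elements. -/
def chkOrbit (T : Tab D) (pi : ℕ → ℕ) (rho : List ℕ) (orb word : List ℕ) : Bool :=
  !orb.isEmpty && orb.all (fun i => Nat.blt i D.rank) && word.all (fun i => orb.contains i) &&
    orb.all (fun a => orb.all fun b =>
      (List.range D.rank).any fun k => Nat.beq (iterL rho k a) b) &&
    allBelow (fun s =>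
      (Nat.blt (Nat.mul 2 s) D.nroots ||
        (Nat.blt (Nat.mul 2 (T.wordT word s)) D.nroots ==
          (List.range D.rank).all fun i => orb.contains i || decide (T.cor s i = 0))) &&
      Nat.beq (T.wordT word (pi s)) (pi (T.wordT word s)) &&
      Nat.beq (T.wordT word (T.wordT word s)) s) D.nroots

/-- All orbits. -/
def chkOrbits (T : Tab D) (pi : ℕ → ℕ) (rho : List ℕ) (orbs words : List (List ℕ)) : Bool :=
  Nat.beq words.length orbs.length &&
    allBelow (fun J => T.chkOrbit pi rho (orbs.getD J []) (words.getD J [])) orbs.length &&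
    allBelow (fun i => (List.range orbs.length).any fun J => (orbs.getD J []).contains i) D.rank &&
    allBelow (fun J => allBelow (fun J' =>
      Nat.beq J J' || (orbs.getD J []).all fun i => !((orbs.getD J' []).contains i)) orbs.length)
      orbs.length

/-- The combinatorial fields of a twisted group. -/
structure Good.TwSpec {T : Tab D} {G : T.Good} {F : Type*} [Field F] (Φ : G.Graph F)
    (orbs words : List (List ℕ)) where
  cover : ∀ i : Fin D.rank, ∃ J : Fin orbs.length, i ∈ toFins D.rank (orbs.getD J [])
  orb_trans : ∀ J : Fin orbs.length, ∀ a ∈ toFins D.rank (orbs.getD J []),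
    ∀ b ∈ toFins D.rank (orbs.getD J []), ∃ k : ℕ, (Φ.ρ ^ k) a = b
  orb_ne : ∀ J : Fin orbs.length, toFins D.rank (orbs.getD J []) ≠ []
  orb_disj : ∀ (J J' : Fin orbs.length) i, i ∈ toFins D.rank (orbs.getD J []) →
    i ∈ toFins D.rank (orbs.getD J' []) → J = J'
  word_mem : ∀ J : Fin orbs.length, ∀ i ∈ toFins D.rank (words.getD J []),
    i ∈ toFins D.rank (orbs.getD J [])
  flip : ∀ (J : Fin orbs.length) (s : Fin D.nroots), IsPos D s.val →
    (¬ IsPos D (G.full.pw (toFins D.rank (words.getD J [])) s).val ↔
      ∀ i, i ∉ toFins D.rank (orbs.getD J []) → T.cor s.val i.val = 0)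
  comm : ∀ (J : Fin orbs.length) (s : Fin D.nroots),
    G.full.pw (toFins D.rank (words.getD J [])) (Φ.π s) =
      Φ.π (G.full.pw (toFins D.rank (words.getD J [])) s)
  invol : ∀ J : Fin orbs.length,
    G.full.pw (toFins D.rank (words.getD J [])) * G.full.pw (toFins D.rank (words.getD J [])) = 1
  map_word : ∀ J : Fin orbs.length,
    (toFins D.rank (words.getD J [])).map Fin.val = words.getD J []

theorem Good.twSpec {T : Tab D} {G : T.Good} {F : Type*} [Field F] (Φ : G.Graph F)
    {pi : ℕ → ℕ} (hpi : ∀ s, (Φ.π s).val = pi s.val) {rho : List ℕ}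
    (hrho : ∀ i, (Φ.ρ i).val = rho.getD i.val 0) {orbs words : List (List ℕ)}
    (h : T.chkOrbits pi rho orbs words = true) : G.TwSpec Φ orbs words := by
  simp only [chkOrbits, chkOrbit, allBelow_iff, Bool.and_eq_true, Bool.or_eq_true, Nat.beq_eq,
    List.all_eq_true, List.any_eq_true, List.mem_range, Nat.blt_eq, List.contains_iff_mem,
    Bool.not_eq_true', beq_iff_eq, List.isEmpty_eq_false_iff] at h
  obtain ⟨⟨⟨-, hO⟩, hcov⟩, hdisj⟩ := h
  have hwlt : ∀ J : Fin orbs.length, ∀ i ∈ words.getD J [], i < D.rank := fun J i hi =>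
    (hO J J.isLt).1.1.1.2 i ((hO J J.isLt).1.1.2 i hi)
  have hpw : ∀ (J : Fin orbs.length) (s : Fin D.nroots),
      (G.full.pw (toFins D.rank (words.getD J [])) s).val = T.wordT (words.getD J []) s.val :=
    fun J s => by rw [G.pw_apply, map_toFins (hwlt J)]
  have hiter : ∀ (k : ℕ) (a : Fin D.rank), ((Φ.ρ ^ k) a).val = iterL rho k a.val := by
    intro k
    induction k with
    | zero => intro a; rfl
    | succ k ih => intro a; rw [pow_succ', Equiv.Perm.mul_apply, hrho, ih]; rfl
  exact
    { cover := fun i => by
        obtain ⟨J, hJ, hi⟩ := hcov i i.isLt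
        exact ⟨⟨J, hJ⟩, (mem_toFins i).mpr hi⟩
      orb_trans := fun J a ha b hb => by
        obtain ⟨k, -, hk⟩ := (hO J J.isLt).1.2 a ((mem_toFins a).mp ha) b ((mem_toFins b).mp hb)
        exact ⟨k, Fin.ext ((hiter k a).trans hk)⟩
      orb_ne := fun J he => by
        obtain ⟨i, hi⟩ := List.exists_mem_of_ne_nil _ (hO J J.isLt).1.1.1.1
        have hlt := (hO J J.isLt).1.1.1.2 i hi
        have := (mem_toFins (⟨i, hlt⟩ : Fin D.rank)).mpr hi
        rw [he] at this
        exact List.not_mem_nil this
      orb_disj := fun J J' i hi hi' => by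
        rcases hdisj J J.isLt J' J'.isLt with h | h
        · exact Fin.ext h
        · have := h i.val ((mem_toFins i).mp hi)
          rw [← Bool.not_eq_true, List.contains_iff_mem] at this
          exact absurd ((mem_toFins i).mp hi') this
      word_mem := fun J i hi => (mem_toFins i).mpr ((hO J J.isLt).1.1.2 i ((mem_toFins i).mp hi))
      flip := fun J s hs => by
        rcases ((hO J J.isLt).2 s s.isLt).1.1 with h | h
        · have h' : 2 * s.val < D.nroots := h
          exact absurd hs.2 (by omega)
        · have hp : ¬ IsPos D (G.full.pw (toFins D.rank (words.getD J [])) s).val ↔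
              Nat.blt (Nat.mul 2 (T.wordT (words.getD J []) s.val)) D.nroots = true := by
            rw [Nat.blt_eq, ← hpw]
            exact ⟨fun h1 => Nat.lt_of_not_le fun h2 => h1 ⟨Fin.isLt _, h2⟩,
              fun h1 h2 => absurd h2.2 (Nat.not_le.mpr h1)⟩
          rw [hp, h, List.all_eq_true]
          simp only [List.mem_range, Bool.or_eq_true, List.contains_iff_mem, decide_eq_true_eq,
            mem_toFins]
          exact ⟨fun h i hi => (h i i.isLt).resolve_left hi,
            fun h i hi => or_iff_not_imp_left.mpr fun hn => h ⟨i, hi⟩ hn⟩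
      comm := fun J s => Fin.ext (by
        rw [hpw, hpi, hpi, hpw]; exact ((hO J J.isLt).2 s s.isLt).1.2)
      invol := fun J => Equiv.ext fun s => Fin.ext (by
        rw [Equiv.Perm.mul_apply, hpw, hpw]; exact ((hO J J.isLt).2 s s.isLt).2)
      map_word := fun J => map_toFins (hwlt J) }

end Tab

end CfsgLib.Chev
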