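import Cfsg.Agent.Chev.TwoGenerated

/-! Two generators of the seven tabulated types. -/

set_option autoImplicit false
set_option maxRecDepth 4000

namespace CfsgLib.Chev.TwoGenData

open Cfsg.Lie CfsgLib.Chev.Tab

variable {F : Type*} [Field F]

def stE6 : List GenStep := [
  .cm 2 45 9, .cm 2 62 26, .cm 2 66 29, .cm 2 68 34, .cm 7 26 1, .cm 7 29 4, .cm 7 33 5,
  .cm 7 53 15, .cm 7 62 32, .cm 7 66 38, .cm 9 17 0, .cm 9 66 41, .cm 14 17 3, .cm 14 31 12,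
  .cm 14 32 13, .cm 14 62 48, .cm 14 68 54, .cm 15 17 6, .cm 15 21 10, .cm 15 26 11, .cm 15 62 51,
  .cm 15 66 55, .cm 17 34 16, .cm 17 45 24, .cm 17 53 35, .cm 17 55 37, .cm 17 68 57, .cm 21 31 18,
  .cm 21 33 19, .cm 21 34 20, .cm 21 53 40, .cm 21 68 60, .cm 24 33 22, .cm 24 34 23, .cm 24 53 44,
  .cm 26 38 28, .cm 26 54 47, .cm 26 60 56, .cm 26 68 61, .cm 28 34 27, .cm 28 54 49, .cm 28 68 63,
  .cm 29 68 65, .cm 31 35 30, .cm 31 41 36, .cm 31 44 42, .cm 31 48 46, .cm 31 53 50, .cm 31 55 52,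
  .cm 33 10 8, .cm 33 41 39, .cm 33 45 43, .cm 33 60 58, .cm 33 66 64, .cm 35 60 59, .cm 35 68 67,
  .cm 37 68 69, .cm 39 24 25, .cm 39 69 70, .cm 46 70 71]

theorem twoGenE6 [Fintype F] : ∃ x y : ↥(chevE6.group F), Subgroup.closure ({x, y} : Set ↥(chevE6.group F)) = ⊤ :=
  good_E6.two_gen_A (List.finRange 6) [1, 0, 0, 0, 0, 0] 2 1 12 stE6 (by decide +kernel)

def stE7 : List GenStep := [
  .cm 3 68 6, .cm 3 91 24, .cm 3 100 33, .cm 3 120 58, .cm 5 54 2, .cm 5 91 26, .cm 5 100 36,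
  .cm 5 122 67, .cm 6 100 37, .cm 6 110 45, .cm 6 115 47, .cm 6 120 63, .cm 8 25 0, .cm 8 47 4,
  .cm 8 71 14, .cm 8 110 53, .cm 8 115 60, .cm 10 57 7, .cm 10 71 16, .cm 10 110 55, .cm 10 117 65,
  .cm 14 55 9, .cm 14 58 11, .cm 14 110 62, .cm 14 120 80, .cm 15 34 1, .cm 15 115 70, .cm 15 117 72,
  .cm 16 57 12, .cm 16 58 13, .cm 16 100 51, .cm 16 110 64, .cm 16 120 82, .cm 24 53 17, .cm 24 55 19,
  .cm 24 62 23, .cm 24 100 61, .cm 24 110 74, .cm 25 53 18, .cm 25 80 31, .cm 25 120 89, .cm 25 122 92,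
  .cm 26 53 20, .cm 26 54 21, .cm 26 55 22, .cm 26 100 66, .cm 26 110 76, .cm 31 53 27, .cm 31 54 28,
  .cm 31 55 29, .cm 31 110 88, .cm 33 65 35, .cm 33 71 39, .cm 33 72 40, .cm 33 76 43, .cm 33 82 49,
  .cm 33 117 95, .cm 34 68 38, .cm 34 72 41, .cm 34 80 48, .cm 34 82 50, .cm 34 89 59, .cm 34 120 99,
  .cm 34 122 101, .cm 35 122 102, .cm 36 72 42, .cm 36 117 97, .cm 37 74 44, .cm 37 76 46, .cm 37 110 94,
  .cm 37 115 96, .cm 37 117 98, .cm 39 82 52, .cm 39 89 69, .cm 39 102 93, .cm 39 120 103, .cm 39 122 106,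
  .cm 40 122 107, .cm 41 120 105, .cm 41 122 108, .cm 43 91 75, .cm 43 120 109, .cm 43 122 112, .cm 44 92 77,
  .cm 44 122 113, .cm 45 120 111, .cm 45 122 114, .cm 47 120 116, .cm 47 122 118, .cm 48 89 79, .cm 48 92 81,
  .cm 48 117 104, .cm 53 68 56, .cm 53 77 73, .cm 53 82 78, .cm 53 89 83, .cm 53 91 84, .cm 53 92 85,
  .cm 54 92 86, .cm 56 31 30, .cm 57 91 87, .cm 57 122 119, .cm 59 122 121, .cm 60 92 90, .cm 69 122 123,
  .cm 73 31 32, .cm 73 123 124, .cm 93 124 125]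

theorem twoGenE7 [Fintype F] : ∃ x y : ↥(chevE7.group F), Subgroup.closure ({x, y} : Set ↥(chevE7.group F)) = ⊤ :=
  good_E7.two_gen_A (List.finRange 7) [1, 0, 0, 0, 0, 0, 0] 3 2 18 stE7 (by decide +kernel)

def stE8 : List GenStep := [
  .cm 0 161 12, .cm 0 203 33, .cm 0 218 52, .cm 0 224 66, .cm 0 235 110, .cm 0 236 114, .cm 0 237 117,
  .cm 0 238 119, .cm 1 203 34, .cm 1 218 53, .cm 1 224 67, .cm 1 234 106, .cm 1 235 111, .cm 1 236 115,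
  .cm 1 237 118, .cm 1 239 120, .cm 2 218 54, .cm 2 224 68, .cm 2 226 79, .cm 2 234 107, .cm 2 235 112,
  .cm 2 236 116, .cm 2 238 121, .cm 2 239 122, .cm 3 204 37, .cm 3 224 69, .cm 3 226 81, .cm 3 234 108,
  .cm 3 235 113, .cm 3 237 123, .cm 3 238 124, .cm 3 239 125, .cm 4 184 22, .cm 4 204 40, .cm 4 226 84,
  .cm 4 234 109, .cm 4 236 126, .cm 4 237 127, .cm 4 238 128, .cm 4 239 129, .cm 5 169 16, .cm 5 184 26,
  .cm 5 204 46, .cm 5 226 88, .cm 5 235 130, .cm 5 236 131, .cm 5 237 132, .cm 5 238 133, .cm 12 106 8,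
  .cm 12 111 9, .cm 12 115 10, .cm 12 118 11, .cm 12 169 38, .cm 12 184 57, .cm 12 204 71, .cm 12 234 150,
  .cm 12 235 154, .cm 12 236 157, .cm 12 237 159, .cm 13 169 39, .cm 13 184 58, .cm 13 204 72, .cm 13 234 151,
  .cm 13 235 155, .cm 13 236 158, .cm 13 237 160, .cm 15 131 17, .cm 15 132 18, .cm 15 133 19, .cm 15 134 20,
  .cm 15 157 41, .cm 15 158 42, .cm 15 159 43, .cm 15 160 44, .cm 15 161 45, .cm 15 203 87, .cm 15 218 103,
  .cm 15 236 170, .cm 15 237 171, .cm 15 238 172, .cm 15 239 173, .cm 16 157 47, .cm 16 158 48, .cm 16 159 49,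
  .cm 16 160 50, .cm 16 161 51, .cm 16 203 91, .cm 16 218 104, .cm 16 236 174, .cm 16 237 175, .cm 16 238 176,
  .cm 16 239 177, .cm 17 203 92, .cm 17 237 178, .cm 17 238 179, .cm 17 239 180, .cm 18 238 181, .cm 18 239 182,
  .cm 19 72 7, .cm 19 204 99, .cm 19 239 183, .cm 20 184 80, .cm 20 204 100, .cm 20 226 162, .cm 21 70 6,
  .cm 21 92 14, .cm 21 127 23, .cm 21 128 24, .cm 21 129 25, .cm 21 132 27, .cm 21 133 28, .cm 21 134 29,
  .cm 21 159 59, .cm 21 160 60, .cm 21 161 61, .cm 21 182 82, .cm 21 183 83, .cm 21 203 96, .cm 21 224 136,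
  .cm 21 237 185, .cm 21 238 186, .cm 21 239 187, .cm 22 132 30, .cm 22 133 31, .cm 22 134 32, .cm 22 159 62,
  .cm 22 160 63, .cm 22 161 64, .cm 22 182 85, .cm 22 183 86, .cm 22 203 97, .cm 22 224 137, .cm 22 237 188,
  .cm 22 238 189, .cm 22 239 190, .cm 23 161 65, .cm 23 224 138, .cm 23 238 191, .cm 23 239 192, .cm 24 224 139,
  .cm 24 239 193, .cm 25 224 140, .cm 25 226 163, .cm 26 182 89, .cm 26 183 90, .cm 26 191 93, .cm 26 192 94,
  .cm 26 193 95, .cm 26 203 98, .cm 26 237 194, .cm 26 238 195, .cm 26 239 196, .cm 27 238 197, .cm 27 239 198,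
  .cm 28 239 199, .cm 29 226 164, .cm 30 238 200, .cm 30 239 201, .cm 31 239 202, .cm 32 226 165, .cm 34 226 166,
  .cm 35 226 167, .cm 36 138 56, .cm 36 161 73, .cm 36 183 101, .cm 36 218 143, .cm 36 224 152, .cm 36 238 205,
  .cm 36 239 206, .cm 37 161 74, .cm 37 183 102, .cm 37 218 144, .cm 37 224 153, .cm 37 238 207, .cm 37 239 208,
  .cm 38 218 145, .cm 38 239 209, .cm 39 218 146, .cm 40 161 75, .cm 40 209 141, .cm 40 224 156, .cm 40 238 210,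
  .cm 40 239 211, .cm 41 239 212, .cm 43 239 213, .cm 46 161 76, .cm 46 209 142, .cm 46 238 214, .cm 46 239 215,
  .cm 47 239 216, .cm 49 239 217, .cm 56 161 77, .cm 56 193 135, .cm 56 209 147, .cm 56 212 148, .cm 56 213 149,
  .cm 56 238 219, .cm 56 239 220, .cm 57 239 221, .cm 59 239 222, .cm 62 239 223, .cm 71 239 225, .cm 78 239 227,
  .cm 79 239 228, .cm 80 203 168, .cm 81 239 229, .cm 84 239 230, .cm 88 239 231, .cm 93 239 232, .cm 99 239 233]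

theorem twoGenE8 [Fintype F] : ∃ x y : ↥(chevE8.group F), Subgroup.closure ({x, y} : Set ↥(chevE8.group F)) = ⊤ :=
  good_E8.two_gen_A (List.finRange 8) [1, 0, 0, 0, 0, 0, 0, 0] 0 1 30 stE8 (by decide +kernel)

def stD4 : List GenStep := [
  .cm 1 9 0, .cm 1 13 3, .cm 1 18 6, .cm 1 21 11, .cm 2 13 4, .cm 2 18 7, .cm 2 22 12,
  .cm 5 21 16, .cm 5 22 17, .cm 10 21 19, .cm 10 22 20, .cm 14 22 23]

theorem twoGenD4 [Fintype F] (hF : 3 ≤ Fintype.card F) :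
    ∃ x y : ↥(chevD4.group F), Subgroup.closure ({x, y} : Set ↥(chevD4.group F)) = ⊤ :=
  good_D4.two_gen_B hF (List.finRange 4) [1, 1, 0, 0] 1 1 6 2 13 6 stD4 (by decide +kernel)

def stF4 : List GenStep := [
  .cm 0 32 5, .cm 0 46 23, .cm 1 45 22, .cm 1 47 24, .cm 2 37 9, .cm 2 41 16, .cm 2 46 25,
  .cm 3 37 11, .cm 3 40 14, .cm 3 46 28, .cm 5 22 4, .cm 5 45 30, .cm 6 34 12, .cm 6 45 31,
  .cm 7 39 20, .cm 7 44 33, .cm 7 46 35, .cm 8 40 27, .cm 8 47 38, .cm 10 34 19, .cm 10 41 17,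
  .cm 10 44 36, .cm 15 39 43, .cm 15 47 42]

theorem twoGenF4 [Fintype F] (hF : 3 ≤ Fintype.card F) :
    ∃ x y : ↥(chevF4.group F), Subgroup.closure ({x, y} : Set ↥(chevF4.group F)) = ⊤ :=
  good_F4.two_gen_B hF (List.finRange 4) [1, 1, 1, 0] 0 1 12 3 10 12 stF4 (by decide +kernel)

def stB2 : List GenStep := []

theorem twoGenB2 [Fintype F] (hF : 3 ≤ Fintype.card F) :
    ∃ x y : ↥(chevB2.group F), Subgroup.closure ({x, y} : Set ↥(chevB2.group F)) = ⊤ :=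
  good_B2.two_gen_B hF (List.finRange 2) [0, 1] 0 1 4 1 2 4 stB2 (by decide +kernel)

def stG2 : List GenStep := []

theorem twoGenG2 [Fintype F] (hF : 3 ≤ Fintype.card F) :
    ∃ x y : ↥(chevG2.group F), Subgroup.closure ({x, y} : Set ↥(chevG2.group F)) = ⊤ :=
  good_G2.two_gen_B hF (List.finRange 2) [0, 1] 2 1 6 0 1 6 stG2 (by decide +kernel)

def stD4Two : List GenStep := [
  .cm 2 8 0, .cm 2 13 4, .cm 8 10 6, .cm 10 21 19, .cm 13 15 17, .cm 15 21 23, .ys 0 1,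
  .wt 1 18, .wt 18 14, .wt 14 22, .wt 22 5, .wt 5 9, .ys 8 11, .wt 11 20,
  .wt 20 16, .wt 16 12, .wt 12 3, .wt 3 7]

theorem twoGenD4Two [Fintype F] (hF : Fintype.card F = 2) :
    ∃ x y : ↥(chevD4.group F), Subgroup.closure ({x, y} : Set ↥(chevD4.group F)) = ⊤ :=
  good_D4.two_gen_C hF (List.finRange 4) 1 2 6 stD4Two (by decide +kernel)

def stF4Two : List GenStep := [
  .cm 0 32 5, .cm 0 46 23, .cm 1 45 22, .cm 1 47 24, .cm 2 41 16, .cm 2 46 25, .cm 5 22 4,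
  .cm 5 45 30, .cm 6 45 31, .cm 15 26 17, .cm 15 47 42, .cm 16 47 43, .ys 4 8, .wt 8 18,
  .wt 18 34, .wt 34 37, .wt 37 44, .wt 44 40, .wt 40 39, .wt 39 29, .wt 29 13,
  .wt 13 10, .wt 10 3, .wt 3 7, .ys 5 9, .wt 9 19, .wt 19 11, .wt 11 33,
  .wt 33 27, .wt 27 35, .wt 35 38, .wt 38 28, .wt 28 36, .wt 36 14, .wt 14 20,
  .wt 20 12]

theorem twoGenF4Two [Fintype F] (hF : Fintype.card F = 2) :
    ∃ x y : ↥(chevF4.group F), Subgroup.closure ({x, y} : Set ↥(chevF4.group F)) = ⊤ :=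
  good_F4.two_gen_C hF (List.finRange 4) 0 0 12 stF4Two (by decide +kernel)

end CfsgLib.Chev.TwoGenData
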