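import Cfsg.Agent.Chev.Levi
import Cfsg.Agent.Chev.Steinberg
import Mathlib.RingTheory.IntegralDomain

/-!
Weakly closed subgroups of the maximal unipotent subgroup are unipotent radicals.
-/

set_option autoImplicit false

namespace CfsgLib.Chev

open Cfsg.Lie Matrix
open scoped MatrixGroups

namespace Tab

variable {D : ChevalleyDatum}

/-- Two nodes and exponents giving a torus element trivial on `k` with a small exponent on `r`. -/
def sepOK (T : Tab D) (bound r k : ℕ) (w : ℕ × ℕ × ℤ × ℤ) : Bool :=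
  Nat.blt w.1 D.rank && Nat.blt w.2.1 D.rank &&
    decide (w.2.2.1 * T.cart w.1 k + w.2.2.2 * T.cart w.2.1 k = 0) &&
    Nat.ble 1 (w.2.2.1 * T.cart w.1 r + w.2.2.2 * T.cart w.2.1 r).natAbs &&
    Nat.ble (w.2.2.1 * T.cart w.1 r + w.2.2.2 * T.cart w.2.1 r).natAbs bound

/-- The candidates for such nodes and exponents. -/
def sepCand (T : Tab D) (k a b : ℕ) : ℕ × ℕ × ℤ × ℤ :=
  (a, b,
    -(T.cart b k) / ((Nat.gcd (T.cart a k).natAbs (T.cart b k).natAbs : ℕ) : ℤ),
    T.cart a k / ((Nat.gcd (T.cart a k).natAbs (T.cart b k).natAbs : ℕ) : ℤ))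

/-- The torus separates `r` from `k`. -/
def chkSep (T : Tab D) (bound r k : ℕ) : Bool :=
  (List.range D.rank).any fun a => T.sepOK bound r k (a, a, 1, 0) ||
    (List.range D.rank).any fun b => T.sepOK bound r k (T.sepCand k a b)

/-- The coefficient of a root in a list of commutator terms, at `t = u = 1`. -/
def coefAt : ℕ → List (ℕ × ℤ × ℕ × ℕ) → ℤ
  | _, [] => 0
  | r, c :: L => cond (Nat.beq c.1 r) (c.2.1 * (-1) ^ c.2.2.1 + coefAt r L) (coefAt r L)

/-- The commutator of two earlier roots has the term of `r` with coefficient `±1`. -/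
def chkWitness (T : Tab D) (r : ℕ) (w : ℕ × ℕ) : Bool :=
  Nat.blt w.1 r && Nat.blt w.2 r && Nat.ble D.nroots (Nat.mul 2 w.1) &&
    Nat.ble D.nroots (Nat.mul 2 w.2) && !(Nat.beq w.2 w.1) &&
    Nat.beq (coefAt r (T.commT w.1 w.2)).natAbs 1

/-- The certificate: separations, except for the listed roots, and generation witnesses. -/
def chkWC (T : Tab D) (bound : ℕ) (exc : List ℕ) (wit : List (ℕ × ℕ)) : Bool :=
  allBelow (fun r => Nat.blt (Nat.mul 2 r) D.nroots ||
    (((List.range D.rank).any fun i => Nat.beq (D.simple i) r) &&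
      allBelow (fun k => Nat.blt (Nat.mul 2 k) D.nroots || Nat.beq k r || exc.contains k ||
        T.chkSep bound r k) D.nroots) ||
    (T.chkWitness r (wit.getD (r - D.nroots / 2) (0, 0)) &&
      allBelow (fun k => Nat.ble k r || exc.contains k || T.chkSep bound r k) D.nroots)) D.nroots

namespace Good

variable {T : Tab D} (G : T.Good) {F : Type*} [Field F]
include G

theorem exists_sep [Fintype F] {bound r k : ℕ} (hF : bound + 1 < Fintype.card F)
    (h : T.chkSep bound r k = true) :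
    ∃ c : Fin D.rank → Fˣ, (T.chi k c : F) = 1 ∧ (T.chi r c : F) ≠ 1 := by
  classical
  obtain ⟨w, hw⟩ : ∃ w, T.sepOK bound r k w = true := by
    simp only [chkSep, List.any_eq_true, Bool.or_eq_true] at h
    obtain ⟨a, -, h | ⟨b, -, h⟩⟩ := h <;> exact ⟨_, h⟩
  simp only [sepOK, Bool.and_eq_true, Nat.blt_eq, Nat.ble_eq, decide_eq_true_eq] at hw
  obtain ⟨⟨⟨⟨ha, hb⟩, hk⟩, h1⟩, h2⟩ := hw
  obtain ⟨g, hg⟩ := IsCyclic.exists_generator (α := Fˣ)
  have hord : orderOf g = Fintype.card F - 1 := by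
    rw [orderOf_eq_card_of_forall_mem_zpowers hg, Nat.card_eq_fintype_card, Fintype.card_units]
  let c : Fin D.rank → Fˣ :=
    Pi.mulSingle ⟨w.1, ha⟩ (g ^ w.2.2.1) * Pi.mulSingle ⟨w.2.1, hb⟩ (g ^ w.2.2.2)
  have hs : ∀ (s : ℕ) (i : Fin D.rank) (u : Fˣ),
      T.chi (F := F) s (Pi.mulSingle i u) = u ^ T.cart i s := fun s i u => by
    show ∏ j, (Pi.mulSingle i u : Fin D.rank → Fˣ) j ^ T.cart j s = _
    rw [Finset.prod_eq_single i (fun j _ hj => by simp [hj]) (by simp)]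
    simp
  have hc : ∀ s, T.chi (F := F) s c =
      g ^ (w.2.2.1 * T.cart w.1 s + w.2.2.2 * T.cart w.2.1 s) := fun s => by
    rw [map_mul, hs, hs, _root_.zpow_add, _root_.zpow_mul, _root_.zpow_mul]
  refine ⟨c, by rw [hc, hk, _root_.zpow_zero, Units.val_one], fun e => ?_⟩
  rw [Units.val_eq_one, hc, ← orderOf_dvd_iff_zpow_eq_one, hord] at e
  have e' := Int.natCast_dvd.mp e
  have := Nat.le_of_dvd (by omega) e'
  omega

/-- The ordered product over a larger set. -/
theorem segProd_extend {S S' : Set ℕ} (hSS : ∀ s ∈ S, s ∈ S') [DecidablePred (· ∈ S)]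
    (f : ℕ → F) : ∀ m k,
    G.segProd S' (fun s => if s ∈ S then f s else 0) k m = G.segProd S f k m := by
  intro m
  induction m with
  | zero => intro k; rfl
  | succ m ih =>
    intro k
    simp only [segProd, ih (k + 1)]
    by_cases hk : k ∈ S
    · rw [if_pos hk, if_pos (hSS k hk), if_pos hk]
    · rw [if_neg hk, if_neg hk]
      split_ifs <;> simp [G.full.x_zero]

theorem US_inf {A B : Set ℕ} (hA : T.Closed A) (hB : T.Closed B) {u : GL D.Idx F}
    (ha : u ∈ G.US F A) (hb : u ∈ G.US F B) : u ∈ G.US F (A ∩ B) := by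
  classical
  have hAB : T.Closed (A ∩ B) :=
    ⟨fun r hr => hA.1 r hr.1, fun r hr s hs c hc =>
      ⟨hA.2 r hr.1 s hs.1 c hc, hB.2 r hr.2 s hs.2 c hc⟩⟩
  rw [← SetLike.mem_coe, G.US_eq_range hA] at ha
  rw [← SetLike.mem_coe, G.US_eq_range hB] at hb
  obtain ⟨a, rfl⟩ := ha
  obtain ⟨b, hb⟩ := hb
  have e : G.segProd {r | IsPos D r} (fun s => if s ∈ B then b s else 0) 0 D.nroots =
      G.segProd {r | IsPos D r} (fun s => if s ∈ A then a s else 0) 0 D.nroots := by
    rw [G.segProd_extend (S' := {r | IsPos D r}) hB.1, G.segProd_extend (S' := {r | IsPos D r}) hA.1]; exact hb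
  have hz := G.segProd_injective G.closed_pos D.nroots 0 _ _ (zero_add _) e
  have e2 : G.segProd A a 0 D.nroots = G.segProd (A ∩ B) a 0 D.nroots := by
    rw [← G.segProd_extend (S' := {r | IsPos D r}) hA.1, ← G.segProd_extend (S := A ∩ B) (S' := {r | IsPos D r}) hAB.1]
    refine G.segProd_congr _ _ _ fun r hr _ => ?_
    have := hz r hr (Nat.zero_le r)
    by_cases hrA : r ∈ A <;> by_cases hrB : r ∈ B <;> simp_all [Set.mem_inter_iff]
  show G.segProd A a 0 D.nroots ∈ _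
  rw [e2, ← SetLike.mem_coe, G.US_eq_range hAB]
  exact ⟨a, rfl⟩

theorem comm_notInJ {J : Set ℕ} {r s : ℕ} (hr : IsPos D r) (hrJ : ¬ T.InJ J r) (hs : IsPos D s)
    {c : ℕ × ℤ × ℕ × ℕ} (hc : c ∈ T.commT r s ∨ c ∈ T.commT s r) :
    IsPos D c.1 ∧ ¬ T.InJ J c.1 := by
  have hs0 : 0 ≤ G.fJ J s := by
    by_cases h : T.InJ J s
    · rw [G.fJ_inJ h]
    · exact (G.fJ_pos hs h).le
  have hr0 := G.fJ_pos hr hrJ
  rcases hc with hc | hc
  · refine ⟨(G.comm_keys hr hs hc).1, fun h => ?_⟩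
    obtain ⟨i, j, hi, hj, hw⟩ := G.comm_add hr.1 hs.1 hc
    have e := hw _ (G.fJ_isAdd J)
    rw [G.fJ_inJ h] at e
    nlinarith
  · refine ⟨(G.comm_keys hs hr hc).1, fun h => ?_⟩
    obtain ⟨i, j, hi, hj, hw⟩ := G.comm_add hs.1 hr.1 hc
    have e := hw _ (G.fJ_isAdd J)
    rw [G.fJ_inJ h] at e
    nlinarith

theorem closed_notInJ (J : Set ℕ) : T.Closed {r | IsPos D r ∧ ¬ T.InJ J r} :=
  ⟨fun _ h => h.1, fun _ hr _ hs _ hc => G.comm_notInJ hr.1 hr.2 hs.1 (Or.inl hc)⟩

/-- `X` is normalised by `U` and by `H`. -/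
structure NormalInB (_G : T.Good) (X : Subgroup (GL D.Idx F)) : Prop where
  conj_pos : ∀ g ∈ D.posUnipotent F, ∀ v ∈ X, g * v * g⁻¹ ∈ X
  conj_tor : ∀ c, ∀ v ∈ X, T.hT F c * v * (T.hT F c)⁻¹ ∈ X

variable {X : Subgroup (GL D.Idx F)} (hX : G.NormalInB X)

include hX in
/-- A root subgroup meets `X` trivially or lies in it. -/
theorem root_le [Finite F] {r : ℕ} (hr : r < D.nroots) {a : F} (ha : a ≠ 0)
    (h : G.full.x r a ∈ X) (t : F) : G.full.x r t ∈ X := by
  classical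
  let := Fintype.ofFinite F
  let A : AddSubgroup F :=
    { carrier := {t | G.full.x r t ∈ X}
      zero_mem' := by simpa [G.full.x_zero] using one_mem X
      add_mem' := fun {u v} hu hv => by
        show G.full.x r (u + v) ∈ X
        rw [← G.full.x_add]; exact mul_mem hu hv
      neg_mem' := fun {u} hu => by
        show G.full.x r (-u) ∈ X
        rw [← G.full.x_inv]; exact inv_mem hu }
  have hsum : ∑ i : Fin D.rank, T.cor r i * T.cart i r = 2 := by
    rw [← list_sum_range (fun i => T.cor r i * T.cart i r)]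
    exact (G.full.cert.root_spec hr).2.2.2.2
  have hsq : ∀ s : F, a * s ^ 2 ∈ A := by
    intro s
    by_cases hs : s = 0
    · simp [hs, A.zero_mem]
    have hchi : T.chi (F := F) r (fun i => Units.mk0 s hs ^ T.cor r i) = Units.mk0 s hs ^ (2 : ℤ) := by
      rw [← hsum, zpow_sum_eq_prod]
      show ∏ i : Fin D.rank, (Units.mk0 s hs ^ T.cor r i) ^ T.cart i r = _
      exact Finset.prod_congr rfl fun i _ => (_root_.zpow_mul _ _ _).symm
    have := hX.conj_tor (fun i => Units.mk0 s hs ^ T.cor r i) _ h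
    rw [G.full.hT_conj hr, hchi] at this
    show G.full.x r (a * s ^ 2) ∈ X
    rw [mul_comm]
    simpa [zpow_ofNat] using this
  show t ∈ A
  obtain ⟨y, z, e⟩ : ∃ y z : F, t / a = y ^ 2 - z ^ 2 := by
    by_cases h2 : (2 : F) = 0
    · have hb : Function.Surjective fun y : F => y ^ 2 := Finite.injective_iff_surjective.mp
        fun u v e => by
          have e0 : (u - v) ^ 2 = 0 := by
            have e' : u ^ 2 = v ^ 2 := e
            linear_combination e' + (v ^ 2 - u * v) * h2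
          exact sub_eq_zero.mp (eq_zero_of_pow_eq_zero e0)
      obtain ⟨y, hy⟩ := hb (t / a)
      exact ⟨y, 0, by rw [← show y ^ 2 = t / a from hy]; ring⟩
    · refine ⟨(t / a + 1) / 2, (t / a - 1) / 2, ?_⟩
      field_simp
      ring
  rw [show t = a * y ^ 2 - a * z ^ 2 by rw [← mul_sub, ← e]; field_simp]
  exact sub_mem (hsq y) (hsq z)

include hX in
/-- The higher part of an element of `X` can be stripped off. -/
theorem strip {r : ℕ} (hr : IsPos D r) {S : Set ℕ} (hS : T.Closed S)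
    (hcl : ∀ s ∈ S, ∀ c ∈ T.commT r s, c.1 ∈ S)
    (hor : ∀ k ∈ S, (∀ t : F, G.full.x k t ∈ X) ∨
      ∃ c : Fin D.rank → Fˣ, (T.chi k c : F) = 1 ∧ (T.chi r c : F) ≠ 1) :
    ∀ m k, k + m = D.nroots → ∀ a : F, a ≠ 0 → ∀ w ∈ G.US F {s | s ∈ S ∧ k ≤ s},
      G.full.x r a * w ∈ X → ∃ a' : F, a' ≠ 0 ∧ G.full.x r a' ∈ X := by
  have hconj : ∀ k (v : F), ∀ w ∈ G.US F {s | s ∈ S ∧ k ≤ s},
      G.full.x r v * w * (G.full.x r v)⁻¹ ∈ G.US F {s | s ∈ S ∧ k ≤ s} := by
    intro k v w hw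
    refine G.conj_US _ (fun s hs u => ?_) hw
    have h := G.conj_pos (F := F) hr (hS.1 s hs.1) v u (S := {s | s ∈ S ∧ k ≤ s})
      fun _ c hc => ⟨hcl s hs.1 c hc, le_trans hs.2 (G.comm_keys hr (hS.1 s hs.1) hc).2.2.le⟩
    have h' := mul_mem (G.x_mem_US (S := {s | s ∈ S ∧ k ≤ s}) hs u) h
    rwa [mul_inv_cancel_left] at h'
  intro m
  induction m with
  | zero =>
    intro k hk a ha w hw h
    obtain ⟨f, hf⟩ := G.exists_segProd hS 0 k hk w hw
    simp only [segProd] at hf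
    rw [hf, mul_one] at h
    exact ⟨a, ha, h⟩
  | succ m ih =>
    intro k hk a ha w hw h
    obtain ⟨f, hf⟩ := G.exists_segProd hS (m + 1) k hk w hw
    simp only [segProd] at hf
    set w' := G.segProd S f (k + 1) m
    have hw' : w' ∈ G.US F {s | s ∈ S ∧ k + 1 ≤ s} := G.segProd_mem S f m (k + 1)
    by_cases hkS : k ∈ S
    · rw [if_pos hkS] at hf
      subst hf
      rcases hor k hkS with hR | ⟨c, hck, hcr⟩
      · refine ih (k + 1) (by omega) a ha w' hw' ?_
        have h1 := hX.conj_pos (G.full.x r a) (G.x_mem_pos hr _) _ (hR (f k))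
        have h2 : G.full.x r a * (G.full.x k (f k))⁻¹ * (G.full.x r a)⁻¹ *
            (G.full.x r a * (G.full.x k (f k) * w')) ∈ X := by
          refine mul_mem ?_ h
          simpa [mul_assoc] using inv_mem h1
        simpa [mul_assoc] using h2
      · have hz := mul_mem (hX.conj_tor c _ h) (inv_mem h)
        have hk' : k < D.nroots := (hS.1 k hkS).1
        have hM : T.hT F c * w' * (T.hT F c)⁻¹ * w'⁻¹ ∈ G.US F {s | s ∈ S ∧ k + 1 ≤ s} :=
          mul_mem (G.hT_conj_US _ (fun s hs => (hS.1 s hs.1).1) c hw') (inv_mem hw')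
        have hM' := G.conj_US_above hS hkS (f k) hM
        have hM'' := hconj (k + 1) a _ hM'
        refine ih (k + 1) (by omega) ((T.chi r c : F) * a - a) ?_ _ hM'' ?_
        · rw [show (T.chi r c : F) * a - a = ((T.chi r c : F) - 1) * a by ring]
          exact mul_ne_zero (sub_ne_zero.mpr hcr) ha
        · convert hz using 1
          set H := T.hT F c
          set M := H * w' * H⁻¹ * w'⁻¹
          have e1 : H * (G.full.x r a * (G.full.x k (f k) * w')) * H⁻¹ *
              (G.full.x r a * (G.full.x k (f k) * w'))⁻¹ =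
              (H * G.full.x r a * H⁻¹) * ((H * G.full.x k (f k) * H⁻¹) *
                M * (G.full.x k (f k))⁻¹) * (G.full.x r a)⁻¹ := by
            simp only [M]; group
          rw [e1, G.full.hT_conj hr.1, G.full.hT_conj hk', hck, one_mul, sub_eq_add_neg,
            ← G.full.x_add, ← G.full.x_inv]
          group
    · rw [if_neg hkS, one_mul] at hf
      subst hf
      exact ih (k + 1) (by omega) a ha w' hw' h

/-- A weakly closed subgroup lies in the radical of the parabolic subgroup normalising it. -/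
theorem le_rad (hXU : X ≤ D.posUnipotent F) {J : Set ℕ}
    (hJ : ∀ i : Fin D.rank, i.val ∈ J → ∀ v ∈ X, G.full.ns F i * v * (G.full.ns F i)⁻¹ ∈ X) :
    X ≤ D.unipotentRadical F J := by
  classical
  intro u hu
  have hword : ∀ L : List (Fin D.rank), (∀ i ∈ L, i.val ∈ J) →
      ∀ v ∈ X, G.full.nw F L * v * (G.full.nw F L)⁻¹ ∈ X := by
    intro L
    induction L with
    | nil => intro _ v hv; simpa [Full.nw] using hv
    | cons i L ih =>
      intro hL v hv
      rw [G.nw_cons, show G.full.ns F i * G.full.nw F L * v * (G.full.ns F i * G.full.nw F L)⁻¹ =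
        G.full.ns F i * (G.full.nw F L * v * (G.full.nw F L)⁻¹) * (G.full.ns F i)⁻¹ by group]
      exact hJ i (hL i (List.mem_cons_self ..)) _
        (ih (fun j hj => hL j (List.mem_cons_of_mem _ hj)) v hv)
  have hkeep : ∀ L : List (Fin D.rank), (∀ i ∈ L, i.val ∈ J) →
      u ∈ G.US F (keepSet (G.full.pw L)) := by
    intro L hL
    have hu' : u ∈ G.US F {r | IsPos D r} := by rw [← G.posUnipotent_eq]; exact hXU hu
    obtain ⟨a, ha, b, hb, rfl⟩ := G.US_split (G.closed_keep L) (G.closed_flip L) G.closed_pos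
      (pos_eq_keep_union_flip _) hu'
    have h1 := hXU (hword L hL _ hu)
    have h2 : G.full.nw F L * a * (G.full.nw F L)⁻¹ ∈ D.posUnipotent F := by
      rw [G.posUnipotent_eq]
      exact G.conj_x_act (G.rootAct_nw L)
        (fun s hs => by obtain ⟨hlt, -, h3⟩ := hs; exact ⟨hlt, h3⟩) ha
    have h3 : G.full.nw F L * b * (G.full.nw F L)⁻¹ ∈ D.borelSubgroup F ⊓ D.negUnipotent F := by
      refine ⟨Subgroup.mem_sup_left ?_, G.conj_flip_mem_neg (G.rootAct_nw L) hb⟩
      rw [show G.full.nw F L * b * (G.full.nw F L)⁻¹ =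
        (G.full.nw F L * a * (G.full.nw F L)⁻¹)⁻¹ *
          (G.full.nw F L * (a * b) * (G.full.nw F L)⁻¹) by group]
      exact mul_mem (inv_mem h2) h1
    rw [G.borel_inf_neg, Subgroup.mem_bot, conj_eq_one_iff] at h3
    rw [h3, mul_one]
    exact ha
  have hex : ∀ {r : ℕ}, IsPos D r → T.InJ J r → ∃ L : List (Fin D.rank), (∀ i ∈ L, i.val ∈ J) ∧
      r ∉ keepSet (G.full.pw L) := by
    intro r hp hr
    refine G.inJ_induction (P := fun r => ∃ L : List (Fin D.rank), (∀ i ∈ L, i.val ∈ J) ∧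
      r ∉ keepSet (G.full.pw L)) (fun i hi => ⟨[i], by simpa using hi, ?_⟩) ?_ hp hr
    · rw [G.pw_singleton, G.keep_refl]; exact fun h => h.2 rfl
    · rintro l r hl hrp hrJ ⟨L, hL, hn⟩
      refine ⟨L ++ [l], fun i hi => ?_, ?_⟩
      · rcases List.mem_append.mp hi with h | h
        · exact hL i h
        · rw [List.mem_singleton.mp h]; exact hl
      · rintro ⟨hlt, -, h2⟩
        refine hn ⟨hrp.1, hrp, ?_⟩
        rw [G.pw_append, G.pw_singleton, Equiv.Perm.mul_apply] at h2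
        have e : G.full.refl l ⟨T.reflT l r, hlt⟩ = (⟨r, hrp.1⟩ : Fin D.nroots) :=
          Fin.ext (G.full.reflT_spec l.isLt hrp.1).2.1
        rwa [e] at h2
  rw [G.rad_eq]
  have key : ∀ l : List ℕ, ∃ S, T.Closed S ∧ u ∈ G.US F S ∧
      ∀ s ∈ S, IsPos D s ∧ (s ∈ l → ¬ T.InJ J s) := by
    intro l
    induction l with
    | nil => exact ⟨_, G.closed_pos, by rw [← G.posUnipotent_eq]; exact hXU hu,
        fun s hs => ⟨hs, fun h => absurd h (List.not_mem_nil)⟩⟩
    | cons r l ih =>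
      obtain ⟨S, hS, huS, hsp⟩ := ih
      by_cases h : IsPos D r ∧ T.InJ J r
      · obtain ⟨L, hL, hn⟩ := hex h.1 h.2
        have hc := G.closed_keep L
        refine ⟨S ∩ keepSet (G.full.pw L),
          ⟨fun s hs => hS.1 s hs.1, fun a ha b hb c hcc =>
            ⟨hS.2 a ha.1 b hb.1 c hcc, hc.2 a ha.2 b hb.2 c hcc⟩⟩,
          G.US_inf hS hc huS (hkeep L hL), fun s hs => ⟨(hsp s hs.1).1, fun hm => ?_⟩⟩
        rcases List.mem_cons.mp hm with rfl | hm
        · exact absurd hs.2 hn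
        · exact (hsp s hs.1).2 hm
      · refine ⟨S, hS, huS, fun s hs => ⟨(hsp s hs).1, fun hm => ?_⟩⟩
        rcases List.mem_cons.mp hm with rfl | hm
        · exact fun hJs => h ⟨(hsp s hs).1, hJs⟩
        · exact (hsp s hs).2 hm
  obtain ⟨S, -, huS, hsp⟩ := key (List.range D.nroots)
  exact G.US_mono (S' := {r | IsPos D r ∧ ¬ T.InJ J r}) (fun s hs => ⟨(hsp s hs).1,
    (hsp s hs).2 (List.mem_range.mpr (hsp s hs).1.1)⟩) huS

include hX in
/-- The commutator word of two roots, one of which is in `X`. -/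
theorem word_mem {l s : ℕ} (hl : IsPos D l) (hs : IsPos D s) (hsl : s ≠ l)
    (h : (∀ t : F, G.full.x l t ∈ X) ∨ ∀ t : F, G.full.x s t ∈ X) (t u : F) :
    ((rhsWord (T.commT l s) t u).map fun p => G.full.x p.1 p.2).prod ∈ X := by
  have e := G.full.x_comm hl.1 hs.1 hsl ((G.ord_spec hl).2 s hs) t u
  rw [G.full.cert.commWord_eq hl.1 hs.1] at e
  rw [show ((rhsWord (T.commT l s) t u).map fun p => G.full.x p.1 p.2).prod =
    (G.full.x s u)⁻¹ * (G.full.x l t)⁻¹ * (G.full.x s u * G.full.x l t) by rw [e]; group]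
  rcases h with h | h
  · have h1 := hX.conj_pos (G.full.x s u)⁻¹ (inv_mem (G.x_mem_pos hs u)) _ (inv_mem (h t))
    have := mul_mem h1 (h t)
    simpa [mul_assoc] using this
  · have h1 := hX.conj_pos (G.full.x l t)⁻¹ (inv_mem (G.x_mem_pos hl t)) _ (h u)
    have := mul_mem (inv_mem (h u)) h1
    simpa [mul_assoc] using this

/-- A root outside `J` in the commutator of two lower ones. -/
theorem root_of_comm [Finite F] (hX : G.NormalInB X) {J : Set ℕ} {r l s : ℕ} (hr : IsPos D r)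
    (hrJ : ¬ T.InJ J r) (hl : IsPos D l) (hs : IsPos D s) (hlr : l < r) (hsr : s < r) (hsl : s ≠ l)
    (hC : (coefAt r (T.commT l s)).natAbs = 1)
    (hlow : ∀ k, IsPos D k → ¬ T.InJ J k → k < r → ∀ t : F, G.full.x k t ∈ X)
    (hor : ∀ k, IsPos D k → ¬ T.InJ J k → r < k → (∀ t : F, G.full.x k t ∈ X) ∨
      ∃ c : Fin D.rank → Fˣ, (T.chi k c : F) = 1 ∧ (T.chi r c : F) ≠ 1) (t : F) :
    G.full.x r t ∈ X := by
  classical
  have hJls : ¬ T.InJ J l ∨ ¬ T.InJ J s := by
    by_contra hc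
    rw [not_or, not_not, not_not] at hc
    have hex : ∀ L : List (ℕ × ℤ × ℕ × ℕ), coefAt r L ≠ 0 → ∃ c ∈ L, c.1 = r := by
      intro L
      induction L with
      | nil => intro h; exact absurd rfl h
      | cons c L ih =>
        intro h
        by_cases e : c.1 = r
        · exact ⟨c, List.mem_cons_self .., e⟩
        · rw [coefAt, beq_false e, cond_false] at h
          obtain ⟨d, hd, hd'⟩ := ih h
          exact ⟨d, List.mem_cons_of_mem _ hd, hd'⟩
    obtain ⟨c, hc'⟩ := hex _ fun e => by rw [e] at hC; simp at hC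
    obtain ⟨i, j, -, -, hw⟩ := G.comm_add hl.1 hs.1 hc'.1
    have e := hw _ (G.fJ_isAdd J)
    rw [G.fJ_inJ hc.1, G.fJ_inJ hc.2, hc'.2] at e
    have := G.fJ_pos hr hrJ
    simp at e
    omega
  have hterm : ∀ c ∈ T.commT l s, IsPos D c.1 ∧ ¬ T.InJ J c.1 := fun c hc => by
    rcases hJls with h | h
    · exact G.comm_notInJ hl h hs (Or.inl hc)
    · exact G.comm_notInJ hs h hl (Or.inr hc)
  let S : Set ℕ := {k | (IsPos D k ∧ ¬ T.InJ J k) ∧ r + 1 ≤ k}
  have hS : T.Closed S := G.closed_above (G.closed_notInJ J) (r + 1)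
  have hcl : ∀ k ∈ S, ∀ c ∈ T.commT r k, c.1 ∈ S := fun k hk c hc =>
    ⟨G.comm_notInJ hr hrJ hk.1.1 (Or.inl hc), le_trans hk.2 (G.comm_keys hr hk.1.1 hc).2.2.le⟩
  have hcx : ∀ v : F, ∀ w ∈ G.US F S, G.full.x r v * w * (G.full.x r v)⁻¹ ∈ G.US F S := by
    intro v w hw
    refine G.conj_US _ (fun k hk u => ?_) hw
    have h := G.conj_pos (F := F) hr hk.1.1 v u (S := S) fun _ c hc => hcl k hk c hc
    have h' := mul_mem (G.x_mem_US (S := S) hk u) h
    rwa [mul_inv_cancel_left] at h'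
  have hfold : ∀ L : List (ℕ × ℤ × ℕ × ℕ), (∀ c ∈ L, IsPos D c.1 ∧ ¬ T.InJ J c.1) →
      ∃ y ∈ X, ∃ w ∈ G.US F S, ((rhsWord L (1 : F) 1).map fun p => G.full.x p.1 p.2).prod =
        y * G.full.x r ((coefAt r L : ℤ) : F) * w := by
    intro L
    induction L with
    | nil => intro _; exact ⟨1, one_mem X, 1, one_mem _, by simp [rhsWord, coefAt, G.full.x_zero]⟩
    | cons c L ih =>
      intro hL
      obtain ⟨y, hy, w, hw, e⟩ := ih fun d hd => hL d (List.mem_cons_of_mem _ hd)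
      obtain ⟨hcp, hcJ⟩ := hL c (List.mem_cons_self ..)
      have e' : ((rhsWord (c :: L) (1 : F) 1).map fun p => G.full.x p.1 p.2).prod =
          G.full.x c.1 ((c.2.1 * (-1) ^ c.2.2.1 : ℤ) : F) *
            ((rhsWord L (1 : F) 1).map fun p => G.full.x p.1 p.2).prod := by
        simp [rhsWord]
      rw [e', e]
      set C : F := ((c.2.1 * (-1) ^ c.2.2.1 : ℤ) : F)
      set A : F := ((coefAt r L : ℤ) : F) with hA
      have hyc := hX.conj_pos (G.full.x c.1 C) (G.x_mem_pos hcp C) y hy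
      rcases lt_trichotomy c.1 r with hlt | heq | hgt
      · refine ⟨G.full.x c.1 C * y, mul_mem (hlow _ hcp hcJ hlt C) hy, w, hw, ?_⟩
        rw [coefAt, beq_false hlt.ne, cond_false, ← hA]
        group
      · refine ⟨_, hyc, w, hw, ?_⟩
        rw [coefAt, heq, Nat.beq_refl, cond_true, Int.cast_add, ← hA, ← G.full.x_add]
        simp only [C]
        group
      · refine ⟨_, hyc, (G.full.x r A)⁻¹ * G.full.x c.1 C * G.full.x r A * w, ?_, ?_⟩
        · refine mul_mem ?_ hw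
          have := hcx (-A) _ (G.x_mem_US (S := S) ⟨⟨hcp, hcJ⟩, hgt⟩ C)
          rwa [← G.full.x_inv, inv_inv] at this
        · rw [coefAt, beq_false hgt.ne', cond_false, ← hA]
          group
  obtain ⟨y, hy, w, hw, e⟩ := hfold _ hterm
  have hin : ∀ v : F, (∀ t : F, G.full.x l t ∈ X) ∨ ∀ t : F, G.full.x s t ∈ X := fun _ =>
    hJls.elim (fun h => Or.inl (hlow l hl h hlr)) fun h => Or.inr (hlow s hs h hsr)
  have hmem := G.word_mem hX hl hs hsl (hin 0) 1 1
  rw [e, mul_assoc, Subgroup.mul_mem_cancel_left _ hy] at hmem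
  set a : F := ((coefAt r (T.commT l s) : ℤ) : F)
  have ha : a ≠ 0 := by
    rcases Int.natAbs_eq (coefAt r (T.commT l s)) with h | h <;> rw [hC] at h <;> simp [a, h]
  obtain ⟨a', ha', hxa⟩ := G.strip hX hr hS hcl (fun k hk => hor k hk.1.1 hk.1.2 hk.2)
    D.nroots 0 (zero_add _) a ha w
    (G.US_mono (S' := {s | s ∈ S ∧ 0 ≤ s}) (fun k hk => ⟨hk, Nat.zero_le _⟩) hw) hmem
  exact G.root_le hX hr.1 ha' hxa t

/-- An element of `X` involving a fundamental root outside `J`. -/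
theorem exists_simple_part {J : Set ℕ} (hXR : X ≤ D.unipotentRadical F J) {i : Fin D.rank}
    (hi : i.val ∉ J)
    (hwc : ¬ ∀ v ∈ X, G.full.ns F i * v * (G.full.ns F i)⁻¹ ∈ D.posUnipotent F) :
    ∃ a : F, a ≠ 0 ∧ ∃ w ∈ G.US F {s | (IsPos D s ∧ ¬ T.InJ J s) ∧ s ≠ D.simple i},
      G.full.x (D.simple i) a * w ∈ X := by
  simp only [not_forall] at hwc
  obtain ⟨v, hv, hnv⟩ := hwc
  have hvS := hXR hv
  rw [G.rad_eq] at hvS
  have hcS := G.closed_notInJ J
  have hiS : IsPos D (D.simple i) ∧ ¬ T.InJ J (D.simple i) :=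
    ⟨G.pos_simp i, fun h => hi (G.inJ_simple.mp h)⟩
  have h2 := G.closed_flip [i]
  rw [G.pw_singleton, G.flip_refl] at h2
  have h1 : T.Closed {s | (IsPos D s ∧ ¬ T.InJ J s) ∧ s ≠ D.simple i} := by
    have hk := G.closed_keep [i]
    rw [G.pw_singleton, G.keep_refl] at hk
    exact ⟨fun s hs => hs.1.1, fun a ha b hb c hc => ⟨hcS.2 a ha.1 b hb.1 c hc,
      (hk.2 a ⟨ha.1.1, ha.2⟩ b ⟨hb.1.1, hb.2⟩ c hc).2⟩⟩
  obtain ⟨b, hb, w, hw, rfl⟩ := G.US_split h2 h1 hcS (by
    ext s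
    constructor
    · intro hs
      by_cases e : s = D.simple i
      · exact Or.inl e
      · exact Or.inr ⟨hs, e⟩
    · rintro (rfl | hs)
      · exact hiS
      · exact hs.1) hvS
  obtain ⟨a, rfl⟩ := G.mem_X hb
  refine ⟨a, fun h0 => hnv ?_, w, hw, hv⟩
  rw [h0, G.full.x_zero, one_mul, G.posUnipotent_eq]
  exact G.conj_x_act (G.rootAct_ns i) (fun s hs => ⟨hs.1.1.1,
    (G.refl_pos i (s := ⟨s, hs.1.1.1⟩) hs.1.1 fun e => hs.2 (congrArg Fin.val e)).1⟩) hw

/-- The simple part can be stripped. -/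
theorem simple_root [Finite F] (hX : G.NormalInB X) {J : Set ℕ} {i : Fin D.rank}
    (hi : i.val ∉ J) {a : F} (ha : a ≠ 0) {w : GL D.Idx F}
    (hw : w ∈ G.US F {s | (IsPos D s ∧ ¬ T.InJ J s) ∧ s ≠ D.simple i})
    (h : G.full.x (D.simple i) a * w ∈ X)
    (hor : ∀ k, IsPos D k → ¬ T.InJ J k → k ≠ D.simple i → (∀ t : F, G.full.x k t ∈ X) ∨
      ∃ c : Fin D.rank → Fˣ, (T.chi k c : F) = 1 ∧ (T.chi (D.simple i) c : F) ≠ 1) (t : F) :
    G.full.x (D.simple i) t ∈ X := by
  let S : Set ℕ := {s | (IsPos D s ∧ ¬ T.InJ J s) ∧ s ≠ D.simple i}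
  have hp := G.pos_simp i
  have hiJ : ¬ T.InJ J (D.simple i) := fun h => hi (G.inJ_simple.mp h)
  have hk := G.closed_keep [i]
  rw [G.pw_singleton, G.keep_refl] at hk
  have hS : T.Closed S := ⟨fun s hs => hs.1.1, fun a ha b hb c hc =>
    ⟨(G.closed_notInJ J).2 a ha.1 b hb.1 c hc, (hk.2 a ⟨ha.1.1, ha.2⟩ b ⟨hb.1.1, hb.2⟩ c hc).2⟩⟩
  have hcl : ∀ s ∈ S, ∀ c ∈ T.commT (D.simple i) s, c.1 ∈ S := fun s hs c hc =>
    ⟨G.comm_notInJ hp hiJ hs.1.1 (Or.inl hc), (G.comm_keys hp hs.1.1 hc).2.1.ne'⟩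
  obtain ⟨a', ha', hxa⟩ := G.strip hX hp hS hcl (fun k hk => hor k hk.1.1 hk.1.2 hk.2)
    D.nroots 0 (zero_add _) a ha w
    (G.US_mono (S' := {s | s ∈ S ∧ 0 ≤ s}) (fun k hk => ⟨hk, Nat.zero_le _⟩) hw) h
  exact G.root_le hX hp.1 ha' hxa t

/-- Weakly closed subgroups of `U` are radicals, given the certificate. -/
theorem eq_rad_of_weaklyClosed [Fintype F] {bound : ℕ} {exc : List ℕ} {wit : List (ℕ × ℕ)}
    (hchk : T.chkWC bound exc wit = true) (hF : bound + 1 < Fintype.card F)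
    (X : Subgroup (GL D.Idx F)) (hXU : X ≤ D.posUnipotent F)
    (hwc : ∀ g ∈ D.group F, X.map (MulAut.conj g).toMonoidHom ≤ D.posUnipotent F →
      X.map (MulAut.conj g).toMonoidHom = X)
    (hexc : G.NormalInB X → ∀ J : Set ℕ, X ≤ D.unipotentRadical F J →
      (∀ i : Fin D.rank, i.val ∉ J →
        ∃ a : F, a ≠ 0 ∧ ∃ w ∈ G.US F {s | (IsPos D s ∧ ¬ T.InJ J s) ∧ s ≠ D.simple i},
          G.full.x (D.simple i) a * w ∈ X) →
      ∀ k ∈ exc, IsPos D k → ¬ T.InJ J k → ∀ t : F, G.full.x k t ∈ X) :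
    ∃ J : Set ℕ, (∀ j ∈ J, j < D.rank) ∧ X = D.unipotentRadical F J := by
  classical
  have hconj : ∀ g ∈ D.group F, (∀ v ∈ X, g * v * g⁻¹ ∈ D.posUnipotent F) →
      ∀ v ∈ X, g * v * g⁻¹ ∈ X := by
    intro g hg h v hv
    have e := hwc g hg (by rintro _ ⟨v, hv, rfl⟩; exact h v hv)
    have h2 : g * v * g⁻¹ ∈ X.map (MulAut.conj g).toMonoidHom := ⟨v, hv, rfl⟩
    rwa [e] at h2
  have hX : G.NormalInB X := by
    refine ⟨fun g hg v hv => hconj g (G.borel_le_group (Subgroup.mem_sup_left hg))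
      (fun w hw => mul_mem (mul_mem hg (hXU hw)) (inv_mem hg)) v hv, fun c v hv => ?_⟩
    have hd : T.hT F c ∈ D.diagonalSubgroup F := by
      rw [G.full.diagonal_eq_range]; exact ⟨c, rfl⟩
    exact hconj _ (G.diagonal_le_group hd) (fun w hw =>
      ((Subgroup.mem_normalizer_iff.mp (G.diagonal_le_normalizer_pos hd)) w).mp (hXU hw)) v hv
  let J : Set ℕ := {j | ∃ h : j < D.rank, ∀ v ∈ X,
    G.full.ns F (⟨j, h⟩ : Fin D.rank) * v * (G.full.ns F (⟨j, h⟩ : Fin D.rank))⁻¹ ∈ X}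
  have hXR : X ≤ D.unipotentRadical F J := G.le_rad hXU fun i hi => hi.2
  have hsimp : ∀ i : Fin D.rank, i.val ∉ J →
      ∃ a : F, a ≠ 0 ∧ ∃ w ∈ G.US F {s | (IsPos D s ∧ ¬ T.InJ J s) ∧ s ≠ D.simple i},
        G.full.x (D.simple i) a * w ∈ X := fun i hi =>
    G.exists_simple_part hXR hi fun h => hi ⟨i.isLt, hconj _ (G.ns_mem_group i) h⟩
  have hexc' := hexc hX J hXR hsimp
  simp only [chkWC, allBelow_iff, Bool.or_eq_true, Bool.and_eq_true, List.any_eq_true,
    List.mem_range, Nat.blt_eq, Nat.beq_eq, Nat.ble_eq, List.contains_iff_mem] at hchk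
  have key : ∀ r, IsPos D r → ¬ T.InJ J r → ∀ t : F, G.full.x r t ∈ X := by
    intro r
    induction r using Nat.strong_induction_on with
    | _ r ih =>
      intro hr hrJ
      have hhalf : ∀ k, IsPos D k → ¬ 2 * k < D.nroots := fun k hk => by have := hk.2; omega
      rcases hchk r hr.1 with (h | ⟨⟨i, hi, hir⟩, hsep⟩) | ⟨hw, hsep⟩
      · exact absurd h (hhalf r hr)
      · subst hir
        obtain ⟨a, ha, w, hw', hmem⟩ := hsimp ⟨i, hi⟩ fun h => hrJ (G.inJ_simple.mpr h)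
        intro t
        refine G.simple_root hX (i := ⟨i, hi⟩) (fun h => hrJ (G.inJ_simple.mpr h)) ha hw' hmem
          (fun k hk hkJ hne => ?_) t
        rcases hsep k hk.1 with ((h | h) | h) | h
        · exact absurd h (hhalf k hk)
        · exact absurd h hne
        · exact Or.inl (hexc' k h hk hkJ)
        · exact Or.inr (G.exists_sep hF h)
      · simp only [chkWitness, Bool.and_eq_true, Nat.blt_eq, Nat.ble_eq, Bool.not_eq_true',
          Nat.beq_eq] at hw
        obtain ⟨⟨⟨⟨⟨h1, h2⟩, h3⟩, h4⟩, h5⟩, h6⟩ := hw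
        have hne : (wit.getD (r - D.nroots / 2) (0, 0)).2 ≠ (wit.getD (r - D.nroots / 2) (0, 0)).1 :=
          fun e => by rw [e] at h5; simp at h5
        exact G.root_of_comm hX hr hrJ ⟨lt_trans h1 hr.1, h3⟩ ⟨lt_trans h2 hr.1, h4⟩ h1 h2 hne h6
          (fun k hk hkJ hkr => ih k hkr hk hkJ) fun k hk hkJ hrk => by
            rcases hsep k hk.1 with (h | h) | h
            · omega
            · exact Or.inl (hexc' k h hk hkJ)
            · exact Or.inr (G.exists_sep hF h)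
  refine ⟨J, fun j hj => hj.1, le_antisymm hXR ?_⟩
  rw [G.rad_eq, US, Subgroup.closure_le]
  rintro _ ⟨r, hr, t, rfl⟩
  exact key r hr.1 hr.2 t

end Good

end Tab

end CfsgLib.Chev
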