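import Cfsg.Agent.Chev.WeaklyClosed
import Cfsg.Agent.Chev.GoodAll

/-! Certificates for weakly closed subgroups. -/

set_option autoImplicit false

namespace CfsgLib.Chev

/-- Generation witnesses (G2). -/
def witWCG2 : List (ℕ × ℕ) :=
  [(0, 0), (0, 0), (7, 6), (7, 6), (7, 6), (7, 6)]

theorem chkWC_G2 : G2Data.tab.chkWC 3 [] witWCG2 = true := by decide +kernel

theorem chkWC_G2four : G2Data.tab.chkWC 2 [10, 11] witWCG2 = true := by decide +kernel

/-- Generation witnesses (B2). -/
def witWCB2 : List (ℕ × ℕ) :=
  [(0, 0), (0, 0), (5, 4), (5, 4)]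

theorem chkWC_B2 : B2Data.tab.chkWC 2 [] witWCB2 = true := by decide +kernel

/-- Generation witnesses (D4). -/
def witWCD4 : List (ℕ × ℕ) :=
  [(0, 0), (0, 0), (0, 0), (14, 12), (14, 13), (13, 15), (0, 0), (18, 14), (18, 15), (18, 16), (18, 17), (14, 22)]

theorem chkWC_D4 : D4Data.tab.chkWC 2 [] witWCD4 = true := by decide +kernel

/-- Generation witnesses (F4). -/
def witWCF4 : List (ℕ × ℕ) :=
  [(0, 0), (0, 0), (25, 24), (0, 0), (27, 25), (27, 26), (27, 25), (27, 26), (25, 31), (0, 0), (33, 27), (33, 28), (33, 29), (33, 30), (33, 31), (33, 32), (27, 39), (33, 30), (33, 31), (33, 32), (33, 40), (27, 43), (25, 45), (25, 38)]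

theorem chkWC_F4 : F4Data.tab.chkWC 2 [] witWCF4 = true := by decide +kernel

/-- Generation witnesses (E6). -/
def witWCE6 : List (ℕ × ℕ) :=
  [(0, 0), (0, 0), (37, 36), (0, 0), (39, 37), (39, 38), (0, 0), (42, 39), (42, 40), (42, 41), (0, 0), (46, 39), (46, 40), (46, 41), (46, 43), (46, 44), (46, 45), (39, 51), (39, 52), (37, 54), (0, 0), (56, 42), (56, 43), (56, 44), (56, 45), (56, 50), (56, 51), (56, 52), (56, 53), (56, 54), (56, 55), (42, 64), (42, 65), (42, 66), (39, 69), (46, 70)]

theorem chkWC_E6 : E6Data.tab.chkWC 1 [] witWCE6 = true := by decide +kernel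

/-- Generation witnesses (E7). -/
def witWCE7 : List (ℕ × ℕ) :=
  [(0, 0), (0, 0), (64, 63), (0, 0), (66, 64), (66, 65), (0, 0), (69, 66), (69, 67), (69, 68), (0, 0), (73, 69), (73, 70), (73, 71), (73, 72), (0, 0), (78, 69), (78, 70), (78, 71), (78, 72), (78, 74), (78, 75), (78, 76), (78, 77), (69, 84), (69, 85), (69, 86), (66, 88), (66, 89), (64, 91), (0, 0), (93, 73), (93, 74), (93, 75), (93, 76), (93, 77), (93, 83), (93, 84), (93, 85), (93, 86), (93, 87), (93, 88), (93, 89), (93, 90), (93, 91), (93, 92), (73, 103), (73, 104), (73, 105), (73, 106), (73, 107), (73, 108), (69, 112), (69, 113), (69, 114), (66, 117), (78, 115), (78, 116), (78, 117), (78, 118), (69, 122), (73, 123), (93, 124)]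

theorem chkWC_E7 : E7Data.tab.chkWC 1 [] witWCE7 = true := by decide +kernel

/-- Generation witnesses (E8). -/
def witWCE8 : List (ℕ × ℕ) :=
  [(0, 0), (0, 0), (121, 120), (0, 0), (123, 121), (123, 122), (0, 0), (126, 123), (126, 124), (126, 125), (0, 0), (130, 126), (130, 127), (130, 128), (130, 129), (0, 0), (135, 130), (135, 131), (135, 132), (135, 133), (135, 134), (0, 0), (141, 130), (141, 131), (141, 132), (141, 133), (141, 134), (141, 136), (141, 137), (141, 138), (141, 139), (141, 140), (130, 148), (130, 149), (130, 150), (130, 151), (126, 153), (126, 154), (126, 155), (123, 157), (123, 158), (121, 160), (0, 0), (162, 135), (162, 136), (162, 137), (162, 138), (162, 139), (162, 140), (162, 147), (162, 148), (162, 149), (162, 150), (162, 151), (162, 152), (162, 153), (162, 154), (162, 155), (162, 156), (162, 157), (162, 158), (162, 159), (162, 160), (162, 161), (135, 174), (135, 175), (135, 176), (135, 177), (135, 178), (135, 179), (135, 180), (135, 181), (135, 182), (135, 183), (130, 188), (130, 189), (130, 190), (130,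 191), (130, 192), (130, 193), (126, 197), (126, 198), (126, 199), (123, 202), (141, 194), (141, 195), (141, 196), (141, 197), (141, 198), (141, 199), (141, 200), (141, 201), (141, 202), (141, 203), (130, 210), (130, 211), (130, 212), (130, 213), (126, 217), (135, 214), (135, 215), (135, 216), (135, 217), (135, 218), (130, 223), (141, 224), (162, 219), (162, 220), (162, 221), (162, 222), (162, 223), (162, 224), (135, 231), (162, 225), (141, 232), (130, 234), (126, 235), (123, 236), (121, 237), (120, 238)]

theorem chkWC_E8 : E8Data.tab.chkWC 1 [] witWCE8 = true := by decide +kernel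

end CfsgLib.Chev
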