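import Cfsg.Agent.Chev.WeaklyClosedData

/-! The two highest root groups of `G₂(4)` in a weakly closed subgroup. -/

set_option autoImplicit false

namespace CfsgLib.Chev

open Cfsg.Lie Matrix Tab
open scoped MatrixGroups

theorem sepG2four :
    (∀ k ∈ [8, 9, 10, 11, 6], G2Data.tab.chkSep 2 7 k = true) ∧
      ∀ k ∈ [9, 10, 11], G2Data.tab.chkSep 2 8 k = true := by decide +kernel

theorem commT76 : G2Data.tab.commT 7 6 =
    [(8, -1, 1, 1), (9, 1, 2, 1), (10, 1, 3, 1), (11, 1, 3, 2)] := by decide +kernel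

theorem commT78 : G2Data.tab.commT 7 8 =
    [(9, -2, 1, 1), (10, -3, 2, 1), (11, 3, 1, 2)] := by decide +kernel

theorem commT106 : G2Data.tab.commT 10 6 = [(11, -1, 1, 1)] := by decide +kernel

theorem simpleG2 : chevG2.simple 0 = 7 ∧ chevG2.simple 1 = 6 ∧ chevG2.nroots = 12 ∧ chevG2.rank = 2 := by
  decide +kernel

/-- The roots `3a+b`, `3a+2b` over the field with four elements. -/
theorem g2four_exc {F : Type*} [Field F] [Fintype F] (hF : Fintype.card F = 4)
    {X : Subgroup (GL chevG2.Idx F)} (hX : good_G2.NormalInB X) {J : Set ℕ}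
    (hsimp : ∀ i : Fin chevG2.rank, i.val ∉ J → ∃ a : F, a ≠ 0 ∧
      ∃ w ∈ good_G2.US F {s | (IsPos chevG2 s ∧ ¬ G2Data.tab.InJ J s) ∧ s ≠ chevG2.simple i},
        good_G2.full.x (chevG2.simple i) a * w ∈ X)
    {k : ℕ} (hk : k ∈ [10, 11]) (hkp : IsPos chevG2 k) (hkJ : ¬ G2Data.tab.InJ J k) (t : F) :
    good_G2.full.x k t ∈ X := by
  classical
  obtain ⟨s0, s1, hn, hrk⟩ := simpleG2
  have h2 : (2 : F) = 0 := by
    have h := FiniteField.cast_card_eq_zero F
    rw [hF] at h
    exact eq_zero_of_pow_eq_zero (n := 2) (by rw [← h]; norm_num)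
  have hFb : 2 + 1 < Fintype.card F := by omega
  have hp : ∀ r, 6 ≤ r → r < 12 → IsPos chevG2 r := fun r h1 h2 =>
    ⟨by rw [hn]; exact h2, by rw [hn]; omega⟩
  have hser : ∀ (n r : ℕ) (v : F), 6 ≤ r → r < 12 → n ≤ r →
      good_G2.full.x r v ∈ good_G2.series F n := fun n r v h1 h2 h3 =>
    good_G2.x_mem_US (S := {s | IsPos chevG2 s ∧ n ≤ s}) ⟨hp r h1 h2, h3⟩ v
  have hnorm : ∀ g ∈ good_G2.series F 0, ∀ M ∈ good_G2.series F 9,
      g * M * g⁻¹ ∈ good_G2.series F 9 := fun g hg M hM => by
    have h := mul_mem (good_G2.US_mono (S' := {s | IsPos chevG2 s ∧ 9 ≤ s})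
      (fun s hs => ⟨hs.1, by have := hs.2; omega⟩) (good_G2.series_comm hg hM)) hM
    show _ ∈ good_G2.series F 9
    simpa [Good.series] using h
  -- an element of `X` led by the root `a + b`
  obtain ⟨a, ha, M, hM, hmem⟩ : ∃ a : F, a ≠ 0 ∧ ∃ M ∈ good_G2.series F 9,
      good_G2.full.x 8 a * M ∈ X := by
    have hW : ∀ a : F, ∃ M ∈ good_G2.series F 9,
        ((rhsWord (G2Data.tab.commT 7 6) (1 : F) a).map fun p => good_G2.full.x p.1 p.2).prod =
          good_G2.full.x 8 a * M := by
      intro a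
      simp only [commT76, rhsWord, List.map_cons, List.map_nil, List.prod_cons, List.prod_nil,
        mul_one]
      refine ⟨_, ?_, congrArg₂ (· * ·) (congrArg (good_G2.full.x 8) ?_) rfl⟩
      · exact mul_mem (hser 9 9 _ (by norm_num) (by norm_num) le_rfl)
          (mul_mem (hser 9 10 _ (by norm_num) (by norm_num) (by norm_num))
            (hser 9 11 _ (by norm_num) (by norm_num) (by norm_num)))
      · simp
    by_cases h7 : (0 : ℕ) ∈ J
    · have h6 : (1 : ℕ) ∉ J := fun h6 => hkJ ⟨hkp.1, fun i hi => by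
        have := i.isLt
        rcases (show i.val = 0 ∨ i.val = 1 by omega) with e | e
        · exact absurd (e ▸ h7 : i.val ∈ J) hi
        · exact absurd (e ▸ h6 : i.val ∈ J) hi⟩
      obtain ⟨a, ha, w, hw, hv⟩ := hsimp ⟨1, by omega⟩ h6
      simp only [s1] at hw hv
      have hw8 : w ∈ good_G2.series F 8 := by
        refine good_G2.US_mono (S' := {s | IsPos chevG2 s ∧ 8 ≤ s}) (fun s hs => ⟨hs.1.1, ?_⟩) hw
        have h1 := hs.1.1.2
        rw [hn] at h1
        have h7' : s ≠ 7 := by
          rintro rfl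
          exact hs.1.2 (s0 ▸ good_G2.inJ_simple (i := ⟨0, by omega⟩) |>.mpr h7)
        have := hs.2
        omega
      obtain ⟨M, hM, eW⟩ := hW a
      have h7U : good_G2.full.x 7 (1 : F) ∈ chevG2.posUnipotent F :=
        good_G2.x_mem_pos (hp 7 (by norm_num) (by norm_num)) 1
      have h6U : good_G2.full.x 6 a ∈ chevG2.posUnipotent F :=
        good_G2.x_mem_pos (hp 6 le_rfl (by norm_num)) a
      have e6 := good_G2.full.x_comm (r := 7) (s := 6) (by rw [hn]; norm_num) (by rw [hn]; norm_num)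
        (by norm_num) (by rw [negR_eq, hn]; norm_num) (1 : F) a
      rw [good_G2.full.cert.commWord_eq (by rw [hn]; norm_num) (by rw [hn]; norm_num), eW] at e6
      set N := good_G2.full.x 7 (1 : F) * w * (good_G2.full.x 7 (1 : F))⁻¹ * w⁻¹ with hNdef
      have hN : N ∈ good_G2.series F 9 :=
        good_G2.series_comm (hser 0 7 1 (by norm_num) (by norm_num) (by norm_num)) hw8
      set g := good_G2.full.x 7 (1 : F) * good_G2.full.x 6 a with hg
      have hgU : g ∈ chevG2.posUnipotent F := mul_mem h7U h6U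
      have hy := mul_mem hv (hX.conj_pos _ h7U _ (inv_mem hv))
      have hz := hX.conj_pos g⁻¹ (inv_mem hgU) _ hy
      refine ⟨a, ha, (good_G2.full.x 8 a)⁻¹ * (g⁻¹ * (good_G2.full.x 6 a * N⁻¹ *
        (good_G2.full.x 6 a)⁻¹) * g) * good_G2.full.x 8 a * M, ?_, ?_⟩
      · refine mul_mem ?_ hM
        have h8 : good_G2.full.x 8 a ∈ good_G2.series F 0 :=
          hser 0 8 a (by norm_num) (by norm_num) (by norm_num)
        have hg0 : g ∈ good_G2.series F 0 := mul_mem (hser 0 7 1 (by norm_num) (by norm_num) (by norm_num))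
          (hser 0 6 a (by norm_num) (by norm_num) (by norm_num))
        have h1 := hnorm _ (hser 0 6 a le_rfl (by norm_num) (by norm_num)) _ (inv_mem hN)
        have h2 := hnorm _ (inv_mem hg0) _ h1
        have h3 := hnorm _ (inv_mem h8) _ h2
        simpa [inv_inv] using h3
      · convert hz using 1
        have e7 : good_G2.full.x 6 a * good_G2.full.x 7 (1 : F) =
            g * (good_G2.full.x 8 a * M) := e6
        calc good_G2.full.x 8 a * ((good_G2.full.x 8 a)⁻¹ * (g⁻¹ * (good_G2.full.x 6 a * N⁻¹ *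
              (good_G2.full.x 6 a)⁻¹) * g) * good_G2.full.x 8 a * M)
            = g⁻¹ * (good_G2.full.x 6 a * N⁻¹ * (good_G2.full.x 6 a)⁻¹) *
                (g * (good_G2.full.x 8 a * M)) := by group
          _ = _ := by rw [← e7, hNdef, hg]; group
    · obtain ⟨a, ha, w, hw, hv⟩ := hsimp ⟨0, by omega⟩ h7
      have hx7 : ∀ v : F, good_G2.full.x 7 v ∈ X := by
        intro v
        rw [← s0]
        refine good_G2.simple_root hX (i := ⟨0, by omega⟩) h7 ha hw hv (fun m hm _ hne => ?_) v
        refine Or.inr (good_G2.exists_sep hFb ?_)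
        have h1 := hm.1; have h2 := hm.2
        rw [hn] at h1 h2
        simp only [s0] at hne ⊢
        exact sepG2four.1 m (by simp only [List.mem_cons, List.not_mem_nil, or_false]; omega)
      obtain ⟨M, hM, eW⟩ := hW 1
      exact ⟨1, one_ne_zero, M, hM, eW ▸ good_G2.word_mem hX (hp 7 (by norm_num) (by norm_num))
        (hp 6 le_rfl (by norm_num)) (by norm_num) (Or.inl hx7) 1 1⟩
  -- the root group of `a + b`
  have hx8 : ∀ v : F, good_G2.full.x 8 v ∈ X := by
    let S : Set ℕ := {s | IsPos chevG2 s ∧ 9 ≤ s}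
    have hS : G2Data.tab.Closed S := good_G2.closed_above good_G2.closed_pos 9
    have h8 := hp 8 (by norm_num) (by norm_num)
    obtain ⟨a', ha', hx⟩ := good_G2.strip hX h8 hS
      (fun s hs c hc => ⟨(good_G2.comm_keys h8 hs.1 hc).1,
        by have := hs.2; have := (good_G2.comm_keys h8 hs.1 hc).2.2; omega⟩)
      (fun m hm => Or.inr (good_G2.exists_sep hFb (sepG2four.2 m (by
        have := hm.1.1; have := hm.2
        rw [hn] at *
        simp only [List.mem_cons, List.not_mem_nil, or_false]; omega))))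
      chevG2.nroots 0 (zero_add _) a ha M
      (good_G2.US_mono (S' := {s | s ∈ S ∧ 0 ≤ s}) (fun s hs => ⟨hs, Nat.zero_le _⟩) hM) hmem
    exact good_G2.root_le hX h8.1 ha' hx
  have he : good_G2.full.x 10 (1 : F) * good_G2.full.x 11 1 ∈ X := by
    have h := good_G2.word_mem hX (hp 7 (by norm_num) (by norm_num))
      (hp 8 (by norm_num) (by norm_num)) (by norm_num) (Or.inr hx8) (1 : F) 1
    simp only [commT78, rhsWord, List.map_cons, List.map_nil, List.prod_cons, List.prod_nil,
      mul_one] at h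
    have e1 : ((-2 : ℤ) : F) * (-1) ^ 1 * 1 ^ 1 = 0 := by push_cast; linear_combination h2
    have e2 : ((-3 : ℤ) : F) * (-1) ^ 2 * 1 ^ 1 = 1 := by push_cast; linear_combination (-2 : F) * h2
    have e3 : ((3 : ℤ) : F) * (-1) ^ 1 * 1 ^ 2 = 1 := by push_cast; linear_combination (-2 : F) * h2
    simp only [pow_one, one_pow, mul_one] at h e1 e2 e3
    rw [e1, e2, e3, good_G2.full.x_zero, one_mul] at h
    exact h
  have hx11 : ∀ v : F, good_G2.full.x 11 v ∈ X := by
    have h := good_G2.full.x_comm (r := 10) (s := 6) (by rw [hn]; norm_num) (by rw [hn]; norm_num)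
      (by norm_num) (by rw [negR_eq, hn]; norm_num) (1 : F) (1 : F)
    rw [good_G2.full.cert.commWord_eq (by rw [hn]; norm_num) (by rw [hn]; norm_num), commT106] at h
    simp only [rhsWord, List.map_cons, List.map_nil, List.prod_cons, List.prod_nil, mul_one] at h
    have h6U : good_G2.full.x 6 (1 : F) ∈ chevG2.posUnipotent F :=
      good_G2.x_mem_pos (hp 6 le_rfl (by norm_num)) 1
    have hc : good_G2.full.x 11 (1 : F) * good_G2.full.x 6 1 =
        good_G2.full.x 6 1 * good_G2.full.x 11 1 :=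
      (good_G2.x_commute (p := 0) (by simp) (a := 11) (b := 6) (by decide +kernel) 1 1).eq
    set x := good_G2.full.x 10 (1 : F)
    set y := good_G2.full.x 6 (1 : F)
    set z := good_G2.full.x 11 (1 : F)
    have hm := mul_mem (inv_mem he) (hX.conj_pos y⁻¹ (inv_mem h6U) _ he)
    have h11 : (x * z)⁻¹ * (y⁻¹ * (x * z) * y⁻¹⁻¹) =
        (y * x * z)⁻¹ * (x * (z * y)) := by group
    rw [h11, hc, h] at hm
    intro v
    refine good_G2.root_le hX (hp 11 (by norm_num) (by norm_num)).1
      (a := -((-1 : ℤ) : F) * (-1) ^ 1) ?_ ?_ v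
    · push_cast; ring_nf; exact neg_ne_zero.mpr one_ne_zero
    · rw [neg_mul, ← good_G2.full.x_inv]
      have hzc : ∀ u : F, Commute z (good_G2.full.x 11 u) := fun u => by
        show _ * _ = _ * _
        simp only [z, good_G2.full.x_add, add_comm]
      have := hX.conj_pos z (good_G2.x_mem_pos (hp 11 (by norm_num) (by norm_num)) 1) _ hm
      simpa [mul_assoc, (hzc _).eq, mul_one, one_pow] using this
  simp only [List.mem_cons, List.not_mem_nil, or_false] at hk
  rcases hk with rfl | rfl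
  · refine good_G2.root_le hX hkp.1 one_ne_zero ?_ t
    simpa [mul_assoc] using mul_mem he (inv_mem (hx11 1))
  · exact hx11 t

end CfsgLib.Chev
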