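import Cfsg.Agent.Chev.Torus

/-!
The monomial subgroup, its action on the roots, deletion, and the longest element.
-/

set_option autoImplicit false

namespace CfsgLib.Chev

open Cfsg.Lie Matrix
open scoped MatrixGroups

namespace Tab

variable {D : ChevalleyDatum}

/-- The negative of a root, on `Fin`. -/
def negF {D : ChevalleyDatum} (s : Fin D.nroots) : Fin D.nroots :=
  ⟨negR D s.val, Cert.negR_lt s.isLt⟩

theorem negF_negF {D : ChevalleyDatum} (s : Fin D.nroots) : negF (negF s) = s :=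
  Fin.ext (Cert.negR_negR s.isLt)

/-- The fundamental root, on `Fin`. -/
def Full.simp' {T : Tab D} (H : T.Full) (i : Fin D.rank) : Fin D.nroots :=
  ⟨D.simple i, H.simple_lt i.isLt⟩

/-- The reflection in a fundamental root as a permutation of the roots. -/
def Full.refl {T : Tab D} (H : T.Full) (i : Fin D.rank) : Equiv.Perm (Fin D.nroots) where
  toFun s := ⟨T.reflT i s, (H.reflT_spec i.isLt s.isLt).1⟩
  invFun s := ⟨T.reflT i s, (H.reflT_spec i.isLt s.isLt).1⟩
  left_inv s := Fin.ext (H.reflT_spec i.isLt s.isLt).2.1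
  right_inv s := Fin.ext (H.reflT_spec i.isLt s.isLt).2.1

/-- `g` permutes the root subgroups by `σ`. -/
def Full.RootAct {T : Tab D} (H : T.Full) {F : Type*} [Field F] (g : GL D.Idx F)
    (σ : Equiv.Perm (Fin D.nroots)) : Prop :=
  ∃ c : Fin D.nroots → Fˣ, ∀ s, σ (negF s) = negF (σ s) ∧ c (negF s) = (c s)⁻¹ ∧
    (∀ j : Fin D.rank, T.cor (σ s) j =
      ∑ k : Fin D.rank, T.cor s k * T.cor (σ (H.simp' k)) j) ∧
    ∀ t : F, g * H.x s t * g⁻¹ = H.x (σ s) ((c s : F) * t)

/-- Monomial on the root vectors. -/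
def Mono {D : ChevalleyDatum} {F : Type*} [Field F] (g : Matrix D.Idx D.Idx F) : Prop :=
  (∀ s : Fin D.nroots, ∃ k : Fin D.nroots, ∀ x, x ≠ Sum.inr k → g x (Sum.inr s) = 0) ∧
    ∀ (j : Fin D.rank) (s : Fin D.nroots), g (Sum.inr s) (Sum.inl j) = 0

theorem Mono.mul {F : Type*} [Field F] {g h : Matrix D.Idx D.Idx F} (hg : Mono g) (hh : Mono h) :
    Mono (g * h) := by
  constructor
  · intro s
    obtain ⟨k, hk⟩ := hh.1 s
    obtain ⟨l, hl⟩ := hg.1 k
    refine ⟨l, fun x hx => ?_⟩
    rw [Matrix.mul_apply]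
    refine Finset.sum_eq_zero fun z _ => ?_
    by_cases hz : z = Sum.inr k
    · subst hz; rw [hl x hx, zero_mul]
    · rw [hk z hz, mul_zero]
  · intro j s
    rw [Matrix.mul_apply]
    refine Finset.sum_eq_zero fun z _ => ?_
    rcases z with m | m
    · rw [hg.2 m s, zero_mul]
    · rw [hh.2 j m, mul_zero]

/-- The product of `n_p(1)` along a word. -/
def Full.nw {T : Tab D} (H : T.Full) (F : Type*) [Field F] (L : List (Fin D.rank)) :
    GL D.Idx F := (L.map fun i => H.ns F i.val).prod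

/-- The permutation of a word. -/
def Full.pw {T : Tab D} (H : T.Full) (L : List (Fin D.rank)) : Equiv.Perm (Fin D.nroots) :=
  (L.map H.refl).prod

open scoped Classical in
/-- The roots made negative. -/
noncomputable def invSet {D : ChevalleyDatum} (σ : Equiv.Perm (Fin D.nroots)) :
    Finset (Fin D.nroots) :=
  Finset.univ.filter fun s => IsPos D s.val ∧ ¬ IsPos D (σ s).val

theorem mem_inv {D : ChevalleyDatum} {σ : Equiv.Perm (Fin D.nroots)} {s : Fin D.nroots} :
    s ∈ invSet σ ↔ IsPos D s.val ∧ ¬ IsPos D (σ s).val := by simp [invSet]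

namespace Good

variable {T : Tab D} (G : T.Good) {F : Type*} [Field F]
include G

theorem x_inj_root {r s : ℕ} (hr : r < D.nroots) (hs : s < D.nroots) {t u : F} (ht : t ≠ 0)
    (h : G.full.x r t = G.full.x s u) : r = s := by
  by_contra hrs
  obtain ⟨j, hj⟩ := G.exists_cor_ne_zero (F := F) hr
  have hn := Cert.negR_lt (D := D) hr
  have hm : D.x F r t = D.x F s u := by rw [← G.full.coe_x', ← G.full.coe_x', h]
  have h2 := congrFun (congrFun hm (Sum.inl j)) (Sum.inr ⟨_, hn⟩)
  rw [ChevalleyDatum.x, dif_pos hr, ChevalleyDatum.x, dif_pos hs, ChevalleyDatum.xMat,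
    ChevalleyDatum.xMat] at h2
  have en : D.negIdx.getD r 0 = negR D r := (G.full.cert.agree_spec hr).2.1
  have em : D.negIdx.getD s 0 = negR D s := (G.full.cert.agree_spec hs).2.1
  have hne : negR D r ≠ negR D s := fun e => hrs (by
    rw [← Cert.negR_negR hr, e, Cert.negR_negR hs])
  have h3 : (⟨_, hn⟩ : Fin D.nroots) ≠ ⟨r, hr⟩ := fun he =>
    G.full.cert.negR_ne hr (congrArg Fin.val he)
  simp only [Matrix.of_apply, en, em, if_neg h3, if_true, if_neg hne] at h2
  rw [G.full.cert.coroot_eq j.isLt hr] at h2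
  split_ifs at h2 <;> simp [hj, ht] at h2

theorem rootAct_unique {g : GL D.Idx F} {σ σ' : Equiv.Perm (Fin D.nroots)}
    (h : G.full.RootAct g σ) (h' : G.full.RootAct g σ') : σ = σ' := by
  obtain ⟨c, hc⟩ := h
  obtain ⟨d, hd⟩ := h'
  refine Equiv.ext fun s => Fin.ext ?_
  have e := ((hc s).2.2.2 1).symm.trans ((hd s).2.2.2 1)
  refine G.x_inj_root (σ s).isLt (σ' s).isLt ?_ e
  simp

theorem cor_simple (k j : Fin D.rank) :
    T.cor (G.full.simp' k) j = if j = k then 1 else 0 := by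
  refine ((G.full.node_spec k.isLt).2.2.2.2.1 j j.isLt).1.trans ?_
  simp only [Fin.ext_iff]

theorem rootAct_one : G.full.RootAct (1 : GL D.Idx F) 1 := by
  refine ⟨fun _ => 1, fun s => ⟨rfl, by simp, fun j => ?_, fun t => by simp⟩⟩
  simp [G.cor_simple]

theorem rootAct_mul {g g' : GL D.Idx F} {σ σ' : Equiv.Perm (Fin D.nroots)}
    (h : G.full.RootAct g σ) (h' : G.full.RootAct g' σ') :
    G.full.RootAct (g * g') (σ * σ') := by
  obtain ⟨c, hc⟩ := h
  obtain ⟨d, hd⟩ := h'
  refine ⟨fun s => c (σ' s) * d s, fun s => ⟨?_, ?_, fun j => ?_, fun t => ?_⟩⟩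
  · simp only [Equiv.Perm.mul_apply, (hd s).1, (hc (σ' s)).1]
  · simp only [(hd s).1, (hd s).2.1, (hc (σ' s)).2.1, mul_inv]
  · simp only [Equiv.Perm.mul_apply, (hc (σ' s)).2.2.1 j]
    calc ∑ k : Fin D.rank, T.cor (σ' s) k * T.cor (σ (G.full.simp' k)) j
        = ∑ k : Fin D.rank, ∑ l : Fin D.rank,
            T.cor s l * T.cor (σ' (G.full.simp' l)) k * T.cor (σ (G.full.simp' k)) j := by
          simp only [(hd s).2.2.1, Finset.sum_mul]
      _ = ∑ l : Fin D.rank, T.cor s l * T.cor (σ (σ' (G.full.simp' l))) j := by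
          rw [Finset.sum_comm]
          refine Finset.sum_congr rfl fun l _ => ?_
          rw [(hc (σ' (G.full.simp' l))).2.2.1 j, Finset.mul_sum]
          simp only [mul_assoc]
  · simp only [Equiv.Perm.mul_apply, Units.val_mul, mul_assoc]
    rw [show g * (g' * (G.full.x s t * (g * g')⁻¹)) = g * (g' * G.full.x s t * g'⁻¹) * g⁻¹ by
      group, (hd s).2.2.2, (hc (σ' s)).2.2.2]

theorem rootAct_hT (c : Fin D.rank → Fˣ) : G.full.RootAct (T.hT F c) 1 := by
  refine ⟨fun s => T.chi s.val c, fun s => ⟨rfl, ?_, fun j => ?_, fun t => G.full.hT_conj s.isLt c t⟩⟩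
  · simp only [negF, chi, MonoidHom.coe_mk, OneHom.coe_mk, ← Finset.prod_inv_distrib]
    refine Finset.prod_congr rfl fun i _ => ?_
    rw [((G.full.cert.root_spec s.isLt).2.2.2.1 i i.isLt).1, _root_.zpow_neg]
  · simp [G.cor_simple]

theorem cor_reflT_linear (i : Fin D.rank) (s : Fin D.nroots) (j : Fin D.rank) :
    T.cor (G.full.refl i s) j =
      ∑ k : Fin D.rank, T.cor s k * T.cor (G.full.refl i (G.full.simp' k)) j := by
  have e : ∀ a : Fin D.nroots, T.cor (G.full.refl i a) j =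
      T.cor a j - if j = i then T.pairT a (D.simple i) else 0 := fun a => by
    show T.cor (T.reflT i a) j = _
    rw [((G.full.reflT_spec i.isLt a.isLt).2.2.2.2.1 j j.isLt).2]
    simp only [Fin.ext_iff]
  simp only [e, mul_sub, Finset.sum_sub_distrib]
  congr 1
  · simp [G.cor_simple]
  · split_ifs with hj
    · rw [pairT_eq_sum]
      refine Finset.sum_congr rfl fun k _ => ?_
      rw [show (G.full.simp' k : ℕ) = D.simple k from rfl, G.full.pairT_simple k.isLt]
    · simp

theorem rootAct_ns (i : Fin D.rank) : G.full.RootAct (G.full.ns F i) (G.full.refl i) := by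
  have hpm : ∀ s : Fin D.nroots, ((T.sgn i s : ℤ) : F) * ((T.sgn i s : ℤ) : F) = 1 := fun s => by
    rcases (G.full.reflT_spec i.isLt s.isLt).2.2.2.2.2.2.1 with h | h <;> simp [h]
  refine ⟨fun s => ⟨_, _, hpm s, hpm s⟩, fun s => ⟨Fin.ext ?_, Units.ext ?_,
    G.cor_reflT_linear i s, fun t => G.full.ns_conj i.isLt s.isLt t⟩⟩
  · exact (G.full.reflT_spec i.isLt s.isLt).2.2.1
  · simp [negF, G.full.sgn_neg_eq i.isLt s.isLt]

theorem ns_inv (i : Fin D.rank) :
    ∃ c, (G.full.ns F i)⁻¹ = T.hT F c * G.full.ns F i := by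
  refine ⟨(fun k => Units.mk0 (-1 : F) (neg_ne_zero.mpr one_ne_zero) ^ T.cor (D.simple i) k)⁻¹, ?_⟩
  rw [map_inv, ← G.full.hr_eq_hT (G.full.simple_lt i.isLt), ← G.full.ns_sq i.isLt]
  group

theorem ns_hT (i : Fin D.rank) (c : Fin D.rank → Fˣ) :
    ∃ d, G.full.ns F i * T.hT F c = T.hT F d * G.full.ns F i := by
  induction c using G.full.hT_induction with
  | h1 => exact ⟨1, by simp⟩
  | hm a b ha hb =>
    obtain ⟨a', ha'⟩ := ha
    obtain ⟨b', hb'⟩ := hb
    exact ⟨a' * b', by rw [map_mul, map_mul, ← mul_assoc, ha', mul_assoc, hb', ← mul_assoc]⟩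
  | hs k u =>
    have hp := G.full.simple_lt k.isLt
    obtain ⟨hk, -, hneg, -, -, -, hs1, -⟩ := G.full.reflT_spec i.isLt hp
    obtain ⟨d, hd⟩ := G.full.hr_mem hk u.ne_zero
    refine ⟨d, ?_⟩
    rw [hd, G.full.hT_single]
    refine mul_inv_eq_iff_eq_mul.mp (G.full.hr_of_conj (G.full.ns F i)
      (η := (T.sgn i (D.simple k) : F)) ?_ (G.full.ns_conj i.isLt hp)
      (fun v => by rw [G.full.ns_conj i.isLt (Cert.negR_lt hp), G.full.sgn_neg_eq i.isLt hp, hneg])
      (fun v hv => ?_) u.ne_zero)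
    · rcases hs1 with h | h <;> rw [h] <;> simp
    · rw [G.full.hr_mul hp hv (neg_ne_zero.mpr one_ne_zero), mul_neg, mul_one]

theorem nw_cons (i : Fin D.rank) (L : List (Fin D.rank)) :
    G.full.nw F (i :: L) = G.full.ns F i * G.full.nw F L := rfl

theorem nw_append (L L' : List (Fin D.rank)) :
    G.full.nw F (L ++ L') = G.full.nw F L * G.full.nw F L' := by
  simp [Full.nw]

theorem nw_hT : ∀ (L : List (Fin D.rank)) (c : Fin D.rank → Fˣ),
    ∃ d, G.full.nw F L * T.hT F c = T.hT F d * G.full.nw F L := by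
  intro L
  induction L with
  | nil => intro c; exact ⟨c, by simp [Full.nw]⟩
  | cons i L ih =>
    intro c
    obtain ⟨d, hd⟩ := ih c
    obtain ⟨e, he⟩ := G.ns_hT (F := F) i d
    exact ⟨e, by rw [G.nw_cons, mul_assoc, hd, ← mul_assoc, he, mul_assoc]⟩

theorem rootAct_nw (L : List (Fin D.rank)) : G.full.RootAct (G.full.nw F L) (G.full.pw L) := by
  induction L with
  | nil => exact G.rootAct_one
  | cons i L ih => exact G.rootAct_mul (G.rootAct_ns i) ih

theorem ns_mem_monomial (i : Fin D.rank) : G.full.ns F i ∈ D.monomialSubgroup F :=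
  Subgroup.mem_sup_right (Subgroup.subset_closure
    ⟨D.simple i, G.full.simple_lt i.isLt, G.full.coe_nr _ (G.full.simple_lt i.isLt) 1⟩)

theorem hT_mem_monomial (c : Fin D.rank → Fˣ) : T.hT F c ∈ D.monomialSubgroup F :=
  Subgroup.mem_sup_left (by rw [G.full.diagonal_eq_range]; exact ⟨c, rfl⟩)

theorem nw_mem_monomial (L : List (Fin D.rank)) : G.full.nw F L ∈ D.monomialSubgroup F := by
  refine list_prod_mem fun g hg => ?_
  obtain ⟨i, -, rfl⟩ := List.mem_map.mp hg
  exact G.ns_mem_monomial i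

theorem exists_of_mem_closure_ns {g : GL D.Idx F}
    (hg : g ∈ Subgroup.closure {g : GL D.Idx F | ∃ i < D.rank, g = G.full.ns F i}) :
    ∃ c L, g = T.hT F c * G.full.nw F L := by
  induction hg using Subgroup.closure_induction'' with
  | mem g hg =>
    obtain ⟨i, hi, rfl⟩ := hg
    exact ⟨1, [⟨i, hi⟩], by simp [Full.nw]⟩
  | inv_mem g hg =>
    obtain ⟨i, hi, rfl⟩ := hg
    obtain ⟨c, hc⟩ := G.ns_inv (F := F) ⟨i, hi⟩
    exact ⟨c, [⟨i, hi⟩], by simpa [Full.nw] using hc⟩
  | one => exact ⟨1, [], by simp [Full.nw]⟩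
  | mul a b _ _ ha hb =>
    obtain ⟨c, L, rfl⟩ := ha
    obtain ⟨d, L', rfl⟩ := hb
    obtain ⟨e, he⟩ := G.nw_hT L d
    refine ⟨c * e, L ++ L', ?_⟩
    rw [map_mul, G.nw_append, mul_assoc, ← mul_assoc (G.full.nw F L), he]
    simp only [mul_assoc]

theorem nr_one_mem {r : ℕ} (hr : r < D.nroots) :
    G.full.nr r (1 : F) ∈
      Subgroup.closure {g : GL D.Idx F | ∃ i < D.rank, g = G.full.ns F i} := by
  obtain ⟨g, hg, j, hj, η, hη, h1, h2, -⟩ := G.full.exists_conj (F := F) hr
  have hns : G.full.ns F j ∈ Subgroup.closure {g : GL D.Idx F | ∃ i < D.rank, g = G.full.ns F i} :=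
    Subgroup.subset_closure ⟨j, hj, rfl⟩
  have e : g * G.full.ns F j * g⁻¹ = G.full.nr r η := by
    have hinv : η * -(1 : F)⁻¹ = -η⁻¹ := by
      rw [inv_one, mul_neg, mul_one, inv_eq_of_mul_eq_one_right hη]
    have e1 := h1 1
    have e2 := h2 (-(1 : F)⁻¹)
    rw [mul_one] at e1
    rw [hinv] at e2
    rw [Full.nr, ← e1, ← e2, Full.ns, Full.nr]
    group
  rcases mul_self_eq_one_iff.mp hη with h | h <;> subst h
  · exact e ▸ mul_mem (mul_mem hg hns) (inv_mem hg)
  · have h3 := inv_mem (mul_mem (mul_mem hg hns) (inv_mem hg))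
    rwa [e, G.full.nr_inv, neg_neg] at h3

theorem exists_word {g : GL D.Idx F} (hg : g ∈ D.monomialSubgroup F) :
    ∃ c L, g = T.hT F c * G.full.nw F L := by
  let NS := Subgroup.closure {g : GL D.Idx F | ∃ i < D.rank, g = G.full.ns F i}
  have hnw : ∀ L, G.full.nw F L ∈ NS := fun L => list_prod_mem fun a ha => by
    obtain ⟨i, -, rfl⟩ := List.mem_map.mp ha
    exact Subgroup.subset_closure ⟨i.val, i.isLt, rfl⟩
  let M : Subgroup (GL D.Idx F) :=
    { carrier := {g | ∃ c L, g = T.hT F c * G.full.nw F L}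
      one_mem' := ⟨1, [], by simp [Full.nw]⟩
      mul_mem' := by
        rintro _ _ ⟨c, L, rfl⟩ ⟨d, L', rfl⟩
        obtain ⟨e, he⟩ := G.nw_hT L d
        refine ⟨c * e, L ++ L', ?_⟩
        rw [map_mul, G.nw_append, mul_assoc, ← mul_assoc (G.full.nw F L), he]
        simp only [mul_assoc]
      inv_mem' := by
        rintro _ ⟨c, L, rfl⟩
        obtain ⟨e, L', hL'⟩ := G.exists_of_mem_closure_ns (inv_mem (hnw L))
        obtain ⟨f, hf⟩ := G.nw_hT L' c⁻¹
        refine ⟨e * f, L', ?_⟩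
        rw [_root_.mul_inv_rev, hL', ← map_inv, map_mul, mul_assoc, hf, mul_assoc] }
  have hle : D.monomialSubgroup F ≤ M := by
    refine sup_le (fun a ha => ?_) ?_
    · rw [G.full.diagonal_eq_range] at ha
      obtain ⟨c, rfl⟩ := ha
      exact ⟨c, [], by simp [Full.nw]⟩
    · rw [Subgroup.closure_le]
      rintro a ⟨r, hr, ha⟩
      rw [← G.full.coe_nr r hr] at ha
      obtain rfl := Units.ext ha
      exact G.exists_of_mem_closure_ns (G.nr_one_mem hr)
  exact hle hg

theorem exists_rootAct {g : GL D.Idx F} (hg : g ∈ D.monomialSubgroup F) :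
    ∃ L, G.full.RootAct g (G.full.pw L) := by
  obtain ⟨c, L, rfl⟩ := G.exists_word hg
  exact ⟨L, by simpa using G.rootAct_mul (G.rootAct_hT c) (G.rootAct_nw L)⟩

theorem pos_negF {s : Fin D.nroots} : IsPos D (negF s).val ↔ ¬ IsPos D s.val := by
  have he := G.full.cert.even
  have := s.isLt
  simp only [IsPos, negF, negR_eq]
  omega

theorem pos_simp (i : Fin D.rank) : IsPos D (G.full.simp' i).val := by
  refine ⟨(G.full.simp' i).isLt, ?_⟩
  by_contra h
  have h2 := (G.cor_sign (G.full.simple_lt i.isLt) i.isLt).2 h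
  rw [G.cor_simple i i |> fun e => (e : T.cor (D.simple i) i = _)] at h2
  simp at h2

theorem refl_pos (i : Fin D.rank) {s : Fin D.nroots} (hs : IsPos D s.val)
    (hne : s ≠ G.full.simp' i) :
    IsPos D (G.full.refl i s).val ∧ G.full.refl i s ≠ G.full.simp' i := by
  obtain ⟨hk, hinv, -, -, -, -, -, -, -, h10⟩ := G.full.reflT_spec i.isLt s.isLt
  have hsn : s.val ≠ negR D (D.simple i) := fun e => by
    have h := G.negR_pos (G.pos_simp i)
    exact h (e ▸ hs.2)
  have h := h10 (fun e => hne (Fin.ext e)) hsn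
  refine ⟨⟨hk, (G.full.cert.root_spec hk).2.1.mp
    (h.mp ((G.full.cert.root_spec s.isLt).2.1.mpr hs.2))⟩, fun e => hsn ?_⟩
  have e' : T.reflT i s = D.simple i := congrArg Fin.val e
  rw [← hinv, e', G.full.simple_reflect i.isLt]

theorem refl_simp (i : Fin D.rank) : G.full.refl i (G.full.simp' i) = negF (G.full.simp' i) :=
  Fin.ext (G.full.simple_reflect i.isLt)

theorem pw_cons (i : Fin D.rank) (L : List (Fin D.rank)) :
    G.full.pw (i :: L) = G.full.refl i * G.full.pw L := rfl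

theorem pw_append (L L' : List (Fin D.rank)) :
    G.full.pw (L ++ L') = G.full.pw L * G.full.pw L' := by simp [Full.pw]

theorem hr_simple_mem (i : Fin D.rank) {t : F} (ht : t ≠ 0) :
    ∃ d, G.full.hr (D.simple i) t = T.hT F d :=
  ⟨_, G.full.hr_eq_hT (G.full.simple_lt i.isLt) ht⟩

/-- Deletion. -/
theorem deletion : ∀ (L : List (Fin D.rank)) (i : Fin D.rank),
    ¬ IsPos D (G.full.pw L (G.full.simp' i)).val →
    ∃ L' : List (Fin D.rank), L'.length + 1 = L.length ∧
      ∃ c, G.full.nw F L * G.full.ns F i = T.hT F c * G.full.nw F L' := by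
  intro L
  induction L with
  | nil => intro i h; exact absurd (G.pos_simp i) h
  | cons k L ih =>
    intro i h
    by_cases hp : IsPos D (G.full.pw L (G.full.simp' i)).val
    · have hs : G.full.pw L (G.full.simp' i) = G.full.simp' k := by
        by_contra hne
        exact h (by rw [G.pw_cons]; exact (G.refl_pos k hp hne).1)
      obtain ⟨c, hc⟩ := G.rootAct_nw (F := F) L
      set s := G.full.simp' i
      set v := G.full.nw F L
      have h1 := (hc s).2.2.2 1
      have h2 := (hc (negF s)).2.2.2 (-(1 : F)⁻¹)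
      rw [hs, mul_one] at h1
      rw [(hc s).1, hs, (hc s).2.1] at h2
      have e : v * G.full.ns F i * v⁻¹ = G.full.nr (D.simple k) (c s : F) := by
        have e3 : (((c s)⁻¹ : Fˣ) : F) * -(1 : F)⁻¹ = -(c s : F)⁻¹ := by simp
        rw [e3] at h2
        have h1' : v * G.full.x (D.simple i) 1 * v⁻¹ = G.full.x (D.simple k) (c s : F) := h1
        have h2' : v * G.full.x (negR D (D.simple i)) (-(1 : F)⁻¹) * v⁻¹ =
            G.full.x (negR D (D.simple k)) (-(c s : F)⁻¹) := h2
        rw [Full.nr, ← h1', ← h2', Full.ns, Full.nr]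
        group
      rw [G.full.nr_simple_eq k.isLt] at e
      obtain ⟨d1, hd1⟩ := G.hr_simple_mem k (c s).ne_zero
      obtain ⟨d2, hd2⟩ := G.hr_simple_mem k (neg_ne_zero.mpr (one_ne_zero (α := F)))
      obtain ⟨d3, hd3⟩ := G.ns_hT (F := F) k d1
      refine ⟨L, by simp, d3 * d2, ?_⟩
      rw [hd1, mul_inv_eq_iff_eq_mul] at e
      rw [G.nw_cons, mul_assoc, e, map_mul, ← hd2, ← G.full.ns_sq k.isLt]
      simp only [mul_assoc]
      rw [← mul_assoc (G.full.ns F k), hd3]
      simp only [mul_assoc, v]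
    · obtain ⟨L', hlen, c, hc⟩ := ih i hp
      obtain ⟨d, hd⟩ := G.ns_hT (F := F) k c
      refine ⟨k :: L', by simp [hlen], d, ?_⟩
      rw [G.nw_cons, mul_assoc, hc, ← mul_assoc, hd, mul_assoc, ← G.nw_cons]

theorem pw_eq_of_nw {c : Fin D.rank → Fˣ} {L L' : List (Fin D.rank)}
    (h : G.full.nw F L = T.hT F c * G.full.nw F L') : G.full.pw L = G.full.pw L' := by
  have h' := G.rootAct_mul (G.rootAct_hT c) (G.rootAct_nw (F := F) L')
  rw [← h, one_mul] at h'
  exact G.rootAct_unique (G.rootAct_nw L) h'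

/-- An element fixing the set of positive roots lies in the torus. -/
theorem nw_mem_torus : ∀ (n : ℕ) (L : List (Fin D.rank)), L.length = n →
    (∀ s, IsPos D s.val → IsPos D (G.full.pw L s).val) →
    ∃ c, G.full.nw F L = T.hT F c := by
  intro n
  induction n using Nat.strong_induction_on with
  | _ n ih =>
    intro L hn hpos
    rcases List.eq_nil_or_concat L with rfl | ⟨M, i, rfl⟩
    · exact ⟨1, by simp [Full.nw]⟩
    have hneg : ¬ IsPos D (G.full.pw M (G.full.simp' i)).val := by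
      have h := hpos _ (G.pos_simp i)
      obtain ⟨c, hc⟩ := G.rootAct_nw (F := F) M
      rw [List.concat_eq_append, G.pw_append, Equiv.Perm.mul_apply,
        show G.full.pw [i] = G.full.refl i by simp [Full.pw], G.refl_simp, (hc _).1,
        G.pos_negF] at h
      exact h
    obtain ⟨L', hlen, c, hc⟩ := G.deletion (F := F) M i hneg
    have e : G.full.nw F (M.concat i) = T.hT F c * G.full.nw F L' := by
      rw [List.concat_eq_append, G.nw_append, show G.full.nw F [i] = G.full.ns F i by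
        simp [Full.nw]]
      exact hc
    have hpw := G.pw_eq_of_nw e
    obtain ⟨d, hd⟩ := ih L'.length (by simp at hn; omega) L' rfl (by rw [← hpw]; exact hpos)
    exact ⟨c * d, by rw [e, hd, map_mul]⟩

theorem mem_diagonal_of_pos {g : GL D.Idx F} (hg : g ∈ D.monomialSubgroup F)
    {σ : Equiv.Perm (Fin D.nroots)} (hσ : G.full.RootAct g σ)
    (hpos : ∀ s, IsPos D s.val → IsPos D (σ s).val) : g ∈ D.diagonalSubgroup F := by
  obtain ⟨c, L, rfl⟩ := G.exists_word hg
  have e := G.rootAct_unique hσ (G.rootAct_mul (G.rootAct_hT c) (G.rootAct_nw L))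
  rw [one_mul] at e
  subst e
  obtain ⟨d, hd⟩ := G.nw_mem_torus (F := F) _ L rfl hpos
  rw [G.full.diagonal_eq_range, hd, ← map_mul]
  exact ⟨_, rfl⟩

theorem inv_mul_refl {L : List (Fin D.rank)} {i : Fin D.rank}
    (h : IsPos D (G.full.pw L (G.full.simp' i)).val) :
    (invSet (G.full.pw L)).card < (invSet (G.full.pw (L ++ [i]))).card := by
  classical
  have hneg : ∀ s, G.full.pw L (negF s) = negF (G.full.pw L s) := by
    obtain ⟨c, hc⟩ := G.rootAct_nw (F := ℚ) L
    exact fun s => (hc s).1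
  have hpw : ∀ s, G.full.pw (L ++ [i]) s = G.full.pw L (G.full.refl i s) := fun s => by
    rw [G.pw_append, Equiv.Perm.mul_apply]; simp [Full.pw]
  have hne : ∀ s ∈ invSet (G.full.pw L), s ≠ G.full.simp' i := fun s hs e =>
    (mem_inv.mp hs).2 (e ▸ h)
  have himg : (invSet (G.full.pw L)).map (G.full.refl i).toEmbedding ⊂
      invSet (G.full.pw (L ++ [i])) := by
    rw [Finset.ssubset_iff_of_subset]
    · refine ⟨G.full.simp' i, mem_inv.mpr ⟨G.pos_simp i, ?_⟩, fun hm => ?_⟩
      · rw [hpw, G.refl_simp, hneg, G.pos_negF, not_not]; exact h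
      · obtain ⟨a, ha, e⟩ := Finset.mem_map.mp hm
        exact (G.refl_pos i (mem_inv.mp ha).1 (hne a ha)).2 e
    · intro s hs
      obtain ⟨a, ha, rfl⟩ := Finset.mem_map.mp hs
      obtain ⟨h1, h2⟩ := mem_inv.mp ha
      refine mem_inv.mpr ⟨(G.refl_pos i h1 (hne a ha)).1, ?_⟩
      rw [hpw]
      show ¬ IsPos D (G.full.pw L (G.full.refl i (G.full.refl i a))).val
      rwa [show G.full.refl i (G.full.refl i a) = a from
        Fin.ext (G.full.reflT_spec i.isLt a.isLt).2.1]
  have := Finset.card_lt_card himg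
  rwa [Finset.card_map] at this

/-- The longest element. -/
theorem exists_longest : ∃ L, ∀ s, IsPos D s.val → ¬ IsPos D (G.full.pw L s).val := by
  by_contra hc
  simp only [not_exists, not_forall, not_not] at hc
  have key : ∀ n : ℕ, ∃ L, n ≤ (invSet (G.full.pw L)).card := by
    intro n
    induction n with
    | zero => exact ⟨[], Nat.zero_le _⟩
    | succ n ih =>
      obtain ⟨L, hL⟩ := ih
      obtain ⟨s, hs, hs'⟩ := hc L
      obtain ⟨i, hi⟩ : ∃ i, IsPos D (G.full.pw L (G.full.simp' i)).val := by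
        by_contra hall
        simp only [not_exists] at hall
        obtain ⟨c, hcc⟩ := G.rootAct_nw (F := ℚ) L
        obtain ⟨j, hj⟩ := G.exists_cor_ne_zero (F := ℚ) (G.full.pw L s).isLt
        refine hj ?_
        have hle : T.cor (G.full.pw L s) j ≤ 0 := by
          rw [(hcc s).2.2.1 j]
          refine Finset.sum_nonpos fun k _ => mul_nonpos_of_nonneg_of_nonpos
            ((G.cor_sign s.isLt k.isLt).1 hs.2) ?_
          exact (G.cor_sign (Fin.isLt _) j.isLt).2 fun h => hall k ⟨Fin.isLt _, h⟩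
        rw [le_antisymm hle ((G.cor_sign (G.full.pw L s).isLt j.isLt).1 hs'.2)]
        simp
      exact ⟨L ++ [i], by have := G.inv_mul_refl hi; omega⟩
  obtain ⟨L, hL⟩ := key (D.nroots + 1)
  have := Finset.card_le_univ (invSet (G.full.pw L))
  simp at this
  omega

theorem mono_x_simple (i : Fin D.rank) :
    Mono ((G.full.ns F i : GL D.Idx F) : Matrix D.Idx D.Idx F) := by
  have e : ((G.full.ns F i : GL D.Idx F) : Matrix D.Idx D.Idx F) = T.NX i.val (1 : Fˣ) := by
    rw [Full.ns, ← G.full.coe_nr_simple i.isLt, Units.val_one]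
  rw [e]
  constructor
  · intro s
    obtain ⟨hk, -⟩ := G.full.reflT_spec i.isLt s.isLt
    refine ⟨⟨_, hk⟩, fun x hx => ?_⟩
    rw [G.full.NX_root i.isLt, if_neg]
    exact fun h => hx (code_injective (h.trans (code_inr (D := D) ⟨_, hk⟩).symm))
  · intro j s
    rw [G.full.NX_h i.isLt]
    have : s.val ≠ D.nroots + i := by omega
    simp [code_inr, this]

theorem mono_hT (c : Fin D.rank → Fˣ) :
    Mono ((T.hT F c : GL D.Idx F) : Matrix D.Idx D.Idx F) := by
  rw [T.coe_hT]
  exact ⟨fun s => ⟨s, fun x hx => Matrix.diagonal_apply_ne _ hx⟩,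
    fun j s => Matrix.diagonal_apply_ne _ (by simp)⟩

theorem mono_of_mem {g : GL D.Idx F} (hg : g ∈ D.monomialSubgroup F) :
    Mono (g : Matrix D.Idx D.Idx F) := by
  obtain ⟨c, L, rfl⟩ := G.exists_word hg
  rw [Units.val_mul]
  refine (G.mono_hT c).mul ?_
  clear hg
  induction L with
  | nil =>
    simp only [Full.nw, List.map_nil, List.prod_nil, Units.val_one]
    exact ⟨fun s => ⟨s, fun x hx => Matrix.one_apply_ne hx⟩,
      fun j s => Matrix.one_apply_ne (by simp)⟩
  | cons i L ih =>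
    rw [G.nw_cons, Units.val_mul]
    exact (G.mono_x_simple i).mul ih

theorem eq_one_of_mono_grUni {σ : ℤ} {g : GL D.Idx F}
    (hm : Mono (g : Matrix D.Idx D.Idx F)) (hg : T.GrUni σ (g : Matrix D.Idx D.Idx F)) : g = 1 := by
  apply Units.ext
  rw [Units.val_one]
  ext x y
  rcases y with j | s
  · rcases x with j' | s
    · exact hg _ _ (by rw [code_inl, code_inl, T.gr_h (Nat.le_add_right _ _), T.gr_h (Nat.le_add_right _ _)])
    · rw [hm.2 j s, Matrix.one_apply_ne (by simp)]
  · obtain ⟨k, hk⟩ := hm.1 s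
    have hks : k = s := by
      by_contra hne
      have h1 := hg (Sum.inr s) (Sum.inr s) le_rfl
      rw [hk _ (by simpa using Ne.symm hne), Matrix.one_apply_eq] at h1
      exact zero_ne_one h1
    subst hks
    rcases eq_or_ne x (Sum.inr k) with h | h
    · subst h; exact hg _ _ le_rfl
    · rw [hk x h, Matrix.one_apply_ne h]

theorem pos_inf_monomial : D.posUnipotent F ⊓ D.monomialSubgroup F = ⊥ := by
  rw [eq_bot_iff]
  rintro g ⟨hu, hn⟩
  exact G.eq_one_of_mono_grUni (G.mono_of_mem hn) (G.grUni_pos hu)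

theorem diagonal_le_monomial : D.diagonalSubgroup F ≤ D.monomialSubgroup F := le_sup_left

theorem borel_inf_monomial :
    D.borelSubgroup F ⊓ D.monomialSubgroup F = D.diagonalSubgroup F := by
  refine le_antisymm ?_ (le_inf le_sup_right le_sup_left)
  rintro g ⟨hb, hn⟩
  obtain ⟨u, hu, c, rfl⟩ := G.mem_borel.mp hb
  have hu' : u ∈ D.monomialSubgroup F := by
    have hn' : u * T.hT F c ∈ D.monomialSubgroup F := hn
    have := mul_mem hn' (inv_mem (G.hT_mem_monomial c))
    simpa using this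
  have : u ∈ D.posUnipotent F ⊓ D.monomialSubgroup F := ⟨hu, hu'⟩
  rw [G.pos_inf_monomial, Subgroup.mem_bot] at this
  rw [this, one_mul, G.full.diagonal_eq_range]
  exact ⟨c, rfl⟩

theorem diagonal_normal :
    ((D.diagonalSubgroup F).subgroupOf (D.monomialSubgroup F)).Normal := by
  refine ⟨fun a ha n => ?_⟩
  rw [Subgroup.mem_subgroupOf, G.full.diagonal_eq_range] at ha ⊢
  obtain ⟨e, he⟩ := ha
  obtain ⟨c, L, hn⟩ := G.exists_word n.2
  obtain ⟨d, hd⟩ := G.nw_hT L e
  refine ⟨c * d * c⁻¹, ?_⟩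
  show _ = (n : GL D.Idx F) * (a : GL D.Idx F) * (n : GL D.Idx F)⁻¹
  rw [← he, hn, show T.hT F c * G.full.nw F L * T.hT F e * (T.hT F c * G.full.nw F L)⁻¹ =
    T.hT F c * (G.full.nw F L * T.hT F e * (G.full.nw F L)⁻¹) * (T.hT F c)⁻¹ by group, hd,
    mul_inv_cancel_right, map_mul, map_mul, map_inv]

end Good

end Tab

end CfsgLib.Chev
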