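import Cfsg.Agent.Chev.CoxeterFast

/-!
Words for all elements of a Weyl group, from transversals along orbits of fundamental weights.
-/

set_option autoImplicit false
set_option linter.style.haveILetI false

namespace CfsgLib.Chev

open Cfsg.Lie

/-- The words of an orbit, built from a list of (reflection, index of the word extended). -/
def orbWords (par : List (ℕ × ℕ)) : List (List ℕ) :=
  par.foldl (fun O p => O ++ [p.1 :: O.getD p.2 []]) [[]]

/-- The concatenations of one word from each transversal. -/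
def wordsOf : List (ℕ × List (List ℕ)) → List (List ℕ)
  | [] => [[]]
  | l :: ls => l.2.flatMap fun w => (wordsOf ls).map (w ++ ·)

namespace Tab

variable {D : ChevalleyDatum}

/-- The image of a fundamental weight under a word. -/
def imgW (T : Tab D) (k : ℕ) (w : List ℕ) : List ℤ := w.foldr T.refW (fundW D k)

/-- The words cover the orbit of the `k`-th fundamental weight. -/
def chkWords (T : Tab D) (J : List ℕ) (k : ℕ) (W : List (List ℕ)) : Bool :=
  Nat.blt k D.rank && W.contains [] && (W.all fun w => w.all fun i => J.contains i) &&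
    W.all fun w => J.all fun j =>
      W.any fun w' => decide (T.imgW k w' = T.refW j (T.imgW k w))

/-- All levels. -/
def chkWordsChain (T : Tab D) : List ℕ → List (ℕ × List (List ℕ)) → Bool
  | J, [] => J.isEmpty
  | J, l :: ls => T.chkWords J l.1 l.2 &&
      chkWordsChain T (J.filter fun j => !(Nat.beq j l.1)) ls

namespace Good

variable {T : Tab D} (G : T.Good)
include G

theorem wl_pw_of_letters (k : Fin D.rank) {J : List ℕ} :
    ∀ L : List (Fin D.rank), (∀ j ∈ L, j.val ∈ J) →
      G.full.pw L ∈ G.full.WJ J ∧ G.full.wl k.val (G.full.pw L) = T.imgW k.val (L.map Fin.val) := by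
  intro L
  induction L with
  | nil => exact fun _ => ⟨one_mem _,
      (G.wl_eq_fund_iff (J := J) k (one_mem _)).mpr (one_mem _)⟩
  | cons i L ih =>
    intro hL
    obtain ⟨hm, he⟩ := ih fun a ha => hL a (List.mem_cons_of_mem _ ha)
    rw [G.pw_cons]
    refine ⟨mul_mem (G.refl_mem (hL i (List.mem_cons_self ..))) hm, ?_⟩
    rw [G.wl_mul_refl k hm, he]
    rfl

omit G in
/-- A list of small numbers is a list over `Fin`. -/
theorem exists_fin_list : ∀ w : List ℕ, (∀ i ∈ w, i < D.rank) →
    ∃ L : List (Fin D.rank), L.map Fin.val = w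
  | [], _ => ⟨[], rfl⟩
  | i :: w, h => by
    obtain ⟨L, hL⟩ := exists_fin_list w fun a ha => h a (List.mem_cons_of_mem _ ha)
    exact ⟨⟨i, h i (List.mem_cons_self ..)⟩ :: L, by rw [List.map_cons, hL]⟩

/-- Every element is the product of the words of the transversals. -/
theorem exists_mem_wordsOf : ∀ (ls : List (ℕ × List (List ℕ))) (J : List ℕ),
    (∀ j ∈ J, j < D.rank) → T.chkWordsChain J ls = true → ∀ σ ∈ G.full.WJ J,
      ∃ L : List (Fin D.rank), L.map Fin.val ∈ wordsOf ls ∧ G.full.pw L = σ := by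
  intro ls
  induction ls with
  | nil =>
    intro J _ hchk σ hσ
    simp only [chkWordsChain, List.isEmpty_iff] at hchk
    subst hchk
    refine ⟨[], List.mem_singleton.mpr rfl, ?_⟩
    obtain ⟨L, hL, rfl⟩ := G.exists_word_WJ hσ
    rcases L with _ | ⟨i, L⟩
    · rfl
    · exact absurd (hL i (List.mem_cons_self ..)) List.not_mem_nil
  | cons l ls ih =>
    intro J hJ hchk σ hσ
    obtain ⟨k, W⟩ := l
    simp only [chkWordsChain, chkWords, Bool.and_eq_true, Nat.blt_eq, List.all_eq_true,
      List.any_eq_true, List.contains_iff_mem, decide_eq_true_eq] at hchk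
    obtain ⟨⟨⟨⟨hk, hnil⟩, hlet⟩, hclosed⟩, hrest⟩ := hchk
    -- the orbit is covered
    have hcover : ∃ w ∈ W, T.imgW k w = G.full.wl k σ := by
      obtain ⟨L, hL, rfl⟩ := G.exists_word_WJ hσ
      rw [(G.wl_pw_of_letters ⟨k, hk⟩ L hL).2]
      clear hσ
      induction L with
      | nil => exact ⟨[], hnil, rfl⟩
      | cons i L ih' =>
        obtain ⟨w, hw, e⟩ := ih' fun a ha => hL a (List.mem_cons_of_mem _ ha)
        obtain ⟨w', hw', e'⟩ := hclosed w hw i.val (hL i (List.mem_cons_self ..))
        refine ⟨w', hw', ?_⟩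
        rw [e', e]
        rfl
    obtain ⟨w, hw, hwe⟩ := hcover
    obtain ⟨L1, hL1⟩ := exists_fin_list (D := D) w fun i hi => hJ i (hlet w hw i hi)
    obtain ⟨hm, he⟩ := G.wl_pw_of_letters ⟨k, hk⟩ (J := J) L1 fun j hj =>
      hlet w hw j.val (hL1 ▸ List.mem_map_of_mem hj)
    rw [hL1, hwe] at he
    -- the quotient fixes the weight
    have hfix : (G.full.pw L1)⁻¹ * σ ∈ G.full.WJ (J.filter fun j => !(Nat.beq j k)) := by
      refine (G.wl_eq_fund_iff (J := J) ⟨k, hk⟩ (mul_mem (inv_mem hm) hσ)).mp ?_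
      refine List.map_congr_left fun i hi => ?_
      rw [List.mem_range] at hi
      simp only [hi, dif_pos]
      rw [show ((G.full.pw L1)⁻¹ * σ).symm (G.full.simp' ⟨i, hi⟩) =
          σ.symm (G.full.pw L1 (G.full.simp' ⟨i, hi⟩)) from rfl,
        G.cor_symm_eq_dot hσ ⟨k, hk⟩, ← he, ← G.cor_symm_eq_dot hm ⟨k, hk⟩,
        Equiv.symm_apply_apply, G.cor_simple]
      rcases eq_or_ne i k with rfl | hik
      · simp
      · simp [Tab.beq_false hik, Fin.ext_iff, hik.symm]
    obtain ⟨L2, hL2, e2⟩ := ih _ (fun j hj => hJ j (List.mem_filter.mp hj).1) hrest _ hfix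
    refine ⟨L1 ++ L2, ?_, by rw [G.pw_append, e2, mul_inv_cancel_left]⟩
    rw [List.map_append, hL1]
    exact List.mem_flatMap.mpr ⟨w, hw, List.mem_map_of_mem hL2⟩

end Good

end Tab

end CfsgLib.Chev
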